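/-
Sylow subgroups of transitive groups and the resulting fixed-point-free elements of prime order.
-/
import Mathlib

namespace CfsgLib.Geo

open MulAction

/-- In a transitive group the orbits of a Sylow p-subgroup have length divisible by the full p-part of the degree. -/
theorem sylow_orbit_dvd {G Ω : Type*} [Group G] [Finite G] [MulAction G Ω] [IsPretransitive G Ω]
    {p k : ℕ} [Fact p.Prime] (P : Sylow p G) (hk : p ^ k ∣ Nat.card Ω) (a : Ω) :
    p ^ k ∣ Nat.card (orbit (P : Subgroup G) a) := by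
  have h1 : (stabilizer G a).index = Nat.card Ω := index_stabilizer_of_transitive G a
  have h2 : ((stabilizer (P : Subgroup G) a).map (P : Subgroup G).subtype) ≤ stabilizer G a := by
    rintro x ⟨y, hy, rfl⟩
    exact mem_stabilizer_iff.2 (mem_stabilizer_iff.1 hy)
  have h3 := Subgroup.index_dvd_of_le h2
  have h4 : ((stabilizer (P : Subgroup G) a).map (P : Subgroup G).subtype).index
      = (stabilizer (P : Subgroup G) a).index * (P : Subgroup G).index := Subgroup.index_map_subtype _
  rw [h1, h4] at h3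
  have h5 : Nat.card (orbit (P : Subgroup G) a) = (stabilizer (P : Subgroup G) a).index := by
    rw [index_stabilizer, Nat.card_coe_set_eq]
  rw [h5]
  have hcop : Nat.Coprime (p ^ k) (P : Subgroup G).index :=
    Nat.Coprime.pow_left k ((Nat.Prime.coprime_iff_not_dvd Fact.out).2 P.not_dvd_index)
  exact hcop.dvd_of_dvd_mul_right (hk.trans h3)

/-- A Sylow p-subgroup of a transitive group of degree a power of p is transitive. -/
theorem sylow_isPretransitive {G Ω : Type*} [Group G] [Finite G] [MulAction G Ω] [IsPretransitive G Ω] [Finite Ω]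
    {p k : ℕ} [Fact p.Prime] (P : Sylow p G) (hk : Nat.card Ω = p ^ k) :
    IsPretransitive (P : Subgroup G) Ω := by
  refine ⟨fun a b => ?_⟩
  have h := sylow_orbit_dvd (k := k) P (dvd_of_eq hk.symm) a
  have hle : Nat.card Ω ≤ Nat.card (orbit (P : Subgroup G) a) := by
    rw [hk]
    exact Nat.le_of_dvd (Nat.card_pos_iff.2 ⟨⟨⟨a, mem_orbit_self a⟩⟩, inferInstance⟩) h
  have := Set.eq_of_subset_of_ncard_le (Set.subset_univ (orbit (P : Subgroup G) a)) (by
    rw [Set.ncard_univ]; exact hle) (Set.toFinite _)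
  exact (this.ge (Set.mem_univ b) : b ∈ orbit (P : Subgroup G) a)

/-- A faithful transitive group of prime-power degree has a fixed-point-free element of order p. -/
theorem exists_derangement_orderOf_eq {G Ω : Type*} [Group G] [Finite G] [MulAction G Ω] [FaithfulSMul G Ω]
    [IsPretransitive G Ω] [Finite Ω] {p k : ℕ} [Fact p.Prime] (hk : 1 ≤ k) (hΩ : Nat.card Ω = p ^ k) :
    ∃ g : G, orderOf g = p ∧ ∀ ω : Ω, g • ω ≠ ω := by
  obtain ⟨P⟩ : Nonempty (Sylow p G) := inferInstance
  have := sylow_isPretransitive P hΩ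
  have hpos : Nonempty Ω := (Nat.card_pos_iff.1 (hΩ ▸ pow_pos (Fact.out : p.Prime).pos k)).1
  obtain ⟨a⟩ := hpos
  have hp2 : 1 < Nat.card Ω := hΩ ▸ Nat.one_lt_pow (by omega) (Fact.out : p.Prime).one_lt
  obtain ⟨b, hb⟩ : ∃ b, b ≠ a := by
    haveI := Finite.one_lt_card_iff_nontrivial.1 hp2
    exact exists_ne a
  have hne : Nontrivial (P : Subgroup G) := by
    obtain ⟨g, hg⟩ := exists_smul_eq (P : Subgroup G) a b
    exact ⟨⟨g, 1, fun h => hb (by rw [← hg, h, one_smul])⟩⟩
  have hZ := P.isPGroup'.center_nontrivial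
  obtain ⟨z, hz1⟩ := exists_ne (1 : Subgroup.center (P : Subgroup G))
  obtain ⟨m, hm⟩ := (P.isPGroup'.to_subgroup (Subgroup.center _)) z
  obtain ⟨i, -, hi⟩ := (Nat.dvd_prime_pow (Fact.out : p.Prime)).1 (orderOf_dvd_of_pow_eq_one hm)
  have hi0 : i ≠ 0 := by
    intro h
    rw [h, pow_zero, orderOf_eq_one_iff] at hi
    exact hz1 hi
  let w : G := (((z ^ (p ^ (i - 1))) : Subgroup.center (P : Subgroup G)) : (P : Subgroup G))
  have hw : orderOf w = p := by
    simp only [w]
    rw [Subgroup.orderOf_coe, Subgroup.orderOf_coe, orderOf_pow' _ (pow_ne_zero _ (Fact.out : p.Prime).ne_zero),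
      hi, Nat.gcd_eq_right (pow_dvd_pow p (Nat.sub_le _ _)),
      Nat.pow_div (Nat.sub_le _ _) (Fact.out : p.Prime).pos]
    conv_rhs => rw [← pow_one p]
    congr 1
    omega
  refine ⟨w, hw, fun ω hω => ?_⟩
  have hw1 : w = 1 := by
    refine FaithfulSMul.eq_of_smul_eq_smul (α := Ω) fun x => ?_
    rw [one_smul]
    obtain ⟨g, rfl⟩ := exists_smul_eq (P : Subgroup G) ω x
    have hc := Subgroup.mem_center_iff.1 (z ^ (p ^ (i - 1))).2 g
    have hc' : (g : G) * w = w * g := congrArg Subtype.val hc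
    show w • (g : G) • ω = (g : G) • ω
    rw [← mul_smul, ← hc', mul_smul, hω]
  rw [hw1, orderOf_one] at hw
  exact (Fact.out : p.Prime).one_lt.ne hw

end CfsgLib.Geo
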