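/-
Basic facts on `PGL(2, q)`, q odd, its subgroup `PSL(2, q)`, and commuting elements.
-/
import Cfsg.Agent.Lib.Classical.Dickson.Classify
import Cfsg.Agent.Lib.Classical.Dickson.MaxExist
import Cfsg.Agent.Lib.Classical.PSLTwoSimple
import Cfsg.Agent.Lib.Recog.PGLTwoOrders

set_option autoImplicit false

namespace CfsgLib.Geo.PGLTwo

open Matrix
open CfsgLib.Classical CfsgLib.Classical.Dickson
open scoped LinearAlgebra.Projectivization MatrixGroups

variable {F : Type*} [Field F]

local notation "PSL₂" => ProjectiveSpecialLinearGroup (Fin 2) F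
local notation "PGL₂" => ProjGenLinGroup (Fin 2) F

/-- The copy of `PSL₂` inside `PGL₂`. -/
abbrev pslRange (F : Type*) [Field F] : Subgroup (ProjGenLinGroup (Fin 2) F) :=
  (ProjectiveSpecialLinearGroup.toPGL (n := Fin 2) (R := F)).range

theorem range_eq : (ProjGenLinGroup.mk.comp (SpecialLinearGroup.toGL (n := Fin 2) (R := F))).range = pslRange F := by
  ext g
  constructor
  · rintro ⟨A, rfl⟩; exact ⟨QuotientGroup.mk A, rfl⟩
  · rintro ⟨x, rfl⟩
    obtain ⟨A, rfl⟩ := QuotientGroup.mk_surjective x
    exact ⟨A, rfl⟩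

theorem no_index_two {Γ : Type*} [Group Γ] (h : ∀ x : Γ, ∃ y z : Γ, x = y ^ 2 * z ^ 2) (H : Subgroup Γ) :
    H.index ≠ 2 := by
  intro h2
  have : H = ⊤ := eq_top_iff.2 fun x _ => by
    obtain ⟨y, z, rfl⟩ := h x
    exact H.mul_mem (Subgroup.sq_mem_of_index_two h2 y) (Subgroup.sq_mem_of_index_two h2 z)
  rw [this, Subgroup.index_top] at h2
  omega

theorem alt_four_no_index_two (H : Subgroup (alternatingGroup (Fin 4))) : H.index ≠ 2 :=
  no_index_two (by decide +kernel) H

theorem simple_no_index_two {Γ : Type*} [Group Γ] [IsSimpleGroup Γ] (hc : 2 < Nat.card Γ) (H : Subgroup Γ) :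
    H.index ≠ 2 := by
  intro h2
  have := Subgroup.normal_of_index_eq_two h2
  rcases Subgroup.Normal.eq_bot_or_eq_top this with h | h <;> rw [h] at h2
  · rw [Subgroup.index_bot] at h2; omega
  · rw [Subgroup.index_top] at h2; omega

variable [Fintype F]

theorem card_pgl : Nat.card PGL₂ = Fintype.card F * (Fintype.card F ^ 2 - 1) := by
  classical
  rw [card_PGL_eq_card_SL, Two.card_SL_two]

theorem two_mul_card_psl (hodd : Odd (Fintype.card F)) :
    2 * Nat.card PSL₂ = Fintype.card F * (Fintype.card F ^ 2 - 1) := by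
  have h := gcd_mul_card_psl (F := F) rfl
  rcases gcd_two_cases (q := Fintype.card F) Fintype.one_lt_card with ⟨-, he⟩ | ⟨e, -⟩
  · have := Nat.odd_iff.1 hodd; omega
  · rwa [e] at h

theorem index_pslRange (hodd : Odd (Fintype.card F)) : (pslRange F).index = 2 := by
  have h := (pslRange F).card_mul_index
  rw [← Nat.card_congr (MonoidHom.ofInjective ProjectiveSpecialLinearGroup.toPGL_injective).toEquiv, card_pgl,
    ← two_mul_card_psl hodd, mul_comm 2] at h
  exact Nat.eq_of_mul_eq_mul_left Nat.card_pos h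

theorem mem_pslRange_of_pow {p : ℕ} (hp : Odd p) {g : PGL₂} (hg : g ^ p = 1) : g ∈ pslRange F := by
  obtain ⟨k, rfl⟩ := hp
  have e : g = (g ^ (k + 1)) ^ 2 := by
    rw [← pow_mul, show (k + 1) * 2 = 2 * k + 1 + 1 by omega, pow_succ, hg, one_mul]
  rw [e]
  exact sq_mem_range_toPGL _

theorem pow_cases' (p : ℕ) [Fact p.Prime] [CharP F p] (hp2 : p ≠ 2) (g : PGL₂) :
    g ^ p = 1 ∨ g ^ (Fintype.card F - 1) = 1 ∨ g ^ (Fintype.card F + 1) = 1 := by
  classical
  exact CfsgLib.Recog.PGLTwoOrders.pow_cases p hp2 g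

theorem orderOf_le (p : ℕ) [Fact p.Prime] [CharP F p] (hp2 : p ≠ 2) (g : PGL₂) :
    orderOf g ≤ Fintype.card F + 1 := by
  have hq : 1 < Fintype.card F := Fintype.one_lt_card
  rcases pow_cases' p hp2 g with h | h | h
  · refine (Nat.le_of_dvd (Fact.out : p.Prime).pos (orderOf_dvd_of_pow_eq_one h)).trans ?_
    obtain ⟨n, hn, hn'⟩ := FiniteField.card F p
    rw [hn']
    exact le_trans (Nat.le_self_pow n.ne_zero p) (Nat.le_succ _)
  · exact (Nat.le_of_dvd (by omega) (orderOf_dvd_of_pow_eq_one h)).trans (by omega)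
  · exact Nat.le_of_dvd (by omega) (orderOf_dvd_of_pow_eq_one h)

/-! ### Elements commuting with or inverting a given one -/

omit [Fintype F] in
theorem mk_eq_one_iff {g : GL (Fin 2) F} :
    (ProjGenLinGroup.mk g : PGL₂) = 1 ↔ ∃ c : F, (g : Matrix (Fin 2) (Fin 2) F) = c • 1 := by
  rw [ProjGenLinGroup.mk_eq_one, GeneralLinearGroup.center_eq_range_scalar, MonoidHom.mem_range]
  constructor
  · rintro ⟨c, rfl⟩
    exact ⟨c, by rw [GeneralLinearGroup.coe_scalar, Matrix.scalar_apply, Matrix.smul_one_eq_diagonal]⟩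
  · rintro ⟨c, hc⟩
    have hc0 : c ≠ 0 := fun h => GeneralLinearGroup.det_ne_zero g (by rw [hc, h]; simp)
    exact ⟨Units.mk0 c hc0, Units.ext (by
      rw [GeneralLinearGroup.coe_scalar, Matrix.scalar_apply, hc, Matrix.smul_one_eq_diagonal]; rfl)⟩

omit [Fintype F] in
/-- An element inverting a non-trivial element. -/
theorem exists_inverting (h2 : (2 : F) ≠ 0) {m : PGL₂} (hm : m ≠ 1) :
    ∃ w : PGL₂, w * w = 1 ∧ w * m * w⁻¹ = m⁻¹ ∧ w ≠ 1 ∧ w ≠ m := by
  induction m using ProjGenLinGroup.induction_on with | mk g =>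
  have hg := GeneralLinearGroup.det_ne_zero g
  rw [Matrix.det_fin_two] at hg
  set a := (g : Matrix (Fin 2) (Fin 2) F) 0 0
  set b := (g : Matrix (Fin 2) (Fin 2) F) 0 1
  set c := (g : Matrix (Fin 2) (Fin 2) F) 1 0
  set e := (g : Matrix (Fin 2) (Fin 2) F) 1 1
  have hA : (g : Matrix (Fin 2) (Fin 2) F) = !![a, b; c, e] := Matrix.eta_fin_two _
  have hns : ¬ (b = 0 ∧ c = 0 ∧ a = e) := by
    rintro ⟨hb, hc, hae⟩
    refine hm (mk_eq_one_iff.2 ⟨a, ?_⟩)
    rw [hA, hb, hc, ← hae]
    ext i j; fin_cases i <;> fin_cases j <;> simp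
  obtain ⟨x, y, z, hlin, hdet⟩ : ∃ x y z : F, (a - e) * x + b * z + c * y = 0 ∧ x * x + y * z ≠ 0 := by
    by_contra hcon
    push Not at hcon
    have k1 : b = 0 ∨ c = 0 := by
      by_contra hbc
      push Not at hbc
      have h0 := hcon 0 b (-c) (by ring)
      simp [hbc.1, hbc.2] at h0
    rcases k1 with hb | hc
    · by_cases hc : c = 0
      · have hae : a - e ≠ 0 := fun h => hns ⟨hb, hc, sub_eq_zero.1 h⟩
        have h0 := hcon 0 1 1 (by rw [hb, hc]; ring)
        simp at h0
      · have h1 := hcon c (-(a - e)) 0 (by rw [hb]; ring)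
        simp [hc] at h1
    · by_cases hb : b = 0
      · have h0 := hcon 0 1 1 (by rw [hb, hc]; ring)
        simp at h0
      · have h1 := hcon b 0 (-(a - e)) (by rw [hc]; ring)
        simp [hb] at h1
  let B : GL (Fin 2) F := GeneralLinearGroup.mkOfDetNeZero !![x, y; z, -x]
    (by rw [Matrix.det_fin_two_of]; exact fun h => hdet (by linear_combination -h))
  have hB : (B : Matrix (Fin 2) (Fin 2) F) = !![x, y; z, -x] := rfl
  refine ⟨ProjGenLinGroup.mk B, ?_, ?_, ?_, ?_⟩
  · rw [← map_mul, mk_eq_one_iff]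
    refine ⟨x * x + y * z, ?_⟩
    rw [Units.val_mul, hB]
    ext i j; fin_cases i <;> fin_cases j <;> simp <;> ring
  · rw [eq_inv_iff_mul_eq_one]
    have hBB : (ProjGenLinGroup.mk B : PGL₂)⁻¹ = ProjGenLinGroup.mk B :=
      inv_eq_of_mul_eq_one_right (by
        rw [← map_mul, mk_eq_one_iff]
        refine ⟨x * x + y * z, ?_⟩
        rw [Units.val_mul, hB]
        ext i j; fin_cases i <;> fin_cases j <;> simp <;> ring)
    rw [hBB, ← map_mul, ← map_mul, ← map_mul, mk_eq_one_iff]
    refine ⟨(a * e - b * c) * (x * x + y * z), ?_⟩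
    rw [Units.val_mul, Units.val_mul, Units.val_mul, hB, hA]
    ext i j
    fin_cases i <;> fin_cases j <;> simp
    · linear_combination (x * a + y * c) * hlin
    · linear_combination (x * b + y * e) * hlin
    · linear_combination (z * a - x * c) * hlin
    · linear_combination (z * b - x * e) * hlin
  · rw [Ne, mk_eq_one_iff]
    rintro ⟨t, ht⟩
    rw [hB] at ht
    have e00 := congrFun (congrFun ht 0) 0
    have e01 := congrFun (congrFun ht 0) 1
    have e11 := congrFun (congrFun ht 1) 1
    simp at e00 e01 e11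
    have hx : x = 0 := (mul_eq_zero.1 (show (2 : F) * x = 0 by linear_combination e00 - e11)).resolve_left h2
    exact hdet (by rw [hx, e01]; ring)
  · intro hw
    obtain ⟨u, hu⟩ := ProjGenLinGroup.mk_eq_mk_iff.1 hw
    have hu' : (g : Matrix (Fin 2) (Fin 2) F) = (u : F) • !![x, y; z, -x] := by
      rw [← hu, Units.val_mul, GeneralLinearGroup.coe_scalar, Matrix.scalar_apply, hB,
        ← Matrix.smul_one_eq_diagonal, Matrix.mul_smul, mul_one]
    have ea : a = u * x := by simpa using congrFun (congrFun hu' 0) 0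
    have eb : b = u * y := by simpa using congrFun (congrFun hu' 0) 1
    have ec : c = u * z := by simpa using congrFun (congrFun hu' 1) 0
    have ee : e = -(u * x) := by simpa using congrFun (congrFun hu' 1) 1
    rw [ea, eb, ec, ee] at hlin
    have : (2 : F) * (u : F) * (x * x + y * z) = 0 := by linear_combination hlin
    exact hdet ((mul_eq_zero.1 this).resolve_left (mul_ne_zero h2 u.ne_zero))

open scoped Classical in
/-- The centraliser count of an element of order prime to the characteristic. -/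
theorem card_commuting (p : ℕ) [Fact p.Prime] [CharP F p] (hp2 : p ≠ 2) {m : PGL₂} (hm : m ≠ 1)
    (hpm : m ^ p ≠ 1) :
    ∃ S : Subgroup PGL₂, S ≤ Subgroup.centralizer {m} ∧
      (Nat.card S = Fintype.card F - 1 ∨ Nat.card S = Fintype.card F + 1) ∧
      (m * m ≠ 1 → S = Subgroup.centralizer {m}) := by
  classical
  have hch : ringChar F = p := ringChar.eq F p
  have h2 : (2 : F) ≠ 0 := fun h => hp2 (by
    have h' : ((2 : ℕ) : F) = 0 := by exact_mod_cast h
    exact (Nat.prime_dvd_prime_iff_eq Fact.out Nat.prime_two).mp ((CharP.cast_eq_zero_iff F p 2).mp h'))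
  obtain ⟨g, rfl⟩ := ProjGenLinGroup.mk_surjective m
  set A := (g : Matrix (Fin 2) (Fin 2) F) with hA
  set t := A.trace with ht
  set D := A.det with hD
  have hCH : A * A = t • A - D • 1 := by
    rw [ht, hD, Matrix.eta_fin_two A]
    ext i j
    fin_cases i <;> fin_cases j <;> simp [Matrix.trace_fin_two, Matrix.det_fin_two] <;> ring
  have hns : ∀ x y : F, x • (1 : Matrix (Fin 2) (Fin 2) F) + y • A = 0 → x = 0 ∧ y = 0 := by
    intro x y hxy
    have hy : y = 0 := by
      by_contra hy
      refine hm (mk_eq_one_iff.2 ⟨-(x / y), ?_⟩)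
      rw [← hA, ← sub_eq_zero]
      refine smul_right_injective _ hy ?_
      show y • (A - (-(x / y)) • 1) = y • 0
      rw [smul_zero, smul_sub, smul_smul, mul_neg, mul_div_cancel₀ _ hy, neg_smul, sub_neg_eq_add, add_comm, hxy]
    refine ⟨?_, hy⟩
    rw [hy, zero_smul, add_zero] at hxy
    simpa using congrFun (congrFun hxy 0) 0
  have hcomm : ∀ x y : F, Commute (x • (1 : Matrix (Fin 2) (Fin 2) F) + y • A) A := fun x y =>
    ((Commute.one_left A).smul_left x).add_left ((Commute.refl A).smul_left y)
  have hdet : ∀ x : F, (x • (1 : Matrix (Fin 2) (Fin 2) F) + A).det = x * x + t * x + D := fun x => by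
    rw [ht, hD, Matrix.eta_fin_two A]
    simp [Matrix.det_fin_two, Matrix.trace_fin_two]
    ring
  let S : Subgroup PGL₂ :=
    { carrier := {z | ∃ (h : GL (Fin 2) F) (x y : F), ProjGenLinGroup.mk h = z ∧
        (h : Matrix (Fin 2) (Fin 2) F) = x • (1 : Matrix (Fin 2) (Fin 2) F) + y • A}
      one_mem' := ⟨1, 1, 0, map_one _, by simp⟩
      mul_mem' := by
        rintro _ _ ⟨h, x, y, rfl, hh⟩ ⟨h', x', y', rfl, hh'⟩
        refine ⟨h * h', x * x' - y * y' * D, x * y' + y * x' + y * y' * t, map_mul _ _ _, ?_⟩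
        rw [Units.val_mul, hh, hh', add_mul, mul_add, mul_add]
        simp only [smul_mul_assoc, mul_smul_comm, one_mul, mul_one, smul_smul, hCH]
        module
      inv_mem' := by
        rintro _ ⟨h, x, y, rfl, hh⟩
        refine ⟨h⁻¹, ((h : Matrix (Fin 2) (Fin 2) F).det)⁻¹ * (x + t * y), -((h : Matrix (Fin 2) (Fin 2) F).det)⁻¹ * y,
          map_inv _ _, ?_⟩
        rw [Matrix.coe_units_inv, Matrix.inv_def, Ring.inverse_eq_inv']
        have hadj : Matrix.adjugate (h : Matrix (Fin 2) (Fin 2) F) = (x + t * y) • 1 - y • A := by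
          rw [hh, ht]
          rw [Matrix.eta_fin_two A]
          ext i j
          fin_cases i <;> fin_cases j <;> simp [Matrix.adjugate_fin_two, Matrix.trace_fin_two] <;> ring
        rw [hadj]
        module }
  have hSle : S ≤ Subgroup.centralizer {(ProjGenLinGroup.mk g : PGL₂)} := by
    rintro _ ⟨h, x, y, rfl, hh⟩
    rw [Subgroup.mem_centralizer_singleton_iff, ← map_mul, ← map_mul]
    congr 1
    exact Units.ext (by rw [Units.val_mul, Units.val_mul, hh]; exact hcomm x y)
  let R := {x : F // x * x + t * x + D ≠ 0}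
  let φ : Option R → S := fun o => o.elim 1 fun x => ⟨ProjGenLinGroup.mk (GeneralLinearGroup.mkOfDetNeZero
    ((x : F) • (1 : Matrix (Fin 2) (Fin 2) F) + A) (by rw [hdet]; exact x.2)), _, x, 1, rfl, by simp⟩
  have hφ : Function.Bijective φ := by
    constructor
    · rintro (_ | x) (_ | x') hxx
      · rfl
      · obtain ⟨c, hc⟩ := mk_eq_one_iff.1 (congrArg Subtype.val hxx).symm
        have := (hns ((x' : F) - c) 1 (by
          rw [GeneralLinearGroup.val_mkOfDetNeZero] at hc
          rw [sub_smul, one_smul, sub_add_eq_add_sub, hc, sub_self])).2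
        exact absurd this one_ne_zero
      · obtain ⟨c, hc⟩ := mk_eq_one_iff.1 (congrArg Subtype.val hxx)
        have := (hns ((x : F) - c) 1 (by
          rw [GeneralLinearGroup.val_mkOfDetNeZero] at hc
          rw [sub_smul, one_smul, sub_add_eq_add_sub, hc, sub_self])).2
        exact absurd this one_ne_zero
      · obtain ⟨u, hu⟩ := ProjGenLinGroup.mk_eq_mk_iff.1 (congrArg Subtype.val hxx)
        have hu' := congrArg (fun z : GL (Fin 2) F => (z : Matrix (Fin 2) (Fin 2) F)) hu
        simp only [Units.val_mul, GeneralLinearGroup.val_mkOfDetNeZero, GeneralLinearGroup.coe_scalar,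
          Matrix.scalar_apply, ← Matrix.smul_one_eq_diagonal, mul_smul_comm, mul_one] at hu'
        have := hns ((u : F) * x - x') ((u : F) - 1) (by
          rw [sub_smul, sub_smul, one_smul, ← smul_smul]
          rw [smul_add] at hu'
          rw [← add_sub_add_comm, hu', sub_self])
        have hu1 : (u : F) = 1 := sub_eq_zero.1 this.2
        rw [hu1, one_mul] at this
        exact congrArg some (Subtype.ext (sub_eq_zero.1 this.1))
    · rintro ⟨_, h, x, y, rfl, hh⟩
      by_cases hy : y = 0
      · exact ⟨none, Subtype.ext (mk_eq_one_iff.2 ⟨x, by rw [hh, hy, zero_smul, add_zero]⟩).symm⟩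
      · have hx : x / y * (x / y) + t * (x / y) + D ≠ 0 := by
          rw [← hdet]
          intro h0
          refine GeneralLinearGroup.det_ne_zero h ?_
          rw [hh, show x • (1 : Matrix (Fin 2) (Fin 2) F) + y • A = y • ((x / y) • 1 + A) by
            rw [smul_add, smul_smul, mul_div_cancel₀ _ hy], Matrix.det_smul, h0, mul_zero]
        refine ⟨some ⟨x / y, hx⟩, Subtype.ext (ProjGenLinGroup.mk_eq_mk_iff.2 ⟨Units.mk0 y hy, Units.ext ?_⟩)⟩
        rw [Units.val_mul, GeneralLinearGroup.val_mkOfDetNeZero, GeneralLinearGroup.coe_scalar, Matrix.scalar_apply,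
          ← Matrix.smul_one_eq_diagonal, mul_smul_comm, mul_one, Units.val_mk0, hh, smul_add, smul_smul,
          mul_div_cancel₀ _ hy]
  have hcard : Nat.card S = Fintype.card R + 1 := by
    rw [← Nat.card_eq_of_bijective φ hφ, Nat.card_eq_fintype_card, Fintype.card_option]
  have hRc : Fintype.card R = Fintype.card F - Fintype.card {x : F // x * x + t * x + D = 0} :=
    Fintype.card_subtype_compl _
  refine ⟨S, hSle, ?_, ?_⟩
  · rw [hcard, hRc]
    by_cases hroot : ∃ x₁ : F, x₁ * x₁ + t * x₁ + D = 0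
    · obtain ⟨x₁, h1⟩ := hroot
      have hne : x₁ ≠ -t - x₁ := by
        intro he
        refine hpm ?_
        rw [← map_pow, mk_eq_one_iff]
        have hN : (x₁ • (1 : Matrix (Fin 2) (Fin 2) F) + A) * (x₁ • 1 + A) = 0 := by
          rw [add_mul, mul_add, mul_add]
          simp only [smul_mul_assoc, mul_smul_comm, one_mul, mul_one, smul_smul, hCH]
          rw [show D = x₁ * x₁ by linear_combination h1 - x₁ * he,
            show t = -(x₁ + x₁) by linear_combination he]
          module
        haveI : ExpChar (Matrix (Fin 2) (Fin 2) F) p := ExpChar.prime Fact.out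
        refine ⟨(-x₁) ^ p, ?_⟩
        rw [Units.val_pow_eq_pow_val, ← hA,
          show A = (x₁ • (1 : Matrix (Fin 2) (Fin 2) F) + A) + (-x₁) • 1 by module,
          add_pow_expChar_of_commute (p := p) (((Commute.one_right (x₁ • (1 : Matrix (Fin 2) (Fin 2) F) + A))).smul_right (-x₁)),
          smul_pow, one_pow]
        obtain ⟨k, hk⟩ := Nat.exists_eq_add_of_le (Fact.out : p.Prime).two_le
        rw [hk, pow_add, pow_two, hN, zero_mul, zero_add]
      left
      have h2r : Fintype.card {x : F // x * x + t * x + D = 0} = 2 := by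
        rw [Fintype.card_subtype]
        rw [show (Finset.univ.filter fun x : F => x * x + t * x + D = 0) = {x₁, -t - x₁} by
          ext x
          simp only [Finset.mem_filter, Finset.mem_univ, true_and, Finset.mem_insert, Finset.mem_singleton]
          constructor
          · intro hx
            rcases mul_eq_zero.1 (show (x - x₁) * (x - (-t - x₁)) = 0 by linear_combination hx - h1) with h | h
            · exact Or.inl (sub_eq_zero.1 h)
            · exact Or.inr (sub_eq_zero.1 h)
          · rintro (rfl | rfl)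
            · exact h1
            · linear_combination h1]
        exact Finset.card_pair hne
      have := Fintype.card_subtype_le (fun x : F => x * x + t * x + D = 0)
      omega
    · right
      push Not at hroot
      haveI : IsEmpty {x : F // x * x + t * x + D = 0} := ⟨fun x => hroot x x.2⟩
      rw [Fintype.card_eq_zero (α := {x : F // x * x + t * x + D = 0}), Nat.sub_zero]
  · intro hmm
    refine le_antisymm hSle fun z hz => ?_
    obtain ⟨h, rfl⟩ := ProjGenLinGroup.mk_surjective z
    rw [Subgroup.mem_centralizer_singleton_iff, ← map_mul, ← map_mul] at hz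
    obtain ⟨u, hu⟩ := ProjGenLinGroup.mk_eq_mk_iff.1 hz
    have hu' : (u : F) • ((h : Matrix (Fin 2) (Fin 2) F) * A) = A * (h : Matrix (Fin 2) (Fin 2) F) := by
      have := congrArg (fun z : GL (Fin 2) F => (z : Matrix (Fin 2) (Fin 2) F)) hu
      simp only [Units.val_mul, GeneralLinearGroup.coe_scalar, Matrix.scalar_apply,
        ← Matrix.smul_one_eq_diagonal, mul_smul_comm, mul_one] at this
      exact this
    have hhd := GeneralLinearGroup.det_ne_zero h
    have htr : (u : F) * t = t := by
      have hA' : A = ((h⁻¹ : GL (Fin 2) F) : Matrix (Fin 2) (Fin 2) F) * (h * A) := by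
        rw [← mul_assoc, Units.inv_mul, one_mul]
      have e2 : (u : F) • A = ((h⁻¹ : GL (Fin 2) F) : Matrix (Fin 2) (Fin 2) F) * (A * h) := by
        rw [← hu', mul_smul_comm, ← hA']
      have e3 := congrArg Matrix.trace e2
      rw [Matrix.trace_smul, Matrix.trace_mul_comm, mul_assoc, Units.mul_inv, mul_one, smul_eq_mul] at e3
      exact e3
    have ht0 : t ≠ 0 := by
      intro h0
      refine hmm ?_
      rw [← map_mul, mk_eq_one_iff]
      exact ⟨-D, by rw [Units.val_mul, ← hA, hCH, h0, zero_smul, zero_sub, neg_smul]⟩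
    have hu1 : (u : F) = 1 := mul_eq_right₀ ht0 |>.1 htr
    rw [hu1, one_smul] at hu'
    have e := Matrix.eta_fin_two A
    have eh := Matrix.eta_fin_two (h : Matrix (Fin 2) (Fin 2) F)
    set a := A 0 0
    set b := A 0 1
    set c := A 1 0
    set e' := A 1 1
    set α := (h : Matrix (Fin 2) (Fin 2) F) 0 0
    set β := (h : Matrix (Fin 2) (Fin 2) F) 0 1
    set γ := (h : Matrix (Fin 2) (Fin 2) F) 1 0
    set δ := (h : Matrix (Fin 2) (Fin 2) F) 1 1
    rw [e, eh] at hu'
    have k00 := congrFun (congrFun hu' 0) 0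
    have k01 := congrFun (congrFun hu' 0) 1
    have k10 := congrFun (congrFun hu' 1) 0
    simp at k00 k01 k10
    refine ⟨h, ?_⟩
    suffices hs : ∃ x y : F, α = x + y * a ∧ β = y * b ∧ γ = y * c ∧ δ = x + y * e' by
      obtain ⟨x, y, w1, w2, w3, w4⟩ := hs
      refine ⟨x, y, rfl, ?_⟩
      rw [eh, e, w1, w2, w3, w4]
      ext i j
      fin_cases i <;> fin_cases j <;> simp
    by_cases hb : b = 0
    · by_cases hc : c = 0
      · have hae : a - e' ≠ 0 := fun h0 => by
          refine hm (mk_eq_one_iff.2 ⟨a, ?_⟩)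
          rw [← hA, e, hb, hc, ← sub_eq_zero.1 h0]
          ext i j
          fin_cases i <;> fin_cases j <;> simp
        refine ⟨α - (α - δ) / (a - e') * a, (α - δ) / (a - e'), by ring, ?_, ?_, by field_simp; ring⟩
        · rw [hb, mul_zero]
          exact (mul_eq_zero.1 (show (a - e') * β = 0 by linear_combination (-1 : F) * k01 + (α - δ) * hb)).resolve_left hae
        · rw [hc, mul_zero]
          exact (mul_eq_zero.1 (show (a - e') * γ = 0 by linear_combination k10 + (α - δ) * hc)).resolve_left hae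
      · refine ⟨α - γ / c * a, γ / c, by ring, ?_, by field_simp, ?_⟩
        · rw [hb, mul_zero]
          exact (mul_eq_zero.1 (show c * β = 0 by linear_combination k00 + γ * hb)).resolve_left hc
        · field_simp
          linear_combination k10
    · refine ⟨α - β / b * a, β / b, by ring, by field_simp, ?_, ?_⟩
      · field_simp
        linear_combination -k00
      · field_simp
        linear_combination -k01

end CfsgLib.Geo.PGLTwo
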