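/-
Transvection matrices in GL and the resulting non-maximality lemmas for subspace stabilisers.
-/
import Mathlib
import Cfsg.Prelude.Def_GeometricClasses

namespace CfsgLib.Geo

open Matrix

variable {ι : Type} [Fintype ι] [DecidableEq ι] {F : Type*} [Field F]

/-- The transvection `x ↦ x + (φ ⬝ x) u` as an element of GL, for `φ ⬝ u = 0`. -/
def transvectionGL (φ u : ι → F) (h : φ ⬝ᵥ u = 0) : Matrix.GeneralLinearGroup ι F where
  val := 1 + Matrix.vecMulVec u φ
  inv := 1 - Matrix.vecMulVec u φ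
  val_inv := by
    rw [add_mul, one_mul, mul_sub, mul_one, Matrix.vecMulVec_mul_vecMulVec, h, zero_smul,
      Matrix.vecMulVec_zero]
    abel
  inv_val := by
    rw [sub_mul, one_mul, mul_add, mul_one, Matrix.vecMulVec_mul_vecMulVec, h, zero_smul,
      Matrix.vecMulVec_zero]
    abel

theorem transvectionGL_mulVec (φ u : ι → F) (h : φ ⬝ᵥ u = 0) (x : ι → F) :
    ((transvectionGL φ u h : Matrix.GeneralLinearGroup ι F) : Matrix ι ι F) *ᵥ x = x + (φ ⬝ᵥ x) • u := by
  show (1 + Matrix.vecMulVec u φ) *ᵥ x = _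
  rw [Matrix.add_mulVec, Matrix.one_mulVec, Matrix.vecMulVec_mulVec]
  congr 1
  ext i
  simp [mul_comm]

theorem transvectionGL_mem_specialLinear (φ u : ι → F) (h : φ ⬝ᵥ u = 0) :
    transvectionGL φ u h ∈ Cfsg.Geo.specialLinear ι F := by
  rw [Cfsg.Geo.specialLinear, MonoidHom.mem_ker]
  refine Units.ext ?_
  show ((1 : Matrix ι ι F) + Matrix.vecMulVec u φ).det = 1
  rw [Matrix.vecMulVec_eq Unit, Matrix.det_one_add_replicateCol_mul_replicateRow, h, add_zero]

theorem mem_subspaceStabilizer_iff (W : Submodule F (ι → F)) (g : Matrix.GeneralLinearGroup ι F) :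
    g ∈ Cfsg.Geo.subspaceStabilizer W ↔ ∀ v, v ∈ W ↔ (g : Matrix ι ι F) *ᵥ v ∈ W := Iff.rfl

/-- A transvection whose centre lies in a subspace stabilises it. -/
theorem transvectionGL_mem_stabilizer (φ u : ι → F) (h : φ ⬝ᵥ u = 0) (U : Submodule F (ι → F)) (hu : u ∈ U) :
    transvectionGL φ u h ∈ Cfsg.Geo.subspaceStabilizer U := by
  rw [mem_subspaceStabilizer_iff]
  intro v
  rw [transvectionGL_mulVec]
  exact (U.add_mem_iff_left (U.smul_mem _ hu)).symm

/-- Every vector outside the line of `u` has value 1 at some functional vanishing on `u`. -/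
theorem exists_functional (u w : ι → F) (hw : w ∉ Submodule.span F {u}) :
    ∃ φ : ι → F, φ ⬝ᵥ u = 0 ∧ φ ⬝ᵥ w = 1 := by
  obtain ⟨f, hf, hu⟩ := Submodule.exists_dual_map_eq_bot_of_notMem hw inferInstance
  have key : ∀ x : ι → F, (fun j => (f w)⁻¹ * f (Pi.single j 1)) ⬝ᵥ x = (f w)⁻¹ * f x := by
    intro x
    conv_rhs => rw [pi_eq_sum_univ' x]
    rw [map_sum, Finset.mul_sum]
    refine Finset.sum_congr rfl fun j _ => ?_
    rw [map_smul, smul_eq_mul]
    ring
  refine ⟨fun j => (f w)⁻¹ * f (Pi.single j 1), ?_, ?_⟩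
  · rw [key]
    have : f u ∈ (Submodule.span F {u}).map f := ⟨u, Submodule.mem_span_singleton_self u, rfl⟩
    rw [hu, Submodule.mem_bot] at this
    rw [this, mul_zero]
  · rw [key, inv_mul_cancel₀ hf]

/-- Some element of SL stabilises U and moves w out of W, as soon as u ∈ U lies outside W and w ∈ W outside the line of u. -/
theorem exists_mover (U W : Submodule F (ι → F)) (u w : ι → F) (huU : u ∈ U) (hu : u ∉ W) (hw : w ∈ W)
    (hw0 : w ∉ Submodule.span F {u}) :
    ∃ g ∈ Cfsg.Geo.specialLinear ι F, g ∈ Cfsg.Geo.subspaceStabilizer U ∧ g ∉ Cfsg.Geo.subspaceStabilizer W := by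
  obtain ⟨φ, h0, h1⟩ := exists_functional u w hw0
  refine ⟨transvectionGL φ u h0, transvectionGL_mem_specialLinear φ u h0,
    transvectionGL_mem_stabilizer φ u h0 U huU, fun hg => hu ?_⟩
  have h := ((mem_subspaceStabilizer_iff W _).1 hg w).1 hw
  rw [transvectionGL_mulVec, h1, one_smul] at h
  exact (W.add_mem_iff_right hw).1 h

theorem notMem_span_singleton {W : Submodule F (ι → F)} {u w : ι → F} (hw : w ∈ W) (hw0 : w ≠ 0) (hu : u ∉ W) :
    w ∉ Submodule.span F {u} := by
  intro h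
  obtain ⟨c, hc⟩ := Submodule.mem_span_singleton.1 h
  have hc0 : c ≠ 0 := by rintro rfl; exact hw0 (by simpa using hc.symm)
  exact hu ((W.smul_mem_iff hc0).1 (hc ▸ hw))

end CfsgLib.Geo
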