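/-
Stabilisers of subspaces are maximal in SL.
-/
import Cfsg.Agent.Lib.Geo.Transvection
import Cfsg.Agent.Lib.Classical.SLGroup

namespace CfsgLib.Geo

open Matrix

variable {ι : Type} [Fintype ι] [DecidableEq ι] {F : Type*} [Field F]

/-- All transvections with centre u lie in K. -/
def IsCentre (K : Subgroup (Matrix.GeneralLinearGroup ι F)) (u : ι → F) : Prop :=
  ∀ (φ : ι → F) (h : φ ⬝ᵥ u = 0), transvectionGL φ u h ∈ K

theorem IsCentre.smul {K : Subgroup (Matrix.GeneralLinearGroup ι F)} {u : ι → F} (hu : IsCentre K u) (c : F)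
    (hc : c ≠ 0) : IsCentre K (c • u) := by
  intro φ h
  have h' : (c • φ) ⬝ᵥ u = 0 := by
    rw [smul_dotProduct]
    rwa [dotProduct_smul] at h
  convert hu (c • φ) h' using 1
  refine Units.ext ?_
  show (1 : Matrix ι ι F) + Matrix.vecMulVec (c • u) φ = 1 + Matrix.vecMulVec u (c • φ)
  congr 1
  ext i j
  simp [Matrix.vecMulVec_apply]
  ring

theorem IsCentre.map {K : Subgroup (Matrix.GeneralLinearGroup ι F)} {u : ι → F} (hu : IsCentre K u)
    {g : Matrix.GeneralLinearGroup ι F} (hg : g ∈ K) : IsCentre K ((g : Matrix ι ι F) *ᵥ u) := by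
  intro φ h
  have h' : (φ ᵥ* (g : Matrix ι ι F)) ⬝ᵥ u = 0 := by rwa [← Matrix.dotProduct_mulVec]
  have key : transvectionGL φ ((g : Matrix ι ι F) *ᵥ u) h = g * transvectionGL (φ ᵥ* (g : Matrix ι ι F)) u h' * g⁻¹ := by
    rw [eq_mul_inv_iff_mul_eq]
    refine Units.ext (Matrix.toLin'.injective (LinearMap.ext fun x => ?_))
    rw [Units.val_mul, Units.val_mul, Matrix.toLin'_apply, Matrix.toLin'_apply, ← Matrix.mulVec_mulVec,
      ← Matrix.mulVec_mulVec, transvectionGL_mulVec, transvectionGL_mulVec, Matrix.mulVec_add, Matrix.mulVec_smul,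
      Matrix.dotProduct_mulVec]
  rw [key]
  exact K.mul_mem (K.mul_mem hg (hu _ h')) (K.inv_mem hg)

theorem exists_functional_vanishing (W : Submodule F (ι → F)) (x : ι → F) (hx : x ∉ W) :
    ∃ φ : ι → F, φ ⬝ᵥ x = 1 ∧ ∀ w ∈ W, φ ⬝ᵥ w = 0 := by
  obtain ⟨f, hf, hW⟩ := Submodule.exists_dual_map_eq_bot_of_notMem hx inferInstance
  have key : ∀ y : ι → F, (fun j => (f x)⁻¹ * f (Pi.single j 1)) ⬝ᵥ y = (f x)⁻¹ * f y := by
    intro y
    conv_rhs => rw [pi_eq_sum_univ' y]
    rw [map_sum, Finset.mul_sum]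
    refine Finset.sum_congr rfl fun j _ => ?_
    rw [map_smul, smul_eq_mul]
    ring
  refine ⟨fun j => (f x)⁻¹ * f (Pi.single j 1), by rw [key, inv_mul_cancel₀ hf], fun w hw => ?_⟩
  have : f w = 0 := (Submodule.mem_bot F).1 (hW ▸ ⟨w, hw, rfl⟩)
  rw [key, this, mul_zero]

theorem specialLinear_le_of_centres [Nontrivial ι] (K : Subgroup (Matrix.GeneralLinearGroup ι F))
    (h : ∀ u, IsCentre K u) : Cfsg.Geo.specialLinear ι F ≤ K := by
  intro g hg
  have htop := CfsgLib.Classical.closure_transvection_eq_top (K.comap Matrix.SpecialLinearGroup.toGL)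
    (fun i j hij c => by
      have h0 : (Pi.single j c : ι → F) ⬝ᵥ Pi.single i 1 = 0 := by simp [hij]
      have := h (Pi.single i 1) (Pi.single j c) h0
      rw [Subgroup.mem_comap]
      convert this using 1
      refine Units.ext ?_
      show _ = (1 : Matrix ι ι F) + Matrix.vecMulVec (Pi.single i 1) (Pi.single j c)
      rw [Matrix.SpecialLinearGroup.coe_GL_coe_matrix, Matrix.SpecialLinearGroup.transvection_coe]
      congr 1
      ext a b
      simp [Matrix.vecMulVec_apply, Matrix.single_apply, Pi.single_apply]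
      grind)
  let s : Matrix.SpecialLinearGroup ι F := ⟨(g : Matrix ι ι F), congrArg Units.val (MonoidHom.mem_ker.1 hg)⟩
  have hs : s ∈ K.comap Matrix.SpecialLinearGroup.toGL := htop ▸ Subgroup.mem_top s
  rw [Subgroup.mem_comap, show Matrix.SpecialLinearGroup.toGL s = g from Units.ext rfl] at hs
  exact hs

theorem isMaximalIn_subspaceStabilizer [Finite F] (W : Submodule F (ι → F)) (hW0 : W ≠ ⊥) (hW1 : W ≠ ⊤) :
    Cfsg.Geo.IsMaximalIn (Cfsg.Geo.specialLinear ι F)
      (Cfsg.Geo.subspaceStabilizer W ⊓ Cfsg.Geo.specialLinear ι F) := by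
  obtain ⟨w₀, hw₀, hw₀0⟩ := (Submodule.ne_bot_iff W).1 hW0
  obtain ⟨x₀, -, hx₀⟩ := SetLike.exists_of_lt (lt_top_iff_ne_top.2 hW1)
  refine ⟨lt_of_le_of_ne inf_le_right fun h => ?_, fun M hM hMS => ?_⟩
  · obtain ⟨g, hg, -, hgW⟩ := exists_mover ⊤ W x₀ w₀ Submodule.mem_top hx₀ hw₀ (notMem_span_singleton hw₀ hw₀0 hx₀)
    exact hgW (h.ge hg).1
  refine (eq_or_lt_of_le hM).imp Eq.symm fun hlt => le_antisymm hMS ?_
  haveI : Nontrivial ι := by
    by_contra hnt
    rw [not_nontrivial_iff_subsingleton] at hnt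
    obtain ⟨i, hi⟩ : ∃ i, w₀ i ≠ 0 := by
      by_contra! h
      exact hw₀0 (funext h)
    refine hx₀ ?_
    have : x₀ = (x₀ i / w₀ i) • w₀ := funext fun j => by
      rw [Subsingleton.elim j i, Pi.smul_apply, smul_eq_mul, div_mul_cancel₀ _ hi]
    rw [this]
    exact W.smul_mem _ hw₀
  have hstab : ∀ (φ u : ι → F) (h : φ ⬝ᵥ u = 0), (u ∈ W ∨ ∀ w ∈ W, φ ⬝ᵥ w = 0) → transvectionGL φ u h ∈ M := by
    intro φ u h hor
    refine hM ⟨?_, transvectionGL_mem_specialLinear φ u h⟩
    rcases hor with hu | hφ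
    · exact transvectionGL_mem_stabilizer φ u h W hu
    · show transvectionGL φ u h ∈ Cfsg.Geo.subspaceStabilizer W
      rw [mem_subspaceStabilizer_iff]
      intro v
      constructor
      · intro hv
        rw [transvectionGL_mulVec, hφ v hv, zero_smul, add_zero]
        exact hv
      · intro hv
        rw [transvectionGL_mulVec] at hv
        have h1 := hφ _ hv
        rw [dotProduct_add, dotProduct_smul, h, smul_zero, add_zero] at h1
        rwa [h1, zero_smul, add_zero] at hv
  have hWc : ∀ u ∈ W, IsCentre M u := fun u hu φ h => hstab φ u h (Or.inl hu)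
  obtain ⟨g, hgM, hgn⟩ := SetLike.exists_of_lt hlt
  obtain ⟨v, hvW, hv⟩ : ∃ v ∈ W, (g : Matrix ι ι F) *ᵥ v ∉ W := by
    by_contra! hall
    refine hgn ⟨(mem_subspaceStabilizer_iff W g).2 fun v => ⟨fun h => hall v h, fun h => ?_⟩, hMS hgM⟩
    have hinj : Function.Injective fun x : W => (⟨(g : Matrix ι ι F) *ᵥ x, hall x x.2⟩ : W) := by
      intro a b hab
      have h' := congrArg (((g⁻¹ : Matrix.GeneralLinearGroup ι F) : Matrix ι ι F) *ᵥ ·) (congrArg Subtype.val hab)
      simp only [Matrix.mulVec_mulVec, ← Units.val_mul, inv_mul_cancel, Units.val_one, Matrix.one_mulVec] at h'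
      exact Subtype.ext h'
    obtain ⟨y, hy⟩ := Finite.injective_iff_surjective.1 hinj ⟨_, h⟩
    have h' := congrArg (((g⁻¹ : Matrix.GeneralLinearGroup ι F) : Matrix ι ι F) *ᵥ ·) (congrArg Subtype.val hy)
    simp only [Matrix.mulVec_mulVec, ← Units.val_mul, inv_mul_cancel, Units.val_one, Matrix.one_mulVec] at h'
    exact h' ▸ y.2
  have hv0 : IsCentre M ((g : Matrix ι ι F) *ᵥ v) := (hWc v hvW).map hgM
  set a := (g : Matrix ι ι F) *ᵥ v
  refine specialLinear_le_of_centres M fun u => ?_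
  by_cases hu : u ∈ W
  · exact hWc u hu
  -- move a to u, up to a scalar and an element of W
  by_cases hline : ∃ c : F, c ≠ 0 ∧ c • u - a ∈ W
  · obtain ⟨c, hc, hw⟩ := hline
    have hnot : a ∉ Submodule.span F {c • u - a} := fun h => hv (Submodule.span_le.2 (by simpa using hw) h)
    obtain ⟨φ, h0, h1⟩ := exists_functional (c • u - a) a hnot
    have h2 := hv0.map (hstab φ (c • u - a) h0 (Or.inl hw))
    rw [transvectionGL_mulVec, h1, one_smul, add_sub_cancel] at h2
    have h3 := h2.smul c⁻¹ (inv_ne_zero hc)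
    rwa [smul_smul, inv_mul_cancel₀ hc, one_smul] at h3
  · push Not at hline
    have hnot : a ∉ W ⊔ Submodule.span F {u - a} := by
      intro h
      obtain ⟨w, hw, z, hz, hwz⟩ := Submodule.mem_sup.1 h
      obtain ⟨k, hk⟩ := Submodule.mem_span_singleton.1 hz
      by_cases hk1 : 1 + k = 0
      · apply hu
        have : u = w := by
          have hk' : k = -1 := by linear_combination hk1
          rw [← hk, hk', neg_one_smul, neg_sub] at hwz
          linear_combination (norm := module) -hwz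
        rwa [this]
      · rcases eq_or_ne k 0 with rfl | hk0
        · apply hv
          rw [← hwz, ← hk, zero_smul, add_zero]
          exact hw
        · refine hline (k / (1 + k)) (div_ne_zero hk0 hk1) ?_
          have : (k / (1 + k)) • u - a = (-(1 + k)⁻¹) • w := by
            rw [← hk] at hwz
            rw [eq_sub_iff_add_eq.2 hwz]
            match_scalars <;> field_simp <;> ring
          rw [this]
          exact W.smul_mem _ hw
    obtain ⟨φ, h1, h0⟩ := exists_functional_vanishing _ a hnot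
    have hd : φ ⬝ᵥ (u - a) = 0 := h0 _ (Submodule.mem_sup_right (Submodule.mem_span_singleton_self _))
    have h2 := hv0.map (hstab φ (u - a) hd (Or.inr fun w hw => h0 w (Submodule.mem_sup_left hw)))
    rwa [transvectionGL_mulVec, h1, one_smul, add_sub_cancel] at h2

end CfsgLib.Geo
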