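/-
Normalisers of field subalgebras of a matrix algebra: intermediate fields and transvection-type witnesses.
-/
import Mathlib
import Cfsg.Prelude.Def_GeometricClasses

namespace CfsgLib.Geo

open Matrix

variable {ι : Type} [Fintype ι] [DecidableEq ι] {F : Type*} [Field F] [Fintype F]

/-- Every subalgebra of a field subalgebra is a field. -/
theorem inv_mem_of_le (M L : Subalgebra F (Matrix ι ι F)) (hinv : ∀ x ∈ M, x ≠ 0 → ∃ y ∈ M, x * y = 1)
    (hcomm : ∀ x ∈ M, ∀ y ∈ M, x * y = y * x) (hLM : L ≤ M) (x : Matrix ι ι F) (hx : x ∈ L) (hx0 : x ≠ 0) :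
    ∃ y ∈ L, x * y = 1 := by
  obtain ⟨z, hz, hxz⟩ := hinv x (hLM hx) hx0
  have hinj : Function.Injective (fun l : L => (⟨x * l, L.mul_mem hx l.2⟩ : L)) := by
    intro a b h
    have h' : x * (a : Matrix ι ι F) = x * b := congrArg Subtype.val h
    have h'' := congrArg (z * ·) h'
    simp only [← mul_assoc, ← hcomm x (hLM hx) z hz, hxz, one_mul] at h''
    exact Subtype.ext h''
  obtain ⟨y, hy⟩ := (Finite.injective_iff_surjective.1 hinj) 1
  exact ⟨y, y.2, congrArg Subtype.val hy⟩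

/-- A non-zero element of a field subalgebra kills no non-zero vector. -/
theorem eq_zero_of_mulVec_eq_zero (M : Subalgebra F (Matrix ι ι F)) (hinv : ∀ x ∈ M, x ≠ 0 → ∃ y ∈ M, x * y = 1)
    (m : Matrix ι ι F) (hm : m ∈ M) (v : ι → F) (hv : v ≠ 0) (h : m *ᵥ v = 0) : m = 0 := by
  by_contra hm0
  obtain ⟨y, -, hy⟩ := hinv m hm hm0
  have hy' : y * m = 1 := mul_eq_one_comm.1 hy
  apply hv
  rw [← one_mulVec v, ← hy', ← mulVec_mulVec, h, mulVec_zero]

/-- For subfields L < M of the matrix algebra, M not of full degree, some element of SL centralises L and does not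
normalise M. -/
theorem exists_centralize_not_normalize (M L : Subalgebra F (Matrix ι ι F))
    (hinv : ∀ x ∈ M, x ≠ 0 → ∃ y ∈ M, x * y = 1) (hcomm : ∀ x ∈ M, ∀ y ∈ M, x * y = y * x) (hLM : L ≤ M)
    (hne : L ≠ M) (hcard : Nat.card M < Fintype.card (ι → F)) :
    ∃ g : Matrix.GeneralLinearGroup ι F, g ∈ Cfsg.Geo.specialLinear ι F ∧
      (∀ l ∈ L, (g : Matrix ι ι F) * l = l * (g : Matrix ι ι F)) ∧ g ∉ Cfsg.Geo.subalgebraNormalizer M := by
  classical
  obtain ⟨v, hv⟩ : ∃ v : ι → F, v ≠ 0 := by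
    have h1 : 1 ≤ Nat.card M := Nat.card_pos
    haveI : Nontrivial (ι → F) := Fintype.one_lt_card_iff_nontrivial.1 (by omega)
    exact exists_ne 0
  have hLfield : IsField L :=
    { exists_pair_ne := ⟨0, 1, fun h => by
        have h1 : (0 : Matrix ι ι F) = 1 := congrArg Subtype.val h
        exact hv (by rw [← one_mulVec v, ← h1, zero_mulVec])⟩
      mul_comm := fun a b => Subtype.ext (hcomm _ (hLM a.2) _ (hLM b.2))
      mul_inv_cancel := fun {a} ha => by
        obtain ⟨y, hy, hy'⟩ := inv_mem_of_le M L hinv hcomm hLM a a.2 fun h => ha (Subtype.ext h)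
        exact ⟨⟨y, hy⟩, Subtype.ext hy'⟩ }
  letI : Field L := hLfield.toField
  letI : Module L (ι → F) :=
    { smul := fun l x => (l : Matrix ι ι F) *ᵥ x
      one_smul := fun x => one_mulVec x
      mul_smul := fun a b x => (mulVec_mulVec x (a : Matrix ι ι F) (b : Matrix ι ι F)).symm
      smul_zero := fun a => mulVec_zero _
      smul_add := fun a x y => mulVec_add _ x y
      add_smul := fun a b x => add_mulVec _ _ x
      zero_smul := fun x => zero_mulVec x }
  let Mv : Submodule L (ι → F) :=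
    { carrier := {y | ∃ m ∈ M, m *ᵥ v = y}
      add_mem' := by
        rintro _ _ ⟨a, ha, rfl⟩ ⟨b, hb, rfl⟩
        exact ⟨a + b, M.add_mem ha hb, add_mulVec a b v⟩
      zero_mem' := ⟨0, M.zero_mem, zero_mulVec v⟩
      smul_mem' := by
        rintro l _ ⟨a, ha, rfl⟩
        exact ⟨(l : Matrix ι ι F) * a, M.mul_mem (hLM l.2) ha, (mulVec_mulVec v _ _).symm⟩ }
  obtain ⟨x, hx⟩ : ∃ x, x ∉ Mv := by
    by_contra! hall
    have hs : Function.Surjective (fun m : M => (m : Matrix ι ι F) *ᵥ v) := fun y => by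
      obtain ⟨m, hm, h⟩ := hall y
      exact ⟨⟨m, hm⟩, h⟩
    have := Nat.card_le_card_of_surjective _ hs
    rw [Nat.card_eq_fintype_card (α := ι → F)] at this
    omega
  obtain ⟨φ₀, hφ₀, hker⟩ := Submodule.exists_dual_map_eq_bot_of_notMem hx inferInstance
  let φ : (ι → F) →ₗ[L] L := (φ₀ x)⁻¹ • φ₀
  have hφx : φ x = 1 := inv_mul_cancel₀ hφ₀
  have hφM : ∀ m ∈ M, φ (m *ᵥ v) = 0 := fun m hm => by
    have h0 : φ₀ (m *ᵥ v) = 0 := (Submodule.mem_bot (R := L)).1 (hker ▸ ⟨m *ᵥ v, ⟨m, hm, rfl⟩, rfl⟩)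
    show (φ₀ x)⁻¹ * φ₀ (m *ᵥ v) = 0
    rw [h0, mul_zero]
  have hφv : φ v = 0 := by simpa using hφM 1 M.one_mem
  have hscal : ∀ (c : F) (y : ι → F), c • y = (algebraMap F L c) • y := fun c y => by
    show c • y = (algebraMap F (Matrix ι ι F) c) *ᵥ y
    rw [Algebra.algebraMap_eq_smul_one, smul_mulVec, one_mulVec]
  let Nl : (ι → F) →ₗ[F] (ι → F) :=
    { toFun := fun y => φ y • v
      map_add' := fun a b => by rw [map_add, add_smul]
      map_smul' := fun c y => by rw [RingHom.id_apply, hscal c y, map_smul, hscal c, smul_assoc] }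
  let N : Matrix ι ι F := LinearMap.toMatrix' Nl
  have hN : ∀ y, N *ᵥ y = ((φ y : L) : Matrix ι ι F) *ᵥ v := fun y => by
    rw [← Matrix.toLin'_apply, Matrix.toLin'_toMatrix']
    rfl
  have hN2 : N * N = 0 := by
    apply Matrix.toLin'.injective
    refine LinearMap.ext fun y => ?_
    rw [Matrix.toLin'_apply, Matrix.toLin'_apply, ← mulVec_mulVec, hN, hN y, hφM _ (hLM (φ y).2)]
    simp
  let g : Matrix.GeneralLinearGroup ι F :=
    ⟨1 + N, 1 - N, by rw [add_mul, one_mul, mul_sub, hN2, mul_one]; abel,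
      by rw [sub_mul, one_mul, mul_add, hN2, mul_one]; abel⟩
  refine ⟨g, ?_, fun l hl => ?_, fun hgN => ?_⟩
  · refine MonoidHom.mem_ker.2 (Units.ext ?_)
    show (1 + N).det = 1
    obtain ⟨p, hp⟩ := CharP.exists F
    haveI := Fact.mk (CharP.char_is_prime F p)
    haveI : Nonempty ι := by
      by_contra h
      rw [not_nonempty_iff] at h
      exact hv (Subsingleton.elim _ _)
    have h1 : (1 + N) ^ p = 1 := by
      rw [add_pow_char_of_commute _ (Commute.one_left N), one_pow, add_eq_left]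
      obtain ⟨k, hk⟩ := Nat.exists_eq_add_of_le (CharP.char_is_prime F p).two_le
      rw [hk, pow_add, pow_two, hN2, zero_mul]
    have h2 := congrArg Matrix.det h1
    rw [det_pow, det_one] at h2
    exact (frobenius_inj F p) (by simpa [frobenius_def] using h2)
  · show (1 + N) * l = l * (1 + N)
    apply Matrix.toLin'.injective
    refine LinearMap.ext fun y => ?_
    simp only [Matrix.toLin'_apply, ← mulVec_mulVec, add_mulVec, one_mulVec, mulVec_add, hN]
    congr 1
    have := map_smul φ (⟨l, hl⟩ : L) y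
    rw [show l *ᵥ y = (⟨l, hl⟩ : L) • y from rfl, this]
    exact (mulVec_mulVec v l _).symm
  · obtain ⟨m, hm, hmL⟩ := SetLike.exists_of_lt (lt_of_le_of_ne hLM hne)
    have hm' := (hgN m).1 hm
    set m' := (g : Matrix ι ι F) * m * ((g⁻¹ : Matrix.GeneralLinearGroup ι F) : Matrix ι ι F) with hm'def
    have hgm : (g : Matrix ι ι F) * m = m' * (g : Matrix ι ι F) := by
      rw [hm'def, Units.inv_mul_cancel_right]
    have hfix : ∀ y, φ y = 0 → (g : Matrix ι ι F) *ᵥ y = y := fun y hy => by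
      show (1 + N) *ᵥ y = y
      rw [add_mulVec, one_mulVec, hN, hy]
      simp
    have heq : m' = m := by
      refine sub_eq_zero.1 (eq_zero_of_mulVec_eq_zero M hinv _ (M.sub_mem hm' hm) v hv ?_)
      rw [sub_mulVec, sub_eq_zero]
      have h := congrArg (· *ᵥ v) hgm
      simp only [← mulVec_mulVec, hfix _ hφv, hfix _ (hφM m hm)] at h
      exact h.symm
    rw [heq] at hgm
    have h := congrArg (· *ᵥ x) hgm
    have hgy : ∀ y, (g : Matrix ι ι F) *ᵥ y = y + ((φ y : L) : Matrix ι ι F) *ᵥ v := fun y => by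
      show (1 + N) *ᵥ y = _
      rw [add_mulVec, one_mulVec, hN]
    simp only [← mulVec_mulVec, hgy, hφx, mulVec_add] at h
    have h' : (((φ (m *ᵥ x) : L) : Matrix ι ι F) - m) *ᵥ v = 0 := by
      rw [sub_mulVec, sub_eq_zero]
      simpa using add_left_cancel h
    have := sub_eq_zero.1 (eq_zero_of_mulVec_eq_zero M hinv _ (M.sub_mem (hLM (φ _).2) hm) v hv h')
    exact hmL (this ▸ (φ (m *ᵥ x)).2)

theorem composite_not_maximal (r : ℕ) (hr1 : 1 < r) (hrp : ¬ r.Prime) (hlt : r < Fintype.card ι)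
    (K : Subalgebra F (Matrix ι ι F)) (hK : Cfsg.Geo.IsFieldSubalgebra r K) :
    ∃ N : Subgroup (Matrix.GeneralLinearGroup ι F),
      Cfsg.Geo.subalgebraNormalizer K ≤ N ∧
      (∃ g ∈ Cfsg.Geo.specialLinear ι F, g ∈ N ∧ g ∉ Cfsg.Geo.subalgebraNormalizer K) ∧
      ∃ g ∈ Cfsg.Geo.specialLinear ι F, g ∉ N := by
  classical
  haveI : Nonempty ι := Fintype.card_pos_iff.1 (by omega)
  set s := r.minFac
  have hs : s.Prime := Nat.minFac_prime (by omega)
  have hsr : s ∣ r := Nat.minFac_dvd r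
  have hslt : s < r := lt_of_le_of_ne (Nat.le_of_dvd (by omega) hsr) fun h => hrp (h ▸ hs)
  set q := Fintype.card F with hq
  have hq1 : 1 < q := Fintype.one_lt_card
  obtain ⟨p, hp⟩ := CharP.exists F
  haveI := Fact.mk (CharP.char_is_prime F p)
  obtain ⟨f, -, hf⟩ := FiniteField.card F p
  haveI : CharP (Matrix ι ι F) p := charP_of_injective_algebraMap (algebraMap F (Matrix ι ι F)).injective p
  let L : Subalgebra F (Matrix ι ι F) :=
    { carrier := {x | x ∈ K ∧ x ^ q ^ s = x}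
      one_mem' := ⟨K.one_mem, one_pow _⟩
      mul_mem' := fun {a b} ha hb => ⟨K.mul_mem ha.1 hb.1,
        by rw [Commute.mul_pow (hK.comm a ha.1 b hb.1), ha.2, hb.2]⟩
      zero_mem' := ⟨K.zero_mem, zero_pow (pow_ne_zero _ (by omega))⟩
      add_mem' := fun {a b} ha hb => ⟨K.add_mem ha.1 hb.1, by
        have ha2 := ha.2
        have hb2 := hb.2
        rw [hq, hf, ← pow_mul] at ha2 hb2 ⊢
        rw [add_pow_char_pow_of_commute _ _ (hK.comm a ha.1 b hb.1), ha2, hb2]⟩
      algebraMap_mem' := fun c => ⟨K.algebraMap_mem c, by rw [← map_pow, hq, FiniteField.pow_card_pow]⟩ }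
  have hLK : L ≤ K := fun x hx => hx.1
  have hfield : IsField K :=
    { exists_pair_ne := ⟨0, 1, fun h => zero_ne_one (α := Matrix ι ι F) (congrArg Subtype.val h)⟩
      mul_comm := fun a b => Subtype.ext (hK.comm _ a.2 _ b.2)
      mul_inv_cancel := fun {a} ha => by
        obtain ⟨y, hy, hy'⟩ := hK.inv a a.2 fun h => ha (Subtype.ext h)
        exact ⟨⟨y, hy⟩, Subtype.ext hy'⟩ }
  letI : Field K := hfield.toField
  haveI : Fintype K := Fintype.ofFinite K
  have hKcard : Fintype.card K = q ^ r := by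
    rw [Module.card_eq_pow_finrank (K := F), hK.finrank_eq, hq]
  have hne : L ≠ K := by
    intro h
    have hroot : ∀ a : K, a ^ q ^ s = a := fun a => Subtype.ext ((h.ge a.2).2)
    have h1 : (Finset.univ : Finset K).card ≤ q ^ s := by
      have hQ : 1 < q ^ s := Nat.one_lt_pow hs.ne_zero hq1
      have := Polynomial.card_le_degree_of_subset_roots (R := K) (p := Polynomial.X ^ q ^ s - Polynomial.X)
        (Z := (Finset.univ : Finset K)) (fun a _ => by
          rw [Polynomial.mem_roots (FiniteField.X_pow_card_sub_X_ne_zero K hQ)]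
          simp [hroot a])
      rwa [FiniteField.X_pow_card_sub_X_natDegree_eq K hQ] at this
    rw [Finset.card_univ, hKcard] at h1
    exact absurd ((Nat.pow_le_pow_iff_right hq1).1 h1) (not_le.2 hslt)
  have hbot : (⊥ : Subalgebra F (Matrix ι ι F)) ≠ L := by
    intro h
    obtain ⟨γ, hγ⟩ := IsCyclic.exists_generator (α := Kˣ)
    have hord : orderOf γ = q ^ r - 1 := by
      rw [orderOf_eq_card_of_forall_mem_zpowers hγ, Nat.card_units, Nat.card_eq_fintype_card, hKcard]
    obtain ⟨k, hk⟩ : q ^ s - 1 ∣ q ^ r - 1 := Nat.pow_sub_one_dvd_pow_sub_one q hsr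
    have hQ : q ≤ q ^ s := Nat.le_self_pow hs.ne_zero q
    have hk0 : k ≠ 0 := by
      rintro rfl
      have := Nat.one_lt_pow (show r ≠ 0 by omega) hq1
      omega
    have hpow : (γ ^ k) ^ (q ^ s - 1) = 1 := by
      rw [← pow_mul, mul_comm, ← hk, ← hord, pow_orderOf_eq_one]
    have hmem : ((γ ^ k : Kˣ) : K).1 ∈ L := by
      refine ⟨((γ ^ k : Kˣ) : K).2, ?_⟩
      have h1 : ((γ ^ k : Kˣ) : K) ^ q ^ s = (γ ^ k : Kˣ) := by
        conv_lhs => rw [show q ^ s = q ^ s - 1 + 1 by omega, pow_succ, ← Units.val_pow_eq_pow_val, hpow, Units.val_one,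
          one_mul]
      exact congrArg Subtype.val h1
    rw [← h, Algebra.mem_bot] at hmem
    obtain ⟨c, hc⟩ := hmem
    have hc0 : c ≠ 0 := by
      rintro rfl
      rw [map_zero] at hc
      exact (γ ^ k : Kˣ).ne_zero (Subtype.ext hc.symm)
    have h1 : (γ ^ k) ^ (q - 1) = 1 := by
      refine Units.ext (Subtype.ext ?_)
      rw [Units.val_pow_eq_pow_val, SubmonoidClass.coe_pow, ← hc, ← map_pow, hq,
        FiniteField.pow_card_sub_one_eq_one c hc0, map_one]
      rfl
    rw [← pow_mul] at h1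
    have hd := orderOf_dvd_of_pow_eq_one h1
    rw [hord, hk, mul_comm (q ^ s - 1) k] at hd
    have h2 := Nat.le_of_dvd (by omega) (Nat.dvd_of_mul_dvd_mul_left (Nat.pos_of_ne_zero hk0) hd)
    have := Nat.pow_lt_pow_right hq1 hs.one_lt
    rw [pow_one] at this
    omega
  have hsmall : Nat.card K < Fintype.card (ι → F) := by
    rw [Nat.card_eq_fintype_card, hKcard, Fintype.card_fun, ← hq]
    exact Nat.pow_lt_pow_right hq1 hlt
  have hconj : ∀ g ∈ Cfsg.Geo.subalgebraNormalizer K, ∀ k ∈ L,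
      (g : Matrix ι ι F) * k * ((g⁻¹ : Matrix.GeneralLinearGroup ι F) : Matrix ι ι F) ∈ L := by
    intro g hg k hk
    exact ⟨(hg k).1 hk.1, by rw [Units.conj_pow, hk.2]⟩
  refine ⟨Cfsg.Geo.subalgebraNormalizer L, fun g hg k => ⟨hconj g hg k, fun h => ?_⟩, ?_, ?_⟩
  · have := hconj g⁻¹ (inv_mem hg) _ h
    simpa [mul_assoc] using this
  · obtain ⟨g, hgS, hgc, hgn⟩ := exists_centralize_not_normalize K L hK.inv hK.comm hLK hne hsmall
    refine ⟨g, hgS, fun k => ⟨fun hk => ?_, fun hk => ?_⟩, hgn⟩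
    · rw [hgc k hk, Units.mul_inv_cancel_right]
      exact hk
    · have h := hgc _ hk
      have h2 : (g : Matrix ι ι F) * k * ((g⁻¹ : Matrix.GeneralLinearGroup ι F) : Matrix ι ι F) = k := by
        rw [Units.inv_mul_cancel_right] at h
        exact (Units.mul_right_inj g).1 h
      rwa [h2] at hk
  · obtain ⟨g, hgS, -, hgn⟩ := exists_centralize_not_normalize L ⊥ (inv_mem_of_le K L hK.inv hK.comm hLK)
      (fun x hx y hy => hK.comm x (hLK hx) y (hLK hy)) bot_le hbot
      (lt_of_le_of_lt (Nat.card_le_card_of_injective _ (Subalgebra.inclusion_injective hLK)) hsmall)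
    exact ⟨g, hgS, hgn⟩

end CfsgLib.Geo
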