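/-
Tools for maximality of stabilisers in `Ω`: Eichler root groups inside a stabiliser, and the passage
from linear automorphisms to matrices.
-/
import Cfsg.Agent.Lib.Classical.Quad.SiegelMatrix
import Cfsg.Agent.Lib.Classical.Quad.StandardForms
import Cfsg.Prelude.Def_GeometricClasses

set_option autoImplicit false

namespace CfsgLib.Geo.OrthMax

open CfsgLib.Classical CfsgLib.Classical.Quad
open QuadraticMap (polar polarBilin)

variable {F : Type*} [Field F] {V : Type*} [AddCommGroup V] [Module F V] [FiniteDimensional F V]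
  {Q : QuadraticForm F V}

/-- The stabiliser of a subspace in the isometry group. -/
abbrev oStab (Q : QuadraticForm F V) (W : Submodule F V) : Subgroup (OQ Q) :=
  isoStab (fun u _ => Q u) W

theorem mem_oStab_of_maps {W : Submodule F V} {g : OQ Q}
    (hg : ∀ x ∈ W, (g : V ≃ₗ[F] V) x ∈ W) : g ∈ oStab Q W := by
  intro x
  refine ⟨hg x, fun hx => ?_⟩
  obtain ⟨⟨w, hw⟩, hw'⟩ := LinearMap.injective_iff_surjective.1
    (show Function.Injective (((g : V ≃ₗ[F] V) : V →ₗ[F] V).restrict hg) from fun a b hab =>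
      Subtype.ext ((g : V ≃ₗ[F] V).injective (congrArg Subtype.val hab))) ⟨_, hx⟩
  rwa [← (g : V ≃ₗ[F] V).injective (congrArg Subtype.val hw')]

/-- The orthogonal complement for the polar form. -/
abbrev perp (Q : QuadraticForm F V) (W : Submodule F V) : Submodule F V :=
  LinearMap.BilinForm.orthogonal (polarBilin Q) W

theorem mem_perp {W : Submodule F V} {x : V} : x ∈ perp Q W ↔ ∀ w ∈ W, polar Q w x = 0 := Iff.rfl

theorem perp_left {W : Submodule F V} {x w : V} (hx : x ∈ perp Q W) (hw : w ∈ W) :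
    polar Q x w = 0 := by
  rw [QuadraticMap.polar_comm]
  exact hx w hw

variable (hQ : (polarBilin Q).Nondegenerate)
include hQ

theorem perp_perp (W : Submodule F V) : perp Q (perp Q W) = W :=
  LinearMap.BilinForm.orthogonal_orthogonal hQ (fun a b h => by
    show polar Q b a = 0
    rw [QuadraticMap.polar_comm]
    exact h) W

theorem finrank_perp (W : Submodule F V) :
    Module.finrank F (perp Q W) = Module.finrank F V - Module.finrank F W :=
  LinearMap.BilinForm.finrank_orthogonal hQ W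

variable [Finite F]

/-- The part of a subgroup of the isometry group inside `Ω`. -/
abbrev stab (W : Submodule F V) : Subgroup (OQ Q) := oStab Q W ⊓ eichGroup hQ

/-- The Eichler transformation of `(w, a)` lies in `K`. -/
def Has (K : Subgroup (OQ Q)) (w a : V) : Prop :=
  ∀ (hw : Q w = 0) (ha : polar Q w a = 0), eich hQ hw ha ∈ K

/-- The whole root group of `w` lies in `K`. -/
def HasRoot (K : Subgroup (OQ Q)) (w : V) : Prop := ∀ a, Has hQ K w a

variable {K : Subgroup (OQ Q)}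

omit [Finite F] in
theorem Has.conj {g : OQ Q} (hg : g ∈ K) {w a : V} (h : Has hQ K w a) :
    Has hQ K ((g : V ≃ₗ[F] V) w) ((g : V ≃ₗ[F] V) a) := by
  intro hw ha
  have hw' : Q w = 0 := by rwa [OQ.map_apply] at hw
  have ha' : polar Q w a = 0 := by rwa [OQ.map_polar] at ha
  rw [← eich_conj hQ g hw' ha']
  exact K.mul_mem (K.mul_mem hg (h hw' ha')) (K.inv_mem hg)

omit [Finite F] in
theorem HasRoot.conj {g : OQ Q} (hg : g ∈ K) {w : V} (h : HasRoot hQ K w) :
    HasRoot hQ K ((g : V ≃ₗ[F] V) w) := by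
  intro a
  obtain ⟨a', rfl⟩ := (g : V ≃ₗ[F] V).surjective a
  exact (h a').conj hQ hg

omit [Finite F] in
theorem Has.smul_left {w a : V} {c : F} (hc : c ≠ 0) (h : Has hQ K (c • w) a) :
    Has hQ K w (c • a) := by
  intro hw ha
  have ha' : polar Q w a = 0 := by
    rw [polar_smul_right'] at ha
    exact (mul_eq_zero.1 ha).resolve_left hc
  rw [← eich_smul_left hQ hw ha' c]
  exact h _ _

omit [Finite F] in
theorem HasRoot.of_smul {w : V} {c : F} (hc : c ≠ 0) (h : HasRoot hQ K (c • w)) :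
    HasRoot hQ K w := fun a => by
  have := (h (c⁻¹ • a)).smul_left hQ hc
  rwa [smul_inv_smul₀ hc] at this

omit [Finite F] in
theorem Has.swap {w a : V} (hqw : Q w = 0) (h : Has hQ K a (-w)) (hqa : Q a = 0) : Has hQ K w a := by
  intro hw ha
  rw [eich_swap hQ hw ha hqa]
  exact h _ _

omit [Finite F] in
theorem Has.add {w a b : V} (ha : Has hQ K w a) (hb : Has hQ K w b) (hpa : polar Q w a = 0) :
    Has hQ K w (a + b) := by
  intro hw hab
  have hpb : polar Q w b = 0 := by rwa [polar_add_right', hpa, zero_add] at hab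
  rw [← eich_mul hQ hw hpa hpb]
  exact K.mul_mem (ha hw hpa) (hb hw hpb)

theorem le_of_has (hn : 5 ≤ Module.finrank F V)
    (h : ∀ w a, Q w = 0 → Q a = 0 → polar Q w a = 0 → Has hQ K w a) : eichGroup hQ ≤ K := by
  refine (Subgroup.closure_le K).2 ?_
  rintro _ ⟨w, a, hw, ha, hqa, rfl⟩
  exact h w a hw hqa ha hw ha

/-- Eichler transformations in the stabiliser of `W`. -/
theorem has_stab (hn : 5 ≤ Module.finrank F V) {W : Submodule F V} (hK : stab hQ W ≤ K) {w a : V}
    (h : w ∈ W ∧ a ∈ W ∨ w ∈ perp Q W ∧ a ∈ perp Q W) : Has hQ K w a := by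
  intro hw ha
  refine hK ⟨mem_oStab_of_maps fun x hx => ?_, eich_mem hQ hn hw ha⟩
  rw [eich_apply]
  rcases h with ⟨h1, h2⟩ | ⟨h1, h2⟩
  · exact W.add_mem (W.add_mem hx (W.smul_mem _ h1)) (W.smul_mem _ h2)
  · simp [mem_perp.1 h1 x hx, mem_perp.1 h2 x hx, hx]

theorem eichGroup_inv_stab_ne {W : Submodule F V} {g : OQ Q} (hg : g ∈ eichGroup hQ) {x : V}
    (hx : x ∈ W) (hgx : (g : V ≃ₗ[F] V) x ∉ W) : stab hQ W ≠ eichGroup hQ :=
  fun e => hgx (((e.ge hg).1 x).1 hx)

end CfsgLib.Geo.OrthMax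

namespace CfsgLib.Geo.OrthMax

open CfsgLib.Classical CfsgLib.Classical.Quad
open QuadraticMap (polar polarBilin)

variable {F : Type*} [Field F] [Finite F] {ι : Type} [Fintype ι] [DecidableEq ι]

theorem exists_quadraticForm {f : (ι → F) → F} (hf : Cfsg.Geo.IsNondegenerateQuadraticForm f) :
    ∃ Q : QuadraticForm F (ι → F), ⇑Q = f ∧ (polarBilin Q).Nondegenerate := by
  have hb := hf.polar_bilinear
  have hn := hf.nondegenerate
  let Q : QuadraticForm F (ι → F) := QuadraticMap.ofPolar f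
    (fun a x => by rw [hf.smul, smul_eq_mul]; ring)
    (fun x x' y => hb.add_left x x' y)
    (fun a x y => (hb.smul_left a x y).trans (smul_eq_mul a _).symm)
  refine ⟨Q, rfl, nondegenerate_of_left fun v hv => ?_⟩
  by_contra hv0
  obtain ⟨w, hw⟩ := (hn v hv0).1
  exact hw ((QuadraticMap.polar_comm _ _ _).trans (hv w))

theorem isMaximalIn_omega {Q : QuadraticForm F (ι → F)} (hQ : (polarBilin Q).Nondegenerate)
    (hn : 5 ≤ Fintype.card ι) (W : Submodule F (ι → F))
    (hne : stab hQ W ≠ eichGroup hQ)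
    (hmax : ∀ K : Subgroup (OQ Q), stab hQ W < K → K ≤ eichGroup hQ → eichGroup hQ ≤ K) :
    Cfsg.Geo.IsMaximalIn (Cfsg.Geo.omegaGL (⇑Q))
      (Cfsg.Geo.subspaceStabilizer W ⊓ Cfsg.Geo.omegaGL (⇑Q)) := by
  have hn' : 5 ≤ Module.finrank F (ι → F) := by rwa [Module.finrank_pi]
  let e := oEquiv Q
  have hΩ : ∀ g : Cfsg.isometryGroup F (⇑Q),
      (g : Matrix.GeneralLinearGroup ι F) ∈ Cfsg.Geo.omegaGL (⇑Q) ↔ e g ∈ eichGroup hQ := by
    intro g
    have hmap : (commutator ↥(Cfsg.isometryGroup F (⇑Q))).map e.toMonoidHom = commutator (OQ Q) := by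
      rw [commutator_def, commutator_def, Subgroup.map_commutator,
        Subgroup.map_top_of_surjective _ e.surjective]
    rw [eichGroup_eq_commutator hQ hn', ← hmap, Subgroup.mem_map_equiv, MulEquiv.symm_apply_apply]
    exact ⟨fun ⟨g', hg', hgg⟩ => by rw [← Subtype.ext hgg]; exact hg', fun h => ⟨g, h, rfl⟩⟩
  have hmem : ∀ x, x ∈ Cfsg.Geo.omegaGL (⇑Q) → x ∈ Cfsg.isometryGroup F (⇑Q) := by
    rintro _ ⟨g, -, rfl⟩
    exact g.2
  have hin : ∀ g : Cfsg.isometryGroup F (⇑Q),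
      (g : Matrix.GeneralLinearGroup ι F) ∈
        Cfsg.Geo.subspaceStabilizer W ⊓ Cfsg.Geo.omegaGL (⇑Q) ↔ e g ∈ stab hQ W := fun g =>
    ⟨fun hg => ⟨hg.1, (hΩ g).1 hg.2⟩, fun hg => ⟨hg.1, (hΩ g).2 hg.2⟩⟩
  refine ⟨lt_of_le_of_ne inf_le_right fun he => hne ?_, fun M hM hMS => ?_⟩
  · refine le_antisymm inf_le_right fun x hx => ?_
    obtain ⟨g, rfl⟩ := e.surjective x
    exact (hin g).1 (he.ge ((hΩ g).2 hx))
  set K := (M.subgroupOf (Cfsg.isometryGroup F (⇑Q))).map e.toMonoidHom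
  have hmK : ∀ g : Cfsg.isometryGroup F (⇑Q), e g ∈ K ↔ (g : Matrix.GeneralLinearGroup ι F) ∈ M :=
    fun g => by
      rw [Subgroup.mem_map_equiv, MulEquiv.symm_apply_apply, Subgroup.mem_subgroupOf]
  have hSK : stab hQ W ≤ K := fun x hx => by
    obtain ⟨g, rfl⟩ := e.surjective x
    exact (hmK g).2 (hM ((hin g).2 hx))
  have hKE : K ≤ eichGroup hQ := fun x hx => by
    obtain ⟨g, rfl⟩ := e.surjective x
    exact (hΩ g).1 (hMS ((hmK g).1 hx))
  rcases eq_or_lt_of_le hSK with h1 | h1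
  · refine Or.inl (le_antisymm (fun x hx => ?_) hM)
    exact (hin ⟨x, hmem x (hMS hx)⟩).2 (h1.ge ((hmK ⟨x, _⟩).2 hx))
  · refine Or.inr (le_antisymm hMS fun x hx => ?_)
    exact (hmK ⟨x, hmem x hx⟩).1 (hmax K h1 hKE ((hΩ ⟨x, _⟩).1 hx))

end CfsgLib.Geo.OrthMax
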