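/-
Transvections lying in a subgroup of GL: closure rules for the pairs (functional, centre).
-/
import Cfsg.Agent.Lib.Geo.SubspaceMaximal

set_option autoImplicit false

namespace CfsgLib.Geo.Roots

open Matrix

variable {ι : Type} [Fintype ι] [DecidableEq ι] {F : Type*} [Field F]
  {K : Subgroup (Matrix.GeneralLinearGroup ι F)}

/-- The transvection `x ↦ x + (φ ⬝ x) u` lies in `K`. -/
def Root (K : Subgroup (Matrix.GeneralLinearGroup ι F)) (φ u : ι → F) : Prop :=
  ∃ h : φ ⬝ᵥ u = 0, transvectionGL φ u h ∈ K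

theorem Root.dot {φ u : ι → F} (h : Root K φ u) : φ ⬝ᵥ u = 0 := h.1

theorem ext_mulVec {g g' : Matrix.GeneralLinearGroup ι F}
    (h : ∀ x, (g : Matrix ι ι F) *ᵥ x = (g' : Matrix ι ι F) *ᵥ x) : g = g' :=
  Units.ext (Matrix.toLin'.injective (LinearMap.ext fun x => by simpa using h x))

theorem Root.zero (u : ι → F) : Root K 0 u := by
  refine ⟨zero_dotProduct u, ?_⟩
  convert K.one_mem using 1
  refine ext_mulVec fun x => ?_
  rw [transvectionGL_mulVec, zero_dotProduct, zero_smul, add_zero, Units.val_one, Matrix.one_mulVec]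

theorem Root.add {φ ψ u : ι → F} (h₁ : Root K φ u) (h₂ : Root K ψ u) : Root K (φ + ψ) u := by
  obtain ⟨e₁, m₁⟩ := h₁
  obtain ⟨e₂, m₂⟩ := h₂
  refine ⟨by rw [add_dotProduct, e₁, e₂, add_zero], ?_⟩
  convert K.mul_mem m₁ m₂ using 1
  refine ext_mulVec fun x => ?_
  rw [Units.val_mul, ← Matrix.mulVec_mulVec, transvectionGL_mulVec, transvectionGL_mulVec,
    transvectionGL_mulVec, dotProduct_add, dotProduct_smul, e₁, smul_zero, add_zero, add_dotProduct]
  module

theorem Root.neg {φ u : ι → F} (h₁ : Root K φ u) : Root K (-φ) u := by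
  obtain ⟨e₁, m₁⟩ := h₁
  refine ⟨by rw [neg_dotProduct, e₁, neg_zero], ?_⟩
  convert K.inv_mem m₁ using 1
  refine (eq_inv_of_mul_eq_one_left (ext_mulVec fun x => ?_))
  rw [Units.val_mul, ← Matrix.mulVec_mulVec, transvectionGL_mulVec, transvectionGL_mulVec, dotProduct_add,
    dotProduct_smul, neg_dotProduct, neg_dotProduct, e₁, neg_zero, smul_zero, add_zero, Units.val_one,
    Matrix.one_mulVec]
  module

theorem Root.sub {φ ψ u : ι → F} (h₁ : Root K φ u) (h₂ : Root K ψ u) : Root K (φ - ψ) u := by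
  rw [sub_eq_add_neg]
  exact h₁.add h₂.neg

theorem root_smul_iff {φ u : ι → F} {c : F} (hc : c ≠ 0) : Root K φ (c • u) ↔ Root K (c • φ) u := by
  have hd : φ ⬝ᵥ (c • u) = 0 ↔ (c • φ) ⬝ᵥ u = 0 := by rw [dotProduct_smul, smul_dotProduct]
  have heq : ∀ (h : φ ⬝ᵥ (c • u) = 0) (h' : (c • φ) ⬝ᵥ u = 0),
      transvectionGL φ (c • u) h = transvectionGL (c • φ) u h' := fun h h' => ext_mulVec fun x => by
    rw [transvectionGL_mulVec, transvectionGL_mulVec, smul_dotProduct, smul_smul, smul_eq_mul, mul_comm]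
  constructor
  · rintro ⟨h, m⟩
    exact ⟨hd.1 h, heq h (hd.1 h) ▸ m⟩
  · rintro ⟨h, m⟩
    exact ⟨hd.2 h, (heq (hd.2 h) h).symm ▸ m⟩

theorem Root.conj {φ u : ι → F} (h : Root K φ u) {g : Matrix.GeneralLinearGroup ι F} (hg : g ∈ K) :
    Root K (φ ᵥ* ((g⁻¹ : Matrix.GeneralLinearGroup ι F) : Matrix ι ι F)) ((g : Matrix ι ι F) *ᵥ u) := by
  obtain ⟨e, m⟩ := h
  refine ⟨by rw [← Matrix.dotProduct_mulVec, Matrix.mulVec_mulVec, Units.inv_mul, Matrix.one_mulVec, e], ?_⟩
  convert K.mul_mem (K.mul_mem hg m) (K.inv_mem hg) using 1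
  refine ext_mulVec fun x => ?_
  rw [transvectionGL_mulVec, Units.val_mul, Units.val_mul, ← Matrix.mulVec_mulVec, ← Matrix.mulVec_mulVec,
    transvectionGL_mulVec, Matrix.mulVec_add, Matrix.mulVec_smul, Matrix.dotProduct_mulVec,
    Matrix.mulVec_mulVec, Units.mul_inv, Matrix.one_mulVec]

/-- The commutator of two transvections, the functional of the first vanishing on the centre of the second. -/
theorem Root.comm {φ u ψ v : ι → F} (h₁ : Root K φ u) (h₂ : Root K ψ v) (h : φ ⬝ᵥ v = 0) :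
    Root K (-(ψ ⬝ᵥ u) • φ) v := by
  obtain ⟨e₁, m₁⟩ := h₁
  obtain ⟨e₂, m₂⟩ := h₂
  refine ⟨by rw [smul_dotProduct, h, smul_zero], ?_⟩
  convert K.mul_mem (K.mul_mem (K.mul_mem m₁ m₂) (K.inv_mem m₁)) (K.inv_mem m₂) using 1
  rw [eq_mul_inv_iff_mul_eq, eq_mul_inv_iff_mul_eq]
  refine ext_mulVec fun x => ?_
  simp only [Units.val_mul, ← Matrix.mulVec_mulVec, transvectionGL_mulVec, dotProduct_add, dotProduct_smul,
    smul_dotProduct, e₁, e₂, h, smul_eq_mul]
  match_scalars <;> ring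

theorem specialLinear_le [Nontrivial ι] (h : ∀ φ u : ι → F, φ ⬝ᵥ u = 0 → Root K φ u) :
    Cfsg.Geo.specialLinear ι F ≤ K :=
  specialLinear_le_of_centres K fun u φ hφ => (h φ u hφ).2

/-- The functional `x ↦ f u x` of a bilinear form, as a vector. -/
def fvec (f : (ι → F) → (ι → F) → F) (u : ι → F) : ι → F := fun j => f u (Pi.single j 1)

theorem fvec_dot {f : (ι → F) → (ι → F) → F} (hf : Cfsg.Geo.IsBilinearForm f) (u x : ι → F) :
    fvec f u ⬝ᵥ x = f u x := by
  let L : (ι → F) →ₗ[F] F :=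
    { toFun := f u
      map_add' := hf.add_right u
      map_smul' := fun c y => hf.smul_right c u y }
  show _ = L x
  conv_rhs => rw [pi_eq_sum_univ' x]
  rw [map_sum]
  refine Finset.sum_congr rfl fun j _ => ?_
  rw [map_smul, smul_eq_mul, mul_comm]
  rfl

theorem eq_of_dot {φ ψ : ι → F} (h : ∀ x, φ ⬝ᵥ x = ψ ⬝ᵥ x) : φ = ψ := by
  funext j
  simpa using h (Pi.single j 1)

end CfsgLib.Geo.Roots
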