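/-
Symplectic similitude groups are maximal in SL: a transvection outside the group produces all transvections.
-/
import Cfsg.Agent.Lib.Geo.Roots

set_option autoImplicit false

namespace CfsgLib.Geo.Roots

open Matrix

variable {ι : Type} [Fintype ι] [DecidableEq ι] {F : Type*} [Field F]
  {f : (ι → F) → (ι → F) → F}

theorem fvec_add (hf : Cfsg.Geo.IsBilinearForm f) (u v : ι → F) : fvec f (u + v) = fvec f u + fvec f v :=
  funext fun _ => hf.add_left _ _ _

theorem fvec_smul (hf : Cfsg.Geo.IsBilinearForm f) (c : F) (u : ι → F) : fvec f (c • u) = c • fvec f u :=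
  funext fun _ => hf.smul_left _ _ _

theorem eq_smul_of_perp (hf : Cfsg.Geo.IsSymplecticForm f) {v x : ι → F} (hv : v ≠ 0)
    (h : ∀ w, f w v = 0 → f w x = 0) : ∃ c : F, x = c • v := by
  obtain ⟨z, hz⟩ := (hf.nondegenerate v hv).1
  refine ⟨f z x / f z v, ?_⟩
  by_contra hne
  obtain ⟨w, hw⟩ := (hf.nondegenerate (x - (f z x / f z v) • v) (sub_ne_zero.2 hne)).1
  refine hw ?_
  have h1 := h (w - (f w v / f z v) • z) (by
    rw [sub_eq_add_neg, ← neg_smul, hf.bilinear.add_left, hf.bilinear.smul_left]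
    field_simp; ring)
  rw [sub_eq_add_neg, ← neg_smul, hf.bilinear.add_left, hf.bilinear.smul_left] at h1
  rw [sub_eq_add_neg, ← neg_smul, hf.bilinear.add_right, hf.bilinear.smul_right]
  linear_combination h1

theorem exists_both (hf : Cfsg.Geo.IsSymplecticForm f) {v u : ι → F} (hv : v ≠ 0) (hu : u ≠ 0) :
    ∃ z, f v z ≠ 0 ∧ f u z ≠ 0 := by
  obtain ⟨a, ha⟩ := (hf.nondegenerate v hv).2
  obtain ⟨b, hb⟩ := (hf.nondegenerate u hu).2
  by_cases h1 : f u a = 0
  · by_cases h2 : f v b = 0
    · exact ⟨a + b, by rw [hf.bilinear.add_right, h2, add_zero]; exact ha,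
        by rw [hf.bilinear.add_right, h1, zero_add]; exact hb⟩
    · exact ⟨b, h2, hb⟩
  · exact ⟨a, ha, h1⟩

theorem root_mem_similitude (hf : Cfsg.Geo.IsSymplecticForm f) (t : F) (u : ι → F)
    (h : (t • fvec f u) ⬝ᵥ u = 0) :
    transvectionGL (t • fvec f u) u h ∈ Cfsg.Geo.similarityGroup f ⊓ Cfsg.Geo.specialLinear ι F := by
  refine ⟨⟨1, fun a b => ?_⟩, transvectionGL_mem_specialLinear _ _ _⟩
  simp only [transvectionGL_mulVec, smul_dotProduct, fvec_dot hf.bilinear, smul_eq_mul,
    hf.bilinear.add_left, hf.bilinear.add_right, hf.bilinear.smul_left, hf.bilinear.smul_right,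
    hf.alternating, Units.val_one]
  rw [hf.skew a u]
  ring

/-- Similitudes of a non-degenerate alternating form are maximal in SL. -/
theorem isMaximalIn_similitude [Finite F] (hf : Cfsg.Geo.IsSymplecticForm f) (hn : 3 ≤ Fintype.card ι) :
    Cfsg.Geo.IsMaximalIn (Cfsg.Geo.specialLinear ι F)
      (Cfsg.Geo.similarityGroup f ⊓ Cfsg.Geo.specialLinear ι F) := by
  haveI : Nontrivial ι := Fintype.one_lt_card_iff_nontrivial.1 (by omega)
  let Φ : (ι → F) →ₗ[F] (ι → F) :=
    { toFun := fvec f
      map_add' := fvec_add hf.bilinear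
      map_smul' := fvec_smul hf.bilinear }
  have hΦ : Function.Injective Φ := by
    rw [injective_iff_map_eq_zero]
    intro u hu
    by_contra h0
    obtain ⟨x, hx⟩ := (hf.nondegenerate u h0).2
    exact hx (by rw [← fvec_dot hf.bilinear, show fvec f u = 0 from hu, zero_dotProduct])
  have hsurj := LinearMap.injective_iff_surjective.1 hΦ
  refine ⟨lt_of_le_of_ne inf_le_right fun heq => ?_, fun M hM hMS => ?_⟩
  · obtain ⟨i⟩ := (inferInstance : Nonempty ι)
    have hv : (Pi.single i 1 : ι → F) ≠ 0 := fun h => by simpa using congrFun h i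
    set v : ι → F := Pi.single i 1
    let L : (ι → F) →ₗ[F] F :=
      { toFun := f v, map_add' := hf.bilinear.add_right v, map_smul' := fun c y => hf.bilinear.smul_right c v y }
    obtain ⟨x, hx, hxv⟩ : ∃ x, f v x = 0 ∧ x ∉ Submodule.span F {v} := by
      by_contra! hc
      have h1 : LinearMap.ker L ≤ Submodule.span F {v} := fun x hx => hc x hx
      have h2 := Submodule.finrank_mono h1
      rw [finrank_span_singleton hv] at h2
      have h3 := LinearMap.finrank_range_add_finrank_ker L
      have h4 := Submodule.finrank_le (LinearMap.range L)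
      rw [Module.finrank_pi] at h3
      rw [Module.finrank_self] at h4
      omega
    have hd : fvec f x ⬝ᵥ v = 0 := by rw [fvec_dot hf.bilinear, hf.skew, hx, neg_zero]
    obtain ⟨c, hc⟩ := (heq.ge (transvectionGL_mem_specialLinear _ _ hd)).1
    obtain ⟨a, ha⟩ := (hf.nondegenerate v hv).2
    obtain ⟨b, hb, hb'⟩ : ∃ b, f b v = 0 ∧ f b x ≠ 0 := by
      by_contra! h
      obtain ⟨k, hk⟩ := eq_smul_of_perp hf hv h
      exact hxv (hk ▸ Submodule.smul_mem _ k (Submodule.mem_span_singleton_self v))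
    have h1 := hc v a
    have h2 := hc a b
    simp only [transvectionGL_mulVec, fvec_dot hf.bilinear, hf.bilinear.add_left, hf.bilinear.add_right,
      hf.bilinear.smul_left, hf.bilinear.smul_right, hf.alternating] at h1 h2
    have hxv0 : f x v = 0 := by rw [hf.skew, hx, neg_zero]
    rw [hxv0] at h1
    have hc1 : (c : F) = 1 := by
      have : ((c : F) - 1) * f v a = 0 := by linear_combination -h1
      exact sub_eq_zero.1 ((mul_eq_zero.1 this).resolve_right ha)
    rw [hc1, hf.skew v b, hb] at h2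
    have h3 : f x b * f a v = 0 := by linear_combination h2
    rcases mul_eq_zero.1 h3 with h | h
    · exact hb' (by rw [hf.skew, h, neg_zero])
    · exact ha (by rw [hf.skew, h, neg_zero])
  refine (eq_or_lt_of_le hM).imp Eq.symm fun hlt => le_antisymm hMS ?_
  have hroot : ∀ (t : F) u, Root M (t • fvec f u) u := fun t u => by
    have h : (t • fvec f u) ⬝ᵥ u = 0 := by
      rw [smul_dotProduct, fvec_dot hf.bilinear, hf.alternating, smul_zero]
    exact ⟨h, hM (root_mem_similitude hf t u h)⟩
  obtain ⟨g, hgM, hgn⟩ := SetLike.exists_of_lt hlt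
  -- a full root outside the similitude group
  obtain ⟨v, x, hv, hxv, hfx⟩ : ∃ v x, v ≠ 0 ∧ x ∉ Submodule.span F {v} ∧ ∀ t : F, Root M (t • fvec f x) v := by
    by_contra! hcon
    apply hgn
    refine ⟨?_, hMS hgM⟩
    set gi := ((g⁻¹ : Matrix.GeneralLinearGroup ι F) : Matrix ι ι F) with hgi
    have hd : ∀ u, ∃ d : F, ∀ y, f ((g : Matrix ι ι F) *ᵥ u) ((g : Matrix ι ι F) *ᵥ y) = d * f u y := by
      intro u
      rcases eq_or_ne u 0 with rfl | hu
      · refine ⟨0, fun y => ?_⟩
        rw [Matrix.mulVec_zero, ← zero_smul F (0 : ι → F), hf.bilinear.smul_left, zero_mul, zero_mul]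
      have hgu : (g : Matrix ι ι F) *ᵥ u ≠ 0 := fun h => hu (by
        have := congrArg (gi *ᵥ ·) h
        simpa [gi, Matrix.mulVec_mulVec] using this)
      obtain ⟨x, hx⟩ := hsurj (fvec f u ᵥ* gi)
      have hxs : x ∈ Submodule.span F {(g : Matrix ι ι F) *ᵥ u} := by
        by_contra hnot
        obtain ⟨t, ht⟩ := hcon _ x hgu hnot
        refine ht ?_
        have := (hroot t u).conj hgM
        rwa [Matrix.smul_vecMul, ← hgi, ← hx] at this
      obtain ⟨k, hk⟩ := Submodule.mem_span_singleton.1 hxs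
      have key : ∀ y, k * f ((g : Matrix ι ι F) *ᵥ u) ((g : Matrix ι ι F) *ᵥ y) = f u y := by
        intro y
        have e : fvec f x ⬝ᵥ ((g : Matrix ι ι F) *ᵥ y) = (fvec f u ᵥ* gi) ⬝ᵥ ((g : Matrix ι ι F) *ᵥ y) := by
          rw [← hx]; rfl
        rw [← Matrix.dotProduct_mulVec, hgi, Matrix.mulVec_mulVec, Units.inv_mul, Matrix.one_mulVec,
          fvec_dot hf.bilinear, fvec_dot hf.bilinear, ← hk, hf.bilinear.smul_left] at e
        exact e
      have hk0 : k ≠ 0 := fun h => by
        obtain ⟨y, hy⟩ := (hf.nondegenerate u hu).2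
        exact hy (by rw [← key, h, zero_mul])
      exact ⟨k⁻¹, fun y => by rw [← key y, inv_mul_cancel_left₀ hk0]⟩
    choose d hd using hd
    have hsame : ∀ u w, f u w ≠ 0 → d u = d w := by
      intro u w hne
      have h := hd u w
      rw [hf.skew, hd w u, hf.skew w u, mul_neg, neg_neg] at h
      exact (mul_right_cancel₀ hne h).symm
    obtain ⟨i⟩ := (inferInstance : Nonempty ι)
    set u₀ : ι → F := Pi.single i 1
    have hu₀ : u₀ ≠ 0 := fun h => by simpa [u₀] using congrFun h i
    have hall : ∀ w, w ≠ 0 → d w = d u₀ := fun w hw => by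
      obtain ⟨z, h1, h2⟩ := exists_both hf hw hu₀
      rw [hsame w z h1, hsame u₀ z h2]
    have hd0 : d u₀ ≠ 0 := fun h => by
      obtain ⟨y, hy⟩ := (hf.nondegenerate ((g : Matrix ι ι F) *ᵥ u₀) (fun h0 => hu₀ (by
        have := congrArg (gi *ᵥ ·) h0
        simpa [gi, Matrix.mulVec_mulVec] using this))).2
      refine hy ?_
      have := hd u₀ (gi *ᵥ y)
      rwa [h, zero_mul, hgi, Matrix.mulVec_mulVec, Units.mul_inv, Matrix.one_mulVec] at this
    refine ⟨Units.mk0 _ hd0, fun a b => ?_⟩
    rcases eq_or_ne a 0 with rfl | ha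
    · rw [Matrix.mulVec_zero, ← zero_smul F (0 : ι → F), hf.bilinear.smul_left, hf.bilinear.smul_left, zero_mul,
        zero_mul, mul_zero]
    · rw [hd, hall a ha, Units.val_mk0]
  -- all functionals at the centre `v`
  let A : Set (ι → F) := {y | ∀ t : F, Root M (t • fvec f y) v}
  have hAsub : ∀ y z, y ∈ A → z ∈ A → y - z ∈ A := by
    intro y z hy hz t
    have : fvec f (y - z) = fvec f y - fvec f z := map_sub Φ y z
    rw [this, smul_sub]
    exact (hy t).sub (hz t)
  have hAadd : ∀ y z, y ∈ A → z ∈ A → y + z ∈ A := by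
    intro y z hy hz t
    rw [fvec_add hf.bilinear, smul_add]
    exact (hy t).add (hz t)
  have hAsmul : ∀ (k : F) y, y ∈ A → k • y ∈ A := by
    intro k y hy t
    rw [fvec_smul hf.bilinear, smul_smul]
    exact hy _
  have hvx : f x v = 0 := by
    have := (hfx 1).dot
    rwa [one_smul, fvec_dot hf.bilinear] at this
  have hmove : ∀ y ∈ A, ∀ w, f w v = 0 → f w y ≠ 0 → w ∈ A := by
    intro y hy w hwv hwy
    have hd : ((f w y)⁻¹ • fvec f w) ⬝ᵥ w = 0 := (hroot _ w).dot
    have hmem := hM (root_mem_similitude hf (f w y)⁻¹ w hd)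
    set h := transvectionGL ((f w y)⁻¹ • fvec f w) w hd with hh
    have hz : y + w ∈ A := by
      intro t
      have := (hy t).conj hmem
      have hfix : (h : Matrix ι ι F) *ᵥ v = v := by
        rw [hh, transvectionGL_mulVec, smul_dotProduct, fvec_dot hf.bilinear, hwv, smul_zero, zero_smul, add_zero]
      rw [hfix, Matrix.smul_vecMul] at this
      convert this using 2
      refine eq_of_dot fun z => ?_
      rw [← Matrix.dotProduct_mulVec, fvec_dot hf.bilinear, fvec_dot hf.bilinear]
      set z' := ((h⁻¹ : Matrix.GeneralLinearGroup ι F) : Matrix ι ι F) *ᵥ z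
      have hz' : z = (h : Matrix ι ι F) *ᵥ z' := by
        rw [Matrix.mulVec_mulVec, Units.mul_inv, Matrix.one_mulVec]
      conv_lhs => rw [hz']
      rw [hh, transvectionGL_mulVec, smul_dotProduct, fvec_dot hf.bilinear, smul_eq_mul]
      simp only [hf.bilinear.add_left, hf.bilinear.add_right, hf.bilinear.smul_right, hf.alternating,
        mul_zero, add_zero]
      rw [hf.skew y w]
      field_simp
      ring
    simpa using hAsub _ _ hz hy
  obtain ⟨w₀, hw₀v, hw₀x⟩ : ∃ w, f w v = 0 ∧ f w x ≠ 0 := by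
    by_contra! h
    obtain ⟨k, hk⟩ := eq_smul_of_perp hf hv h
    exact hxv (hk ▸ Submodule.smul_mem _ k (Submodule.mem_span_singleton_self v))
  have hw₀ : w₀ ∈ A := hmove x hfx w₀ hw₀v hw₀x
  have hAall : ∀ w, f w v = 0 → w ∈ A := by
    intro w hw
    by_cases hwx : f w x = 0
    · have h1 : w + w₀ ∈ A := hmove x hfx _ (by rw [hf.bilinear.add_left, hw, hw₀v, add_zero])
        (by rw [hf.bilinear.add_left, hwx, zero_add]; exact hw₀x)
      simpa using hAsub _ _ h1 hw₀
    · exact hmove x hfx w hw hwx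
  have hcentre : IsCentre M v := by
    intro φ hφ
    obtain ⟨y, rfl⟩ := hsurj φ
    have := hAall y (by rwa [show Φ y = fvec f y from rfl, fvec_dot hf.bilinear] at hφ) 1
    rw [one_smul] at this
    exact this.2
  have hstep : ∀ a b, f a b ≠ 0 → IsCentre M a → IsCentre M b := by
    intro a b hab ha
    have hd : ((f b a)⁻¹ • fvec f (b - a)) ⬝ᵥ (b - a) = 0 := (hroot _ _).dot
    have hmem := hM (root_mem_similitude hf (f b a)⁻¹ (b - a) hd)
    have := ha.map hmem
    have hba : f b a ≠ 0 := by rw [hf.skew]; exact neg_ne_zero.2 hab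
    rwa [transvectionGL_mulVec, smul_dotProduct, fvec_dot hf.bilinear, smul_eq_mul, sub_eq_add_neg,
      ← neg_one_smul F a, hf.bilinear.add_left, hf.bilinear.smul_left, hf.alternating, mul_zero, add_zero,
      inv_mul_cancel₀ hba, one_smul, neg_one_smul, ← sub_eq_add_neg, add_sub_cancel] at this
  refine specialLinear_le_of_centres M fun u => ?_
  rcases eq_or_ne u 0 with rfl | hu
  · intro φ hφ
    convert M.one_mem using 1
    refine ext_mulVec fun z => ?_
    rw [transvectionGL_mulVec, smul_zero, add_zero, Units.val_one, Matrix.one_mulVec]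
  obtain ⟨z, h1, h2⟩ := exists_both hf hv hu
  exact hstep z u (by rw [hf.skew]; exact neg_ne_zero.2 h2) (hstep v z h1 hcentre)

end CfsgLib.Geo.Roots
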