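/-
Orthogonal groups in characteristic two are maximal in the symplectic group of their polar form.
-/
import Cfsg.Agent.Lib.Geo.SimilitudeMaximal
import Cfsg.Agent.Lib.Classical.Symplectic.MatrixTransvection

set_option autoImplicit false

namespace CfsgLib.Geo.Roots

open Matrix
open CfsgLib.Classical.Symp

variable {m : ℕ} {F : Type*} [Field F]

theorem isSymplecticForm_sympForm :
    Cfsg.Geo.IsSymplecticForm (Cfsg.sympForm m F) where
  bilinear :=
    { add_left := fun x y v => by simp only [← sympBil_apply, map_add, LinearMap.add_apply]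
      smul_left := fun c x v => by simp only [← sympBil_apply, map_smul, LinearMap.smul_apply, smul_eq_mul]
      add_right := fun v x y => by simp only [← sympBil_apply, map_add]
      smul_right := fun c v x => by simp only [← sympBil_apply, map_smul, smul_eq_mul] }
  skew := fun v w => by
    rw [← sympBil_apply, ← sympBil_apply]
    exact ((sympBil_isAlt m F).neg_eq w v).symm
  alternating := fun v => by rw [← sympBil_apply]; exact sympBil_isAlt m F v
  nondegenerate := fun v hv => by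
    constructor
    · by_contra! h
      exact hv ((sympBil_nondegenerate m F).2 v fun x => by rw [sympBil_apply]; exact h x)
    · by_contra! h
      exact hv ((sympBil_nondegenerate m F).1 v fun x => by rw [sympBil_apply]; exact h x)

theorem mem_spGL_iff {g : Matrix.GeneralLinearGroup (Fin m ⊕ Fin m) F} :
    g ∈ Cfsg.spGL m F ↔ ∀ u v, Cfsg.sympForm m F ((g : Matrix (Fin m ⊕ Fin m) (Fin m ⊕ Fin m) F) *ᵥ u) ((g : Matrix (Fin m ⊕ Fin m) (Fin m ⊕ Fin m) F) *ᵥ v) =
      Cfsg.sympForm m F u v := Iff.rfl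

/-- The common perpendicular of two vectors is not totally isotropic. -/
theorem exists_pair_perp (hm : 3 ≤ m) (a b : Fin m ⊕ Fin m → F) :
    ∃ y z, Cfsg.sympForm m F a y = 0 ∧ Cfsg.sympForm m F b y = 0 ∧ Cfsg.sympForm m F a z = 0 ∧
      Cfsg.sympForm m F b z = 0 ∧ Cfsg.sympForm m F y z = 1 := by
  let B := sympBil m F
  let L : (Fin m ⊕ Fin m → F) →ₗ[F] F × F := (B a).prod (B b)
  have hmem : ∀ y ∈ LinearMap.ker L, Cfsg.sympForm m F a y = 0 ∧ Cfsg.sympForm m F b y = 0 := fun y hy => by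
    simp only [LinearMap.mem_ker, L, LinearMap.prod_apply, Function.prod, Prod.mk_eq_zero] at hy
    rw [← sympBil_apply, ← sympBil_apply]
    exact hy
  by_contra! hcon
  have hle : LinearMap.ker L ≤ B.orthogonal (LinearMap.ker L) := fun y hy x hx => by
    show B x y = 0
    rw [sympBil_apply]
    by_contra hne
    refine hcon x ((Cfsg.sympForm m F x y)⁻¹ • y) (hmem x hx).1 (hmem x hx).2 (hmem _ (Submodule.smul_mem _ _ hy)).1
      (hmem _ (Submodule.smul_mem _ _ hy)).2 ?_
    rw [← sympBil_apply, map_smul, smul_eq_mul, sympBil_apply, inv_mul_cancel₀ hne]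
  have h1 := Submodule.finrank_mono hle
  rw [LinearMap.BilinForm.finrank_orthogonal (sympBil_nondegenerate m F)] at h1
  have h2 := LinearMap.finrank_range_add_finrank_ker L
  have h3 := Submodule.finrank_le (LinearMap.range L)
  rw [Module.finrank_prod, Module.finrank_self] at h3
  rw [finrank_sympSpace] at h1 h2
  omega

/-- The isometries of a quadratic form in characteristic two are maximal in the symplectic group. -/
theorem isMaximalIn_quad [Finite F] (hm : 3 ≤ m) (h2 : (2 : F) = 0) (hchar : ringChar F = 2)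
    {Q : (Fin m ⊕ Fin m → F) → F} (hQ : Cfsg.Geo.IsNondegenerateQuadraticForm Q)
    (hpol : ∀ u v, QuadraticMap.polar Q u v = Cfsg.sympForm m F u v) :
    Cfsg.Geo.IsMaximalIn (Cfsg.spGL m F) (Cfsg.Geo.quadSimilarityGroup Q ⊓ Cfsg.spGL m F) := by
  have hf := isSymplecticForm_sympForm (m := m) (F := F)
  set f := Cfsg.sympForm m F with hfdef
  have hcomm : ∀ u v, f u v = f v u := fun u v => by
    rw [hf.skew]
    linear_combination -(f v u) * h2
  have hQadd : ∀ u v, Q (u + v) = Q u + Q v + f u v := fun u v => by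
    rw [← hpol, QuadraticMap.polar]; ring
  have hsq : ∀ a : F, ∃ s : F, s * s = a := fun a => by
    obtain ⟨s, hs⟩ := FiniteField.isSquare_of_char_two hchar a
    exact ⟨s, hs.symm⟩
  have hT : ∀ (v : Fin m ⊕ Fin m → F) (h : fvec f v ⬝ᵥ v = 0) x,
      ((transvectionGL (fvec f v) v h : Matrix.GeneralLinearGroup _ F) : Matrix (Fin m ⊕ Fin m) (Fin m ⊕ Fin m) F) *ᵥ x = x + f v x • v :=
    fun v h x => by rw [transvectionGL_mulVec, fvec_dot hf.bilinear]
  have hd : ∀ v, fvec f v ⬝ᵥ v = 0 := fun v => by rw [fvec_dot hf.bilinear, hf.alternating]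
  have hsp : ∀ g ∈ Cfsg.spGL m F, ∀ u v,
      f (((g : Matrix.GeneralLinearGroup (Fin m ⊕ Fin m) F) : Matrix (Fin m ⊕ Fin m) (Fin m ⊕ Fin m) F) *ᵥ u)
        ((g : Matrix (Fin m ⊕ Fin m) (Fin m ⊕ Fin m) F) *ᵥ v) = f u v := fun g hg => mem_spGL_iff.1 hg
  have hTsp : ∀ v, transvectionGL (fvec f v) v (hd v) ∈ Cfsg.spGL m F := fun v => by
    rw [mem_spGL_iff]
    intro a b
    show f _ _ = f a b
    rw [hT, hT]
    simp only [hf.bilinear.add_left, hf.bilinear.add_right, hf.bilinear.smul_left,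
      hf.bilinear.smul_right, hf.alternating]
    rw [hcomm a v]
    linear_combination (f v a * f v b) * h2
  -- a pair in the perpendicular of two vectors carries a non-zero value
  have hval : ∀ y z, f y z = 1 → Q y ≠ 0 ∨ Q z ≠ 0 ∨ Q (y + z) ≠ 0 := fun y z hyz => by
    by_contra! h
    obtain ⟨hy, hz, hyz'⟩ := h
    rw [hQadd, hy, hz, hyz, zero_add, zero_add] at hyz'
    exact one_ne_zero hyz'
  -- adjust a vector to a prescribed value
  have hadjust : ∀ (a b x₀ : Fin m ⊕ Fin m → F) (c : F), ∃ x, Q x = c ∧ f a x = f a x₀ ∧ f b x = f b x₀ := by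
    intro a b x₀ c
    obtain ⟨y, z, hay, hby, haz, hbz, hyz⟩ := exists_pair_perp hm a b
    rw [← hfdef] at hay hby haz hbz hyz
    set x₁ := x₀ + f x₀ z • y + f x₀ y • z with hx₁
    have hzy : f z y = 1 := by rw [hcomm]; exact hyz
    have hy₁ : f x₁ y = 0 := by
      simp only [hx₁, hf.bilinear.add_left, hf.bilinear.smul_left, hf.alternating, hzy]
      linear_combination (f x₀ y) * h2
    have hz₁ : f x₁ z = 0 := by
      simp only [hx₁, hf.bilinear.add_left, hf.bilinear.smul_left, hf.alternating, hyz]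
      linear_combination (f x₀ z) * h2
    obtain ⟨w, hQw, haw, hbw, hxw⟩ : ∃ w, Q w ≠ 0 ∧ f a w = 0 ∧ f b w = 0 ∧ f x₁ w = 0 := by
      rcases hval y z hyz with h | h | h
      · exact ⟨y, h, hay, hby, hy₁⟩
      · exact ⟨z, h, haz, hbz, hz₁⟩
      · exact ⟨y + z, h, by rw [hf.bilinear.add_right, hay, haz, add_zero],
          by rw [hf.bilinear.add_right, hby, hbz, add_zero], by rw [hf.bilinear.add_right, hy₁, hz₁, add_zero]⟩
    obtain ⟨s, hs⟩ := hsq ((c - Q x₁) / Q w)
    refine ⟨x₁ + s • w, ?_, ?_, ?_⟩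
    · rw [hQadd, hQ.smul, hf.bilinear.smul_right, hxw, mul_zero, add_zero, sq, hs]
      field_simp
      ring
    · simp only [hx₁, hf.bilinear.add_right, hf.bilinear.smul_right, hay, haz, haw, mul_zero, add_zero]
    · simp only [hx₁, hf.bilinear.add_right, hf.bilinear.smul_right, hby, hbz, hbw, mul_zero, add_zero]
  have hQ0 : Q 0 = 0 := by
    have := hQ.smul 0 0
    simpa using this
  obtain ⟨i⟩ : Nonempty (Fin m) := ⟨⟨0, by omega⟩⟩
  set e : Fin m ⊕ Fin m → F := Pi.single (Sum.inl i) 1 with he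
  have he0 : e ≠ 0 := fun h => by simpa [he] using congrFun h (Sum.inl i)
  refine ⟨lt_of_le_of_ne inf_le_right fun heq => ?_, fun M hM hMS => ?_⟩
  · obtain ⟨x₁, hx₁⟩ := (hf.nondegenerate e he0).2
    obtain ⟨v, hv, hv', -⟩ := hadjust x₁ x₁ e 0
    have hv0 : v ≠ 0 := fun h => by
      rw [h, ← zero_smul F (0 : Fin m ⊕ Fin m → F), hf.bilinear.smul_right, zero_mul, hcomm] at hv'
      exact hx₁ hv'.symm
    obtain ⟨c, hc⟩ := (heq.ge (hTsp v)).1
    obtain ⟨x, hx⟩ := (hf.nondegenerate v hv0).2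
    have hpolc : ∀ a b, f a b = (c : F) * f a b := fun a b => by
      conv_lhs => rw [← hsp _ (hTsp v) a b, ← hpol, QuadraticMap.polar, ← Matrix.mulVec_add,
        hc, hc, hc]
      rw [← hpol, QuadraticMap.polar]
      ring
    have hc1 : (c : F) = 1 := by
      have := hpolc v x
      have h' : ((c : F) - 1) * f v x = 0 := by linear_combination -this
      exact sub_eq_zero.1 ((mul_eq_zero.1 h').resolve_right hx)
    have h3 := hc x
    rw [hT, hc1, one_mul, hQadd, hQ.smul, hv, mul_zero, add_zero, hf.bilinear.smul_right, hcomm x v] at h3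
    exact hx (by
      have : f v x * f v x = 0 := by linear_combination h3
      exact mul_self_eq_zero.1 this)
  refine (eq_or_lt_of_le hM).imp Eq.symm fun hlt => le_antisymm hMS ?_
  obtain ⟨g, hgM, hgn⟩ := SetLike.exists_of_lt hlt
  let S : Set (Fin m ⊕ Fin m → F) := {v | Root M (fvec f v) v}
  have hS1 : ∀ v, Q v = 1 → v ∈ S := fun v hv => by
    refine ⟨hd v, hM ⟨⟨1, fun x => ?_⟩, hTsp v⟩⟩
    rw [hT, hQadd, hQ.smul, hv, hf.bilinear.smul_right, hcomm x v, Units.val_one]
    linear_combination (f v x) ^ 2 * h2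
  have hconj : ∀ (h : Matrix.GeneralLinearGroup (Fin m ⊕ Fin m) F), h ∈ M → h ∈ Cfsg.spGL m F → ∀ v ∈ S,
      (h : Matrix (Fin m ⊕ Fin m) (Fin m ⊕ Fin m) F) *ᵥ v ∈ S := by
    intro h hhM hhS v hv
    have := Root.conj hv hhM
    show Root M _ _
    convert this using 1
    refine eq_of_dot fun z => ?_
    rw [← Matrix.dotProduct_mulVec, fvec_dot hf.bilinear, fvec_dot hf.bilinear]
    conv_rhs => rw [← hsp _ hhS]
    rw [Matrix.mulVec_mulVec, Units.mul_inv, Matrix.one_mulVec]
  have hclose : ∀ v ∈ S, ∀ w ∈ S, w + f v w • v ∈ S := fun v hv w hw => by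
    have := hconj _ hv.2 (hTsp v) w hw
    rwa [hT] at this
  -- a level other than one
  obtain ⟨v₀, hv₀, hv₀0, hv₀1⟩ : ∃ v, v ∈ S ∧ v ≠ 0 ∧ Q v ≠ 1 := by
    by_contra! hcon
    apply hgn
    refine ⟨?_, hMS hgM⟩
    have hgS : g ∈ Cfsg.spGL m F := hMS hgM
    have h1 : ∀ v, Q v = 1 → Q ((g : Matrix (Fin m ⊕ Fin m) (Fin m ⊕ Fin m) F) *ᵥ v) = 1 := fun v hv => by
      refine hcon _ (hconj g hgM hgS v (hS1 v hv)) fun h0 => ?_
      have := congrArg (((g⁻¹ : Matrix.GeneralLinearGroup _ F) : Matrix (Fin m ⊕ Fin m) (Fin m ⊕ Fin m) F) *ᵥ ·) h0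
      simp only [Matrix.mulVec_mulVec, Units.inv_mul, Matrix.one_mulVec, Matrix.mulVec_zero] at this
      rw [this, hQ0] at hv
      exact zero_ne_one hv
    have hne : ∀ v, Q v ≠ 0 → Q ((g : Matrix (Fin m ⊕ Fin m) (Fin m ⊕ Fin m) F) *ᵥ v) = Q v := fun v hv => by
      obtain ⟨s, hs⟩ := hsq (Q v)
      have hs0 : s ≠ 0 := fun h => hv (by rw [← hs, h, zero_mul])
      have := h1 (s⁻¹ • v) (by rw [hQ.smul, ← hs]; field_simp)
      rw [Matrix.mulVec_smul, hQ.smul] at this
      field_simp at this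
      rw [this, ← hs, sq]
    refine ⟨1, fun v => ?_⟩
    rw [Units.val_one, one_mul]
    by_cases hv : Q v = 0
    · rcases eq_or_ne v 0 with rfl | hv0
      · rw [Matrix.mulVec_zero]
      obtain ⟨y, hy, hQy⟩ : ∃ y, f v y = 0 ∧ Q y ≠ 0 := by
        obtain ⟨y, z, hay, -, haz, -, hyz⟩ := exists_pair_perp hm v v
        rw [← hfdef] at hay haz hyz
        rcases hval y z hyz with h | h | h
        · exact ⟨y, hay, h⟩
        · exact ⟨z, haz, h⟩
        · exact ⟨y + z, by rw [hf.bilinear.add_right, hay, haz, add_zero], h⟩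
      have hsum : Q (v + y) ≠ 0 := by rw [hQadd, hv, hy, zero_add, add_zero]; exact hQy
      have h3 := hne _ hsum
      rw [Matrix.mulVec_add, hQadd, hQadd v y, hsp g hgS, hne y hQy] at h3
      linear_combination h3
    · exact hne v hv
  set c₀ := Q v₀ with hc₀
  have hlevel : ∀ (w z : Fin m ⊕ Fin m → F), w ∈ S → Q w = Q z → f w z ≠ 0 → z ∈ S := by
    intro w z hw hwz hne
    obtain ⟨s, hs⟩ := hsq (f w z)
    have hs0 : s ≠ 0 := fun h => hne (by rw [← hs, h, zero_mul])
    have hv : Q (s⁻¹ • (w + z)) = 1 := by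
      rw [hQ.smul, hQadd, ← hwz, ← hs]
      field_simp
      linear_combination (Q w) * h2
    have := hclose _ (hS1 _ hv) w hw
    rw [hf.bilinear.smul_left, hf.bilinear.add_left, hf.alternating, zero_add, hcomm z w, ← hs, smul_smul,
      show s⁻¹ * (s * s) * s⁻¹ = 1 by field_simp, one_smul] at this
    have hz : w + (w + z) = z := by
      rw [← add_assoc, ← two_smul F w, h2, zero_smul, zero_add]
    rwa [hz] at this
  have hlevel' : ∀ (w z : Fin m ⊕ Fin m → F), w ∈ S → Q w = Q z → w ≠ 0 → z ≠ 0 → z ∈ S := by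
    intro w z hw hwz hw0 hz0
    obtain ⟨x₀, hx1, hx2⟩ := exists_both hf hw0 hz0
    obtain ⟨x, hx, hxw, hxz⟩ := hadjust w z x₀ (Q w)
    have hxS : x ∈ S := hlevel w x hw hx.symm (hxw.symm ▸ hx1)
    exact hlevel x z hxS (hx.trans hwz) (by rw [hcomm, hxz]; exact hx2)
  have hall : ∀ v, v ≠ 0 → v ∈ S := by
    intro z hz
    by_cases hz1 : Q z = 1
    · exact hS1 z hz1
    have hc1 : c₀ + 1 ≠ 0 := fun h => hv₀1 (by linear_combination h - h2)
    obtain ⟨s, hs⟩ := hsq ((Q z - 1) / (c₀ + 1))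
    have hs0 : s ≠ 0 := by
      intro h
      rw [h, zero_mul, eq_comm, div_eq_zero_iff] at hs
      exact hz1 (by linear_combination hs.resolve_right hc1)
    obtain ⟨x₁, hx₁⟩ := (hf.nondegenerate v₀ hv₀0).2
    obtain ⟨w, hw, hvw, -⟩ := hadjust v₀ v₀ ((s / f v₀ x₁) • x₁) 1
    rw [hf.bilinear.smul_right, div_mul_cancel₀ _ hx₁] at hvw
    have hmem := hclose v₀ hv₀ w (hS1 w hw)
    rw [hvw] at hmem
    refine hlevel' _ z hmem ?_ (fun h0 => hs0 ?_) hz
    · rw [hQadd, hQ.smul, hw, ← hc₀, hf.bilinear.smul_right, hcomm w v₀, hvw]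
      field_simp at hs
      linear_combination hs
    · have h := congrArg (f w) h0
      rw [hf.bilinear.add_right, hf.alternating, zero_add, hf.bilinear.smul_right, hcomm w v₀, hvw,
        ← zero_smul F (0 : Fin m ⊕ Fin m → F), hf.bilinear.smul_right, zero_mul] at h
      exact mul_self_eq_zero.1 h
  -- generation
  let ψ : Matrix.symplecticGroup (Fin m) F →* Matrix.GeneralLinearGroup (Fin m ⊕ Fin m) F :=
    (Cfsg.spGL m F).subtype.comp (symplecticEquivSpGL m F).toMonoidHom
  have hgen : M.comap ψ = ⊤ := by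
    rw [eq_top_iff, ← closure_sympTransvection_eq_top, Subgroup.closure_le]
    rintro A ⟨w, c, hA⟩
    rw [SetLike.mem_coe, Subgroup.mem_comap]
    obtain ⟨s, hs⟩ := hsq c
    by_cases hw : s • w = 0
    · convert M.one_mem using 1
      refine Units.ext ?_
      show (A : Matrix (Fin m ⊕ Fin m) (Fin m ⊕ Fin m) F) = _
      rw [hA, Cfsg.sympTransvection, ← hs]
      rcases smul_eq_zero.1 hw with h | h
      · simp [h]
      · simp [h]
    obtain ⟨hdd, hmem⟩ := hall _ hw
    convert hmem using 1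
    refine ext_mulVec fun x => ?_
    show (A : Matrix (Fin m ⊕ Fin m) (Fin m ⊕ Fin m) F) *ᵥ x = _
    rw [hA, hT, Cfsg.sympTransvection, Matrix.add_mulVec, Matrix.one_mulVec, Matrix.smul_mulVec,
      Matrix.vecMulVec_mulVec, op_smul_eq_smul, hf.bilinear.smul_left, smul_smul, smul_smul,
      show (Matrix.J (Fin m) F *ᵥ w) ⬝ᵥ x = f x w from dotProduct_comm _ _, hcomm x w, ← hs]
    congr 2
    ring
  intro x hx
  have hmem : (symplecticEquivSpGL m F).symm ⟨x, hx⟩ ∈ M.comap ψ := by rw [hgen]; exact Subgroup.mem_top _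
  simpa [ψ] using hmem

end CfsgLib.Geo.Roots
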