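/-
Nondegenerate subspaces of quadratic spaces: lifting Eichler groups, spanning by singular vectors,
irreducibility, and similitudes of multiplier `-1`.
-/
import Cfsg.Agent.Lib.Geo.OrthMaximalBasic

set_option autoImplicit false

namespace CfsgLib.Geo.OrthMax

open CfsgLib.Classical CfsgLib.Classical.Quad
open QuadraticMap (polar polarBilin)
open LinearMap (BilinForm)

variable {F : Type*} [Field F] {V : Type*} [AddCommGroup V] [Module F V] [FiniteDimensional F V]
  {Q : QuadraticForm F V}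

/-- The polar form is nondegenerate on `W`. -/
def Nondeg (Q : QuadraticForm F V) (W : Submodule F V) : Prop :=
  ∀ x ∈ W, (∀ y ∈ W, polar Q x y = 0) → x = 0

omit [FiniteDimensional F V] in
theorem polar_comp (W : Submodule F V) (x y : W) :
    polar (Q.comp W.subtype) x y = polar Q (x : V) y := by
  simp only [polar, QuadraticMap.comp_apply, Submodule.subtype_apply, Submodule.coe_add]

omit [FiniteDimensional F V] in
theorem Nondeg.comp {W : Submodule F V} (hW : Nondeg Q W) :
    (polarBilin (Q.comp W.subtype)).Nondegenerate :=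
  nondegenerate_of_left fun x hx => Subtype.ext
    (hW x x.2 fun y hy => (polar_comp W x ⟨y, hy⟩).symm.trans (hx ⟨y, hy⟩))

theorem Nondeg.isCompl {W : Submodule F V} (hW : Nondeg Q W) (hQ : (polarBilin Q).Nondegenerate) :
    IsCompl W (perp Q W) := by
  have hd : Disjoint W (perp Q W) := Submodule.disjoint_def.2 fun x hx hx' =>
    hW x hx fun y hy => perp_left hx' hy
  refine ⟨hd, codisjoint_iff.2 (Submodule.eq_top_of_finrank_eq ?_)⟩
  have h1 := Submodule.finrank_sup_add_finrank_inf_eq W (perp Q W)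
  have h2 := finrank_perp hQ W
  have h3 := Submodule.finrank_le W
  rw [disjoint_iff.1 hd, finrank_bot] at h1
  omega

theorem Nondeg.exists_add {W : Submodule F V} (hW : Nondeg Q W)
    (hQ : (polarBilin Q).Nondegenerate) (z : V) : ∃ a ∈ W, ∃ b ∈ perp Q W, a + b = z := by
  obtain ⟨a, b, ha, hb, h⟩ :=
    Submodule.codisjoint_iff_exists_add_eq.1 (hW.isCompl hQ).codisjoint z
  exact ⟨a, ha, b, hb, h⟩

theorem Nondeg.perp {W : Submodule F V} (hW : Nondeg Q W) (hQ : (polarBilin Q).Nondegenerate) :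
    Nondeg Q (perp Q W) := by
  intro x hx h
  refine Submodule.disjoint_def.1 (hW.isCompl hQ).disjoint x ?_ hx
  rw [← perp_perp hQ W]
  exact mem_perp.2 fun y hy => by rw [QuadraticMap.polar_comm]; exact h y hy

theorem Nondeg.exists_polar_one {W : Submodule F V} (hW : Nondeg Q W) {x : V} (hx : x ∈ W)
    (hx0 : x ≠ 0) : ∃ y ∈ W, polar Q x y = 1 := by
  obtain ⟨y, hy, h⟩ : ∃ y ∈ W, polar Q x y ≠ 0 := by
    by_contra! h
    exact hx0 (hW x hx h)
  exact ⟨(polar Q x y)⁻¹ • y, W.smul_mem _ hy, by rw [polar_smul_right', inv_mul_cancel₀ h]⟩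

theorem Nondeg.exists_sep {U : Submodule F V} (hU : Nondeg Q U) {P : Submodule F V} (hPU : P ≤ U)
    {x : V} (hx : x ∈ U) (hxP : x ∉ P) :
    ∃ y ∈ U, polar Q x y = 1 ∧ ∀ p ∈ P, polar Q p y = 0 := by
  obtain ⟨y, hy, hyP⟩ := exists_sep_polar hU.comp (U := P.comap U.subtype) (x := ⟨x, hx⟩) hxP
  refine ⟨y, y.2, by rwa [polar_comp] at hy, fun p hp => ?_⟩
  have h := hyP ⟨p, hPU hp⟩ hp
  rwa [polar_comp] at h

theorem Nondeg.exists_pair {W : Submodule F V} (hW : Nondeg Q W) {x : V} (hx : x ∈ W)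
    (hqx : Q x = 0) (hx0 : x ≠ 0) : ∃ f ∈ W, Q f = 0 ∧ polar Q x f = 1 := by
  obtain ⟨y, hy, hxy⟩ := hW.exists_polar_one hx hx0
  refine ⟨y + (-Q y) • x, W.add_mem hy (W.smul_mem _ hx), ?_, ?_⟩
  · rw [apply_add, apply_smul, hqx, polar_smul_right', QuadraticMap.polar_comm (⇑Q) y x, hxy]
    ring
  · rw [polar_add_right', polar_smul_right', hxy, polar_self', hqx]
    ring

omit [FiniteDimensional F V] in
/-- A space with a hyperbolic pair is spanned by its singular vectors. -/
theorem le_of_singular {U P : Submodule F V} {u f : V} (hu : u ∈ U) (hf : f ∈ U) (hqu : Q u = 0)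
    (hqf : Q f = 0) (huf : polar Q u f = 1) (hP : ∀ x ∈ U, Q x = 0 → x ∈ P) : U ≤ P := by
  intro y hy
  set r := y + (-polar Q y f) • u + (-polar Q y u) • f with hr
  have hru : polar Q r u = 0 := by
    simp only [hr, polar_add_left', polar_smul_left', polar_self', hqu,
      QuadraticMap.polar_comm (⇑Q) f u, huf]
    ring
  have hrf : polar Q r f = 0 := by
    simp only [hr, polar_add_left', polar_smul_left', polar_self', hqf, huf]
    ring
  have hrU : r ∈ U := U.add_mem (U.add_mem hy (U.smul_mem _ hu)) (U.smul_mem _ hf)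
  have hz : r + ((-Q r) • u + f) ∈ P := by
    refine hP _ (U.add_mem hrU (U.add_mem (U.smul_mem _ hu) hf)) ?_
    simp only [apply_add, apply_smul, polar_add_right', polar_smul_right', polar_smul_left', hqu,
      hqf, huf, hru, hrf]
    ring
  rw [show y = (r + ((-Q r) • u + f)) + (polar Q y f + Q r) • u + (polar Q y u - 1) • f by
    rw [hr]; module]
  exact P.add_mem (P.add_mem hz (P.smul_mem _ (hP u hu hqu))) (P.smul_mem _ (hP f hf hqf))

theorem Nondeg.exists_singular [Finite F] {U : Submodule F V} (hU : Nondeg Q U)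
    (h3 : 3 ≤ Module.finrank F U) : ∃ u ∈ U, u ≠ 0 ∧ Q u = 0 := by
  obtain ⟨u, hu0, hu⟩ := Quad.exists_singular hU.comp h3
  exact ⟨u, u.2, fun h => hu0 (Subtype.ext h), hu⟩

theorem Nondeg.le_of_singular [Finite F] {U P : Submodule F V} (hU : Nondeg Q U)
    (h3 : 3 ≤ Module.finrank F U) (hP : ∀ x ∈ U, Q x = 0 → x ∈ P) : U ≤ P := by
  obtain ⟨u, hu, hu0, hqu⟩ := hU.exists_singular h3
  obtain ⟨f, hf, hqf, huf⟩ := hU.exists_pair hu hqu hu0
  exact OrthMax.le_of_singular hu hf hqu hqf huf hP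

variable (hQ : (polarBilin Q).Nondegenerate)
include hQ

theorem oStab_perp_le {W : Submodule F V} {g : OQ Q} (hg : g ∈ oStab Q W) :
    g ∈ oStab Q (perp Q W) := by
  refine mem_oStab_of_maps fun x hx => mem_perp.2 fun w hw => ?_
  obtain ⟨w', rfl⟩ := (g : V ≃ₗ[F] V).surjective w
  rw [OQ.map_polar]
  exact mem_perp.1 hx w' ((hg w').2 hw)

theorem oStab_perp (W : Submodule F V) : oStab Q (perp Q W) = oStab Q W := by
  refine le_antisymm (fun g hg => ?_) fun g hg => oStab_perp_le hQ hg
  have h := oStab_perp_le hQ hg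
  rwa [perp_perp hQ W] at h

variable [Finite F]

/-- Extending the Eichler group of a nondegenerate subspace by the identity. -/
theorem exists_lift (hn : 5 ≤ Module.finrank F V) {U : Submodule F V} (hU : Nondeg Q U)
    {s : OQ (Q.comp U.subtype)} (hs : s ∈ eichGroup hU.comp) :
    ∃ g ∈ eichGroup hQ, (∀ u : U, (g : V ≃ₗ[F] V) u = ((s : U ≃ₗ[F] U) u : V)) ∧
      ∀ w, (∀ u ∈ U, polar Q w u = 0) → (g : V ≃ₗ[F] V) w = w := by
  induction hs using Subgroup.closure_induction with
  | mem t ht =>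
    obtain ⟨w, a, hw, ha, -, rfl⟩ := ht
    have hw' : Q (w : V) = 0 := hw
    have ha' : polar Q (w : V) a = 0 := by rw [← polar_comp]; exact ha
    refine ⟨eich hQ hw' ha', eich_mem hQ hn hw' ha', fun u => ?_, fun z hz => ?_⟩
    · rw [eich_apply, eich_apply]
      simp [polar_comp]
    · simp [eich_apply, hz w w.2, hz a a.2]
  | one => exact ⟨1, one_mem _, fun u => rfl, fun z _ => rfl⟩
  | mul x y _ _ hx hy =>
    obtain ⟨g₁, h₁, e₁, f₁⟩ := hx
    obtain ⟨g₂, h₂, e₂, f₂⟩ := hy
    refine ⟨g₁ * g₂, mul_mem h₁ h₂, fun u => ?_, fun z hz => ?_⟩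
    · show (g₁ : V ≃ₗ[F] V) ((g₂ : V ≃ₗ[F] V) u) = _
      rw [e₂, e₁]
      rfl
    · show (g₁ : V ≃ₗ[F] V) ((g₂ : V ≃ₗ[F] V) z) = z
      rw [f₂ z hz, f₁ z hz]
  | inv x _ hx =>
    obtain ⟨g, h, e, f⟩ := hx
    refine ⟨g⁻¹, inv_mem h, fun u => ?_, fun z hz => ?_⟩
    · show (g : V ≃ₗ[F] V).symm u = (((x : U ≃ₗ[F] U).symm u : U) : V)
      rw [LinearEquiv.symm_apply_eq, e, LinearEquiv.apply_symm_apply]
    · show (g : V ≃ₗ[F] V).symm z = z
      rw [LinearEquiv.symm_apply_eq, f z hz]

/-- A product of two reflections with equal values lies in the commutator subgroup. -/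
theorem refl_mul_refl_mem (hn : 5 ≤ Module.finrank F V) {v r : V} (hv : Q v ≠ 0) (hr : Q r ≠ 0)
    (h : Q v = Q r) : refl hv * refl hr ∈ eichGroup hQ := by
  obtain ⟨s, hs, hsr⟩ := exists_move_vector hQ hn hr h
  have e : refl hv = s * refl hr * s⁻¹ := by
    rw [refl_conj]
    subst hsr
    rfl
  rw [e, mul_assoc, mul_assoc]
  refine mul_mem hs ?_
  have : refl hr * (s⁻¹ * refl hr) = refl hr * s⁻¹ * (refl hr)⁻¹ := by
    rw [← mul_assoc, inv_eq_of_mul_eq_one_left (refl_mul_self hr)]
  rw [this]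
  exact (eichGroup_normal hQ).conj_mem _ (inv_mem hs) _

omit [FiniteDimensional F V] [Finite F] hQ in
theorem not_in_union {B C W : Submodule F V} {x y : V} (hxW : x ∈ W) (hyW : y ∈ W) (hx : x ∉ B)
    (hy : y ∉ C) : ∃ z ∈ W, z ∉ B ∧ z ∉ C := by
  by_cases h1 : x ∈ C
  · by_cases h2 : y ∈ B
    · exact ⟨x + y, W.add_mem hxW hyW, fun h => hx ((B.add_mem_iff_left h2).1 h),
        fun h => hy ((C.add_mem_iff_right h1).1 h)⟩
    · exact ⟨y, hyW, h2, hy⟩
  · exact ⟨x, hxW, hx, h1⟩

omit [Finite F] hQ in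
/-- Irreducibility in a plane. -/
theorem le_of_invariant_two [Finite F] {W B : Submodule F V} (hW : Nondeg Q W)
    (h2 : Module.finrank F W = 2) (hBW : B ≤ W) {b : V} (hb : b ∈ B) (hb0 : b ≠ 0)
    (hex : (∃ u ∈ W, u ≠ 0 ∧ Q u = 0) → 4 ≤ Nat.card F)
    (hinv : ∀ v ∈ W, Q v ≠ 0 → ∀ x ∈ B, x + (-((Q v)⁻¹ * polar Q x v)) • v ∈ B) : W ≤ B := by
  by_contra hWB
  obtain ⟨x₀, hx₀, hx₀B⟩ := SetLike.not_le_iff_exists.1 hWB
  have cls : ∀ v ∈ W, Q v ≠ 0 → v ∈ B ∨ polar Q b v = 0 := by
    intro v hv hqv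
    by_cases h : polar Q b v = 0
    · exact Or.inr h
    · refine Or.inl ?_
      have h1 := B.sub_mem (hinv v hv hqv b hb) hb
      rw [add_sub_cancel_left] at h1
      exact (B.smul_mem_iff (neg_ne_zero.2 (mul_ne_zero (inv_ne_zero hqv) h))).1 h1
  by_cases hiso : ∃ u ∈ W, u ≠ 0 ∧ Q u = 0
  · obtain ⟨u, hu, hu0, hqu⟩ := hiso
    obtain ⟨f, hf, hqf, huf⟩ := hW.exists_pair hu hqu hu0
    have hspan : Submodule.span F {u, f} = W := by
      refine Submodule.eq_of_le_of_finrank_le (Submodule.span_le.2 (by simp [Set.insert_subset_iff, hu, hf])) ?_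
      have hli := linearIndependent_of_polar hW.comp (u := ⟨u, hu⟩) (u' := ⟨f, hf⟩) hqu
        (by rw [polar_comp, huf]; exact one_ne_zero)
      have := (hli.map' W.subtype W.ker_subtype)
      have h := finrank_span_eq_card this
      simp only [Fintype.card_fin] at h
      rw [show Set.range (W.subtype ∘ ![(⟨u, hu⟩ : W), ⟨f, hf⟩]) = {u, f} by
        ext; simp [Fin.exists_fin_two, eq_comm]] at h
      rw [h2, h]
    have hq : ∀ t : F, Q (u + t • f) = t := fun t => by
      rw [apply_add, apply_smul, polar_smul_right', hqu, hqf, huf]; ring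
    have twice : ∀ (C : Submodule F V) (s t : F), s ≠ t → u + s • f ∈ C → u + t • f ∈ C →
        W ≤ C := by
      intro C s t hst hs ht
      have hfC : f ∈ C := by
        have h := C.sub_mem hs ht
        rw [add_sub_add_left_eq_sub, ← sub_smul] at h
        exact (C.smul_mem_iff (sub_ne_zero.2 hst)).1 h
      have huC : u ∈ C := (C.add_mem_iff_left (C.smul_mem _ hfC)).1 hs
      rw [← hspan, Submodule.span_le]
      simp [Set.insert_subset_iff, hfC, huC]
    let C : Submodule F V := LinearMap.ker ((polarBilin Q) b)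
    have hC : ∀ s t : F, s ≠ t → u + s • f ∈ C → u + t • f ∈ C → False := fun s t hst hs ht =>
      hb0 (hW b (hBW hb) fun y hy => twice C s t hst hs ht hy)
    have hB : ∀ s t : F, s ≠ t → u + s • f ∈ B → u + t • f ∈ B → False := fun s t hst hs ht =>
      hWB (twice B s t hst hs ht)
    classical
    have : Fintype F := Fintype.ofFinite F
    have hcard : 2 < ((Finset.univ : Finset F).erase 0).card := by
      rw [Finset.card_erase_of_mem (Finset.mem_univ _), Finset.card_univ]
      have := hex ⟨u, hu, hu0, hqu⟩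
      rw [Nat.card_eq_fintype_card] at this
      omega
    obtain ⟨r, s, t, hr, hs, ht, hrs, hrt, hst⟩ := Finset.two_lt_card_iff.1 hcard
    have key : ∀ t, t ∈ (Finset.univ : Finset F).erase 0 → u + t • f ∈ B ∨ u + t • f ∈ C :=
      fun t ht => cls _ (W.add_mem hu (W.smul_mem _ hf)) (by rw [hq]; exact Finset.ne_of_mem_erase ht)
    rcases key r hr with h1 | h1 <;> rcases key s hs with h3 | h3 <;> rcases key t ht with h4 | h4
    all_goals first
      | exact hB r s hrs h1 h3
      | exact hB r t hrt h1 h4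
      | exact hB s t hst h3 h4
      | exact hC r s hrs h1 h3
      | exact hC r t hrt h1 h4
      | exact hC s t hst h3 h4
  · push Not at hiso
    obtain ⟨y, hy, hby⟩ := hW.exists_polar_one (hBW hb) hb0
    obtain ⟨z, hz, hzB, hzC⟩ := not_in_union (C := LinearMap.ker ((polarBilin Q) b)) hx₀ hy hx₀B
      (by rw [LinearMap.mem_ker, QuadraticMap.polarBilin_apply_apply, hby]; exact one_ne_zero)
    rcases cls z hz (hiso z hz fun e => hzB (e ▸ B.zero_mem)) with h | h
    · exact hzB h
    · exact hzC h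

omit [Finite F] hQ in
/-- Irreducibility in dimension at least three. -/
theorem le_of_invariant_three [Finite F] {W B : Submodule F V} (hW : Nondeg Q W)
    (h3 : 3 ≤ Module.finrank F W) (hBW : B ≤ W) {b : V} (hb : b ∈ B) (hb0 : b ≠ 0)
    (hinv : ∀ x ∈ W, Q x = 0 → ∀ a ∈ W, polar Q x a = 0 →
      b + (polar Q b a - Q a * polar Q b x) • x + (-polar Q b x) • a ∈ B) : W ≤ B := by
  obtain ⟨x, hx, hqx, hbx⟩ : ∃ x ∈ W, Q x = 0 ∧ polar Q b x ≠ 0 := by
    by_contra! h
    exact hb0 (hW b (hBW hb) fun y hy => hW.le_of_singular h3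
      (P := LinearMap.ker ((polarBilin Q) b)) h hy)
  have hx0 : x ≠ 0 := fun e => hbx (by rw [e, QuadraticMap.polar_zero_right])
  obtain ⟨f, hf, hqf, hxf⟩ := hW.exists_pair hx hqx hx0
  obtain ⟨z, hz, hzs⟩ : ∃ z ∈ W, z ∉ Submodule.span F (Set.range ![x, f]) := by
    by_contra! h
    have h1 := Submodule.finrank_mono (show W ≤ Submodule.span F (Set.range ![x, f]) from h)
    have h2 : Module.finrank F (Submodule.span F (Set.range ![x, f])) ≤ Fintype.card (Fin 2) :=
      finrank_range_le_card (R := F) ![x, f]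
    rw [Fintype.card_fin] at h2
    omega
  let π : V → V := fun y => y + (-polar Q y f) • x + (-polar Q y x) • f
  have hπW : ∀ y ∈ W, π y ∈ W := fun y hy =>
    W.add_mem (W.add_mem hy (W.smul_mem _ hx)) (W.smul_mem _ hf)
  have hπx : ∀ y, polar Q x (π y) = 0 := fun y => by
    simp only [π, polar_add_right', polar_smul_right', polar_self', hqx, hxf,
      QuadraticMap.polar_comm (⇑Q) y x]
    ring
  have hπf : ∀ y, polar Q f (π y) = 0 := fun y => by
    simp only [π, polar_add_right', polar_smul_right', polar_self', hqf,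
      QuadraticMap.polar_comm (⇑Q) f x, hxf, QuadraticMap.polar_comm (⇑Q) y f]
    ring
  have hr0 : π z ≠ 0 := fun e => hzs (by
    have e' : z = polar Q z f • x + polar Q z x • f := by
      have := e
      simp only [π, neg_smul] at this
      linear_combination (norm := module) this
    rw [e']
    exact add_mem (Submodule.smul_mem _ _ (Submodule.subset_span ⟨0, rfl⟩))
      (Submodule.smul_mem _ _ (Submodule.subset_span ⟨1, rfl⟩)))
  obtain ⟨y, hy, hzy⟩ := hW.exists_polar_one (hπW z hz) hr0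
  have hzy' : polar Q (π z) (π y) = 1 := by
    rw [show π y = y + (-polar Q y f) • x + (-polar Q y x) • f from rfl, polar_add_right',
      polar_add_right', polar_smul_right', polar_smul_right', hzy,
      QuadraticMap.polar_comm (⇑Q) (π z) x, hπx, QuadraticMap.polar_comm (⇑Q) (π z) f, hπf]
    ring
  set β := polar Q b x with hβ
  have hd : ∀ a ∈ W, polar Q x a = 0 → (polar Q b a - Q a * β) • x + (-β) • a ∈ B := by
    intro a ha hxa
    have h := B.sub_mem (hinv x hx hqx a ha hxa) hb
    rwa [add_assoc, add_sub_cancel_left] at h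
  have hxB : x ∈ B := by
    have h1 := hd (π z + π y) (W.add_mem (hπW z hz) (hπW y hy))
      (by rw [polar_add_right', hπx, hπx, add_zero])
    have h2 := B.sub_mem (B.sub_mem h1 (hd _ (hπW z hz) (hπx z))) (hd _ (hπW y hy) (hπx y))
    rw [polar_add_right', apply_add, hzy'] at h2
    have h3 : (-β) • x ∈ B := by
      convert h2 using 1
      module
    exact (B.smul_mem_iff (neg_ne_zero.2 hbx)).1 h3
  have hall : ∀ a ∈ W, polar Q x a = 0 → a ∈ B := fun a ha hxa => by
    have h := hd a ha hxa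
    rw [B.add_mem_iff_right (B.smul_mem _ hxB)] at h
    exact (B.smul_mem_iff (neg_ne_zero.2 hbx)).1 h
  intro a ha
  have h := hall (a - (polar Q x a / β) • b) (W.sub_mem ha (W.smul_mem _ (hBW hb)))
    (by rw [QuadraticMap.polar_sub_right, polar_smul_right', QuadraticMap.polar_comm (⇑Q) x b,
      ← hβ, div_mul_cancel₀ _ hbx, sub_self])
  exact (B.sub_mem_iff_left (B.smul_mem _ hb)).1 h

omit hQ in
/-- A nondegenerate space of even dimension has a similitude with multiplier `-1`. -/
theorem exists_neg_similitude {U : Type*} [AddCommGroup U] [Module F U] [FiniteDimensional F U]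
    (R : QuadraticForm F U) (hR : (polarBilin R).Nondegenerate) (hev : Even (Module.finrank F U)) :
    ∃ J : U ≃ₗ[F] U, ∀ x, R (J x) = -R x := by
  by_cases hsq : IsSquare (-1 : F)
  · obtain ⟨i, hi⟩ := hsq
    have hi0 : i ≠ 0 := by rintro rfl; simp at hi
    exact ⟨LinearEquiv.smulOfUnit (Units.mk0 i hi0), fun x => by
      show R (i • x) = _
      rw [apply_smul, ← hi]
      ring⟩
  have h2 : (2 : F) ≠ 0 := fun h => hsq ⟨1, by linear_combination -h⟩
  rcases Nat.eq_zero_or_pos (Module.finrank F U) with h0 | h0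
  · have : Subsingleton U := Module.finrank_zero_iff.1 h0
    exact ⟨LinearEquiv.refl F U, fun x => by rw [Subsingleton.elim x 0]; simp⟩
  obtain ⟨N, hN⟩ : ∃ N, Module.finrank F U = N + 1 := ⟨Module.finrank F U - 1, by omega⟩
  set B : BilinForm F U := polarBilin R with hB
  have hS : B.IsSymm := ⟨fun u v => QuadraticMap.polar_comm _ u v⟩
  have hnd : ((-1 : F) • B).Nondegenerate :=
    ⟨fun x hx => hR.1 x fun y => (mul_eq_zero.1 (hx y)).resolve_left (by simp),
      fun x hx => hR.2 x fun y => (mul_eq_zero.1 (hx y)).resolve_left (by simp)⟩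
  obtain ⟨b, b1, b2, b3⟩ := exists_normal_basis h2 hsq N B hS hR hN
  obtain ⟨d, d1, d2, d3⟩ := exists_normal_basis h2 hsq N ((-1 : F) • B)
    ⟨fun u v => by
      show -1 * B u v = -1 * B v u
      rw [hS.eq u v]⟩ hnd hN
  have prod : ∀ (C : BilinForm F U) (e : Module.Basis (Fin (N + 1)) F U),
      (∀ i j, i ≠ j → C (e i) (e j) = 0) → (∀ i, i ≠ Fin.last N → C (e i) (e i) = 1) →
      (LinearMap.BilinForm.toMatrix e C).det = C (e (Fin.last _)) (e (Fin.last _)) := fun C e a o => by
    rw [det_gram_diag e C a, Finset.prod_eq_single (Fin.last _) (fun i _ hi => o i hi) (by simp)]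
  have h5 := det_gram_of_isometry d b ((-1 : F) • B) ((-1 : F) • B) (LinearEquiv.refl F U)
    fun _ _ => rfl
  rw [prod _ d d1 d2, map_smul, Matrix.det_smul, Fintype.card_fin, prod _ b b1 b2,
    (show Even (N + 1) from hN ▸ hev).neg_one_pow, one_mul] at h5
  set D := (LinearMap.toMatrix d b ((LinearEquiv.refl F U : U ≃ₗ[F] U) : U →ₗ[F] U)).det
  have hD : D ≠ 0 := fun e => by
    rw [e, sq, mul_zero, zero_mul] at h5
    rcases d3 with h | h <;> rw [h5] at h <;> simp at h
  have hlast : ((-1 : F) • B) (d (Fin.last N)) (d (Fin.last N)) = B (b (Fin.last N)) (b (Fin.last N)) := by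
    rcases d3 with h | h <;> rcases b3 with h' | h' <;> rw [h, h']
    · exfalso
      rw [h, h'] at h5
      exact hsq ⟨D⁻¹, by field_simp; linear_combination -h5⟩
    · exfalso
      rw [h, h', mul_one] at h5
      exact hsq ⟨D, by linear_combination h5⟩
  refine ⟨b.equiv d (Equiv.refl _), fun x => ?_⟩
  have h := equiv_of_gram b d B ((-1 : F) • B) (fun i j => ?_) x x
  · set J := b.equiv d (Equiv.refl _)
    have h' : -1 * polar R (J x) (J x) = polar R x x := h
    rw [polar_self', polar_self'] at h'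
    exact mul_left_cancel₀ h2 (by linear_combination -h')
  · by_cases hij : i = j
    · subst hij
      by_cases hi : i = Fin.last N
      · subst hi
        exact hlast
      · rw [b2 i hi, d2 i hi]
    · rw [b1 i j hij, d1 i j hij]

end CfsgLib.Geo.OrthMax
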