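/-
Orthogonal decompositions into isometric nondegenerate blocks: components, elements supported on one block,
root spaces of singular vectors, and generation of `Ω` from one mixed root element.
-/
import Cfsg.Agent.Lib.Geo.OrthNondegTools

set_option autoImplicit false

namespace CfsgLib.Geo.OrthBlock

open CfsgLib.Classical CfsgLib.Classical.Quad CfsgLib.Geo.OrthMax
open QuadraticMap (polar polarBilin)

variable {F : Type*} [Field F] {V : Type*} [AddCommGroup V] [Module F V] [FiniteDimensional F V]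
  {Q : QuadraticForm F V} {t k : ℕ} {D : Fin t → Submodule F V}

/-- The hypotheses on the decomposition. -/
structure IsBlocks (Q : QuadraticForm F V) (k : ℕ) (D : Fin t → Submodule F V) : Prop where
  nondeg : (polarBilin Q).Nondegenerate
  nd : ∀ i, Nondeg Q (D i)
  orth : ∀ i j, i ≠ j → ∀ u ∈ D i, ∀ v ∈ D j, polar Q u v = 0
  rank : ∀ i, Module.finrank F (D i) = k
  span : iSup D = ⊤
  iso : ∀ i j, ∃ e : D i ≃ₗ[F] D j, ∀ u, Q (e u : V) = Q (u : V)
  three : 3 ≤ k
  five : 5 ≤ Module.finrank F V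

/-- The element permutes the blocks. -/
def Permutes (D : Fin t → Submodule F V) (g : OQ Q) : Prop :=
  ∀ i, ∃ j, ∀ x ∈ D i, (g : V ≃ₗ[F] V) x ∈ D j

/-- The element is supported on one block. -/
def Intl (D : Fin t → Submodule F V) (p : Fin t) (g : OQ Q) : Prop :=
  (∀ x ∈ D p, (g : V ≃ₗ[F] V) x ∈ D p) ∧ ∀ z ∈ perp Q (D p), (g : V ≃ₗ[F] V) z = z

section
variable (h : IsBlocks Q k D)
include h

/-- The component in a block. -/
noncomputable def comp (i : Fin t) : V →ₗ[F] V :=
  (D i).projection (perp Q (D i)) ((h.nd i).isCompl h.nondeg)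

theorem comp_mem (i : Fin t) (z : V) : comp h i z ∈ D i := Submodule.projection_apply_mem _ z

theorem mem_perp_block {i j : Fin t} (hij : i ≠ j) {z : V} (hz : z ∈ D j) : z ∈ perp Q (D i) :=
  mem_perp.2 fun w hw => h.orth i j hij w hw z hz

theorem comp_of_mem {i : Fin t} {z : V} (hz : z ∈ D i) : comp h i z = z :=
  Submodule.projection_apply_of_mem_left _ hz

theorem comp_of_perp {i : Fin t} {z : V} (hz : z ∈ perp Q (D i)) : comp h i z = 0 :=
  Submodule.projection_apply_of_mem_right _ hz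

theorem comp_of_ne {i j : Fin t} (hij : i ≠ j) {z : V} (hz : z ∈ D j) : comp h i z = 0 :=
  comp_of_perp h (mem_perp_block h hij hz)

theorem sub_comp (i : Fin t) (z : V) : z - comp h i z ∈ perp Q (D i) := Submodule.sub_projection_mem _ z

theorem polar_comp' {i : Fin t} {v : V} (hv : v ∈ D i) (z : V) : polar Q z v = polar Q (comp h i z) v := by
  have h1 := perp_left (sub_comp h i z) hv
  rwa [QuadraticMap.polar_sub_left, sub_eq_zero] at h1

theorem polar_comp_right {i : Fin t} {v : V} (hv : v ∈ D i) (z : V) : polar Q v z = polar Q v (comp h i z) := by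
  rw [QuadraticMap.polar_comm, polar_comp' h hv, QuadraticMap.polar_comm]

theorem sum_comp (z : V) : ∑ i, comp h i z = z := by
  refine sub_eq_zero.1 (h.nondeg.1 _ fun y => ?_)
  suffices (⊤ : Submodule F V) ≤ LinearMap.ker (polarBilin Q (∑ i, comp h i z - z)) from
    LinearMap.mem_ker.1 (this (Submodule.mem_top (x := y)))
  rw [← h.span, iSup_le_iff]
  intro j v hv
  rw [LinearMap.mem_ker, QuadraticMap.polarBilin_apply_apply, QuadraticMap.polar_sub_left,
    ← QuadraticMap.polarBilin_apply_apply, map_sum, LinearMap.sum_apply, Finset.sum_eq_single j]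
  · rw [QuadraticMap.polarBilin_apply_apply, polar_comp' h hv z, sub_self]
  · exact fun i _ hi => h.orth i j hi _ (comp_mem h i z) v hv
  · exact fun hn => absurd (Finset.mem_univ j) hn

theorem polar_eq_sum (x y : V) : polar Q x y = ∑ i, polar Q (comp h i x) (comp h i y) := by
  conv_lhs => rw [← sum_comp h y]
  rw [← QuadraticMap.polarBilin_apply_apply, map_sum]
  exact Finset.sum_congr rfl fun i _ => polar_comp' h (comp_mem h i y) x

theorem apply_sum (c : Fin t → V) (hc : ∀ i, c i ∈ D i) : Q (∑ i, c i) = ∑ i, Q (c i) := by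
  classical
  suffices ∀ S : Finset (Fin t), Q (∑ i ∈ S, c i) = ∑ i ∈ S, Q (c i) from this Finset.univ
  intro S
  induction S using Finset.induction with
  | empty => simp
  | insert j S hj ih =>
    have h0 : ∀ i ∈ S, polarBilin Q (c j) (c i) = 0 := fun i hi =>
      h.orth j i (fun e => hj (e ▸ hi)) _ (hc j) _ (hc i)
    rw [Finset.sum_insert hj, Finset.sum_insert hj, apply_add, ih, ← QuadraticMap.polarBilin_apply_apply,
      map_sum, Finset.sum_eq_zero h0, add_zero]

theorem apply_eq_sum (x : V) : Q x = ∑ i, Q (comp h i x) := by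
  conv_lhs => rw [← sum_comp h x]
  exact apply_sum h _ fun i => comp_mem h i x

theorem exists_comp_ne {x : V} (hx : x ≠ 0) : ∃ i, comp h i x ≠ 0 := by
  by_contra! hc
  exact hx ((sum_comp h x).symm.trans (Finset.sum_eq_zero fun i _ => hc i))

theorem eq_comp_of_forall {x : V} {i : Fin t} (hx : ∀ j, j ≠ i → comp h j x = 0) : x = comp h i x := by
  conv_lhs => rw [← sum_comp h x]
  exact Finset.sum_eq_single i (fun j _ hj => hx j hj) (fun hn => absurd (Finset.mem_univ i) hn)

omit h in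
theorem Intl.one (p : Fin t) : Intl D p (1 : OQ Q) := ⟨fun _ hx => hx, fun _ _ => rfl⟩

omit h in
theorem Intl.mul {p : Fin t} {g g' : OQ Q} (hg : Intl D p g) (hg' : Intl D p g') : Intl D p (g * g') :=
  ⟨fun x hx => hg.1 _ (hg'.1 x hx), fun z hz => by
    show (g : V ≃ₗ[F] V) ((g' : V ≃ₗ[F] V) z) = z
    rw [hg'.2 z hz, hg.2 z hz]⟩

omit h in
theorem Intl.inv {p : Fin t} {g : OQ Q} (hg : Intl D p g) : Intl D p g⁻¹ := by
  have hs : g ∈ oStab Q (D p) := mem_oStab_of_maps hg.1
  refine ⟨fun x hx => ((inv_mem hs) x).1 hx, fun z hz => ?_⟩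
  show (g : V ≃ₗ[F] V).symm z = z
  rw [LinearEquiv.symm_apply_eq, hg.2 z hz]

theorem Intl.permutes {p : Fin t} {g : OQ Q} (hg : Intl D p g) : Permutes D g := by
  intro i
  refine ⟨i, fun x hx => ?_⟩
  rcases eq_or_ne i p with rfl | hip
  · exact hg.1 x hx
  · rw [hg.2 x (mem_perp_block h hip.symm hx)]; exact hx

theorem Intl.apply_eq {p : Fin t} {g : OQ Q} (hg : Intl D p g) (z : V) :
    (g : V ≃ₗ[F] V) z - z = (g : V ≃ₗ[F] V) (comp h p z) - comp h p z := by
  have h1 := hg.2 _ (sub_comp h p z)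
  rw [map_sub, sub_eq_iff_eq_add] at h1
  rw [h1]
  abel

theorem Intl.apply_sub_mem {p : Fin t} {g : OQ Q} (hg : Intl D p g) (z : V) :
    (g : V ≃ₗ[F] V) z - z ∈ D p := by
  rw [hg.apply_eq h]
  exact (D p).sub_mem (hg.1 _ (comp_mem h p z)) (comp_mem h p z)

theorem Intl.apply_of_comp {p : Fin t} {g : OQ Q} (hg : Intl D p g) {z : V}
    (hz : (g : V ≃ₗ[F] V) (comp h p z) = comp h p z) : (g : V ≃ₗ[F] V) z = z :=
  sub_eq_zero.1 (by rw [hg.apply_eq h, hz, sub_self])

theorem intl_eich {p : Fin t} {w a : V} (hw : w ∈ D p) (ha : a ∈ D p) (hqw : Q w = 0) (hwa : polar Q w a = 0) :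
    Intl D p (eich h.nondeg hqw hwa) := by
  refine ⟨fun x hx => ?_, fun z hz => ?_⟩ <;> rw [eich_apply]
  · exact (D p).add_mem ((D p).add_mem hx ((D p).smul_mem _ hw)) ((D p).smul_mem _ ha)
  · rw [perp_left hz hw, perp_left hz ha]; simp

omit h in
theorem intl_refl {p : Fin t} {v : V} (hv : v ∈ D p) (hqv : Q v ≠ 0) : Intl D p (refl hqv) := by
  refine ⟨fun x hx => ?_, fun z hz => ?_⟩ <;> rw [refl_apply]
  · exact (D p).sub_mem hx ((D p).smul_mem _ hv)
  · rw [perp_left hz hv, mul_zero, zero_smul, sub_zero]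

variable [Finite F]

theorem exists_pair_block (i : Fin t) :
    ∃ u ∈ D i, ∃ f ∈ D i, u ≠ 0 ∧ Q u = 0 ∧ Q f = 0 ∧ polar Q u f = 1 := by
  obtain ⟨u, hu, hu0, hqu⟩ := (h.nd i).exists_singular (by rw [h.rank]; exact h.three)
  obtain ⟨f, hf, hqf, huf⟩ := (h.nd i).exists_pair hu hqu hu0
  exact ⟨u, hu, f, hf, hu0, hqu, hqf, huf⟩

theorem exists_value (i : Fin t) (c : F) : ∃ v ∈ D i, Q v = c := by
  obtain ⟨u, hu, f, hf, -, hqu, hqf, huf⟩ := exists_pair_block h i
  refine ⟨u + c • f, (D i).add_mem hu ((D i).smul_mem _ hf), ?_⟩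
  rw [apply_add, apply_smul, polar_smul_right', hqu, hqf, huf]
  ring

/-- Modulo `Ω` every isometry is supported on one block. -/
theorem exists_corr (l : Fin t) (g : OQ Q) : ∃ s, Intl D l s ∧ g * s⁻¹ ∈ eichGroup h.nondeg := by
  have hn := (eichGroup_normal h.nondeg)
  have hg : g ∈ reflGroup Q := by
    rw [reflGroup_eq_top h.nondeg (Or.inr (by have := h.five; omega))]; exact Subgroup.mem_top g
  induction hg using Subgroup.closure_induction with
  | mem r hr =>
    obtain ⟨v, hv, rfl⟩ := hr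
    obtain ⟨v', hv', hqv'⟩ := exists_value h l (Q v)
    refine ⟨refl (v := v') (by rw [hqv']; exact hv), intl_refl hv' _, ?_⟩
    rw [inv_eq_of_mul_eq_one_left (refl_mul_self _)]
    exact refl_mul_refl_mem h.nondeg h.five hv _ hqv'.symm
  | one => exact ⟨1, Intl.one l, by simp⟩
  | mul x y _ _ hx hy =>
    obtain ⟨s, hs, hxs⟩ := hx
    obtain ⟨s', hs', hys⟩ := hy
    refine ⟨s * s', hs.mul hs', ?_⟩
    rw [show x * y * (s * s')⁻¹ = x * s⁻¹ * (s * (y * s'⁻¹) * s⁻¹) by group]
    exact mul_mem hxs (hn.conj_mem _ hys s)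
  | inv x _ hx =>
    obtain ⟨s, hs, hxs⟩ := hx
    refine ⟨s⁻¹, hs.inv, ?_⟩
    rw [show x⁻¹ * s⁻¹⁻¹ = s⁻¹ * (x * s⁻¹)⁻¹ * s⁻¹⁻¹ by group]
    exact hn.conj_mem _ (inv_mem hxs) s⁻¹

/-- A nonzero vector of a block is moved by an element of `Ω` supported on the block. -/
theorem exists_move {p : Fin t} {v : V} (hv : v ∈ D p) (hv0 : v ≠ 0) :
    ∃ g ∈ eichGroup h.nondeg, Intl D p g ∧ (g : V ≃ₗ[F] V) v ≠ v := by
  by_contra! hc
  have hle : D p ≤ Submodule.span F {v} :=
    le_of_invariant_three (h.nd p) (by rw [h.rank]; exact h.three)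
      (B := Submodule.span F {v}) (Submodule.span_le.2 (by simp [hv]))
      (Submodule.mem_span_singleton_self v) hv0 fun x hx hqx a ha hxa => by
        have h1 := hc _ (eich_mem h.nondeg h.five hqx hxa) (intl_eich h hx ha hqx hxa)
        rw [eich_apply] at h1
        rw [h1]
        exact Submodule.mem_span_singleton_self v
  have h2 := Submodule.finrank_mono hle
  rw [finrank_span_singleton hv0, h.rank] at h2
  have := h.three
  omega

end

variable {K : Subgroup (OQ Q)}

/-- The vectors `b` with all `(x, c • b)` root elements in `K`. -/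
def rootSpace (hQ : (polarBilin Q).Nondegenerate) (K : Subgroup (OQ Q)) (x : V) : Submodule F V where
  carrier := {b | polar Q x b = 0 ∧ ∀ c : F, Has hQ K x (c • b)}
  zero_mem' := ⟨QuadraticMap.polar_zero_right _ _, fun c hw ha => by
    rw [eich_congr hQ rfl (smul_zero c), eich_zero_right hQ hw]; exact one_mem K⟩
  add_mem' {a b} ha hb := ⟨by rw [polar_add_right', ha.1, hb.1, add_zero], fun c => by
    rw [smul_add]
    exact Has.add hQ (ha.2 c) (hb.2 c) (by rw [polar_smul_right', ha.1, mul_zero])⟩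
  smul_mem' s b hb := ⟨by rw [polar_smul_right', hb.1, mul_zero], fun c => by
    rw [smul_smul]; exact hb.2 _⟩

variable {hQ : (polarBilin Q).Nondegenerate}

theorem mem_rootSpace_conj {g : OQ Q} (hg : g ∈ K) {x b : V} (hb : b ∈ rootSpace hQ K x) :
    (g : V ≃ₗ[F] V) b ∈ rootSpace hQ K ((g : V ≃ₗ[F] V) x) :=
  ⟨by rw [OQ.map_polar]; exact hb.1, fun c => by
    rw [← map_smul]; exact (hb.2 c).conj hQ hg⟩

theorem rootSpace_diff {g : OQ Q} (hg : g ∈ K) {x b : V} (hgx : (g : V ≃ₗ[F] V) x = x)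
    (hb : b ∈ rootSpace hQ K x) : (g : V ≃ₗ[F] V) b - b ∈ rootSpace hQ K x := by
  have h1 := mem_rootSpace_conj hg hb
  rw [hgx] at h1
  exact (rootSpace hQ K x).sub_mem h1 hb

theorem mem_rootSpace_swap {x c : V} (hqx : Q x = 0) (hqc : Q c = 0) (hc : c ∈ rootSpace hQ K x) :
    x ∈ rootSpace hQ K c := by
  refine ⟨by rw [QuadraticMap.polar_comm]; exact hc.1, fun s => ?_⟩
  refine Has.swap hQ hqc ?_ (by rw [apply_smul, hqx, mul_zero])
  intro hw ha
  have h1 : polar Q x (-c) = 0 := by rw [QuadraticMap.polar_neg_right, hc.1, neg_zero]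
  rw [eich_smul_left hQ hqx h1 s]
  have h2 := hc.2 (-s) hqx (by rw [polar_smul_right', hc.1, mul_zero])
  rwa [eich_congr hQ rfl (show (-s) • c = s • (-c) by module)] at h2

variable [Finite F]

/-- A pair of opposite root groups generates. -/
theorem le_of_pair (hn : 5 ≤ Module.finrank F V) {u f : V} (hqu : Q u = 0) (hqf : Q f = 0)
    (huf : polar Q u f = 1) (hu : HasRoot hQ K u) (hf : HasRoot hQ K f) : eichGroup hQ ≤ K := by
  have reach : ∀ {u f : V}, Q u = 0 → Q f = 0 → polar Q u f = 1 → HasRoot hQ K u → HasRoot hQ K f →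
      ∀ y, Q y = 0 → polar Q u y ≠ 0 → HasRoot hQ K y := by
    intro u f hqu hqf huf hu hf y hqy huy
    set z := (polar Q u y)⁻¹ • y with hz
    have hqz : Q z = 0 := by rw [hz, apply_smul, hqy, mul_zero]
    have huz : polar Q u z = 1 := by rw [hz, polar_smul_right', inv_mul_cancel₀ huy]
    set a := f - z with ha
    have hua : polar Q u a = 0 := by rw [ha, QuadraticMap.polar_sub_right, huf, huz, sub_self]
    have hfu : polar Q f u = 1 := by rw [QuadraticMap.polar_comm]; exact huf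
    set d := polar Q f a - Q a
    have hm : (eich hQ hqu hua : V ≃ₗ[F] V) f = z + d • u := by
      rw [eich_apply, hfu, mul_one]
      simp only [d, ha]
      module
    have h3 : Q (z + d • u) = 0 := by rw [← hm, OQ.map_apply, hqf]
    rw [apply_add, hqz, apply_smul, hqu, polar_smul_right', QuadraticMap.polar_comm _ z u, huz] at h3
    have hd : d = 0 := by linear_combination h3
    have h1 : HasRoot hQ K z := by
      rw [show z = z + d • u by rw [hd, zero_smul, add_zero], ← hm]
      exact hf.conj hQ (hu a hqu hua)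
    exact h1.of_smul hQ (inv_ne_zero huy)
  refine le_of_has hQ hn fun y a hqy hqa hya => ?_
  suffices HasRoot hQ K y from this a
  rcases eq_or_ne (polar Q u y) 0 with h0 | h0
  swap
  · exact reach hqu hqf huf hu hf y hqy h0
  by_cases hy : y ∈ Submodule.span F {u}
  · obtain ⟨c, rfl⟩ := Submodule.mem_span_singleton.1 hy
    rcases eq_or_ne c 0 with rfl | hc
    · intro b hw hb
      rw [eich_congr hQ (zero_smul F u) rfl, eich_zero_left hQ]
      exact one_mem K
    · exact HasRoot.of_smul hQ (inv_ne_zero hc) (by rw [inv_smul_smul₀ hc]; exact hu)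
  obtain ⟨b, hyb, hub⟩ := exists_sep_polar hQ hy
  set a' := (polar Q y f - 1) • b with ha'
  have hua : polar Q u a' = 0 := by
    rw [ha', polar_smul_right', hub u (Submodule.mem_span_singleton_self u), mul_zero]
  set f' := (eich hQ hqu hua : V ≃ₗ[F] V) f
  have hf' : HasRoot hQ K f' := hf.conj hQ (hu a' hqu hua)
  have hqf' : Q f' = 0 := by rw [OQ.map_apply, hqf]
  have hfu : polar Q f u = 1 := by rw [QuadraticMap.polar_comm]; exact huf
  have huf' : polar Q u f' = 1 := by
    simp only [f', eich_apply, polar_add_right', polar_smul_right', polar_self', hqu, huf, hua]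
    ring
  have hyf' : polar Q y f' = 1 := by
    simp only [f', eich_apply, polar_add_right', polar_smul_right', hfu]
    rw [QuadraticMap.polar_comm _ y u, h0]
    simp only [ha', polar_smul_right', hyb]
    ring
  exact reach hqf' hqu (by rw [QuadraticMap.polar_comm]; exact huf') hf' hu y hqy
    (by rw [QuadraticMap.polar_comm, hyf']; exact one_ne_zero)

variable (h : IsBlocks Q k D) (hM : ∀ g ∈ eichGroup h.nondeg, Permutes D g → g ∈ K)
include hM

theorem intl_mem {p : Fin t} {g : OQ Q} (hg : Intl D p g) (hgE : g ∈ eichGroup h.nondeg) : g ∈ K :=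
  hM g hgE (hg.permutes h)

/-- Elements of a block which fix `x` move root vectors inside the root space. -/
theorem block_le_rootSpace {p : Fin t} {x b : V} (hx : comp h p x = 0) (hb : b ∈ rootSpace h.nondeg K x)
    (hbp : comp h p b ≠ 0) : D p ≤ rootSpace h.nondeg K x := by
  have fix : ∀ {g : OQ Q}, Intl D p g → (g : V ≃ₗ[F] V) x = x := fun {g} hg => hg.apply_of_comp h (by rw [hx, map_zero])
  obtain ⟨g, hgE, hg, hgb⟩ := exists_move h (comp_mem h p b) hbp
  set c := (g : V ≃ₗ[F] V) b - b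
  have hc : c ∈ rootSpace h.nondeg K x := rootSpace_diff (intl_mem h hM hg hgE) (fix hg) hb
  have hc0 : c ≠ 0 := by
    intro e
    refine hgb ?_
    rw [← sub_eq_zero, ← hg.apply_eq h]
    exact e
  refine le_trans (le_of_invariant_three (h.nd p) (by rw [h.rank]; exact h.three)
    (B := rootSpace h.nondeg K x ⊓ D p) inf_le_right ⟨hc, hg.apply_sub_mem h b⟩ hc0 ?_) inf_le_left
  intro w hw hqw a ha hwa
  have hi := intl_eich h hw ha hqw hwa
  have h1 := mem_rootSpace_conj (intl_mem h hM hi (eich_mem h.nondeg h.five hqw hwa)) hc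
  rw [fix hi] at h1
  rw [← eich_apply h.nondeg hqw hwa]
  exact ⟨h1, hi.1 _ (hg.apply_sub_mem h b)⟩

/-- An element of `Ω` interchanging two blocks and fixing a given third one. -/
theorem exists_transposition {i l m : Fin t} (hil : i ≠ l) (him : i ≠ m) :
    ∃ g ∈ K, (∀ u ∈ D i, (g : V ≃ₗ[F] V) u = u) ∧ ∀ z ∈ D m, ∃ y ∈ D l, (g : V ≃ₗ[F] V) y = z := by
  classical
  set σ := Equiv.swap l m with hσ
  have hσ2 : ∀ j, σ (σ j) = j := fun j => Equiv.swap_apply_self l m j
  have hφ : ∀ j, ∃ e : D j ≃ₗ[F] D (σ j), (∀ u, Q (e u : V) = Q (u : V)) ∧ (σ j = j → ∀ u, (e u : V) = u) := by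
    intro j
    by_cases hj : σ j = j
    · exact ⟨LinearEquiv.ofEq _ _ (by rw [hj]), fun u => rfl, fun _ u => rfl⟩
    · obtain ⟨e, he⟩ := h.iso j (σ j)
      exact ⟨e, he, fun hj' => absurd hj' hj⟩
  choose φ hφ hφ' using hφ
  let P : ∀ j, V →ₗ[F] D j := fun j => (comp h j).codRestrict (D j) (comp_mem h j)
  let T : V →ₗ[F] V := ∑ j, (D (σ j)).subtype ∘ₗ (φ j).toLinearMap ∘ₗ P j
  have hT : ∀ z, T z = ∑ j, ((φ j (P j z) : D (σ j)) : V) := fun z => by
    simp [T, LinearMap.sum_apply]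
  have hTQ : ∀ z, Q (T z) = Q z := by
    intro z
    rw [hT, apply_eq_sum h z]
    have key : ∀ S : Finset (Fin t), Q (∑ j ∈ S, ((φ j (P j z) : D (σ j)) : V)) = ∑ j ∈ S, Q (comp h j z) := by
      intro S
      induction S using Finset.induction with
      | empty => simp
      | insert j S hj ih =>
        have h0 : ∀ i ∈ S, polarBilin Q ((φ j (P j z) : D (σ j)) : V) ((φ i (P i z) : D (σ i)) : V) = 0 := fun i hi =>
          h.orth (σ j) (σ i) (fun e => hj (σ.injective e ▸ hi)) _ (Subtype.coe_prop _) _ (Subtype.coe_prop _)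
        rw [Finset.sum_insert hj, Finset.sum_insert hj, apply_add, ih, ← QuadraticMap.polarBilin_apply_apply,
          map_sum, Finset.sum_eq_zero h0, add_zero, hφ]
        rfl
    exact key Finset.univ
  set τ := ofPreserves h.nondeg T hTQ
  have hτ : ∀ j, ∀ z (hz : z ∈ D j), (τ : V ≃ₗ[F] V) z = (φ j ⟨z, hz⟩ : V) := by
    intro j z hz
    rw [ofPreserves_apply, hT, Finset.sum_eq_single j]
    · rw [show P j z = ⟨z, hz⟩ from Subtype.ext (comp_of_mem h hz)]
    · intro i _ hi
      rw [show P i z = 0 from Subtype.ext (comp_of_ne h hi hz), map_zero, ZeroMemClass.coe_zero]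
    · exact fun hn => absurd (Finset.mem_univ j) hn
  obtain ⟨s, hs, hsE⟩ := exists_corr h l τ
  have hτm : ∀ j, ∀ z ∈ D j, (τ : V ≃ₗ[F] V) z ∈ D (σ j) := fun j z hz => by
    rw [hτ j z hz]; exact Subtype.coe_prop _
  refine ⟨τ * s⁻¹, hM _ hsE fun j => ⟨σ j, fun x hx => hτm j _ ?_⟩, fun u hu => ?_, fun z hz => ?_⟩
  · rcases eq_or_ne j l with rfl | hjl
    · exact hs.inv.1 x hx
    · have e := hs.inv.2 x (mem_perp_block h hjl.symm hx)
      exact e.symm ▸ hx
  · show (τ : V ≃ₗ[F] V) (((s⁻¹ : OQ Q) : V ≃ₗ[F] V) u) = u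
    rw [hs.inv.2 u (mem_perp_block h hil.symm hu), hτ i u hu]
    exact hφ' i (Equiv.swap_apply_of_ne_of_ne hil him) _
  · obtain ⟨y, hy⟩ := (φ l).surjective ⟨z, by rw [hσ, Equiv.swap_apply_left]; exact hz⟩
    refine ⟨(s : V ≃ₗ[F] V) (y : V), hs.1 _ y.2, ?_⟩
    show (τ : V ≃ₗ[F] V) ((s : V ≃ₗ[F] V).symm ((s : V ≃ₗ[F] V) (y : V))) = z
    rw [LinearEquiv.symm_apply_apply, hτ l y y.2]
    exact congrArg Subtype.val hy

/-- One mixed root element suffices. -/
theorem le_of_mixed {i l : Fin t} (hil : i ≠ l) {u c : V} (hu : u ∈ D i) (hqu : Q u = 0) (hu0 : u ≠ 0)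
    (hc : c ∈ D l) (hc0 : c ≠ 0) (hmem : c ∈ rootSpace h.nondeg K u) : eichGroup h.nondeg ≤ K := by
  have full : ∀ {i l : Fin t}, i ≠ l → ∀ {u c : V}, u ∈ D i → Q u = 0 → c ∈ D l → c ≠ 0 →
      c ∈ rootSpace h.nondeg K u → HasRoot h.nondeg K u ∧ D l ≤ rootSpace h.nondeg K u := by
    intro i l hil u c hu hqu hc hc0 hmem
    have hl : D l ≤ rootSpace h.nondeg K u :=
      block_le_rootSpace h hM (comp_of_ne h hil.symm hu) hmem (by rwa [comp_of_mem h hc])
    refine ⟨fun a hqu' hua => ?_, hl⟩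
    have hparts : ∀ m, comp h m a ∈ rootSpace h.nondeg K u := by
      intro m
      rcases eq_or_ne m i with rfl | hmi
      · have hp : polar Q u (comp h m a) = 0 := by rw [← polar_comp_right h hu, hua]
        refine ⟨hp, fun s hw ha => intl_mem h hM
          (intl_eich h hu ((D m).smul_mem _ (comp_mem h m a)) hw ha) (eich_mem h.nondeg h.five hw ha)⟩
      · obtain ⟨g, hgK, hgi, hgm⟩ := exists_transposition h hM hil hmi.symm
        obtain ⟨y, hy, hy'⟩ := hgm _ (comp_mem h m a)
        have h1 := mem_rootSpace_conj hgK (hl hy)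
        rwa [hgi u hu, hy'] at h1
    have hsum := (rootSpace h.nondeg K u).sum_mem (t := Finset.univ) fun m _ => hparts m
    rw [sum_comp] at hsum
    have := hsum.2 1
    rw [one_smul] at this
    exact this hqu' hua
  obtain ⟨hru, hl⟩ := full hil hu hqu hc hc0 hmem
  obtain ⟨s, hs, hs0, hqs⟩ := (h.nd l).exists_singular (by rw [h.rank]; exact h.three)
  obtain ⟨f, hf, hqf, huf⟩ := (h.nd i).exists_pair hu hqu hu0
  have hus : u ∈ rootSpace h.nondeg K s := mem_rootSpace_swap hqu hqs (hl hs)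
  obtain ⟨-, hi⟩ := full hil.symm hs hqs hu hu0 hus
  have hsf : s ∈ rootSpace h.nondeg K f := mem_rootSpace_swap hqs hqf (hi hf)
  exact le_of_pair h.five hqu hqf huf hru (full hil hf hqf hs hs0 hsf).1

/-- A singular root vector missing a component suffices. -/
theorem le_of_singular_root {x c : V} {p : Fin t} (hqx : Q x = 0) (hqc : Q c = 0)
    (hc : c ∈ rootSpace h.nondeg K x) (hcp : comp h p c = 0) (hxp : comp h p x ≠ 0) (hc0 : c ≠ 0) :
    eichGroup h.nondeg ≤ K := by
  have h1 := block_le_rootSpace h hM hcp (mem_rootSpace_swap hqx hqc hc) hxp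
  obtain ⟨s, hs, hs0, hqs⟩ := (h.nd p).exists_singular (by rw [h.rank]; exact h.three)
  have h2 := mem_rootSpace_swap hqc hqs (h1 hs)
  obtain ⟨r, hr⟩ := exists_comp_ne h hc0
  have hrp : r ≠ p := fun e => hr (e ▸ hcp)
  have h3 := block_le_rootSpace h hM (comp_of_ne h hrp hs) h2 hr
  obtain ⟨u, hu, hu0, -⟩ := (h.nd r).exists_singular (by rw [h.rank]; exact h.three)
  exact le_of_mixed h hM hrp.symm hs hqs hs0 hu hu0 (h3 hu)

/-- A singular root vector inside one block suffices. -/
theorem le_of_singular_block {x c : V} {l : Fin t} (hqx : Q x = 0) (hx : x ∉ D l) (hqc : Q c = 0) (hc : c ∈ D l)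
    (hc0 : c ≠ 0) (hmem : c ∈ rootSpace h.nondeg K x) : eichGroup h.nondeg ≤ K := by
  obtain ⟨p, hp, hpl⟩ : ∃ p, comp h p x ≠ 0 ∧ p ≠ l := by
    by_contra! hcon
    refine hx ?_
    rw [eq_comp_of_forall h (x := x) (i := l) fun j hj => by by_contra h0; exact hj (hcon j h0)]
    exact comp_mem h l x
  exact le_of_singular_root h hM hqx hqc hmem (comp_of_ne h hpl hc) hp hc0

end CfsgLib.Geo.OrthBlock
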