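/-
From a root element with two components to `Ω`: moves inside one block, commutators, and localisation.
-/
import Cfsg.Agent.Lib.Geo.OrthBlockCore

set_option autoImplicit false

namespace CfsgLib.Geo.OrthBlock

open CfsgLib.Classical CfsgLib.Classical.Quad CfsgLib.Geo.OrthMax
open QuadraticMap (polar polarBilin)

variable {F : Type*} [Field F] [Finite F] {V : Type*} [AddCommGroup V] [Module F V] [FiniteDimensional F V]
  {Q : QuadraticForm F V} {t k : ℕ} {D : Fin t → Submodule F V} (h : IsBlocks Q k D)
include h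

omit [Finite F] in
theorem rank_inf_perp (p : Fin t) (S : Submodule F V) :
    k ≤ Module.finrank F ↥(D p ⊓ perp Q S) + Module.finrank F S := by
  have h1 := Submodule.finrank_sup_add_finrank_inf_eq (D p) (perp Q S)
  have h2 := Submodule.finrank_le (D p ⊔ perp Q S)
  have h3 := Submodule.finrank_le S
  rw [h.rank, finrank_perp h.nondeg] at h1
  omega

omit [Finite F] in
theorem rank_inf_span (p : Fin t) (x : V) : k ≤ Module.finrank F ↥(D p ⊓ perp Q (Submodule.span F {x})) + 1 := by
  refine (rank_inf_perp h p _).trans (Nat.add_le_add_left ?_ _)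
  rcases eq_or_ne x 0 with rfl | hx
  · rw [Submodule.span_zero_singleton, finrank_bot]; exact Nat.zero_le 1
  · rw [finrank_span_singleton hx]

omit [Finite F] h in
theorem mem_perp_span {x z : V} : z ∈ perp Q (Submodule.span F {x}) ↔ polar Q x z = 0 :=
  ⟨fun hz => mem_perp.1 hz x (Submodule.mem_span_singleton_self x), fun hz => mem_perp.2 fun w hw => by
    obtain ⟨c, rfl⟩ := Submodule.mem_span_singleton.1 hw
    rw [polar_smul_left', hz, mul_zero]⟩

/-- In dimension at least four the perpendicular space of a nonsingular vector has a hyperbolic pair. -/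
theorem exists_pair_perp (hk : 4 ≤ k) {p : Fin t} {x : V} (hx : x ∈ D p) (hqx : Q x ≠ 0) :
    ∃ u ∈ D p, ∃ f ∈ D p, u ≠ 0 ∧ Q u = 0 ∧ Q f = 0 ∧ polar Q u f = 1 ∧ polar Q x u = 0 ∧ polar Q x f = 0 := by
  have hx0 : x ≠ 0 := fun e => hqx (by rw [e, QuadraticMap.map_zero])
  set U := D p ⊓ perp Q (Submodule.span F {x}) with hU
  have hU3 : 3 ≤ Module.finrank F U := by
    have h1 := rank_inf_span h p x
    rw [← hU] at h1
    omega
  obtain ⟨u, huU, hu0, hqu⟩ : ∃ u ∈ U, u ≠ 0 ∧ Q u = 0 := by
    by_cases h2 : (2 : F) = 0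
    · obtain ⟨z, hz, hzx⟩ : ∃ z ∈ U, z ∉ Submodule.span F {x} := by
        by_contra! hc
        have h1 := Submodule.finrank_mono (show U ≤ Submodule.span F {x} from hc)
        rw [finrank_span_singleton hx0] at h1
        omega
      have := charP_two_of_eq_zero h2
      obtain ⟨r, hr⟩ := isSquare_of_charTwo' (Q z / Q x)
      refine ⟨z + r • x, U.add_mem hz (U.smul_mem _ ⟨hx, mem_perp_span.2 (by rw [polar_self', h2, zero_mul])⟩),
        fun e => hzx ?_, ?_⟩
      · rw [eq_neg_of_add_eq_zero_left e]
        exact neg_mem (Submodule.smul_mem _ _ (Submodule.mem_span_singleton_self x))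
      · rw [apply_add, apply_smul, polar_smul_right', ← hr, div_mul_cancel₀ _ hqx,
          QuadraticMap.polar_comm, mem_perp_span.1 hz.2]
        linear_combination (Q z) * h2
    · refine Nondeg.exists_singular (fun z hz hperp => ?_) hU3
      refine (h.nd p) z hz.1 fun y hy => ?_
      have hxx : polar Q x x ≠ 0 := by rw [polar_self']; exact mul_ne_zero h2 hqx
      have h1 : polar Q z (y - (polar Q x y / polar Q x x) • x) = 0 :=
        hperp _ ⟨(D p).sub_mem hy ((D p).smul_mem _ hx), mem_perp_span.2 (by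
          rw [QuadraticMap.polar_sub_right, polar_smul_right', div_mul_cancel₀ _ hxx, sub_self])⟩
      rw [QuadraticMap.polar_sub_right, polar_smul_right', QuadraticMap.polar_comm _ z x,
        mem_perp_span.1 hz.2, mul_zero, sub_zero] at h1
      exact h1
  obtain ⟨f₀, hf₀, huf₀, hxf₀⟩ := (h.nd p).exists_sep (P := Submodule.span F {x})
    (Submodule.span_le.2 (by simp [hx])) huU.1 (fun hm => by
      obtain ⟨c, hc⟩ := Submodule.mem_span_singleton.1 hm
      rw [← hc, apply_smul] at hqu
      rcases mul_eq_zero.1 hqu with h1 | h1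
      · exact hu0 (by rw [← hc, mul_self_eq_zero.1 h1, zero_smul])
      · exact hqx h1)
  have hxu : polar Q x u = 0 := mem_perp_span.1 huU.2
  refine ⟨u, huU.1, f₀ + (-Q f₀) • u, (D p).add_mem hf₀ ((D p).smul_mem _ huU.1), hu0, hqu, ?_, ?_, hxu, ?_⟩
  · rw [apply_add, apply_smul, polar_smul_right', hqu, QuadraticMap.polar_comm _ f₀ u, huf₀]; ring
  · rw [polar_add_right', polar_smul_right', polar_self', hqu, huf₀]; ring
  · rw [polar_add_right', polar_smul_right', hxu, hxf₀ x (Submodule.mem_span_singleton_self x)]; ring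

/-- A singular vector orthogonal to a nonsingular one gives a move of the latter by that vector. -/
theorem exists_shift {p : Fin t} {x d : V} (hx : x ∈ D p) (hqx : Q x ≠ 0) (hd : d ∈ D p) (hd0 : d ≠ 0)
    (hqd : Q d = 0) (hxd : polar Q x d = 0) :
    ∃ g ∈ eichGroup h.nondeg, Intl D p g ∧ (g : V ≃ₗ[F] V) x = x + d := by
  obtain ⟨a, ha, hxa, hda⟩ := (h.nd p).exists_sep (P := Submodule.span F {d})
    (Submodule.span_le.2 (by simp [hd])) hx (fun hm => by
      obtain ⟨c, hc⟩ := Submodule.mem_span_singleton.1 hm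
      rw [← hc, apply_smul, hqd, mul_zero] at hqx
      exact hqx rfl)
  have hda' := hda d (Submodule.mem_span_singleton_self d)
  refine ⟨eich h.nondeg hqd hda', eich_mem h.nondeg h.five _ _, intl_eich h hd ha hqd hda', ?_⟩
  rw [eich_apply, hxa, hxd]
  simp

variable {K : Subgroup (OQ Q)} (hM : ∀ g ∈ eichGroup h.nondeg, Permutes D g → g ∈ K)
include hM

/-- Two root vectors avoiding a block, with nonzero product, produce a singular one inside it. -/
theorem le_of_commutator {p : Fin t} {x c c' d : V} (hqx : Q x = 0) (hxD : x ∉ D p)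
    (hqxp : Q (comp h p x) ≠ 0) (hc : c ∈ rootSpace h.nondeg K x) (hc' : c' ∈ rootSpace h.nondeg K x)
    (hcp : comp h p c = 0) (hc'p : comp h p c' = 0) (hcc : polar Q c c' ≠ 0) (hd : d ∈ D p) (hd0 : d ≠ 0)
    (hqd : Q d = 0) (hxd : polar Q (comp h p x) d = 0) : eichGroup h.nondeg ≤ K := by
  obtain ⟨m, hmE, hm, hmx⟩ := exists_shift h (comp_mem h p x) hqxp hd hd0 hqd hxd
  have hmx' : (m : V ≃ₗ[F] V) x = x + d := by
    have h1 := hm.apply_eq h x
    rw [hmx, add_sub_cancel_left, sub_eq_iff_eq_add] at h1
    rw [h1, add_comm]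
  have hmc : ∀ {z : V}, comp h p z = 0 → (m : V ≃ₗ[F] V) z = z := fun hz =>
    hm.apply_of_comp h (by rw [hz, map_zero])
  have hd' : ∀ {z : V}, comp h p z = 0 → polar Q d z = 0 := fun {z} hz => by
    rw [polar_comp_right h hd, hz, QuadraticMap.polar_zero_right]
  have h1 := mem_rootSpace_conj (intl_mem h hM hm hmE) hc'
  rw [hmc hc'p, hmx'] at h1
  have hxd' : polar Q x d = 0 := by rw [polar_comp' h hd]; exact hxd
  have hxc : polar Q x c = 0 := hc.1
  set e := eich h.nondeg hqx hxc
  have he : e ∈ K := by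
    have h2 := hc.2 1
    rw [one_smul] at h2
    exact h2 _ _
  have h3 := mem_rootSpace_conj he h1
  have e1 : (e : V ≃ₗ[F] V) (x + d) = x + d := by
    rw [eich_apply, polar_add_left', polar_add_left', polar_self', hqx, hxc, hd' hcp,
      QuadraticMap.polar_comm _ d x, hxd']
    simp
  have e2 : (e : V ≃ₗ[F] V) c' = c' + polar Q c' c • x := by
    rw [eich_apply, QuadraticMap.polar_comm _ c' x, hc'.1]
    simp
  rw [e1, e2] at h3
  have h4 : x ∈ rootSpace h.nondeg K (x + d) := by
    have h5 := (rootSpace h.nondeg K (x + d)).sub_mem h3 h1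
    rw [add_sub_cancel_left] at h5
    exact (Submodule.smul_mem_iff _ (by rwa [QuadraticMap.polar_comm])).1 h5
  have h6 : x + d ∈ rootSpace h.nondeg K x :=
    mem_rootSpace_swap (by rw [apply_add, hqx, hqd, hxd']; ring) hqx h4
  have hxx : x ∈ rootSpace h.nondeg K x := ⟨by rw [polar_self', hqx, mul_zero], fun s hw ha => by
    have : eich h.nondeg hw ha = 1 := Subtype.ext <| LinearEquiv.ext fun z => by
      rw [eich_apply, apply_smul, hqx, polar_smul_right']
      show _ = z
      module
    rw [this]; exact one_mem K⟩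
  have h7 := (rootSpace h.nondeg K x).sub_mem h6 hxx
  rw [add_sub_cancel_left] at h7
  exact le_of_singular_block h hM hqx hxD hqd hd hd0 h7

/-- The difference made by a root element of the block which fixes the component of `x`. -/
theorem diff_mem {p : Fin t} {x b d a : V} (hb : b ∈ rootSpace h.nondeg K x) (hd : d ∈ D p) (hqd : Q d = 0)
    (ha : a ∈ D p) (hda : polar Q d a = 0) (hxd : polar Q (comp h p x) d = 0)
    (hxa : polar Q (comp h p x) a = 0) :
    (polar Q (comp h p b) a - Q a * polar Q (comp h p b) d) • d + (-polar Q (comp h p b) d) • a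
      ∈ rootSpace h.nondeg K x := by
  have hi := intl_eich h hd ha hqd hda
  have hfix : (eich h.nondeg hqd hda : V ≃ₗ[F] V) x = x := by
    rw [eich_apply, polar_comp' h hd, polar_comp' h ha, hxd, hxa]
    simp
  have h1 := rootSpace_diff (intl_mem h hM hi (eich_mem h.nondeg h.five hqd hda)) hfix hb
  rw [eich_apply, polar_comp' h hd b, polar_comp' h ha b] at h1
  convert h1 using 1
  abel

/-- Localisation with two vectors having nonzero product. -/
theorem mem_of_two {p : Fin t} {x b d a a' : V} (hb : b ∈ rootSpace h.nondeg K x) (hd : d ∈ D p) (hqd : Q d = 0)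
    (ha : a ∈ D p) (hda : polar Q d a = 0) (hxd : polar Q (comp h p x) d = 0)
    (hxa : polar Q (comp h p x) a = 0) (ha' : a' ∈ D p) (hda' : polar Q d a' = 0)
    (hxa' : polar Q (comp h p x) a' = 0) (haa : polar Q a a' ≠ 0) (hbd : polar Q (comp h p b) d ≠ 0) :
    d ∈ rootSpace h.nondeg K x := by
  have h1 := diff_mem h hM hb hd hqd ha hda hxd hxa
  have h2 := diff_mem h hM hb hd hqd ha' hda' hxd hxa'
  have h3 := diff_mem h hM hb hd hqd ((D p).add_mem ha ha') (by rw [polar_add_right', hda, hda', add_zero])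
    hxd (by rw [polar_add_right', hxa, hxa', add_zero])
  have h4 := Submodule.sub_mem _ (Submodule.sub_mem _ h3 h1) h2
  refine (Submodule.smul_mem_iff _ (neg_ne_zero.2 (mul_ne_zero haa hbd))).1 ?_
  convert h4 using 1
  rw [polar_add_right', apply_add]
  module

/-- A singular component of `x` is a root vector unless the root vector is proportional there. -/
theorem singular_comp_mem (hodd : k = 3 → (2 : F) ≠ 0) {p : Fin t} {x b : V}
    (hb : b ∈ rootSpace h.nondeg K x) (hqxp : Q (comp h p x) = 0)
    (hbp : comp h p b ∉ Submodule.span F {comp h p x}) : comp h p x ∈ rootSpace h.nondeg K x := by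
  set xp := comp h p x
  set bp := comp h p b
  have hxpD : xp ∈ D p := comp_mem h p x
  have hxx : polar Q xp xp = 0 := by rw [polar_self', hqxp, mul_zero]
  rcases eq_or_ne (polar Q bp xp) 0 with h0 | h0
  · obtain ⟨a, ha, hba, hxa⟩ := (h.nd p).exists_sep (P := Submodule.span F {xp})
      (Submodule.span_le.2 (by simp [hxpD])) (comp_mem h p b) hbp
    have hxa' := hxa xp (Submodule.mem_span_singleton_self xp)
    have h1 := diff_mem h hM hb hxpD hqxp ha hxa' hxx hxa'
    rw [hba, h0] at h1
    simpa using h1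
  · obtain ⟨a, haU, hax⟩ : ∃ a ∈ D p ⊓ perp Q (Submodule.span F {xp}), a ∉ Submodule.span F {xp} := by
      by_contra! hc
      have h1 := Submodule.finrank_mono
        (show D p ⊓ perp Q (Submodule.span F {xp}) ≤ Submodule.span F {xp} from hc)
      have h2 := rank_inf_span h p xp
      rw [finrank_span_singleton (fun e => h0 (by rw [e, QuadraticMap.polar_zero_right]))] at h1
      have := h.three
      omega
    obtain ⟨a', ha', haa, hxa'⟩ := (h.nd p).exists_sep (P := Submodule.span F {xp})
      (Submodule.span_le.2 (by simp [hxpD])) haU.1 hax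
    have hxa := mem_perp_span.1 haU.2
    have hxa'' := hxa' xp (Submodule.mem_span_singleton_self xp)
    exact mem_of_two h hM hb hxpD hqxp haU.1 hxa hxx hxa ha' hxa'' hxa'' (by rw [haa]; exact one_ne_zero) h0

end CfsgLib.Geo.OrthBlock
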