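/-
Root vectors with two components generate `Ω` when the blocks have dimension at least four.
-/
import Cfsg.Agent.Lib.Geo.OrthBlockRoots

set_option autoImplicit false

namespace CfsgLib.Geo.OrthBlock

open CfsgLib.Classical CfsgLib.Classical.Quad CfsgLib.Geo.OrthMax
open QuadraticMap (polar polarBilin)

variable {F : Type*} [Field F] [Finite F] {V : Type*} [AddCommGroup V] [Module F V] [FiniteDimensional F V]
  {Q : QuadraticForm F V} {t k : ℕ} {D : Fin t → Submodule F V} (h : IsBlocks Q k D)
  {K : Subgroup (OQ Q)} (hM : ∀ g ∈ eichGroup h.nondeg, Permutes D g → g ∈ K)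
include h

omit [Finite F] in
theorem exists_other {x : V} (hqx : Q x = 0) {p : Fin t} (hp : Q (comp h p x) ≠ 0) :
    ∃ r, r ≠ p ∧ Q (comp h r x) ≠ 0 := by
  by_contra! hc
  rw [apply_eq_sum h x, Finset.sum_eq_single p (fun r _ hr => hc r hr)
    (fun hn => absurd (Finset.mem_univ p) hn)] at hqx
  exact hp hqx

omit [Finite F] in
theorem comp_sub_smul {p : Fin t} {x b : V} {μ : F} (hμ : μ • comp h p x = comp h p b) :
    comp h p (b - μ • x) = 0 := by
  rw [map_sub, map_smul, hμ, sub_self]

include hM

/-- Localisation at a nonsingular component, with the exceptional behaviour over two elements. -/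
theorem localise (hk : 4 ≤ k)
    (hts : k = 4 → Nat.card F = 2 → ∀ p, ∀ y ∈ D p, ∀ z ∈ D p, Q y = 0 → Q z = 0 → polar Q y z = 0 → y ≠ 0 →
      z ∈ Submodule.span F {y})
    {p : Fin t} {x b : V} (hqx : Q x = 0) (hxD : ∀ l, x ∉ D l) (hb : b ∈ rootSpace h.nondeg K x)
    (hqxp : Q (comp h p x) ≠ 0) (hbp : comp h p b ∉ Submodule.span F {comp h p x}) :
    eichGroup h.nondeg ≤ K ∨ (k = 4 ∧ Nat.card F = 2 ∧ comp h p x ∈ rootSpace h.nondeg K x ∧
      polar Q (comp h p b) (comp h p x) ≠ 0 ∧ Q (comp h p b) = 0) := by
  set xp := comp h p x with hxpdef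
  set bp := comp h p b with hbpdef
  have hxpD : xp ∈ D p := comp_mem h p x
  have hbpD : bp ∈ D p := comp_mem h p b
  have done : ∀ d ∈ D p, d ≠ 0 → Q d = 0 → d ∈ rootSpace h.nondeg K x → eichGroup h.nondeg ≤ K :=
    fun d hd hd0 hqd hmem => le_of_singular_block h hM hqx (hxD p) hqd hd hd0 hmem
  obtain ⟨u, hu, f, hf, hu0, hqu, hqf, huf, hxu, hxf⟩ := exists_pair_perp h hk hxpD hqxp
  obtain ⟨d, hd, hxd, hqd, hbd⟩ : ∃ d ∈ D p, polar Q xp d = 0 ∧ Q d = 0 ∧ polar Q bp d ≠ 0 := by
    by_contra! hc
    have hle := OrthMax.le_of_singular (Q := Q) (U := D p ⊓ perp Q (Submodule.span F {xp}))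
      (P := LinearMap.ker (polarBilin Q bp)) ⟨hu, mem_perp_span.2 hxu⟩ ⟨hf, mem_perp_span.2 hxf⟩ hqu hqf huf
      fun z hz hqz => hc z hz.1 (mem_perp_span.1 hz.2) hqz
    obtain ⟨y, hy, hby, hxy⟩ := (h.nd p).exists_sep (P := Submodule.span F {xp})
      (Submodule.span_le.2 (by simp [hxpD])) hbpD hbp
    have h1 : polar Q bp y = 0 := hle ⟨hy, mem_perp_span.2 (hxy xp (Submodule.mem_span_singleton_self xp))⟩
    rw [hby] at h1
    exact one_ne_zero h1
  have hd0 : d ≠ 0 := fun e => hbd (by rw [e, QuadraticMap.polar_zero_right])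
  set S := Submodule.span F {xp, d} with hS
  set U := D p ⊓ perp Q S with hU
  have hS2 : Module.finrank F S ≤ 2 := by
    classical
    have h4 := finrank_span_finset_le_card (R := F) ({xp, d} : Finset V)
    rw [Finset.coe_pair] at h4
    exact h4.trans Finset.card_le_two
  have hUx : ∀ a ∈ U, polar Q xp a = 0 ∧ polar Q d a = 0 := fun a ha =>
    ⟨mem_perp.1 ha.2 xp (Submodule.subset_span (by simp)), mem_perp.1 ha.2 d (Submodule.subset_span (by simp))⟩
  by_cases hex : ∃ a ∈ U, a ∉ S
  · obtain ⟨a, haU, haS⟩ := hex
    obtain ⟨a', ha', haa, hsep⟩ := (h.nd p).exists_sep (P := S)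
      (Submodule.span_le.2 (by simp [Set.insert_subset_iff, hxpD, hd])) haU.1 haS
    exact Or.inl (done d hd hd0 hqd (mem_of_two h hM hb hd hqd haU.1 (hUx a haU).2 hxd (hUx a haU).1 ha'
      (hsep d (Submodule.subset_span (by simp))) (hsep xp (Submodule.subset_span (by simp)))
      (by rw [haa]; exact one_ne_zero) hbd))
  push Not at hex
  have hdim := rank_inf_perp h p S
  rw [← hU] at hdim
  have hUS : U ≤ S := hex
  have hk4 : k = 4 := by
    have := Submodule.finrank_mono hUS
    omega
  have hxU : xp ∈ U := by
    rw [Submodule.eq_of_le_of_finrank_le hUS (by omega)]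
    exact Submodule.subset_span (by simp)
  have h2 : (2 : F) = 0 := by
    have := (hUx xp hxU).1
    rw [polar_self'] at this
    exact (mul_eq_zero.1 this).resolve_right hqxp
  have hxx : polar Q xp xp = 0 := (hUx xp hxU).1
  have hdiff : ∀ {d : V}, d ∈ D p → Q d = 0 → polar Q xp d = 0 → ∀ c : F,
      (c * polar Q bp xp - c * c * Q xp * polar Q bp d) • d + (-(c * polar Q bp d)) • xp
        ∈ rootSpace h.nondeg K x := by
    intro d hd hqd hxd c
    have h1 := diff_mem h hM (p := p) (a := c • xp) hb hd hqd ((D p).smul_mem _ hxpD)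
      (by rw [polar_smul_right', QuadraticMap.polar_comm, hxd, mul_zero]) hxd
      (by rw [polar_smul_right', hxx, mul_zero])
    rw [polar_smul_right', apply_smul, smul_smul] at h1
    convert h1 using 3
    ring
  by_cases hc : ∃ c : F, c ≠ 0 ∧ c ≠ 1
  · obtain ⟨c, hc0, hc1⟩ := hc
    have h1 := Submodule.sub_mem _ (hdiff hd hqd hxd c)
      ((rootSpace h.nondeg K x).smul_mem c (hdiff hd hqd hxd 1))
    refine Or.inl (done d hd hd0 hqd ((Submodule.smul_mem_iff _ (?_ : c * (1 - c) * (Q xp * polar Q bp d) ≠ 0)).1 ?_))
    · exact mul_ne_zero (mul_ne_zero hc0 (sub_ne_zero.2 (Ne.symm hc1))) (mul_ne_zero hqxp hbd)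
    · convert h1 using 1
      module
  push Not at hc
  have hF : Nat.card F = 2 := by
    rw [Nat.card_eq_two_iff]
    refine ⟨0, 1, zero_ne_one, Set.eq_univ_of_forall fun z => ?_⟩
    rcases eq_or_ne z 0 with rfl | hz
    · simp
    · simp [hc z hz]
  have h01 : ∀ z : F, z ≠ 0 → z = 1 := hc
  have hA : Q xp = 1 := h01 _ hqxp
  have h11 : (1 : F) + 1 = 0 := by linear_combination h2
  set s := u + f + xp with hs
  have hqs : Q s = 0 := by
    rw [hs, apply_add, apply_add, polar_add_left', hqu, hqf, huf, hA, QuadraticMap.polar_comm _ u xp, hxu,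
      QuadraticMap.polar_comm _ f xp, hxf]
    linear_combination h2
  have hsD : s ∈ D p := (D p).add_mem ((D p).add_mem hu hf) hxpD
  have hxs : polar Q xp s = 0 := by rw [hs, polar_add_right', polar_add_right', hxu, hxf, hxx]; ring
  have hneg : (-1 : F) = 1 := by linear_combination -h2
  have hdiff1 : ∀ {d : V}, d ∈ D p → Q d = 0 → polar Q xp d = 0 →
      (polar Q bp xp + polar Q bp d) • d + polar Q bp d • xp ∈ rootSpace h.nondeg K x := by
    intro d hd hqd hxd
    convert hdiff hd hqd hxd 1 using 3
    · linear_combination (polar Q bp d) * h2 + polar Q bp d * hA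
    · linear_combination (polar Q bp d) * h2
  obtain ⟨r, hrp, hqr⟩ := exists_other h hqx hqxp
  by_cases hbx : polar Q bp xp = 0
  · have pair : ∀ d₁ d₂ : V, d₁ ∈ D p → d₂ ∈ D p → Q d₁ = 0 → Q d₂ = 0 → polar Q xp d₁ = 0 → polar Q xp d₂ = 0 →
        polar Q bp d₁ ≠ 0 → polar Q bp d₂ ≠ 0 → polar Q d₁ d₂ ≠ 0 → eichGroup h.nondeg ≤ K := by
      intro d₁ d₂ hd₁ hd₂ hq₁ hq₂ hx₁ hx₂ hb₁ hb₂ h12
      have m₁ := hdiff1 hd₁ hq₁ hx₁
      have m₂ := hdiff1 hd₂ hq₂ hx₂
      rw [hbx, h01 _ hb₁, zero_add, one_smul, one_smul] at m₁
      rw [hbx, h01 _ hb₂, zero_add, one_smul, one_smul] at m₂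
      obtain ⟨w, hw, -, -, hw0, hqw, -, -, hxw, -⟩ := exists_pair_perp h hk (comp_mem h r x) hqr
      refine le_of_commutator h hM hqx (hxD r) hqr m₁ m₂ (comp_of_ne h hrp ((D p).add_mem hd₁ hxpD))
        (comp_of_ne h hrp ((D p).add_mem hd₂ hxpD)) ?_ hw hw0 hqw hxw
      rw [polar_add_left', polar_add_right', polar_add_right', hxx, hx₂, QuadraticMap.polar_comm _ d₁ xp, hx₁,
        add_zero, add_zero, add_zero]
      exact h12
    have hsum : polar Q bp s = polar Q bp u + polar Q bp f := by
      rw [hs, polar_add_right', polar_add_right', hbx, add_zero]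
    have hus : polar Q u s ≠ 0 := by
      rw [hs, polar_add_right', polar_add_right', polar_self', hqu, huf, QuadraticMap.polar_comm _ u xp, hxu]
      simp
    have hfs : polar Q f s ≠ 0 := by
      rw [hs, polar_add_right', polar_add_right', polar_self', hqf, QuadraticMap.polar_comm _ f u, huf,
        QuadraticMap.polar_comm _ f xp, hxf]
      simp
    refine Or.inl ?_
    by_cases hbu : polar Q bp u = 0
    · by_cases hbf : polar Q bp f = 0
      · exfalso
        have hle := OrthMax.le_of_singular (Q := Q) (U := D p ⊓ perp Q (Submodule.span F {xp}))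
          (P := LinearMap.ker (polarBilin Q bp)) ⟨hu, mem_perp_span.2 hxu⟩ ⟨hf, mem_perp_span.2 hxf⟩ hqu hqf huf
          fun z hz hqz => by
            by_contra h0
            have hz1 : polar Q bp z = 1 := h01 _ h0
            set y := z + (-polar Q z f) • u + (-polar Q z u) • f with hy
            have hyx : polar Q xp y = 0 := by
              rw [hy, polar_add_right', polar_add_right', polar_smul_right', polar_smul_right', hxu, hxf,
                mem_perp_span.1 hz.2]
              ring
            have hyu : polar Q u y = 0 := by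
              rw [hy, polar_add_right', polar_add_right', polar_smul_right', polar_smul_right', polar_self', hqu, huf,
                QuadraticMap.polar_comm _ u z]
              ring
            have hyf : polar Q f y = 0 := by
              rw [hy, polar_add_right', polar_add_right', polar_smul_right', polar_smul_right', polar_self', hqf,
                QuadraticMap.polar_comm _ f u, huf, QuadraticMap.polar_comm _ f z]
              ring
            have hyD : y ∈ D p := (D p).add_mem ((D p).add_mem hz.1 ((D p).smul_mem _ hu)) ((D p).smul_mem _ hf)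
            have hby : polar Q bp y = 1 := by
              rw [hy, polar_add_right', polar_add_right', polar_smul_right', polar_smul_right', hbu, hbf, hz1]
              ring
            have hyS : y ∉ Submodule.span F {xp} := fun hm => by
              obtain ⟨c, hc⟩ := Submodule.mem_span_singleton.1 hm
              rw [← hc, polar_smul_right', hbx, mul_zero] at hby
              exact zero_ne_one hby
            -- four independent vectors orthogonal to `y`
            obtain ⟨w, hw, hyw, hperp⟩ := (h.nd p).exists_sep (P := Submodule.span F {xp, u, f})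
              (Submodule.span_le.2 (by simp [Set.insert_subset_iff, hxpD, hu, hf])) hyD (fun hm => by
                obtain ⟨c₁, w₁, hw₁, hyw⟩ := Submodule.mem_span_insert.1 hm
                obtain ⟨c₂, c₃, rfl⟩ := Submodule.mem_span_pair.1 hw₁
                rw [hyw] at hyu hyf
                simp only [polar_add_right', polar_smul_right', polar_self', hqu, hqf, huf,
                  QuadraticMap.polar_comm _ u xp, hxu, QuadraticMap.polar_comm _ f xp, hxf,
                  QuadraticMap.polar_comm _ f u] at hyu hyf
                have e3 : c₃ = 0 := by linear_combination hyu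
                have e2 : c₂ = 0 := by linear_combination hyf
                refine hyS ?_
                rw [hyw, e2, e3, zero_smul, zero_smul, add_zero, add_zero]
                exact Submodule.smul_mem _ _ (Submodule.mem_span_singleton_self xp))
            obtain ⟨v, hv, hxv, hrest⟩ := (h.nd p).exists_sep (P := Submodule.span F {u, f, y})
              (Submodule.span_le.2 (by simp [Set.insert_subset_iff, hu, hf, hyD])) hxpD (fun hm => by
                obtain ⟨c₁, w₁, hw₁, hxw⟩ := Submodule.mem_span_insert.1 hm
                obtain ⟨c₂, c₃, rfl⟩ := Submodule.mem_span_pair.1 hw₁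
                have e1 := congrArg (polar Q u) hxw
                have e2 := congrArg (polar Q f) hxw
                simp only [polar_add_right', polar_smul_right', polar_self', hqu, hqf, huf, hyu, hyf,
                  QuadraticMap.polar_comm _ u xp, hxu, QuadraticMap.polar_comm _ f xp, hxf,
                  QuadraticMap.polar_comm _ f u] at e1 e2
                have d2 : c₂ = 0 := by linear_combination -e1
                have d1 : c₁ = 0 := by linear_combination -e2
                have e3 := congrArg (polar Q bp) hxw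
                rw [d1, d2] at e3
                simp only [polar_add_right', polar_smul_right', hby, hbx] at e3
                have d3 : c₃ = 0 := by linear_combination -e3
                rw [d1, d2, d3] at hxw
                exact hqxp (by rw [hxw]; simp))
            -- the five vectors `u, f, xp, y, v` are independent
            have hli : LinearIndependent F ![(⟨u, hu⟩ : D p), ⟨f, hf⟩, ⟨xp, hxpD⟩, ⟨y, hyD⟩, ⟨v, hv⟩] := by
              rw [Fintype.linearIndependent_iff]
              intro g hg
              simp [Fin.sum_univ_five] at hg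
              have hg' := hg
              have e4 := congrArg (polar Q xp) hg'
              simp only [polar_add_right', polar_smul_right', hxu, hxf, hxx, hyx, hxv,
                QuadraticMap.polar_zero_right] at e4
              have g4 : g 4 = 0 := by linear_combination e4
              rw [g4, zero_smul, add_zero] at hg'
              have e1 := congrArg (polar Q u) hg'
              have e0 := congrArg (polar Q f) hg'
              have e3 := congrArg (polar Q bp) hg'
              simp only [polar_add_right', polar_smul_right', polar_self', hqu, hqf, huf, hyu, hyf,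
                QuadraticMap.polar_comm _ u xp, hxu, QuadraticMap.polar_comm _ f xp, hxf,
                QuadraticMap.polar_comm _ f u, hbu, hbf, hbx, hby, QuadraticMap.polar_zero_right] at e1 e0 e3
              have g1 : g 1 = 0 := by linear_combination e1
              have g0 : g 0 = 0 := by linear_combination e0
              have g3 : g 3 = 0 := by linear_combination e3
              rw [g0, g1, g3, zero_smul, zero_smul, zero_smul, zero_add, zero_add, add_zero] at hg'
              have g2 : g 2 = 0 := (smul_eq_zero.1 hg').resolve_right (fun e => hqxp (by rw [e, QuadraticMap.map_zero]))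
              intro i
              fin_cases i <;> assumption
            have h5 := hli.fintype_card_le_finrank
            rw [Fintype.card_fin, h.rank] at h5
            omega
        have h1 : polar Q bp d = 0 := hle ⟨hd, mem_perp_span.2 hxd⟩
        exact hbd h1
      · exact pair f s hf hsD hqf hqs hxf hxs hbf (by rw [hsum, hbu, zero_add]; exact hbf) hfs
    · by_cases hbf : polar Q bp f = 0
      · exact pair u s hu hsD hqu hqs hxu hxs hbu (by rw [hsum, hbf, add_zero]; exact hbu) hus
      · exact pair u f hu hf hqu hqf hxu hxf hbu hbf (by rw [huf]; exact one_ne_zero)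
  have hbx1 := h01 _ hbx
  have zero : ∀ {d : V}, d ∈ D p → d ≠ 0 → Q d = 0 → polar Q xp d = 0 → polar Q bp d = 0 →
      eichGroup h.nondeg ≤ K := by
    intro d hd hd0 hqd hxd hbd
    have h1 := hdiff1 hd hqd hxd
    rw [hbx1, hbd, add_zero, one_smul, zero_smul, add_zero] at h1
    exact done d hd hd0 hqd h1
  by_cases hbu : polar Q bp u = 0
  · exact Or.inl (zero hu hu0 hqu hxu hbu)
  by_cases hbf : polar Q bp f = 0
  · exact Or.inl (zero hf (fun e => by rw [e, QuadraticMap.polar_zero_right] at huf; exact zero_ne_one huf) hqf hxf hbf)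
  refine Or.inr ⟨hk4, hF, ?_, hbx, ?_⟩
  · have h1 := hdiff1 hu hqu hxu
    rw [hbx1, h01 _ hbu, h11, zero_smul, zero_add, one_smul] at h1
    exact h1
  · by_contra hqb
    set z := bp + f + xp with hz
    have hzq : Q z = 0 := by
      rw [hz, apply_add, apply_add, polar_add_left', h01 _ hqb, hqf, h01 _ hbf, hA, hbx1,
        QuadraticMap.polar_comm _ f xp, hxf]
      linear_combination (2 : F) * h2
    have huz : polar Q u z = 0 := by
      rw [hz, polar_add_right', polar_add_right', QuadraticMap.polar_comm _ u bp, h01 _ hbu, huf,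
        QuadraticMap.polar_comm _ u xp, hxu]
      linear_combination h2
    obtain ⟨c, hc⟩ := Submodule.mem_span_singleton.1
      (hts hk4 hF p u hu z ((D p).add_mem ((D p).add_mem hbpD hf) hxpD) hqu hzq huz hu0)
    have h1 := congrArg (polar Q xp) hc
    rw [hz, polar_smul_right', polar_add_right', polar_add_right', hxu, hxf, hxx,
      QuadraticMap.polar_comm _ xp bp, hbx1] at h1
    simp at h1

/-- A singular vector with two components and a nonsingular root vector generate `Ω`. -/
theorem le_of_root_four (hk : 4 ≤ k)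
    (hts : k = 4 → Nat.card F = 2 → ∀ p, ∀ y ∈ D p, ∀ z ∈ D p, Q y = 0 → Q z = 0 → polar Q y z = 0 → y ≠ 0 →
      z ∈ Submodule.span F {y})
    {x b b' : V} (hqx : Q x = 0) (hxD : ∀ l, x ∉ D l) (hb : b ∈ rootSpace h.nondeg K x)
    (hb' : b' ∈ rootSpace h.nondeg K x) (hqb : Q b ≠ 0) (hbb : polar Q b b' ≠ 0)
    (hsmall : k = 4 → Nat.card F = 2 → Q b' ≠ 0) : eichGroup h.nondeg ≤ K := by
  by_contra hfail
  have done : ∀ l, ∀ d ∈ D l, d ≠ 0 → Q d = 0 → d ∈ rootSpace h.nondeg K x → False :=
    fun l d hd hd0 hqd hmem => hfail (le_of_singular_block h hM hqx (hxD l) hqd hd hd0 hmem)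
  have hsing : ∀ l, Q (comp h l x) = 0 → ∀ e ∈ rootSpace h.nondeg K x,
      comp h l e ∈ Submodule.span F {comp h l x} := by
    intro l hl e he
    by_contra hne
    rcases eq_or_ne (comp h l x) 0 with hl0 | hl0
    · obtain ⟨s, hs, hs0, hqs⟩ := (h.nd l).exists_singular (by rw [h.rank]; exact h.three)
      refine done l s hs hs0 hqs (block_le_rootSpace h hM hl0 he (fun e0 => hne ?_) hs)
      rw [e0]; exact Submodule.zero_mem _
    · exact done l _ (comp_mem h l x) hl0 hl (singular_comp_mem h hM (by omega) he hl hne)
  obtain ⟨p, hp⟩ : ∃ p, Q (comp h p x) ≠ 0 := by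
    by_contra! hc
    refine hqb ?_
    rw [apply_eq_sum h b]
    refine Finset.sum_eq_zero fun l _ => ?_
    obtain ⟨c, hc'⟩ := Submodule.mem_span_singleton.1 (hsing l (hc l) b hb)
    rw [← hc', apply_smul, hc l, mul_zero]
  have hxx : ∀ e ∈ rootSpace h.nondeg K x, polar Q x e = 0 := fun e he => he.1
  obtain ⟨e, he, hqe, hep⟩ : ∃ e ∈ rootSpace h.nondeg K x, (k = 4 → Nat.card F = 2 → Q e ≠ 0) ∧
      comp h p e ∉ Submodule.span F {comp h p x} := by
    by_cases h1 : comp h p b ∈ Submodule.span F {comp h p x}
    swap
    · exact ⟨b, hb, fun _ _ => hqb, h1⟩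
    by_cases h2 : comp h p b' ∈ Submodule.span F {comp h p x}
    swap
    · exact ⟨b', hb', hsmall, h2⟩
    exfalso
    obtain ⟨μ, hμ⟩ := Submodule.mem_span_singleton.1 h1
    obtain ⟨μ', hμ'⟩ := Submodule.mem_span_singleton.1 h2
    obtain ⟨u, hu, -, -, hu0, hqu, -, -, hxu, -⟩ := exists_pair_perp h hk (comp_mem h p x) hp
    have hx : x ∈ rootSpace h.nondeg K x := ⟨by rw [polar_self', hqx, mul_zero], fun s hw ha => by
      have : eich h.nondeg hw ha = 1 := Subtype.ext <| LinearEquiv.ext fun z => by
        rw [eich_apply, apply_smul, hqx, polar_smul_right']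
        show _ = z
        module
      rw [this]; exact one_mem K⟩
    refine hfail (le_of_commutator h hM hqx (hxD p) hp (Submodule.sub_mem _ hb (Submodule.smul_mem _ μ hx))
      (Submodule.sub_mem _ hb' (Submodule.smul_mem _ μ' hx)) (comp_sub_smul h hμ) (comp_sub_smul h hμ') ?_
      hu hu0 hqu hxu)
    rw [QuadraticMap.polar_sub_left, QuadraticMap.polar_sub_right, QuadraticMap.polar_sub_right,
      polar_smul_left', polar_smul_left', polar_smul_right', polar_smul_right', polar_self', hqx, hb'.1,
      QuadraticMap.polar_comm _ b x, hb.1]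
    simpa using hbb
  obtain ⟨hk4, hF, hxpA, hexp, -⟩ := (localise h hM hk hts hqx hxD he hp hep).resolve_left hfail
  obtain ⟨r, hqr, hr⟩ : ∃ r, Q (comp h r x) ≠ 0 ∧ comp h r e ∈ Submodule.span F {comp h r x} := by
    by_contra! hc
    refine hqe hk4 hF ?_
    rw [apply_eq_sum h e]
    refine Finset.sum_eq_zero fun l _ => ?_
    by_cases hl : Q (comp h l x) = 0
    · obtain ⟨c, hc'⟩ := Submodule.mem_span_singleton.1 (hsing l hl e he)
      rw [← hc', apply_smul, hl, mul_zero]
    · exact ((localise h hM hk hts hqx hxD he hl (hc l hl)).resolve_left hfail).2.2.2.2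
  have hrp : r ≠ p := fun e' => hep (e' ▸ hr)
  obtain ⟨μ, hμ⟩ := Submodule.mem_span_singleton.1 hr
  obtain ⟨u, hu, -, -, hu0, hqu, -, -, hxu, -⟩ := exists_pair_perp h hk (comp_mem h r x) hqr
  have h2 : (2 : F) = 0 := by
    have : Fintype F := Fintype.ofFinite F
    have h2' : Fintype.card F = 2 := by rwa [← Nat.card_eq_fintype_card]
    have := FiniteField.cast_card_eq_zero F
    rw [h2'] at this
    exact_mod_cast this
  have hx : x ∈ rootSpace h.nondeg K x := ⟨by rw [polar_self', hqx, mul_zero], fun s hw ha => by
    have : eich h.nondeg hw ha = 1 := Subtype.ext <| LinearEquiv.ext fun z => by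
      rw [eich_apply, apply_smul, hqx, polar_smul_right']
      show _ = z
      module
    rw [this]; exact one_mem K⟩
  refine hfail (le_of_commutator h hM hqx (hxD r) hqr hxpA (Submodule.sub_mem _ he (Submodule.smul_mem _ μ hx))
    (comp_of_ne h hrp (comp_mem h p x)) (comp_sub_smul h hμ) ?_ hu hu0 hqu hxu)
  rw [QuadraticMap.polar_sub_right, polar_smul_right', QuadraticMap.polar_comm _ (comp h p x) e,
    QuadraticMap.polar_comm _ (comp h p x) x, polar_comp' h (comp_mem h p x) x, polar_comp' h (comp_mem h p x) e,
    polar_self', h2, zero_mul, mul_zero, sub_zero]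
  exact hexp

end CfsgLib.Geo.OrthBlock
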