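/-
Root vectors with two components generate `Ω` when the blocks have dimension three.
-/
import Cfsg.Agent.Lib.Geo.OrthBlockFour

set_option autoImplicit false

namespace CfsgLib.Geo.OrthBlock

open CfsgLib.Classical CfsgLib.Classical.Quad CfsgLib.Geo.OrthMax
open QuadraticMap (polar polarBilin)

section Field

variable {F : Type*} [Field F] [Finite F]

theorem isSquare_mul_nonsq (h2 : (2 : F) ≠ 0) {a b : F} (ha : ¬ IsSquare a) (hb : ¬ IsSquare b) :
    IsSquare (a * b) := by
  have : Fintype F := Fintype.ofFinite F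
  have hc : ringChar F ≠ 2 := fun h => h2 (by
    have : CharP F 2 := ringChar.eq_iff.1 h
    exact_mod_cast CharP.cast_eq_zero F 2)
  have ha0 : a ≠ 0 := fun h => ha (h ▸ IsSquare.zero)
  have hb0 : b ≠ 0 := fun h => hb (h ▸ IsSquare.zero)
  rw [FiniteField.isSquare_iff hc (mul_ne_zero ha0 hb0), mul_pow,
    (FiniteField.pow_dichotomy hc ha0).resolve_left fun h => ha ((FiniteField.isSquare_iff hc ha0).2 h),
    (FiniteField.pow_dichotomy hc hb0).resolve_left fun h => hb ((FiniteField.isSquare_iff hc hb0).2 h)]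
  simp

theorem exists_notMem_three (h5 : 3 < Nat.card F) (a b c : F) : ∃ z : F, z ≠ a ∧ z ≠ b ∧ z ≠ c := by
  classical
  have : Fintype F := Fintype.ofFinite F
  rw [Nat.card_eq_fintype_card] at h5
  obtain ⟨z, -, hz⟩ := Finset.exists_mem_notMem_of_card_lt_card (s := ({a, b, c} : Finset F)) (t := Finset.univ)
    (by
      rw [Finset.card_univ]
      exact lt_of_le_of_lt Finset.card_le_three h5)
  simp only [Finset.mem_insert, Finset.mem_singleton, not_or] at hz
  exact ⟨z, hz⟩

/-- A nonsquare `v` with `4 + v` a nonzero square. -/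
theorem exists_four_add (h2 : (2 : F) ≠ 0) (h5 : 3 < Nat.card F) :
    ∃ v : F, ¬ IsSquare v ∧ IsSquare (4 + v) ∧ 4 + v ≠ 0 := by
  classical
  have : Fintype F := Fintype.ofFinite F
  by_contra! hc
  have hall : ∀ z : F, z ≠ 0 → IsSquare (z * z - 4) := fun z hz => by
    by_contra hns
    exact mul_ne_zero hz hz (by
      have := hc _ hns ⟨z, by ring⟩
      linear_combination this)
  obtain ⟨u, hu0, hu2, hu2'⟩ := exists_notMem_three h5 0 2 (-2)
  set S : Finset F := ((Finset.univ : Finset F).erase 0).erase u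
  have hsub : (Finset.univ : Finset F).erase 0 ⊆ S.image fun w => (w + 4 / w) / 2 := by
    intro z hz
    obtain ⟨r, hr⟩ := hall z (Finset.ne_of_mem_erase hz)
    have hprod : (z + r) * (z - r) = 4 := by linear_combination hr
    have h4 : (4 : F) ≠ 0 := by
      rw [show (4 : F) = 2 * 2 by norm_num]; exact mul_ne_zero h2 h2
    have hzr : z + r ≠ 0 := left_ne_zero_of_mul (by rw [hprod]; exact h4)
    have e1 : 4 / (z + r) = z - r := by rw [div_eq_iff hzr, mul_comm, hprod]
    refine Finset.mem_image.2 ?_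
    by_cases hu : z + r = u
    · refine ⟨z - r, ?_, ?_⟩
      · simp only [S, Finset.mem_erase, Finset.mem_univ, and_true]
        refine ⟨fun e => ?_, fun e => h4 (by rw [← hprod, e, mul_zero])⟩
        rw [hu, e] at hprod
        rcases mul_eq_zero.1 (show (u - 2) * (u + 2) = 0 by linear_combination hprod) with h | h
        · exact hu2 (sub_eq_zero.1 h)
        · exact hu2' (eq_neg_of_add_eq_zero_left h)
      · have e2 : 4 / (z - r) = z + r := by
          rw [div_eq_iff (right_ne_zero_of_mul (by rw [hprod]; exact h4)), hprod]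
        rw [e2]; field_simp; ring
    · refine ⟨z + r, by simp [S, hu, hzr], ?_⟩
      rw [e1]; field_simp; ring
  have h1 := (Finset.card_le_card hsub).trans Finset.card_image_le
  have h3 := Finset.card_erase_lt_of_mem (show u ∈ (Finset.univ : Finset F).erase 0 by simp [hu0])
  exact absurd h1 (not_le.2 h3)

end Field

variable {F : Type*} [Field F] [Finite F] {V : Type*} [AddCommGroup V] [Module F V] [FiniteDimensional F V]
  {Q : QuadraticForm F V} {t k : ℕ} {D : Fin t → Submodule F V} (h : IsBlocks Q k D)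
include h

omit [Finite F] in
/-- The perpendicular space of a nonsingular vector in odd characteristic. -/
theorem nondeg_perp_vec (h2 : (2 : F) ≠ 0) {p : Fin t} {x : V} (hx : x ∈ D p) (hqx : Q x ≠ 0) :
    Nondeg Q (D p ⊓ perp Q (Submodule.span F {x})) := by
  intro z hz hperp
  refine (h.nd p) z hz.1 fun y hy => ?_
  have hxx : polar Q x x ≠ 0 := by rw [polar_self']; exact mul_ne_zero h2 hqx
  have h1 : polar Q z (y - (polar Q x y / polar Q x x) • x) = 0 :=
    hperp _ ⟨(D p).sub_mem hy ((D p).smul_mem _ hx), mem_perp_span.2 (by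
      rw [QuadraticMap.polar_sub_right, polar_smul_right', div_mul_cancel₀ _ hxx, sub_self])⟩
  rw [QuadraticMap.polar_sub_right, polar_smul_right', QuadraticMap.polar_comm _ z x,
    mem_perp_span.1 hz.2, mul_zero, sub_zero] at h1
  exact h1

theorem exists_value_perp (h2 : (2 : F) ≠ 0) {p : Fin t} {x : V} (hx : x ∈ D p) (hqx : Q x ≠ 0) {c : F} (hc : c ≠ 0) :
    ∃ v ∈ D p, polar Q x v = 0 ∧ Q v = c := by
  obtain ⟨v, hv⟩ := exists_apply_eq (nondeg_perp_vec h h2 hx hqx).comp
    (by have := rank_inf_span h p x; have := h.three; omega) hc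
  exact ⟨v, v.2.1, mem_perp_span.1 v.2.2, hv⟩

omit [Finite F] in
theorem exists_orth_vec (p : Fin t) (x w : V) :
    ∃ w' ∈ D p, w' ≠ 0 ∧ polar Q x w' = 0 ∧ polar Q w w' = 0 := by
  classical
  have h1 := rank_inf_perp h p (Submodule.span F {x, w})
  have h4 := finrank_span_finset_le_card (R := F) ({x, w} : Finset V)
  rw [Finset.coe_pair] at h4
  have h5 : Module.finrank F ↥(Submodule.span F {x, w}) ≤ 2 := h4.trans Finset.card_le_two
  obtain ⟨w', hw', hw0⟩ := Submodule.exists_mem_ne_zero_of_ne_bot (p := D p ⊓ perp Q (Submodule.span F {x, w}))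
    (fun e => by rw [e, finrank_bot] at h1; have := h.three; omega)
  exact ⟨w', hw'.1, hw0, mem_perp.1 hw'.2 x (Submodule.subset_span (by simp)),
    mem_perp.1 hw'.2 w (Submodule.subset_span (by simp))⟩

omit [Finite F] h in
theorem nonsquare_of_aniso (h2 : (2 : F) ≠ 0) {p : Fin t} {x w w' : V}
    (haniso : ∀ z ∈ D p, polar Q x z = 0 → Q z = 0 → z = 0) (hw : w ∈ D p) (hw' : w' ∈ D p)
    (hxw : polar Q x w = 0) (hxw' : polar Q x w' = 0) (hqw : Q w ≠ 0) (hqw' : Q w' ≠ 0) (hww : polar Q w w' = 0) :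
    ¬ IsSquare (-(Q w * Q w')) := by
  rintro ⟨r, hr⟩
  have hr0 : r ≠ 0 := by
    intro e
    rw [e, mul_zero, neg_eq_zero] at hr
    exact mul_ne_zero hqw hqw' hr
  set z := w' + (r / Q w) • w with hz
  have hqz : Q z = 0 := by
    rw [hz, apply_add, apply_smul, polar_smul_right', QuadraticMap.polar_comm _ w' w, hww]
    field_simp
    linear_combination -hr
  have h0 := haniso z ((D p).add_mem hw' ((D p).smul_mem _ hw))
    (by rw [hz, polar_add_right', polar_smul_right', hxw, hxw']; ring) hqz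
  have h1 : polar Q w z = 2 * r := by
    rw [hz, polar_add_right', polar_smul_right', polar_self', hww]
    field_simp
    ring
  rw [h0, QuadraticMap.polar_zero_right] at h1
  exact mul_ne_zero h2 hr0 h1.symm

/-- A rotation of the perpendicular plane moves a given vector of it. -/
theorem exists_rotation (h2 : (2 : F) ≠ 0) (h5 : 3 < Nat.card F) {p : Fin t} {x e : V} (hx : x ∈ D p)
    (hqx : Q x ≠ 0) (he : e ∈ D p) (hxe : polar Q x e = 0) (he0 : e ≠ 0) :
    ∃ g ∈ eichGroup h.nondeg, Intl D p g ∧ (g : V ≃ₗ[F] V) x = x ∧ (g : V ≃ₗ[F] V) e ≠ e := by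
  obtain ⟨v, hv, hxv, hqv, hev⟩ : ∃ v ∈ D p, polar Q x v = 0 ∧ Q v ≠ 0 ∧ polar Q e v ≠ 0 := by
    by_cases hqe : Q e = 0
    · obtain ⟨f, hf, hef⟩ := (nondeg_perp_vec h h2 hx hqx).exists_polar_one
        (show e ∈ D p ⊓ perp Q (Submodule.span F {x}) from ⟨he, mem_perp_span.2 hxe⟩) he0
      refine ⟨f + (1 - Q f) • e, (D p).add_mem hf.1 ((D p).smul_mem _ he), ?_, ?_, ?_⟩
      · rw [polar_add_right', polar_smul_right', mem_perp_span.1 hf.2, hxe]; ring
      · rw [apply_add, apply_smul, polar_smul_right', QuadraticMap.polar_comm _ f e, hef, hqe]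
        ring_nf
        exact one_ne_zero
      · rw [polar_add_right', polar_smul_right', hef, polar_self', hqe]
        simp
    · exact ⟨e, he, hxe, hqe, by rw [polar_self']; exact mul_ne_zero h2 hqe⟩
  obtain ⟨z₀, hz₀, hxz₀, hz₀v⟩ : ∃ z ∈ D p, polar Q x z = 0 ∧ z ∉ Submodule.span F {v} := by
    by_contra! hc
    have h1 := Submodule.finrank_mono (show D p ⊓ perp Q (Submodule.span F {x}) ≤ Submodule.span F {v} from
      fun z hz => hc z hz.1 (mem_perp_span.1 hz.2))
    rw [finrank_span_singleton (fun e' => hqv (by rw [e', QuadraticMap.map_zero]))] at h1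
    have := rank_inf_span h p x
    have := h.three
    omega
  obtain ⟨z, hz, hxz, hzv, hbz, hqz⟩ : ∃ z ∈ D p, polar Q x z = 0 ∧ z ∉ Submodule.span F {v} ∧
      polar Q v z ≠ 0 ∧ Q z ≠ 0 := by
    obtain ⟨c, hc₀, hc₁, hc₂⟩ : ∃ c : F, polar Q v z₀ + c * (2 * Q v) ≠ 0 ∧
        Q z₀ + c * c * Q v + c * polar Q v z₀ ≠ 0 ∧ c = c := by
      by_cases hroot : ∃ c₁, Q z₀ + c₁ * c₁ * Q v + c₁ * polar Q v z₀ = 0
      · obtain ⟨c₁, hc₁⟩ := hroot
        obtain ⟨c, hca, hcb, hcc⟩ := exists_notMem_three h5 c₁ (-polar Q v z₀ / Q v - c₁)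
          (-polar Q v z₀ / (2 * Q v))
        refine ⟨c, fun e' => hcc ?_, fun e' => ?_, rfl⟩
        · rw [eq_div_iff (mul_ne_zero h2 hqv)]; linear_combination e'
        · rcases mul_eq_zero.1 (show (c - c₁) * ((c + c₁) * Q v + polar Q v z₀) = 0 by
            linear_combination e' - hc₁) with h' | h'
          · exact hca (sub_eq_zero.1 h')
          · exact hcb (by rw [eq_sub_iff_add_eq, eq_div_iff hqv]; linear_combination h')
      · push Not at hroot
        obtain ⟨c, hcc, -, -⟩ := exists_notMem_three h5 (-polar Q v z₀ / (2 * Q v)) 0 0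
        exact ⟨c, fun e' => hcc (by rw [eq_div_iff (mul_ne_zero h2 hqv)]; linear_combination e'), hroot c, rfl⟩
    refine ⟨z₀ + c • v, (D p).add_mem hz₀ ((D p).smul_mem _ hv),
      by rw [polar_add_right', polar_smul_right', hxz₀, hxv]; ring, fun hm => hz₀v ?_, ?_, ?_⟩
    · exact (Submodule.add_mem_iff_left _ (Submodule.smul_mem _ _ (Submodule.mem_span_singleton_self v))).1 hm
    · rw [polar_add_right', polar_smul_right', polar_self']; exact hc₀
    · rw [apply_add, apply_smul, polar_smul_right', QuadraticMap.polar_comm _ z₀ v]; exact hc₁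
  set s := -polar Q v z / Q z with hs
  have hs0 : s ≠ 0 := div_ne_zero (neg_ne_zero.2 hbz) hqz
  set v' := v + s • z with hv'
  have hqv' : Q v' = Q v := by
    rw [hv', apply_add, apply_smul, polar_smul_right', hs]
    field_simp
    ring
  have hv'D : v' ∈ D p := (D p).add_mem hv ((D p).smul_mem _ hz)
  have hxv' : polar Q x v' = 0 := by rw [hv', polar_add_right', polar_smul_right', hxv, hxz]; ring
  have hq' : Q v' ≠ 0 := by rw [hqv']; exact hqv
  refine ⟨refl hqv * refl hq', refl_mul_refl_mem h.nondeg h.five hqv hq' hqv'.symm,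
    (intl_refl hv hqv).mul (intl_refl hv'D hq'), ?_, fun hge => ?_⟩
  · show (refl hqv : V ≃ₗ[F] V) ((refl hq' : V ≃ₗ[F] V) x) = x
    rw [refl_apply hq', hxv', mul_zero, zero_smul, sub_zero, refl_apply, hxv, mul_zero, zero_smul, sub_zero]
  · have h1 : (refl hq' : V ≃ₗ[F] V) e = (refl hqv : V ≃ₗ[F] V) e := by
      apply (refl hqv : V ≃ₗ[F] V).injective
      rw [show (refl hqv : V ≃ₗ[F] V) ((refl hqv : V ≃ₗ[F] V) e) = e from
        congrArg (fun g : OQ Q => (g : V ≃ₗ[F] V) e) (refl_mul_self hqv)]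
      exact hge
    rw [refl_apply, refl_apply, sub_right_inj] at h1
    rcases eq_or_ne ((Q v')⁻¹ * polar Q e v') 0 with h0 | h0
    · rw [h0, zero_smul, eq_comm, smul_eq_zero, mul_eq_zero] at h1
      rcases h1 with (h1 | h1) | h1
      · exact inv_ne_zero hqv h1
      · exact hev h1
      · exact hqv (by rw [h1, QuadraticMap.map_zero])
    · refine hzv ((Submodule.smul_mem_iff _ (mul_ne_zero h0 hs0)).1 ?_)
      rw [hv', smul_add, smul_smul] at h1
      rw [hv']
      have h3 := h1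
      rw [← eq_sub_iff_add_eq'] at h3
      rw [h3, ← sub_smul]
      exact Submodule.smul_mem _ _ (Submodule.mem_span_singleton_self v)

/-- Nonsingular vectors of isometric three-dimensional blocks with anisotropic perpendicular planes. -/
theorem isSquare_of_aniso (h2 : (2 : F) ≠ 0) {p r : Fin t} {x y : V} (hx : x ∈ D p) (hy : y ∈ D r)
    (hqx : Q x ≠ 0) (hqy : Q y ≠ 0) (hpx : ∀ z ∈ D p, polar Q x z = 0 → Q z = 0 → z = 0)
    (hry : ∀ z ∈ D r, polar Q y z = 0 → Q z = 0 → z = 0) : IsSquare (Q x * Q y) := by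
  by_contra hns
  obtain ⟨e, he⟩ := h.iso p r
  have hep : ∀ a b : D p, polar Q (e a : V) (e b : V) = polar Q (a : V) b := fun a b => by
    simp only [polar, ← Submodule.coe_add, ← map_add, he]
  obtain ⟨y', hy', hqy', hpy⟩ : ∃ y' ∈ D p, Q y' = Q y ∧ ∀ z ∈ D p, polar Q y' z = 0 → Q z = 0 → z = 0 := by
    refine ⟨e.symm ⟨y, hy⟩, Subtype.coe_prop _, by rw [← he, LinearEquiv.apply_symm_apply], fun z hz hyz hqz => ?_⟩
    have h1 := hry _ (e ⟨z, hz⟩).2 (by
      rw [show polar Q y (e ⟨z, hz⟩ : V) = polar Q (e (e.symm ⟨y, hy⟩) : V) (e ⟨z, hz⟩ : V) by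
        rw [LinearEquiv.apply_symm_apply], hep]
      exact hyz) (by rw [he]; exact hqz)
    have h0 : e ⟨z, hz⟩ = 0 := Subtype.ext h1
    exact congrArg Subtype.val ((LinearEquiv.map_eq_zero_iff e).1 h0)
  obtain ⟨w, hw, hxw, hqw⟩ := exists_value_perp h h2 hx hqx hqy
  obtain ⟨w₂, hw₂, hw₂0, hxw₂, hww₂⟩ := exists_orth_vec h p x w
  have hqw₂ : Q w₂ ≠ 0 := fun e0 => hw₂0 (hpx w₂ hw₂ hxw₂ e0)
  have hns2 := nonsquare_of_aniso h2 hpx hw hw₂ hxw hxw₂ (by rw [hqw]; exact hqy) hqw₂ hww₂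
  rw [hqw] at hns2
  obtain ⟨r₀, hr₀⟩ := isSquare_mul_nonsq h2 hns hns2
  have hr00 : r₀ ≠ 0 := by
    intro e0
    rw [e0, mul_zero] at hr₀
    exact mul_ne_zero (mul_ne_zero hqx hqy) (neg_ne_zero.2 (mul_ne_zero hqy hqw₂)) hr₀
  -- a singular vector orthogonal to `w`
  set z := w₂ + (r₀ / (Q y * Q x)) • x with hz
  have hqz : Q z = 0 := by
    rw [hz, apply_add, apply_smul, polar_smul_right', QuadraticMap.polar_comm _ w₂ x, hxw₂]
    field_simp
    linear_combination -hr₀
  have hwz : polar Q w z = 0 := by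
    rw [hz, polar_add_right', polar_smul_right', hww₂, QuadraticMap.polar_comm _ w x, hxw]; ring
  have hz0 : z ≠ 0 := fun e0 => by
    have h1 : polar Q x z = r₀ / (Q y * Q x) * (2 * Q x) := by
      rw [hz, polar_add_right', polar_smul_right', polar_self', hxw₂, zero_add]
    rw [e0, QuadraticMap.polar_zero_right] at h1
    exact mul_ne_zero (div_ne_zero hr00 (mul_ne_zero hqy hqx)) (mul_ne_zero h2 hqx) h1.symm
  have hzD : z ∈ D p := (D p).add_mem hw₂ ((D p).smul_mem _ hx)
  have key : ∀ s : F, s * s = 1 → Q (w - s • y') ≠ 0 → False := by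
    intro s hs hv
    have hvD : w - s • y' ∈ D p := (D p).sub_mem hw ((D p).smul_mem _ hy')
    have hqv : polar Q w (w - s • y') = Q (w - s • y') := by
      rw [QuadraticMap.polar_sub_right, polar_self', polar_smul_right', sub_eq_add_neg w, ← neg_smul, apply_add,
        apply_smul, polar_smul_right', hqw, hqy']
      linear_combination (-Q y) * hs
    have hmap : (refl hv : V ≃ₗ[F] V) w = s • y' := by
      rw [refl_apply, hqv, inv_mul_cancel₀ hv, one_smul, sub_sub_cancel]
    have h1 : polar Q y' ((refl hv : V ≃ₗ[F] V) z) = 0 := by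
      have h2' := OQ.map_polar (refl hv) w z
      rw [hmap, polar_smul_left', hwz] at h2'
      exact (mul_eq_zero.1 h2').resolve_left (fun e0 => by rw [e0, mul_zero] at hs; exact zero_ne_one hs)
    have h0 := hpy _ ((intl_refl hvD hv).1 z hzD) h1 (by rw [OQ.map_apply, hqz])
    exact hz0 ((LinearEquiv.map_eq_zero_iff _).1 h0)
  by_cases h1 : Q (w - (1 : F) • y') = 0
  · refine key (-1) (by ring) fun h' => ?_
    rw [sub_eq_add_neg, ← neg_smul, apply_add, apply_smul, polar_smul_right', hqw, hqy'] at h1 h'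
    exact mul_ne_zero (mul_ne_zero h2 h2) hqy (by linear_combination h1 + h')
  · exact key 1 (by ring) h1

variable {K : Subgroup (OQ Q)} (hM : ∀ g ∈ eichGroup h.nondeg, Permutes D g → g ∈ K)
include hM

/-- A vector missing `p` with value in the class of the component at `p`. -/
theorem le_of_same_class (h2 : (2 : F) ≠ 0) {p : Fin t} {x c : V} (hqx : Q x = 0)
    (hqxp : Q (comp h p x) ≠ 0) (hc : c ∈ rootSpace h.nondeg K x) (hcp : comp h p c = 0) (hqc : Q c ≠ 0)
    (hsq : IsSquare (Q c * Q (comp h p x))) : eichGroup h.nondeg ≤ K := by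
  obtain ⟨r, hr⟩ := hsq
  have hxp : comp h p x ∈ D p := comp_mem h p x
  have hr0 : r ≠ 0 := by
    intro e
    rw [e, mul_zero] at hr
    exact mul_ne_zero hqc hqxp hr
  obtain ⟨v, hv, hxv, hqv⟩ := exists_value_perp h h2 hxp hqxp hqxp
  have hqv0 : Q v ≠ 0 := by rw [hqv]; exact hqxp
  set xp := comp h p x with hxpdef
  set m := refl hqxp * refl hqv0
  have hm : Intl D p m := (intl_refl hxp hqxp).mul (intl_refl hv hqv0)
  have hmK : m ∈ K := intl_mem h hM hm (refl_mul_refl_mem h.nondeg h.five hqxp hqv0 hqv.symm)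
  have hmxp : (m : V ≃ₗ[F] V) xp = -xp := by
    show (refl hqxp : V ≃ₗ[F] V) ((refl hqv0 : V ≃ₗ[F] V) xp) = -xp
    rw [refl_apply hqv0, hxv, mul_zero, zero_smul, sub_zero, refl_apply, polar_self', ← mul_assoc,
      mul_comm _ (2 : F), mul_assoc, inv_mul_cancel₀ hqxp, mul_one]
    module
  have hmx : (m : V ≃ₗ[F] V) x = x + (-2 : F) • xp := by
    have h1 := hm.apply_eq h x
    rw [hmxp, sub_eq_iff_eq_add] at h1
    rw [h1]; module
  have hmc : (m : V ≃ₗ[F] V) c = c := hm.apply_of_comp h (by rw [hcp, map_zero])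
  have hxc : polar Q x c = 0 := hc.1
  have hxpc : polar Q xp c = 0 := by rw [polar_comp_right h hxp, hcp, QuadraticMap.polar_zero_right]
  have hxxp : polar Q x xp = 2 * Q xp := by rw [polar_comp' h hxp, polar_self']
  have h1 := mem_rootSpace_conj hmK hc
  rw [hmc, hmx] at h1
  set x' := x + (-2 : F) • xp
  set s := (2 * r)⁻¹
  have h2r : (2 : F) * r ≠ 0 := mul_ne_zero h2 hr0
  have hs : s * (2 * r) = 1 := inv_mul_cancel₀ h2r
  have hqx' : Q x' = 0 := by rw [← hmx, OQ.map_apply, hqx]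
  have hx'c : polar Q x' c = 0 := h1.1
  have hx's : polar Q x' (s • c) = 0 := by rw [polar_smul_right', hx'c, mul_zero]
  set e := eich h.nondeg hqx' hx's
  have he : e ∈ K := h1.2 s _ _
  have hxx' : polar Q x x' = -4 * Q xp := by
    simp only [x', polar_add_right', polar_smul_right', polar_self', hqx, hxxp]
    ring
  have hey : (e : V ≃ₗ[F] V) x = x + x' + (4 * Q xp * s) • c := by
    rw [eich_apply, polar_smul_right', hxc, apply_smul, hxx', smul_smul,
      show s * 0 - s * s * Q c * (-4 * Q xp) = 1 by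
        linear_combination (4 * s * s) * hr + (s * (2 * r) + 1) * hs,
      one_smul]
    congr 2
    ring
  set y := (e : V ≃ₗ[F] V) x
  have hqy : Q y = 0 := by simp only [y]; rw [OQ.map_apply, hqx]
  have hcx' : polar Q c x' = 0 := by rw [QuadraticMap.polar_comm, hx'c]
  have hb : (e : V ≃ₗ[F] V) c = c + (2 * s * Q c) • x' := by
    rw [eich_apply, polar_smul_right', polar_self', hcx']
    simp
    ring_nf
  have hb' := mem_rootSpace_conj he hc
  rw [hb] at hb'
  have hy0 : comp h p y = 0 := by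
    rw [hey]
    simp only [x', map_add, map_smul, hcp, comp_of_mem h hxp, ← hxpdef, smul_zero, add_zero]
    module
  have hbp : comp h p (c + (2 * s * Q c) • x') ≠ 0 := by
    simp only [x', map_add, map_smul, hcp, comp_of_mem h hxp, ← hxpdef, zero_add]
    rw [show xp + (-2 : F) • xp = -xp by module, smul_neg, neg_ne_zero, smul_ne_zero_iff]
    exact ⟨mul_ne_zero (mul_ne_zero h2 (left_ne_zero_of_mul (by rw [hs]; exact one_ne_zero))) hqc,
      fun e0 => hqxp (by rw [e0, QuadraticMap.map_zero])⟩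
  have hle := block_le_rootSpace h hM hy0 hb' hbp
  obtain ⟨u, hu, hu0, hqu⟩ := (h.nd p).exists_singular (by rw [h.rank]; exact h.three)
  have hy : y ≠ 0 := fun e0 => by
    have h3 : polar Q y c = 4 * Q xp * s * (2 * Q c) := by
      rw [hey, polar_add_left', polar_add_left', polar_smul_left', hxc, hx'c, polar_self', zero_add, zero_add]
    rw [e0, QuadraticMap.polar_zero_left] at h3
    exact mul_ne_zero (mul_ne_zero (mul_ne_zero (by rw [show (4 : F) = 2 * 2 by norm_num]; exact mul_ne_zero h2 h2)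
      hqxp) (left_ne_zero_of_mul (by rw [hs]; exact one_ne_zero))) (mul_ne_zero h2 hqc) h3.symm
  refine le_of_singular_block h hM hqy (fun hm' => hy ?_) hqu hu hu0 (hle hu)
  rw [← comp_of_mem h hm', hy0]

/-- A vector missing `p` suffices in dimension three. -/
theorem le_of_missing (h2 : (2 : F) ≠ 0) (h5 : 3 < Nat.card F) {p : Fin t} {x c : V} (hqx : Q x = 0)
    (hxD : ∀ l, x ∉ D l) (hqxp : Q (comp h p x) ≠ 0) (hc : c ∈ rootSpace h.nondeg K x) (hcp : comp h p c = 0)
    (hqc : Q c ≠ 0) : eichGroup h.nondeg ≤ K := by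
  have hcc : polar Q c c ≠ 0 := by rw [polar_self']; exact mul_ne_zero h2 hqc
  by_cases hiso : ∃ z ∈ D p, polar Q (comp h p x) z = 0 ∧ Q z = 0 ∧ z ≠ 0
  · obtain ⟨z, hz, hxz, hqz, hz0⟩ := hiso
    exact le_of_commutator h hM hqx (hxD p) hqxp hc hc hcp hcp hcc hz hz0 hqz hxz
  push Not at hiso
  by_cases hsq : IsSquare (Q c * Q (comp h p x))
  · exact le_of_same_class h hM h2 hqx hqxp hc hcp hqc hsq
  set xp := comp h p x with hxpdef
  have hxp : xp ∈ D p := comp_mem h p x
  obtain ⟨v, hv, hv4, hv40⟩ := exists_four_add h2 h5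
  obtain ⟨r, hr⟩ := isSquare_mul_nonsq h2 hv hsq
  have hv0 : v ≠ 0 := fun e => hv (e ▸ IsSquare.zero)
  have hr0 : r ≠ 0 := by
    intro e
    rw [e, mul_zero] at hr
    exact mul_ne_zero hv0 (mul_ne_zero hqc hqxp) hr
  set β := v * Q xp with hβ
  have hβ0 : β ≠ 0 := mul_ne_zero hv0 hqxp
  set s := r⁻¹
  have hs : s * s * Q c * β = 1 := by
    have : s * r = 1 := inv_mul_cancel₀ hr0
    rw [hβ]
    linear_combination (s * s) * hr + (s * r + 1) * this
  have hs0 : s ≠ 0 := inv_ne_zero hr0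
  have h4 : (4 : F) ≠ 0 := by rw [show (4 : F) = 2 * 2 by norm_num]; exact mul_ne_zero h2 h2
  set A := Q xp with hA
  have hB4 : 4 * A + β ≠ 0 := by
    rw [hβ, show 4 * A + v * A = (4 + v) * A by ring]; exact mul_ne_zero hv40 hqxp
  obtain ⟨w₁, hw₁, hxw₁, hqw₁⟩ := exists_value_perp h h2 hxp hqxp
    (show -β * (4 * A + β) / (4 * A) ≠ 0 from
      div_ne_zero (mul_ne_zero (neg_ne_zero.2 hβ0) hB4) (mul_ne_zero h4 hqxp))
  have hqw₁0 : Q w₁ ≠ 0 := by
    rw [hqw₁]; exact div_ne_zero (mul_ne_zero (neg_ne_zero.2 hβ0) hB4) (mul_ne_zero h4 hqxp)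
  obtain ⟨w₂, hw₂, hw₂0, hxw₂, hww₂⟩ := exists_orth_vec h p xp w₁
  have hqw₂ : Q w₂ ≠ 0 := fun e0 => hw₂0 (hiso w₂ hw₂ hxw₂ e0)
  have hns := nonsquare_of_aniso h2 hiso hw₁ hw₂ hxw₁ hxw₂ hqw₁0 hqw₂ hww₂
  set α := β / (2 * A) with hα
  set d := α • xp + w₁ with hd
  have hdD : d ∈ D p := (D p).add_mem ((D p).smul_mem _ hxp) hw₁
  have hxpd : polar Q xp d = β := by
    rw [hd, polar_add_right', polar_smul_right', polar_self', hxw₁, ← hA, hα]
    field_simp
    ring
  have hqd : Q d = -β := by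
    rw [hd, apply_add, apply_smul, polar_smul_left', hxw₁, hqw₁, ← hA, hα]
    field_simp
    ring
  have hqd0 : Q d ≠ 0 := by rw [hqd]; exact neg_ne_zero.2 hβ0
  obtain ⟨v₁, hv₁, hxv₁, hqv₁⟩ := exists_value_perp h h2 hxp hqxp (neg_ne_zero.2 hβ0)
  have hqv₁0 : Q v₁ ≠ 0 := by rw [hqv₁]; exact neg_ne_zero.2 hβ0
  set m := refl hqd0 * refl hqv₁0
  have hm : Intl D p m := (intl_refl hdD hqd0).mul (intl_refl hv₁ hqv₁0)
  have hmK : m ∈ K := intl_mem h hM hm (refl_mul_refl_mem h.nondeg h.five hqd0 hqv₁0 (hqd.trans hqv₁.symm))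
  have hmxp : (m : V ≃ₗ[F] V) xp = xp + d := by
    show (refl hqd0 : V ≃ₗ[F] V) ((refl hqv₁0 : V ≃ₗ[F] V) xp) = _
    rw [refl_apply hqv₁0, hxv₁, mul_zero, zero_smul, sub_zero, refl_apply, hxpd, hqd, inv_neg, neg_mul,
      inv_mul_cancel₀ hβ0, neg_smul, one_smul, sub_neg_eq_add]
  have hmx : (m : V ≃ₗ[F] V) x = x + d := by
    have h1 := hm.apply_eq h x
    rw [hmxp, add_sub_cancel_left, sub_eq_iff_eq_add] at h1
    rw [h1, add_comm]
  have hmc : (m : V ≃ₗ[F] V) c = c := hm.apply_of_comp h (by rw [hcp, map_zero])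
  have h1 := mem_rootSpace_conj hmK hc
  rw [hmc, hmx] at h1
  have hxc : polar Q x c = 0 := hc.1
  have hqx' : Q (x + d) = 0 := by rw [← hmx, OQ.map_apply, hqx]
  have hx's : polar Q (x + d) (s • c) = 0 := by rw [polar_smul_right', h1.1, mul_zero]
  set e := eich h.nondeg hqx' hx's
  have he : e ∈ K := h1.2 s _ _
  have hxd : polar Q x d = β := by rw [polar_comp' h hdD, hxpd]
  have hxx' : polar Q x (x + d) = β := by rw [polar_add_right', polar_self', hqx, hxd]; ring
  set y := (e : V ≃ₗ[F] V) x with hydef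
  have hey : y = -d + (-(β * s)) • c := by
    rw [hydef, eich_apply, polar_smul_right', hxc, apply_smul, hxx', smul_smul,
      show s * 0 - s * s * Q c * β = -1 by linear_combination -hs, neg_smul, one_smul]
    module
  have hb := mem_rootSpace_conj he hc
  have heb : (e : V ≃ₗ[F] V) c = c + (2 * s * Q c) • (x + d) := by
    rw [eich_apply, polar_smul_right', polar_self', QuadraticMap.polar_comm _ c (x + d), h1.1]
    simp
    ring_nf
  rw [← hydef, heb] at hb
  have hqy : Q y = 0 := by rw [hydef, OQ.map_apply, hqx]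
  have hyy : y ∈ rootSpace h.nondeg K y := ⟨by rw [polar_self', hqy, mul_zero], fun a hw ha => by
    have : eich h.nondeg hw ha = 1 := Subtype.ext <| LinearEquiv.ext fun z => by
      rw [eich_apply, apply_smul, hqy, polar_smul_right']
      show _ = z
      module
    rw [this]; exact one_mem K⟩
  have hqcs : s * Q c ≠ 0 := mul_ne_zero hs0 hqc
  have hbb : (2 : F) • x + d ∈ rootSpace h.nondeg K y := by
    have h3 := Submodule.smul_mem _ (s * Q c)⁻¹ (Submodule.add_mem _ hb (Submodule.smul_mem _ (s * Q c) hyy))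
    convert h3 using 1
    rw [hey, smul_add _ (-d) _, smul_smul, show s * Q c * -(β * s) = -1 by linear_combination -hs]
    rw [show c + (2 * s * Q c) • (x + d) + ((s * Q c) • -d + (-1 : F) • c) = (s * Q c) • ((2 : F) • x + d) by module,
      inv_smul_smul₀ hqcs]
  set e₂ := (2 : F) • xp + d with he₂
  have he₂D : e₂ ∈ D p := (D p).add_mem ((D p).smul_mem _ hxp) hdD
  have hqe₂ : Q e₂ = 4 * A + β := by
    rw [he₂, apply_add, apply_smul, polar_smul_left', hxpd, hqd, ← hA]
    ring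
  have hqe₂0 : Q e₂ ≠ 0 := by rw [hqe₂]; exact hB4
  have hdw₂ : polar Q d w₂ = 0 := by rw [hd, polar_add_left', polar_smul_left', hxw₂, hww₂]; ring
  have hew₂ : polar Q e₂ w₂ = 0 := by rw [he₂, polar_add_left', polar_smul_left', hxw₂, hdw₂]; ring
  have hde₂ : polar Q d e₂ = 0 := by
    rw [he₂, polar_add_right', polar_smul_right', QuadraticMap.polar_comm _ d xp, hxpd, polar_self', hqd]; ring
  obtain ⟨r', hr'⟩ : IsSquare (Q e₂ * Q w₂) := by
    obtain ⟨r₁, hr₁⟩ := isSquare_mul_nonsq h2 hv hns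
    refine ⟨2 * r₁ / v, ?_⟩
    rw [hqe₂]
    field_simp
    have h5' : v * -(Q w₁ * Q w₂) * 4 = v * v * ((4 * A + β) * Q w₂) := by
      rw [hqw₁, hβ]
      field_simp
    linear_combination 4 * hr₁ - h5'
  have hr'0 : r' ≠ 0 := by
    intro e0
    rw [e0, mul_zero] at hr'
    exact mul_ne_zero hqe₂0 hqw₂ hr'
  set w₃ := (r' / Q w₂) • w₂
  have hqw₃ : Q w₃ = Q e₂ := by
    simp only [w₃, apply_smul]
    field_simp
    linear_combination -hr'
  have hqw₃0 : Q w₃ ≠ 0 := by rw [hqw₃]; exact hqe₂0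
  set m₂ := refl hqe₂0 * refl hqw₃0
  have hm₂ : Intl D p m₂ := (intl_refl he₂D hqe₂0).mul (intl_refl ((D p).smul_mem _ hw₂) hqw₃0)
  have hm₂K : m₂ ∈ K := intl_mem h hM hm₂ (refl_mul_refl_mem h.nondeg h.five hqe₂0 hqw₃0 hqw₃.symm)
  have hm₂app : ∀ z, polar Q z w₂ = 0 → (m₂ : V ≃ₗ[F] V) z = (refl hqe₂0 : V ≃ₗ[F] V) z := fun z hz => by
    show (refl hqe₂0 : V ≃ₗ[F] V) ((refl hqw₃0 : V ≃ₗ[F] V) z) = _
    congr 1
    rw [refl_apply, show polar Q z w₃ = 0 by simp [w₃, polar_smul_right', hz], mul_zero, zero_smul, sub_zero]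
  have hyp : comp h p y = -d := by
    rw [hey, map_add, map_neg, map_smul, hcp, smul_zero, add_zero, comp_of_mem h hdD]
  have hm₂y : (m₂ : V ≃ₗ[F] V) y = y := hm₂.apply_of_comp h (by
    rw [hyp, map_neg, hm₂app d hdw₂, refl_apply, hde₂, mul_zero, zero_smul, sub_zero])
  have hbbp : comp h p ((2 : F) • x + d) = e₂ := by
    rw [map_add, map_smul, comp_of_mem h hdD, ← hxpdef]
  have hdiff := rootSpace_diff hm₂K hm₂y hbb
  rw [hm₂.apply_eq h, hbbp, hm₂app e₂ hew₂, refl_apply, polar_self', ← mul_assoc, mul_comm _ (2 : F), mul_assoc,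
    inv_mul_cancel₀ hqe₂0, mul_one] at hdiff
  have he₂mem : e₂ ∈ rootSpace h.nondeg K y := by
    have hne : (1 : F) + -(2 + 1) ≠ 0 := by
      intro e0; exact h2 (by linear_combination -e0)
    refine (Submodule.smul_mem_iff _ (show (-2 : F) ≠ 0 from neg_ne_zero.2 h2)).1 ?_
    convert hdiff using 1
    module
  -- a second block
  obtain ⟨l, hl⟩ : ∃ l, Q (comp h l c) ≠ 0 := by
    by_contra! hc'
    exact hqc ((apply_eq_sum h c).trans (Finset.sum_eq_zero fun l _ => hc' l))
  have hlp : l ≠ p := fun e0 => hl (by rw [e0, hcp, QuadraticMap.map_zero])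
  have hyl : comp h l y = (-(β * s)) • comp h l c := by
    rw [hey, map_add, map_neg, map_smul, comp_of_ne h hlp hdD, neg_zero, zero_add]
  have hqyl : Q (comp h l y) ≠ 0 := by
    rw [hyl, apply_smul]
    exact mul_ne_zero (mul_ne_zero (neg_ne_zero.2 (mul_ne_zero hβ0 hs0)) (neg_ne_zero.2 (mul_ne_zero hβ0 hs0))) hl
  have he₂l : comp h l e₂ = 0 := comp_of_ne h hlp he₂D
  by_cases hiso' : ∃ z ∈ D l, polar Q (comp h l y) z = 0 ∧ Q z = 0 ∧ z ≠ 0
  · obtain ⟨z, hz, hyz, hqz, hz0⟩ := hiso'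
    refine le_of_commutator h hM hqy (fun hm' => ?_) hqyl he₂mem he₂mem he₂l he₂l
      (by rw [polar_self']; exact mul_ne_zero h2 hqe₂0) hz hz0 hqz hyz
    have h3 := comp_of_ne h hlp.symm hm'
    rw [hyp, neg_eq_zero] at h3
    exact hqd0 (by rw [h3, QuadraticMap.map_zero])
  push Not at hiso'
  refine le_of_same_class h hM h2 hqy hqyl he₂mem he₂l hqe₂0 ?_
  have h3 := isSquare_of_aniso h h2 hxp (comp_mem h l y) hqxp hqyl hiso hiso'
  rw [hqe₂, hβ, show 4 * A + v * A = (4 + v) * A by ring, mul_assoc]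
  exact hv4.mul h3

/-- A singular vector with two components and a nonsingular root vector generate `Ω`. -/
theorem le_of_root_three (hk : k = 3) (h2 : (2 : F) ≠ 0) (h5 : 3 < Nat.card F) {x b : V} (hqx : Q x = 0)
    (hxD : ∀ l, x ∉ D l) (hb : b ∈ rootSpace h.nondeg K x) (hqb : Q b ≠ 0) : eichGroup h.nondeg ≤ K := by
  by_contra hfail
  have hsing : ∀ l, Q (comp h l x) = 0 → comp h l b ∈ Submodule.span F {comp h l x} := by
    intro l hl
    by_contra hne
    rcases eq_or_ne (comp h l x) 0 with hl0 | hl0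
    · obtain ⟨s, hs, hs0, hqs⟩ := (h.nd l).exists_singular (by rw [h.rank]; exact h.three)
      refine hfail (le_of_singular_block h hM hqx (hxD l) hqs hs hs0
        (block_le_rootSpace h hM hl0 hb (fun e0 => hne ?_) hs))
      rw [e0]; exact Submodule.zero_mem _
    · exact hfail (le_of_singular_block h hM hqx (hxD l) hl (comp_mem h l x) hl0
        (singular_comp_mem h hM (fun _ => h2) hb hl hne))
  obtain ⟨p, hp⟩ : ∃ p, Q (comp h p x) ≠ 0 := by
    by_contra! hc
    refine hqb ?_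
    rw [apply_eq_sum h b]
    refine Finset.sum_eq_zero fun l _ => ?_
    obtain ⟨c, hc'⟩ := Submodule.mem_span_singleton.1 (hsing l (hc l))
    rw [← hc', apply_smul, hc l, mul_zero]
  have hx : x ∈ rootSpace h.nondeg K x := ⟨by rw [polar_self', hqx, mul_zero], fun s hw ha => by
    have : eich h.nondeg hw ha = 1 := Subtype.ext <| LinearEquiv.ext fun z => by
      rw [eich_apply, apply_smul, hqx, polar_smul_right']
      show _ = z
      module
    rw [this]; exact one_mem K⟩
  set μ := polar Q (comp h p x) (comp h p b) / (2 * Q (comp h p x))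
  set b' := b - μ • x with hb'
  have hb'm : b' ∈ rootSpace h.nondeg K x := Submodule.sub_mem _ hb (Submodule.smul_mem _ μ hx)
  have hqb' : Q b' ≠ 0 := by
    rw [hb', sub_eq_add_neg, ← neg_smul, apply_add, apply_smul, polar_smul_right', hqx,
      QuadraticMap.polar_comm _ b x, hb.1]
    simpa using hqb
  set e := comp h p b'
  have hxe : polar Q (comp h p x) e = 0 := by
    simp only [e, hb', map_sub, map_smul, QuadraticMap.polar_sub_right, polar_smul_right', polar_self', μ]
    rw [div_mul_cancel₀ _ (mul_ne_zero h2 hp), sub_self]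
  rcases eq_or_ne e 0 with he0 | he0
  · exact hfail (le_of_missing h hM h2 h5 hqx hxD hp hb'm he0 hqb')
  obtain ⟨g, hgE, hg, hgx, hge⟩ := exists_rotation h h2 h5 (comp_mem h p x) hp (comp_mem h p b') hxe he0
  have hc := rootSpace_diff (intl_mem h hM hg hgE) (hg.apply_of_comp h hgx) hb'm
  set c := (g : V ≃ₗ[F] V) b' - b'
  have hcD : c ∈ D p := hg.apply_sub_mem h b'
  have hc0 : c ≠ 0 := fun e0 => hge (sub_eq_zero.1 (by rw [← hg.apply_eq h]; exact e0))
  rcases eq_or_ne (Q c) 0 with hqc | hqc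
  · exact hfail (le_of_singular_block h hM hqx (hxD p) hqc hcD hc0 hc)
  obtain ⟨r, hrp, hqr⟩ := exists_other h hqx hp
  exact hfail (le_of_missing h hM h2 h5 hqx hxD hqr hc (comp_of_ne h hrp hcD) hqc)

end CfsgLib.Geo.OrthBlock
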