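/-
Coordinates adapted to a decomposition into subspaces of equal dimension, rank-one matrices, and the
component-counting form preserved by the stabiliser of the decomposition.
-/
import Mathlib
import Cfsg.Prelude.Def_GeometricClasses

namespace CfsgLib.Geo

open Matrix Module

variable {ι : Type} [Fintype ι] [DecidableEq ι] {F : Type*} [Field F]

/-- The vector of a functional. -/
def dualVec (f : (ι → F) →ₗ[F] F) : ι → F := fun j => f (Pi.single j 1)

theorem dualVec_dotProduct (f : (ι → F) →ₗ[F] F) (x : ι → F) : dualVec f ⬝ᵥ x = f x := by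
  conv_rhs => rw [pi_eq_sum_univ' x]
  rw [map_sum]
  refine Finset.sum_congr rfl fun j _ => ?_
  rw [map_smul, smul_eq_mul]
  exact mul_comm _ _

/-- The map x ↦ x + f x • u as an element of GL. -/
noncomputable def rankOne (f : (ι → F) →ₗ[F] F) (u : ι → F) (h : 1 + f u ≠ 0) : Matrix.GeneralLinearGroup ι F :=
  Matrix.GeneralLinearGroup.mkOfDetNeZero (1 + Matrix.vecMulVec u (dualVec f)) (by
    rwa [Matrix.vecMulVec_eq Unit, Matrix.det_one_add_replicateCol_mul_replicateRow, dualVec_dotProduct])

theorem rankOne_mulVec (f : (ι → F) →ₗ[F] F) (u : ι → F) (h : 1 + f u ≠ 0) (x : ι → F) :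
    ((rankOne f u h : Matrix.GeneralLinearGroup ι F) : Matrix ι ι F) *ᵥ x = x + f x • u := by
  show (1 + Matrix.vecMulVec u (dualVec f)) *ᵥ x = _
  rw [Matrix.add_mulVec, Matrix.one_mulVec, Matrix.vecMulVec_mulVec, dualVec_dotProduct]
  congr 1
  ext i
  simp [mul_comm]

theorem det_rankOne (f : (ι → F) →ₗ[F] F) (u : ι → F) (h : 1 + f u ≠ 0) :
    ((Matrix.GeneralLinearGroup.det (rankOne f u h) : Fˣ) : F) = 1 + f u := by
  show (1 + Matrix.vecMulVec u (dualVec f)).det = _
  rw [Matrix.vecMulVec_eq Unit, Matrix.det_one_add_replicateCol_mul_replicateRow, dualVec_dotProduct]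

theorem rankOne_mem_specialLinear (f : (ι → F) →ₗ[F] F) (u : ι → F) (h : 1 + f u ≠ 0) (h0 : f u = 0) :
    rankOne f u h ∈ Cfsg.Geo.specialLinear ι F := by
  refine MonoidHom.mem_ker.2 (Units.ext ?_)
  rw [det_rankOne, h0, add_zero, Units.val_one]

/-- A product of two rank-one perturbations with reciprocal determinants lies in SL. -/
theorem mul_rankOne_mem_specialLinear (f g : (ι → F) →ₗ[F] F) (u v : ι → F) (hf : 1 + f u ≠ 0) (hg : 1 + g v ≠ 0)
    (h : (1 + f u) * (1 + g v) = 1) : rankOne f u hf * rankOne g v hg ∈ Cfsg.Geo.specialLinear ι F := by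
  refine MonoidHom.mem_ker.2 (Units.ext ?_)
  rw [map_mul, Units.val_mul, det_rankOne, det_rankOne, h, Units.val_one]

/-- A decomposition has an adapted basis indexed by pairs. -/
theorem exists_adapted_basis {t m : ℕ} {D : Fin t → Submodule F (ι → F)} (hD : Cfsg.Geo.IsMDecomposition m D) :
    ∃ b : Basis (Fin t × Fin m) F (ι → F), ∀ i v, v ∈ D i ↔ ∀ p : Fin t × Fin m, p.1 ≠ i → b.repr v p = 0 := by
  classical
  have hint : DirectSum.IsInternal D :=
    (DirectSum.isInternal_submodule_iff_iSupIndep_and_iSup_eq_top D).2 ⟨hD.indep, hD.iSup_eq_top⟩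
  let v : ∀ i, Basis (Fin m) F (D i) := fun i => Module.finBasisOfFinrankEq F (D i) (hD.finrank_eq i)
  let c := hint.collectedBasis v
  refine ⟨c.reindex (Equiv.sigmaEquivProd _ _), fun i x => ⟨fun hx p hp => ?_, fun hx => ?_⟩⟩
  · rw [Basis.repr_reindex_apply]
    exact hint.collectedBasis_repr_of_mem_ne v (x := x) (i := i) (j := p.1) (a := p.2) (Ne.symm hp) hx
  · rw [← (c.reindex (Equiv.sigmaEquivProd _ _)).sum_repr x]
    refine Submodule.sum_mem _ fun p _ => ?_
    by_cases hp : p.1 = i
    · refine Submodule.smul_mem _ _ ?_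
      rw [Basis.reindex_apply]
      subst hp
      exact hint.collectedBasis_mem v ((Equiv.sigmaEquivProd _ _).symm p)
    · rw [hx p hp, zero_smul]
      exact Submodule.zero_mem _

theorem card_eq_mul {t m : ℕ} {D : Fin t → Submodule F (ι → F)} (hD : Cfsg.Geo.IsMDecomposition m D) :
    Fintype.card ι = t * m := by
  obtain ⟨b, -⟩ := exists_adapted_basis hD
  rw [← Module.finrank_fintype_fun_eq_card F (η := ι), Module.finrank_eq_card_basis b, Fintype.card_prod,
    Fintype.card_fin, Fintype.card_fin]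

/-- Number, in F, of non-zero components of a vector. -/
noncomputable def weight {t m : ℕ} (b : Basis (Fin t × Fin m) F (ι → F)) (v : ι → F) : F :=
  open Classical in ∑ i : Fin t, if ∀ j, b.repr v (i, j) = 0 then 0 else 1

/-- The matrices preserving the weight, as a subgroup. -/
noncomputable def weightGroup {t m : ℕ} (b : Basis (Fin t × Fin m) F (ι → F)) :
    Subgroup (Matrix.GeneralLinearGroup ι F) where
  carrier := {g | ∀ v, weight b ((g : Matrix ι ι F) *ᵥ v) = weight b v}
  mul_mem' {g h} hg hh v := by rw [Units.val_mul, ← Matrix.mulVec_mulVec, hg, hh]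
  one_mem' v := by rw [Units.val_one, Matrix.one_mulVec]
  inv_mem' {g} hg v := by
    rw [← hg, Matrix.mulVec_mulVec, ← Units.val_mul, mul_inv_cancel, Units.val_one, Matrix.one_mulVec]

theorem decompositionStabilizer_le_weightGroup {t m : ℕ} {D : Fin t → Submodule F (ι → F)}
    (b : Basis (Fin t × Fin m) F (ι → F))
    (hb : ∀ i v, v ∈ D i ↔ ∀ p : Fin t × Fin m, p.1 ≠ i → b.repr v p = 0) :
    Cfsg.Geo.decompositionStabilizer D ≤ weightGroup b := by
  classical
  rintro g ⟨σ, hσ⟩ v
  let part : Fin t → ι → F := fun i => ∑ j, b.repr v (i, j) • b (i, j)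
  have hrepr : ∀ i p, b.repr (part i) p = if p.1 = i then b.repr v p else 0 := by
    intro i p
    simp only [part, map_sum, map_smul, Basis.repr_self, Finsupp.coe_finset_sum, Finset.sum_apply,
      Finsupp.smul_single, smul_eq_mul, mul_one, Finsupp.single_apply]
    by_cases hp : p.1 = i
    · subst hp
      rw [if_pos rfl, Finset.sum_eq_single p.2]
      · rw [if_pos (Prod.mk.eta)]
      · intro j _ hj
        rw [if_neg]
        exact fun h => hj (congrArg Prod.snd h)
      · intro h
        exact absurd (Finset.mem_univ _) h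
    · rw [if_neg hp]
      exact Finset.sum_eq_zero fun j _ => if_neg fun h => hp (congrArg Prod.fst h).symm
  have hmem : ∀ i, part i ∈ D i := fun i => (hb i _).2 fun p hp => by rw [hrepr, if_neg hp]
  have hgmem : ∀ i, (g : Matrix ι ι F) *ᵥ part i ∈ D (σ i) := fun i => by
    rw [← hσ i]
    exact ⟨part i, hmem i, Matrix.toLin'_apply _ _⟩
  have hv : v = ∑ i, part i := by
    conv_lhs => rw [← b.sum_repr v]
    exact Fintype.sum_prod_type _
  have hcomp : ∀ i j, b.repr ((g : Matrix ι ι F) *ᵥ v) (σ i, j) = b.repr ((g : Matrix ι ι F) *ᵥ part i) (σ i, j) := by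
    intro i j
    conv_lhs => rw [hv]
    rw [Matrix.mulVec_sum, map_sum, Finsupp.coe_finset_sum, Finset.sum_apply, Finset.sum_eq_single i]
    · intro k _ hk
      exact (hb _ _).1 (hgmem k) _ (fun h => hk (σ.injective h).symm)
    · intro h
      exact absurd (Finset.mem_univ _) h
  have hzero : ∀ i, (∀ j, b.repr ((g : Matrix ι ι F) *ᵥ v) (σ i, j) = 0) ↔ ∀ j, b.repr v (i, j) = 0 := by
    intro i
    simp only [hcomp]
    constructor
    · intro h j
      have h0 : (g : Matrix ι ι F) *ᵥ part i = 0 := b.repr.injective (by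
        ext ⟨k, l⟩
        rw [map_zero, Finsupp.coe_zero, Pi.zero_apply]
        by_cases hk : k = σ i
        · subst hk; exact h l
        · exact (hb _ _).1 (hgmem i) _ hk)
      have h1 := congrArg (((g⁻¹ : Matrix.GeneralLinearGroup ι F) : Matrix ι ι F) *ᵥ ·) h0
      simp only [Matrix.mulVec_mulVec, ← Units.val_mul, inv_mul_cancel, Units.val_one, Matrix.one_mulVec,
        Matrix.mulVec_zero] at h1
      have h2 := hrepr i (i, j)
      rw [h1, map_zero, Finsupp.coe_zero, Pi.zero_apply, if_pos rfl] at h2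
      exact h2.symm
    · intro h j
      have h0 : part i = 0 := Finset.sum_eq_zero fun j _ => by rw [h j, zero_smul]
      rw [h0, Matrix.mulVec_zero, map_zero, Finsupp.coe_zero, Pi.zero_apply]
  unfold weight
  rw [← Equiv.sum_comp σ]
  exact Finset.sum_congr rfl fun i _ => if_congr (hzero i) rfl rfl

/-- An element sending a member of D to a vector with two non-zero components is outside the stabiliser. -/
theorem notMem_decompositionStabilizer {t m : ℕ} {D : Fin t → Submodule F (ι → F)}
    (b : Basis (Fin t × Fin m) F (ι → F))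
    (hb : ∀ i v, v ∈ D i ↔ ∀ p : Fin t × Fin m, p.1 ≠ i → b.repr v p = 0) (g : Matrix.GeneralLinearGroup ι F)
    (p₀ p q : Fin t × Fin m) (hpq : p.1 ≠ q.1) (hp : b.repr ((g : Matrix ι ι F) *ᵥ b p₀) p ≠ 0)
    (hq : b.repr ((g : Matrix ι ι F) *ᵥ b p₀) q ≠ 0) : g ∉ Cfsg.Geo.decompositionStabilizer D := by
  rintro ⟨σ, hσ⟩
  have hmem : (g : Matrix ι ι F) *ᵥ b p₀ ∈ D (σ p₀.1) := by
    rw [← hσ p₀.1]
    refine ⟨b p₀, (hb _ _).2 fun r hr => ?_, Matrix.toLin'_apply _ _⟩
    rw [Basis.repr_self, Finsupp.single_apply, if_neg]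
    rintro rfl
    exact hr rfl
  by_cases h : p.1 = σ p₀.1
  · exact hq ((hb _ _).1 hmem q fun h' => hpq (h.trans h'.symm))
  · exact hp ((hb _ _).1 hmem p h)

theorem weight_eq_of_eq_off {t m : ℕ} (b : Basis (Fin t × Fin m) F (ι → F)) (s : Finset (Fin t)) (x y : ι → F)
    (χ : (Fin m → F) → F) (hχ : ∀ w, χ w = open Classical in if ∀ j, w j = 0 then 0 else 1)
    (hout : ∀ i ∉ s, ∀ j, b.repr x (i, j) = b.repr y (i, j))
    (hin : ∑ i ∈ s, χ (fun j => b.repr x (i, j)) = ∑ i ∈ s, χ (fun j => b.repr y (i, j))) :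
    weight b x = weight b y := by
  classical
  have h : ∀ z, weight b z = ∑ i : Fin t, χ (fun j => b.repr z (i, j)) := fun z => by
    unfold weight
    exact Finset.sum_congr rfl fun i _ => by rw [hχ]
  rw [h, h, ← Finset.sum_add_sum_compl s, ← Finset.sum_add_sum_compl s, hin]
  congr 1
  exact Finset.sum_congr rfl fun i hi => by rw [funext (hout i (Finset.mem_compl.1 hi))]

theorem chi_one {F : Type*} [Field F] [Fintype F] (w : Fin 1 → F) :
    w 0 ^ (Fintype.card F - 1) = open Classical in if ∀ j, w j = 0 then 0 else 1 := by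
  classical
  by_cases h : w 0 = 0
  · have : 1 < Fintype.card F := Fintype.one_lt_card
    rw [if_pos (fun j => by rw [Fin.fin_one_eq_zero j, h]), h, zero_pow (by omega)]
  · rw [if_neg (fun hh => h (hh 0)), FiniteField.pow_card_sub_one_eq_one _ h]

theorem chi_two {F : Type*} [Field F] [Fintype F] (hq : Fintype.card F = 2) (w : Fin 2 → F) :
    w 0 ^ 2 + w 0 * w 1 + w 1 ^ 2 = open Classical in if ∀ j, w j = 0 then 0 else 1 := by
  classical
  have h2 : (2 : F) = 0 := by
    have := FiniteField.cast_card_eq_zero F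
    rw [hq] at this
    exact_mod_cast this
  have h01 : ∀ x : F, x = 0 ∨ x = 1 := by
    intro x
    by_cases h : x = 0
    · exact Or.inl h
    · right
      have := FiniteField.pow_card_sub_one_eq_one x h
      rwa [hq, pow_one] at this
  rcases h01 (w 0) with h | h <;> rcases h01 (w 1) with h' | h'
  · rw [if_pos (fun j => by fin_cases j <;> assumption), h, h']; ring
  · rw [if_neg (fun hh => one_ne_zero (h'.symm.trans (hh 1))), h, h']; ring
  · rw [if_neg (fun hh => one_ne_zero (h.symm.trans (hh 0))), h, h']; ring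
  · rw [if_neg (fun hh => one_ne_zero (h.symm.trans (hh 0))), h, h']; linear_combination h2

end CfsgLib.Geo
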