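/-
Components of a vector along an orthogonal decomposition, and non-maximality for symplectic planes over two elements.
-/
import Cfsg.Agent.Lib.Geo.DecompCoords
import Cfsg.Prelude.Def_ClassicalGeometry

namespace CfsgLib.Geo

open Matrix Module

variable {ι : Type} [Fintype ι] [DecidableEq ι] {F : Type*} [Field F] {t m : ℕ}

/-- The component of v in the i-th member of an adapted decomposition. -/
noncomputable def part (b : Basis (Fin t × Fin m) F (ι → F)) (i : Fin t) (v : ι → F) : ι → F :=
  ∑ j, b.repr v (i, j) • b (i, j)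

theorem part_add (b : Basis (Fin t × Fin m) F (ι → F)) (i : Fin t) (x y : ι → F) :
    part b i (x + y) = part b i x + part b i y := by
  simp [part, add_smul, Finset.sum_add_distrib]

theorem sum_part (b : Basis (Fin t × Fin m) F (ι → F)) (v : ι → F) : ∑ i, part b i v = v := by
  conv_rhs => rw [← b.sum_repr v]
  exact (Fintype.sum_prod_type (f := fun p => b.repr v p • b p)).symm

theorem repr_part (b : Basis (Fin t × Fin m) F (ι → F)) (i : Fin t) (v : ι → F) (p : Fin t × Fin m) :
    b.repr (part b i v) p = if p.1 = i then b.repr v p else 0 := by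
  classical
  simp only [part, map_sum, map_smul, Basis.repr_self, Finsupp.coe_finsetSum, Finset.sum_apply,
    Finsupp.smul_single, smul_eq_mul, mul_one, Finsupp.single_apply]
  by_cases hp : p.1 = i
  · subst hp
    rw [if_pos rfl, Finset.sum_eq_single p.2]
    · rw [if_pos (Prod.mk.eta)]
    · intro j _ hj
      rw [if_neg]
      exact fun h => hj (congrArg Prod.snd h)
    · intro h
      exact absurd (Finset.mem_univ _) h
  · rw [if_neg hp]
    exact Finset.sum_eq_zero fun j _ => if_neg fun h => hp (congrArg Prod.fst h).symm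

theorem part_mem {D : Fin t → Submodule F (ι → F)} (b : Basis (Fin t × Fin m) F (ι → F))
    (hb : ∀ i v, v ∈ D i ↔ ∀ p : Fin t × Fin m, p.1 ≠ i → b.repr v p = 0) (i : Fin t) (v : ι → F) :
    part b i v ∈ D i :=
  (hb i _).2 fun p hp => by rw [repr_part, if_neg hp]

theorem part_of_mem {D : Fin t → Submodule F (ι → F)} (b : Basis (Fin t × Fin m) F (ι → F))
    (hb : ∀ i v, v ∈ D i ↔ ∀ p : Fin t × Fin m, p.1 ≠ i → b.repr v p = 0) {i : Fin t} {v : ι → F} (hv : v ∈ D i)
    (k : Fin t) : part b k v = if k = i then v else 0 := by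
  apply b.repr.injective
  ext p
  rw [repr_part]
  by_cases hk : k = i
  · subst hk
    rw [if_pos rfl]
    split_ifs with hp
    · rfl
    · exact ((hb k v).1 hv p hp).symm
  · rw [if_neg hk]
    split_ifs with hp
    · rw [map_zero, Finsupp.coe_zero, Pi.zero_apply]
      exact (hb i v).1 hv p fun h => hk (hp.symm.trans h)
    · simp

theorem part_eq_zero_iff (b : Basis (Fin t × Fin m) F (ι → F)) (i : Fin t) (v : ι → F) :
    part b i v = 0 ↔ ∀ j, b.repr v (i, j) = 0 := by
  constructor
  · intro h j
    have := repr_part b i v (i, j)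
    rw [h, map_zero, Finsupp.coe_zero, Pi.zero_apply, if_pos rfl] at this
    exact this.symm
  · intro h
    exact Finset.sum_eq_zero fun j _ => by rw [h j, zero_smul]

theorem weight_eq_sum (b : Basis (Fin t × Fin m) F (ι → F)) (v : ι → F) :
    weight b v = open Classical in ∑ i, if part b i v = 0 then 0 else 1 := by
  classical
  unfold weight
  exact Finset.sum_congr rfl fun i _ => if_congr (part_eq_zero_iff b i v).symm rfl rfl

/-- An orthogonal decomposition splits a biadditive form componentwise. -/
theorem form_eq_sum {D : Fin t → Submodule F (ι → F)} (b : Basis (Fin t × Fin m) F (ι → F))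
    (hb : ∀ i v, v ∈ D i ↔ ∀ p : Fin t × Fin m, p.1 ≠ i → b.repr v p = 0) (B : (ι → F) → (ι → F) → F)
    (hl : ∀ x y v, B (x + y) v = B x v + B y v) (hr : ∀ v x y, B v (x + y) = B v x + B v y)
    (horth : ∀ i j, i ≠ j → ∀ u ∈ D i, ∀ v ∈ D j, B u v = 0) (x y : ι → F) :
    B x y = ∑ i, B (part b i x) (part b i y) := by
  classical
  let Bl : (ι → F) → (ι → F) →+ F := fun v => AddMonoidHom.mk' (fun u => B u v) (fun a c => hl a c v)
  let Br : (ι → F) → (ι → F) →+ F := fun u => AddMonoidHom.mk' (fun v => B u v) (fun a c => hr u a c)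
  conv_lhs => rw [← sum_part b x, ← sum_part b y]
  refine (map_sum (Bl _) _ _).trans (Finset.sum_congr rfl fun i _ => ?_)
  refine (map_sum (Br _) _ _).trans (Finset.sum_eq_single i (fun j _ hj => ?_) fun h => absurd (Finset.mem_univ i) h)
  exact horth i j (Ne.symm hj) _ (part_mem b hb i x) _ (part_mem b hb j y)

theorem sympForm_add_left (n : ℕ) (x y v : Fin n ⊕ Fin n → F) :
    Cfsg.sympForm n F (x + y) v = Cfsg.sympForm n F x v + Cfsg.sympForm n F y v := add_dotProduct _ _ _

theorem sympForm_add_right (n : ℕ) (v x y : Fin n ⊕ Fin n → F) :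
    Cfsg.sympForm n F v (x + y) = Cfsg.sympForm n F v x + Cfsg.sympForm n F v y := by
  simp [Cfsg.sympForm, Matrix.mulVec_add, dotProduct_add]

theorem sympForm_smul_left (n : ℕ) (c : F) (x v : Fin n ⊕ Fin n → F) :
    Cfsg.sympForm n F (c • x) v = c * Cfsg.sympForm n F x v := smul_dotProduct c _ _

theorem sympForm_smul_right (n : ℕ) (c : F) (v x : Fin n ⊕ Fin n → F) :
    Cfsg.sympForm n F v (c • x) = c * Cfsg.sympForm n F v x := by
  simp [Cfsg.sympForm, Matrix.mulVec_smul, dotProduct_smul]

theorem sympForm_self (n : ℕ) (x : Fin n ⊕ Fin n → F) : Cfsg.sympForm n F x x = 0 := by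
  simp only [Cfsg.sympForm, Matrix.J, dotProduct, Matrix.mulVec, Fintype.sum_sum_type, Matrix.fromBlocks_apply₁₁,
    Matrix.fromBlocks_apply₁₂, Matrix.fromBlocks_apply₂₁, Matrix.fromBlocks_apply₂₂]
  simp [Matrix.neg_apply, Matrix.one_apply, mul_comm]

theorem sympForm_swap (n : ℕ) (x y : Fin n ⊕ Fin n → F) : Cfsg.sympForm n F y x = - Cfsg.sympForm n F x y := by
  have := sympForm_self n (x + y)
  rw [sympForm_add_left, sympForm_add_right, sympForm_add_right, sympForm_self, sympForm_self] at this
  linear_combination this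

theorem symp_planes_not_maximal [Fintype F] (n : ℕ) (hq : Fintype.card F = 2)
    (D : Fin t → Submodule F (Fin n ⊕ Fin n → F)) (ht : 3 ≤ t)
    (hD : Cfsg.Geo.IsNondegenerateMDecomposition (Cfsg.sympForm n F) 2 D) :
    ∃ K : Subgroup (Matrix.GeneralLinearGroup (Fin n ⊕ Fin n) F),
      Cfsg.Geo.decompositionStabilizer D ⊓ Cfsg.spGL n F < K ∧ K < Cfsg.spGL n F := by
  classical
  obtain ⟨b, hb⟩ := exists_adapted_basis hD.decomp
  set B := Cfsg.sympForm n F with hB
  have h2 : (2 : F) = 0 := by
    have := FiniteField.cast_card_eq_zero F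
    rw [hq] at this
    exact_mod_cast this
  have h01 : ∀ c : F, c = 0 ∨ c = 1 := fun c => by
    by_cases h : c = 0
    · exact Or.inl h
    · have := FiniteField.pow_card_sub_one_eq_one c h
      rw [hq, pow_one] at this
      exact Or.inr this
  let χ : (Fin n ⊕ Fin n → F) → F := fun z => if z = 0 then 0 else 1
  have hχ : ∀ i, ∀ x ∈ D i, ∀ y ∈ D i, χ (x + y) = χ x + χ y + B x y := by
    intro i x hx y hy
    rcases eq_or_ne x 0 with rfl | hx0
    · have : B 0 y = 0 := by simpa using sympForm_smul_left n (0 : F) 0 y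
      simp [χ, this]
    rcases eq_or_ne y 0 with rfl | hy0
    · have : B x 0 = 0 := by simpa using sympForm_smul_right n (0 : F) x 0
      simp [χ, this]
    rcases eq_or_ne x y with rfl | hxy
    · have hxx : x + x = 0 := by rw [← two_smul F x, h2, zero_smul]
      rw [hB, sympForm_self]
      simp [χ, hxx, hx0]
      linear_combination -h2
    · have hne : x + y ≠ 0 := fun h => hxy (by
        rw [eq_neg_of_add_eq_zero_left h, ← neg_one_smul F y, show (-1 : F) = 1 by linear_combination -h2, one_smul])
      have hBxy : B x y = 1 := by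
        refine (h01 _).resolve_left fun h0 => ?_
        obtain ⟨-, z, hz, hxz⟩ := hD.nondegenerate i x hx hx0
        apply hxz
        have hli : LinearIndependent F ![x, y] := by
          rw [LinearIndependent.pair_iff' hx0]
          intro c hc
          rcases h01 c with rfl | rfl
          · exact hy0 (by simpa using hc.symm)
          · exact hxy (by simpa using hc)
        have hle : Submodule.span F (Set.range ![x, y]) ≤ D i := by
          rw [Submodule.span_le]
          rintro _ ⟨k, rfl⟩
          fin_cases k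
          · exact hx
          · exact hy
        have heq : Submodule.span F (Set.range ![x, y]) = D i :=
          Submodule.eq_of_le_of_finrank_eq hle (by
            rw [finrank_span_eq_card hli, hD.decomp.finrank_eq, Fintype.card_fin])
        rw [← heq, show Set.range ![x, y] = {x, y} by simp [Matrix.range_cons, Set.pair_comm], Submodule.mem_span_pair] at hz
        obtain ⟨a, c, rfl⟩ := hz
        show B x (a • x + c • y) = 0
        rw [hB, sympForm_add_right, sympForm_smul_right, sympForm_smul_right, sympForm_self, ← hB, h0]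
        simp
      simp [χ, hne, hx0, hy0, hBxy]
      first | linear_combination h2 | linear_combination -h2
  have hQ : ∀ x y, weight b (x + y) = weight b x + weight b y + B x y := by
    intro x y
    rw [form_eq_sum b hb B (sympForm_add_left n) (sympForm_add_right n) hD.orthogonal x y, weight_eq_sum,
      weight_eq_sum, weight_eq_sum, ← Finset.sum_add_distrib, ← Finset.sum_add_distrib]
    refine Finset.sum_congr rfl fun i _ => ?_
    rw [part_add]
    exact hχ i _ (part_mem b hb i x) _ (part_mem b hb i y)
  have hQsmul : ∀ (c : F) x, weight b (c • x) = c * weight b x := by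
    intro c x
    rcases h01 c with rfl | rfl
    · rw [zero_smul, zero_mul, weight_eq_sum]
      exact Finset.sum_eq_zero fun i _ => if_pos (by simp [part])
    · rw [one_smul, one_mul]
  have hpick : ∀ i, ∃ a ∈ D i, a ≠ 0 := fun i => by
    apply Submodule.exists_mem_ne_zero_of_ne_bot
    intro h
    have := hD.decomp.finrank_eq i
    rw [h, finrank_bot] at this
    omega
  choose a ha ha0 using hpick
  have hQa : ∀ i, weight b (a i) = 1 := by
    intro i
    rw [weight_eq_sum, Finset.sum_eq_single i]
    · rw [part_of_mem b hb (ha i), if_pos rfl, if_neg (ha0 i)]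
    · intro k _ hk
      rw [part_of_mem b hb (ha i), if_neg hk, if_pos rfl]
    · intro h
      exact absurd (Finset.mem_univ i) h
  let i0 : Fin t := ⟨0, by omega⟩
  let i1 : Fin t := ⟨1, by omega⟩
  let i2 : Fin t := ⟨2, by omega⟩
  have h01i : i0 ≠ i1 := by simp [i0, i1, Fin.ext_iff]
  have h02i : i0 ≠ i2 := by simp [i0, i2, Fin.ext_iff]
  have h12i : i1 ≠ i2 := by simp [i1, i2, Fin.ext_iff]
  have hBa : ∀ i j, i ≠ j → B (a i) (a j) = 0 := fun i j h => hD.orthogonal i j h _ (ha i) _ (ha j)
  obtain ⟨-, w, hw, hBw⟩ := hD.nondegenerate i0 (a i0) (ha i0) (ha0 i0)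
  have hBw1 : B w (a i0) = 1 := by
    rw [hB, sympForm_swap, ← hB, (h01 (B (a i0) w)).resolve_left hBw]
    linear_combination -h2
  -- symplectic transvections
  let fr : (Fin n ⊕ Fin n → F) → (Fin n ⊕ Fin n → F) →ₗ[F] F := fun u =>
    { toFun := fun x => B x u
      map_add' := fun x y => sympForm_add_left n x y u
      map_smul' := fun c x => sympForm_smul_left n c x u }
  have hfr : ∀ u, fr u u = 0 := fun u => sympForm_self n u
  let T : (Fin n ⊕ Fin n → F) → Matrix.GeneralLinearGroup (Fin n ⊕ Fin n) F := fun u =>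
    rankOne (fr u) u (by rw [hfr, add_zero]; exact one_ne_zero)
  have hT : ∀ u x, (T u : Matrix (Fin n ⊕ Fin n) (Fin n ⊕ Fin n) F) *ᵥ x = x + B x u • u := fun u x =>
    rankOne_mulVec _ _ _ x
  have hTSp : ∀ u, T u ∈ Cfsg.spGL n F := by
    intro u x y
    show B ((T u : Matrix (Fin n ⊕ Fin n) (Fin n ⊕ Fin n) F) *ᵥ x) ((T u : Matrix _ _ F) *ᵥ y) = B x y
    simp only [hT, hB, sympForm_add_left, sympForm_add_right, sympForm_smul_left, sympForm_smul_right, sympForm_self]
    rw [sympForm_swap n y u]
    ring
  let u3 := a i0 + a i1 + a i2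
  have hu3 : weight b u3 = 1 := by
    rw [hQ, hQ, hQa, hQa, hQa, hBa _ _ h01i, hB, sympForm_add_left, ← hB, hBa _ _ h02i, hBa _ _ h12i]
    linear_combination h2
  refine ⟨weightGroup b ⊓ Cfsg.spGL n F, lt_of_le_of_ne
    (inf_le_inf_right _ (decompositionStabilizer_le_weightGroup b hb)) fun heq => ?_,
    lt_of_le_of_ne inf_le_right fun heq => ?_⟩
  · have hin : T u3 ∈ weightGroup b := by
      intro x
      rw [hT, hQ, hQsmul, hu3, hB, sympForm_smul_right, ← hB]
      rcases h01 (B x u3) with h | h <;> rw [h]
      · ring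
      · linear_combination h2
    obtain ⟨σ, hσ⟩ := (heq.ge ⟨hin, hTSp u3⟩).1
    have hmem : w + u3 ∈ D (σ i0) := by
      rw [← hσ i0]
      refine ⟨w, hw, ?_⟩
      rw [Matrix.toLin'_apply, hT]
      have hBwu : B w u3 = 1 := by
        rw [hB, sympForm_add_right, sympForm_add_right, ← hB, hBw1, hD.orthogonal _ _ h01i _ hw _ (ha i1),
          hD.orthogonal _ _ h02i _ hw _ (ha i2)]
        ring
      rw [hBwu, one_smul]
    have e1 : part b i1 (w + u3) = a i1 := by
      rw [part_add, part_add, part_add, part_of_mem b hb hw, part_of_mem b hb (ha i0), part_of_mem b hb (ha i1),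
        part_of_mem b hb (ha i2), if_neg h01i.symm, if_pos rfl, if_neg h12i]
      simp [h01i.symm]
    have e2 : part b i2 (w + u3) = a i2 := by
      rw [part_add, part_add, part_add, part_of_mem b hb hw, part_of_mem b hb (ha i0), part_of_mem b hb (ha i1),
        part_of_mem b hb (ha i2), if_neg h02i.symm, if_neg h12i.symm, if_pos rfl]
      simp [h02i.symm]
    rw [part_of_mem b hb hmem] at e1 e2
    split_ifs at e1 e2 with h1 h2'
    · exact h12i (h1.trans h2'.symm)
    all_goals first | exact ha0 _ e1.symm | exact ha0 _ e2.symm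
  · have h := (heq.ge (hTSp (a i0 + a i1))).1 w
    rw [hT, hB, sympForm_add_right, ← hB, hBw1, hD.orthogonal _ _ h01i _ hw _ (ha i1), add_zero, one_smul, hQ, hQ,
      hQa, hQa, hBa _ _ h01i, hB, sympForm_add_right, ← hB, hBw1, hD.orthogonal _ _ h01i _ hw _ (ha i1)] at h
    exact one_ne_zero (α := F) (by linear_combination h - h2)

end CfsgLib.Geo
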