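/-
Stabilisers of orthogonal decompositions into non-degenerate subspaces are maximal in the symplectic groups.
-/
import Cfsg.Agent.Lib.Geo.QuadInSymplectic
import Cfsg.Agent.Lib.Geo.OrthDecomp
import Cfsg.Agent.Lib.Classical.Symplectic.Geometry

set_option autoImplicit false

namespace CfsgLib.Geo.Roots

open Matrix
open CfsgLib.Classical.Symp

section Components

variable {ι : Type} [Fintype ι] [DecidableEq ι] {F : Type*} [Field F] {t k : ℕ}
  {D : Fin t → Submodule F (ι → F)} {b : Module.Basis (Fin t × Fin k) F (ι → F)}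

theorem part_sum (hb : ∀ i v, v ∈ D i ↔ ∀ p : Fin t × Fin k, p.1 ≠ i → b.repr v p = 0)
    (c : Fin t → ι → F) (hc : ∀ l, c l ∈ D l) (l : Fin t) : part b l (∑ i, c i) = c l := by
  classical
  let L : (ι → F) →+ (ι → F) := AddMonoidHom.mk' (part b l) (part_add b l)
  show L (∑ i, c i) = c l
  rw [map_sum, Finset.sum_eq_single l]
  · exact (part_of_mem b hb (hc l) l).trans (if_pos rfl)
  · exact fun i _ hi => (part_of_mem b hb (hc i) l).trans (if_neg (Ne.symm hi))
  · exact fun h => absurd (Finset.mem_univ l) h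

theorem form_eq_sum_part {f : (ι → F) → (ι → F) → F} (hf : Cfsg.Geo.IsBilinearForm f)
    (hb : ∀ i v, v ∈ D i ↔ ∀ p : Fin t × Fin k, p.1 ≠ i → b.repr v p = 0)
    (horth : ∀ i j, i ≠ j → ∀ u ∈ D i, ∀ v ∈ D j, f u v = 0) (x y : ι → F) :
    f x y = ∑ l, f (part b l x) (part b l y) := by
  classical
  let L : (ι → F) → (ι → F) →+ F := fun u => AddMonoidHom.mk' (f u) (hf.add_right u)
  let R : (ι → F) → (ι → F) →+ F := fun v => AddMonoidHom.mk' (fun u => f u v) fun a c => hf.add_left a c v
  conv_lhs => rw [← sum_part b x]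
  show R y (∑ i, part b i x) = _
  rw [map_sum]
  refine Finset.sum_congr rfl fun i _ => ?_
  show f (part b i x) y = _
  conv_lhs => rw [← sum_part b y]
  show L (part b i x) (∑ l, part b l y) = _
  rw [map_sum, Finset.sum_eq_single i]
  · rfl
  · exact fun l _ hl => horth i l (Ne.symm hl) _ (part_mem b hb i x) _ (part_mem b hb l y)
  · exact fun h => absurd (Finset.mem_univ i) h

/-- A linear map carrying each member of a decomposition into a member of the family permutes the family. -/
theorem mem_decompositionStabilizer_of_maps [Finite F] (hD : Cfsg.Geo.IsMDecomposition k D)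
    {g : Matrix.GeneralLinearGroup ι F} (h : ∀ i, ∃ j, ∀ x ∈ D i, (g : Matrix ι ι F) *ᵥ x ∈ D j) :
    g ∈ Cfsg.Geo.decompositionStabilizer D := by
  choose σ hσ using h
  have hinj : Function.Injective (Matrix.toLin' (g : Matrix ι ι F)) := fun x y hxy => by
    simp only [Matrix.toLin'_apply] at hxy
    exact Matrix.mulVec_injective_iff_isUnit.2 g.isUnit hxy
  have hmap : ∀ i, (D i).map (Matrix.toLin' (g : Matrix ι ι F)) = D (σ i) := fun i => by
    refine Submodule.eq_of_le_of_finrank_eq ?_ ?_
    · rintro _ ⟨x, hx, rfl⟩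
      rw [Matrix.toLin'_apply]
      exact hσ i x hx
    · rw [hD.finrank_eq, ← (Submodule.equivMapOfInjective _ hinj _).finrank_eq, hD.finrank_eq]
  have hne : ∀ i, D i ≠ ⊥ := fun i h => by
    have := hD.finrank_eq i
    rw [h, finrank_bot] at this
    have := hD.pos
    omega
  have hσinj : Function.Injective σ := fun i j hij =>
    hD.indep.injOn (hne i) (hne j) (Submodule.map_injective_of_injective hinj (by rw [hmap, hmap, hij]))
  exact ⟨Equiv.ofBijective σ hσinj.bijective_of_finite, hmap⟩

end Components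

variable {m : ℕ} {F : Type*} [Field F]

/-- A subgroup containing all symplectic transvections contains the symplectic group. -/
theorem spGL_le {M : Subgroup (Matrix.GeneralLinearGroup (Fin m ⊕ Fin m) F)}
    (h : ∀ (t : F) v, Root M (t • fvec (Cfsg.sympForm m F) v) v) : Cfsg.spGL m F ≤ M := by
  have hf := isSymplecticForm_sympForm (m := m) (F := F)
  let ψ : Matrix.symplecticGroup (Fin m) F →* Matrix.GeneralLinearGroup (Fin m ⊕ Fin m) F :=
    (Cfsg.spGL m F).subtype.comp (symplecticEquivSpGL m F).toMonoidHom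
  have hgen : M.comap ψ = ⊤ := by
    rw [eq_top_iff, ← closure_sympTransvection_eq_top, Subgroup.closure_le]
    rintro A ⟨w, c, hA⟩
    rw [SetLike.mem_coe, Subgroup.mem_comap]
    obtain ⟨hdd, hmem⟩ := h (-c) w
    convert hmem using 1
    refine ext_mulVec fun x => ?_
    show (A : Matrix (Fin m ⊕ Fin m) (Fin m ⊕ Fin m) F) *ᵥ x = _
    rw [hA, transvectionGL_mulVec, smul_dotProduct, fvec_dot hf.bilinear, Cfsg.sympTransvection, Matrix.add_mulVec,
      Matrix.one_mulVec, Matrix.smul_mulVec, Matrix.vecMulVec_mulVec, op_smul_eq_smul, smul_smul,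
      show (Matrix.J (Fin m) F *ᵥ w) ⬝ᵥ x = Cfsg.sympForm m F x w from dotProduct_comm _ _, hf.skew x w,
      smul_eq_mul]
    congr 2
    ring
  intro x hx
  have hmem : (symplecticEquivSpGL m F).symm ⟨x, hx⟩ ∈ M.comap ψ := by rw [hgen]; exact Subgroup.mem_top _
  simpa [ψ] using hmem

theorem root_mem_spGL (t : F) (v : Fin m ⊕ Fin m → F)
    (h : (t • fvec (Cfsg.sympForm m F) v) ⬝ᵥ v = 0) :
    transvectionGL (t • fvec (Cfsg.sympForm m F) v) v h ∈ Cfsg.spGL m F := by
  have hf := isSymplecticForm_sympForm (m := m) (F := F)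
  rw [mem_spGL_iff]
  intro a c
  simp only [transvectionGL_mulVec, smul_dotProduct, fvec_dot hf.bilinear, smul_eq_mul,
    hf.bilinear.add_left, hf.bilinear.add_right, hf.bilinear.smul_left, hf.bilinear.smul_right, hf.alternating]
  rw [hf.skew a v]
  ring

variable [Finite F] {t k : ℕ} {D : Fin t → Submodule F (Fin m ⊕ Fin m → F)}

theorem exists_perm_isometry (hD : Cfsg.Geo.IsNondegenerateMDecomposition (Cfsg.sympForm m F) k D)
    (σ : Equiv.Perm (Fin t)) :
    ∃ h ∈ Cfsg.Geo.decompositionStabilizer D ⊓ Cfsg.spGL m F,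
      ∀ i, ∀ x ∈ D i, ((h : Matrix.GeneralLinearGroup (Fin m ⊕ Fin m) F) :
        Matrix (Fin m ⊕ Fin m) (Fin m ⊕ Fin m) F) *ᵥ x ∈ D (σ i) := by
  classical
  obtain ⟨b, hb⟩ := exists_adapted_basis hD.decomp
  have hf := isSymplecticForm_sympForm (m := m) (F := F)
  have hA := sympBil_isAlt m F
  have hnd : ∀ i, ((sympBil m F).restrict (D i)).Nondegenerate := fun i =>
    restrict_nondegenerate hA fun x hx h => by
      by_contra h0
      obtain ⟨y, hy, hy'⟩ := (hD.nondegenerate i x hx h0).2
      exact hy' (by rw [← sympBil_apply]; exact h y hy)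
  have hφ : ∀ i, ∃ e : D i ≃ₗ[F] D (σ i), ∀ u v : D i,
      Cfsg.sympForm m F (e u) (e v) = Cfsg.sympForm m F u v := fun i => by
    obtain ⟨e, he⟩ := exists_isometry (restrict_isAlt hA (D i)) (hnd i) (restrict_isAlt hA (D (σ i))) (hnd (σ i))
      (by rw [hD.decomp.finrank_eq, hD.decomp.finrank_eq])
    exact ⟨e, fun u v => by rw [← sympBil_apply, ← sympBil_apply]; exact he u v⟩
  choose φ hφ using hφ
  let P : Fin t → (Fin m ⊕ Fin m → F) →ₗ[F] (Fin m ⊕ Fin m → F) := fun i =>
    { toFun := part b i
      map_add' := part_add b i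
      map_smul' := fun c x => by simp [part, map_smul, Finset.smul_sum, smul_smul] }
  let L : (Fin m ⊕ Fin m → F) →ₗ[F] (Fin m ⊕ Fin m → F) :=
    ∑ i, (D (σ i)).subtype ∘ₗ (φ i).toLinearMap ∘ₗ (P i).codRestrict (D i) fun x => part_mem b hb i x
  have horth : ∀ i j, i ≠ j → ∀ u ∈ D i, ∀ v ∈ D j, Cfsg.sympForm m F u v = 0 := hD.orthogonal
  have hpart : ∀ x j, part b (σ j) (L x) = (φ j ⟨part b j x, part_mem b hb j x⟩ : Fin m ⊕ Fin m → F) := by
    intro x j
    let c : Fin t → (Fin m ⊕ Fin m → F) := fun l =>
      (φ (σ.symm l) ⟨part b (σ.symm l) x, part_mem b hb (σ.symm l) x⟩ : Fin m ⊕ Fin m → F)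
    have hc : ∀ l, c l ∈ D l := fun l => by
      have h : c l ∈ D (σ (σ.symm l)) := Subtype.coe_prop _
      rwa [Equiv.apply_symm_apply] at h
    have hcσ : ∀ i, c (σ i) = (φ i ⟨part b i x, part_mem b hb i x⟩ : Fin m ⊕ Fin m → F) := fun i => by
      have key : ∀ l, l = i → ((φ l ⟨part b l x, part_mem b hb l x⟩ : Fin m ⊕ Fin m → F)) =
          (φ i ⟨part b i x, part_mem b hb i x⟩ : Fin m ⊕ Fin m → F) := fun l hl => by subst hl; rfl
      exact key _ (σ.symm_apply_apply i)
    have hL : L x = ∑ l, c l := by
      rw [← Equiv.sum_comp σ c]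
      simp only [hcσ]
      simp [L, P, LinearMap.sum_apply]
      rfl
    rw [hL, part_sum hb c hc, hcσ]
  have hpres : ∀ x y, Cfsg.sympForm m F (L x) (L y) = Cfsg.sympForm m F x y := by
    intro x y
    rw [form_eq_sum_part hf.bilinear hb horth (L x) (L y), form_eq_sum_part hf.bilinear hb horth x y,
      ← Equiv.sum_comp σ]
    refine Finset.sum_congr rfl fun j _ => ?_
    rw [hpart, hpart]
    exact hφ j _ _
  have hinj : Function.Injective L := by
    rw [injective_iff_map_eq_zero]
    intro x hx
    by_contra h0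
    obtain ⟨y, hy⟩ := (hf.nondegenerate x h0).2
    refine hy ?_
    rw [← hpres, hx, ← zero_smul F (0 : Fin m ⊕ Fin m → F), hf.bilinear.smul_left, zero_mul]
  have hu : IsUnit (LinearMap.toMatrix' L) := by
    rw [← Matrix.mulVec_injective_iff_isUnit]
    intro x y hxy
    exact hinj (by rw [← LinearMap.toMatrix'_mulVec, ← LinearMap.toMatrix'_mulVec]; exact hxy)
  have hval : ∀ x, ((hu.unit : Matrix.GeneralLinearGroup (Fin m ⊕ Fin m) F) :
      Matrix (Fin m ⊕ Fin m) (Fin m ⊕ Fin m) F) *ᵥ x = L x := fun x => by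
    rw [IsUnit.unit_spec, LinearMap.toMatrix'_mulVec]
  have hmem : ∀ i, ∀ x ∈ D i, L x ∈ D (σ i) := by
    intro i x hx
    rw [← sum_part b (L x)]
    refine Submodule.sum_mem _ fun l _ => ?_
    obtain ⟨j, rfl⟩ := σ.surjective l
    by_cases hj : j = i
    · subst hj; exact part_mem b hb _ _
    · rw [hpart, show (⟨part b j x, part_mem b hb j x⟩ : D j) = 0 from
        Subtype.ext ((part_of_mem b hb hx j).trans (if_neg hj)), map_zero]
      exact Submodule.zero_mem _
  refine ⟨hu.unit, ⟨mem_decompositionStabilizer_of_maps hD.decomp fun i => ⟨σ i, fun x hx => ?_⟩, ?_⟩, fun i x hx => ?_⟩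
  · rw [hval]; exact hmem i x hx
  · show hu.unit ∈ Cfsg.spGL m F
    rw [mem_spGL_iff]
    intro x y
    rw [hval, hval]
    exact hpres x y
  · rw [hval]; exact hmem i x hx

/-- The stabiliser of an orthogonal decomposition is maximal unless it consists of planes over two elements. -/
theorem isMaximalIn_sympDecomp (hD : Cfsg.Geo.IsNondegenerateMDecomposition (Cfsg.sympForm m F) k D)
    (hex : k = 2 → ∃ a : F, a ≠ 0 ∧ a ≠ 1) :
    Cfsg.Geo.IsMaximalIn (Cfsg.spGL m F) (Cfsg.Geo.decompositionStabilizer D ⊓ Cfsg.spGL m F) := by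
  classical
  obtain ⟨b, hb⟩ := exists_adapted_basis hD.decomp
  have hf := isSymplecticForm_sympForm (m := m) (F := F)
  set f := Cfsg.sympForm m F with hfdef
  have horth : ∀ i j, i ≠ j → ∀ u ∈ D i, ∀ v ∈ D j, f u v = 0 := hD.orthogonal
  have hne : ∀ i, D i ≠ ⊥ := fun i h => by
    have := hD.decomp.finrank_eq i
    rw [h, finrank_bot] at this
    have := hD.decomp.pos
    omega
  -- inside one member
  have hpartner : ∀ i, ∀ v ∈ D i, v ≠ 0 → ∃ p ∈ D i, f v p = 1 ∧ p ≠ 0 ∧ p ≠ v ∧ v + p ≠ 0 := by
    intro i v hv h0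
    obtain ⟨y, hy, hy'⟩ := (hD.nondegenerate i v hv h0).2
    have h1 : f v ((f v y)⁻¹ • y) = 1 := by rw [hf.bilinear.smul_right, inv_mul_cancel₀ hy']
    refine ⟨(f v y)⁻¹ • y, (D i).smul_mem _ hy, h1, fun h => ?_, fun h => ?_, fun h => ?_⟩
    · rw [h, ← zero_smul F (0 : Fin m ⊕ Fin m → F), hf.bilinear.smul_right, zero_mul] at h1
      exact zero_ne_one h1
    · rw [h, hf.alternating] at h1
      exact zero_ne_one h1
    · rw [eq_neg_of_add_eq_zero_right h, ← neg_one_smul F v, hf.bilinear.smul_right, hf.alternating,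
        mul_zero] at h1
      exact zero_ne_one h1
  obtain ⟨i₀, j₀, hij₀⟩ : ∃ i j : Fin t, i ≠ j :=
    ⟨⟨0, by have := hD.decomp.two_le; omega⟩, ⟨1, by have := hD.decomp.two_le; omega⟩, by simp [Fin.ext_iff]⟩
  refine ⟨lt_of_le_of_ne inf_le_right fun heq => ?_, fun M hM hMS => ?_⟩
  · obtain ⟨u, hu, hu0⟩ := (Submodule.ne_bot_iff _).1 (hne i₀)
    obtain ⟨u', hu', hu'0⟩ := (Submodule.ne_bot_iff _).1 (hne j₀)
    obtain ⟨p, hp, hup, -, -, -⟩ := hpartner i₀ u hu hu0
    have hd : ((1 : F) • fvec f (u + u')) ⬝ᵥ (u + u') = 0 := by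
      rw [one_smul, fvec_dot hf.bilinear, hf.alternating]
    obtain ⟨σ, hσ⟩ := (heq.ge (root_mem_spGL 1 (u + u') hd)).1
    have hmem : ((transvectionGL ((1 : F) • fvec f (u + u')) (u + u') hd :
        Matrix.GeneralLinearGroup (Fin m ⊕ Fin m) F) : Matrix (Fin m ⊕ Fin m) (Fin m ⊕ Fin m) F) *ᵥ p ∈ D (σ i₀) := by
      rw [← hσ i₀]
      exact ⟨p, hp, Matrix.toLin'_apply _ _⟩
    rw [transvectionGL_mulVec, one_smul, fvec_dot hf.bilinear, hf.bilinear.add_left, hup,
      horth j₀ i₀ (Ne.symm hij₀) u' hu' p hp, add_zero, one_smul] at hmem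
    have h2 := part_of_mem b hb hmem j₀
    have h3 := part_of_mem b hb hmem i₀
    rw [part_add, part_add, part_of_mem b hb hp, part_of_mem b hb hu, part_of_mem b hb hu',
      if_neg (Ne.symm hij₀), if_neg (Ne.symm hij₀), if_pos rfl, zero_add, zero_add] at h2
    rw [part_add, part_add, part_of_mem b hb hp, part_of_mem b hb hu, part_of_mem b hb hu',
      if_pos rfl, if_pos rfl, if_neg hij₀, add_zero] at h3
    by_cases hσi : i₀ = σ i₀
    · rw [if_neg (fun h => hij₀ (hσi.trans h.symm))] at h2
      exact hu'0 h2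
    · rw [if_neg hσi] at h3
      have h4 := congrArg (f u) h3
      rw [hf.bilinear.add_right, hf.alternating, add_zero, hup, ← zero_smul F (0 : Fin m ⊕ Fin m → F),
        hf.bilinear.smul_right, zero_mul] at h4
      exact one_ne_zero h4
  refine (eq_or_lt_of_le hM).imp Eq.symm fun hlt => le_antisymm hMS ?_
  obtain ⟨g, hgM, hgn⟩ := SetLike.exists_of_lt hlt
  let S : Set (Fin m ⊕ Fin m → F) := {v | ∀ s : F, Root M (s • fvec f v) v}
  have hroot : ∀ (s : F) v, (s • fvec f v) ⬝ᵥ v = 0 := fun s v => by
    rw [smul_dotProduct, fvec_dot hf.bilinear, hf.alternating, smul_zero]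
  have hblock : ∀ i, ∀ v ∈ D i, v ∈ S := by
    intro i v hv s
    refine ⟨hroot s v, hM ⟨mem_decompositionStabilizer_of_maps hD.decomp fun j => ⟨j, fun x hx => ?_⟩,
      root_mem_spGL s v _⟩⟩
    rw [transvectionGL_mulVec, smul_dotProduct, fvec_dot hf.bilinear]
    by_cases hij : i = j
    · subst hij
      exact Submodule.add_mem _ hx (Submodule.smul_mem _ _ hv)
    · rw [horth i j hij v hv x hx, smul_zero, zero_smul, add_zero]
      exact hx
  have hconj : ∀ h ∈ M, h ∈ Cfsg.spGL m F → ∀ v ∈ S,
      ((h : Matrix.GeneralLinearGroup (Fin m ⊕ Fin m) F) : Matrix (Fin m ⊕ Fin m) (Fin m ⊕ Fin m) F) *ᵥ v ∈ S := by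
    intro h hhM hhS v hv s
    have := (hv s).conj hhM
    rw [Matrix.smul_vecMul] at this
    convert this using 2
    refine eq_of_dot fun z => ?_
    rw [← Matrix.dotProduct_mulVec, fvec_dot hf.bilinear, fvec_dot hf.bilinear]
    conv_rhs => rw [hfdef, ← mem_spGL_iff.1 hhS]
    rw [Matrix.mulVec_mulVec, Units.mul_inv, Matrix.one_mulVec]
  have hadd : ∀ v ∈ S, ∀ w ∈ S, f w v ≠ 0 → v + w ∈ S := by
    intro v hv w hw hne'
    have := hconj _ (hw (f w v)⁻¹).2 (root_mem_spGL _ w _) v hv
    rwa [transvectionGL_mulVec, smul_dotProduct, fvec_dot hf.bilinear, smul_eq_mul, inv_mul_cancel₀ hne',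
      one_smul] at this
  have hsupp : ∀ (i : Fin t) (v : Fin m ⊕ Fin m → F) (u : Fin m ⊕ Fin m → F), u ∈ D i → ∀ l,
      part b l (v + u) = if l = i then part b l v + u else part b l v := by
    intro i v u hu l
    rw [part_add, part_of_mem b hb hu]
    split_ifs <;> simp
  have hfpart : ∀ (i : Fin t) (u v : Fin m ⊕ Fin m → F), u ∈ D i → f u v = f u (part b i v) := by
    intro i u v hu
    rw [form_eq_sum_part hf.bilinear hb horth u v, Finset.sum_eq_single i]
    · rw [part_of_mem b hb hu, if_pos rfl]
    · intro l _ hl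
      rw [part_of_mem b hb hu, if_neg hl, ← zero_smul F (0 : Fin m ⊕ Fin m → F), hf.bilinear.smul_left, zero_mul]
    · exact fun h => absurd (Finset.mem_univ i) h
  -- change one component
  have hchange : ∀ v ∈ S, ∀ i, part b i v ≠ 0 → ∀ a ∈ D i, a ≠ 0 → v + (a - part b i v) ∈ S := by
    have hone : ∀ v ∈ S, ∀ i, ∀ a ∈ D i, f a (part b i v) ≠ 0 → v + (a - part b i v) ∈ S := by
      intro v hv i a ha hne'
      have hu : a - part b i v ∈ D i := Submodule.sub_mem _ ha (part_mem b hb i v)
      refine hadd v hv _ (hblock i _ hu) ?_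
      rw [hfpart i _ v hu, sub_eq_add_neg, ← neg_one_smul F (part b i v), hf.bilinear.add_left,
        hf.bilinear.smul_left, hf.alternating, mul_zero, add_zero]
      exact hne'
    intro v hv i hvi a ha ha0
    obtain ⟨p, hp, hvp, -, -, -⟩ := hpartner i _ (part_mem b hb i v) hvi
    obtain ⟨q, hq, haq, -, -, -⟩ := hpartner i a ha ha0
    obtain ⟨z, hz, hz1, hz2⟩ : ∃ z ∈ D i, f z (part b i v) ≠ 0 ∧ f a z ≠ 0 := by
      by_cases h1 : f a p = 0
      · by_cases h2 : f (part b i v) q = 0
        · refine ⟨p + q, Submodule.add_mem _ hp hq, ?_, ?_⟩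
          · rw [hf.skew, hf.bilinear.add_right, hvp, h2, add_zero]; exact neg_ne_zero.2 one_ne_zero
          · rw [hf.bilinear.add_right, haq, h1, zero_add]; exact one_ne_zero
        · exact ⟨q, hq, by rw [hf.skew]; exact neg_ne_zero.2 h2, by rw [haq]; exact one_ne_zero⟩
      · exact ⟨p, hp, by rw [hf.skew, hvp]; exact neg_ne_zero.2 one_ne_zero, h1⟩
    have h1 := hone v hv i z hz hz1
    have hp' : part b i (v + (z - part b i v)) = z := by
      rw [hsupp i v _ (Submodule.sub_mem _ hz (part_mem b hb i v)), if_pos rfl, add_sub_cancel]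
    have h2 := hone _ h1 i a ha (by rw [hp']; exact hz2)
    rw [hp'] at h2
    convert h2 using 1
    abel
  -- the support
  let supp : (Fin m ⊕ Fin m → F) → Finset (Fin t) := fun v => Finset.univ.filter fun l => part b l v ≠ 0
  have hsame : ∀ (n : ℕ) (v w : Fin m ⊕ Fin m → F), supp v = supp w → v ∈ S →
      (Finset.univ.filter fun l => part b l v ≠ part b l w).card ≤ n → w ∈ S := by
    intro n
    induction n with
    | zero =>
      intro v w _ hv hn
      have : v = w := by
        rw [← sum_part b v, ← sum_part b w]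
        refine Finset.sum_congr rfl fun l _ => ?_
        by_contra hl
        have : l ∈ Finset.univ.filter fun l => part b l v ≠ part b l w := by simp [hl]
        rw [Finset.card_eq_zero.1 (Nat.le_zero.1 hn)] at this
        simp at this
      exact this ▸ hv
    | succ n ih =>
      intro v w hs hv hn
      by_cases hex' : ∃ l, part b l v ≠ part b l w
      · obtain ⟨l, hl⟩ := hex'
        have hlw : part b l w ≠ 0 := by
          intro h0
          have : l ∉ supp v := by rw [hs]; simp [supp, h0]
          simp only [supp, Finset.mem_filter, Finset.mem_univ, true_and, ne_eq, not_not] at this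
          exact hl (this.trans h0.symm)
        have hlv : part b l v ≠ 0 := by
          intro h0
          have : l ∉ supp w := by rw [← hs]; simp [supp, h0]
          simp only [supp, Finset.mem_filter, Finset.mem_univ, true_and, ne_eq, not_not] at this
          exact hlw this
        have hv' := hchange v hv l hlv _ (part_mem b hb l w) hlw
        have hp := hsupp l v _ (Submodule.sub_mem _ (part_mem b hb l w) (part_mem b hb l v))
        refine ih _ w ?_ hv' ?_
        · refine (Finset.filter_congr fun x _ => ?_).trans hs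
          rw [hp]
          by_cases hx : x = l
          · subst hx
            rw [if_pos rfl, add_sub_cancel]
            exact ⟨fun _ => hlv, fun _ => hlw⟩
          · rw [if_neg hx]
        · refine Nat.le_of_lt_succ (lt_of_lt_of_le ?_ hn)
          refine Finset.card_lt_card ((Finset.ssubset_iff_of_subset fun x hx => ?_).2 ⟨l, by simp [hl], ?_⟩)
          · simp only [Finset.mem_filter, Finset.mem_univ, true_and, hp] at hx ⊢
            by_cases hxl : x = l
            · subst hxl; exact hl
            · rwa [if_neg hxl] at hx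
          · simp only [Finset.mem_filter, Finset.mem_univ, true_and, hp, if_pos rfl, add_sub_cancel]
            simp
      · push Not at hex'
        refine ih v w hs hv ?_
        simp [hex']
  have hsame' : ∀ (v w : Fin m ⊕ Fin m → F), supp v = supp w → v ∈ S → w ∈ S :=
    fun v w h hv => hsame _ v w h hv le_rfl
  -- vectors with two components
  let R : Fin t → Fin t → Prop := fun i j => ∀ w, supp w = {i, j} → w ∈ S
  have hreduce : ∀ (n : ℕ) (v : Fin m ⊕ Fin m → F), (supp v).card = n → 2 ≤ n → v ∈ S →
      ∃ i j, i ≠ j ∧ R i j := by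
    intro n
    induction n with
    | zero => intro v _ h; omega
    | succ n ih =>
      intro v hn h2 hv
      by_cases hn1 : n + 1 = 2
      · obtain ⟨i, j, hij, hs⟩ := Finset.card_eq_two.1 (hn.trans hn1)
        exact ⟨i, j, hij, fun w hw => hsame' v w (hs.trans hw.symm) hv⟩
      obtain ⟨j, hj⟩ := Finset.card_pos.1 (show 0 < (supp v).card by omega)
      obtain ⟨i, hi⟩ := Finset.card_pos.1 (show 0 < ((supp v).erase j).card by
        rw [Finset.card_erase_of_mem hj]; omega)
      obtain ⟨hij, hi⟩ := Finset.mem_erase.1 hi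
      have hvj : part b j v ≠ 0 := (Finset.mem_filter.1 hj).2
      have hvi : part b i v ≠ 0 := (Finset.mem_filter.1 hi).2
      have hP : ∀ l, ∃ p ∈ D l, part b l v ≠ 0 →
          f (part b l v) p = 1 ∧ p ≠ 0 ∧ part b l v + p ≠ 0 := fun l => by
        by_cases h0 : part b l v = 0
        · exact ⟨0, Submodule.zero_mem _, fun h => absurd h0 h⟩
        · obtain ⟨p, hp, e1, e2, -, e4⟩ := hpartner l _ (part_mem b hb l v) h0
          exact ⟨p, hp, fun _ => ⟨e1, e2, e4⟩⟩
      choose p hp hp' using hP
      set C : F := ∑ l ∈ ((supp v).erase j).erase i, f (part b l v) (p l)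
      obtain ⟨wi, hwi, hwi0, hwiv, hwiC⟩ : ∃ wi ∈ D i, wi ≠ 0 ∧ part b i v + wi ≠ 0 ∧
          f (part b i v) wi + C ≠ 0 := by
        obtain ⟨e1, e2, e3⟩ := hp' i hvi
        by_cases hC : C + 1 = 0
        · by_cases hk : k = 2
          · obtain ⟨a, ha0, ha1⟩ := hex hk
            refine ⟨a • p i, Submodule.smul_mem _ _ (hp i), smul_ne_zero ha0 e2, fun h => ?_, ?_⟩
            · have := congrArg (f (part b i v)) h
              rw [hf.bilinear.add_right, hf.alternating, hf.bilinear.smul_right, e1, zero_add, mul_one,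
                ← zero_smul F (0 : Fin m ⊕ Fin m → F), hf.bilinear.smul_right, zero_mul] at this
              exact ha0 this
            · rw [hf.bilinear.smul_right, e1, mul_one]
              intro h
              exact ha1 (by linear_combination h - hC)
          · obtain ⟨y, hy, hy0, hyv⟩ : ∃ y ∈ D i, f (part b i v) y = 0 ∧ y ∉ Submodule.span F {part b i v} := by
              by_contra! hcon
              let L : (D i) →ₗ[F] F := ((sympBil m F) (part b i v)) ∘ₗ (D i).subtype
              have hle : (LinearMap.ker L).map (D i).subtype ≤ Submodule.span F {part b i v} := by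
                rintro _ ⟨y, hy, rfl⟩
                refine hcon y y.2 ?_
                show f _ _ = 0
                rw [hfdef, ← sympBil_apply]
                exact hy
              have h1 := Submodule.finrank_mono hle
              rw [finrank_span_singleton hvi, Submodule.finrank_map_subtype_eq] at h1
              have h2 := LinearMap.finrank_range_add_finrank_ker L
              have h3 := Submodule.finrank_le (LinearMap.range L)
              rw [Module.finrank_self] at h3
              rw [hD.decomp.finrank_eq] at h2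
              have hk1 : k ≠ 1 := by
                intro hk1
                obtain ⟨c, hc⟩ := (finrank_eq_one_iff_of_nonzero' (K := F) (⟨part b i v, part_mem b hb i v⟩ : D i)
                  (fun h => hvi (congrArg Subtype.val h))).1 (hk1 ▸ hD.decomp.finrank_eq i) ⟨p i, hp i⟩
                have := congrArg (fun z : D i => f (part b i v) z) hc
                simp only [SetLike.val_smul, hf.bilinear.smul_right, hf.alternating, mul_zero, e1] at this
                exact zero_ne_one this
              have := hD.decomp.pos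
              omega
            refine ⟨y, hy, fun h => hyv (h ▸ Submodule.zero_mem _), fun h => hyv ?_, ?_⟩
            · rw [eq_neg_of_add_eq_zero_right h]
              exact Submodule.neg_mem _ (Submodule.mem_span_singleton_self _)
            · rw [hy0, zero_add]
              intro h
              rw [h, zero_add] at hC
              exact one_ne_zero hC
        · exact ⟨p i, hp i, e2, e3, by rw [e1, add_comm]; exact hC⟩
      let c : Fin t → Fin m ⊕ Fin m → F := fun l =>
        if l = j then -part b j v else if l = i then wi else if part b l v = 0 then 0 else p l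
      have hc : ∀ l, c l ∈ D l := fun l => by
        simp only [c]
        split_ifs with h1 h2 h3
        · subst h1; exact Submodule.neg_mem _ (part_mem b hb _ v)
        · subst h2; exact hwi
        · exact Submodule.zero_mem _
        · exact hp l
      have hpw := part_sum hb c hc
      have hsw : supp v = supp (∑ l, c l) := by
        refine Finset.filter_congr fun l _ => ?_
        rw [hpw]
        simp only [c]
        split_ifs with h1 h2 h3
        · subst h1; simp
        · subst h2; exact ⟨fun _ => hwi0, fun _ => hvi⟩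
        · simp [h3]
        · exact ⟨fun _ => (hp' l h3).2.1, fun _ => h3⟩
      have hw : (∑ l, c l) ∈ S := hsame' v _ hsw hv
      have hfw : f v (∑ l, c l) = f (part b i v) wi + C := by
        rw [form_eq_sum_part hf.bilinear hb horth v (∑ l, c l)]
        simp only [hpw]
        rw [← Finset.add_sum_erase _ _ (Finset.mem_univ j), ← Finset.add_sum_erase _ _
          (Finset.mem_erase.2 ⟨hij, Finset.mem_univ i⟩)]
        have ej : c j = -part b j v := if_pos rfl
        have ei : c i = wi := (if_neg hij).trans (if_pos rfl)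
        rw [ej, ei, ← neg_one_smul F (part b j v), hf.bilinear.smul_right, hf.alternating, mul_zero, zero_add]
        congr 1
        refine (Finset.sum_subset (fun l hl => ?_) fun l hl hl' => ?_).symm.trans (Finset.sum_congr rfl fun l hl => ?_)
        · simp only [Finset.mem_erase, Finset.mem_univ, and_true] at hl ⊢
          exact ⟨hl.1, hl.2.1⟩
        · simp only [Finset.mem_erase, Finset.mem_univ, and_true, supp, Finset.mem_filter, true_and, ne_eq,
            not_and, not_not] at hl hl'
          have h0 : part b l v = 0 := hl' hl.1 hl.2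
          rw [h0, ← zero_smul F (0 : Fin m ⊕ Fin m → F), hf.bilinear.smul_left, zero_mul]
        · simp only [Finset.mem_erase, supp, Finset.mem_filter, Finset.mem_univ, true_and] at hl
          simp [c, hl.1, hl.2.1, hl.2.2]
      have hsum : v + ∑ l, c l ∈ S := hadd v hv _ hw (by
        rw [hf.skew, hfw]; exact neg_ne_zero.2 hwiC)
      refine ih _ ?_ (by omega) hsum
      rw [show supp (v + ∑ l, c l) = (supp v).erase j from ?_, Finset.card_erase_of_mem hj, hn]
      · omega
      ext l
      simp only [supp, Finset.mem_filter, Finset.mem_univ, true_and, Finset.mem_erase, part_add, hpw, c]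
      split_ifs with h1 h2 h3
      · subst h1; simp
      · subst h2
        exact ⟨fun _ => ⟨h1, hvi⟩, fun _ => hwiv⟩
      · simp [h3]
      · exact ⟨fun _ => ⟨h1, h3⟩, fun _ => (hp' l h3).2.2⟩
  -- a first vector with two components
  obtain ⟨v, hv, hv2⟩ : ∃ v ∈ S, 2 ≤ (supp v).card := by
    by_contra! hcon
    apply hgn
    refine ⟨mem_decompositionStabilizer_of_maps hD.decomp fun i => ?_, hMS hgM⟩
    have h1 : ∀ x ∈ D i, (supp ((g : Matrix (Fin m ⊕ Fin m) (Fin m ⊕ Fin m) F) *ᵥ x)).card ≤ 1 :=
      fun x hx => Nat.le_of_lt_succ (hcon _ (hconj g hgM (hMS hgM) x (hblock i x hx)))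
    obtain ⟨x₀, hx₀, hx₀0⟩ := (Submodule.ne_bot_iff _).1 (hne i)
    obtain ⟨j, hj⟩ : (supp ((g : Matrix (Fin m ⊕ Fin m) (Fin m ⊕ Fin m) F) *ᵥ x₀)).Nonempty := by
      by_contra he
      rw [Finset.not_nonempty_iff_eq_empty, Finset.filter_eq_empty_iff] at he
      refine hx₀0 (Matrix.mulVec_injective_iff_isUnit.2 g.isUnit ?_)
      rw [Matrix.mulVec_zero, ← sum_part b ((g : Matrix (Fin m ⊕ Fin m) (Fin m ⊕ Fin m) F) *ᵥ x₀)]
      exact Finset.sum_eq_zero fun l hl => not_not.1 (he hl)
    refine ⟨j, fun x hx => ?_⟩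
    rw [← sum_part b ((g : Matrix (Fin m ⊕ Fin m) (Fin m ⊕ Fin m) F) *ᵥ x)]
    refine Submodule.sum_mem _ fun l _ => ?_
    by_cases hl : l = j
    · subst hl; exact part_mem b hb _ _
    by_cases h0 : part b l ((g : Matrix (Fin m ⊕ Fin m) (Fin m ⊕ Fin m) F) *ᵥ x) = 0
    · rw [h0]; exact Submodule.zero_mem _
    exfalso
    have hl0 : part b l ((g : Matrix (Fin m ⊕ Fin m) (Fin m ⊕ Fin m) F) *ᵥ x₀) = 0 := by
      by_contra hne'
      exact hl (Finset.card_le_one.1 (h1 x₀ hx₀) l (by simp [supp, hne']) j hj)
    have hjx : part b j ((g : Matrix (Fin m ⊕ Fin m) (Fin m ⊕ Fin m) F) *ᵥ x) = 0 := by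
      by_contra hne'
      exact hl (Finset.card_le_one.1 (h1 x hx) l (by simp [supp, h0]) j (by simp [supp, hne']))
    have := h1 (x₀ + x) (Submodule.add_mem _ hx₀ hx)
    rw [Matrix.mulVec_add] at this
    refine hl (Finset.card_le_one.1 this l ?_ j ?_)
    · simp only [supp, Finset.mem_filter, Finset.mem_univ, true_and, part_add, hl0, zero_add]; exact h0
    · simp only [supp, Finset.mem_filter, Finset.mem_univ, true_and, part_add, hjx, add_zero]
      exact (Finset.mem_filter.1 hj).2
  obtain ⟨i₁, j₁, hij₁, hR₁⟩ := hreduce _ v rfl hv2 hv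
  have hR : ∀ i j, i ≠ j → R i j := by
    intro i j hij w hw
    obtain ⟨σ, hσi, hσj⟩ : ∃ σ : Equiv.Perm (Fin t), σ i₁ = i ∧ σ j₁ = j := by
      refine ⟨Equiv.swap (Equiv.swap i₁ i j₁) j * Equiv.swap i₁ i, ?_, ?_⟩
      · rw [Equiv.Perm.mul_apply, Equiv.swap_apply_left, Equiv.swap_apply_of_ne_of_ne]
        · intro h
          apply hij₁
          have := congrArg (Equiv.swap i₁ i) h
          rw [Equiv.swap_apply_self, Equiv.swap_apply_right] at this
          exact this
        · exact hij
      · rw [Equiv.Perm.mul_apply, Equiv.swap_apply_left]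
    obtain ⟨h, hh, hmap⟩ := exists_perm_isometry hD σ
    obtain ⟨u, hu, hu0⟩ := (Submodule.ne_bot_iff _).1 (hne i₁)
    obtain ⟨u', hu', hu'0⟩ := (Submodule.ne_bot_iff _).1 (hne j₁)
    have hs1 : supp (u + u') = {i₁, j₁} := by
      ext l
      simp only [supp, Finset.mem_filter, Finset.mem_univ, true_and, Finset.mem_insert, Finset.mem_singleton,
        part_add, part_of_mem b hb hu, part_of_mem b hb hu']
      by_cases h1 : l = i₁
      · subst h1; rw [if_pos rfl, if_neg hij₁, add_zero]; simp [hu0]
      · by_cases h2 : l = j₁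
        · subst h2; rw [if_neg h1, if_pos rfl, zero_add]; simp [hu'0]
        · rw [if_neg h1, if_neg h2]; simp [h1, h2]
    have hmem := hconj h (hM hh) hh.2 _ (hR₁ _ hs1)
    refine hsame' _ w ?_ hmem
    rw [hw, Matrix.mulVec_add]
    have hinj := Matrix.mulVec_injective_iff_isUnit.2 h.isUnit
    have hi := hmap i₁ u hu
    have hj := hmap j₁ u' hu'
    rw [hσi] at hi
    rw [hσj] at hj
    ext l
    simp only [supp, Finset.mem_filter, Finset.mem_univ, true_and, Finset.mem_insert, Finset.mem_singleton,
      part_add, part_of_mem b hb hi, part_of_mem b hb hj]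
    by_cases h1 : l = i
    · subst h1
      rw [if_pos rfl, if_neg hij, add_zero]
      refine ⟨fun _ => Or.inl rfl, fun _ h0 => hu0 (hinj ?_)⟩
      rw [h0, Matrix.mulVec_zero]
    · by_cases h2 : l = j
      · subst h2
        rw [if_neg h1, if_pos rfl, zero_add]
        refine ⟨fun _ => Or.inr rfl, fun _ h0 => hu'0 (hinj ?_)⟩
        rw [h0, Matrix.mulVec_zero]
      · rw [if_neg h1, if_neg h2]; simp [h1, h2]
  have hall : ∀ (n : ℕ) (w : Fin m ⊕ Fin m → F), (supp w).card = n → w ∈ S := by
    intro n
    induction n using Nat.strong_induction_on with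
    | _ n ih =>
    intro w hn
    by_cases h1 : n ≤ 1
    · by_cases h0 : (supp w).Nonempty
      · obtain ⟨i, hi⟩ := h0
        refine hblock i w ?_
        rw [← sum_part b w]
        refine Submodule.sum_mem _ fun l _ => ?_
        by_cases hl : part b l w = 0
        · rw [hl]; exact Submodule.zero_mem _
        · rw [Finset.card_le_one.1 (show (supp w).card ≤ 1 by omega) l (by simp [supp, hl]) i hi]
          exact part_mem b hb i w
      · rw [Finset.not_nonempty_iff_eq_empty, Finset.filter_eq_empty_iff] at h0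
        have : w = 0 := by
          rw [← sum_part b w]
          exact Finset.sum_eq_zero fun l hl => not_not.1 (h0 hl)
        exact this ▸ hblock i₁ 0 (Submodule.zero_mem _)
    by_cases h2 : n = 2
    · obtain ⟨i, j, hij, hs⟩ := Finset.card_eq_two.1 (hn.trans h2)
      exact hR i j hij w hs
    obtain ⟨j, hj⟩ := Finset.card_pos.1 (show 0 < (supp w).card by omega)
    obtain ⟨i, hi⟩ := Finset.card_pos.1 (show 0 < ((supp w).erase j).card by
      rw [Finset.card_erase_of_mem hj]; omega)
    obtain ⟨hij, hi⟩ := Finset.mem_erase.1 hi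
    have hwi : part b i w ≠ 0 := (Finset.mem_filter.1 hi).2
    have hwj : part b j w ≠ 0 := (Finset.mem_filter.1 hj).2
    obtain ⟨p, hp, hwp, hp0, hpw, -⟩ := hpartner i _ (part_mem b hb i w) hwi
    set bb := (part b i w - p) + part b j w with hbb
    have hbD : ∀ l, part b l bb = if l = i then part b i w - p else if l = j then part b j w else 0 := by
      intro l
      rw [hbb, part_add, part_of_mem b hb (Submodule.sub_mem _ (part_mem b hb i w) hp),
        part_of_mem b hb (part_mem b hb j w)]
      by_cases h : l = i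
      · subst h; rw [if_pos rfl, if_pos rfl, if_neg hij, add_zero]
      · rw [if_neg h, if_neg h, zero_add]
    have haD : ∀ l, part b l (w - bb) = if l = i then p else if l = j then 0 else part b l w := by
      intro l
      have h : part b l (w - bb) = part b l w - part b l bb := by
        rw [eq_sub_iff_add_eq, ← part_add, sub_add_cancel]
      rw [h, hbD]
      split_ifs with h1 h2
      · subst h1; exact sub_sub_cancel _ _
      · subst h2; exact sub_self _
      · exact sub_zero _
    have hsb : supp bb = {i, j} := by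
      ext l
      simp only [supp, Finset.mem_filter, Finset.mem_univ, true_and, Finset.mem_insert, Finset.mem_singleton, hbD]
      split_ifs with h h'
      · simp [h, sub_ne_zero.2 (Ne.symm hpw)]
      · simp [h', hwj]
      · simp [h, h']
    have hsa : supp (w - bb) = (supp w).erase j := by
      ext l
      simp only [supp, Finset.mem_filter, Finset.mem_univ, true_and, Finset.mem_erase, haD]
      split_ifs with h h'
      · subst h; simp [hij, hp0, hwi]
      · simp [h']
      · simp [h']
    have ha : w - bb ∈ S := ih _ (by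
      rw [hn.symm]; exact Finset.card_erase_lt_of_mem hj) _ (by rw [hsa])
    have hb' : bb ∈ S := hR i j hij bb hsb
    have hfab : f bb (w - bb) ≠ 0 := by
      rw [form_eq_sum_part hf.bilinear hb horth bb (w - bb), Finset.sum_eq_single i]
      · rw [hbD, haD, if_pos rfl, if_pos rfl, sub_eq_add_neg, ← neg_one_smul F p, hf.bilinear.add_left,
          hf.bilinear.smul_left, hf.alternating, mul_zero, add_zero, hwp]
        exact one_ne_zero
      · intro l _ hl
        rw [hbD, haD, if_neg hl, if_neg hl]
        split_ifs with h'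
        · rw [← zero_smul F (0 : Fin m ⊕ Fin m → F), hf.bilinear.smul_right, zero_mul]
        · rw [← zero_smul F (0 : Fin m ⊕ Fin m → F), hf.bilinear.smul_left, zero_mul]
      · exact fun h => absurd (Finset.mem_univ i) h
    have := hadd _ ha _ hb' hfab
    rwa [sub_add_cancel] at this
  exact spGL_le fun s v => hall _ v rfl s

end CfsgLib.Geo.Roots
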