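/-
Stabilisers of orthogonal decompositions with blocks of dimension at least three are maximal in `Ω`.
-/
import Cfsg.Agent.Lib.Geo.OrthBlockThree
import Cfsg.Agent.Lib.Geo.SympDecompMaximal

set_option autoImplicit false

namespace CfsgLib.Geo.OrthBlock

open CfsgLib.Classical CfsgLib.Classical.Quad CfsgLib.Geo.OrthMax
open QuadraticMap (polar polarBilin)

section Abstract

variable {F : Type*} [Field F] [Finite F] {V : Type*} [AddCommGroup V] [Module F V] [FiniteDimensional F V]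
  {Q : QuadraticForm F V} {t k : ℕ} {D : Fin t → Submodule F V} (h : IsBlocks Q k D)
  {K : Subgroup (OQ Q)} (hM : ∀ g ∈ eichGroup h.nondeg, Permutes D g → g ∈ K)
include h hM

/-- An element outside the stabiliser and the stabiliser generate `Ω`. -/
theorem le_of_not_permutes (h3 : k = 3 → (2 : F) ≠ 0 ∧ 3 < Nat.card F)
    (hts : k = 4 → Nat.card F = 2 → ∀ p, ∀ y ∈ D p, ∀ z ∈ D p, Q y = 0 → Q z = 0 → polar Q y z = 0 → y ≠ 0 →
      z ∈ Submodule.span F {y})
    {g : OQ Q} (hgK : g ∈ K) (hg : ¬ Permutes D g) : eichGroup h.nondeg ≤ K := by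
  simp only [Permutes, not_forall, not_exists] at hg
  obtain ⟨i, hi⟩ := hg
  obtain ⟨u, hu, f, hf, hu0, hqu, hqf, huf⟩ := exists_pair_block h i
  obtain ⟨w, hw, hw0, hqw, hwD⟩ : ∃ w ∈ D i, w ≠ 0 ∧ Q w = 0 ∧ ∀ l, (g : V ≃ₗ[F] V) w ∉ D l := by
    by_contra! hc
    obtain ⟨j, hj⟩ := hc u hu hu0 hqu
    obtain ⟨z, hz, hzj⟩ := hi j
    refine hzj (OrthMax.le_of_singular (Q := Q) (U := D i)
      (P := (D j).comap ((g : V ≃ₗ[F] V) : V →ₗ[F] V)) hu hf hqu hqf huf (fun y hy hqy => ?_) hz)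
    show (g : V ≃ₗ[F] V) y ∈ D j
    rcases eq_or_ne y 0 with rfl | hy0
    · rw [map_zero]; exact (D j).zero_mem
    obtain ⟨l, hl⟩ := hc y hy hy0 hqy
    rcases eq_or_ne l j with rfl | hlj
    · exact hl
    exfalso
    have hgu0 : (g : V ≃ₗ[F] V) u ≠ 0 := fun e => hu0 ((LinearEquiv.map_eq_zero_iff _).1 e)
    have hgy0 : (g : V ≃ₗ[F] V) y ≠ 0 := fun e => hy0 ((LinearEquiv.map_eq_zero_iff _).1 e)
    have huy : polar Q u y = 0 := by rw [← OQ.map_polar g]; exact h.orth j l hlj.symm _ hj _ hl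
    have hsum0 : u + y ≠ 0 := fun e => hgu0 (by
      have h1 : (g : V ≃ₗ[F] V) u = -(g : V ≃ₗ[F] V) y := by rw [eq_neg_of_add_eq_zero_left e, map_neg]
      have h2 := comp_of_mem h hj
      rw [h1, map_neg, comp_of_ne h hlj.symm hl, neg_zero] at h2
      rw [h1]; exact h2.symm)
    obtain ⟨m, hm⟩ := hc (u + y) ((D i).add_mem hu hy) hsum0 (by rw [apply_add, hqu, hqy, huy]; ring)
    rw [map_add] at hm
    rcases eq_or_ne m j with rfl | hmj
    · refine hgy0 ?_
      have h1 := comp_of_ne h hlj ((Submodule.add_mem_iff_right _ hj).1 hm)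
      rwa [comp_of_mem h hl] at h1
    · refine hgu0 ?_
      have h1 := comp_of_ne h hmj.symm hm
      rwa [map_add, comp_of_mem h hj, comp_of_ne h hlj.symm hl, add_zero] at h1
  set x := (g : V ≃ₗ[F] V) w
  have hqx : Q x = 0 := by simp only [x]; rw [OQ.map_apply, hqw]
  have hroot : ∀ z ∈ D i, polar Q w z = 0 → (g : V ≃ₗ[F] V) z ∈ rootSpace h.nondeg K x := fun z hz hwz =>
    mem_rootSpace_conj hgK ⟨hwz, fun c hq ha =>
      intl_mem h hM (intl_eich h hw ((D i).smul_mem _ hz) hq ha) (eich_mem h.nondeg h.five hq ha)⟩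
  obtain ⟨z, hzU, hzw⟩ : ∃ z ∈ D i ⊓ perp Q (Submodule.span F {w}), z ∉ Submodule.span F {w} := by
    by_contra! hc
    have h1 := Submodule.finrank_mono
      (show D i ⊓ perp Q (Submodule.span F {w}) ≤ Submodule.span F {w} from hc)
    rw [finrank_span_singleton hw0] at h1
    have := rank_inf_span h i w
    have := h.three
    omega
  have hwz := mem_perp_span.1 hzU.2
  obtain ⟨z', hz', hzz, hwz'⟩ := (h.nd i).exists_sep (P := Submodule.span F {w})
    (Submodule.span_le.2 (by simp [hw])) hzU.1 hzw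
  have hwz'' := hwz' w (Submodule.mem_span_singleton_self w)
  obtain ⟨b, hb, hwb, b', hb', hwb', hqb, hbb, hsmall⟩ : ∃ b ∈ D i, polar Q w b = 0 ∧ ∃ b' ∈ D i,
      polar Q w b' = 0 ∧ Q b ≠ 0 ∧ polar Q b b' ≠ 0 ∧ (k = 4 → Nat.card F = 2 → Q b' ≠ 0) := by
    have hsm : ∀ y ∈ D i, polar Q w y = 0 → y ∉ Submodule.span F {w} → k = 4 → Nat.card F = 2 → Q y ≠ 0 :=
      fun y hy hwy hyw hk hF hqy => hyw (hts hk hF i w hw y hy hqw hqy hwy hw0)
    have hz'w : z' ∉ Submodule.span F {w} := fun hm => by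
      obtain ⟨c, hc⟩ := Submodule.mem_span_singleton.1 hm
      rw [← hc, polar_smul_right', QuadraticMap.polar_comm, hwz, mul_zero] at hzz
      exact zero_ne_one hzz
    by_cases h1 : Q z = 0
    · by_cases h2 : Q z' = 0
      · refine ⟨z + z', (D i).add_mem hzU.1 hz', by rw [polar_add_right', hwz, hwz'', add_zero], z, hzU.1, hwz, ?_,
          ?_, hsm z hzU.1 hwz hzw⟩
        · rw [apply_add, h1, h2, hzz]; simp
        · rw [polar_add_left', polar_self', h1, QuadraticMap.polar_comm _ z' z, hzz]; simp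
      · exact ⟨z', hz', hwz'', z, hzU.1, hwz, h2, by rw [QuadraticMap.polar_comm, hzz]; exact one_ne_zero,
          hsm z hzU.1 hwz hzw⟩
    · exact ⟨z, hzU.1, hwz, z', hz', hwz'', h1, by rw [hzz]; exact one_ne_zero, hsm z' hz' hwz'' hz'w⟩
  rcases Nat.lt_or_ge k 4 with hk | hk
  · have hk3 : k = 3 := by have := h.three; omega
    exact le_of_root_three h hM hk3 (h3 hk3).1 (h3 hk3).2 hqx hwD (hroot b hb hwb)
      (by rw [OQ.map_apply]; exact hqb)
  · exact le_of_root_four h hM hk hts hqx hwD (hroot b hb hwb) (hroot b' hb' hwb')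
      (by rw [OQ.map_apply]; exact hqb) (by rw [OQ.map_polar]; exact hbb)
      (fun h4 hF => by rw [OQ.map_apply]; exact hsmall h4 hF)

omit hM in
/-- Some element of `Ω` moves the decomposition. -/
theorem exists_not_permutes (ht : 2 ≤ t) : ∃ g ∈ eichGroup h.nondeg, ¬ Permutes D g := by
  obtain ⟨i, l, hil⟩ : ∃ i l : Fin t, i ≠ l := ⟨⟨0, by omega⟩, ⟨1, by omega⟩, by simp [Fin.ext_iff]⟩
  obtain ⟨u, hu, f, hf, hu0, hqu, hqf, huf⟩ := exists_pair_block h i
  obtain ⟨c, hc, -, -, hc0, -, -, -⟩ := exists_pair_block h l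
  have huc : polar Q u c = 0 := h.orth i l hil u hu c hc
  refine ⟨eich h.nondeg hqu huc, eich_mem h.nondeg h.five _ _, fun hp => ?_⟩
  obtain ⟨j, hj⟩ := hp i
  have h1 := hj f hf
  rw [eich_apply, QuadraticMap.polar_comm _ f u, huf] at h1
  set s := polar Q f c - Q c * 1
  rcases eq_or_ne j i with rfl | hji
  · have h2 := comp_of_ne h hil.symm h1
    rw [map_add, map_add, map_smul, map_smul, comp_of_ne h hil.symm hf, comp_of_ne h hil.symm hu,
      comp_of_mem h hc] at h2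
    simp at h2
    exact hc0 h2
  · have h2 := comp_of_ne h hji.symm h1
    rw [map_add, map_add, map_smul, map_smul, comp_of_mem h hf, comp_of_mem h hu,
      comp_of_ne h hil hc, smul_zero, add_zero] at h2
    have h3 := congrArg (polar Q u) h2
    rw [polar_add_right', polar_smul_right', polar_self', hqu, huf, QuadraticMap.polar_zero_right] at h3
    simp at h3

end Abstract

variable {F : Type*} [Field F] [Finite F] {ι : Type} [Fintype ι] [DecidableEq ι]

omit [Finite F] in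
theorem isBlocks_of_decomposition {Q : QuadraticForm F (ι → F)} (hQ : (polarBilin Q).Nondegenerate) {t k : ℕ}
    {D : Fin t → Submodule F (ι → F)} (hD : Cfsg.Geo.IsOrthogonalMDecomposition (⇑Q) k D) (hk : 3 ≤ k)
    (hn : 5 ≤ Fintype.card ι) : IsBlocks Q k D where
  nondeg := hQ
  nd i x hx hperp := by
    by_contra h0
    obtain ⟨y, hy, hxy⟩ := (hD.decomp.nondegenerate i x hx h0).2
    exact hxy (hperp y hy)
  orth := hD.decomp.orthogonal
  rank := hD.decomp.decomp.finrank_eq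
  span := hD.decomp.decomp.iSup_eq_top
  iso := hD.isometric
  three := hk
  five := by rwa [Module.finrank_fintype_fun_eq_card]

theorem mem_decomp_iff {Q : QuadraticForm F (ι → F)} {t k : ℕ} {D : Fin t → Submodule F (ι → F)}
    (hD : Cfsg.Geo.IsMDecomposition k D) (g : Cfsg.isometryGroup F (⇑Q)) :
    (g : Matrix.GeneralLinearGroup ι F) ∈ Cfsg.Geo.decompositionStabilizer D ↔ Permutes D (oEquiv Q g) := by
  have happ : ∀ x, (oEquiv Q g : (ι → F) ≃ₗ[F] (ι → F)) x =
      ((g : Matrix.GeneralLinearGroup ι F) : Matrix ι ι F).mulVec x := fun x => oEquiv_apply _ _ _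
  constructor
  · rintro ⟨σ, hσ⟩ i
    refine ⟨σ i, fun x hx => ?_⟩
    rw [happ, ← hσ i]
    exact ⟨x, hx, Matrix.toLin'_apply _ _⟩
  · intro hp
    refine Roots.mem_decompositionStabilizer_of_maps hD fun i => ?_
    obtain ⟨j, hj⟩ := hp i
    exact ⟨j, fun x hx => by rw [← happ]; exact hj x hx⟩

/-- Maximality in `Ω`, matrix form. -/
theorem isMaximalIn_omega {Q : QuadraticForm F (ι → F)} (hQ : (polarBilin Q).Nondegenerate)
    (hn : 5 ≤ Fintype.card ι) {t k : ℕ} {D : Fin t → Submodule F (ι → F)}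
    (hD : Cfsg.Geo.IsOrthogonalMDecomposition (⇑Q) k D) (hk : 3 ≤ k)
    (h3 : k = 3 → (2 : F) ≠ 0 ∧ 3 < Nat.card F)
    (hts : k = 4 → Nat.card F = 2 → ∀ p, ¬ Cfsg.Geo.IsPlusTypeOn (⇑Q) (D p)) :
    Cfsg.Geo.IsMaximalIn (Cfsg.Geo.omegaGL (⇑Q))
      (Cfsg.Geo.decompositionStabilizer D ⊓ Cfsg.Geo.omegaGL (⇑Q)) := by
  have h := isBlocks_of_decomposition hQ hD hk hn
  have hn' := h.five
  have hts' : k = 4 → Nat.card F = 2 → ∀ p, ∀ y ∈ D p, ∀ z ∈ D p, Q y = 0 → Q z = 0 → polar Q y z = 0 → y ≠ 0 →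
      z ∈ Submodule.span F {y} := by
    intro h4 hF p y hy z hz hqy hqz hyz hy0
    by_contra hni
    refine hts h4 hF p ⟨Submodule.span F {y} ⊔ Submodule.span F {z},
      sup_le (Submodule.span_le.2 (by simp [hy])) (Submodule.span_le.2 (by simp [hz])), fun w hw => ?_, ?_⟩
    · obtain ⟨a, ha, b, hb, rfl⟩ := Submodule.mem_sup.1 hw
      obtain ⟨c, rfl⟩ := Submodule.mem_span_singleton.1 ha
      obtain ⟨c', rfl⟩ := Submodule.mem_span_singleton.1 hb
      rw [apply_add, apply_smul, apply_smul, polar_smul_left', polar_smul_right', hqy, hqz, hyz]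
      ring
    · have hlt : Submodule.span F {y} < Submodule.span F {y} ⊔ Submodule.span F {z} :=
        lt_of_le_of_ne le_sup_left fun e =>
          hni (e.ge (Submodule.mem_sup_right (Submodule.mem_span_singleton_self z)))
      have h1 := Submodule.finrank_lt_finrank_of_lt hlt
      have hz0 : z ≠ 0 := fun e => hni (e ▸ Submodule.zero_mem _)
      have h2 := Submodule.finrank_add_le_finrank_add_finrank (Submodule.span F {y}) (Submodule.span F {z})
      rw [finrank_span_singleton hy0] at h1 h2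
      rw [finrank_span_singleton hz0] at h2
      rw [hD.decomp.decomp.finrank_eq, h4]
      omega
  let e := oEquiv Q
  have hΩ : ∀ g : Cfsg.isometryGroup F (⇑Q),
      (g : Matrix.GeneralLinearGroup ι F) ∈ Cfsg.Geo.omegaGL (⇑Q) ↔ e g ∈ eichGroup hQ := by
    intro g
    have hmap : (commutator ↥(Cfsg.isometryGroup F (⇑Q))).map e.toMonoidHom = commutator (OQ Q) := by
      rw [commutator_def, commutator_def, Subgroup.map_commutator,
        Subgroup.map_top_of_surjective _ e.surjective]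
    rw [eichGroup_eq_commutator hQ hn', ← hmap, Subgroup.mem_map_equiv, MulEquiv.symm_apply_apply]
    exact ⟨fun ⟨g', hg', hgg⟩ => by rw [← Subtype.ext hgg]; exact hg', fun h => ⟨g, h, rfl⟩⟩
  have hmem : ∀ x, x ∈ Cfsg.Geo.omegaGL (⇑Q) → x ∈ Cfsg.isometryGroup F (⇑Q) := by
    rintro _ ⟨g, -, rfl⟩
    exact g.2
  refine ⟨lt_of_le_of_ne inf_le_right fun he => ?_, fun M hM hMS => ?_⟩
  · obtain ⟨x, hx, hnp⟩ := exists_not_permutes h hD.decomp.decomp.two_le
    obtain ⟨g, rfl⟩ := e.surjective x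
    exact hnp ((mem_decomp_iff hD.decomp.decomp g).1 (he.ge ((hΩ g).2 hx)).1)
  refine (eq_or_lt_of_le hM).imp Eq.symm fun hlt => le_antisymm hMS ?_
  obtain ⟨g₀, hgM, hgn⟩ := SetLike.exists_of_lt hlt
  set K := (M.subgroupOf (Cfsg.isometryGroup F (⇑Q))).map e.toMonoidHom
  have hmK : ∀ g : Cfsg.isometryGroup F (⇑Q), e g ∈ K ↔ (g : Matrix.GeneralLinearGroup ι F) ∈ M :=
    fun g => by
      rw [Subgroup.mem_map_equiv, MulEquiv.symm_apply_apply, Subgroup.mem_subgroupOf]
  have hK : ∀ x ∈ eichGroup h.nondeg, Permutes D x → x ∈ K := by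
    intro x hx hp
    obtain ⟨g, rfl⟩ := e.surjective x
    exact (hmK g).2 (hM ⟨(mem_decomp_iff hD.decomp.decomp g).2 hp, (hΩ g).2 hx⟩)
  set g : Cfsg.isometryGroup F (⇑Q) := ⟨g₀, hmem _ (hMS hgM)⟩
  have htop := le_of_not_permutes h hK h3 hts' (g := e g) ((hmK g).2 hgM)
    fun hp => hgn ⟨(mem_decomp_iff hD.decomp.decomp g).2 hp, hMS hgM⟩
  intro x hx
  exact (hmK ⟨x, hmem x hx⟩).1 (htop ((hΩ ⟨x, _⟩).1 hx))

end CfsgLib.Geo.OrthBlock
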