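import Cfsg.Agent.Lib.Geo.OrthPlaneMax
import Cfsg.Agent.Lib.Geo.OrthBlockMax
import Cfsg.Agent.Lib.Geo.OrthMaximalBasic

/-!
Maximality of stabilisers of orthogonal decompositions with members of dimension at least two,
for forms given as functions.
-/

set_option autoImplicit false

namespace CfsgLib.Geo.OrthPlane

variable {F : Type*} [Field F] {ι : Type} [Fintype ι] [DecidableEq ι] {f : (ι → F) → F}

theorem plus_of_isometric {W W' : Submodule F (ι → F)} (he : Cfsg.Geo.AreIsometricFor f W W')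
    (hp : Cfsg.Geo.IsPlusTypeOn f W) : Cfsg.Geo.IsPlusTypeOn f W' := by
  obtain ⟨e, he⟩ := he
  obtain ⟨U, hUW, hU, hd⟩ := hp
  have hr : (U.comap W.subtype).map W.subtype = U :=
    (Submodule.map_comap_subtype W U).trans (inf_eq_right.2 hUW)
  refine ⟨(U.comap W.subtype).map (W'.subtype ∘ₗ (e : W →ₗ[F] W')), ?_, ?_, ?_⟩
  · rintro x ⟨u, -, rfl⟩
    exact (e u).2
  · rintro x ⟨u, hu, rfl⟩
    show f ((e u : W') : ι → F) = 0
    rw [he]
    exact hU _ hu
  · rw [← e.finrank_eq, ← hd, (Submodule.equivMapOfInjective _ (Subtype.val_injective.comp e.injective) _).finrank_eq.symm,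
      (Submodule.comapSubtypeEquivOfLe hUW).finrank_eq]

theorem card_ne_six [Fintype F] : Fintype.card F ≠ 6 := by
  obtain ⟨p, hchar⟩ := CharP.exists F
  obtain ⟨n, hp, hpn⟩ := FiniteField.card F p
  intro h
  rw [h] at hpn
  have h2 := (Nat.prime_dvd_prime_iff_eq Nat.prime_two hp).1 (Nat.prime_two.dvd_of_dvd_pow (show 2 ∣ p ^ (n : ℕ) by rw [← hpn]; norm_num))
  have h3 := (Nat.prime_dvd_prime_iff_eq Nat.prime_three hp).1 (Nat.prime_three.dvd_of_dvd_pow (show 3 ∣ p ^ (n : ℕ) by rw [← hpn]; norm_num))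
  omega

end CfsgLib.Geo.OrthPlane
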