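/-
Stabilisers of totally singular subspaces are maximal in `Ω`.
-/
import Cfsg.Agent.Lib.Geo.OrthMaximalBasic

set_option autoImplicit false

namespace CfsgLib.Geo.OrthMax

open CfsgLib.Classical CfsgLib.Classical.Quad
open QuadraticMap (polar polarBilin)

variable {F : Type*} [Field F] [Finite F] {V : Type*} [AddCommGroup V] [Module F V]
  [FiniteDimensional F V] {Q : QuadraticForm F V} (hQ : (polarBilin Q).Nondegenerate)

omit [Finite F] [FiniteDimensional F V] in
theorem polar_eq_zero_of_singular {W : Submodule F V} (hW : ∀ w ∈ W, Q w = 0) {x y : V}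
    (hx : x ∈ W) (hy : y ∈ W) : polar Q x y = 0 := by
  rw [QuadraticMap.polar, hW _ (W.add_mem hx hy), hW x hx, hW y hy]
  ring

include hQ

theorem stab_singular_ne (hn : 5 ≤ Module.finrank F V) {W : Submodule F V} (h0 : W ≠ ⊥)
    (hW : ∀ w ∈ W, Q w = 0) : stab hQ W ≠ eichGroup hQ := by
  obtain ⟨w, hw, hw0⟩ := Submodule.exists_mem_ne_zero_of_ne_bot h0
  obtain ⟨f, hf, hwf⟩ := exists_partner_of_singular hQ (hW w hw) hw0
  have hfW : f ∉ W := fun hf' => by
    rw [polar_eq_zero_of_singular hW hw hf'] at hwf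
    exact zero_ne_one hwf
  obtain ⟨s, hs, hsw⟩ := exists_move_singular hQ hn (hW w hw) hw0 hf
    (fun e => hfW (e ▸ W.zero_mem))
  exact eichGroup_inv_stab_ne hQ hs hw (by rw [hsw]; exact hfW)

theorem has_singular (hn : 5 ≤ Module.finrank F V) {W : Submodule F V} (hW : ∀ w ∈ W, Q w = 0)
    {K : Subgroup (OQ Q)} (hK : stab hQ W ≤ K) {w : V} (hw : w ∈ W) : HasRoot hQ K w := by
  intro a hqw ha
  refine hK ⟨mem_oStab_of_maps fun x hx => ?_, eich_mem hQ hn hqw ha⟩
  rw [eich_apply, polar_eq_zero_of_singular hW hx hw]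
  simpa using W.add_mem hx (W.smul_mem _ hw)

theorem le_of_root_outside (hn : 5 ≤ Module.finrank F V) {W : Submodule F V}
    (hW : ∀ w ∈ W, Q w = 0) {K : Subgroup (OQ Q)} (hK : stab hQ W ≤ K) {x : V} (hqx : Q x = 0)
    (hx : x ∉ perp Q W) (hroot : HasRoot hQ K x) : eichGroup hQ ≤ K := by
  have all : ∀ y, Q y = 0 → y ∉ perp Q W → HasRoot hQ K y := by
    intro y hqy hy
    obtain ⟨w₁, hw₁, hx₁⟩ : ∃ w ∈ W, polar Q x w ≠ 0 := by
      by_contra! hc
      exact hx (mem_perp.2 fun w hw => by rw [QuadraticMap.polar_comm]; exact hc w hw)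
    obtain ⟨w₂, hw₂, hy₂⟩ : ∃ w ∈ W, polar Q y w ≠ 0 := by
      by_contra! hc
      exact hy (mem_perp.2 fun w hw => by rw [QuadraticMap.polar_comm]; exact hc w hw)
    obtain ⟨w, hw, hxw, hyw⟩ : ∃ w ∈ W, polar Q x w ≠ 0 ∧ polar Q y w ≠ 0 := by
      by_cases h1 : polar Q y w₁ = 0
      · by_cases h2 : polar Q x w₂ = 0
        · exact ⟨w₁ + w₂, W.add_mem hw₁ hw₂, by rwa [polar_add_right', h2, add_zero],
            by rwa [polar_add_right', h1, zero_add]⟩
        · exact ⟨w₂, hw₂, h2, hy₂⟩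
      · exact ⟨w₁, hw₁, hx₁, h1⟩
    set c := polar Q x w / polar Q y w with hc
    set a := (polar Q x w)⁻¹ • (x - c • y) with ha
    have hwa : polar Q w a = 0 := by
      rw [ha, QuadraticMap.polar_comm, polar_smul_left', QuadraticMap.polar_sub_left,
        polar_smul_left', hc, div_mul_cancel₀ _ hyw, sub_self, mul_zero]
    have hmove : (eich hQ (hW w hw) hwa : V ≃ₗ[F] V) x = c • y := by
      rw [eich_apply]
      have h1 : polar Q x a - Q a * polar Q x w = 0 := by
        rw [ha, polar_smul_right', QuadraticMap.polar_sub_right, polar_self', hqx,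
          polar_smul_right', apply_smul, sub_eq_add_neg x, apply_add, QuadraticMap.map_neg,
          apply_smul, hqx, hqy, QuadraticMap.polar_neg_right, polar_smul_right']
        field_simp
        ring
      rw [h1, zero_smul, add_zero, ha, neg_smul, smul_inv_smul₀ hxw]
      abel
    have hs : eich hQ (hW w hw) hwa ∈ K := has_singular hQ hn hW hK hw a _ _
    have h2 := hroot.conj hQ hs
    rw [hmove] at h2
    exact h2.of_smul hQ (div_ne_zero hxw hyw)
  refine le_of_has hQ hn fun w a hqw hqa hwa => ?_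
  by_cases hw : w ∈ perp Q W
  swap
  · exact all w hqw hw a
  by_cases ha : a ∈ perp Q W
  swap
  · exact (all a hqa ha (-w)).swap hQ hqw hqa
  exact has_stab hQ hn hK (Or.inr ⟨hw, ha⟩)

/-- Maximality of the stabiliser of a totally singular subspace. -/
theorem le_of_stab_singular_lt (hn : 5 ≤ Module.finrank F V) {W : Submodule F V}
    (hW : ∀ w ∈ W, Q w = 0)
    (hex : 2 * (Module.finrank F W + 1) = Module.finrank F V →
      ∀ U : Submodule F V, (∀ u ∈ U, Q u = 0) → 2 * Module.finrank F U ≠ Module.finrank F V)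
    {K : Subgroup (OQ Q)} (hlt : stab hQ W < K) (hKE : K ≤ eichGroup hQ) : eichGroup hQ ≤ K := by
  have hK := hlt.le
  obtain ⟨g, hgK, hg⟩ := SetLike.exists_of_lt hlt
  obtain ⟨w, hw, hgw⟩ : ∃ w ∈ W, (g : V ≃ₗ[F] V) w ∉ W := by
    by_contra! hc
    exact hg ⟨mem_oStab_of_maps hc, hKE hgK⟩
  set x := (g : V ≃ₗ[F] V) w
  have hqx : Q x = 0 := (OQ.map_apply g w).trans (hW w hw)
  have hroot : HasRoot hQ K x := (has_singular hQ hn hW hK hw).conj hQ hgK
  by_cases hxP : x ∈ perp Q W
  swap
  · exact le_of_root_outside hQ hn hW hK hqx hxP hroot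
  set P := perp Q W
  have hWP : W ≤ P := fun a ha => mem_perp.2 fun b hb => polar_eq_zero_of_singular hW hb ha
  -- a hyperbolic pair `x, p` in `P`
  obtain ⟨p₀, hp₀, hxp₀⟩ : ∃ p ∈ P, polar Q x p ≠ 0 := by
    by_contra! hc
    refine hgw ?_
    rw [← perp_perp hQ W]
    exact mem_perp.2 fun p hp => by rw [QuadraticMap.polar_comm]; exact hc p hp
  obtain ⟨p₁, hp₁, hxp₁⟩ : ∃ p₁ ∈ P, polar Q x p₁ = 1 :=
    ⟨(polar Q x p₀)⁻¹ • p₀, P.smul_mem _ hp₀, by rw [polar_smul_right', inv_mul_cancel₀ hxp₀]⟩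
  set p := p₁ + (-Q p₁) • x with hp
  have hpP : p ∈ P := P.add_mem hp₁ (P.smul_mem _ hxP)
  have hqp : Q p = 0 := by
    rw [hp, apply_add, apply_smul, hqx, polar_smul_right', QuadraticMap.polar_comm (⇑Q) p₁ x, hxp₁]
    ring
  have hxp : polar Q x p = 1 := by
    rw [hp, polar_add_right', polar_smul_right', hxp₁, polar_self', hqx]
    ring
  -- a nonsingular `a ∈ P` orthogonal to `p`
  obtain ⟨a, haP, hpa, hqa⟩ : ∃ a ∈ P, polar Q p a = 0 ∧ Q a ≠ 0 := by
    by_contra! hc
    let O : Submodule F V := P ⊓ LinearMap.ker ((polarBilin Q) p)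
    have hO : ∀ o ∈ O, Q o = 0 := fun o ho => hc o ho.1 ho.2
    have hO2 := two_mul_finrank_le hQ hO
    have hP : Module.finrank F P ≤ Module.finrank F O + 1 := by
      have h1 := Submodule.finrank_sup_add_finrank_inf_eq P (LinearMap.ker ((polarBilin Q) p))
      have h2 := LinearMap.finrank_range_add_finrank_ker ((polarBilin Q) p)
      have h3 := Submodule.finrank_le (LinearMap.range ((polarBilin Q) p))
      have h4 := Submodule.finrank_le (P ⊔ LinearMap.ker ((polarBilin Q) p))
      rw [Module.finrank_self] at h3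
      show _ ≤ Module.finrank F ↥(P ⊓ LinearMap.ker ((polarBilin Q) p)) + 1
      omega
    let S := W ⊔ Submodule.span F {x}
    have hS : ∀ s ∈ S, Q s = 0 := by
      intro s hs
      obtain ⟨a, ha, b, hb, rfl⟩ := Submodule.mem_sup.1 hs
      obtain ⟨c, rfl⟩ := Submodule.mem_span_singleton.1 hb
      rw [apply_add, apply_smul, hW a ha, hqx, polar_smul_right', mem_perp.1 hxP a ha]
      ring
    have hSf : Module.finrank F W + 1 ≤ Module.finrank F S := by
      refine Nat.succ_le_of_lt (Submodule.finrank_lt_finrank_of_lt (lt_of_le_of_ne le_sup_left ?_))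
      intro e
      exact hgw (e.ge (Submodule.mem_sup_right (Submodule.mem_span_singleton_self x)))
    have hS2 := two_mul_finrank_le hQ hS
    rw [finrank_perp hQ] at hP
    have hWle := Submodule.finrank_le W
    exact hex (by omega) S hS (by omega)
  -- a second root outside `P`
  set y := (eich hQ hqp hpa : V ≃ₗ[F] V) x with hy
  have hyroot : HasRoot hQ K y :=
    hroot.conj hQ (has_stab hQ hn hK (Or.inr ⟨hpP, haP⟩) hqp hpa)
  have hqy : Q y = 0 := by rw [hy, OQ.map_apply, hqx]
  have hyP : y ∈ P := by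
    rw [hy, eich_apply]
    exact P.add_mem (P.add_mem hxP (P.smul_mem _ hpP)) (P.smul_mem _ haP)
  have hyx : polar Q y x ≠ 0 := by
    rw [hy, eich_apply, QuadraticMap.polar_comm, polar_add_right', polar_add_right', polar_self', hqx,
      polar_smul_right', polar_smul_right', hxp]
    intro h0
    exact hqa (by linear_combination -h0)
  obtain ⟨w', hw', hw'0⟩ : ∃ w' ∈ W, w' ∉ Submodule.span F {x} := by
    by_contra! hc
    obtain ⟨c, hc'⟩ := Submodule.mem_span_singleton.1 (hc w hw)
    rcases eq_or_ne c 0 with rfl | hc0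
    · rw [zero_smul] at hc'
      exact hgw (by rw [show x = (g : V ≃ₗ[F] V) w from rfl, ← hc', map_zero]; exact W.zero_mem)
    · refine hgw ((W.smul_mem_iff hc0).1 ?_)
      rw [hc']
      exact hw
  obtain ⟨b, hwb, hxb⟩ := exists_sep_polar hQ hw'0
  have hxb' := hxb x (Submodule.mem_span_singleton_self x)
  refine le_of_root_outside hQ hn hW hK (x := (eich hQ hqx hxb' : V ≃ₗ[F] V) y)
    (by rw [OQ.map_apply, hqy]) ?_ (hyroot.conj hQ (hroot b hqx hxb'))
  intro hmem
  have := mem_perp.1 hmem w' hw'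
  rw [eich_apply] at this
  have this' : polar Q w' (y + (polar Q y b - Q b * polar Q y x) • x + (-polar Q y x) • b) = 0 := this
  rw [polar_add_right', polar_add_right', polar_smul_right', polar_smul_right', mem_perp.1 hyP w' hw',
    mem_perp.1 hxP w' hw', hwb] at this'
  exact hyx (by linear_combination -this')

end CfsgLib.Geo.OrthMax
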