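/-
Intermediate subgroups of `Ω`, and the parity of intersections of maximal totally singular subspaces.
-/
import Cfsg.Agent.Lib.Geo.OrthNondegTools
import Cfsg.Agent.Lib.Geo.OrthSingular

set_option autoImplicit false

namespace CfsgLib.Geo.OrthMax

open CfsgLib.Classical CfsgLib.Classical.Quad
open QuadraticMap (polar polarBilin)

section Parity

variable {F : Type*} [Field F] {V : Type*} [AddCommGroup V] [Module F V] [FiniteDimensional F V]
  {Q : QuadraticForm F V} (hQ : (polarBilin Q).Nondegenerate)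

/-- Totally singular subspaces of half the dimension. -/
def IsHalf (Q : QuadraticForm F V) (U : Submodule F V) : Prop :=
  (∀ u ∈ U, Q u = 0) ∧ 2 * Module.finrank F U = Module.finrank F V

omit [FiniteDimensional F V] in
theorem IsHalf.map {U : Submodule F V} (hU : IsHalf Q U) (g : OQ Q) :
    IsHalf Q (U.map ((g : V ≃ₗ[F] V) : V →ₗ[F] V)) := by
  refine ⟨?_, ?_⟩
  · rintro _ ⟨u, hu, rfl⟩
    exact (OQ.map_apply g u).trans (hU.1 u hu)
  · rw [LinearEquiv.finrank_map_eq]
    exact hU.2

include hQ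

theorem IsHalf.perp_eq {U : Submodule F V} (hU : IsHalf Q U) : perp Q U = U := by
  refine (Submodule.eq_of_le_of_finrank_le
    (fun u hu => mem_perp.2 fun w hw => polar_eq_zero_of_singular hU.1 hw hu) ?_).symm
  rw [finrank_perp hQ]
  have := hU.2
  omega

theorem perp_inf_eq {U U' : Submodule F V} (hU : IsHalf Q U) (hU' : IsHalf Q U') :
    perp Q (U ⊓ U') = U ⊔ U' := by
  have h : perp Q (U ⊔ U') = U ⊓ U' := by
    refine le_antisymm (le_inf ?_ ?_) (fun x hx => mem_perp.2 fun z hz => ?_)
    · refine le_of_le_of_eq ?_ (hU.perp_eq hQ)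
      exact fun x hx => mem_perp.2 fun w hw => mem_perp.1 hx w (Submodule.mem_sup_left hw)
    · refine le_of_le_of_eq ?_ (hU'.perp_eq hQ)
      exact fun x hx => mem_perp.2 fun w hw => mem_perp.1 hx w (Submodule.mem_sup_right hw)
    · obtain ⟨a, ha, b, hb, rfl⟩ := Submodule.mem_sup.1 hz
      rw [polar_add_left', polar_eq_zero_of_singular hU.1 ha hx.1,
        polar_eq_zero_of_singular hU'.1 hb hx.2, add_zero]
  rw [← h, perp_perp hQ]

/-- A reflection changes the dimension of the intersection of two halves by one. -/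
theorem refl_step_inter {U U' : Submodule F V} (hU : IsHalf Q U) (hU' : IsHalf Q U') {v : V}
    (hv : Q v ≠ 0) :
    Module.finrank F ↥(U ⊓ U'.map ((refl hv : V ≃ₗ[F] V) : V →ₗ[F] V)) + 1 =
        Module.finrank F ↥(U ⊓ U') ∨
      Module.finrank F ↥(U ⊓ U'.map ((refl hv : V ≃ₗ[F] V) : V →ₗ[F] V)) =
        Module.finrank F ↥(U ⊓ U') + 1 := by
  set r : V ≃ₗ[F] V := (refl hv : V ≃ₗ[F] V) with hr
  set J := U ⊓ U'.map (r : V →ₗ[F] V)
  have hrz : ∀ z, r z = z - ((Q v)⁻¹ * polar Q z v) • v := fun z => refl_apply hv z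
  have hfix : ∀ z, polar Q z v = 0 → r z = z := fun z hz => by
    rw [hrz, hz, mul_zero, zero_smul, sub_zero]
  by_cases hI : ∃ x ∈ U ⊓ U', polar Q x v ≠ 0
  · refine Or.inl ?_
    obtain ⟨x, hx, hxv⟩ := hI
    have hJ : J = (U ⊓ U') ⊓ LinearMap.ker ((polarBilin Q) v) := by
      refine le_antisymm ?_ ?_
      · rintro _ ⟨hy, z, hz, rfl⟩
        change r z ∈ U at hy
        have h0 : polar Q x (r z) = 0 := polar_eq_zero_of_singular hU.1 hx.1 hy
        rw [hrz, QuadraticMap.polar_sub_right, polar_smul_right',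
          polar_eq_zero_of_singular hU'.1 hx.2 hz, zero_sub, neg_eq_zero] at h0
        have hzv : polar Q z v = 0 :=
          (mul_eq_zero.1 ((mul_eq_zero.1 h0).resolve_right hxv)).resolve_left (inv_ne_zero hv)
        rw [hfix z hzv] at hy
        show r z ∈ (U ⊓ U') ⊓ LinearMap.ker ((polarBilin Q) v)
        rw [hfix z hzv]
        exact ⟨⟨hy, hz⟩, by
          rw [SetLike.mem_coe, LinearMap.mem_ker, QuadraticMap.polarBilin_apply_apply,
            QuadraticMap.polar_comm]
          exact hzv⟩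
      · rintro z ⟨⟨hz, hz'⟩, hzv⟩
        exact ⟨hz, z, hz', hfix z (by rw [QuadraticMap.polar_comm]; exact hzv)⟩
    rw [hJ]
    set K := LinearMap.ker ((polarBilin Q) v)
    have h1 : ((U ⊓ U') ⊓ K) ⊔ Submodule.span F {x} = U ⊓ U' := by
      refine le_antisymm (sup_le inf_le_left (by simpa using hx)) fun y hy => ?_
      refine Submodule.mem_sup.2 ⟨y - (polar Q v y / polar Q v x) • x,
        ⟨Submodule.sub_mem _ hy (Submodule.smul_mem _ _ hx), ?_⟩, _,
        Submodule.smul_mem _ _ (Submodule.mem_span_singleton_self x), sub_add_cancel _ _⟩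
      rw [SetLike.mem_coe, LinearMap.mem_ker, QuadraticMap.polarBilin_apply_apply,
        QuadraticMap.polar_sub_right, polar_smul_right',
        div_mul_cancel₀ _ (by rwa [QuadraticMap.polar_comm]), sub_self]
    have h2 : Disjoint ((U ⊓ U') ⊓ K) (Submodule.span F {x}) := by
      rw [Submodule.disjoint_def]
      intro y hy hy'
      obtain ⟨c, rfl⟩ := Submodule.mem_span_singleton.1 hy'
      have h : polar Q v (c • x) = 0 := hy.2
      rw [polar_smul_right', QuadraticMap.polar_comm] at h
      rw [(mul_eq_zero.1 h).resolve_right hxv, zero_smul]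
    have h3 := Submodule.finrank_sup_add_finrank_inf_eq ((U ⊓ U') ⊓ K) (Submodule.span F {x})
    rw [h1, disjoint_iff.1 h2, finrank_bot,
      finrank_span_singleton (fun e => hxv (by rw [e, QuadraticMap.polar_zero_left]))] at h3
    omega
  · refine Or.inr ?_
    push Not at hI
    have hvmem : v ∈ perp Q (U ⊓ U') := mem_perp.2 hI
    rw [perp_inf_eq hQ hU hU', Submodule.mem_sup] at hvmem
    obtain ⟨a, ha, b, hb, hab⟩ := hvmem
    have hQv : Q v = polar Q a b := by
      rw [← hab, apply_add, hU.1 a ha, hU'.1 b hb, zero_add, zero_add]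
    have hbv : polar Q b v = Q v := by
      rw [hQv, ← hab, polar_add_right', polar_self', hU'.1 b hb,
        QuadraticMap.polar_comm (⇑Q) b a]
      ring
    have hrb : r b = -a := by
      rw [hrz, hbv, inv_mul_cancel₀ hv, one_smul, ← hab]
      abel
    have haI : a ∉ U ⊓ U' := fun h => hv (by
      rw [hQv, polar_eq_zero_of_singular hU'.1 h.2 hb])
    have ha0 : a ≠ 0 := fun e => haI (e ▸ Submodule.zero_mem _)
    have hJ : J = (U ⊓ U') ⊔ Submodule.span F {a} := by
      refine le_antisymm ?_ (sup_le ?_ ?_)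
      · rintro _ ⟨hy, z, hz, rfl⟩
        change r z ∈ U at hy
        set t := (Q v)⁻¹ * polar Q z v
        have hz' : z - t • b ∈ U' := U'.sub_mem hz (U'.smul_mem _ hb)
        have hzv : polar Q (z - t • b) v = 0 := by
          rw [QuadraticMap.polar_sub_left, polar_smul_left', hbv]
          simp only [t]
          field_simp
          ring
        have h1 : r (z - t • b) = r z + t • a := by
          rw [map_sub, map_smul, hrb, smul_neg, sub_neg_eq_add]
        have hzU : z - t • b ∈ U := by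
          rw [← hfix _ hzv, h1]
          exact U.add_mem hy (U.smul_mem _ ha)
        refine Submodule.mem_sup.2 ⟨z - t • b, ⟨hzU, hz'⟩, -(t • a),
          Submodule.neg_mem _ (Submodule.smul_mem _ _ (Submodule.mem_span_singleton_self a)), ?_⟩
        show _ = r z
        conv_lhs => rw [← hfix _ hzv, h1]
        abel
      · rintro z ⟨hz, hz'⟩
        exact ⟨hz, z, hz', hfix z (hI z ⟨hz, hz'⟩)⟩
      · rw [Submodule.span_singleton_le_iff_mem]
        refine ⟨ha, -b, U'.neg_mem hb, ?_⟩
        show r (-b) = a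
        rw [map_neg, hrb, neg_neg]
    have h2 : Disjoint (U ⊓ U') (Submodule.span F {a}) := by
      rw [Submodule.disjoint_def]
      intro y hy hy'
      obtain ⟨c, rfl⟩ := Submodule.mem_span_singleton.1 hy'
      rcases eq_or_ne c 0 with rfl | hc
      · rw [zero_smul]
      · exact absurd ((Submodule.smul_mem_iff _ hc).1 hy) haI
    have h3 := Submodule.finrank_sup_add_finrank_inf_eq (U ⊓ U') (Submodule.span F {a})
    rw [disjoint_iff.1 h2, finrank_bot, finrank_span_singleton ha0] at h3
    rw [hJ]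
    omega

/-- Elements of `Ω` preserve the parity. -/
theorem parity_of_mem_eichGroup [Finite F] (hn : 5 ≤ Module.finrank F V) {U : Submodule F V}
    (hU : IsHalf Q U) {g : OQ Q} (hg : g ∈ eichGroup hQ) :
    Even (Module.finrank F U + Module.finrank F ↥(U ⊓ U.map ((g : V ≃ₗ[F] V) : V →ₗ[F] V))) := by
  let d : OQ Q → ℕ := fun g => Module.finrank F U +
    Module.finrank F ↥(U ⊓ U.map ((g : V ≃ₗ[F] V) : V →ₗ[F] V))
  let χ : OQ Q → ZMod 2 := fun g => (d g : ZMod 2)
  have hd1 : d 1 = Module.finrank F U + Module.finrank F U := by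
    show Module.finrank F U + Module.finrank F ↥(U ⊓ U.map (LinearMap.id : V →ₗ[F] V)) = _
    rw [Submodule.map_id, inf_idem]
  have hχ1 : χ 1 = 0 := by
    show (d 1 : ZMod 2) = 0
    rw [hd1, Nat.cast_add, CharTwo.add_self_eq_zero]
  have hstep : ∀ (v : V) (hv : Q v ≠ 0) (g : OQ Q), χ (refl hv * g) = 1 + χ g := by
    intro v hv g
    have hmap : U.map (((refl hv * g : OQ Q) : V ≃ₗ[F] V) : V →ₗ[F] V) =
        (U.map ((g : V ≃ₗ[F] V) : V →ₗ[F] V)).map ((refl hv : V ≃ₗ[F] V) : V →ₗ[F] V) := by
      rw [← Submodule.map_comp]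
      rfl
    have h := refl_step_inter hQ hU (hU.map g) hv
    rw [← hmap] at h
    show (d (refl hv * g) : ZMod 2) = 1 + (d g : ZMod 2)
    rcases h with h | h
    · have : d g = d (Quad.refl hv * g) + 1 := by simp only [d]; omega
      rw [this]
      generalize d (Quad.refl hv * g) = m
      rw [Nat.cast_add, Nat.cast_one, add_comm (m : ZMod 2), ← add_assoc, CharTwo.add_self_eq_zero,
        zero_add]
    · have : d (Quad.refl hv * g) = d g + 1 := by simp only [d]; omega
      rw [this]
      generalize d g = m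
      rw [Nat.cast_add, Nat.cast_one, add_comm]
  have hmul : ∀ a b : OQ Q, χ (a * b) = χ a + χ b := by
    intro a b
    have ha : a ∈ reflGroup Q := by rw [reflGroup_eq_top hQ (Or.inr (by omega))]; trivial
    have key : ∀ b, χ (a * b) = χ a + χ b := by
      induction ha using Subgroup.closure_induction with
      | mem x hx =>
        obtain ⟨v, hv, rfl⟩ := hx
        intro b
        have h := hstep v hv 1
        rw [mul_one, hχ1, add_zero] at h
        rw [hstep, h]
      | one => intro b; rw [one_mul, hχ1, zero_add]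
      | mul x y _ _ hx hy => intro b; rw [mul_assoc, hx, hy, hx y, add_assoc]
      | inv x _ hx =>
        intro b
        have h1 := hx x⁻¹
        rw [mul_inv_cancel, hχ1] at h1
        have h2 := hx (x⁻¹ * b)
        rw [mul_inv_cancel_left] at h2
        linear_combination -h2 + h1
    exact key b
  let χ' : OQ Q →* Multiplicative (ZMod 2) :=
    { toFun := fun g => Multiplicative.ofAdd (χ g)
      map_one' := congrArg Multiplicative.ofAdd hχ1
      map_mul' := fun a b => congrArg Multiplicative.ofAdd (hmul a b) }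
  have hker : eichGroup hQ ≤ χ'.ker := by
    rw [eichGroup_eq_commutator hQ hn]
    exact Abelianization.commutator_subset_ker χ'
  have h0 : (d g : ZMod 2) = 0 := Multiplicative.ofAdd.injective (MonoidHom.mem_ker.1 (hker hg))
  exact ZMod.natCast_eq_zero_iff_even.1 h0

end Parity

variable {F : Type*} [Field F] [Finite F] {ι : Type} [Fintype ι] [DecidableEq ι]

/-- A strictly intermediate stabiliser gives a subgroup strictly between. -/
theorem exists_between {Q : QuadraticForm F (ι → F)} (hQ : (polarBilin Q).Nondegenerate)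
    (hn : 5 ≤ Fintype.card ι) (A : Subgroup (Matrix.GeneralLinearGroup ι F)) (X : Submodule F (ι → F))
    (hle : ∀ g : Cfsg.isometryGroup F (⇑Q), oEquiv Q g ∈ eichGroup hQ →
      (g : Matrix.GeneralLinearGroup ι F) ∈ A → oEquiv Q g ∈ oStab Q X)
    (hne : ∃ g : Cfsg.isometryGroup F (⇑Q), oEquiv Q g ∈ stab hQ X ∧
      (g : Matrix.GeneralLinearGroup ι F) ∉ A)
    (htop : stab hQ X ≠ eichGroup hQ) :
    ∃ K : Subgroup (Matrix.GeneralLinearGroup ι F),
      A ⊓ Cfsg.Geo.omegaGL (⇑Q) < K ∧ K < Cfsg.Geo.omegaGL (⇑Q) := by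
  have hn' : 5 ≤ Module.finrank F (ι → F) := by rwa [Module.finrank_pi]
  let e := oEquiv Q
  have hΩ : ∀ g : Cfsg.isometryGroup F (⇑Q),
      (g : Matrix.GeneralLinearGroup ι F) ∈ Cfsg.Geo.omegaGL (⇑Q) ↔ e g ∈ eichGroup hQ := by
    intro g
    have hmap : (commutator ↥(Cfsg.isometryGroup F (⇑Q))).map e.toMonoidHom = commutator (OQ Q) := by
      rw [commutator_def, commutator_def, Subgroup.map_commutator,
        Subgroup.map_top_of_surjective _ e.surjective]
    rw [eichGroup_eq_commutator hQ hn', ← hmap, Subgroup.mem_map_equiv, MulEquiv.symm_apply_apply]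
    exact ⟨fun ⟨g', hg', hgg⟩ => by rw [← Subtype.ext hgg]; exact hg', fun h => ⟨g, h, rfl⟩⟩
  refine ⟨Cfsg.Geo.subspaceStabilizer X ⊓ Cfsg.Geo.omegaGL (⇑Q), lt_of_le_of_ne ?_ ?_,
    lt_of_le_of_ne inf_le_right ?_⟩
  · rintro _ ⟨hA, g, hg, rfl⟩
    exact ⟨hle g ((hΩ g).1 ⟨g, hg, rfl⟩) hA, g, hg, rfl⟩
  · obtain ⟨g, hg, hgA⟩ := hne
    exact fun he => hgA (he.ge ⟨hg.1, (hΩ g).2 hg.2⟩).1
  · refine fun he => htop (le_antisymm inf_le_right fun x hx => ?_)
    obtain ⟨g, rfl⟩ := e.surjective x
    exact ⟨(he.ge ((hΩ g).2 hx)).1, hx⟩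

end CfsgLib.Geo.OrthMax
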