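/-
The stabiliser of a nonsingular vector in characteristic two is maximal in `Ω`.
-/
import Cfsg.Agent.Lib.Geo.OrthNondegTools

set_option autoImplicit false

namespace CfsgLib.Geo.OrthMax

open CfsgLib.Classical CfsgLib.Classical.Quad
open QuadraticMap (polar polarBilin)

variable {F : Type*} [Field F] [Finite F] {V : Type*} [AddCommGroup V] [Module F V]
  [FiniteDimensional F V] {Q : QuadraticForm F V} (hQ : (polarBilin Q).Nondegenerate)
include hQ

theorem stab_vector_ne (hn : 7 ≤ Module.finrank F V) {v : V} (hv : Q v ≠ 0) :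
    stab hQ (Submodule.span F {v}) ≠ eichGroup hQ := by
  have hv0 : v ≠ 0 := fun e => hv (by rw [e, QuadraticMap.map_zero])
  obtain ⟨p, hp0, hqp, hpv, -⟩ := exists_singular_perp hQ (Submodule.span F {v})
    (by rw [finrank_span_singleton hv0]; omega)
  have hvp := hpv v (Submodule.mem_span_singleton_self v)
  obtain ⟨s, hs, hsv⟩ := exists_move_vector hQ (by omega) hv (b := v + p)
    (by rw [apply_add, hqp, hvp, add_zero, add_zero])
  refine eichGroup_inv_stab_ne hQ hs (Submodule.mem_span_singleton_self v) fun h => ?_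
  rw [hsv, (Submodule.span F {v}).add_mem_iff_right (Submodule.mem_span_singleton_self v)] at h
  obtain ⟨c, rfl⟩ := Submodule.mem_span_singleton.1 h
  rw [apply_smul] at hqp
  exact hp0 (by rw [(mul_self_eq_zero.1 ((mul_eq_zero.1 hqp).resolve_right hv)), zero_smul])

theorem le_of_stab_vector_lt (hn : 8 ≤ Module.finrank F V) (h2 : (2 : F) = 0) {v : V}
    (hv : Q v ≠ 0) {K : Subgroup (OQ Q)} (hlt : stab hQ (Submodule.span F {v}) < K)
    (hKE : K ≤ eichGroup hQ) : eichGroup hQ ≤ K := by
  have hK := hlt.le
  have hn5 : 5 ≤ Module.finrank F V := by omega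
  have := charP_two_of_eq_zero h2
  have hv0 : v ≠ 0 := fun e => hv (by rw [e, QuadraticMap.map_zero])
  have hvv : polar Q v v = 0 := by rw [polar_self', h2, zero_mul]
  set P : Submodule F V := LinearMap.ker ((polarBilin Q) v) with hPdef
  have hP : ∀ x, x ∈ P ↔ polar Q v x = 0 := fun x => Iff.rfl
  obtain ⟨g, hgK, hg⟩ := SetLike.exists_of_lt hlt
  have hgv : (g : V ≃ₗ[F] V) v ≠ v := fun e => hg ⟨mem_oStab_of_maps fun x hx => by
    obtain ⟨c, rfl⟩ := Submodule.mem_span_singleton.1 hx
    rw [map_smul, e]
    exact hx, hKE hgK⟩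
  -- Eichler transformations fixing `v`
  have hasP : ∀ w a, w ∈ P → a ∈ P → Has hQ K w a := fun w a hw ha h1 h2' =>
    hK ⟨mem_oStab_of_maps fun x hx => by
      obtain ⟨c, rfl⟩ := Submodule.mem_span_singleton.1 hx
      rw [map_smul, eich_apply, (hP a).1 ha, (hP w).1 hw]
      simpa using hx, eich_mem hQ hn5 h1 h2'⟩
  -- the stabiliser is transitive on singular vectors of `P`
  have step : ∀ p p' z, z ∈ P → p ∈ P → p' ∈ P → Q p = 0 → Q p' = 0 → Q z = 0 →
      polar Q z p = 1 → polar Q z p' = 1 →
      ∃ h ∈ K, (h : V ≃ₗ[F] V) v = v ∧ (h : V ≃ₗ[F] V) p = p' := by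
    intro p p' z hz hp hp' hqp hqp' hqz hzp hzp'
    have hza : polar Q z (p - p') = 0 := by rw [QuadraticMap.polar_sub_right, hzp, hzp', sub_self]
    refine ⟨eich hQ hqz hza, hasP z _ hz (P.sub_mem hp hp') hqz hza, ?_, ?_⟩
    · rw [eich_apply, (hP z).1 hz, (hP _).1 (P.sub_mem hp hp')]
      simp
    · rw [eich_apply, QuadraticMap.polar_sub_right, sub_eq_add_neg p p', apply_add,
        QuadraticMap.map_neg, QuadraticMap.polar_neg_right, polar_self', hqp, hqp',
        QuadraticMap.polar_comm (⇑Q) p z, hzp]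
      module
  have indep : ∀ p p', p ∈ P → p' ∈ P → Q p = 0 → Q p' = 0 → LinearIndependent F ![p, p'] →
      ∃ h ∈ K, (h : V ≃ₗ[F] V) v = v ∧ (h : V ≃ₗ[F] V) p = p' := by
    intro p p' hp hp' hqp hqp' hli
    have hvp := (hP p).1 hp
    have hvp' := (hP p').1 hp'
    by_cases hβ : polar Q p p' = 0
    · have hp0 : p ≠ 0 := hli.ne_zero 0
      have hpS : p ∉ Submodule.span F {p', v} := fun h => by
        obtain ⟨a, b, hab⟩ := Submodule.mem_span_pair.1 h
        have h1 : Q (a • p' + b • v) = 0 := by rw [hab, hqp]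
        rw [apply_add, apply_smul, apply_smul, hqp', polar_smul_left', polar_smul_right',
          QuadraticMap.polar_comm (⇑Q) p' v, hvp', mul_zero, mul_zero, mul_zero, zero_add,
          add_zero] at h1
        have hb : b = 0 := mul_self_eq_zero.1 ((mul_eq_zero.1 h1).resolve_right hv)
        rw [hb, zero_smul, add_zero] at hab
        exact one_ne_zero (LinearIndependent.pair_iff.1 hli 1 (-a)
          (by rw [one_smul, ← hab]; module)).1
      have hp'S : p' ∉ Submodule.span F {p, v} := fun h => by
        obtain ⟨a, b, hab⟩ := Submodule.mem_span_pair.1 h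
        have h1 : Q (a • p + b • v) = 0 := by rw [hab, hqp']
        rw [apply_add, apply_smul, apply_smul, hqp, polar_smul_left', polar_smul_right',
          QuadraticMap.polar_comm (⇑Q) p v, hvp, mul_zero, mul_zero, mul_zero, zero_add,
          add_zero] at h1
        have hb : b = 0 := mul_self_eq_zero.1 ((mul_eq_zero.1 h1).resolve_right hv)
        rw [hb, zero_smul, add_zero] at hab
        exact one_ne_zero (LinearIndependent.pair_iff.1 hli (-a) 1
          (by rw [one_smul, ← hab]; module)).2
      obtain ⟨a, ha1, ha2⟩ := exists_sep_polar hQ hpS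
      obtain ⟨b, hb1, hb2⟩ := exists_sep_polar hQ hp'S
      have ha_p' := ha2 p' (Submodule.subset_span (Set.mem_insert _ _))
      have ha_v := ha2 v (Submodule.subset_span (Set.mem_insert_of_mem _ rfl))
      have hb_p := hb2 p (Submodule.subset_span (Set.mem_insert _ _))
      have hb_v := hb2 v (Submodule.subset_span (Set.mem_insert_of_mem _ rfl))
      refine step p p' (a + b + (-Q (a + b)) • p) ?_ hp hp' hqp hqp' ?_ ?_ ?_
      · rw [hP, polar_add_right', polar_add_right', polar_smul_right', ha_v, hb_v, hvp]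
        ring
      · rw [apply_add (a + b), apply_smul, hqp, polar_smul_right', polar_add_left',
          QuadraticMap.polar_comm (⇑Q) a p, QuadraticMap.polar_comm (⇑Q) b p, ha1, hb_p]
        ring
      · rw [QuadraticMap.polar_comm, polar_add_right', polar_add_right', polar_smul_right', ha1, hb_p,
          polar_self', hqp]
        ring
      · rw [QuadraticMap.polar_comm, polar_add_right', polar_add_right', polar_smul_right', ha_p',
          hb1, QuadraticMap.polar_comm (⇑Q) p' p, hβ]
        ring
    · obtain ⟨c, hc⟩ := isSquare_of_charTwo' (-(polar Q p p')⁻¹ / Q v)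
      refine step p p' ((polar Q p p')⁻¹ • p + (polar Q p p')⁻¹ • p' + c • v) ?_ hp hp' hqp hqp' ?_ ?_ ?_
      · rw [hP, polar_add_right', polar_add_right', polar_smul_right', polar_smul_right',
          polar_smul_right', hvp, hvp', hvv]
        ring
      · simp only [apply_add, apply_smul, polar_add_left', polar_smul_left', polar_smul_right', hqp,
          hqp', ← hc, QuadraticMap.polar_comm (⇑Q) p v, QuadraticMap.polar_comm (⇑Q) p' v, hvp, hvp']
        field_simp
        ring
      · simp only [polar_add_left', polar_smul_left', polar_self', hqp, hvp,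
          QuadraticMap.polar_comm (⇑Q) p' p]
        field_simp
        ring
      · simp only [polar_add_left', polar_smul_left', polar_self', hqp', hvp']
        field_simp
        ring
  have moveSing : ∀ p p', p ∈ P → p' ∈ P → Q p = 0 → Q p' = 0 → p ≠ 0 → p' ≠ 0 →
      ∃ h ∈ K, (h : V ≃ₗ[F] V) v = v ∧ (h : V ≃ₗ[F] V) p = p' := by
    intro p p' hp hp' hqp hqp' hp0 hp'0
    by_cases hli : LinearIndependent F ![p, p']
    · exact indep p p' hp hp' hqp hqp' hli
    obtain ⟨c, hc⟩ : ∃ c : F, c • p = p' := by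
      rw [LinearIndependent.pair_iff' hp0] at hli
      push Not at hli
      exact hli
    have hpv : p ∉ Submodule.span F {v} := fun h => by
      obtain ⟨t, rfl⟩ := Submodule.mem_span_singleton.1 h
      rw [apply_smul] at hqp
      exact hp0 (by rw [mul_self_eq_zero.1 ((mul_eq_zero.1 hqp).resolve_right hv), zero_smul])
    obtain ⟨f, hf, hpf, hfU⟩ := exists_singular_partner hQ (U := Submodule.span F {v}) hqp
      (fun u hu => by
        obtain ⟨t, rfl⟩ := Submodule.mem_span_singleton.1 hu
        rw [polar_smul_left', (hP p).1 hp, mul_zero]) hpv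
    have hfP : f ∈ P := (hP f).2 (hfU v (Submodule.mem_span_singleton_self v))
    have hc0 : c ≠ 0 := fun e => hp'0 (by rw [← hc, e, zero_smul])
    obtain ⟨h₁, k₁, v₁, e₁⟩ := indep p f hp hfP hqp hf
      (linearIndependent_of_polar hQ hqp (by rw [hpf]; exact one_ne_zero))
    obtain ⟨h₂, k₂, v₂, e₂⟩ := indep f p' hfP hp' hf hqp'
      (linearIndependent_of_polar hQ hf (by
        rw [← hc, polar_smul_right', QuadraticMap.polar_comm, hpf, mul_one]; exact hc0))
    refine ⟨h₂ * h₁, K.mul_mem k₂ k₁, ?_, ?_⟩
    · show (h₂ : V ≃ₗ[F] V) ((h₁ : V ≃ₗ[F] V) v) = v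
      rw [v₁, v₂]
    · show (h₂ : V ≃ₗ[F] V) ((h₁ : V ≃ₗ[F] V) p) = p'
      rw [e₁, e₂]
  -- a seed
  obtain ⟨q₀, b₀, hq₀, hb₀, hqq₀, hq₀0, hqb₀, hseed⟩ : ∃ q b, q ∈ P ∧ polar Q v b ≠ 0 ∧ Q q = 0 ∧
      q ≠ 0 ∧ polar Q q b = 0 ∧ Has hQ K q b := by
    set v' := (g : V ≃ₗ[F] V).symm v with hv'
    have hgv' : (g : V ≃ₗ[F] V) v' = v := (g : V ≃ₗ[F] V).apply_symm_apply v
    have hPg : ∀ a, (g : V ≃ₗ[F] V) a ∈ P ↔ polar Q v' a = 0 := fun a => by
      rw [hP, ← hgv', OQ.map_polar]
    obtain ⟨p, hp0, hqp, hpS, k, hkS, hpk⟩ := exists_singular_perp hQ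
      (Submodule.span F (Set.range ![v, v'])) (by
        have : Module.finrank F (Submodule.span F (Set.range ![v, v'])) ≤ Fintype.card (Fin 2) :=
          finrank_range_le_card (R := F) ![v, v']
        rw [Fintype.card_fin] at this
        omega)
    have hpv := hpS v (Submodule.subset_span ⟨0, rfl⟩)
    have hpv' := hpS v' (Submodule.subset_span ⟨1, rfl⟩)
    have hkv := hkS v (Submodule.subset_span ⟨0, rfl⟩)
    have hkv' := hkS v' (Submodule.subset_span ⟨1, rfl⟩)
    by_contra! hc
    have hall : ∀ a, polar Q v a = 0 → polar Q p a = 0 → polar Q v' a = 0 := by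
      intro a ha hpa
      rw [← hPg]
      by_contra hga
      exact hc ((g : V ≃ₗ[F] V) p) ((g : V ≃ₗ[F] V) a) ((hPg p).2 hpv') (fun e => hga ((hP _).2 e))
        (by rw [OQ.map_apply, hqp]) (fun e => hp0 ((g : V ≃ₗ[F] V).map_eq_zero_iff.1 e))
        (by rw [OQ.map_polar, hpa])
        ((hasP p a ((hP p).2 hpv) ((hP a).2 ha)).conj hQ hgK)
    obtain ⟨c, hc'⟩ : ∃ c : F, v' = c • v := by
      have hmem : v' ∈ perp Q (perp Q (Submodule.span F {v})) := mem_perp.2 fun a ha => by
        have ha' : polar Q v a = 0 := mem_perp.1 ha v (Submodule.mem_span_singleton_self v)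
        rw [QuadraticMap.polar_comm]
        have h := hall (a - polar Q p a • k)
          (by rw [QuadraticMap.polar_sub_right, polar_smul_right', ha', hkv, mul_zero, sub_zero])
          (by rw [QuadraticMap.polar_sub_right, polar_smul_right', hpk, mul_one, sub_self])
        rwa [QuadraticMap.polar_sub_right, polar_smul_right', hkv', mul_zero, sub_zero] at h
      rw [perp_perp hQ, Submodule.mem_span_singleton] at hmem
      obtain ⟨c, hc⟩ := hmem
      exact ⟨c, hc.symm⟩
    have hq' : Q v' = Q v := by rw [← OQ.map_apply g v', hgv']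
    rw [hc', apply_smul] at hq'
    have hc1 : c = 1 := by
      have h1 : c * c = 1 := mul_right_cancel₀ hv (by rw [hq', one_mul])
      have h0 : (c - 1) * (c - 1) = 0 := by linear_combination h1 + (1 - c) * h2
      exact sub_eq_zero.1 (mul_self_eq_zero.1 h0)
    rw [hc1, one_smul] at hc'
    exact hgv (by rw [← hc', hgv', hc'])
  -- every root group of a singular vector of `P`
  have rootP : ∀ q ∈ P, Q q = 0 → HasRoot hQ K q := by
    intro q hq hqq a hqw ha
    by_cases hq0 : q = 0
    · subst hq0
      rw [eich_zero_left]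
      exact K.one_mem
    rcases eq_or_ne (polar Q v a) 0 with hva | hva
    · exact hasP q a hq ((hP a).2 hva) hqw ha
    set c := polar Q v a / polar Q v b₀ with hc
    have hc0 : c ≠ 0 := div_ne_zero hva hb₀
    obtain ⟨h, hh, hhv, hhq⟩ := moveSing q₀ (c • q) hq₀ (P.smul_mem _ hq) hqq₀
      (by rw [apply_smul, hqq, mul_zero]) hq₀0 (smul_ne_zero hc0 hq0)
    have h1 := hseed.conj hQ hh
    rw [hhq] at h1
    have h3 := h1.smul_left hQ hc0
    set b := (h : V ≃ₗ[F] V) b₀ with hb
    have hvb : polar Q v b = polar Q v b₀ := by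
      conv_lhs => rw [hb, ← hhv]
      rw [OQ.map_polar]
    have hqb : polar Q q b = 0 := by
      have : polar Q (c • q) b = 0 := by rw [← hhq, hb, OQ.map_polar, hqb₀]
      rw [polar_smul_left'] at this
      exact (mul_eq_zero.1 this).resolve_left hc0
    have h4 := h3.add hQ (hasP q (a - c • b) hq ((hP _).2 (by
      rw [QuadraticMap.polar_sub_right, polar_smul_right', hvb, hc, div_mul_cancel₀ _ hb₀, sub_self])))
      (by rw [polar_smul_right', hqb, mul_zero])
    rw [add_sub_cancel] at h4
    exact h4 hqw ha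
  -- every root group
  have rootAll : ∀ x, Q x = 0 → HasRoot hQ K x := by
    intro x hqx
    by_cases hxP : x ∈ P
    · exact rootP x hxP hqx
    obtain ⟨q, hq, hqq, hxq⟩ : ∃ q ∈ P, Q q = 0 ∧ polar Q x q ≠ 0 := by
      by_contra! hc
      obtain ⟨u, hu0, hqu, hvu, k, hkv, huk⟩ := exists_singular_perp hQ (Submodule.span F {v})
        (by rw [finrank_span_singleton hv0]; omega)
      have hu := hvu v (Submodule.mem_span_singleton_self v)
      have hk := hkv v (Submodule.mem_span_singleton_self v)
      have hqk : Q (k + (-Q k) • u) = 0 := by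
        rw [apply_add, apply_smul, hqu, polar_smul_right', QuadraticMap.polar_comm (⇑Q) k u, huk]
        ring
      have hle := le_of_singular (U := P) (P := LinearMap.ker ((polarBilin Q) x)) ((hP u).2 hu)
        ((hP (k + (-Q k) • u)).2 (by rw [polar_add_right', polar_smul_right', hk, hu]; ring)) hqu hqk
        (by rw [polar_add_right', polar_smul_right', huk, polar_self', hqu]; ring) hc
      have hmem : x ∈ perp Q (perp Q (Submodule.span F {v})) := mem_perp.2 fun a ha => by
        rw [QuadraticMap.polar_comm]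
        exact hle ((hP a).2 (mem_perp.1 ha v (Submodule.mem_span_singleton_self v)))
      rw [perp_perp hQ, Submodule.mem_span_singleton] at hmem
      obtain ⟨t, rfl⟩ := hmem
      rw [apply_smul] at hqx
      exact hxP (by rw [mul_self_eq_zero.1 ((mul_eq_zero.1 hqx).resolve_right hv), zero_smul]
                    exact P.zero_mem)
    obtain ⟨s, hsq, hsv⟩ := exists_sep_polar hQ (U := Submodule.span F {v}) (x := q) (fun h => by
      obtain ⟨t, rfl⟩ := Submodule.mem_span_singleton.1 h
      rw [apply_smul] at hqq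
      exact hxq (by rw [mul_self_eq_zero.1 ((mul_eq_zero.1 hqq).resolve_right hv), zero_smul,
        QuadraticMap.polar_zero_right]))
    have hqq' : Q ((polar Q x q)⁻¹ • q) = 0 := by rw [apply_smul, hqq, mul_zero]
    set q' := (polar Q x q)⁻¹ • q with hq'
    have hxq' : polar Q x q' = 1 := by rw [hq', polar_smul_right', inv_mul_cancel₀ hxq]
    set b := x + (-(polar Q x q)) • s with hb
    have hqb : polar Q q' b = 0 := by
      rw [hb, polar_add_right', polar_smul_right', QuadraticMap.polar_comm (⇑Q) q' x, hxq', hq',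
        polar_smul_left', hsq]
      field_simp
      ring
    have hvb : polar Q v b = polar Q v x := by
      rw [hb, polar_add_right', polar_smul_right', hsv v (Submodule.mem_span_singleton_self v),
        mul_zero, add_zero]
    have hvq' : polar Q v q' = 0 := by rw [hq', polar_smul_right', (hP q).1 hq, mul_zero]
    have hy : (eich hQ hqq' hqb : V ≃ₗ[F] V) x ∈ P := by
      rw [hP, eich_apply, hxq']
      generalize polar Q x b - Q b * 1 = c
      rw [polar_add_right', polar_add_right', polar_smul_right' (y := b), hvb,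
        polar_smul_right' (y := q'), hvq']
      ring
    have hh : eich hQ hqq' hqb ∈ K := rootP q' (P.smul_mem _ hq) hqq' b hqq' hqb
    have h := (rootP _ hy (by rw [OQ.map_apply, hqx])).conj hQ (K.inv_mem hh)
    rwa [show ((eich hQ hqq' hqb)⁻¹ : OQ Q).1 ((eich hQ hqq' hqb : V ≃ₗ[F] V) x) = x from
      (eich hQ hqq' hqb : V ≃ₗ[F] V).symm_apply_apply x] at h
  exact le_of_has hQ hn5 fun w a hqw _ _ => rootAll w hqw a

end CfsgLib.Geo.OrthMax
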