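/-
Subspace and decomposition stabilisers in `Ω` which are not maximal.
-/
import Cfsg.Agent.Lib.Geo.OrthParity
import Cfsg.Agent.Lib.Geo.OrthVector

set_option autoImplicit false

namespace CfsgLib.Geo.OrthMax

open CfsgLib.Classical CfsgLib.Classical.Quad
open QuadraticMap (polar polarBilin)

variable {F : Type*} [Field F] [Finite F] {ι : Type} [Fintype ι] [DecidableEq ι]
  {Q : QuadraticForm F (ι → F)} (hQ : (polarBilin Q).Nondegenerate)
include hQ

omit [Finite F] hQ in
theorem mem_oStab_iff (W : Submodule F (ι → F)) (g : Cfsg.isometryGroup F (⇑Q)) :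
    (g : Matrix.GeneralLinearGroup ι F) ∈ Cfsg.Geo.subspaceStabilizer W ↔ oEquiv Q g ∈ oStab Q W :=
  Iff.rfl

/-- A plus plane over a field in which all nonzero squares are `1`. -/
theorem exists_between_plane (hn : 7 ≤ Fintype.card ι) (hq : ∀ a : F, a ≠ 0 → a * a = 1)
    {W : Submodule F (ι → F)} (h2 : Module.finrank F W = 2) (hW : Nondeg Q W)
    (hiso : ∃ u ∈ W, u ≠ 0 ∧ Q u = 0) :
    ∃ K : Subgroup (Matrix.GeneralLinearGroup ι F),
      Cfsg.Geo.subspaceStabilizer W ⊓ Cfsg.Geo.omegaGL (⇑Q) < K ∧ K < Cfsg.Geo.omegaGL (⇑Q) := by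
  have hn' : Module.finrank F (ι → F) = Fintype.card ι := Module.finrank_pi F
  obtain ⟨u, hu, hu0, hqu⟩ := hiso
  obtain ⟨f, hf, hqf, huf⟩ := hW.exists_pair hu hqu hu0
  have hspan : Submodule.span F {u, f} = W := by
    refine Submodule.eq_of_le_of_finrank_le
      (Submodule.span_le.2 (by simp [Set.insert_subset_iff, hu, hf])) ?_
    have h := finrank_span_eq_card (linearIndependent_of_polar hQ hqu (by rw [huf]; exact one_ne_zero))
    rw [Matrix.range_cons, Matrix.range_cons, Matrix.range_empty, Set.union_empty,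
      Set.singleton_union, Fintype.card_fin] at h
    rw [h2, h]
  have hfu : polar Q f u = 1 := by rw [QuadraticMap.polar_comm, huf]
  set v := u + f with hv
  have hqv : Q v = 1 := by rw [hv, apply_add, hqu, hqf, huf]; ring
  have hv0 : Q v ≠ 0 := by rw [hqv]; exact one_ne_zero
  have hU := hW.perp hQ
  obtain ⟨p, hp, hp0, hqp⟩ := hU.exists_singular (by rw [finrank_perp hQ, h2]; omega)
  have hpu : polar Q u p = 0 := mem_perp.1 hp u hu
  have hpf : polar Q f p = 0 := mem_perp.1 hp f hf
  refine exists_between hQ (by omega) _ (Submodule.span F {v}) (fun g _ hg => ?_) ?_ ?_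
  · refine mem_oStab_of_maps fun x hx => ?_
    obtain ⟨c, rfl⟩ := Submodule.mem_span_singleton.1 hx
    rw [map_smul]
    refine Submodule.smul_mem _ _ ?_
    have hgv := ((((mem_oStab_iff W g).1 hg) v).1 (W.add_mem hu hf))
    rw [← hspan, Submodule.mem_span_pair] at hgv
    obtain ⟨α, β, hαβ⟩ := hgv
    have h1 : α * β = 1 := by
      have h := OQ.map_apply (oEquiv Q g) v
      rw [← hαβ, hqv, apply_add, apply_smul, apply_smul, hqu, hqf, polar_smul_left',
        polar_smul_right', huf] at h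
      linear_combination h
    have hα : α ≠ 0 := left_ne_zero_of_mul (by rw [h1]; exact one_ne_zero)
    have h3 : β = α := mul_left_cancel₀ hα (by rw [h1, hq α hα])
    rw [← hαβ, h3, ← smul_add]
    exact Submodule.smul_mem _ _ (Submodule.mem_span_singleton_self v)
  · have hpa : polar Q p (u - f) = 0 := by
      rw [QuadraticMap.polar_sub_right, perp_left hp hu, perp_left hp hf, sub_zero]
    have hn5 : 5 ≤ Module.finrank F (ι → F) := by omega
    refine ⟨(oEquiv Q).symm (eich hQ hqp hpa), ?_, ?_⟩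
    · rw [MulEquiv.apply_symm_apply]
      refine ⟨mem_oStab_of_maps fun x hx => ?_, eich_mem hQ hn5 hqp hpa⟩
      obtain ⟨c, rfl⟩ := Submodule.mem_span_singleton.1 hx
      have hva : polar Q v (u - f) = 0 := by
        rw [hv, QuadraticMap.polar_sub_right, polar_add_left', polar_add_left', polar_self', hqu,
          polar_self', hqf, huf, hfu]
        ring
      have hvp : polar Q v p = 0 := by rw [hv, polar_add_left', hpu, hpf, add_zero]
      rw [map_smul, eich_apply, hva, hvp]
      simpa using hx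
    · intro h
      have h' := ((mem_oStab_iff W _).1 h u).1 hu
      rw [MulEquiv.apply_symm_apply, eich_apply, hpu, QuadraticMap.polar_sub_right, polar_self',
        hqu, huf] at h'
      simp only [mul_zero, zero_sub, sub_zero, neg_zero, zero_smul, add_zero, W.add_mem_iff_right hu,
        neg_smul, one_smul, W.neg_mem_iff] at h'
      exact hp0 (Submodule.disjoint_def.1 (hW.isCompl hQ).disjoint p h' hp)
  · exact stab_vector_ne hQ (by omega) hv0

/-- The stabiliser of a subspace of codimension one in a half fixes that half. -/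
theorem exists_between_half (hn : 5 ≤ Fintype.card ι) {U₀ : Submodule F (ι → F)} (hU₀ : IsHalf Q U₀)
    {W : Submodule F (ι → F)} (hW : ∀ w ∈ W, Q w = 0)
    (hdim : 2 * (Module.finrank F W + 1) = Fintype.card ι) :
    ∃ K : Subgroup (Matrix.GeneralLinearGroup ι F),
      Cfsg.Geo.subspaceStabilizer W ⊓ Cfsg.Geo.omegaGL (⇑Q) < K ∧ K < Cfsg.Geo.omegaGL (⇑Q) := by
  have hn' : Module.finrank F (ι → F) = Fintype.card ι := Module.finrank_pi F
  have hn5 : 5 ≤ Module.finrank F (ι → F) := by omega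
  obtain ⟨U, hU, hWU⟩ : ∃ U, IsHalf Q U ∧ W ≤ U := by
    obtain ⟨S, hS⟩ := Submodule.exists_isCompl W
    have hk : Module.finrank F W ≤ Module.finrank F U₀ := by have := hU₀.2; omega
    let b := Module.finBasis F W
    let c := Module.finBasis F U₀
    let φ : W →ₗ[F] (ι → F) := U₀.subtype ∘ₗ b.constr F fun i => c (Fin.castLE hk i)
    have hinj : Function.Injective φ := by
      refine Subtype.val_injective.comp ?_
      rw [injective_iff_map_eq_zero]
      intro x hx
      rw [Module.Basis.constr_apply_fintype] at hx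
      have := Fintype.linearIndependent_iff.1
        (c.linearIndependent.comp _ (Fin.castLE_injective hk)) _ hx
      rw [← b.sum_repr x]
      simp only [Module.Basis.equivFun_apply] at this
      simp [this]
    obtain ⟨g, hg⟩ := witt hQ W φ hinj fun w => by
      rw [hW w w.2]
      exact hU₀.1 _ (Subtype.coe_prop _)
    refine ⟨U₀.map (((g⁻¹ : OQ Q) : (ι → F) ≃ₗ[F] (ι → F)) : (ι → F) →ₗ[F] (ι → F)),
      hU₀.map g⁻¹, fun w hw => ⟨φ ⟨w, hw⟩, Subtype.coe_prop _, ?_⟩⟩
    rw [← hg ⟨w, hw⟩]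
    exact (g : (ι → F) ≃ₗ[F] (ι → F)).symm_apply_apply w
  have hWlt : W < U := lt_of_le_of_ne hWU fun e => by rw [e] at hdim; have := hU.2; omega
  have hU0 : U ≠ ⊥ := ne_bot_of_gt hWlt
  refine exists_between hQ hn _ U (fun g hgΩ hg => ?_) ?_ (stab_singular_ne hQ hn5 hU0 hU.1)
  · set g' := oEquiv Q g
    set U' := U.map ((g' : (ι → F) ≃ₗ[F] (ι → F)) : (ι → F) →ₗ[F] (ι → F))
    have hle : W ≤ U ⊓ U' := by
      refine le_inf hWU fun w hw => ?_
      obtain ⟨w', rfl⟩ := (g' : (ι → F) ≃ₗ[F] (ι → F)).surjective w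
      exact ⟨w', hWU ((((mem_oStab_iff W g).1 hg) w').2 hw), rfl⟩
    have h1 := Submodule.finrank_mono hle
    have h2 := Submodule.finrank_mono (inf_le_left : U ⊓ U' ≤ U)
    obtain ⟨r, hr⟩ := parity_of_mem_eichGroup hQ hn5 hU hgΩ
    have h3 := hU.2
    rw [hn'] at h3
    change _ + Module.finrank F ↥(U ⊓ U') = _ at hr
    have h4 : U ⊓ U' = U := Submodule.eq_of_le_of_finrank_le inf_le_left (by
      show Module.finrank F U ≤ Module.finrank F ↥(U ⊓ U')
      omega)
    have h5 : U' = U := (Submodule.eq_of_le_of_finrank_le (inf_eq_left.1 h4) (by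
      rw [LinearEquiv.finrank_map_eq])).symm
    exact mem_oStab_of_maps fun x hx => h5.le ⟨x, hx, rfl⟩
  · obtain ⟨w, hwU, hwW⟩ := SetLike.exists_of_lt hWlt
    obtain ⟨z, hz, hz0⟩ : ∃ z ∈ W, z ∉ Submodule.span F {w} := by
      by_contra! hc
      have h := Submodule.finrank_mono (show W ≤ Submodule.span F {w} from hc)
      rw [finrank_span_singleton (fun e : w = 0 => hwW (e ▸ W.zero_mem))] at h
      omega
    obtain ⟨a, hza, hwa⟩ := exists_sep_polar hQ hz0
    have hwa' := hwa w (Submodule.mem_span_singleton_self w)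
    have hqw := hU.1 w hwU
    refine ⟨(oEquiv Q).symm (eich hQ hqw hwa'), ?_, fun h => hwW ?_⟩
    · rw [MulEquiv.apply_symm_apply]
      exact ⟨mem_oStab_of_maps fun x hx => by
        rw [eich_apply, polar_eq_zero_of_singular hU.1 hx hwU]
        simpa using U.add_mem hx (U.smul_mem _ hwU), eich_mem hQ hn5 hqw hwa'⟩
    · have h' := ((mem_oStab_iff W _).1 h z).1 hz
      rw [MulEquiv.apply_symm_apply, eich_apply, polar_eq_zero_of_singular hU.1 (hWU hz) hwU,
        hza] at h'
      simpa [W.add_mem_iff_right hz] using h'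

/-- Halves of odd dimension cannot be exchanged inside `Ω`. -/
theorem exists_between_pair (hn : 5 ≤ Fintype.card ι) {k : ℕ} (hk : 2 * k = Fintype.card ι)
    (hko : Odd k) {D : Fin 2 → Submodule F (ι → F)} (hD : Cfsg.Geo.IsMDecomposition k D)
    (hts : ∀ i, ∀ u ∈ D i, Q u = 0) :
    ∃ K : Subgroup (Matrix.GeneralLinearGroup ι F),
      Cfsg.Geo.decompositionStabilizer D ⊓ Cfsg.Geo.omegaGL (⇑Q) < K ∧
        K < Cfsg.Geo.omegaGL (⇑Q) := by
  have hn' : Module.finrank F (ι → F) = Fintype.card ι := Module.finrank_pi F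
  have hn5 : 5 ≤ Module.finrank F (ι → F) := by omega
  have hhalf : IsHalf Q (D 0) := ⟨hts 0, by rw [hD.finrank_eq, hn', hk]⟩
  have hdisj : Disjoint (D 0) (D 1) := hD.indep.pairwiseDisjoint (by decide)
  have h0 : D 0 ≠ ⊥ := fun e => by
    have := hD.finrank_eq 0
    rw [e, finrank_bot] at this
    omega
  refine exists_between hQ hn _ (D 0) (fun g hgΩ hg => ?_) ?_ (stab_singular_ne hQ hn5 h0 (hts 0))
  · obtain ⟨π, hπ⟩ := hg
    have hm : (D 0).map ((oEquiv Q g : (ι → F) ≃ₗ[F] (ι → F)) : (ι → F) →ₗ[F] (ι → F)) = D (π 0) :=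
      hπ 0
    have hp := parity_of_mem_eichGroup hQ hn5 hhalf hgΩ
    rw [hm] at hp
    rcases Fin.exists_fin_two.1 ⟨π 0, rfl⟩ with h | h
    · rw [h] at hm
      exact mem_oStab_of_maps fun x hx => hm.le ⟨x, hx, rfl⟩
    · rw [h, disjoint_iff.1 hdisj, finrank_bot, add_zero, hD.finrank_eq] at hp
      exact absurd hko (Nat.not_odd_iff_even.2 hp)
  · obtain ⟨z, hz, hz0⟩ := Submodule.exists_mem_ne_zero_of_ne_bot (show D 1 ≠ ⊥ from fun e => by
      have := hD.finrank_eq 1
      rw [e, finrank_bot] at this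
      omega)
    obtain ⟨w, hw, hw0, hzw⟩ : ∃ w ∈ D 0, w ≠ 0 ∧ polar Q z w = 0 := by
      by_contra! hc
      let ψ : D 0 →ₗ[F] F := ((polarBilin Q) z).comp (D 0).subtype
      have hψ : Function.Injective ψ := by
        rw [injective_iff_map_eq_zero]
        intro x hx
        by_contra hx0
        exact hc x x.2 (fun e => hx0 (Subtype.ext e)) hx
      have h := LinearMap.finrank_le_finrank_of_injective hψ
      rw [hD.finrank_eq, Module.finrank_self] at h
      omega
    have hzn : z ∉ Submodule.span F {w} := fun h => by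
      obtain ⟨c, rfl⟩ := Submodule.mem_span_singleton.1 h
      exact hz0 (Submodule.disjoint_def.1 hdisj _ ((D 0).smul_mem _ hw) hz)
    obtain ⟨a, hza, hwa⟩ := exists_sep_polar hQ hzn
    have hwa' := hwa w (Submodule.mem_span_singleton_self w)
    have hqw := hts 0 w hw
    refine ⟨(oEquiv Q).symm (eich hQ hqw hwa'), ?_, ?_⟩
    · rw [MulEquiv.apply_symm_apply]
      exact ⟨mem_oStab_of_maps fun x hx => by
        rw [eich_apply, polar_eq_zero_of_singular (hts 0) hx hw]
        simpa using (D 0).add_mem hx ((D 0).smul_mem _ hw), eich_mem hQ hn5 hqw hwa'⟩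
    · rintro ⟨π, hπ⟩
      have h' : (eich hQ hqw hwa' : (ι → F) ≃ₗ[F] (ι → F)) z ∈ D (π 1) :=
        (hπ 1).le ⟨z, hz, by
          rw [Matrix.toLin'_apply, ← oEquiv_apply, MulEquiv.apply_symm_apply]⟩
      rw [eich_apply, hzw, hza] at h'
      rcases Fin.exists_fin_two.1 ⟨π 1, rfl⟩ with h | h
      · rw [h] at h'
        have : z ∈ D 0 := by simpa [(D 0).add_mem_iff_left hw] using h'
        exact hz0 (Submodule.disjoint_def.1 hdisj z this hz)
      · rw [h] at h'
        have : w ∈ D 1 := by simpa [(D 1).add_mem_iff_right hz] using h'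
        exact hw0 (Submodule.disjoint_def.1 hdisj w hw this)

end CfsgLib.Geo.OrthMax
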