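/-
Pure tensors in a tensor decomposition of a form.
-/
import Mathlib
import Cfsg.Prelude.Def_GeometricClasses

namespace CfsgLib.Geo

open Matrix Kronecker

variable {ι : Type} [Fintype ι] [DecidableEq ι] {F : Type*} [Field F] {n₁ n₂ : ℕ}

/-- The pure tensor v ⊗ w transported by e and P. -/
def pureTensor (e : ι ≃ Fin n₁ × Fin n₂) (P : Matrix.GeneralLinearGroup ι F) (v : Fin n₁ → F) :
    (Fin n₂ → F) →ₗ[F] (ι → F) where
  toFun w := (P : Matrix ι ι F) *ᵥ ((fun p => v p.1 * w p.2) ∘ e)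
  map_add' x y := by
    rw [← Matrix.mulVec_add]
    congr 1
    funext i
    simp [mul_add]
  map_smul' c x := by
    rw [RingHom.id_apply, ← Matrix.mulVec_smul]
    congr 1
    funext i
    simp
    ring

theorem pureTensor_apply (e : ι ≃ Fin n₁ × Fin n₂) (P : Matrix.GeneralLinearGroup ι F) (v : Fin n₁ → F)
    (w : Fin n₂ → F) : pureTensor e P v w = (P : Matrix ι ι F) *ᵥ ((fun p => v p.1 * w p.2) ∘ e) := rfl

theorem pureTensor_smul (e : ι ≃ Fin n₁ × Fin n₂) (P : Matrix.GeneralLinearGroup ι F) (c : F) (v : Fin n₁ → F)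
    (w : Fin n₂ → F) : pureTensor e P (c • v) w = pureTensor e P v (c • w) := by
  rw [pureTensor_apply, pureTensor_apply]
  congr 1
  funext i
  simp
  ring

theorem pureTensor_eq (e : ι ≃ Fin n₁ × Fin n₂) (P : Matrix.GeneralLinearGroup ι F) {v v' : Fin n₁ → F}
    {w w' : Fin n₂ → F} (h : pureTensor e P v w = pureTensor e P v' w') (a : Fin n₁) (k : Fin n₂) :
    v a * w k = v' a * w' k := by
  rw [pureTensor_apply, pureTensor_apply] at h
  have h' := congrArg (((P⁻¹ : Matrix.GeneralLinearGroup ι F) : Matrix ι ι F) *ᵥ ·) h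
  simp only [Matrix.mulVec_mulVec, ← Units.val_mul, inv_mul_cancel, Units.val_one, Matrix.one_mulVec] at h'
  simpa using congrFun h' (e.symm (a, k))

theorem tensor_mem_spec (e : ι ≃ Fin n₁ × Fin n₂) (P : Matrix.GeneralLinearGroup ι F)
    {g : Matrix.GeneralLinearGroup ι F} (hg : g ∈ Cfsg.Geo.tensorProductSubgroup n₁ n₂ e P) :
    ∃ (a : Matrix.GeneralLinearGroup (Fin n₁) F) (b : Matrix.GeneralLinearGroup (Fin n₂) F), ∀ v w,
      (g : Matrix ι ι F) *ᵥ pureTensor e P v w =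
        pureTensor e P ((a : Matrix (Fin n₁) (Fin n₁) F) *ᵥ v) ((b : Matrix (Fin n₂) (Fin n₂) F) *ᵥ w) := by
  obtain ⟨r, ⟨k, ⟨a, b, hk⟩, rfl⟩, rfl⟩ := hg
  refine ⟨a, b, fun v w => ?_⟩
  rw [pureTensor_apply, pureTensor_apply, MulEquiv.coe_toMonoidHom, MulEquiv.coe_toMonoidHom, MulAut.conj_apply,
    Units.val_mul, Units.val_mul, Matrix.mulVec_mulVec, Matrix.mul_assoc, ← Units.val_mul (a := P⁻¹) (b := P),
    inv_mul_cancel, Units.val_one, Matrix.mul_one, ← Matrix.mulVec_mulVec]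
  congr 1
  show (Matrix.reindex e.symm e.symm (k : Matrix (Fin n₁ × Fin n₂) (Fin n₁ × Fin n₂) F)) *ᵥ _ = _
  rw [Matrix.reindex_apply, Equiv.symm_symm, Matrix.submatrix_mulVec_equiv, hk]
  funext i
  simp only [Function.comp_apply, Matrix.mulVec, dotProduct, Equiv.apply_symm_apply, Fintype.sum_prod_type,
    Matrix.kroneckerMap_apply, Finset.sum_mul_sum]
  refine Finset.sum_congr rfl fun x _ => Finset.sum_congr rfl fun y _ => by ring

theorem formOfGram_gram {n : ℕ} (σ : F → F) (f : (Fin n → F) → (Fin n → F) → F)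
    (hl : ∀ x y v, f (x + y) v = f x v + f y v) (hsl : ∀ (c : F) x v, f (c • x) v = c * f x v)
    (hr : ∀ v x y, f v (x + y) = f v x + f v y) (hsr : ∀ (c : F) v x, f v (c • x) = σ c * f v x)
    (x y : Fin n → F) : Cfsg.Geo.formOfGram σ (Cfsg.Geo.gramMatrix f) x y = f x y := by
  let fl : (Fin n → F) → (Fin n → F) →+ F := fun v => AddMonoidHom.mk' (fun u => f u v) (fun a c => hl a c v)
  let fr : (Fin n → F) → (Fin n → F) →+ F := fun u => AddMonoidHom.mk' (fun v => f u v) (fun a c => hr u a c)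
  conv_rhs => rw [pi_eq_sum_univ' x, pi_eq_sum_univ' y]
  refine Eq.trans ?_ (map_sum (fl _) _ _).symm
  refine Finset.sum_congr rfl fun i _ => ?_
  show _ = (fr (x i • Pi.single i 1)) _
  rw [map_sum]
  refine Finset.sum_congr rfl fun j _ => ?_
  show _ = f (x i • Pi.single i 1) (y j • Pi.single j 1)
  rw [hsl, hsr, Cfsg.Geo.gramMatrix]
  ring

theorem formOfGram_kronecker (σ : F → F) (hσ : ∀ a b, σ (a * b) = σ a * σ b) (G₁ : Matrix (Fin n₁) (Fin n₁) F)
    (G₂ : Matrix (Fin n₂) (Fin n₂) F) (v v' : Fin n₁ → F) (w w' : Fin n₂ → F) :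
    Cfsg.Geo.formOfGram σ (G₁ ⊗ₖ G₂) (fun p => v p.1 * w p.2) (fun p => v' p.1 * w' p.2) =
      Cfsg.Geo.formOfGram σ G₁ v v' * Cfsg.Geo.formOfGram σ G₂ w w' := by
  simp only [Cfsg.Geo.formOfGram, Fintype.sum_prod_type, Matrix.kroneckerMap_apply, hσ, Finset.sum_mul_sum]
  refine Finset.sum_congr rfl fun i _ => Finset.sum_congr rfl fun k _ => Finset.sum_congr rfl fun j _ =>
    Finset.sum_congr rfl fun l _ => by ring

end CfsgLib.Geo
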