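/-
Non-maximality of tensor stabilisers Sp(3) ⊗ O₃(3).
-/
import Cfsg.Agent.Lib.Geo.OrthDecomp
import Cfsg.Agent.Lib.Geo.TensorForm

namespace CfsgLib.Geo

open Matrix Module

variable {F : Type*} [Field F] [Fintype F]

theorem eq_one_or_two (hq : Fintype.card F = 3) (x : F) (hx : x ≠ 0) : x = 1 ∨ x = 2 := by
  have h := FiniteField.pow_card_sub_one_eq_one x hx
  rw [hq] at h
  have h3 : (3 : F) = 0 := by
    have := FiniteField.cast_card_eq_zero F
    rw [hq] at this
    exact_mod_cast this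
  have : (x - 1) * (x - 2) = 0 := by linear_combination h - (x - 1) * h3
  rcases mul_eq_zero.1 this with h' | h'
  · exact Or.inl (sub_eq_zero.1 h')
  · exact Or.inr (sub_eq_zero.1 h')

theorem exists_scalar_orthogonal_basis (hq : Fintype.card F = 3) (f : (Fin 3 → F) → (Fin 3 → F) → F)
    (hf : Cfsg.Geo.IsSymmetricForm f) :
    ∃ (u : Basis (Fin 3) F (Fin 3 → F)) (ε : F), ε ≠ 0 ∧ ∀ i j, f (u i) (u j) = if i = j then ε else 0 := by
  classical
  have h3 : (3 : F) = 0 := by
    have := FiniteField.cast_card_eq_zero F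
    rw [hq] at this
    exact_mod_cast this
  have h2 : (2 : F) ≠ 0 := fun h => one_ne_zero (α := F) (by linear_combination h3 - h)
  haveI : Invertible (2 : F) := invertibleOfNonzero h2
  obtain ⟨hadd, hsmul, hadd', hsmul'⟩ := hf.bilinear
  let B : LinearMap.BilinForm F (Fin 3 → F) := LinearMap.mk₂ F f hadd hsmul hadd' hsmul'
  obtain ⟨v₀, hv₀⟩ := LinearMap.BilinForm.exists_orthogonal_basis (B := B) ⟨fun x y => hf.symm x y⟩
  let v : Basis (Fin 3) F (Fin 3 → F) := v₀.reindex (finCongr (Module.finrank_fin_fun F))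
  have hv : ∀ i j, i ≠ j → f (v i) (v j) = 0 := by
    intro i j hij
    simp only [v, Basis.reindex_apply]
    exact hv₀ (fun h => hij ((finCongr (Module.finrank_fin_fun F)).symm.injective h))
  let fl : (Fin 3 → F) → (Fin 3 → F) →ₗ[F] F := fun y =>
    { toFun := fun x => f x y, map_add' := fun a b => hadd a b y, map_smul' := fun c a => hsmul c a y }
  have hnorm : ∀ i, f (v i) (v i) ≠ 0 := by
    intro i h
    obtain ⟨⟨x, hx⟩, -⟩ := hf.nondegenerate (v i) (v.ne_zero i)
    apply hx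
    have : fl (v i) = 0 := v.ext fun j => by
      rcases eq_or_ne j i with rfl | hj
      · exact h
      · exact hv j i hj
    exact LinearMap.congr_fun this x
  -- replace two vectors of equal norm by their sum and difference
  suffices hsw : ∀ i j k : Fin 3, i ≠ j → i ≠ k → j ≠ k → f (v i) (v i) = f (v j) (v j) →
      ∃ (u : Basis (Fin 3) F (Fin 3 → F)) (ε : F), ε ≠ 0 ∧ ∀ i j, f (u i) (u j) = if i = j then ε else 0 by
    rcases eq_one_or_two hq _ (hnorm 0) with h0 | h0 <;> rcases eq_one_or_two hq _ (hnorm 1) with h1 | h1 <;>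
      rcases eq_one_or_two hq _ (hnorm 2) with h2' | h2'
    all_goals first
      | exact hsw 0 1 2 (by decide) (by decide) (by decide) (h0.trans h1.symm)
      | exact hsw 0 2 1 (by decide) (by decide) (by decide) (h0.trans h2'.symm)
      | exact hsw 1 2 0 (by decide) (by decide) (by decide) (h1.trans h2'.symm)
  intro i j k hij hik hjk heq
  by_cases hk : f (v k) (v k) = f (v i) (v i)
  · refine ⟨v, f (v i) (v i), hnorm i, fun a b => ?_⟩
    split_ifs with hab
    · subst hab
      rcases (by omega : a = i ∨ a = j ∨ a = k) with rfl | rfl | rfl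
      · rfl
      · exact heq.symm
      · exact hk
    · exact hv a b hab
  · set δ := f (v i) (v i) with hδ
    have hk' : f (v k) (v k) = 2 * δ := by
      rcases eq_one_or_two hq _ (hnorm k) with h | h <;> rcases eq_one_or_two hq _ (hnorm i) with h' | h' <;>
        rw [← hδ] at h' <;> rw [h, h'] <;> first | exact absurd (h.trans h'.symm) hk | linear_combination -h3 | ring
    let w : Fin 3 → (Fin 3 → F) := ![v i + v j, v i - v j, v k]
    have hsub : ∀ x y z, f (x - y) z = f x z - f y z := fun x y z => map_sub (fl z) x y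
    have hsub' : ∀ x y z, f z (x - y) = f z x - f z y := fun x y z => by
      rw [hf.symm, hsub, hf.symm x, hf.symm y]
    have hw : ∀ a b, f (w a) (w b) = if a = b then 2 * δ else 0 := by
      intro a b
      fin_cases a <;> fin_cases b <;>
        simp [w, hadd, hadd', hsub, hsub', hv _ _ hij, hv _ _ hij.symm, hv _ _ hik, hv _ _ hik.symm, hv _ _ hjk,
          hv _ _ hjk.symm, ← heq, hk'] <;> ring
    have hne : (2 : F) * δ ≠ 0 := mul_ne_zero h2 (hnorm i)
    have hli : LinearIndependent F w := by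
      rw [Fintype.linearIndependent_iff]
      intro g hg q
      have h1 := congrArg (fl (w q)) hg
      rw [map_sum, map_zero, Finset.sum_eq_single q] at h1
      · rw [map_smul, smul_eq_mul, show fl (w q) (w q) = 2 * δ from (hw q q).trans (if_pos rfl)] at h1
        exact (mul_eq_zero.1 h1).resolve_right hne
      · intro p _ hp
        rw [map_smul, smul_eq_mul, show fl (w q) (w p) = 0 from (hw p q).trans (if_neg hp), mul_zero]
      · intro h
        exact absurd (Finset.mem_univ q) h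
    refine ⟨basisOfLinearIndependentOfCardEqFinrank hli (by simp), 2 * δ, hne, fun a b => ?_⟩
    rw [coe_basisOfLinearIndependentOfCardEqFinrank]
    exact hw a b

/-- A form transvection x ↦ x + B(x,u) u in Sp. -/
noncomputable def sympTr (m : ℕ) (u : Fin m ⊕ Fin m → F) : Matrix.GeneralLinearGroup (Fin m ⊕ Fin m) F :=
  rankOne
    { toFun := fun x => Cfsg.sympForm m F x u
      map_add' := fun x y => sympForm_add_left m x y u
      map_smul' := fun c x => sympForm_smul_left m c x u } u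
    (by show (1 : F) + Cfsg.sympForm m F u u ≠ 0; rw [sympForm_self, add_zero]; exact one_ne_zero)

theorem sympTr_mulVec (m : ℕ) (u x : Fin m ⊕ Fin m → F) :
    (sympTr m u : Matrix (Fin m ⊕ Fin m) (Fin m ⊕ Fin m) F) *ᵥ x = x + Cfsg.sympForm m F x u • u :=
  rankOne_mulVec _ _ _ x

theorem sympTr_mem (m : ℕ) (u : Fin m ⊕ Fin m → F) : sympTr m u ∈ Cfsg.spGL m F := by
  intro x y
  show Cfsg.sympForm m F ((sympTr m u : Matrix (Fin m ⊕ Fin m) (Fin m ⊕ Fin m) F) *ᵥ x)
    ((sympTr m u : Matrix (Fin m ⊕ Fin m) (Fin m ⊕ Fin m) F) *ᵥ y) = Cfsg.sympForm m F x y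
  simp only [sympTr_mulVec, sympForm_add_left, sympForm_add_right, sympForm_smul_left, sympForm_smul_right,
    sympForm_self]
  rw [sympForm_swap m y u]
  ring

theorem symp_tensor_three_not_maximal (hq : Fintype.card F = 3) {m n₁ : ℕ} (hn₁ : 2 ≤ n₁)
    (e : (Fin m ⊕ Fin m) ≃ Fin n₁ × Fin 3) (P : Matrix.GeneralLinearGroup (Fin m ⊕ Fin m) F)
    (f₁ : (Fin n₁ → F) → (Fin n₁ → F) → F) (f₂ : (Fin 3 → F) → (Fin 3 → F) → F)
    (hf₁ : Cfsg.Geo.IsSymplecticForm f₁) (hf₂ : Cfsg.Geo.IsSymmetricForm f₂)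
    (hT : Cfsg.Geo.IsTensorFormStructure id (Cfsg.sympForm m F) f₁ f₂ e P) :
    ∃ K : Subgroup (Matrix.GeneralLinearGroup (Fin m ⊕ Fin m) F),
      Cfsg.Geo.tensorProductSubgroup n₁ 3 e P ⊓ Cfsg.spGL m F < K ∧ K < Cfsg.spGL m F := by
  classical
  set B := Cfsg.sympForm m F with hBdef
  obtain ⟨c, hc0, hT'⟩ := hT
  obtain ⟨u, ε, hε, hu⟩ := exists_scalar_orthogonal_basis hq f₂ hf₂
  obtain ⟨hadd, hsmul, hadd', hsmul'⟩ := hf₁.bilinear
  obtain ⟨hadd₂, hsmul₂, hadd₂', hsmul₂'⟩ := hf₂.bilinear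
  let L : (Fin 3 → F) → (Fin n₁ → F) →ₗ[F] (Fin m ⊕ Fin m → F) := fun y =>
    { toFun := fun x => pureTensor e P x y
      map_add' := fun a b => by
        simp only [pureTensor_apply]
        rw [← Matrix.mulVec_add]
        congr 1
        funext i
        simp [add_mul]
      map_smul' := fun k a => by rw [RingHom.id_apply, pureTensor_smul, map_smul] }
  have hL : ∀ x x' y y', B (L y x) (L y' x') = c * (f₁ x x' * f₂ y y') := fun x x' y y' => by
    show B (pureTensor e P x y) (pureTensor e P x' y') = _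
    rw [pureTensor_apply, pureTensor_apply, hT' (fun p => x p.1 * y p.2) (fun p => x' p.1 * y' p.2),
      formOfGram_kronecker _ (fun a b => rfl), formOfGram_gram id f₁ hadd hsmul hadd' hsmul',
      formOfGram_gram id f₂ hadd₂ hsmul₂ hadd₂' hsmul₂']
  let D : Fin 3 → Submodule F (Fin m ⊕ Fin m → F) := fun j => LinearMap.range (L (u j))
  let fl : (Fin 3 → F) → (Fin 3 → F) →ₗ[F] F := fun y =>
    { toFun := fun x => f₂ x y, map_add' := fun a b => hadd₂ a b y, map_smul' := fun k a => hsmul₂ k a y }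
  have hrepr : ∀ x j, f₂ x (u j) = u.repr x j * ε := fun x j => by
    have : fl (u j) = ε • u.coord j := u.ext fun i => by
      show f₂ (u i) (u j) = ε * u.repr (u i) j
      rw [hu, Basis.repr_self, Finsupp.single_apply]
      split_ifs <;> simp
    have h := LinearMap.congr_fun this x
    exact h.trans (mul_comm ε _)
  have hx0 : (Pi.single ⟨0, by omega⟩ 1 : Fin n₁ → F) ≠ 0 := by simp
  obtain ⟨-, y₀, hy₀⟩ := hf₁.nondegenerate _ hx0
  set x₀ : Fin n₁ → F := Pi.single ⟨0, by omega⟩ 1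
  have h3 : (3 : F) = 0 := by
    have := FiniteField.cast_card_eq_zero F
    rw [hq] at this
    exact_mod_cast this
  have hle : ∀ g ∈ Cfsg.Geo.tensorProductSubgroup n₁ 3 e P ⊓ Cfsg.spGL m F,
      g ∈ Cfsg.Geo.decompositionStabilizer D := by
    rintro g ⟨hg, hgU⟩
    obtain ⟨a, b, hab⟩ := tensor_mem_spec e P hg
    have hiso : ∀ x y, B ((g : Matrix (Fin m ⊕ Fin m) (Fin m ⊕ Fin m) F) *ᵥ x)
      ((g : Matrix (Fin m ⊕ Fin m) (Fin m ⊕ Fin m) F) *ᵥ y) = B x y := hgU
    have hab' : ∀ x y, (g : Matrix (Fin m ⊕ Fin m) (Fin m ⊕ Fin m) F) *ᵥ L y x =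
        L ((b : Matrix _ _ F) *ᵥ y) ((a : Matrix _ _ F) *ᵥ x) := fun x y => hab x y
    set μ' := f₁ ((a : Matrix _ _ F) *ᵥ x₀) ((a : Matrix _ _ F) *ᵥ y₀) with hμ'
    have hbsim : ∀ y y', f₂ ((b : Matrix _ _ F) *ᵥ y) ((b : Matrix _ _ F) *ᵥ y') * μ' = f₁ x₀ y₀ * f₂ y y' := by
      intro y y'
      have h := hiso (L y x₀) (L y' y₀)
      rw [hab', hab', hL, hL] at h
      exact (mul_comm _ _).trans (mul_left_cancel₀ hc0 h)
    have hμ0 : μ' ≠ 0 := by
      intro h
      have := hbsim (u 0) (u 0)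
      rw [h, mul_zero, hu, if_pos rfl] at this
      exact mul_ne_zero hy₀ hε this.symm
    set μ := f₁ x₀ y₀ / μ' with hμ
    have hsim : ∀ i j, ∑ k, u.repr ((b : Matrix _ _ F) *ᵥ u i) k * u.repr ((b : Matrix _ _ F) *ᵥ u j) k =
        if i = j then μ else 0 := by
      intro i j
      have h := hbsim (u i) (u j)
      have hexp : f₂ ((b : Matrix _ _ F) *ᵥ u i) ((b : Matrix _ _ F) *ᵥ u j) =
          ∑ k, u.repr ((b : Matrix _ _ F) *ᵥ u i) k * u.repr ((b : Matrix _ _ F) *ᵥ u j) k * ε := by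
        have h1 : ∀ y, f₂ ((b : Matrix _ _ F) *ᵥ u i) y = fl y ((b : Matrix _ _ F) *ᵥ u i) := fun y => rfl
        conv_lhs => rw [h1, ← u.sum_repr ((b : Matrix _ _ F) *ᵥ u i)]
        rw [map_sum]
        refine Finset.sum_congr rfl fun k _ => ?_
        rw [map_smul, smul_eq_mul, show fl ((b : Matrix _ _ F) *ᵥ u j) (u k) = f₂ ((b : Matrix _ _ F) *ᵥ u j) (u k) from
          hf₂.symm _ _, hrepr, mul_assoc]
      rw [hexp, hu, ← Finset.sum_mul] at h
      rw [hμ]
      by_cases hij : i = j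
      · rw [if_pos hij] at h ⊢
        field_simp
        exact mul_left_cancel₀ hε (by linear_combination h)
      · rw [if_neg hij, mul_zero] at h
        rw [if_neg hij]
        exact (mul_eq_zero.1 ((mul_eq_zero.1 h).resolve_right hμ0)).resolve_right hε
    have hμ0' : μ ≠ 0 := div_ne_zero hy₀ hμ0
    have hμ1 : μ = 1 := by
      let C : Matrix (Fin 3) (Fin 3) F := Matrix.of fun i k => u.repr ((b : Matrix _ _ F) *ᵥ u i) k
      have hC : C * Cᵀ = μ • 1 := by
        ext i j
        simp only [Matrix.mul_apply, Matrix.transpose_apply, C, Matrix.of_apply, hsim, Matrix.smul_apply, Matrix.one_apply, smul_eq_mul]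
        split_ifs <;> simp
      have hd := congrArg Matrix.det hC
      rw [Matrix.det_mul, Matrix.det_transpose, Matrix.det_smul, Matrix.det_one, Fintype.card_fin, mul_one] at hd
      have hd0 : C.det ≠ 0 := by
        intro h
        rw [h, mul_zero] at hd
        exact pow_ne_zero 3 hμ0' hd.symm
      have h2 : ∀ x : F, x ≠ 0 → x * x = 1 := fun x hx => by
        rcases eq_one_or_two hq x hx with rfl | rfl
        · ring
        · linear_combination h3
      rw [h2 _ hd0, pow_succ, pow_two, h2 _ hμ0', one_mul] at hd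
      exact hd.symm
    have hline : ∀ i, ∃ k, ∃ r : F, r ≠ 0 ∧ (b : Matrix _ _ F) *ᵥ u i = r • u k := by
      intro i
      have h := hsim i i
      rw [if_pos rfl, hμ1, Fin.sum_univ_three] at h
      have hs := u.sum_repr ((b : Matrix _ _ F) *ᵥ u i)
      rw [Fin.sum_univ_three] at hs
      generalize u.repr ((b : Matrix _ _ F) *ᵥ u i) 0 = r0 at h hs
      generalize u.repr ((b : Matrix _ _ F) *ᵥ u i) 1 = r1 at h hs
      generalize u.repr ((b : Matrix _ _ F) *ᵥ u i) 2 = r2 at h hs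
      have h2 : ∀ x : F, x ≠ 0 → x * x = 1 := fun x hx => by
        rcases eq_one_or_two hq x hx with rfl | rfl
        · ring
        · linear_combination h3
      by_cases e0 : r0 = 0 <;> by_cases e1 : r1 = 0 <;> by_cases e2 : r2 = 0
      · simp [e0, e1, e2] at h
      · exact ⟨2, r2, e2, by rw [← hs, e0, e1]; simp⟩
      · exact ⟨1, r1, e1, by rw [← hs, e0, e2]; simp⟩
      · rw [e0, h2 _ e1, h2 _ e2] at h
        exact absurd (by linear_combination h : (1 : F) = 0) one_ne_zero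
      · exact ⟨0, r0, e0, by rw [← hs, e1, e2]; simp⟩
      · rw [e1, h2 _ e0, h2 _ e2] at h
        exact absurd (by linear_combination h : (1 : F) = 0) one_ne_zero
      · rw [e2, h2 _ e0, h2 _ e1] at h
        exact absurd (by linear_combination h : (1 : F) = 0) one_ne_zero
      · rw [h2 _ e0, h2 _ e1, h2 _ e2] at h
        exact absurd (by linear_combination h3 - h : (1 : F) = 0) one_ne_zero
    choose π r hr hπ using hline
    have hinj : Function.Injective π := by
      intro p q hpq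
      by_contra hne
      have := hsim p q
      rw [hπ, hπ, hpq, if_neg hne] at this
      simp [Finsupp.single_apply] at this
      exact this.elim (hr p) (hr q)
    refine ⟨Equiv.ofBijective π (Finite.injective_iff_bijective.1 hinj), fun j => ?_⟩
    show (LinearMap.range (L (u j))).map _ = LinearMap.range (L (u (π j)))
    have key : ∀ x, (g : Matrix (Fin m ⊕ Fin m) (Fin m ⊕ Fin m) F) *ᵥ L (u j) x =
        L (u (π j)) (r j • ((a : Matrix _ _ F) *ᵥ x)) := fun x => by
      rw [hab', hπ]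
      show pureTensor e P _ (r j • u (π j)) = pureTensor e P (r j • _) (u (π j))
      rw [pureTensor_smul]
    refine le_antisymm ?_ ?_
    · rintro _ ⟨_, ⟨x, rfl⟩, rfl⟩
      exact ⟨_, (key x).symm.trans (Matrix.toLin'_apply _ _).symm⟩
    · rintro _ ⟨y, rfl⟩
      refine ⟨_, ⟨((a⁻¹ : Matrix.GeneralLinearGroup (Fin n₁) F) : Matrix _ _ F) *ᵥ ((r j)⁻¹ • y), rfl⟩, ?_⟩
      rw [Matrix.toLin'_apply, key, Matrix.mulVec_mulVec, ← Units.val_mul, mul_inv_cancel, Units.val_one,
        Matrix.one_mulVec, smul_smul, mul_inv_cancel₀ (hr j), one_smul]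
  -- w, x with f₁ x w ≠ 0
  have hxy : f₁ y₀ x₀ ≠ 0 := by rw [hf₁.skew]; exact neg_ne_zero.2 hy₀
  have hu01 : f₂ (u 0) (u 1) = 0 := by rw [hu, if_neg (by decide)]
  have hu00 : f₂ (u 0) (u 0) = ε := by rw [hu, if_pos rfl]
  have hnomul : ∀ k : F, y₀ ≠ k • x₀ := fun k hk => hxy (by rw [hk, hsmul, hf₁.alternating, mul_zero])
  refine ⟨Cfsg.Geo.decompositionStabilizer D ⊓ Cfsg.spGL m F,
    lt_of_le_of_ne (le_inf hle inf_le_right) fun heq => ?_, lt_of_le_of_ne inf_le_right fun heq => ?_⟩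
  · set w := L (u 0) x₀ with hw
    set T := sympTr m w with hTdef
    have happ : ∀ x, (T : Matrix (Fin m ⊕ Fin m) (Fin m ⊕ Fin m) F) *ᵥ x = x + B x w • w := sympTr_mulVec m w
    have hfix : ∀ j, j ≠ 0 → ∀ x, (T : Matrix (Fin m ⊕ Fin m) (Fin m ⊕ Fin m) F) *ᵥ L (u j) x = L (u j) x :=
      fun j hj x => by rw [happ, hw, hL, hu, if_neg hj, mul_zero, mul_zero, zero_smul, add_zero]
    have hk0 : ∀ x, (T : Matrix (Fin m ⊕ Fin m) (Fin m ⊕ Fin m) F) *ᵥ L (u 0) x =
        L (u 0) (x + (c * (f₁ x x₀ * ε)) • x₀) := fun x => by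
      rw [happ, hw, hL, hu00, map_add, map_smul]
    have hstab : T ∈ Cfsg.Geo.decompositionStabilizer D := by
      refine ⟨1, fun j => ?_⟩
      have hsub : ∀ x, (T : Matrix (Fin m ⊕ Fin m) (Fin m ⊕ Fin m) F) *ᵥ L (u j) x ∈ D j := fun x => by
        rcases eq_or_ne j 0 with rfl | hj
        · rw [hk0]; exact ⟨_, rfl⟩
        · rw [hfix j hj]; exact ⟨_, rfl⟩
      refine le_antisymm ?_ ?_
      · rintro _ ⟨_, ⟨x, rfl⟩, rfl⟩
        rw [Matrix.toLin'_apply]
        exact hsub x
      · rintro _ ⟨x, rfl⟩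
        refine ⟨L (u j) x - B (L (u j) x) w • w, ?_, ?_⟩
        · rcases eq_or_ne j 0 with rfl | hj
          · exact Submodule.sub_mem _ ⟨_, rfl⟩ (Submodule.smul_mem _ _ ⟨_, rfl⟩)
          · rw [hw, hL, hu, if_neg hj, mul_zero, mul_zero, zero_smul, sub_zero]
            exact ⟨_, rfl⟩
        · rw [Matrix.toLin'_apply, Matrix.mulVec_sub, Matrix.mulVec_smul, happ, happ w]
          rw [show B w w = 0 from sympForm_self m w, zero_smul, add_zero, add_sub_cancel_right]
          simp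
    obtain ⟨a, b, hab⟩ := tensor_mem_spec e P (heq.ge ⟨hstab, sympTr_mem m w⟩).1
    obtain ⟨i, hi⟩ : ∃ i, u 1 i ≠ 0 := Function.ne_iff.1 (u.ne_zero 1)
    obtain ⟨i', hi'⟩ : ∃ i, u 0 i ≠ 0 := Function.ne_iff.1 (u.ne_zero 0)
    have e1 : ∀ x k, x k * u 1 i = ((a : Matrix _ _ F) *ᵥ x) k * ((b : Matrix _ _ F) *ᵥ u 1) i := fun x k =>
      pureTensor_eq e P ((hfix 1 (by decide) x).symm.trans (hab _ _)) k i
    have e0 : ∀ x k, (x + (c * (f₁ x x₀ * ε)) • x₀) k * u 0 i' =
        ((a : Matrix _ _ F) *ᵥ x) k * ((b : Matrix _ _ F) *ᵥ u 0) i' := fun x k =>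
      pureTensor_eq e P ((hk0 x).symm.trans (hab _ _)) k i'
    have hb1 : ((b : Matrix _ _ F) *ᵥ u 1) i ≠ 0 := fun h0 => by
      have := e1 x₀ ⟨0, by omega⟩
      rw [h0, mul_zero] at this
      simp [x₀, hi] at this
    set ρ := u 1 i / ((b : Matrix _ _ F) *ᵥ u 1) i * ((b : Matrix _ _ F) *ᵥ u 0) i' / u 0 i' with hρ
    have hprop : y₀ + (c * (f₁ y₀ x₀ * ε)) • x₀ = ρ • y₀ := funext fun k => by
      refine mul_right_cancel₀ hi' ?_
      rw [Pi.smul_apply, smul_eq_mul, e0, hρ]
      field_simp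
      linear_combination (-((b : Matrix _ _ F) *ᵥ u 0) i') * e1 y₀ k
    have h4 := congrArg (fun x => f₁ x x₀) hprop
    simp only [hadd, hsmul, hf₁.alternating, mul_zero, add_zero] at h4
    rw [mul_right_cancel₀ hxy (h4.symm.trans (one_mul _).symm), one_smul, add_eq_left, smul_eq_zero] at hprop
    rcases hprop with h | h
    · exact mul_ne_zero hc0 (mul_ne_zero hxy hε) h
    · exact hx0 h
  · set w := L (u 0) x₀ + L (u 1) x₀ with hw
    obtain ⟨σ, hσ⟩ := (heq.ge (sympTr_mem m w)).1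
    have hmem : L (u 0) y₀ + (c * (f₁ y₀ x₀ * ε)) • w ∈ D (σ 0) := by
      rw [← hσ 0]
      refine ⟨L (u 0) y₀, ⟨_, rfl⟩, ?_⟩
      rw [Matrix.toLin'_apply, sympTr_mulVec]
      congr 2
      rw [hw, sympForm_add_right, ← hBdef, hL, hL, hu00, hu01, mul_zero, mul_zero, add_zero]
    obtain ⟨z, hz⟩ := hmem
    have e1 := congrArg (fun t => B t (L (u 1) y₀)) hz
    have e0 := congrArg (fun t => B t (L (u 0) x₀)) hz
    simp only [hBdef, sympForm_add_left, sympForm_smul_left, hw] at e1 e0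
    simp only [← hBdef, hL, hu] at e1 e0
    by_cases h0 : σ 0 = 0
    · simp [h0, hε, hc0, hy₀, hxy] at e1
    · simp [h0, hε, hc0, hy₀, hxy, hf₁.alternating] at e0

end CfsgLib.Geo
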