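/-
Moving elements into normalisers of absolutely irreducible groups: linear conjugacy suffices.
-/
import Cfsg.Agent.Lib.Classical.ClassTheory.GUSemisimple
import Cfsg.Agent.Lib.Known.SemisimpleDet
import Cfsg.Agent.Lib.Geo.Asch.Forms
import Cfsg.Agent.Lib.Geo.Asch.SUTools
import Cfsg.Agent.Lib.Geo.Asch.UnitNine

set_option autoImplicit false

namespace CfsgLib.Geo.ExtraConj

open Matrix Cfsg.Geo

variable {n : ℕ} {F : Type*} [Field F]

theorem det_val_eq_one {x : GL (Fin n) F} (hx : x ∈ specialLinear (Fin n) F) :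
    (x : Matrix (Fin n) (Fin n) F).det = 1 := by
  have h := congrArg Units.val (MonoidHom.mem_ker.1 hx)
  simpa [Matrix.GeneralLinearGroup.val_det_apply] using h

theorem mem_specialLinear_of_det {x : GL (Fin n) F} (hx : (x : Matrix (Fin n) (Fin n) F).det = 1) :
    x ∈ specialLinear (Fin n) F := MonoidHom.mem_ker.2 (Units.ext hx)

theorem det_eq_of_isConj {x y : GL (Fin n) F} (hc : IsConj x y) :
    (x : Matrix (Fin n) (Fin n) F).det = (y : Matrix (Fin n) (Fin n) F).det := by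
  obtain ⟨c, rfl⟩ := isConj_iff.1 hc
  rw [Units.val_mul, Units.val_mul, det_mul, det_mul, mul_right_comm, ← det_mul, Units.mul_inv, det_one, one_mul]

/-- In the special linear group conjugacy of semisimple elements is linear conjugacy. -/
theorem sl_conj [Fintype F] {p : ℕ} [Fact p.Prime] [CharP F p] {x y : GL (Fin n) F}
    (hox : (orderOf x).Coprime p) (hc : IsConj x y) :
    ∃ g ∈ specialLinear (Fin n) F, g⁻¹ * x * g = y := by
  obtain ⟨c, hc⟩ := isConj_iff.1 hc
  obtain ⟨h, hd, hh⟩ := CfsgLib.Known.SemisimpleDet.exists_conj_det_one (p := p) x c hox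
  exact ⟨h⁻¹, Subgroup.inv_mem _ (mem_specialLinear_of_det hd), by rw [inv_inv, hh, hc]⟩

/-- An element of the linear normaliser conjugate to a given semisimple element. -/
theorem sl_move [Fintype F] {p : ℕ} [Fact p.Prime] [CharP F p] {N : Subgroup (GL (Fin n) F)} {x y : GL (Fin n) F}
    (hox : (orderOf x).Coprime p) (hy : y ∈ N) (hc : IsConj x y) :
    ∃ g ∈ specialLinear (Fin n) F, g⁻¹ * x * g ∈ N := by
  obtain ⟨g, hg, e⟩ := sl_conj (p := p) hox hc
  exact ⟨g, hg, by rwa [e]⟩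

section Unitary

variable [Fintype F] {q : ℕ} (hF : Fintype.card F = q ^ 2)

include hF in
/-- In the special unitary group conjugacy of semisimple elements is linear conjugacy. -/
theorem su_conj {p : ℕ} [Fact p.Prime] [CharP F p] {x y : GL (Fin n) F}
    (hx : x ∈ Cfsg.GU n F q ⊓ specialLinear (Fin n) F) (hy : y ∈ Cfsg.GU n F q)
    (hox : (orderOf x).Coprime p) (hc : IsConj x y) :
    ∃ g ∈ Cfsg.GU n F q ⊓ specialLinear (Fin n) F, g⁻¹ * x * g = y := by
  classical
  have hdy : (y : Matrix (Fin n) (Fin n) F).det = 1 := by rw [← det_eq_of_isConj hc, det_val_eq_one hx.2]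
  obtain ⟨a, ha⟩ := (CfsgLib.Classical.ClassTheory.range_suGU ⟨x, hx.1⟩).2 (Units.ext (det_val_eq_one hx.2))
  obtain ⟨b, hb⟩ := (CfsgLib.Classical.ClassTheory.range_suGU ⟨y, hy⟩).2 (Units.ext hdy)
  have ho : ∀ u, orderOf (CfsgLib.Classical.ClassTheory.suGU n F q u) = orderOf u :=
    orderOf_injective _ CfsgLib.Classical.ClassTheory.suGU_injective
  have hox' : (orderOf a).Coprime p := by rw [← ho, ha, ← Subgroup.orderOf_coe]; exact hox
  have hoy' : (orderOf b).Coprime p := by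
    rw [← ho, hb, ← Subgroup.orderOf_coe]
    obtain ⟨c, hc⟩ := isConj_iff.1 hc
    show (orderOf y).Coprime p
    rw [show orderOf y = orderOf (MulAut.conj c x) from congrArg orderOf hc.symm, MulEquiv.orderOf_eq]
    exact hox
  obtain ⟨c, hcc⟩ := isConj_iff.1 (CfsgLib.Classical.ClassTheory.su_isConj_of_charpoly hF (p := p) a b hox' hoy'
    (by rw [ha, hb]; exact CfsgLib.Classical.ClassTheory.charpoly_eq_of_isConj hc))
  set C := CfsgLib.Classical.ClassTheory.suGU n F q c
  have hC : (C : GL (Fin n) F) ∈ Cfsg.GU n F q ⊓ specialLinear (Fin n) F :=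
    ⟨C.2, mem_specialLinear_of_det (c : Matrix.SpecialLinearGroup (Fin n) F).det_coe⟩
  have e := congrArg (fun u => ((CfsgLib.Classical.ClassTheory.suGU n F q u : Cfsg.GU n F q) : GL (Fin n) F)) hcc
  simp only [map_mul, map_inv, ha, hb, Subgroup.coe_mul, Subgroup.coe_inv] at e
  exact ⟨_, Subgroup.inv_mem _ hC, by rw [inv_inv]; exact e⟩

include hF in
/-- An element of the unitary normaliser linearly conjugate to a given semisimple element. -/
theorem su_move {p : ℕ} [Fact p.Prime] [CharP F p] {N : Subgroup (GL (Fin n) F)} {x y : GL (Fin n) F}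
    (hx : x ∈ Cfsg.GU n F q ⊓ specialLinear (Fin n) F)
    (hox : (orderOf x).Coprime p) (hy : y ∈ N) (hyU : y ∈ Cfsg.GU n F q) (hc : IsConj x y) :
    ∃ g ∈ Cfsg.GU n F q ⊓ specialLinear (Fin n) F, g⁻¹ * x * g ∈ N := by
  obtain ⟨g, hg, e⟩ := su_conj hF (p := p) hx hyU hox hc
  exact ⟨g, hg, by rwa [e]⟩

include hF in
/-- The normaliser of an absolutely irreducible unitary group consists of unitary similitudes. -/
theorem exists_multiplier (hn : 1 ≤ n) {σ : F ≃+* F} (hq : CfsgLib.Geo.Asch.IsQPow σ q)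
    {R : Subgroup (GL (Fin n) F)} (hR : ActsAbsolutelyIrreducibly (matrixSet R)) (hRU : R ≤ Cfsg.GU n F q)
    {y : GL (Fin n) F} (hy : y ∈ subgroupNormalizer R) :
    ∃ c : F, σ c = c ∧ (y : Matrix (Fin n) (Fin n) F)ᵀ * (y : Matrix (Fin n) (Fin n) F).map σ = c • 1 := by
  haveI : Nonempty (Fin n) := ⟨⟨0, hn⟩⟩
  have hf := CfsgLib.Geo.Asch.isUnitaryForm_hermForm (n := n) hq
  obtain ⟨c, hc⟩ := CfsgLib.Geo.Asch.le_similarityGroup (H := subgroupNormalizer R)
    (fun h hh x hx => (Subgroup.mem_normalizer_iff.1 hh x).1 hx) hR (CfsgLib.Geo.Asch.isSesqForm_of_unitary hf)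
    hf.nondegenerate (CfsgLib.Geo.Asch.fixesForm_of_le_GU hRU) hy
  have key : (y : Matrix (Fin n) (Fin n) F)ᵀ * (y : Matrix (Fin n) (Fin n) F).map σ = (c : F) • 1 := by
    ext i j
    have h := hc (Pi.single i 1) (Pi.single j 1)
    rw [CfsgLib.Geo.Asch.hermForm_eq hq, CfsgLib.Geo.Asch.hermForm_eq hq] at h
    rw [mul_apply, Matrix.smul_apply, one_apply]
    simpa [Pi.single_apply, eq_comm] using h
  refine ⟨c, ?_, key⟩
  have h2 := congrArg (fun M : Matrix (Fin n) (Fin n) F => Mᵀ.map σ) key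
  simp only [transpose_mul, transpose_transpose, Matrix.map_mul, Matrix.map_map] at h2
  have hMM : ((y : Matrix (Fin n) (Fin n) F).map σ)ᵀ.map σ = (y : Matrix (Fin n) (Fin n) F)ᵀ := by
    ext i j; exact hq.involutive _
  rw [hMM, key] at h2
  have h3 := congrFun₂ h2 ⟨0, hn⟩ ⟨0, hn⟩
  simpa using h3.symm

include hF in
/-- In odd degree prime to `q - 1` the determinant-one part of the normaliser is unitary. -/
theorem mem_GU_of_det (hn : 1 ≤ n) (hco : n.Coprime (q - 1)) {σ : F ≃+* F} (hq : CfsgLib.Geo.Asch.IsQPow σ q)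
    {R : Subgroup (GL (Fin n) F)} (hR : ActsAbsolutelyIrreducibly (matrixSet R)) (hRU : R ≤ Cfsg.GU n F q)
    {y : GL (Fin n) F} (hy : y ∈ subgroupNormalizer R) (hdet : (y : Matrix (Fin n) (Fin n) F).det = 1) :
    y ∈ Cfsg.GU n F q := by
  obtain ⟨c, hcσ, hc⟩ := exists_multiplier hF hn hq hR hRU hy
  have hd := congrArg Matrix.det hc
  have hσd : ((y : Matrix (Fin n) (Fin n) F).map σ).det = 1 := by
    rw [show (y : Matrix (Fin n) (Fin n) F).map σ = σ.toRingHom.mapMatrix (y : Matrix (Fin n) (Fin n) F) from rfl,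
      ← RingHom.map_det, hdet, map_one]
  rw [det_mul, det_transpose, hdet, hσd, one_mul, det_smul, det_one, mul_one, Fintype.card_fin] at hd
  have hc0 : c ≠ 0 := by rintro rfl; rw [zero_pow (by omega)] at hd; exact one_ne_zero hd
  have hcq : c ^ (q - 1) = 1 := by
    have h1 : c ^ q = c := by rw [← hq.eq_pow, hcσ]
    have hq1 := CfsgLib.Geo.Asch.IsQPow.one_lt (F := F) hF
    apply mul_right_cancel₀ hc0
    rw [← pow_succ, show q - 1 + 1 = q by omega, h1, one_mul]
  have hc1 : c = 1 := by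
    have h := pow_gcd_eq_one.2 ⟨hd.symm, hcq⟩
    rwa [hco, pow_one] at h
  rw [hc1, one_smul] at hc
  exact CfsgLib.Geo.Asch.mem_GU_of_mul hq hc

include hF in
/-- A normalising element conjugate to a unitary element of non-zero trace, with multiplier of square one, is
unitary. -/
theorem mem_GU_of_trace (hn : 1 ≤ n) {σ : F ≃+* F} (hq : CfsgLib.Geo.Asch.IsQPow σ q)
    {R : Subgroup (GL (Fin n) F)} (hR : ActsAbsolutelyIrreducibly (matrixSet R)) (hRU : R ≤ Cfsg.GU n F q)
    {x y : GL (Fin n) F} (hx : x ∈ Cfsg.GU n F q) (hy : y ∈ subgroupNormalizer R) (hxy : IsConj x y)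
    (htr : (x : Matrix (Fin n) (Fin n) F).trace ≠ 0) : y ∈ Cfsg.GU n F q := by
  obtain ⟨c, -, hc⟩ := exists_multiplier hF hn hq hR hRU hy
  have htx : σ (x : Matrix (Fin n) (Fin n) F).trace = ((x⁻¹ : GL (Fin n) F) : Matrix (Fin n) (Fin n) F).trace := by
    have h1 : (x : Matrix (Fin n) (Fin n) F)ᵀ * (x : Matrix (Fin n) (Fin n) F).map σ = 1 := by
      ext i j
      have h : Cfsg.hermForm n F q ((x : Matrix (Fin n) (Fin n) F) *ᵥ Pi.single i 1)
          ((x : Matrix (Fin n) (Fin n) F) *ᵥ Pi.single j 1) = Cfsg.hermForm n F q (Pi.single i 1) (Pi.single j 1) :=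
        hx _ _
      rw [CfsgLib.Geo.Asch.hermForm_eq hq, CfsgLib.Geo.Asch.hermForm_eq hq] at h
      rw [mul_apply, one_apply]
      simpa [Pi.single_apply, eq_comm] using h
    have h2 : ((x⁻¹ : GL (Fin n) F) : Matrix (Fin n) (Fin n) F)ᵀ = (x : Matrix (Fin n) (Fin n) F).map σ := by
      have e : ((x⁻¹ : GL (Fin n) F) : Matrix (Fin n) (Fin n) F)ᵀ * (x : Matrix (Fin n) (Fin n) F)ᵀ = 1 := by
        rw [← transpose_mul, ← Units.val_mul, mul_inv_cancel, Units.val_one, transpose_one]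
      calc _ = ((x⁻¹ : GL (Fin n) F) : Matrix (Fin n) (Fin n) F)ᵀ *
            ((x : Matrix (Fin n) (Fin n) F)ᵀ * (x : Matrix (Fin n) (Fin n) F).map σ) := by rw [h1, mul_one]
        _ = _ := by rw [← mul_assoc, e, one_mul]
    rw [← trace_transpose ((x⁻¹ : GL (Fin n) F) : Matrix (Fin n) (Fin n) F), h2]
    simp [trace, map_sum]
  obtain ⟨g, hg⟩ := isConj_iff.1 hxy
  have hty : ∀ a b : GL (Fin n) F, ((g * a * g⁻¹ : GL (Fin n) F) : Matrix (Fin n) (Fin n) F).trace = (a : Matrix (Fin n) (Fin n) F).trace := by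
    intro a _
    rw [Units.val_mul, Units.val_mul, trace_mul_cycle, ← Units.val_mul, inv_mul_cancel, Units.val_one, one_mul]
  have hy1 : (y : Matrix (Fin n) (Fin n) F).trace = (x : Matrix (Fin n) (Fin n) F).trace := by
    rw [← hg]; exact hty x x
  have hy2 : ((y⁻¹ : GL (Fin n) F) : Matrix (Fin n) (Fin n) F).trace = ((x⁻¹ : GL (Fin n) F) : Matrix (Fin n) (Fin n) F).trace := by
    rw [← hg, show (g * x * g⁻¹)⁻¹ = g * x⁻¹ * g⁻¹ by group]; exact hty _ x
  have h2 : (y : Matrix (Fin n) (Fin n) F).map σ = c • ((y⁻¹ : GL (Fin n) F) : Matrix (Fin n) (Fin n) F)ᵀ := by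
    have e : ((y⁻¹ : GL (Fin n) F) : Matrix (Fin n) (Fin n) F)ᵀ * (y : Matrix (Fin n) (Fin n) F)ᵀ = 1 := by
      rw [← transpose_mul, ← Units.val_mul, mul_inv_cancel, Units.val_one, transpose_one]
    calc _ = ((y⁻¹ : GL (Fin n) F) : Matrix (Fin n) (Fin n) F)ᵀ *
          ((y : Matrix (Fin n) (Fin n) F)ᵀ * (y : Matrix (Fin n) (Fin n) F).map σ) := by
            rw [← mul_assoc, e, one_mul]
      _ = _ := by rw [hc, Matrix.mul_smul, mul_one]
  have h3 := congrArg Matrix.trace h2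
  rw [trace_smul, trace_transpose, hy2, ← htx, show ((y : Matrix (Fin n) (Fin n) F).map σ).trace =
    σ (y : Matrix (Fin n) (Fin n) F).trace by simp [trace, map_sum], hy1, smul_eq_mul] at h3
  have hc1 : c = 1 := by
    have hne : σ (x : Matrix (Fin n) (Fin n) F).trace ≠ 0 := fun e => htr (σ.injective (by rw [e, map_zero]))
    exact (mul_eq_right₀ hne).1 h3.symm
  rw [hc1, one_smul] at hc
  exact CfsgLib.Geo.Asch.mem_GU_of_mul hq hc

end Unitary

end CfsgLib.Geo.ExtraConj
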