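/-
Matrices killed by a split separable polynomial are diagonalisable over the ground field.
-/
import Mathlib

set_option autoImplicit false

namespace CfsgLib.Geo.SplitDiag

open Matrix Polynomial

variable {F : Type*} [Field F] {ι : Type*} [Fintype ι] [DecidableEq ι]

theorem exists_diag (M : Matrix ι ι F) (S : Finset F) (hS : S.Nonempty)
    (hM : aeval M (∏ s ∈ S, (X - C s)) = 0) :
    ∃ (g : GL ι F) (d : ι → F), (∀ i, d i ∈ S) ∧
      M * (g : Matrix ι ι F) = (g : Matrix ι ι F) * diagonal d := by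
  classical
  let E : Set (ι → F) := {v | ∃ s ∈ S, M *ᵥ v = s • v}
  have hspan : ⊤ ≤ Submodule.span F E := by
    intro v _
    have h1 : v = ∑ j ∈ S, (aeval M (Lagrange.basis S id j)) *ᵥ v := by
      rw [← Matrix.sum_mulVec, ← map_sum, Lagrange.sum_basis Function.injective_id.injOn hS, map_one, one_mulVec]
    rw [h1]
    refine Submodule.sum_mem _ fun j hj => Submodule.subset_span ⟨j, hj, ?_⟩
    have hdvd : (∏ s ∈ S, (X - C s)) ∣ (X - C j) * Lagrange.basis S id j := by
      refine Finset.prod_dvd_of_coprime (fun a _ b _ hab => pairwise_coprime_X_sub_C Function.injective_id hab) ?_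
      intro s hs
      rw [dvd_iff_isRoot, IsRoot.def, eval_mul]
      by_cases h : s = j
      · subst h; simp
      · have := Lagrange.eval_basis_of_ne (v := (id : F → F)) (i := j) (j := s) (Ne.symm h) hs
        simp only [id_eq] at this
        rw [this, mul_zero]
    obtain ⟨c, hc⟩ := hdvd
    have h2 : (M - j • 1) * aeval M (Lagrange.basis S id j) = 0 := by
      have := congrArg (aeval M) hc
      rw [map_mul, map_mul, hM, zero_mul, map_sub, aeval_X, aeval_C, Algebra.algebraMap_eq_smul_one] at this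
      exact this
    rw [mulVec_mulVec]
    rw [sub_mul, smul_mul_assoc, one_mul, sub_eq_zero] at h2
    rw [h2, smul_mulVec]
  let B := Module.Basis.ofSpan hspan
  let b := B.reindex (B.indexEquiv (Pi.basisFun F ι))
  have hb : ∀ i, ∃ s ∈ S, M *ᵥ (b i) = s • b i := by
    intro i
    simp only [b, Module.Basis.reindex_apply]
    exact Module.Basis.ofSpan_subset hspan (Set.mem_range_self _)
  choose d hdS hd using hb
  let P : Matrix ι ι F := (Pi.basisFun F ι).toMatrix b
  have hP : ∀ i j, P i j = b j i := fun i j => by simp [P, Module.Basis.toMatrix_apply]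
  let g : GL ι F := ⟨P, b.toMatrix (Pi.basisFun F ι), Module.Basis.toMatrix_mul_toMatrix_flip _ _,
    Module.Basis.toMatrix_mul_toMatrix_flip _ _⟩
  refine ⟨g, d, hdS, ?_⟩
  ext i j
  show (M * P) i j = (P * diagonal d) i j
  rw [mul_diagonal, hP, mul_apply]
  have := congrFun (hd j) i
  simpa [mulVec, dotProduct, hP, mul_comm] using this

/-- Conjugacy form. -/
theorem exists_conj_diag (x : GL ι F) (S : Finset F) (hS : S.Nonempty)
    (hM : aeval (x : Matrix ι ι F) (∏ s ∈ S, (X - C s)) = 0) :
    ∃ (D : GL ι F) (d : ι → F), IsConj x D ∧ (D : Matrix ι ι F) = diagonal d ∧ (∀ i, d i ∈ S) := by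
  obtain ⟨g, d, hd, hg⟩ := exists_diag (x : Matrix ι ι F) S hS hM
  refine ⟨g⁻¹ * x * g, d, isConj_iff.2 ⟨g⁻¹, by rw [inv_inv]⟩, ?_, hd⟩
  rw [Units.val_mul, Units.val_mul, mul_assoc, hg, ← mul_assoc, Units.inv_mul, one_mul]

end CfsgLib.Geo.SplitDiag
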