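/-
Normalisers of extraspecial groups of order 27 in three-dimensional groups and elements of prime order.
-/
import Cfsg.Agent.Lib.Geo.ExtraspecialConj
import Cfsg.Agent.Lib.Geo.SplitDiag
import Cfsg.Agent.Lib.Classical.LinearOrder
import Cfsg.Agent.Lib.Classical.Unitary.Matrix

set_option autoImplicit false

namespace CfsgLib.Geo.Extra27

open Matrix Polynomial Cfsg.Geo
open scoped commutatorElement

variable {F : Type*} [Field F]

local notation "M3" => Matrix (Fin 3) (Fin 3) F

/-- The diagonal generator. -/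
def amat (l : F) : M3 := diagonal ![1, l, l ^ 2]

/-- The cyclic generator. -/
def bmat : M3 := !![0, 0, 1; 1, 0, 0; 0, 1, 0]

/-- The inverting involution. -/
def jmat : M3 := !![-1, 0, 0; 0, 0, -1; 0, -1, 0]

theorem det_bmat : (bmat : M3).det = 1 := by
  simp [bmat, det_fin_three]

theorem det_amat {l : F} (hl : l ^ 3 = 1) : (amat l).det = 1 := by
  simp [amat, Fin.prod_univ_three]
  rw [← hl]; ring

theorem det_jmat : (jmat : M3).det = 1 := by
  simp [jmat, det_fin_three]

theorem mem_normalizer_of_gen {G : Type*} [Group G] (R : Subgroup G) [Finite R] {a b w : G}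
    (hR : R = Subgroup.closure {a, b}) (ha : w * a * w⁻¹ ∈ R) (hb : w * b * w⁻¹ ∈ R) :
    w ∈ Subgroup.normalizer (R : Set G) := by
  have hle : R.map (MulAut.conj w).toMonoidHom ≤ R := by
    conv_lhs => rw [hR]
    rw [MonoidHom.map_closure, Subgroup.closure_le]
    rintro _ ⟨g, rfl | rfl, rfl⟩
    · exact ha
    · exact hb
  have heq : R.map (MulAut.conj w).toMonoidHom = R := Subgroup.eq_of_le_of_card_ge hle
    (le_of_eq (Nat.card_congr ((R.equivMapOfInjective _ (MulAut.conj w).injective).toEquiv)))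
  refine Subgroup.mem_normalizer_iff.2 fun g => ⟨fun hg => hle ⟨g, hg, rfl⟩, fun hg => ?_⟩
  rw [← heq] at hg
  obtain ⟨u, hu, hu'⟩ := hg
  rwa [← (MulAut.conj w).injective hu']

theorem eq_pow_of_cube {l x : F} (hl : IsPrimitiveRoot l 3) (hx : x ^ 3 = 1) : ∃ i, i < 3 ∧ l ^ i = x :=
  hl.eq_pow_of_pow_eq_one hx

/-- Coordinates: `R` is the Heisenberg group in the basis `g`. -/
structure Heis (R : Subgroup (GL (Fin 3) F)) where
  g : GL (Fin 3) F
  lam : F
  prim : IsPrimitiveRoot lam 3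
  a : GL (Fin 3) F
  b : GL (Fin 3) F
  ha : (a : M3) = (g : M3) * amat lam * ((g⁻¹ : GL (Fin 3) F) : M3)
  hb : (b : M3) = (g : M3) * bmat * ((g⁻¹ : GL (Fin 3) F) : M3)
  aR : a ∈ R
  bR : b ∈ R
  scal : ∀ c : GL (Fin 3) F, (c : M3) = lam • (1 : M3) → c ∈ R
  gen : R = Subgroup.closure {a, b}

theorem exists_heis {l₀ : F} (hl₀ : IsPrimitiveRoot l₀ 3) (h3 : (3 : F) ≠ 0) (R : Subgroup (GL (Fin 3) F))
    (hR : Nat.card R = 27) (hRe : Monoid.exponent R = 3) (hRna : ¬ IsMulCommutative R) : Nonempty (Heis R) := by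
  classical
  haveI : Finite R := Nat.finite_of_card_ne_zero (by omega)
  haveI : Fact (Nat.Prime 3) := ⟨Nat.prime_three⟩
  have hpow : ∀ x ∈ R, x ^ 3 = 1 := fun x hx => by
    have h := Monoid.pow_exponent_eq_one (⟨x, hx⟩ : R)
    rw [hRe] at h
    exact congrArg Subtype.val h
  have hpG : IsPGroup 3 R := IsPGroup.of_card (n := 3) hR
  haveI : Nontrivial R := Finite.one_lt_card_iff_nontrivial.1 (by omega)
  obtain ⟨a₀, ha₀, b₀, hb₀, hab⟩ : ∃ a ∈ R, ∃ b ∈ R, a * b ≠ b * a := by
    by_contra! h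
    exact hRna ⟨⟨fun x y => Subtype.ext (h x x.2 y y.2)⟩⟩
  -- commutators are central
  have hcomm : (⁅(⟨a₀, ha₀⟩ : R), ⟨b₀, hb₀⟩⁆) ∈ Subgroup.center R := by
    have hc := hpG.center_nontrivial
    have h1 : 1 < Nat.card (Subgroup.center R) := Finite.one_lt_card_iff_nontrivial.2 hc
    have h2 := Subgroup.card_eq_card_quotient_mul_card_subgroup (Subgroup.center R)
    rw [hR] at h2
    obtain ⟨i, hi, hcard⟩ := (Nat.dvd_prime_pow Nat.prime_three).1
      (show Nat.card (Subgroup.center R) ∣ 3 ^ 3 from ⟨_, by rw [mul_comm]; exact h2⟩)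
    rw [hcard] at h1 h2
    have hq : ∀ x y : R ⧸ Subgroup.center R, x * y = y * x := by
      interval_cases i
      · simp at h1
      · exact IsPGroup.commutative_of_card_eq_prime_sq (p := 3) (by omega)
      · haveI : IsCyclic (R ⧸ Subgroup.center R) := isCyclic_of_prime_card (p := 3) (by omega)
        exact (IsCyclic.commGroup).mul_comm
      · haveI : Subsingleton (R ⧸ Subgroup.center R) := (Nat.card_eq_one_iff_unique.1 (by omega)).1
        exact fun x y => Subsingleton.elim _ _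
    rw [← QuotientGroup.eq_one_iff, show ((⁅(⟨a₀, ha₀⟩ : R), ⟨b₀, hb₀⟩⁆ : R) : R ⧸ Subgroup.center R) =
      ⁅((⟨a₀, ha₀⟩ : R) : R ⧸ Subgroup.center R), ((⟨b₀, hb₀⟩ : R) : R ⧸ Subgroup.center R)⁆ from
      map_commutatorElement (QuotientGroup.mk' _) _ _, commutatorElement_eq_one_iff_mul_comm]
    exact hq _ _
  set c₀ := ⁅a₀, b₀⁆ with hc₀
  have hc₀R : c₀ ∈ R := by rw [hc₀, commutatorElement_def]; exact mul_mem (mul_mem (mul_mem ha₀ hb₀) (inv_mem ha₀)) (inv_mem hb₀)
  have hcen : ∀ x ∈ R, x * c₀ = c₀ * x := fun x hx =>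
    congrArg Subtype.val (Subgroup.mem_center_iff.1 hcomm ⟨x, hx⟩)
  set A : M3 := (a₀ : M3) with hA
  set B : M3 := (b₀ : M3) with hB
  set C₀ : M3 := (c₀ : M3) with hC
  have hAB : A * B = C₀ * B * A := by
    have e : a₀ * b₀ = c₀ * b₀ * a₀ := by rw [hc₀, commutatorElement_def]; group
    simpa [hA, hB, hC] using congrArg Units.val e
  have hCB : B * C₀ = C₀ * B := by simpa [hB, hC] using congrArg Units.val (hcen b₀ hb₀)
  have hC3 : C₀ ^ 3 = 1 := by simpa [hC] using congrArg Units.val (hpow c₀ hc₀R)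
  have hC1 : C₀ ≠ 1 := fun h => hab (commutatorElement_eq_one_iff_mul_comm.1 (Units.ext h : c₀ = 1))
  have hA3 : A ^ 3 = 1 := by simpa [hA] using congrArg Units.val (hpow a₀ ha₀)
  have hB3 : B ^ 3 = 1 := by simpa [hB] using congrArg Units.val (hpow b₀ hb₀)
  have hg : l₀ ^ 2 + l₀ + 1 = 0 := by
    have h := hl₀.geom_sum_eq_zero (by norm_num)
    simp [Finset.sum_range_succ] at h
    linear_combination h
  have hl31 : l₀ ^ 3 = 1 := hl₀.pow_eq_one
  let S : Finset F := {1, l₀, l₀ ^ 2}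
  have hprod : ∏ s ∈ S, (X - C s) = (X ^ 3 - 1 : F[X]) := by
    have h1 : (1 : F) ≠ l₀ := fun e => hl₀.ne_one (by norm_num) e.symm
    have h2 : (1 : F) ≠ l₀ ^ 2 := fun e => hl₀.pow_ne_one_of_pos_of_lt two_ne_zero (by norm_num) e.symm
    have h3' : l₀ ≠ l₀ ^ 2 := fun e => h1 (by
      have hne : l₀ ≠ 0 := hl₀.ne_zero (by norm_num)
      exact mul_left_cancel₀ hne (by rw [mul_one, ← sq, ← e]))
    rw [Finset.prod_insert (by simp [h1, h2]), Finset.prod_pair h3']
    have e1 : (C l₀ : F[X]) ^ 2 + C l₀ + 1 = 0 := by rw [← C_pow, ← C_1, ← C_add, ← C_add, hg, C_0]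
    simp only [C_pow, C_1]
    linear_combination (-(X : F[X]) ^ 2 + C l₀ * X - C l₀ + 1) * e1
  have hS : ∀ s ∈ S, s ^ 3 = 1 := by
    intro s hs
    simp only [S, Finset.mem_insert, Finset.mem_singleton] at hs
    rcases hs with rfl | rfl | rfl
    · exact one_pow _
    · exact hl31
    · rw [← pow_mul, mul_comm, pow_mul, hl31, one_pow]
  -- a non-trivial eigenvalue of the commutator
  obtain ⟨G, d, hd, hG⟩ := SplitDiag.exists_diag C₀ S ⟨1, by simp [S]⟩ (by rw [hprod]; simp [hC3])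
  obtain ⟨i, hi⟩ : ∃ i, d i ≠ 1 := by
    by_contra! h
    apply hC1
    rw [show d = fun _ => (1 : F) from funext h, diagonal_one, mul_one] at hG
    exact (IsUnit.mul_eq_right G.isUnit).1 hG
  set lam := d i with hlam
  have hlam3 : lam ^ 3 = 1 := hS _ (hd i)
  have hprim : IsPrimitiveRoot lam 3 := IsPrimitiveRoot.iff_orderOf.2 (orderOf_eq_prime hlam3 hi)
  set v₀ : Fin 3 → F := fun r => (G : M3) r i with hv₀
  have hCv₀ : C₀ *ᵥ v₀ = lam • v₀ := by
    funext r
    have := congrFun₂ hG r i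
    rw [mul_diagonal, mul_apply] at this
    simpa [mulVec, dotProduct, hv₀, mul_comm] using this
  have hv₀0 : v₀ ≠ 0 := by
    intro h
    have := congrFun₂ (Units.inv_mul G) i i
    rw [mul_apply, one_apply_eq] at this
    simp [show ∀ r, (G : M3) r i = 0 from fun r => congrFun h r] at this
  -- an eigenvector of `A` inside
  let P : F → M3 := fun μ => 1 + μ ^ 2 • A + μ • A ^ 2
  have hsum : P 1 + P l₀ + P (l₀ ^ 2) = (3 : F) • (1 : M3) := by
    simp only [P]
    match_scalars
    · ring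
    · linear_combination hg + l₀ * hl31
    · linear_combination hg
  obtain ⟨μ, hμ, hμv⟩ : ∃ μ : F, μ ^ 3 = 1 ∧ P μ *ᵥ v₀ ≠ 0 := by
    by_contra! h
    apply hv₀0
    have := congrArg (· *ᵥ v₀) hsum
    simp only [add_mulVec, h 1 (one_pow _), h l₀ hl31, h (l₀ ^ 2) (hS _ (by simp [S])), smul_mulVec, one_mulVec,
      add_zero] at this
    exact (smul_eq_zero.1 this.symm).resolve_left h3
  set v := P μ *ᵥ v₀ with hv
  have hAv : A *ᵥ v = μ • v := by
    rw [hv, mulVec_mulVec, ← smul_mulVec]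
    congr 1
    simp only [P, mul_add, mul_one, mul_smul_comm, ← pow_succ', smul_add, smul_smul, hA3, hμ, one_smul]
    simp only [← sq]
    abel
  have hCA : C₀ * A = A * C₀ := by simpa [hA, hC] using (congrArg Units.val (hcen a₀ ha₀)).symm
  have hCv : C₀ *ᵥ v = lam • v := by
    have e : C₀ * P μ = P μ * C₀ := by
      have h2 : C₀ * A ^ 2 = A ^ 2 * C₀ := (Commute.pow_right hCA 2).eq
      simp only [P, mul_add, add_mul, mul_one, one_mul, mul_smul_comm, smul_mul_assoc, hCA, h2]
    rw [hv, mulVec_mulVec, e, ← mulVec_mulVec, hCv₀, mulVec_smul]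
  -- the basis
  let u : Fin 3 → (Fin 3 → F) := fun k => (B ^ (k : ℕ)) *ᵥ v
  have hCu : ∀ k : ℕ, C₀ *ᵥ ((B ^ k) *ᵥ v) = lam • ((B ^ k) *ᵥ v) := fun k => by
    rw [mulVec_mulVec, ← (Commute.pow_left hCB k).eq, ← mulVec_mulVec, hCv, mulVec_smul]
  have hAu : ∀ k : ℕ, A *ᵥ ((B ^ k) *ᵥ v) = (μ * lam ^ k) • ((B ^ k) *ᵥ v) := by
    intro k
    induction k with
    | zero => simp [hAv]
    | succ k ih =>
      rw [pow_succ' B, ← mulVec_mulVec, mulVec_mulVec _ A B, hAB, ← mulVec_mulVec, ih, ← mulVec_mulVec,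
        mulVec_smul, mulVec_mulVec v B, ← pow_succ', mulVec_smul, hCu, smul_smul]
      congr 1; ring
  have hu0 : ∀ k : ℕ, (B ^ k) *ᵥ v ≠ 0 := fun k h => by
    have hB0 : ((b₀ ^ k : GL (Fin 3) F) : M3) = B ^ k := by simp [hB]
    rw [← hB0] at h
    exact hμv (by
      have := congrArg (((b₀ ^ k)⁻¹ : GL (Fin 3) F).1 *ᵥ ·) h
      simp only [mulVec_mulVec, ← Units.val_mul, inv_mul_cancel, Units.val_one, one_mulVec, mulVec_zero] at this
      exact this)
  have hμ0 : μ ≠ 0 := by rintro rfl; norm_num at hμ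
  have hinj : Function.Injective (fun k : Fin 3 => μ * lam ^ (k : ℕ)) := fun x y e =>
    Fin.ext (hprim.pow_inj x.2 y.2 (mul_left_cancel₀ hμ0 e))
  have hli : LinearIndependent F u := Module.End.eigenvectors_linearIndependent' (Matrix.toLin' A) _ hinj u
    fun k => ⟨Module.End.mem_eigenspace_iff.2 (by rw [Matrix.toLin'_apply]; exact hAu k), hu0 k⟩
  have hbasis : IsUnit (Matrix.of fun r k => u k r : M3) :=
    Matrix.linearIndependent_cols_iff_isUnit.1 hli
  set g : GL (Fin 3) F := hbasis.unit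
  have hg' : (g : M3) = Matrix.of fun r k => u k r := hbasis.unit_spec
  have conv : ∀ (X : M3) (Y : M3), (∀ k r, (X *ᵥ u k) r = ∑ s, u s r * Y s k) →
      X = (g : M3) * Y * ((g⁻¹ : GL (Fin 3) F) : M3) := by
    intro Z Y h
    rw [Units.eq_mul_inv_iff_mul_eq]
    ext r k
    rw [mul_apply, mul_apply, hg']
    exact h k r
  have hscal : C₀ = lam • (1 : M3) := by
    have h := conv C₀ (lam • 1) (fun k r => by
      rw [hCu k, Pi.smul_apply, Finset.sum_eq_single k (fun s _ hs => by simp [one_apply_ne hs]) (by simp)]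
      simp [mul_comm, u])
    rw [h]
    simp
  have hAconv : A = (g : M3) * (μ • amat lam) * ((g⁻¹ : GL (Fin 3) F) : M3) := conv _ _ fun k r => by
    rw [hAu, Pi.smul_apply, Finset.sum_eq_single k (fun s _ hs => by simp [amat, diagonal_apply_ne _ hs]) (by simp)]
    fin_cases k <;> simp [amat, u] <;> ring
  have hBconv : B = (g : M3) * bmat * ((g⁻¹ : GL (Fin 3) F) : M3) := conv _ _ fun k r => by
    rw [Fin.sum_univ_three]
    have h : B *ᵥ u k = (B ^ ((k : ℕ) + 1)) *ᵥ v := by rw [mulVec_mulVec, ← pow_succ']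
    rw [h]
    fin_cases k <;> simp [u, bmat, hB3]
  -- adjust by a scalar
  obtain ⟨j, hj, hjμ⟩ := eq_pow_of_cube hprim (show (μ⁻¹) ^ 3 = 1 by rw [inv_pow, hμ, inv_one])
  set a := c₀ ^ j * a₀ with ha
  have haR : a ∈ R := mul_mem (pow_mem hc₀R j) ha₀
  have hav : (a : M3) = (g : M3) * amat lam * ((g⁻¹ : GL (Fin 3) F) : M3) := by
    rw [ha, Units.val_mul, Units.val_pow_eq_pow_val, ← hC, ← hA, hscal, _root_.smul_pow, one_pow, smul_mul_assoc, one_mul,
      hAconv, hjμ, mul_smul_comm, smul_mul_assoc, smul_smul, inv_mul_cancel₀ hμ0, one_smul]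
  refine ⟨⟨g, lam, hprim, a, b₀, hav, hBconv, haR, hb₀, fun c hc => ?_, ?_⟩⟩
  · rwa [show c = c₀ from Units.ext (hc.trans hscal.symm)]
  · have hle : Subgroup.closure {a, b₀} ≤ R := by
      rw [Subgroup.closure_le]
      rintro _ (rfl | rfl)
      · exact haR
      · exact hb₀
    refine (Subgroup.eq_of_le_of_card_ge hle ?_).symm
    have hdvd := Subgroup.card_dvd_of_le hle
    rw [hR] at hdvd ⊢
    obtain ⟨i, hi, hcard⟩ := (Nat.dvd_prime_pow Nat.prime_three).1 (show _ ∣ 3 ^ 3 from hdvd)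
    rw [hcard]
    interval_cases i
    all_goals first | norm_num | skip
    all_goals
      exfalso
      have hab' : a * b₀ = b₀ * a := by
        have hmc : ∀ x y : Subgroup.closure {a, b₀}, x * y = y * x := by
          first
          | (haveI := (Nat.card_eq_one_iff_unique.1 hcard).1; exact fun x y => Subsingleton.elim _ _)
          | (haveI : IsCyclic (Subgroup.closure {a, b₀}) := isCyclic_of_prime_card (p := 3) (by simpa using hcard)
             exact (IsCyclic.commGroup).mul_comm)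
          | exact IsPGroup.commutative_of_card_eq_prime_sq (p := 3) hcard
        exact congrArg Subtype.val (hmc ⟨a, Subgroup.subset_closure (by simp)⟩ ⟨b₀, Subgroup.subset_closure (by simp)⟩)
      refine hab ?_
      have hcj : b₀ * c₀ ^ j = c₀ ^ j * b₀ := (Commute.pow_right (hcen b₀ hb₀) j).eq
      rw [ha, mul_assoc, ← mul_assoc b₀, hcj, mul_assoc] at hab'
      exact mul_left_cancel hab'

namespace Heis

variable {R : Subgroup (GL (Fin 3) F)} (h : Heis R)

/-- A matrix read in the coordinates of `h`. -/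
def co (X : M3) : M3 := (h.g : M3) * X * ((h.g⁻¹ : GL (Fin 3) F) : M3)

theorem co_mul (X Y : M3) : h.co X * h.co Y = h.co (X * Y) := by
  unfold co
  simp only [mul_assoc, Units.inv_mul_cancel_left]

theorem co_one : h.co 1 = 1 := by simp [co]

theorem det_co (X : M3) : (h.co X).det = X.det := by
  unfold co
  rw [det_mul, det_mul, mul_right_comm, ← det_mul, Units.mul_inv, det_one, one_mul]

theorem co_smul (c : F) (X : M3) : h.co (c • X) = c • h.co X := by
  simp [co]

include h in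
theorem det_eq_one (x : GL (Fin 3) F) (hx : x ∈ R) : (x : M3).det = 1 := by
  have hle : R ≤ specialLinear (Fin 3) F := by
    conv_lhs => rw [h.gen]
    rw [Subgroup.closure_le]
    rintro _ (rfl | rfl)
    · exact ExtraConj.mem_specialLinear_of_det (by rw [h.ha]; exact (h.det_co _).trans (det_amat h.prim.pow_eq_one))
    · exact ExtraConj.mem_specialLinear_of_det (by rw [h.hb]; exact (h.det_co _).trans det_bmat)
  exact ExtraConj.det_val_eq_one (hle hx)

include h in
theorem scalar_of_comm {X : M3} (h1 : X * h.co (amat h.lam) = h.co (amat h.lam) * X)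
    (h2 : X * h.co bmat = h.co bmat * X) : ∃ c : F, X = c • (1 : M3) := by
  set Y := ((h.g⁻¹ : GL (Fin 3) F) : M3) * X * (h.g : M3) with hY
  have hX : X = h.co Y := by
    simp only [hY, co]
    rw [← mul_assoc, ← mul_assoc, Units.mul_inv, one_mul, mul_assoc, Units.mul_inv, mul_one]
  have inj : ∀ U V : M3, h.co U = h.co V → U = V := fun U V e => by
    have := congrArg (fun Z => ((h.g⁻¹ : GL (Fin 3) F) : M3) * Z * (h.g : M3)) e
    simpa only [co, ← mul_assoc, Units.inv_mul, one_mul, mul_assoc _ _ (h.g : M3), Units.inv_mul, mul_one] using this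
  rw [hX, h.co_mul, h.co_mul] at h1 h2
  have e1 := inj _ _ h1
  have e2 := inj _ _ h2
  have l1 : h.lam ≠ 1 := h.prim.ne_one (by norm_num)
  have l0 : h.lam ≠ 0 := h.prim.ne_zero (by norm_num)
  have l2 : h.lam ^ 2 ≠ 1 := h.prim.pow_ne_one_of_pos_of_lt two_ne_zero (by norm_num)
  have l12 : h.lam ≠ h.lam ^ 2 := fun e => l1 (mul_left_cancel₀ l0 (by rw [mul_one, ← sq, ← e]))
  have hd : ∀ i j, i ≠ j → Y i j = 0 := by
    intro i j hij
    have h' := congrFun₂ e1 i j
    rw [amat, mul_diagonal, diagonal_mul] at h'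
    have hne : (![1, h.lam, h.lam ^ 2] : Fin 3 → F) j - ![1, h.lam, h.lam ^ 2] i ≠ 0 := by
      rw [sub_ne_zero]
      fin_cases i <;> fin_cases j <;> simp [l1, l2, l12, Ne.symm l1, Ne.symm l2, Ne.symm l12] at hij ⊢
    exact (mul_eq_zero.1 (show ((![1, h.lam, h.lam ^ 2] : Fin 3 → F) j - ![1, h.lam, h.lam ^ 2] i) * Y i j = 0 by
      linear_combination h')).resolve_left hne
  refine ⟨Y 0 0, ?_⟩
  rw [hX, show Y = Y 0 0 • (1 : M3) from ?_, co_smul, co_one]
  · simp
  have h10 := congrFun₂ e2 1 0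
  have h21 := congrFun₂ e2 2 1
  simp [bmat, mul_apply, Fin.sum_univ_three] at h10 h21
  ext i j
  fin_cases i <;> fin_cases j <;> simp [hd, h10, h21]

include h in
theorem absIrred (h3 : (3 : F) ≠ 0) : ActsAbsolutelyIrreducibly (matrixSet R) := by
  have hg : h.lam ^ 2 + h.lam + 1 = 0 := by
    have h' := h.prim.geom_sum_eq_zero (by norm_num)
    simp [Finset.sum_range_succ] at h'
    linear_combination h'
  have hl3 : h.lam ^ 3 = 1 := h.prim.pow_eq_one
  constructor
  · intro W hW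
    by_cases hbot : W = ⊥
    · exact Or.inl hbot
    refine Or.inr ?_
    obtain ⟨w, hw, hw0⟩ := (Submodule.ne_bot_iff W).1 hbot
    have hA : ∀ x ∈ W, h.co (amat h.lam) *ᵥ x ∈ W := fun x hx => by
      rw [show h.co (amat h.lam) = (h.a : M3) from h.ha.symm]
      exact hW _ ⟨h.a, h.aR, rfl⟩ ⟨x, hx, Matrix.toLin'_apply _ _⟩
    have hB : ∀ x ∈ W, h.co bmat *ᵥ x ∈ W := fun x hx => by
      rw [show h.co bmat = (h.b : M3) from h.hb.symm]
      exact hW _ ⟨h.b, h.bR, rfl⟩ ⟨x, hx, Matrix.toLin'_apply _ _⟩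
    let W' : Submodule F (Fin 3 → F) := W.comap (Matrix.toLin' (h.g : M3))
    have hA' : ∀ x ∈ W', amat h.lam *ᵥ x ∈ W' := fun x hx => by
      have := hA _ hx
      rw [Matrix.toLin'_apply, mulVec_mulVec, co, mul_assoc _ ((h.g⁻¹ : GL (Fin 3) F) : M3), Units.inv_mul, mul_one,
        ← mulVec_mulVec] at this
      exact this
    have hB' : ∀ x ∈ W', bmat *ᵥ x ∈ W' := fun x hx => by
      have := hB _ hx
      rw [Matrix.toLin'_apply, mulVec_mulVec, co, mul_assoc _ ((h.g⁻¹ : GL (Fin 3) F) : M3), Units.inv_mul, mul_one,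
        ← mulVec_mulVec] at this
      exact this
    set w' := ((h.g⁻¹ : GL (Fin 3) F) : M3) *ᵥ w with hw'
    have hgw : (h.g : M3) *ᵥ w' = w := by rw [hw', mulVec_mulVec, Units.mul_inv, one_mulVec]
    have hw'W : w' ∈ W' := by show Matrix.toLin' (h.g : M3) w' ∈ W; rw [Matrix.toLin'_apply, hgw]; exact hw
    have hw'0 : w' ≠ 0 := fun e => hw0 (by rw [← hgw, e, mulVec_zero])
    have hcyc : ∀ i : Fin 3, (Pi.single i 1 : Fin 3 → F) ∈ W' → (Pi.single (i + 1) 1 : Fin 3 → F) ∈ W' := fun i hi => by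
      convert hB' _ hi using 1
      funext k
      fin_cases i <;> fin_cases k <;> simp [bmat, mulVec, dotProduct, Fin.sum_univ_three]
    have hproj : ∀ i : Fin 3, w' i • (Pi.single i 1 : Fin 3 → F) ∈ W' := by
      intro i
      have h1 := hA' _ hw'W
      have h2 := hA' _ h1
      set μ := h.lam ^ (2 * (i : ℕ))
      have hmem : (3 : F)⁻¹ • (w' + μ • (amat h.lam *ᵥ w') + μ ^ 2 • (amat h.lam *ᵥ (amat h.lam *ᵥ w'))) ∈ W' :=
        W'.smul_mem _ (W'.add_mem (W'.add_mem hw'W (W'.smul_mem _ h1)) (W'.smul_mem _ h2))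
      convert hmem using 1
      funext k
      simp only [amat, μ, Pi.smul_apply, Pi.add_apply, mulVec_diagonal, smul_eq_mul]
      fin_cases i <;> fin_cases k <;> simp <;> field_simp <;> grind
    obtain ⟨i, hi⟩ := Function.ne_iff.1 hw'0
    have he : (Pi.single i 1 : Fin 3 → F) ∈ W' := by
      have := W'.smul_mem (w' i)⁻¹ (hproj i)
      rwa [smul_smul, inv_mul_cancel₀ hi, one_smul] at this
    have hall : ∀ j : Fin 3, (Pi.single j 1 : Fin 3 → F) ∈ W' := by
      intro j
      have h1 := hcyc i he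
      have h2 := hcyc _ h1
      fin_cases i <;> fin_cases j <;> first | exact he | exact h1 | exact h2
    rw [eq_top_iff]
    intro x _
    have hx : ((h.g⁻¹ : GL (Fin 3) F) : M3) *ᵥ x ∈ W' := by
      rw [pi_eq_sum_univ' (((h.g⁻¹ : GL (Fin 3) F) : M3) *ᵥ x)]
      exact W'.sum_mem fun j _ => W'.smul_mem _ (by simpa [Pi.single_apply, eq_comm] using hall j)
    have hx' : Matrix.toLin' (h.g : M3) (((h.g⁻¹ : GL (Fin 3) F) : M3) *ᵥ x) ∈ W := hx
    rwa [Matrix.toLin'_apply, mulVec_mulVec, Units.mul_inv, one_mulVec] at hx'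
  · intro M hM
    exact h.scalar_of_comm (by rw [show h.co (amat h.lam) = (h.a : M3) from h.ha.symm]; exact hM _ ⟨h.a, h.aR, rfl⟩)
      (by rw [show h.co bmat = (h.b : M3) from h.hb.symm]; exact hM _ ⟨h.b, h.bR, rfl⟩)

include h in
theorem smul_mem_of_cube [Finite R] {c : F} (hc : c ^ 3 = 1) {u : GL (Fin 3) F} {v : GL (Fin 3) F} (hv : v ∈ R)
    (hu : (u : M3) = c • (v : M3)) : u ∈ R := by
  obtain ⟨k, -, hk⟩ := eq_pow_of_cube h.prim hc
  let L : GL (Fin 3) F := ⟨h.lam • 1, h.lam ^ 2 • 1, by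
    rw [smul_mul_smul_comm, one_mul, ← pow_succ', h.prim.pow_eq_one, one_smul], by
    rw [smul_mul_smul_comm, one_mul, ← pow_succ, h.prim.pow_eq_one, one_smul]⟩
  have hL : L ∈ R := h.scal L rfl
  have hu' : u = L ^ k * v := Units.ext (by
    rw [hu, Units.val_mul, Units.val_pow_eq_pow_val, show (L : M3) = h.lam • 1 from rfl, _root_.smul_pow, one_pow,
      smul_mul_assoc, one_mul, hk])
  exact hu' ▸ mul_mem (pow_mem hL k) hv

include h in
/-- The inverting involution normalises. -/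
theorem exists_involution [Finite R] :
    ∃ y ∈ subgroupNormalizer R, ∃ P : GL (Fin 3) F, (y : M3) = (P : M3) * jmat * ((P⁻¹ : GL (Fin 3) F) : M3) := by
  let J : GL (Fin 3) F := GeneralLinearGroup.mkOfDetNeZero jmat (by rw [det_jmat]; exact one_ne_zero)
  let y : GL (Fin 3) F := h.g * J * h.g⁻¹
  refine ⟨y, mem_normalizer_of_gen R h.gen ?_ ?_, h.g, ?_⟩
  · have e : y * h.a * y⁻¹ = h.a ^ 2 := by
      rw [mul_inv_eq_iff_eq_mul]
      refine Units.ext ?_
      simp only [y, Units.val_mul, Units.val_pow_eq_pow_val, h.ha]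
      show h.co jmat * h.co (amat h.lam) = h.co (amat h.lam) ^ 2 * h.co jmat
      rw [sq, h.co_mul, h.co_mul, h.co_mul]
      congr 1
      have h3 := h.prim.pow_eq_one
      ext i j
      fin_cases i <;> fin_cases j <;> simp [jmat, amat, mul_apply, Fin.sum_univ_three] <;> grind
    rw [e]; exact pow_mem h.aR 2
  · have e : y * h.b * y⁻¹ = h.b ^ 2 := by
      rw [mul_inv_eq_iff_eq_mul]
      refine Units.ext ?_
      simp only [y, Units.val_mul, Units.val_pow_eq_pow_val, h.hb]
      show h.co jmat * h.co bmat = h.co bmat ^ 2 * h.co jmat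
      rw [sq, h.co_mul, h.co_mul, h.co_mul]
      congr 1
      ext i j
      fin_cases i <;> fin_cases j <;> simp [jmat, bmat, mul_apply, Fin.sum_univ_three]
    rw [e]; exact pow_mem h.bR 2
  · rfl

include h in
/-- Diagonal matrices with equal cubes normalise. -/
theorem diag_mem_normalizer [Finite R] (D : GL (Fin 3) F) (d : Fin 3 → F) (hD : (D : M3) = diagonal d) {z : F}
    (hz : z ≠ 0) (hd : ∀ i, d i ^ 3 = z) : h.g * D * h.g⁻¹ ∈ subgroupNormalizer R := by
  have hd0 : ∀ i, d i ≠ 0 := fun i e => hz (by rw [← hd i, e, zero_pow three_ne_zero])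
  refine mem_normalizer_of_gen R h.gen ?_ ?_
  · have e : h.g * D * h.g⁻¹ * h.a * (h.g * D * h.g⁻¹)⁻¹ = h.a := by
      rw [mul_inv_eq_iff_eq_mul]
      refine Units.ext ?_
      rw [Units.val_mul, Units.val_mul h.a, Units.val_mul, Units.val_mul, h.ha, hD]
      show h.co (diagonal d) * h.co (amat h.lam) = h.co (amat h.lam) * h.co (diagonal d)
      rw [h.co_mul, h.co_mul, amat, diagonal_mul_diagonal, diagonal_mul_diagonal]
      simp [mul_comm]
    rw [e]; exact h.aR
  · -- the ratios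
    obtain ⟨t, -, ht⟩ := eq_pow_of_cube h.prim (show (d 1 * d 2 / (d 0 * d 0)) ^ 3 = 1 by
      rw [div_pow, mul_pow, mul_pow, hd, hd, hd]; field_simp)
    have hs : (d 0 / d 2) ^ 3 = 1 := by rw [div_pow, hd, hd]; field_simp
    set u := h.g * D * h.g⁻¹ * h.b * (h.g * D * h.g⁻¹)⁻¹
    refine h.smul_mem_of_cube hs (u := u) (v := h.a ^ t * h.b) (mul_mem (pow_mem h.aR t) h.bR) ?_
    have hu : u * (h.g * D * h.g⁻¹) = h.g * D * h.g⁻¹ * h.b := inv_mul_cancel_right _ _
    have hDu : IsUnit ((h.g * D * h.g⁻¹ : GL (Fin 3) F) : M3) := Units.isUnit _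
    refine hDu.mul_left_injective ?_
    show (u : M3) * _ = _ * _
    rw [← Units.val_mul, hu, Units.val_mul, Units.val_mul, Units.val_mul, hD, Units.val_mul, Units.val_pow_eq_pow_val,
      h.ha, h.hb]
    show h.co (diagonal d) * h.co bmat = ((d 0 / d 2) • (h.co (amat h.lam) ^ t * h.co bmat)) * h.co (diagonal d)
    have hp : ∀ k, h.co (amat h.lam) ^ k = h.co (amat h.lam ^ k) := fun k => by
      induction k with
      | zero => simp [co_one]
      | succ k ih => rw [pow_succ, ih, co_mul, pow_succ]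
    rw [hp, h.co_mul, h.co_mul, smul_mul_assoc, h.co_mul, ← h.co_smul]
    congr 1
    rw [amat, diagonal_pow]
    have hl : ∀ n, h.lam ^ (3 * n) = 1 := fun n => by rw [pow_mul, h.prim.pow_eq_one, one_pow]
    have ht2 : (h.lam ^ 2) ^ t = (d 1 * d 2 / (d 0 * d 0)) ^ 2 := by rw [← pow_mul, mul_comm, pow_mul, ht]
    have d0 := hd0 0
    have d1 := hd0 1
    have d2 := hd0 2
    have e00 := hd 0
    have e11 := hd 1
    have e22 := hd 2
    ext i j
    fin_cases i <;> fin_cases j <;>
      simp [bmat, mul_apply, Fin.sum_univ_three, diagonal, ht, ht2] <;> field_simp <;> grind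

end Heis

/-- A matrix with square one, determinant one, not the identity: `diag(1,-1,-1)` up to conjugacy. -/
theorem involution_class (h2 : (2 : F) ≠ 0) (x : GL (Fin 3) F) (hx : (x : M3) ^ 2 = 1)
    (hd : (x : M3).det = 1) (hx1 : (x : M3) ≠ 1) :
    (x : M3).charpoly = (X - C (1 : F)) * (X - C (-1 : F)) ^ 2 := by
  classical
  have hne : (1 : F) ≠ -1 := fun e => h2 (by linear_combination e)
  obtain ⟨D, d, hc, hD, hdS⟩ := SplitDiag.exists_conj_diag x {1, -1} ⟨1, by simp⟩ (by
    rw [Finset.prod_pair hne]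
    have : ((X - C (1 : F)) * (X - C (-1)) : F[X]) = X ^ 2 - 1 := by simp; ring
    rw [this]; simp [hx])
  have hcp : (x : M3).charpoly = (D : M3).charpoly := CfsgLib.Classical.ClassTheory.charpoly_eq_of_isConj hc
  have hdd : d 0 * d 1 * d 2 = 1 := by
    rw [ExtraConj.det_eq_of_isConj hc, hD, det_diagonal, Fin.prod_univ_three] at hd
    exact hd
  have hnot : ¬ (d 0 = 1 ∧ d 1 = 1 ∧ d 2 = 1) := by
    rintro ⟨a, b, c⟩
    apply hx1
    obtain ⟨k, hk⟩ := isConj_iff.1 hc
    have hD1 : D = 1 := Units.ext (by rw [hD, Units.val_one, ← diagonal_one]; congr 1; funext i; fin_cases i <;> assumption)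
    rw [hD1, mul_inv_eq_one, mul_eq_left] at hk
    rw [hk, Units.val_one]
  rw [hcp, hD, charpoly_diagonal, Fin.prod_univ_three]
  have e0 := hdS 0
  have e1 := hdS 1
  have e2 := hdS 2
  simp only [Finset.mem_insert, Finset.mem_singleton] at e0 e1 e2
  rcases e0 with a | a <;> rcases e1 with b | b <;> rcases e2 with c | c <;> rw [a, b, c] at hdd hnot ⊢ <;>
    first
      | exact absurd ⟨rfl, rfl, rfl⟩ hnot
      | exact absurd hdd (by norm_num; exact fun e => h2 (by linear_combination (-1 : F) * e))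
      | ring

/-- The main equivalence. -/
theorem main [Fintype F] {p : ℕ} [Fact p.Prime] [CharP F p] (hp : 5 ≤ p) {l₀ : F} (hl₀ : IsPrimitiveRoot l₀ 3)
    (R : Subgroup (GL (Fin 3) F)) (hR : Nat.card R = 27) (hRe : Monoid.exponent R = 3) (hRna : ¬ IsMulCommutative R)
    (T : Subgroup (GL (Fin 3) F)) (hTS : T ≤ specialLinear (Fin 3) F) (hRT : R ⊓ specialLinear (Fin 3) F ≤ T)
    (P : Prop) (hP : P → ∃ η : F, IsPrimitiveRoot η 9) (hnP : ¬ P → ¬ 81 ∣ Nat.card T)
    (hmove : ∀ x ∈ T, ∀ y ∈ subgroupNormalizer R, (y : M3).det = 1 → (orderOf x).Coprime p → IsConj x y →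
      ActsAbsolutelyIrreducibly (matrixSet R) → ∃ g ∈ T, g⁻¹ * x * g ∈ subgroupNormalizer R)
    (r : ℕ) [Fact r.Prime] (hΩ : r ∣ (subgroupNormalizer R).relIndex T) :
    (∀ x ∈ T, (∃ z : F, ((x ^ r : GL (Fin 3) F) : M3) = z • (1 : M3)) →
      (∀ z : F, (x : M3) ≠ z • (1 : M3)) →
      ∃ g ∈ T, g⁻¹ * x * g ∈ subgroupNormalizer R) ↔ (r = 2 ∨ (r = 3 ∧ P)) := by
  classical
  have hnat : ∀ k : ℕ, 0 < k → k < p → (k : F) ≠ 0 := fun k hk hkp h =>
    absurd (Nat.le_of_dvd hk ((CharP.cast_eq_zero_iff F p k).1 h)) (not_le.2 hkp)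
  have h2 : (2 : F) ≠ 0 := by exact_mod_cast hnat 2 (by norm_num) (by omega)
  have h3 : (3 : F) ≠ 0 := by exact_mod_cast hnat 3 (by norm_num) (by omega)
  obtain ⟨h⟩ := exists_heis hl₀ h3 R hR hRe hRna
  haveI : Finite R := Nat.finite_of_card_ne_zero (by omega)
  have hirr := h.absIrred h3
  have hz3 : ∀ x ∈ T, ∀ k : ℕ, ∀ z : F, ((x ^ k : GL (Fin 3) F) : M3) = z • (1 : M3) → z ^ 3 = 1 := by
    intro x hx k z hz
    have := congrArg Matrix.det hz
    rw [Units.val_pow_eq_pow_val, det_pow, ExtraConj.det_val_eq_one (hTS hx), one_pow, det_smul, det_one, mul_one,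
      Fintype.card_fin] at this
    exact this.symm
  have hox : ∀ x ∈ T, ∀ k : ℕ, 0 < k → k < p → ∀ z : F, ((x ^ k : GL (Fin 3) F) : M3) = z • (1 : M3) →
      (orderOf x).Coprime p := by
    intro x hx k hk hkp z hz
    have h1 : x ^ (k * 3) = 1 := Units.ext (by
      rw [Units.val_one, pow_mul, Units.val_pow_eq_pow_val, hz, _root_.smul_pow, hz3 x hx k z hz, one_pow, one_smul])
    refine Nat.Coprime.coprime_dvd_left (orderOf_dvd_of_pow_eq_one h1) (Nat.Coprime.mul_left ?_ ?_)
    · exact Nat.coprime_comm.1 ((Fact.out : p.Prime).coprime_iff_not_dvd.2 fun hd =>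
        absurd (Nat.le_of_dvd hk hd) (not_le.2 hkp))
    · exact (Nat.coprime_primes Nat.prime_three Fact.out).2 (by omega)
  constructor
  · intro hall
    by_contra hr
    rw [not_or, not_and] at hr
    by_cases hr3 : r = 3
    · subst hr3
      apply hnP (hr.2 rfl)
      have h1 : R ≤ subgroupNormalizer R ⊓ T := fun x hx =>
        ⟨Subgroup.le_normalizer hx, hRT ⟨hx, ExtraConj.mem_specialLinear_of_det (h.det_eq_one x hx)⟩⟩
      have h27 : 27 ∣ Nat.card ↥(subgroupNormalizer R ⊓ T) := hR ▸ Subgroup.card_dvd_of_le h1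
      rw [← Subgroup.inf_relIndex_right] at hΩ
      have he := Subgroup.card_mul_index ((subgroupNormalizer R ⊓ T).subgroupOf T)
      rw [Nat.card_congr (Subgroup.subgroupOfEquivOfLe inf_le_right).toEquiv] at he
      rw [← he, show (81 : ℕ) = 27 * 3 from rfl]
      exact Nat.mul_dvd_mul h27 hΩ
    have hr5 : 5 ≤ r := by
      have := (Fact.out : r.Prime).two_le
      have : r ≠ 4 := fun h => by subst h; exact absurd (Fact.out : Nat.Prime 4) (by decide)
      have := hr.1
      omega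
    have hdvd : r ∣ Nat.card T := hΩ.trans (Subgroup.index_dvd_card _)
    haveI : Finite (GL (Fin 3) F) := inferInstance
    obtain ⟨x, hx⟩ := exists_prime_orderOf_dvd_card' r hdvd
    have hxr : (x : GL (Fin 3) F) ^ r = 1 := by
      rw [← SubgroupClass.coe_pow, ← hx, pow_orderOf_eq_one, OneMemClass.coe_one]
    have hxn : ∀ z : F, ((x : GL (Fin 3) F) : M3) ≠ z • (1 : M3) := by
      intro z hz
      have h1 := hz3 x x.2 1 z (by rwa [pow_one])
      have : x ^ 3 = 1 := Subtype.ext (Units.ext (by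
        show ((x : GL (Fin 3) F) : M3) ^ 3 = 1
        rw [hz, _root_.smul_pow, h1, one_smul, one_pow]))
      have := Nat.le_of_dvd (by norm_num) (hx ▸ orderOf_dvd_of_pow_eq_one this)
      omega
    obtain ⟨g, -, hy⟩ := hall x x.2 ⟨1, by rw [hxr, one_smul]; rfl⟩ hxn
    set y := g⁻¹ * (x : GL (Fin 3) F) * g with hydef
    have hyr : y ^ r = 1 := by
      rw [hydef, show g⁻¹ * (x : GL (Fin 3) F) * g = g⁻¹ * (x : GL (Fin 3) F) * (g⁻¹)⁻¹ by rw [inv_inv], conj_pow, hxr]
      simp
    haveI : Fintype R := Fintype.ofFinite R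
    have hy' := Subgroup.mem_normalizer_iff.1 hy
    let σ : Equiv.Perm R := Equiv.Perm.subtypePerm ((MulAut.conj y).toEquiv : Equiv.Perm (GL (Fin 3) F)) fun u => (hy' u).symm
    have hσ : ∀ (k : ℕ) (u : R), ((σ ^ k) u : GL (Fin 3) F) = y ^ k * u * (y ^ k)⁻¹ := by
      intro k u
      induction k with
      | zero => simp
      | succ k ih =>
        rw [pow_succ', Equiv.Perm.mul_apply]
        show y * ((σ ^ k) u : GL (Fin 3) F) * y⁻¹ = _
        rw [ih, pow_succ']
        group
    have hσr : σ ^ r ^ 1 = 1 := by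
      rw [pow_one]
      ext1 u
      apply Subtype.ext
      rw [hσ, hyr]
      simp
    have hmod := Equiv.Perm.card_compl_support_modEq hσr
    let Cy : Subgroup R := (Subgroup.centralizer {y}).subgroupOf R
    have hC : Nat.card Cy = σ.supportᶜ.card := by
      refine Nat.subtype_card _ fun u => ?_
      rw [Finset.mem_compl, Equiv.Perm.notMem_support]
      show σ u = u ↔ (u : GL (Fin 3) F) ∈ Subgroup.centralizer {y}
      rw [Subtype.ext_iff, Subgroup.mem_centralizer_singleton_iff]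
      show y * (u : GL (Fin 3) F) * y⁻¹ = u ↔ _
      rw [mul_inv_eq_iff_eq_mul, eq_comm]
    rw [← hC, ← Nat.card_eq_fintype_card, hR] at hmod
    have hC27 : Nat.card Cy ∣ 3 ^ 3 := by
      have := Subgroup.card_subgroup_dvd_card Cy
      rwa [hR] at this
    let L : GL (Fin 3) F := ⟨h.lam • 1, h.lam ^ 2 • 1, by
      rw [smul_mul_smul_comm, one_mul, ← pow_succ', h.prim.pow_eq_one, one_smul], by
      rw [smul_mul_smul_comm, one_mul, ← pow_succ, h.prim.pow_eq_one, one_smul]⟩
    have hzC : (⟨L, h.scal L rfl⟩ : R) ∈ Cy := by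
      show L ∈ Subgroup.centralizer {y}
      rw [Subgroup.mem_centralizer_singleton_iff]
      apply Units.ext
      simp only [Units.val_mul]
      show (h.lam • (1 : M3)) * (y : M3) = (y : M3) * (h.lam • (1 : M3))
      simp
    obtain ⟨i, hi, hcard⟩ := (Nat.dvd_prime_pow Nat.prime_three).1 hC27
    have hCtop : Nat.card Cy = 27 := by
      rw [hcard] at hmod ⊢
      interval_cases i
      · exfalso
        have h0 : (⟨L, h.scal L rfl⟩ : R) = 1 := by
          haveI : Subsingleton Cy := (Nat.card_eq_one_iff_unique.1 hcard).1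
          exact congrArg Subtype.val (Subsingleton.elim (⟨_, hzC⟩ : Cy) 1)
        have h1 := congrFun₂ (congrArg (fun u : R => ((u : GL (Fin 3) F) : M3)) h0) 0 0
        simp [L] at h1
        exact h.prim.ne_one (by norm_num) h1
      · exfalso
        have := (Nat.modEq_iff_dvd' (by norm_num)).1 hmod
        norm_num at this
        have := Nat.le_of_dvd (by norm_num) this
        interval_cases r <;> first | omega | exact absurd (‹Fact (Nat.Prime _)›.out) (by norm_num)
      · exfalso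
        have := (Nat.modEq_iff_dvd' (by norm_num)).1 hmod
        norm_num at this
        have := Nat.le_of_dvd (by norm_num) this
        interval_cases r <;> first | omega | exact absurd (‹Fact (Nat.Prime _)›.out) (by norm_num)
      · rfl
    have hall' : Cy = ⊤ := Subgroup.eq_top_of_card_eq Cy (hCtop.trans hR.symm)
    have hcom : ∀ u : GL (Fin 3) F, u ∈ R → (y : M3) * (u : M3) = (u : M3) * y := fun u hu => by
      have hmem : (⟨u, hu⟩ : R) ∈ Cy := hall' ▸ Subgroup.mem_top _
      exact (congrArg Units.val (Subgroup.mem_centralizer_singleton_iff.1 hmem)).symm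
    obtain ⟨c, hc⟩ := hirr.2 (y : M3) (by rintro _ ⟨u, hu, rfl⟩; exact hcom u hu)
    refine hxn c ?_
    have hx' : (x : GL (Fin 3) F) = g * y * g⁻¹ := by rw [hydef]; group
    rw [hx', Units.val_mul, Units.val_mul, hc, mul_smul_comm, mul_one, smul_mul_assoc, ← Units.val_mul,
      mul_inv_cancel, Units.val_one]
  · intro hr x hx hxr hxn
    obtain ⟨z, hz⟩ := hxr
    have hzc := hz3 x hx r z hz
    have hd := ExtraConj.det_val_eq_one (hTS hx)
    have hz0 : z ≠ 0 := fun e => by rw [e, zero_pow three_ne_zero] at hzc; exact zero_ne_one hzc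
    rw [Units.val_pow_eq_pow_val] at hz
    rcases hr with rfl | ⟨rfl, hp9⟩
    · obtain ⟨y, hyN, Pg, hy⟩ := h.exists_involution
      have hjy : ∀ s : F, s ≠ 0 → ∀ S : GL (Fin 3) F, (S : M3) = s • (1 : M3) → S * y ∈ subgroupNormalizer R := by
        intro s _ S hS
        refine mul_mem (mem_normalizer_of_gen R h.gen ?_ ?_) hyN
        · rw [show S * h.a * S⁻¹ = h.a by
            rw [mul_inv_eq_iff_eq_mul]; exact Units.ext (by simp [hS])]
          exact h.aR
        · rw [show S * h.b * S⁻¹ = h.b by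
            rw [mul_inv_eq_iff_eq_mul]; exact Units.ext (by simp [hS])]
          exact h.bR
      set s := z ^ 2 with hs
      have hs3 : s ^ 3 = 1 := by rw [hs, ← pow_mul, mul_comm, pow_mul, hzc, one_pow]
      have hs2 : s ^ 2 = z := by rw [hs, ← pow_mul, show 2 * 2 = 3 + 1 by rfl, pow_succ, hzc, one_mul]
      let S : GL (Fin 3) F := ⟨s • 1, s ^ 2 • 1, by rw [smul_mul_smul_comm, one_mul, ← pow_succ', hs3, one_smul],
        by rw [smul_mul_smul_comm, one_mul, ← pow_succ, hs3, one_smul]⟩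
      have hSc : ∀ u : GL (Fin 3) F, S * u = u * S := fun u => Units.ext (by
        show (s • (1 : M3)) * (u : M3) = (u : M3) * (s • (1 : M3))
        simp)
      set x' := S⁻¹ * x with hx'
      have hx'v : (x' : M3) = s ^ 2 • (x : M3) := by
        show (s ^ 2 • (1 : M3)) * (x : M3) = _
        simp
      have hx2 : (x' : M3) ^ 2 = 1 := by
        rw [hx'v, _root_.smul_pow, hz, smul_smul, ← hs2, ← pow_mul, ← pow_add, show 2 * 2 + 2 = 3 * 2 by rfl,
          pow_mul, hs3, one_pow, one_smul]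
      have hxd : (x' : M3).det = 1 := by
        rw [hx'v, det_smul, hd, mul_one, Fintype.card_fin, ← pow_mul, mul_comm, pow_mul, hs3, one_pow]
      have hx1 : (x' : M3) ≠ 1 := fun e => hxn s (by
        have := congrArg (s • ·) e
        simp only [hx'v, smul_smul, ← pow_succ', hs3, one_smul] at this
        exact this)
      have hy2 : (y : M3) ^ 2 = 1 := by
        rw [hy, Units.conj_pow]
        have : (jmat : M3) ^ 2 = 1 := by
          ext i j; fin_cases i <;> fin_cases j <;> simp [jmat, sq, mul_apply, Fin.sum_univ_three]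
        rw [this, mul_one, Units.mul_inv]
      have hyd : (y : M3).det = 1 := by
        rw [hy, det_mul, det_mul, mul_right_comm, ← det_mul, Units.mul_inv, det_one, one_mul, det_jmat]
      have hy1 : (y : M3) ≠ 1 := fun e => by
        rw [hy, Units.mul_inv_eq_iff_eq_mul, one_mul, IsUnit.mul_eq_left Pg.isUnit] at e
        have := congrFun₂ e 0 0
        simp [jmat] at this
        exact h2 (by linear_combination (-1 : F) * this)
      have ho2 : ∀ u : GL (Fin 3) F, (u : M3) ^ 2 = 1 → (orderOf u).Coprime p := fun u hu =>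
        Nat.Coprime.coprime_dvd_left (orderOf_dvd_of_pow_eq_one (Units.ext (by
          rw [Units.val_pow_eq_pow_val, hu, Units.val_one])))
          ((Nat.coprime_primes Nat.prime_two Fact.out).2 (by omega))
      have hc := Known.SemisimpleClass.isConj_of_charpoly_eq (p := p) x' y (ho2 _ hx2) (ho2 _ hy2)
        (by rw [involution_class h2 x' hx2 hxd hx1, involution_class h2 y hy2 hyd hy1])
      obtain ⟨c, hc⟩ := isConj_iff.1 hc
      refine hmove x hx (S * y) (hjy s (fun e => by rw [e, zero_pow three_ne_zero] at hs3; exact zero_ne_one hs3) S rfl) ?_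
        (hox x hx 2 (by norm_num) (by omega) z (by rw [Units.val_pow_eq_pow_val]; exact hz)) (isConj_iff.2 ⟨c, ?_⟩) hirr
      · show ((s • (1 : M3)) * (y : M3)).det = 1
        rw [smul_mul_assoc, one_mul, det_smul, hyd, mul_one, Fintype.card_fin, hs3]
      · calc c * x * c⁻¹ = c * (S * x') * c⁻¹ := by rw [hx', mul_inv_cancel_left]
          _ = S * (c * x' * c⁻¹) := by rw [← mul_assoc c, ← hSc]; group
          _ = _ := by rw [hc]
    · obtain ⟨η, hη⟩ := hP hp9
      obtain ⟨k, -, hk⟩ := eq_pow_of_cube (hη.pow (by norm_num) (show 9 = 3 * 3 from rfl)) hzc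
      set ξ := η ^ k with hξ
      have hξ3 : ξ ^ 3 = z := by rw [hξ, ← pow_mul, mul_comm, pow_mul, hk]
      have hξ0 : ξ ≠ 0 := fun e => hz0 (by rw [← hξ3, e, zero_pow three_ne_zero])
      let S : Finset F := {ξ, ξ * h.lam, ξ * h.lam ^ 2}
      have l1 : h.lam ≠ 1 := h.prim.ne_one (by norm_num)
      have l0 : h.lam ≠ 0 := h.prim.ne_zero (by norm_num)
      have l2 : h.lam ^ 2 ≠ 1 := h.prim.pow_ne_one_of_pos_of_lt two_ne_zero (by norm_num)
      have hg : h.lam ^ 2 + h.lam + 1 = 0 := by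
        have h' := h.prim.geom_sum_eq_zero (by norm_num)
        simp [Finset.sum_range_succ] at h'
        linear_combination h'
      have d1 : ξ ≠ ξ * h.lam := fun e => l1 (mul_left_cancel₀ hξ0 (by rw [mul_one, ← e]))
      have d2 : ξ ≠ ξ * h.lam ^ 2 := fun e => l2 (mul_left_cancel₀ hξ0 (by rw [mul_one, ← e]))
      have d3 : ξ * h.lam ≠ ξ * h.lam ^ 2 := fun e => l1 (mul_left_cancel₀ (mul_ne_zero hξ0 l0) (by
        rw [mul_one, mul_assoc, ← sq, ← e]))
      have hS3 : ∀ t ∈ S, t ^ 3 = z := by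
        intro t ht
        simp only [S, Finset.mem_insert, Finset.mem_singleton] at ht
        have hl := h.prim.pow_eq_one
        rcases ht with rfl | rfl | rfl <;> grind
      obtain ⟨D, d, hc, hD, hdS⟩ := SplitDiag.exists_conj_diag x S ⟨ξ, by simp [S]⟩ (by
        rw [Finset.prod_insert (by simp [d1, d2]), Finset.prod_pair d3]
        have : ((X - C ξ) * ((X - C (ξ * h.lam)) * (X - C (ξ * h.lam ^ 2))) : F[X]) = X ^ 3 - C z := by
          have e1 : (C h.lam : F[X]) ^ 2 + C h.lam + 1 = 0 := by rw [← C_pow, ← C_1, ← C_add, ← C_add, hg, C_0]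
          rw [← hξ3]
          simp only [C_pow, C_mul]
          linear_combination (-(C ξ : F[X]) * X ^ 2 + C ξ ^ 2 * C h.lam * X - C ξ ^ 3 * (C h.lam - 1)) * e1
        rw [this, map_sub, map_pow, aeval_X, aeval_C, hz, Algebra.algebraMap_eq_smul_one, sub_self])
      have hy := h.diag_mem_normalizer D d hD hz0 fun i => hS3 _ (hdS i)
      refine hmove x hx _ hy ?_ (hox x hx 3 (by norm_num) (by omega) z (by rw [Units.val_pow_eq_pow_val]; exact hz))
        (hc.trans (isConj_iff.2 ⟨h.g, rfl⟩)) hirr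
      rw [ExtraConj.det_eq_of_isConj (isConj_iff.2 ⟨h.g, rfl⟩ : IsConj D _).symm, ← ExtraConj.det_eq_of_isConj hc, hd]

end CfsgLib.Geo.Extra27
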