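/-
The two families of the normaliser of an extraspecial group of order 27.
-/
import Cfsg.Agent.Lib.Geo.ExtraTwentySeven

set_option autoImplicit false

namespace CfsgLib.Geo.Extra27

open Matrix Cfsg.Geo

variable {F : Type*} [Field F] [Fintype F]

local notation "M3" => Matrix (Fin 3) (Fin 3) F

theorem exists_primitive {n : ℕ} (hn : n ∣ Fintype.card F - 1) (hn0 : 0 < n) : ∃ l : F, IsPrimitiveRoot l n := by
  classical
  obtain ⟨g, hg⟩ := IsCyclic.exists_generator (α := Fˣ)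
  have ho : orderOf g = Fintype.card F - 1 := by
    rw [orderOf_eq_card_of_forall_mem_zpowers hg, Nat.card_units, Nat.card_eq_fintype_card]
  have hpos : 0 < Fintype.card F - 1 := by have := Fintype.one_lt_card (α := F); omega
  obtain ⟨m, hm⟩ := hn
  refine ⟨(g ^ m : Fˣ), IsPrimitiveRoot.coe_units_iff.2 ?_⟩
  exact (IsPrimitiveRoot.iff_orderOf.2 ho).pow hpos (by rw [hm]; ring)

theorem linear_vacuous {p : ℕ} (hF : Fintype.card F = p) (hp : p % 9 = 4 ∨ p % 9 = 7) :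
    ¬ 81 ∣ Nat.card (specialLinear (Fin 3) F) := by
  intro hd
  have h := Subgroup.card_subgroup_dvd_card (specialLinear (Fin 3) F)
  have hidx : (specialLinear (Fin 3) F).index = p - 1 := by
    show (Matrix.GeneralLinearGroup.det : GL (Fin 3) F →* Fˣ).ker.index = _
    rw [Subgroup.index_ker, MonoidHom.range_eq_top.2 Matrix.GeneralLinearGroup.det_surjective, Subgroup.card_top,
      CfsgLib.Classical.card_units_field, hF]
  have hmul := Subgroup.card_mul_index (specialLinear (Fin 3) F)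
  rw [hidx, CfsgLib.Classical.card_GL, hF, Fin.prod_univ_three] at hmul
  obtain ⟨k, hk⟩ := hd
  rw [hk] at hmul
  have hp1 : 1 ≤ p := by omega
  have e0 : ((p ^ 3 - p ^ 0 : ℕ) : ZMod 243) = (p : ZMod 243) ^ 3 - 1 := by
    rw [Nat.cast_sub (Nat.pow_le_pow_right hp1 (by norm_num))]; simp
  have e1 : ((p ^ 3 - p ^ 1 : ℕ) : ZMod 243) = (p : ZMod 243) ^ 3 - p := by
    rw [Nat.cast_sub (Nat.pow_le_pow_right hp1 (by norm_num))]; simp
  have e2 : ((p ^ 3 - p ^ 2 : ℕ) : ZMod 243) = (p : ZMod 243) ^ 3 - (p : ZMod 243) ^ 2 := by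
    rw [Nat.cast_sub (Nat.pow_le_pow_right hp1 (by norm_num))]; simp
  have h3 : 3 ∣ p - 1 := by omega
  obtain ⟨l, hl⟩ := h3
  have hz : (((p ^ 3 - p ^ 0) * (p ^ 3 - p ^ 1) * (p ^ 3 - p ^ 2) : ℕ) : ZMod 243) = 0 := by
    rw [ZMod.natCast_eq_zero_iff]
    show 243 ∣ (p ^ 3 - p ^ ((0 : Fin 3) : ℕ)) * (p ^ 3 - p ^ ((1 : Fin 3) : ℕ)) * (p ^ 3 - p ^ ((2 : Fin 3) : ℕ))
    rw [← hmul]
    exact ⟨k * l, by rw [hl]; ring⟩
  rw [Nat.cast_mul, Nat.cast_mul, e0, e1, e2] at hz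
  have key : ∀ x : ZMod 243, (x.val % 9 = 4 ∨ x.val % 9 = 7) → (x ^ 3 - 1) * (x ^ 3 - x) * (x ^ 3 - x ^ 2) ≠ 0 := by
    decide +kernel
  exact key p (by rw [ZMod.val_natCast]; omega) hz

theorem unitary_vacuous {p : ℕ} (hF : Fintype.card F = p ^ 2) (hp : p % 9 = 2 ∨ p % 9 = 5) :
    ¬ 81 ∣ Nat.card ↥(Cfsg.GU 3 F p ⊓ specialLinear (Fin 3) F) := by
  intro hd
  have hcard := CfsgLib.Classical.Herm.card_GU hF 3
  let δ := CfsgLib.Classical.ClassTheory.guDet 3 F p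
  have hker : δ.ker = (Cfsg.GU 3 F p ⊓ specialLinear (Fin 3) F).subgroupOf (Cfsg.GU 3 F p) := by
    ext g
    rw [MonoidHom.mem_ker, Subgroup.mem_subgroupOf]
    exact ⟨fun hg => ⟨g.2, MonoidHom.mem_ker.2 hg⟩, fun hg => MonoidHom.mem_ker.1 hg.2⟩
  have hmul := δ.ker.card_mul_index
  rw [Subgroup.index_ker, CfsgLib.Classical.ClassTheory.range_guDet hF (by norm_num)] at hmul
  rw [hker, Nat.card_congr (Subgroup.subgroupOfEquivOfLe inf_le_left).toEquiv] at hmul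
  have hrange : Nat.card ↥(powMonoidHom (p + 1) : Fˣ →* Fˣ).ker = p + 1 := by
    rw [IsCyclic.card_powMonoidHom_ker, Nat.card_units, Nat.card_eq_fintype_card, hF]
    exact Nat.gcd_eq_right ⟨p - 1, by rw [← Nat.sq_sub_sq, one_pow]⟩
  rw [hrange, hcard] at hmul
  obtain ⟨k, hk⟩ := hd
  rw [hk] at hmul
  simp only [show 3 * (3 - 1) / 2 = 3 from rfl, Finset.prod_range_succ, Finset.prod_range_zero, one_mul,
    Nat.even_iff] at hmul
  norm_num at hmul
  have h3 : 3 ∣ p + 1 := by omega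
  obtain ⟨l, hl⟩ := h3
  have hd243 : 243 ∣ p ^ 3 * ((p + 1) * (p ^ 2 - 1) * (p ^ 3 + 1)) := by
    rw [← hmul]
    exact ⟨k * l, by rw [hl]; ring⟩
  rw [← ZMod.natCast_eq_zero_iff] at hd243
  push_cast [Nat.cast_sub (Nat.one_le_pow 2 p (by omega))] at hd243
  have key : ∀ x : ZMod 243, (x.val % 9 = 2 ∨ x.val % 9 = 5) → x ^ 3 * ((x + 1) * (x ^ 2 - 1) * (x ^ 3 + 1)) ≠ 0 := by
    decide +kernel
  exact key p (by rw [ZMod.val_natCast]; omega) hd243

theorem linear_main {p : ℕ} [Fact p.Prime] [CharP F p] (hF : Fintype.card F = p) (hp3 : p % 3 = 1)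
    (R : Subgroup (GL (Fin 3) F)) (hR : Nat.card R = 27) (hRe : Monoid.exponent R = 3) (hRna : ¬ IsMulCommutative R)
    (r : ℕ) [Fact r.Prime] (hΩ : r ∣ (subgroupNormalizer R).relIndex (specialLinear (Fin 3) F)) :
    (∀ x ∈ specialLinear (Fin 3) F, (∃ z : F, ((x ^ r : GL (Fin 3) F) : M3) = z • (1 : M3)) →
      (∀ z : F, (x : M3) ≠ z • (1 : M3)) →
      ∃ g ∈ specialLinear (Fin 3) F, g⁻¹ * x * g ∈ subgroupNormalizer R) ↔ (r = 2 ∨ (r = 3 ∧ p % 9 = 1)) := by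
  have hp2 := (Fact.out : p.Prime).two_le
  have hp5 : 5 ≤ p := by
    have : p ≠ 4 := fun h => by subst h; exact absurd (Fact.out : Nat.Prime 4) (by decide)
    omega
  obtain ⟨l, hl⟩ := exists_primitive (F := F) (n := 3) (by omega) (by norm_num)
  refine main hp5 hl R hR hRe hRna _ le_rfl inf_le_right _ (fun h9 => exists_primitive (by omega) (by norm_num))
    (fun h9 => linear_vacuous hF (by omega)) (fun x _ y hy _ ho hc _ => ExtraConj.sl_move (p := p) ho hy hc) r hΩ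

theorem unitary_main {p : ℕ} [Fact p.Prime] [CharP F p] (hF : Fintype.card F = p ^ 2) (hp : 5 ≤ p) (hp3 : p % 3 = 2)
    (R : Subgroup (GL (Fin 3) F)) (hRU : R ≤ Cfsg.GU 3 F p) (hR : Nat.card R = 27) (hRe : Monoid.exponent R = 3)
    (hRna : ¬ IsMulCommutative R) (r : ℕ) [Fact r.Prime]
    (hΩ : r ∣ (subgroupNormalizer R).relIndex (Cfsg.GU 3 F p ⊓ specialLinear (Fin 3) F)) :
    (∀ x ∈ Cfsg.GU 3 F p ⊓ specialLinear (Fin 3) F, (∃ z : F, ((x ^ r : GL (Fin 3) F) : M3) = z • (1 : M3)) →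
      (∀ z : F, (x : M3) ≠ z • (1 : M3)) →
      ∃ g ∈ Cfsg.GU 3 F p ⊓ specialLinear (Fin 3) F, g⁻¹ * x * g ∈ subgroupNormalizer R) ↔
      (r = 2 ∨ (r = 3 ∧ p % 9 = 8)) := by
  have h3 : 3 ∣ Fintype.card F - 1 := by
    rw [hF, show p ^ 2 - 1 = (p + 1) * (p - 1) from Nat.sq_sub_sq p 1]
    exact Dvd.dvd.mul_right (by omega) _
  obtain ⟨l, hl⟩ := exists_primitive (F := F) (n := 3) h3 (by norm_num)
  obtain ⟨σ, hq⟩ := CfsgLib.Geo.Asch.exists_isQPow (F := F) hF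
  refine main hp hl R hR hRe hRna _ inf_le_right (fun x hx => ⟨hRU hx.1, hx.2⟩) _ (fun h9 => exists_primitive ?_ (by norm_num))
    (fun h9 => unitary_vacuous hF (by omega)) (fun x hx y hy hdy ho hc hirr => ExtraConj.su_move hF (p := p) hx ho hy
      (ExtraConj.mem_GU_of_det hF (by norm_num) ?_ hq hirr hRU hy hdy) hc) r hΩ
  · rw [hF, show p ^ 2 - 1 = (p + 1) * (p - 1) from Nat.sq_sub_sq p 1]
    exact Dvd.dvd.mul_right (by omega) _
  · exact (Nat.Prime.coprime_iff_not_dvd Nat.prime_three).2 (by omega)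

end CfsgLib.Geo.Extra27
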