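/-
Linear equations with unit unknowns over finite fields, with several solutions.
-/
import Mathlib

set_option autoImplicit false

namespace CfsgLib.Geo.Monomial

open scoped Pointwise

variable {F : Type*} [Field F] [Fintype F] [DecidableEq F]

omit [Fintype F] [DecidableEq F] in
/-- A finite field with many elements has many elements avoiding a small set. -/
theorem exists_embedding_avoid [Finite F] (s : Finset F) {k : ℕ} (h : s.card + k ≤ Nat.card F) :
    ∃ e : Fin k ↪ F, ∀ i, e i ∉ s := by
  classical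
  letI : Fintype F := Fintype.ofFinite F
  rw [Nat.card_eq_fintype_card] at h
  obtain ⟨e⟩ : Nonempty (Fin k ↪ {x : F // x ∉ s}) := Function.Embedding.nonempty_of_card_le (by
    rw [Fintype.card_fin, Fintype.card_subtype_compl, Fintype.card_coe]; omega)
  exact ⟨e.trans (Function.Embedding.subtype _), fun i => (e i).2⟩

omit [Fintype F] [DecidableEq F] in
theorem exists_two_units {k : ℕ} (hq : k + 2 ≤ Nat.card F) [Finite F] {κ : F} (hκ : κ ≠ 0) (α : F) :
    ∃ x y : Fin k → Fˣ, Function.Injective y ∧ ∀ i, (x i : F) + κ * (y i : F) = α := by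
  classical
  obtain ⟨e, he⟩ := exists_embedding_avoid ({0, α / κ} : Finset F) (k := k)
    (le_trans (by have := Finset.card_le_two (a := (0 : F)) (b := α / κ); omega) hq)
  simp only [Finset.mem_insert, Finset.mem_singleton, not_or] at he
  refine ⟨fun i => Units.mk0 (α - κ * e i) (fun h => (he i).2 (by field_simp; linear_combination -h)),
    fun i => Units.mk0 (e i) (he i).1, fun i j h => e.injective (by simpa using congrArg Units.val h), fun i => ?_⟩
  simp

omit [Fintype F] [DecidableEq F] in
/-- The values `c y (s + w y)` contain at least two non-zero squares. -/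
theorem exists_square [Finite F] (hq : 5 ≤ Nat.card F) {c s w : F} (hc : c ≠ 0) (hs : s ≠ 0) :
    ∃ y z : Fin 2 → Fˣ, Function.Injective (fun i => (y i, z i)) ∧
      ∀ i, (z i : F) ^ 2 = c * (y i : F) * (s + w * (y i : F)) := by
  classical
  set P : Polynomial F := Polynomial.X ^ 2 - Polynomial.C (c * w)
  have hP : P ≠ 0 := fun e => by simpa [P] using congrArg (Polynomial.coeff · 2) e
  have hcard : (P.roots.toFinset ∪ {0}).card ≤ 3 := (Finset.card_union_le _ _).trans (by
    have e1 : P.roots.toFinset.card ≤ 2 :=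
      (Multiset.toFinset_card_le _).trans ((Polynomial.card_roots' P).trans (by simp only [P]; compute_degree))
    rw [Finset.card_singleton]; omega)
  obtain ⟨e, he⟩ := exists_embedding_avoid (P.roots.toFinset ∪ {0}) (k := 2) (by omega)
  simp only [Finset.mem_union, Multiset.mem_toFinset, Polynomial.mem_roots hP, Finset.mem_singleton, not_or] at he
  have hd : ∀ i, e i ^ 2 / c - w ≠ 0 := fun i h => (he i).1 (by
    simp only [P, Polynomial.IsRoot.def, Polynomial.eval_sub, Polynomial.eval_pow, Polynomial.eval_X,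
      Polynomial.eval_C]
    field_simp at h
    linear_combination h)
  have hy : ∀ i, s / (e i ^ 2 / c - w) ≠ 0 := fun i => div_ne_zero hs (hd i)
  refine ⟨fun i => Units.mk0 _ (hy i), fun i => Units.mk0 (e i * (s / (e i ^ 2 / c - w))) (mul_ne_zero (he i).2 (hy i)),
    fun i j h => ?_, fun i => ?_⟩
  · simp only [Prod.mk.injEq] at h
    have h1 := congrArg Units.val h.1
    have h2 := congrArg Units.val h.2
    simp only [Units.val_mk0] at h1 h2
    rw [h1] at h2
    exact e.injective (mul_right_cancel₀ (hy j) h2)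
  · simp only [Units.val_mk0]
    obtain ⟨D, hD⟩ : ∃ D, D = e i ^ 2 / c - w := ⟨_, rfl⟩
    have hDc : e i ^ 2 = c * (D + w) := by rw [hD]; field_simp; ring
    have : D ≠ 0 := hD ▸ hd i
    rw [← hD]
    field_simp
    linear_combination hDc

omit [DecidableEq F] in
/-- Two equations without a coloop are solvable with a small core and all other unknowns prescribed. -/
theorem exists_core {ι : Type} [DecidableEq ι] (hq : 5 ≤ Fintype.card F) (S : Finset ι) (w w' : ι → F)
    (hno : ∀ k ∈ S, ∀ a b : F, (∀ x ∈ S, x ≠ k → a * w x + b * w' x = 0) → a * w k + b * w' k = 0) :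
    ∃ C ⊆ S, ∃ k : ℕ, C.card ≤ 4 ∧ 8 ≤ k * 4 ^ (4 - C.card) ∧ ∀ f : ι → Fˣ, ∃ t : Fin k → ι → Fˣ,
      Function.Injective t ∧ ∀ i, (∀ x, x ∉ C → t i x = f x) ∧
      ∑ x ∈ S, (t i x : F) * w x = 0 ∧ ∑ x ∈ S, (t i x : F) * w' x = 0 := by
  classical
  have hsplit : ∀ C ⊆ S, ∀ (t f : ι → Fˣ) (u : ι → F), (∀ x, x ∉ C → t x = f x) →
      ∑ x ∈ S, (t x : F) * u x = (∑ x ∈ C, (t x : F) * u x) + ∑ x ∈ S \ C, (f x : F) * u x := by
    intro C hC t f u htf
    rw [← Finset.sum_sdiff hC, add_comm]
    congr 1
    exact Finset.sum_congr rfl fun x hx => by rw [htf x (Finset.mem_sdiff.1 hx).2]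
  by_cases h0 : ∀ x ∈ S, w x = 0 ∧ w' x = 0
  · refine ⟨∅, by simp, 1, by simp, by simp, fun f => ⟨fun _ => f, Function.injective_of_subsingleton _,
      fun _ => ⟨fun _ _ => rfl, ?_, ?_⟩⟩⟩ <;>
      exact Finset.sum_eq_zero fun x hx => by simp [h0 x hx]
  push Not at h0
  set Δ : ι → ι → F := fun x y => w x * w' y - w' x * w y with hΔ
  by_cases hrank : ∀ x ∈ S, ∀ y ∈ S, Δ x y = 0
  · -- proportional rows
    obtain ⟨x, hx, hx'⟩ := h0
    obtain ⟨a, b, hab⟩ : ∃ a b : F, a * w x + b * w' x ≠ 0 := by
      by_cases hwx : w x = 0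
      · exact ⟨0, 1, by simpa using hx' hwx⟩
      · exact ⟨1, 0, by simpa using hwx⟩
    obtain ⟨y, hy, hyx, hyn⟩ : ∃ y ∈ S, y ≠ x ∧ a * w y + b * w' y ≠ 0 := by
      by_contra! hc
      exact hab (hno x hx a b hc)
    set ex := a * w x + b * w' x
    set ey := a * w y + b * w' y
    have hprop : ∀ z ∈ S, w z * ex = (a * w z + b * w' z) * w x ∧ w' z * ex = (a * w z + b * w' z) * w' x :=
      fun z hz => ⟨by have := hrank x hx z hz; simp only [hΔ, ex] at this ⊢; linear_combination -b * this,
        by have := hrank x hx z hz; simp only [hΔ, ex] at this ⊢; linear_combination a * this⟩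
    refine ⟨{x, y}, by simp [Finset.insert_subset_iff, hx, hy], 1, Finset.card_le_two.trans (by omega),
      by simp [Finset.card_pair hyx.symm], fun f => ?_⟩
    obtain ⟨tX, tY, -, e'⟩ := exists_two_units (k := 1) (by rw [Nat.card_eq_fintype_card]; omega) (div_ne_zero hyn hab)
      (-(∑ z ∈ S \ {x, y}, (f z : F) * (a * w z + b * w' z)) / ex)
    set tx := tX 0
    set ty := tY 0
    have e := e' 0
    refine ⟨fun _ => Function.update (Function.update f x tx) y ty, Function.injective_of_subsingleton _,
      fun _ => ⟨fun z hz => ?_, ?_, ?_⟩⟩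
    · simp only [Finset.mem_insert, Finset.mem_singleton, not_or] at hz
      simp [Function.update_apply, hz.1, hz.2]
    all_goals
      set T := Function.update (Function.update f x tx) y ty with hT
      have htot : ∑ z ∈ S, (T z : F) * (a * w z + b * w' z) = 0 := by
        rw [hsplit {x, y} (by simp [Finset.insert_subset_iff, hx, hy]) T f _ (fun z hz => by
          simp only [Finset.mem_insert, Finset.mem_singleton, not_or] at hz
          simp [hT, Function.update_apply, hz.1, hz.2]), Finset.sum_pair hyx.symm]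
        simp only [hT, Function.update_self, Function.update_of_ne hyx.symm]
        show (tx : F) * ex + (ty : F) * ey + _ = 0
        field_simp at e
        linear_combination e
      refine (mul_eq_zero.1 ?_).resolve_right hab
      rw [Finset.sum_mul]
    · rw [Finset.sum_congr rfl fun z hz => show (T z : F) * w z * ex = ((T z : F) * (a * w z + b * w' z)) * w x by
        rw [mul_assoc, (hprop z hz).1, mul_assoc], ← Finset.sum_mul, htot, zero_mul]
    · rw [Finset.sum_congr rfl fun z hz => show (T z : F) * w' z * ex = ((T z : F) * (a * w z + b * w' z)) * w' x by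
        rw [mul_assoc, (hprop z hz).2, mul_assoc], ← Finset.sum_mul, htot, zero_mul]
  push Not at hrank
  obtain ⟨x, hx, y, hy, hxy⟩ := hrank
  have hxy' : x ≠ y := by
    rintro rfl
    exact hxy (by simp [hΔ]; ring)
  by_cases hthree : ∃ z ∈ S, Δ x z ≠ 0 ∧ Δ y z ≠ 0
  · obtain ⟨z, hz, hxz, hyz⟩ := hthree
    have hzx : z ≠ x := by
      rintro rfl
      exact hxz (by simp [hΔ]; ring)
    have hzy : z ≠ y := by
      rintro rfl
      exact hyz (by simp [hΔ]; ring)
    refine ⟨{x, y, z}, by simp [Finset.insert_subset_iff, hx, hy, hz], 2, Finset.card_le_three.trans (by omega),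
      ?_, fun f => ?_⟩
    · have : ({x, y, z} : Finset ι).card = 3 := Finset.card_eq_three.2 ⟨x, y, z, hxy', hzx.symm, hzy.symm, rfl⟩
      simp [this]
    set T₁ := -∑ v ∈ S \ {x, y, z}, (f v : F) * w v
    set T₂ := -∑ v ∈ S \ {x, y, z}, (f v : F) * w' v
    set ux := T₁ * w' y - T₂ * w y
    set uy := w x * T₂ - w' x * T₁
    obtain ⟨e, he⟩ := exists_embedding_avoid ({0, -ux / Δ y z, uy / Δ x z} : Finset F) (k := 2) (by
      have := Finset.card_le_three (a := (0 : F)) (b := -ux / Δ y z) (c := uy / Δ x z)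
      rw [Nat.card_eq_fintype_card]; omega)
    simp only [Finset.mem_insert, Finset.mem_singleton, not_or] at he
    have key : ∀ i : Fin 2, ∃ t : ι → Fˣ, (t z : F) = e i ∧ (∀ v, v ∉ ({x, y, z} : Finset ι) → t v = f v) ∧
        ∑ v ∈ S, (t v : F) * w v = 0 ∧ ∑ v ∈ S, (t v : F) * w' v = 0 := by
     intro i
     obtain ⟨s, hs⟩ : ∃ s, s = e i := ⟨_, rfl⟩
     have hse := hs
     have hs := hs ▸ he i
     have htx : (ux + s * Δ y z) / Δ x y ≠ 0 :=
       div_ne_zero (fun e => hs.2.1 (by field_simp; linear_combination e)) hxy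
     have hty : (uy - s * Δ x z) / Δ x y ≠ 0 :=
       div_ne_zero (fun e => hs.2.2 (by field_simp; linear_combination -e)) hxy
     set t := Function.update (Function.update (Function.update f z (Units.mk0 s hs.1)) y (Units.mk0 _ hty)) x
       (Units.mk0 _ htx) with ht
     have hoff : ∀ v, v ∉ ({x, y, z} : Finset ι) → t v = f v := fun v hv => by
       simp only [Finset.mem_insert, Finset.mem_singleton, not_or] at hv
       simp [ht, Function.update_apply, hv.1, hv.2.1, hv.2.2]
     refine ⟨t, by simp [ht, hse, Function.update_of_ne hzx, Function.update_of_ne hzy], hoff, ?_, ?_⟩ <;>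
     · rw [hsplit _ (by simp [Finset.insert_subset_iff, hx, hy, hz]) t f _ hoff,
         Finset.sum_insert (by simp [hxy', hzx.symm]), Finset.sum_pair hzy.symm]
       simp only [ht, Function.update_self, Function.update_of_ne hxy'.symm, Function.update_of_ne hzx,
         Function.update_of_ne hzy, Units.val_mk0]
       simp only [ux, uy, T₁, T₂]
       field_simp
       simp only [hΔ]
       ring
    choose t h0 h1 h2 h3 using key
    exact ⟨t, fun i j hij => e.injective (by rw [← h0, ← h0, hij]), fun i => ⟨h1 i, h2 i, h3 i⟩⟩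
  push Not at hthree
  obtain ⟨x', hx', hx'x, hx'y⟩ : ∃ x' ∈ S, x' ≠ x ∧ Δ x' y ≠ 0 := by
    by_contra! hc
    exact hxy (by
      have := hno x hx (w' y) (-w y) fun v hv hvx => by have := hc v hv hvx; simp only [hΔ] at this; linear_combination this
      simp only [hΔ]; linear_combination this)
  obtain ⟨y', hy', hy'y, hxy'y⟩ : ∃ y' ∈ S, y' ≠ y ∧ Δ x y' ≠ 0 := by
    by_contra! hc
    exact hxy (by
      have := hno y hy (-w' x) (w x) fun v hv hvy => by have := hc v hv hvy; simp only [hΔ] at this; linear_combination this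
      simp only [hΔ]; linear_combination this)
  have hxx' : Δ x x' = 0 := by
    by_contra e
    exact hx'y (by have := hthree x' hx' e; simp only [hΔ] at this ⊢; linear_combination -this)
  have hyy' : Δ y y' = 0 := hthree y' hy' hxy'y
  have hx'y' : x' ≠ y' := fun e => hxy'y (e ▸ hxx')
  have hx'ny : x' ≠ y := fun e => hx'y (by rw [e]; simp [hΔ]; ring)
  have hy'nx : y' ≠ x := fun e => hxy'y (by rw [e]; simp [hΔ]; ring)
  refine ⟨{x, x', y, y'}, by simp [Finset.insert_subset_iff, hx, hx', hy, hy'], 9, Finset.card_le_four,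
    le_trans (by norm_num) (Nat.le_mul_of_pos_right 9 (by positivity)), fun f => ?_⟩
  set T₁ := -∑ v ∈ S \ {x, x', y, y'}, (f v : F) * w v
  set T₂ := -∑ v ∈ S \ {x, x', y, y'}, (f v : F) * w' v
  have hq3 : 3 + 2 ≤ Nat.card F := by rw [Nat.card_eq_fintype_card]; omega
  obtain ⟨tX, tX', hXi, eX⟩ := exists_two_units (k := 3) hq3 (div_ne_zero hx'y hxy) ((T₁ * w' y - T₂ * w y) / Δ x y)
  obtain ⟨tY, tY', hYi, eY⟩ := exists_two_units (k := 3) hq3 (div_ne_zero hxy'y hxy) ((w x * T₂ - w' x * T₁) / Δ x y)
  have key : ∀ i : Fin 3 × Fin 3, ∃ t : ι → Fˣ, t x' = tX' i.1 ∧ t y' = tY' i.2 ∧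
      (∀ v, v ∉ ({x, x', y, y'} : Finset ι) → t v = f v) ∧
      ∑ v ∈ S, (t v : F) * w v = 0 ∧ ∑ v ∈ S, (t v : F) * w' v = 0 := by
   intro i
   set tx := tX i.1
   set tx' := tX' i.1
   set ty := tY i.2
   set ty' := tY' i.2
   have ex := eX i.1
   have ey := eY i.2
   set t := Function.update (Function.update (Function.update (Function.update f y' ty') y ty) x' tx') x tx with ht
   have hoff : ∀ v, v ∉ ({x, x', y, y'} : Finset ι) → t v = f v := fun v hv => by
     simp only [Finset.mem_insert, Finset.mem_singleton, not_or] at hv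
     simp [ht, Function.update_apply, hv.1, hv.2.1, hv.2.2.1, hv.2.2.2]
   refine ⟨t, ?_, ?_, hoff, ?_, ?_⟩
   · simp [ht, Function.update_of_ne hx'x]
   · simp [ht, Function.update_of_ne hy'nx, Function.update_of_ne hx'y'.symm, Function.update_of_ne hy'y]
   all_goals
   · rw [hsplit _ (by simp [Finset.insert_subset_iff, hx, hx', hy, hy']) t f _ hoff,
       Finset.sum_insert (by simp [hxy', hx'x.symm, hy'nx.symm]), Finset.sum_insert (by simp [hx'ny, hx'y']),
       Finset.sum_pair hy'y.symm]
     simp only [ht, Function.update_self, Function.update_of_ne hxy'.symm, Function.update_of_ne hx'x,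
       Function.update_of_ne hy'nx, Function.update_of_ne hx'ny.symm, Function.update_of_ne hx'y'.symm,
       Function.update_of_ne hy'y]
     simp only [T₁, T₂] at ex ey
     field_simp at ex ey
     simp only [hΔ] at hxy hxx' hyy' ex ey
     refine mul_right_cancel₀ hxy ?_
     rw [zero_mul]
     first
       | linear_combination w x * ex + w y * ey + (tx' : F) * w y * hxx' - (ty' : F) * w x * hyy'
       | linear_combination w' x * ex + w' y * ey + (tx' : F) * w' y * hxx' - (ty' : F) * w' x * hyy'
  choose t h0 h0' h1 h2 h3 using key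
  refine ⟨fun l => t (finProdFinEquiv.symm l), fun a b hab => (finProdFinEquiv (m := 3) (n := 3)).symm.injective ?_,
    fun i => ⟨h1 _, h2 _, h3 _⟩⟩
  exact Prod.ext (hXi (by rw [← h0, ← h0]; exact congrFun hab x')) (hYi (by rw [← h0', ← h0']; exact congrFun hab y'))

end CfsgLib.Geo.Monomial
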