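/-
Monomial matrices, diagonal tori, and rank-one elements of subgroups of the general linear group.
-/
import Mathlib
import Cfsg.Prelude.Def_GeometricClasses
import Cfsg.Agent.Lib.Geo.Transvection

set_option autoImplicit false

namespace CfsgLib.Geo.Monomial

open Matrix

variable {ι : Type} [Fintype ι] [DecidableEq ι] {F : Type*} [Field F]

/-- Diagonal matrices. -/
def dg : (ι → Fˣ) →* GL ι F :=
  (Units.map (Matrix.diagonalRingHom ι F).toMonoidHom).comp MulEquiv.piUnits.symm.toMonoidHom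

theorem coe_dg (t : ι → Fˣ) : ((dg t : GL ι F) : Matrix ι ι F) = Matrix.diagonal fun i => (t i : F) := rfl

theorem dg_mulVec (t : ι → Fˣ) (x : ι → F) (i : ι) :
    (((dg t : GL ι F) : Matrix ι ι F) *ᵥ x) i = t i * x i := by
  rw [coe_dg, Matrix.mulVec_diagonal]

theorem dg_vecMul (t : ι → Fˣ) (x : ι → F) (i : ι) :
    (x ᵥ* ((dg t : GL ι F) : Matrix ι ι F)) i = x i * t i := by
  rw [coe_dg, Matrix.vecMul_diagonal]

theorem det_dg (t : ι → Fˣ) : ((dg t : GL ι F) : Matrix ι ι F).det = ∏ i, (t i : F) := by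
  rw [coe_dg, Matrix.det_diagonal]

/-- Monomial matrices. -/
def Mon (g : GL ι F) : Prop :=
  ∃ σ : Equiv.Perm ι, ∀ i j, i ≠ σ j → (g : Matrix ι ι F) i j = 0

theorem mon_dg (t : ι → Fˣ) : Mon (dg t : GL ι F) :=
  ⟨1, fun i j hij => by rw [coe_dg]; exact Matrix.diagonal_apply_ne _ hij⟩

theorem Mon.mul {g h : GL ι F} (hg : Mon g) (hh : Mon h) : Mon (g * h) := by
  obtain ⟨σ, hσ⟩ := hg
  obtain ⟨τ, hτ⟩ := hh
  refine ⟨σ * τ, fun i j hij => ?_⟩
  rw [Units.val_mul, Matrix.mul_apply]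
  refine Finset.sum_eq_zero fun k _ => ?_
  by_cases hk : k = τ j
  · rw [hσ i k (by rw [hk]; exact hij), zero_mul]
  · rw [hτ k j hk, mul_zero]

/-- The non-zero entry of a column of a monomial matrix. -/
theorem Mon.ne_zero {g : GL ι F} {σ : Equiv.Perm ι} (hσ : ∀ i j, i ≠ σ j → (g : Matrix ι ι F) i j = 0) (j : ι) :
    (g : Matrix ι ι F) (σ j) j ≠ 0 := by
  intro h
  have h1 : (g : Matrix ι ι F) *ᵥ Pi.single j 1 = (g : Matrix ι ι F) *ᵥ 0 := by
    rw [Matrix.mulVec_zero, Matrix.mulVec_single_one]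
    funext i
    by_cases hi : i = σ j
    · subst hi; exact h
    · exact hσ i j hi
  have := Matrix.mulVec_injective_iff_isUnit.2 g.isUnit h1
  exact one_ne_zero (α := F) (by simpa using congrFun this j)

theorem Mon.mulVec_single {g : GL ι F} {σ : Equiv.Perm ι} (hσ : ∀ i j, i ≠ σ j → (g : Matrix ι ι F) i j = 0) (j : ι) :
    (g : Matrix ι ι F) *ᵥ Pi.single j 1 = (g : Matrix ι ι F) (σ j) j • Pi.single (σ j) 1 := by
  rw [Matrix.mulVec_single_one]
  funext i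
  by_cases hi : i = σ j
  · subst hi; simp
  · simp [hσ i j hi, hi]

theorem Mon.mulVec_apply {g : GL ι F} {σ : Equiv.Perm ι} (hσ : ∀ i j, i ≠ σ j → (g : Matrix ι ι F) i j = 0)
    (x : ι → F) (j : ι) : ((g : Matrix ι ι F) *ᵥ x) (σ j) = (g : Matrix ι ι F) (σ j) j * x j := by
  show ∑ k, (g : Matrix ι ι F) (σ j) k * x k = _
  rw [Finset.sum_eq_single j]
  · intro k _ hk
    rw [hσ _ _ (fun e => hk (σ.injective e).symm), zero_mul]
  · simp

theorem Mon.inv {g : GL ι F} (hg : Mon g) : Mon g⁻¹ := by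
  obtain ⟨σ, hσ⟩ := hg
  refine ⟨σ⁻¹, fun i j hij => ?_⟩
  have h1 : ((g : Matrix ι ι F) * ((g⁻¹ : GL ι F) : Matrix ι ι F)) (σ i) j = 0 := by
    rw [Units.mul_inv, Matrix.one_apply_ne]
    intro e
    exact hij (by rw [← e]; exact (σ.symm_apply_apply i).symm)
  rw [Matrix.mul_apply, Finset.sum_eq_single i] at h1
  · exact (mul_eq_zero.1 h1).resolve_left (Mon.ne_zero hσ i)
  · intro k _ hk
    rw [hσ _ _ (fun e => hk (σ.injective e).symm), zero_mul]
  · simp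

theorem Mon.of_inv {g : GL ι F} (hg : ¬ Mon g) : ¬ Mon g⁻¹ := fun h => hg (by simpa using h.inv)

theorem not_mon_mul_left {g w : GL ι F} (hw : Mon w) (hg : ¬ Mon g) : ¬ Mon (w * g) := fun h =>
  hg (by simpa using hw.inv.mul h)

/-- Vectors of column shape. -/
theorem mon_of_cols {g : GL ι F} (h : ∀ j, ∃ i, ∀ k, k ≠ i → (g : Matrix ι ι F) k j = 0) : Mon g := by
  choose σ hσ using h
  have hinj : Function.Injective σ := by
    intro j j' e
    by_contra hne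
    set a := (g : Matrix ι ι F) (σ j) j
    set a' := (g : Matrix ι ι F) (σ j) j'
    have hcol : ∀ l, (∀ k, k ≠ σ j → (g : Matrix ι ι F) k l = 0) →
        (g : Matrix ι ι F) *ᵥ Pi.single l 1 = (g : Matrix ι ι F) (σ j) l • Pi.single (σ j) 1 := fun l hl => by
      rw [Matrix.mulVec_single_one]
      funext k
      by_cases hk : k = σ j
      · subst hk; simp
      · simp [hl k hk, hk]
    have h1 : (g : Matrix ι ι F) *ᵥ (a' • Pi.single j 1 - a • Pi.single j' 1) = (g : Matrix ι ι F) *ᵥ 0 := by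
      rw [Matrix.mulVec_sub, Matrix.mulVec_smul, Matrix.mulVec_smul, hcol j (hσ j), hcol j' (by rw [e]; exact hσ j'),
        Matrix.mulVec_zero, smul_smul, smul_smul, mul_comm, sub_self]
    have h2 := congrFun (Matrix.mulVec_injective_iff_isUnit.2 g.isUnit h1) j'
    simp [Ne.symm hne] at h2
    have h3 : (g : Matrix ι ι F) *ᵥ Pi.single j 1 = (g : Matrix ι ι F) *ᵥ 0 := by
      rw [hcol j (hσ j), Matrix.mulVec_zero]
      simp [a, h2]
    exact one_ne_zero (α := F) (by simpa using congrFun (Matrix.mulVec_injective_iff_isUnit.2 g.isUnit h3) j)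
  exact ⟨Equiv.ofBijective σ hinj.bijective_of_finite, fun i j hij => hσ j i hij⟩

/-- The element `1 + c a ⊗ α` lies in `G`. -/
def El (G : Subgroup (GL ι F)) (c : F) (a α : ι → F) : Prop :=
  ∃ x ∈ G, ((x : GL ι F) : Matrix ι ι F) = 1 + c • Matrix.vecMulVec a α

variable {G : Subgroup (GL ι F)}

theorem El.conj {c : F} {a α : ι → F} (h : El G c a α) {g : GL ι F} (hg : g ∈ G) :
    El G c ((g : Matrix ι ι F) *ᵥ a) (α ᵥ* ((g⁻¹ : GL ι F) : Matrix ι ι F)) := by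
  obtain ⟨x, hx, e⟩ := h
  refine ⟨g * x * g⁻¹, G.mul_mem (G.mul_mem hg hx) (G.inv_mem hg), ?_⟩
  rw [Units.val_mul, Units.val_mul, e, mul_add, mul_one, add_mul, Units.mul_inv, Matrix.mul_smul, Matrix.smul_mul,
    Matrix.mul_vecMulVec, Matrix.vecMulVec_mul]

theorem El.zero (a α : ι → F) : El G 0 a α := ⟨1, G.one_mem, by simp⟩

theorem El.mul {c d : F} {a b α β : ι → F} (h : El G c a α) (h' : El G d b β) :
    ∃ x ∈ G, ((x : GL ι F) : Matrix ι ι F) = 1 + c • Matrix.vecMulVec a α + d • Matrix.vecMulVec b β +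
      (c * d * (α ⬝ᵥ b)) • Matrix.vecMulVec a β := by
  obtain ⟨x, hx, e⟩ := h
  obtain ⟨y, hy, e'⟩ := h'
  refine ⟨x * y, G.mul_mem hx hy, ?_⟩
  rw [Units.val_mul, e, e', add_mul, one_mul, mul_add, mul_one, Matrix.smul_mul, Matrix.mul_smul,
    Matrix.vecMulVec_mul_vecMulVec, Matrix.vecMulVec_smul, smul_smul, smul_smul]
  abel

theorem El.scale {c d : F} {a α a' α' : ι → F} (h : El G c a α)
    (e : c • Matrix.vecMulVec a α = d • Matrix.vecMulVec a' α') : El G d a' α' := by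
  obtain ⟨x, hx, e'⟩ := h
  exact ⟨x, hx, by rw [e', e]⟩

/-- The whole group of transvections `1 + c v ⊗ φ`. -/
def Tv (G : Subgroup (GL ι F)) (v φ : ι → F) : Prop := φ ⬝ᵥ v = 0 ∧ ∀ c, El G c v φ

theorem Tv.conj {v φ : ι → F} (h : Tv G v φ) {g : GL ι F} (hg : g ∈ G) :
    Tv G ((g : Matrix ι ι F) *ᵥ v) (φ ᵥ* ((g⁻¹ : GL ι F) : Matrix ι ι F)) := by
  refine ⟨?_, fun c => (h.2 c).conj hg⟩
  rw [← Matrix.dotProduct_mulVec, Matrix.mulVec_mulVec, Units.inv_mul, Matrix.one_mulVec]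
  exact h.1

theorem Tv.smul_left {v φ : ι → F} (h : Tv G v φ) (s : F) : Tv G (s • v) φ :=
  ⟨by rw [dotProduct_smul, h.1, smul_zero], fun c => (h.2 (c * s)).scale (by
    rw [Matrix.smul_vecMulVec, smul_smul])⟩

theorem Tv.smul_right {v φ : ι → F} (h : Tv G v φ) (s : F) : Tv G v (s • φ) :=
  ⟨by rw [smul_dotProduct, h.1, smul_zero], fun c => (h.2 (c * s)).scale (by
    rw [Matrix.vecMulVec_smul, smul_smul])⟩

theorem Tv.sub_right {v φ ψ : ι → F} (h : Tv G v φ) (h' : Tv G v ψ) : Tv G v (φ - ψ) := by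
  refine ⟨by rw [sub_dotProduct, h.1, h'.1, sub_zero], fun c => ?_⟩
  obtain ⟨x, hx, e⟩ := (h.2 c).mul (h'.2 (-c))
  refine ⟨x, hx, ?_⟩
  rw [e, h.1, mul_zero, zero_smul, add_zero, Matrix.vecMulVec_sub, smul_sub, neg_smul]
  abel

theorem Tv.sub_left {v w φ : ι → F} (h : Tv G v φ) (h' : Tv G w φ) : Tv G (v - w) φ := by
  refine ⟨by rw [dotProduct_sub, h.1, h'.1, sub_zero], fun c => ?_⟩
  obtain ⟨x, hx, e⟩ := (h.2 c).mul (h'.2 (-c))
  refine ⟨x, hx, ?_⟩
  rw [e, h'.1, mul_zero, zero_smul, add_zero, Matrix.sub_vecMulVec, smul_sub, neg_smul]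
  abel

/-- A pseudo-reflection family. -/
def Pr (G : Subgroup (GL ι F)) (a α : ι → F) : Prop := α ⬝ᵥ a = 1 ∧ ∀ μ : F, μ ≠ 0 → El G (μ - 1) a α

theorem Pr.conj {a α : ι → F} (h : Pr G a α) {g : GL ι F} (hg : g ∈ G) :
    Pr G ((g : Matrix ι ι F) *ᵥ a) (α ᵥ* ((g⁻¹ : GL ι F) : Matrix ι ι F)) := by
  refine ⟨?_, fun μ hμ => (h.2 μ hμ).conj hg⟩
  rw [← Matrix.dotProduct_mulVec, Matrix.mulVec_mulVec, Units.inv_mul, Matrix.one_mulVec]
  exact h.1

/-- Coefficients avoiding `-1` generate. -/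
theorem el_all {v φ : ι → F} (h0 : φ ⬝ᵥ v = 0) (hq : ∃ s : F, s ≠ 0 ∧ s ≠ -1)
    (h : ∀ c : F, c ≠ -1 → El G c v φ) (c : F) : El G c v φ := by
  by_cases hc : c = -1
  · obtain ⟨s, hs0, hs⟩ := hq
    obtain ⟨x, hx, e⟩ := (h s hs).mul (h (-1 - s) (fun e => hs0 (by linear_combination -e)))
    refine ⟨x, hx, ?_⟩
    rw [e, h0, mul_zero, zero_smul, add_zero, hc]
    module
  · exact h c hc

/-- Two pseudo-reflection families with one functional give transvections. -/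
theorem Pr.tv_left (hq : ∃ s : F, s ≠ 0 ∧ s ≠ -1) {a a' α : ι → F} (h : Pr G a α) (h' : Pr G a' α) :
    Tv G (a' - a) α := by
  have h0 : α ⬝ᵥ (a' - a) = 0 := by rw [dotProduct_sub, h.1, h'.1, sub_self]
  refine ⟨h0, el_all h0 hq fun c hc => ?_⟩
  have hc1 : c + 1 ≠ 0 := fun e => hc (eq_neg_of_add_eq_zero_left e)
  obtain ⟨x, hx, e⟩ := (h.2 _ (inv_ne_zero hc1)).mul (h'.2 _ hc1)
  refine ⟨x, hx, ?_⟩
  rw [e, h'.1, Matrix.sub_vecMulVec]
  match_scalars <;> field_simp <;> ring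

/-- Two pseudo-reflection families with one centre give transvections. -/
theorem Pr.tv_right (hq : ∃ s : F, s ≠ 0 ∧ s ≠ -1) {a α α' : ι → F} (h : Pr G a α) (h' : Pr G a α') :
    Tv G a (α - α') := by
  have h0 : (α - α') ⬝ᵥ a = 0 := by rw [sub_dotProduct, h.1, h'.1, sub_self]
  refine ⟨h0, el_all h0 hq fun c hc => ?_⟩
  have hc1 : c + 1 ≠ 0 := fun e => hc (eq_neg_of_add_eq_zero_left e)
  obtain ⟨x, hx, e⟩ := (h.2 _ hc1).mul (h'.2 _ (inv_ne_zero hc1))
  refine ⟨x, hx, ?_⟩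
  rw [e, h.1, Matrix.vecMulVec_sub]
  match_scalars <;> field_simp <;> ring

end CfsgLib.Geo.Monomial
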