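/-
Subgroups of `GL` containing the diagonal torus and all permutations but not monomial contain root transvections.
-/
import Cfsg.Agent.Lib.Geo.MonomialBasic

set_option autoImplicit false

namespace CfsgLib.Geo.Monomial

open Matrix

variable {ι : Type} [Fintype ι] [DecidableEq ι] {F : Type*} [Field F] [Finite F]

theorem exists_avoid (s : Finset F) (h : s.card < Nat.card F) : ∃ x : F, x ∉ s := by
  by_contra! hc
  have : Fintype F := Fintype.ofFinite F
  rw [Finset.eq_univ_iff_forall.2 hc, Finset.card_univ, ← Nat.card_eq_fintype_card] at h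
  exact lt_irrefl _ h

omit [Fintype ι] [Finite F] in
/-- Scale one coordinate. -/
def scaleAt (l : ι) (s : Fˣ) : ι → Fˣ := Function.update 1 l s

omit [Fintype ι] [Finite F] in
theorem scaleAt_apply (l : ι) (s : Fˣ) (i : ι) : ((scaleAt l s i : Fˣ) : F) = if i = l then (s : F) else 1 := by
  rw [scaleAt, Function.update_apply]
  split_ifs <;> simp

omit [Fintype ι] [Finite F] in
theorem scaleAt_inv (l : ι) (s : Fˣ) (i : ι) :
    (((scaleAt l s)⁻¹ i : Fˣ) : F) = if i = l then (s : F)⁻¹ else 1 := by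
  rw [Pi.inv_apply, Units.val_inv_eq_inv_val, scaleAt_apply]
  split_ifs <;> simp

variable {G : Subgroup (GL ι F)} (hq : 5 ≤ Nat.card F) (hdiag : ∀ t, (dg t : GL ι F) ∈ G)
include hq

theorem exists_gen : ∃ s : F, s ≠ 0 ∧ s ≠ -1 ∧ s ≠ 1 := by
  classical
  obtain ⟨x, hx⟩ := exists_avoid ({0, -1, 1} : Finset F) (lt_of_le_of_lt Finset.card_le_three (by omega))
  simp only [Finset.mem_insert, Finset.mem_singleton, not_or] at hx
  exact ⟨x, hx⟩

theorem exists_coeff : ∃ s : F, s ≠ 0 ∧ s ≠ -1 := by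
  obtain ⟨s, h0, h1, -⟩ := exists_gen hq
  exact ⟨s, h0, h1⟩

include hdiag

theorem tv_scale {v φ : ι → F} (h : Tv G v φ) (t : ι → Fˣ) :
    Tv G (fun i => (t i : F) * v i) (fun i => φ i * ((t⁻¹ i : Fˣ) : F)) := by
  have := h.conj (hdiag t)
  convert this using 1
  · funext i; rw [dg_mulVec]
  · funext i; rw [← map_inv, dg_vecMul]

theorem pr_scale {v φ : ι → F} (h : Pr G v φ) (t : ι → Fˣ) :
    Pr G (fun i => (t i : F) * v i) (fun i => φ i * ((t⁻¹ i : Fˣ) : F)) := by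
  have := h.conj (hdiag t)
  convert this using 1
  · funext i; rw [dg_mulVec]
  · funext i; rw [← map_inv, dg_vecMul]

theorem root_of_single_centre {l : ι} {φ : ι → F} (h : Tv G (Pi.single l 1) φ) (hφ : φ ≠ 0) :
    ∃ i j, i ≠ j ∧ Tv G (Pi.single i 1) (Pi.single j 1) := by
  obtain ⟨j, hj⟩ := Function.ne_iff.1 hφ
  have hl : φ l = 0 := by simpa using h.1
  have hjl : j ≠ l := fun e => hj (by rw [e]; exact hl)
  obtain ⟨s, hs0, -, hs1⟩ := exists_gen hq
  have h1 := tv_scale hq hdiag h (scaleAt j (Units.mk0 s hs0))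
  have e1 : (fun i => ((scaleAt j (Units.mk0 s hs0) i : Fˣ) : F) * (Pi.single l 1 : ι → F) i) = Pi.single l 1 := by
    funext i
    rw [scaleAt_apply]
    by_cases hi : i = l
    · subst hi; rw [if_neg hjl.symm, one_mul]
    · simp [hi]
  rw [e1] at h1
  refine ⟨l, j, hjl.symm, ?_⟩
  convert (h.sub_right h1).smul_right ((1 - s⁻¹) * φ j)⁻¹ using 1
  funext i
  simp only [Pi.smul_apply, Pi.sub_apply, smul_eq_mul, scaleAt_inv, Units.val_mk0]
  by_cases hi : i = j
  · subst hi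
    have : φ i * (1 - s⁻¹) ≠ 0 := mul_ne_zero hj (sub_ne_zero.2 (fun e => hs1 (by rw [← inv_inv s, ← e, inv_one])))
    rw [Pi.single_eq_same, if_pos rfl, show φ i - φ i * s⁻¹ = φ i * (1 - s⁻¹) by ring, mul_comm (1 - s⁻¹),
      inv_mul_cancel₀ this]
  · simp [hi]

/-- A transvection group yields a root transvection. -/
theorem root_of_tv {v φ : ι → F} (h : Tv G v φ) (hv : v ≠ 0) (hφ : φ ≠ 0) :
    ∃ i j, i ≠ j ∧ Tv G (Pi.single i 1) (Pi.single j 1) := by
  obtain ⟨l, hl⟩ := Function.ne_iff.1 hv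
  obtain ⟨s, hs0, -, hs1⟩ := exists_gen hq
  have hsl : (s - 1) * v l ≠ 0 := mul_ne_zero (sub_ne_zero.2 hs1) hl
  have h1 := tv_scale hq hdiag h (scaleAt l (Units.mk0 s hs0))
  set v' := fun i => ((scaleAt l (Units.mk0 s hs0) i : Fˣ) : F) * v i with hv'
  set φ' := fun i => φ i * (((scaleAt l (Units.mk0 s hs0))⁻¹ i : Fˣ) : F) with hφ'
  have hdiff : v' - v = ((s - 1) * v l) • Pi.single l 1 := by
    funext i
    simp only [hv', Pi.sub_apply, Pi.smul_apply, smul_eq_mul, scaleAt_apply, Units.val_mk0]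
    by_cases hi : i = l
    · subst hi; simp; ring
    · simp [hi]
  by_cases hφl : φ l = 0
  · have e : φ' = φ := by
      funext i
      simp only [hφ', scaleAt_inv]
      by_cases hi : i = l
      · subst hi; simp [hφl]
      · simp [hi]
    rw [e] at h1
    refine root_of_single_centre hq hdiag (l := l) (φ := φ) ?_ hφ
    convert (h1.sub_left h).smul_left ((s - 1) * v l)⁻¹ using 1
    rw [hdiff, inv_smul_smul₀ hsl]
  -- move the centre onto a coordinate line
  have hκ : φ ⬝ᵥ v' = (s - 1) * v l * φ l := by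
    have : φ ⬝ᵥ (v' - v) = (s - 1) * v l * φ l := by
      rw [hdiff, dotProduct_smul, smul_eq_mul, dotProduct_single_one]
    rwa [dotProduct_sub, h.1, sub_zero] at this
  have hκ0 : φ ⬝ᵥ v' ≠ 0 := by rw [hκ]; exact mul_ne_zero hsl hφl
  obtain ⟨u, hu, eu⟩ := h.2 (-(φ ⬝ᵥ v')⁻¹)
  have h2 := h1.conj hu
  have e2 : (u : Matrix ι ι F) *ᵥ v' = ((s - 1) * v l) • Pi.single l 1 := by
    rw [eu, Matrix.add_mulVec, Matrix.one_mulVec, Matrix.smul_mulVec, Matrix.vecMulVec_mulVec, op_smul_eq_smul,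
      smul_smul, neg_mul, inv_mul_cancel₀ hκ0, neg_one_smul, ← sub_eq_add_neg, hdiff]
  rw [e2] at h2
  have hφ'0 : φ' ≠ 0 := Function.ne_iff.2 ⟨l, mul_ne_zero hφl (Units.ne_zero _)⟩
  refine root_of_single_centre hq hdiag (l := l) ?_ (φ := φ' ᵥ* ((u⁻¹ : GL ι F) : Matrix ι ι F)) fun e => hφ'0 ?_
  · have := h2.smul_left ((s - 1) * v l)⁻¹
    rwa [inv_smul_smul₀ hsl] at this
  · have := congrArg (fun x => x ᵥ* (u : Matrix ι ι F)) e
    simpa [Matrix.vecMul_vecMul] using this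

/-- A pseudo-reflection with unequal supports. -/
theorem root_of_pr_unequal {a α : ι → F} (h : Pr G a α) {l : ι}
    (hl : a l ≠ 0 ∧ α l = 0 ∨ a l = 0 ∧ α l ≠ 0) : ∃ i j, i ≠ j ∧ Tv G (Pi.single i 1) (Pi.single j 1) := by
  have ha : a ≠ 0 := fun e => one_ne_zero (α := F) (by rw [← h.1, e, dotProduct_zero])
  have hα : α ≠ 0 := fun e => one_ne_zero (α := F) (by rw [← h.1, e, zero_dotProduct])
  obtain ⟨s, hs0, -, hs1⟩ := exists_gen hq
  have h1 := pr_scale hq hdiag h (scaleAt l (Units.mk0 s hs0))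
  rcases hl with ⟨hal, hαl⟩ | ⟨hal, hαl⟩
  · have e : (fun i => α i * (((scaleAt l (Units.mk0 s hs0))⁻¹ i : Fˣ) : F)) = α := by
      funext i
      simp only [scaleAt_inv]
      by_cases hi : i = l
      · subst hi; simp [hαl]
      · simp [hi]
    rw [e] at h1
    refine root_of_tv hq hdiag (h.tv_left (exists_coeff hq) h1) (fun e0 => ?_) hα
    have := congrFun e0 l
    simp only [Pi.sub_apply, Pi.zero_apply, scaleAt_apply, Units.val_mk0, if_true] at this
    exact mul_ne_zero (sub_ne_zero.2 hs1) hal (by linear_combination this)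
  · have e : (fun i => ((scaleAt l (Units.mk0 s hs0) i : Fˣ) : F) * a i) = a := by
      funext i
      simp only [scaleAt_apply]
      by_cases hi : i = l
      · subst hi; simp [hal]
      · simp [hi]
    rw [e] at h1
    refine root_of_tv hq hdiag (h.tv_right (exists_coeff hq) h1) ha (fun e0 => ?_)
    have := congrFun e0 l
    simp only [Pi.sub_apply, Pi.zero_apply, scaleAt_inv, Units.val_mk0, if_true] at this
    exact mul_ne_zero hαl (sub_ne_zero.2 (fun (e : (1 : F) = s⁻¹) => hs1 (by rw [← inv_inv s, ← e, inv_one]))) (by linear_combination this)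

/-- A pseudo-reflection with three common coordinates. -/
theorem root_of_pr_three {a α : ι → F} (h : Pr G a α) {i₁ i₂ i₃ : ι} (h12 : i₁ ≠ i₂) (h13 : i₁ ≠ i₃)
    (h23 : i₂ ≠ i₃) (h1 : α i₁ * a i₁ ≠ 0) (h2 : α i₂ * a i₂ ≠ 0) (h3 : α i₃ * a i₃ ≠ 0) :
    ∃ i j, i ≠ j ∧ Tv G (Pi.single i 1) (Pi.single j 1) := by
  classical
  set p₁ := α i₁ * a i₁
  set p₂ := α i₂ * a i₂
  set p₃ := α i₃ * a i₃
  set R := ((Finset.univ.erase i₁).erase i₂).erase i₃
  set r := ∑ i ∈ R, α i * a i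
  have hsum : ∀ f : ι → F, ∑ i, f i = f i₁ + f i₂ + f i₃ + ∑ i ∈ R, f i := fun f => by
    rw [← Finset.add_sum_erase _ _ (Finset.mem_univ i₁), ← Finset.add_sum_erase _ _
      (Finset.mem_erase.2 ⟨h12.symm, Finset.mem_univ i₂⟩), ← Finset.add_sum_erase _ _
      (Finset.mem_erase.2 ⟨h23.symm, Finset.mem_erase.2 ⟨h13.symm, Finset.mem_univ i₃⟩⟩)]
    ring
  obtain ⟨s, hs⟩ := exists_avoid ({0, -r / p₃} : Finset F) (lt_of_le_of_lt Finset.card_le_two (by omega))
  simp only [Finset.mem_insert, Finset.mem_singleton, not_or] at hs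
  set C := p₃ * s + r
  set C' := p₃ / s + r
  have hC : C ≠ 0 := fun e => hs.2 (by field_simp; linear_combination e)
  -- the bad values are the roots of a non-zero quadratic
  set P : Polynomial F := Polynomial.C (-C' * p₁) * Polynomial.X ^ 2 +
    Polynomial.C (-p₁ * p₁ + p₂ * p₂ - C' * C) * Polynomial.X + Polynomial.C (-p₁ * C)
  have hP : P ≠ 0 := fun e => by
    have := congrArg (Polynomial.coeff · 0) e
    simp [P] at this
    exact this.elim h1 hC
  obtain ⟨x, hx⟩ := exists_avoid ({0, -C / p₁} ∪ P.roots.toFinset) (lt_of_le_of_lt (Finset.card_union_le _ _) (by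
    have e1 : P.roots.toFinset.card ≤ 2 :=
      (Multiset.toFinset_card_le _).trans ((Polynomial.card_roots' P).trans (by
        simp only [P]
        compute_degree))
    have e2 : ({0, -C / p₁} : Finset F).card ≤ 2 := Finset.card_le_two
    omega))
  simp only [Finset.mem_union, Finset.mem_insert, Finset.mem_singleton, Multiset.mem_toFinset,
    Polynomial.mem_roots hP, not_or] at hx
  obtain ⟨⟨hx0, hxC⟩, hxP⟩ := hx
  set y := -(p₁ * x + C) / p₂
  have hy : y ≠ 0 := div_ne_zero (neg_ne_zero.2 fun e => hxC (by field_simp; linear_combination e)) h2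
  let t : ι → Fˣ := fun i => if i = i₁ then Units.mk0 x hx0 else if i = i₂ then Units.mk0 y hy else
    if i = i₃ then Units.mk0 s hs.1 else 1
  have ht : ∀ i ∈ R, t i = 1 := fun i hi => by
    simp only [R, Finset.mem_erase] at hi
    simp [t, hi.1, hi.2.1, hi.2.2.1]
  have hb : α ⬝ᵥ (fun i => (t i : F) * a i) = 0 := by
    show ∑ i, α i * ((t i : F) * a i) = 0
    rw [hsum, Finset.sum_congr rfl fun i hi => show α i * ((t i : F) * a i) = α i * a i by
      rw [ht i hi, Units.val_one, one_mul]]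
    simp only [t, h12.symm, h13.symm, h23.symm, if_true, if_false, Units.val_mk0]
    have : p₂ * y = -(p₁ * x + C) := mul_div_cancel₀ _ h2
    simp only [C, p₁, p₂, p₃, r] at this ⊢
    linear_combination this
  have hβ : (fun i => α i * ((t⁻¹ i : Fˣ) : F)) ⬝ᵥ a ≠ 0 := by
    intro e
    refine hxP ?_
    have e' : ∑ i, α i * ((t⁻¹ i : Fˣ) : F) * a i = 0 := e
    rw [hsum, Finset.sum_congr rfl fun i hi => show α i * ((t⁻¹ i : Fˣ) : F) * a i = α i * a i by
      rw [Pi.inv_apply, ht i hi, inv_one, Units.val_one, mul_one]] at e'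
    simp only [t, Pi.inv_apply, Units.val_inv_eq_inv_val, h12.symm, h13.symm, h23.symm, if_true, if_false,
      Units.val_mk0] at e'
    have e'' : p₁ / x + p₂ / y + C' = 0 := by
      simp only [C', p₁, p₂, p₃, r, div_eq_mul_inv]
      linear_combination e'
    have hy2 : p₂ * y = -(p₁ * x + C) := mul_div_cancel₀ _ h2
    field_simp at e''
    have e3 : (p₁ * y + p₂ * x + C' * (x * y)) * p₂ = 0 := by linear_combination p₂ * e''
    simp only [P, Polynomial.IsRoot, Polynomial.eval_add, Polynomial.eval_mul, Polynomial.eval_pow,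
      Polynomial.eval_C, Polynomial.eval_X]
    linear_combination e3 - (p₁ + C' * x) * hy2
  set b := fun i => (t i : F) * a i
  set β := fun i => α i * ((t⁻¹ i : Fˣ) : F)
  have hz : Pr G b β := pr_scale hq hdiag h t
  obtain ⟨m, hm0, -, hm1⟩ := exists_gen hq
  obtain ⟨y₀, hy₀, ey⟩ := h.2 m hm0
  obtain ⟨y₁, hy₁, ey'⟩ := h.2 m⁻¹ (inv_ne_zero hm0)
  have hinv : y₀⁻¹ = y₁ := by
    refine inv_eq_of_mul_eq_one_right (Units.ext ?_)
    rw [Units.val_mul, ey, ey', Units.val_one, add_mul, one_mul, mul_add, mul_one, Matrix.smul_mul, Matrix.mul_smul,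
      Matrix.vecMulVec_mul_vecMulVec, h.1, one_smul, smul_smul]
    match_scalars <;> field_simp <;> ring
  have h' := hz.conj hy₀
  rw [hinv] at h'
  have e1 : (y₀ : Matrix ι ι F) *ᵥ b = b := by
    rw [ey, Matrix.add_mulVec, Matrix.one_mulVec, Matrix.smul_mulVec, Matrix.vecMulVec_mulVec, hb]
    simp
  have e2 : β ᵥ* (y₁ : Matrix ι ι F) = β + ((m⁻¹ - 1) * (β ⬝ᵥ a)) • α := by
    rw [ey', Matrix.vecMul_add, Matrix.vecMul_one, Matrix.vecMul_smul, Matrix.vecMul_vecMulVec, smul_smul]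
  rw [e1, e2] at h'
  have ht' := h'.tv_right (exists_coeff hq) hz
  rw [add_sub_cancel_left] at ht'
  refine root_of_tv hq hdiag ht' (fun e => ?_) (smul_ne_zero (mul_ne_zero (sub_ne_zero.2
    (fun e => hm1 (by rw [← inv_inv m, e, inv_one]))) hβ) fun e => h1 (by simp [p₁, e]))
  exact h1 (by
    have := congrFun e i₁
    simp only [b, Pi.zero_apply, mul_eq_zero, Units.ne_zero, false_or] at this
    simp [p₁, this])

/-- A subgroup with the diagonal torus and the permutations, not monomial, contains a root transvection group. -/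
theorem exists_root (h3 : 3 ≤ Fintype.card ι)
    (hperm : ∀ σ : Equiv.Perm ι, ∃ w ∈ G, ∀ i j, i ≠ σ j → ((w : GL ι F) : Matrix ι ι F) i j = 0)
    {g : GL ι F} (hg : g ∈ G) (hn : ¬ Mon g) : ∃ i j, i ≠ j ∧ Tv G (Pi.single i 1) (Pi.single j 1) := by
  classical
  obtain ⟨k, hk⟩ : ∃ k, ∀ i, ∃ r, r ≠ i ∧ (g : Matrix ι ι F) r k ≠ 0 := by
    by_contra! hc
    exact hn (mon_of_cols hc)
  have hek : Pr G (Pi.single k 1 : ι → F) (Pi.single k 1) := by
    refine ⟨by simp, fun μ hμ => ⟨dg (scaleAt k (Units.mk0 μ hμ)), hdiag _, ?_⟩⟩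
    rw [coe_dg]
    ext i j
    simp only [scaleAt_apply, Units.val_mk0, Matrix.add_apply, Matrix.smul_apply, Matrix.vecMulVec_apply,
      Matrix.one_apply, Matrix.diagonal_apply, Pi.single_apply, smul_eq_mul]
    split_ifs <;> simp_all
  have hA := hek.conj hg
  set a := (g : Matrix ι ι F) *ᵥ Pi.single k 1
  set α := (Pi.single k 1 : ι → F) ᵥ* ((g⁻¹ : GL ι F) : Matrix ι ι F)
  have ha : ∀ i, a i = (g : Matrix ι ι F) i k := fun i => by simp [a, Matrix.mulVec_single_one]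
  by_cases hne : ∃ l, a l ≠ 0 ∧ α l = 0 ∨ a l = 0 ∧ α l ≠ 0
  · obtain ⟨l, hl⟩ := hne
    exact root_of_pr_unequal hq hdiag hA hl
  push Not at hne
  have hiff : ∀ l, a l ≠ 0 → α l * a l ≠ 0 := fun l hl => mul_ne_zero ((hne l).1 hl) hl
  obtain ⟨i₂, -, hi₂⟩ := hk k
  obtain ⟨i₁, h12, hi₁⟩ := hk i₂
  rw [← ha] at hi₁ hi₂
  by_cases hthree : ∃ i₃, i₁ ≠ i₃ ∧ i₂ ≠ i₃ ∧ a i₃ ≠ 0
  · obtain ⟨i₃, h13, h23, hi₃⟩ := hthree
    exact root_of_pr_three hq hdiag hA h12 h13 h23 (hiff _ hi₁) (hiff _ hi₂) (hiff _ hi₃)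
  push Not at hthree
  -- two coordinates: combine with a shifted copy
  obtain ⟨i₃, h13, h23⟩ : ∃ i₃, i₁ ≠ i₃ ∧ i₂ ≠ i₃ := by
    obtain ⟨x, hx⟩ := Finset.exists_mem_notMem_of_card_lt_card (s := ({i₁, i₂} : Finset ι)) (t := Finset.univ)
      (lt_of_le_of_lt Finset.card_le_two (by rw [Finset.card_univ]; omega))
    simp only [Finset.mem_insert, Finset.mem_singleton, not_or] at hx
    exact ⟨x, Ne.symm hx.2.1, Ne.symm hx.2.2⟩
  have hz : ∀ i, i ≠ i₁ → i ≠ i₂ → a i = 0 ∧ α i = 0 := fun i e1 e2 => by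
    refine ⟨hthree i e1.symm e2.symm, ?_⟩
    by_contra hαi
    exact hαi ((hne i).2 (hthree i e1.symm e2.symm))
  let σ : Equiv.Perm ι := Equiv.swap i₁ i₂ * Equiv.swap i₂ i₃
  have hσ1 : σ i₁ = i₂ := by
    show Equiv.swap i₁ i₂ (Equiv.swap i₂ i₃ i₁) = i₂
    rw [Equiv.swap_apply_of_ne_of_ne h12 h13, Equiv.swap_apply_left]
  have hσ2 : σ i₂ = i₃ := by
    show Equiv.swap i₁ i₂ (Equiv.swap i₂ i₃ i₂) = i₃
    rw [Equiv.swap_apply_left, Equiv.swap_apply_of_ne_of_ne h13.symm h23.symm]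
  obtain ⟨w, hw, hwσ⟩ := hperm σ
  have hB := hA.conj hw
  set a' := (w : Matrix ι ι F) *ᵥ a
  set α' := α ᵥ* ((w⁻¹ : GL ι F) : Matrix ι ι F)
  have hzero : ∀ i, i ≠ i₂ → i ≠ i₃ → a' i = 0 := fun i e2 e3 => by
    obtain ⟨j, rfl⟩ := σ.surjective i
    simp only [a', Mon.mulVec_apply hwσ]
    rw [(hz j (fun e => e2 (by rw [e, hσ1])) (fun e => e3 (by rw [e, hσ2]))).1, mul_zero]
  have ha'2 : a' i₂ ≠ 0 := by
    rw [← hσ1]
    simp only [a', Mon.mulVec_apply hwσ]
    exact mul_ne_zero (Mon.ne_zero hwσ _) hi₁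
  have ha'3 : a' i₃ ≠ 0 := by
    rw [← hσ2]
    simp only [a', Mon.mulVec_apply hwσ]
    exact mul_ne_zero (Mon.ne_zero hwσ _) hi₂
  by_cases hne' : ∃ l, a' l ≠ 0 ∧ α' l = 0 ∨ a' l = 0 ∧ α' l ≠ 0
  · obtain ⟨l, hl⟩ := hne'
    exact root_of_pr_unequal hq hdiag hB hl
  push Not at hne'
  set κ := α ⬝ᵥ a'
  have hκ : κ = α i₂ * a' i₂ := by
    show ∑ i, α i * a' i = _
    rw [Finset.sum_eq_single i₂]
    · intro i _ hi
      by_cases h' : i = i₃
      · rw [h', (hz i₃ h13.symm h23.symm).2, zero_mul]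
      · rw [hzero i hi h', mul_zero]
    · simp
  have hκ0 : κ ≠ 0 := by rw [hκ]; exact mul_ne_zero ((hne i₂).1 hi₂) ha'2
  obtain ⟨μ, hμ⟩ := exists_avoid ({0, 1, 1 - a' i₂ / (κ * a i₂)} : Finset F)
    (lt_of_le_of_lt Finset.card_le_three (by omega))
  simp only [Finset.mem_insert, Finset.mem_singleton, not_or] at hμ
  obtain ⟨hμ0, hμ1, hμ2⟩ := hμ
  obtain ⟨r, hr, er⟩ := hA.2 μ hμ0
  have hC := hB.conj hr
  set b := (r : Matrix ι ι F) *ᵥ a'
  have hbi : ∀ i, b i = a' i + (μ - 1) * (κ * a i) := fun i => by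
    simp only [b, er, Matrix.add_mulVec, Matrix.one_mulVec, Matrix.smul_mulVec, Matrix.vecMulVec_mulVec,
      op_smul_eq_smul, Pi.add_apply, Pi.smul_apply, smul_eq_mul]
    rfl
  have hb1 : b i₁ ≠ 0 := by
    rw [hbi, hzero i₁ h12 h13, zero_add]
    exact mul_ne_zero (sub_ne_zero.2 hμ1) (mul_ne_zero hκ0 hi₁)
  have hb2 : b i₂ ≠ 0 := by
    rw [hbi]
    intro e
    refine hμ2 ?_
    field_simp
    linear_combination e
  have hb3 : b i₃ ≠ 0 := by
    rw [hbi, (hz i₃ h13.symm h23.symm).1]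
    simpa using ha'3
  set β := α' ᵥ* ((r⁻¹ : GL ι F) : Matrix ι ι F)
  by_cases hne'' : ∃ l, b l ≠ 0 ∧ β l = 0 ∨ b l = 0 ∧ β l ≠ 0
  · obtain ⟨l, hl⟩ := hne''
    exact root_of_pr_unequal hq hdiag hC hl
  push Not at hne''
  exact root_of_pr_three hq hdiag hC h12 h13 h23 (mul_ne_zero ((hne'' _).1 hb1) hb1)
    (mul_ne_zero ((hne'' _).1 hb2) hb2) (mul_ne_zero ((hne'' _).1 hb3) hb3)

end CfsgLib.Geo.Monomial
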