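/-
An overgroup of the monomial group of determinant one, not monomial, has a non-monomial element fixing a
coordinate line.
-/
import Cfsg.Agent.Lib.Geo.MonomialGL
import Cfsg.Agent.Lib.Geo.MonomialCover

set_option autoImplicit false

namespace CfsgLib.Geo.Monomial

open Matrix

variable {ι : Type} [Fintype ι] [DecidableEq ι] {F : Type*} [Field F]

/-- The torus element with `s` at `i` and `s⁻¹` at `j`. -/
def pairAt (i j : ι) (s : Fˣ) : ι → Fˣ := scaleAt i s * scaleAt j s⁻¹

theorem prod_scaleAt (l : ι) (s : Fˣ) : ∏ x, scaleAt l s x = s := by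
  rw [Finset.prod_eq_single l]
  · simp [scaleAt]
  · intro x _ hx
    simp [scaleAt, Function.update_of_ne hx]
  · simp

theorem prod_pairAt (i j : ι) (s : Fˣ) : ∏ x, pairAt i j s x = 1 := by
  simp only [pairAt, Pi.mul_apply, Finset.prod_mul_distrib, prod_scaleAt, mul_inv_cancel]

omit [Fintype ι] in
theorem pairAt_apply {i j : ι} (hij : i ≠ j) (s : Fˣ) (x : ι) :
    pairAt i j s x = if x = i then s else if x = j then s⁻¹ else 1 := by
  simp only [pairAt, Pi.mul_apply, scaleAt, Function.update_apply, Pi.one_apply]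
  by_cases h1 : x = i
  · subst h1; simp [hij]
  · simp [h1]

/-- Supports of independent columns. -/
theorem card_le_of_support (g : GL ι F) {P S : Finset ι}
    (h : ∀ x ∈ P, ∀ r, r ∉ S → (g : Matrix ι ι F) r x = 0) : P.card ≤ S.card := by
  classical
  let L : (↥P → F) →ₗ[F] (↥S → F) :=
    LinearMap.pi fun r : ↥S => ∑ x : ↥P, (g : Matrix ι ι F) (r : ι) (x : ι) • LinearMap.proj x
  have hL : Function.Injective L := by
    refine (injective_iff_map_eq_zero L).2 fun a ha => ?_
    set z : ι → F := fun x => if hx : x ∈ P then a ⟨x, hx⟩ else 0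
    have hz : ∀ r, ((g : Matrix ι ι F) *ᵥ z) r = ∑ x : ↥P, (g : Matrix ι ι F) r (x : ι) * a x := fun r => by
      show ∑ x, (g : Matrix ι ι F) r x * z x = _
      rw [← Finset.sum_subset (Finset.subset_univ P) (fun x _ hx => by simp [z, hx]), ← Finset.sum_coe_sort]
      exact Finset.sum_congr rfl fun x _ => by simp [z]
    have hz0 : (g : Matrix ι ι F) *ᵥ z = (g : Matrix ι ι F) *ᵥ 0 := by
      rw [Matrix.mulVec_zero]
      funext r
      rw [hz, Pi.zero_apply]
      by_cases hr : r ∈ S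
      · have := congrFun ha ⟨r, hr⟩
        simpa [L, LinearMap.sum_apply] using this
      · exact Finset.sum_eq_zero fun x _ => by rw [h x x.2 r hr, zero_mul]
    funext x
    have := congrFun (Matrix.mulVec_injective_iff_isUnit.2 g.isUnit hz0) x
    simpa [z] using this
  have := LinearMap.finrank_le_finrank_of_injective hL
  simpa using this

/-- A vector with image in the second block lies in the first. -/
theorem support_of_block (g : GL ι F) {P S : Finset ι} (hout : ∀ x, x ∉ P → ∀ r ∈ S, (g : Matrix ι ι F) r x = 0)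
    (hin : ∀ x ∈ P, ∀ r, r ∉ S → (g : Matrix ι ι F) r x = 0) {z : ι → F}
    (hz : ∀ r, r ∉ S → ((g : Matrix ι ι F) *ᵥ z) r = 0) : ∀ x, x ∉ P → z x = 0 := by
  classical
  set z' : ι → F := fun x => if x ∈ P then 0 else z x
  have hz' : (g : Matrix ι ι F) *ᵥ z' = (g : Matrix ι ι F) *ᵥ 0 := by
    rw [Matrix.mulVec_zero]
    funext r
    show ∑ x, (g : Matrix ι ι F) r x * z' x = 0
    by_cases hr : r ∈ S
    · refine Finset.sum_eq_zero fun x _ => ?_
      by_cases hx : x ∈ P
      · simp [z', hx]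
      · simp [hout x hx r hr]
    · rw [← hz r hr]
      refine Finset.sum_congr rfl fun x _ => ?_
      by_cases hx : x ∈ P
      · simp [hin x hx r hr]
      · simp [z', hx]
  intro x hx
  have := congrFun (Matrix.mulVec_injective_iff_isUnit.2 g.isUnit hz') x
  simpa [z', hx] using this

variable [Finite F]

theorem exists_order (hq : 5 ≤ Nat.card F) : ∃ s : Fˣ, (s : F) ^ 2 ≠ 1 ∧ (s : F) ^ 3 ≠ 1 := by
  haveI := Fintype.ofFinite F
  obtain ⟨s, hs⟩ := IsCyclic.exists_ofOrder_eq_natCard (α := Fˣ)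
  rw [Nat.card_units] at hs
  refine ⟨s, fun e => ?_, fun e => ?_⟩ <;>
  · rw [← Units.val_pow_eq_pow_val, Units.val_eq_one] at e
    have := Nat.le_of_dvd (by norm_num) (orderOf_dvd_of_pow_eq_one e)
    omega

omit [Finite F] in
/-- A conjugate of a pair element is monomial only in block situations. -/
theorem block {g : GL ι F} {i j : ι} (hij : i ≠ j) {s : Fˣ} (hs2 : (s : F) ^ 2 ≠ 1) (hs3 : (s : F) ^ 3 ≠ 1)
    (hu : Mon (g⁻¹ * dg (pairAt i j s) * g)) :
    ∃ P : Finset ι, P.card ≤ 2 ∧ (∀ x, x ∉ P → ∀ r ∈ ({i, j} : Finset ι), (g : Matrix ι ι F) r x = 0) ∧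
      ∀ x ∈ P, ∀ r, r ∉ ({i, j} : Finset ι) → (g : Matrix ι ι F) r x = 0 := by
  classical
  obtain ⟨σ, hσ⟩ := hu
  set u := g⁻¹ * dg (pairAt i j s) * g with hudef
  set T : ι → F := fun r => (pairAt i j s r : F)
  have hgu : ∀ z : ι → F, (g : Matrix ι ι F) *ᵥ ((u : Matrix ι ι F) *ᵥ z) =
      fun r => T r * ((g : Matrix ι ι F) *ᵥ z) r := fun z => by
    funext r
    rw [Matrix.mulVec_mulVec, ← Units.val_mul, show g * u = dg (pairAt i j s) * g by rw [hudef]; group,
      Units.val_mul, ← Matrix.mulVec_mulVec, dg_mulVec]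
  set c : F := 1 + (s : F) + (s : F)⁻¹
  have hT : ∀ r, T r ^ 3 - c * T r ^ 2 + c * T r - 1 = 0 := fun r => by
    simp only [T, pairAt_apply hij, c]
    have hs : (s : F) ≠ 0 := s.ne_zero
    split_ifs
    all_goals try simp only [Units.val_inv_eq_inv_val, Units.val_one, inv_pow]
    all_goals first | ring1 | (field_simp; ring)
  have hσσ : ∀ x, σ (σ x) = x := by
    intro x
    by_contra hx
    set e : ι → F := Pi.single x 1
    set a := (u : Matrix ι ι F) (σ x) x
    set b := (u : Matrix ι ι F) (σ (σ x)) (σ x)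
    set d := (u : Matrix ι ι F) (σ (σ (σ x))) (σ (σ x))
    have e1 : (u : Matrix ι ι F) *ᵥ e = a • Pi.single (σ x) 1 := Mon.mulVec_single hσ x
    have e2 : (u : Matrix ι ι F) *ᵥ ((u : Matrix ι ι F) *ᵥ e) = (a * b) • Pi.single (σ (σ x)) 1 := by
      rw [e1, Matrix.mulVec_smul, Mon.mulVec_single hσ, smul_smul]
    have e3 : (u : Matrix ι ι F) *ᵥ ((u : Matrix ι ι F) *ᵥ ((u : Matrix ι ι F) *ᵥ e)) =
        (a * b * d) • Pi.single (σ (σ (σ x))) 1 := by
      rw [e2, Matrix.mulVec_smul, Mon.mulVec_single hσ, smul_smul]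
    have key : (u : Matrix ι ι F) *ᵥ ((u : Matrix ι ι F) *ᵥ ((u : Matrix ι ι F) *ᵥ e)) -
        c • ((u : Matrix ι ι F) *ᵥ ((u : Matrix ι ι F) *ᵥ e)) + c • ((u : Matrix ι ι F) *ᵥ e) - e = 0 := by
      refine Matrix.mulVec_injective_iff_isUnit.2 g.isUnit ?_
      simp only [Matrix.mulVec_sub, Matrix.mulVec_add, Matrix.mulVec_smul, hgu, Matrix.mulVec_zero]
      funext r
      simp only [Pi.sub_apply, Pi.add_apply, Pi.smul_apply, smul_eq_mul, Pi.zero_apply]
      linear_combination ((g : Matrix ι ι F) *ᵥ e) r * hT r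
    rw [e3, e2, e1] at key
    have hx1 : σ x ≠ x := fun e' => hx (by rw [e', e'])
    have h := congrFun key (σ x)
    simp only [e, Pi.sub_apply, Pi.add_apply, Pi.smul_apply, smul_eq_mul, Pi.zero_apply, Pi.single_apply,
      if_neg hx1, if_true, mul_one] at h
    rw [if_neg (fun e' => hx (σ.injective e').symm), if_neg (fun e' => hx1 (σ.injective e').symm), mul_zero] at h
    simp only [mul_zero, sub_zero, zero_add, zero_sub, neg_zero] at h
    have hc : c = 0 := (mul_eq_zero.1 h).resolve_right (Mon.ne_zero hσ x)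
    refine hs3 ?_
    simp only [c] at hc
    field_simp at hc
    linear_combination ((s : F) - 1) * hc
  -- the square of `u` is diagonal
  set D : ι → F := fun x => (u : Matrix ι ι F) x (σ x) * (u : Matrix ι ι F) (σ x) x
  have hD : ∀ x r, (g : Matrix ι ι F) r x * D x = T r * T r * (g : Matrix ι ι F) r x := fun x r => by
    have e2 : (u : Matrix ι ι F) *ᵥ ((u : Matrix ι ι F) *ᵥ Pi.single x 1) = D x • Pi.single x 1 := by
      rw [Mon.mulVec_single hσ, Matrix.mulVec_smul, Mon.mulVec_single hσ, smul_smul, hσσ, mul_comm]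
    have h1 : ((g : Matrix ι ι F) *ᵥ ((u : Matrix ι ι F) *ᵥ ((u : Matrix ι ι F) *ᵥ Pi.single x 1))) r =
        ((g : Matrix ι ι F) *ᵥ (D x • Pi.single x 1)) r := by rw [e2]
    rw [hgu, hgu, Matrix.mulVec_smul, Matrix.mulVec_single_one] at h1
    simp only [Pi.smul_apply, smul_eq_mul, Matrix.col_apply] at h1
    linear_combination -h1
  have hT1 : ∀ r ∈ ({i, j} : Finset ι), T r * T r ≠ 1 := by
    intro r hr
    simp only [T, pairAt_apply hij]
    simp only [Finset.mem_insert, Finset.mem_singleton] at hr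
    rcases hr with rfl | rfl
    · simp only [if_true, ← sq]; exact hs2
    · simp only [if_neg hij.symm, if_true, ← sq, Units.val_inv_eq_inv_val, inv_pow, ne_eq, inv_eq_one]; exact hs2
  have hT0 : ∀ r, r ∉ ({i, j} : Finset ι) → T r * T r = 1 := by
    intro r hr
    simp only [Finset.mem_insert, Finset.mem_singleton, not_or] at hr
    simp [T, pairAt_apply hij, hr.1, hr.2]
  refine ⟨Finset.univ.filter fun x => D x ≠ 1, ?_, fun x hx r hr => ?_, fun x hx r hr => ?_⟩
  · refine (card_le_of_support g (S := {i, j}) fun x hx r hr => ?_).trans Finset.card_le_two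
    have hx' := (Finset.mem_filter.1 hx).2
    by_contra h0
    exact hx' (mul_left_cancel₀ h0 (by rw [hD, hT0 r hr, one_mul, mul_one]))
  · simp only [Finset.mem_filter, Finset.mem_univ, true_and, ne_eq, not_not] at hx
    by_contra h0
    refine hT1 r hr (mul_left_cancel₀ h0 ?_)
    have := hD x r
    rw [hx] at this
    linear_combination -this
  · have hx' := (Finset.mem_filter.1 hx).2
    by_contra h0
    exact hx' (mul_left_cancel₀ h0 (by rw [hD, hT0 r hr, one_mul, mul_one]))

variable {X : Subgroup (GL ι F)} (hq : 5 ≤ Nat.card F) (hn : 6 ≤ Fintype.card ι)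
  (hdiag : ∀ t : ι → Fˣ, ∏ x, t x = 1 → (dg t : GL ι F) ∈ X)
  (hperm : ∀ σ : Equiv.Perm ι, ∃ w ∈ X, ∀ i j, i ≠ σ j → ((w : GL ι F) : Matrix ι ι F) i j = 0)

/-- A non-monomial element fixing a coordinate line. -/
def Fix (X : Subgroup (GL ι F)) : Prop :=
  ∃ h ∈ X, ¬ Mon h ∧ ∃ n, ∀ r, r ≠ n → ((h : GL ι F) : Matrix ι ι F) r n = 0

include hperm in
theorem fix_of_single {g : GL ι F} (hg : g ∈ X) (hnm : ¬ Mon g) {k m : ι}
    (h : ∀ r, r ≠ m → (g : Matrix ι ι F) r k = 0) : Fix X := by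
  obtain ⟨w, hw, hwσ⟩ := hperm (Equiv.swap m k)
  refine ⟨w * g, X.mul_mem hw hg, not_mon_mul_left ⟨_, hwσ⟩ hnm, k, fun r hr => ?_⟩
  rw [Units.val_mul, Matrix.mul_apply]
  refine Finset.sum_eq_zero fun l _ => ?_
  by_cases hl : l = m
  · rw [hl, hwσ r m (by rwa [Equiv.swap_apply_left]), zero_mul]
  · rw [h l hl, mul_zero]

include hq hn hdiag hperm in
theorem fix_of_two_zeros {g : GL ι F} (hg : g ∈ X) (hnm : ¬ Mon g) {k i j : ι} (hij : i ≠ j)
    (hi : (g : Matrix ι ι F) i k = 0) (hj : (g : Matrix ι ι F) j k = 0) : Fix X := by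
  classical
  by_cases hsingle : ∃ m, ∀ r, r ≠ m → (g : Matrix ι ι F) r k = 0
  · obtain ⟨m, hm⟩ := hsingle
    exact fix_of_single hperm hg hnm hm
  obtain ⟨s, hs2, hs3⟩ := exists_order hq
  set u := g⁻¹ * dg (pairAt i j s) * g with hudef
  have hu : u ∈ X := X.mul_mem (X.mul_mem (X.inv_mem hg) (hdiag _ (prod_pairAt i j s))) hg
  have huk : (u : Matrix ι ι F) *ᵥ Pi.single k 1 = Pi.single k 1 := by
    refine Matrix.mulVec_injective_iff_isUnit.2 g.isUnit ?_
    rw [Matrix.mulVec_mulVec, ← Units.val_mul, show g * u = dg (pairAt i j s) * g by rw [hudef]; group,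
      Units.val_mul, ← Matrix.mulVec_mulVec, Matrix.mulVec_single_one]
    funext r
    rw [dg_mulVec, pairAt_apply hij, Matrix.col_apply]
    split_ifs with h1 h2
    · subst h1; rw [hi, mul_zero]
    · subst h2; rw [hj, mul_zero]
    · simp
  by_cases hum : Mon u
  swap
  · refine ⟨u, hu, hum, k, fun r hr => ?_⟩
    have := congrFun huk r
    simpa [Matrix.mulVec_single_one, hr] using this
  obtain ⟨P, hP, hout, hin⟩ := block hij hs2 hs3 hum
  have hkP : k ∉ P := fun hk => hsingle ⟨k, fun r _ => by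
    by_cases hr : r ∈ ({i, j} : Finset ι)
    · simp only [Finset.mem_insert, Finset.mem_singleton] at hr
      rcases hr with rfl | rfl
      · exact hi
      · exact hj
    · exact hin k hk r hr⟩
  have hzi : ∀ x, x ∉ P → (((g⁻¹ : GL ι F) : Matrix ι ι F) *ᵥ Pi.single i 1) x = 0 :=
    support_of_block g hout hin fun r hr => by
      rw [Matrix.mulVec_mulVec, Units.mul_inv, Matrix.one_mulVec]
      exact Pi.single_eq_of_ne (fun e => hr (by simp [e])) _
  by_contra hfix
  -- the other columns live in the support of column `k`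
  have hmain : ∀ x, x ∉ P → x ≠ k → ∃ Q : Finset ι, Q.card ≤ 2 ∧ (∀ r, r ∉ Q → (g : Matrix ι ι F) r k = 0) ∧
      ∀ r, r ∉ Q → (g : Matrix ι ι F) r x = 0 := by
    intro x hxP hxk
    set y := g * dg (pairAt k x s) * g⁻¹ with hydef
    have hy : y ∈ X := X.mul_mem (X.mul_mem hg (hdiag _ (prod_pairAt k x s))) (X.inv_mem hg)
    have hyi : (y : Matrix ι ι F) *ᵥ Pi.single i 1 = Pi.single i 1 := by
      have e1 : ((dg (pairAt k x s) : GL ι F) : Matrix ι ι F) *ᵥ (((g⁻¹ : GL ι F) : Matrix ι ι F) *ᵥ Pi.single i 1) =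
          ((g⁻¹ : GL ι F) : Matrix ι ι F) *ᵥ Pi.single i 1 := by
        funext r
        rw [dg_mulVec, pairAt_apply hxk.symm]
        split_ifs with h1 h2
        · subst h1; rw [hzi r hkP, mul_zero]
        · subst h2; rw [hzi r hxP, mul_zero]
        · simp
      rw [hydef, Units.val_mul, Units.val_mul, ← Matrix.mulVec_mulVec, ← Matrix.mulVec_mulVec, e1,
        Matrix.mulVec_mulVec, Units.mul_inv, Matrix.one_mulVec]
    have hym : Mon y := by
      by_contra hym
      refine hfix ⟨y, hy, hym, i, fun r hr => ?_⟩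
      have := congrFun hyi r
      simpa [Matrix.mulVec_single_one, hr] using this
    obtain ⟨Q, hQ, hout', hin'⟩ := block (g := g⁻¹) hxk.symm hs2 hs3 (by rwa [inv_inv])
    have hcol : ∀ z ∈ ({k, x} : Finset ι), ∀ r, r ∉ Q → (g : Matrix ι ι F) r z = 0 := fun z hz r hr => by
      have := support_of_block g⁻¹ hout' hin' (z := (g : Matrix ι ι F) *ᵥ Pi.single z 1) (fun r' hr' => by
        rw [Matrix.mulVec_mulVec, Units.inv_mul, Matrix.one_mulVec]
        exact Pi.single_eq_of_ne (fun e => hr' (by rw [e]; exact hz)) _) r hr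
      simpa [Matrix.mulVec_single_one] using this
    exact ⟨Q, hQ, hcol k (by simp), hcol x (by simp)⟩
  set A := Finset.univ.filter fun r => (g : Matrix ι ι F) r k ≠ 0
  have hA : 2 ≤ A.card := by
    by_contra hc
    rcases Finset.eq_empty_or_nonempty A with hA0 | ⟨m, hm⟩
    · exact hsingle ⟨k, fun r _ => by simpa [A] using Finset.eq_empty_iff_forall_notMem.1 hA0 r⟩
    · refine hsingle ⟨m, fun r hr => ?_⟩
      by_contra h0
      exact hr (Finset.card_le_one.1 (show A.card ≤ 1 by omega) r (by simp [A, h0]) m hm)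
  have hall : ∀ x ∈ Finset.univ \ P, ∀ r, r ∉ A → (g : Matrix ι ι F) r x = 0 := by
    intro x hx r hr
    by_cases hxk : x = k
    · subst hxk
      simpa [A] using hr
    obtain ⟨Q, hQ, h1, h2⟩ := hmain x (Finset.mem_sdiff.1 hx).2 hxk
    have hAQ : A = Q := Finset.eq_of_subset_of_card_le (fun z hz => by
      by_contra hzQ
      exact (Finset.mem_filter.1 hz).2 (h1 z hzQ)) (hQ.trans hA)
    exact h2 r (hAQ ▸ hr)
  have h1 := card_le_of_support g hall
  rw [Finset.card_univ_sdiff] at h1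
  obtain ⟨x, hx⟩ : ∃ x, x ∉ P ∧ x ≠ k := by
    obtain ⟨x, -, hx⟩ := Finset.exists_mem_notMem_of_card_lt_card (s := insert k P) (t := Finset.univ) (by
      have := Finset.card_insert_le k P
      rw [Finset.card_univ]; omega)
    simp only [Finset.mem_insert, not_or] at hx
    exact ⟨x, hx.2, hx.1⟩
  obtain ⟨Q, hQ, h2, -⟩ := hmain x hx.1 hx.2
  have h3 : A.card ≤ Q.card := Finset.card_le_card fun z hz => by
    by_contra hzQ
    exact (Finset.mem_filter.1 hz).2 (h2 z hzQ)
  omega

omit [Finite F] [DecidableEq ι] [Fintype ι] in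
theorem lt_four_pow : ∀ n, 6 ≤ n → n < 8 * 4 ^ (n - 6) := by
  intro n hn
  induction n, hn using Nat.le_induction with
  | base => norm_num
  | succ k hk ih =>
    rw [show k + 1 - 6 = k - 6 + 1 by omega, pow_succ]
    omega

omit [Finite F] in
/-- Many torus elements give a conjugate with a column that is not a coordinate vector. -/
theorem exists_conj_not_single {g : GL ι F} {k₁ r₀ : ι} (hc : ((g⁻¹ : GL ι F) : Matrix ι ι F) r₀ k₁ ≠ 0)
    {α : Type*} [Fintype α] (T : α → ι → Fˣ) (hr₀ : ∀ a, T a r₀ = 1)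
    (hinj : ∀ a b, (∀ x, ((g⁻¹ : GL ι F) : Matrix ι ι F) x k₁ ≠ 0 → T a x = T b x) → a = b)
    (hcard : Fintype.card ι < Fintype.card α) :
    ∃ a, ∀ l, ∃ r, r ≠ l ∧ ((g * dg (T a) * g⁻¹ : GL ι F) : Matrix ι ι F) r k₁ ≠ 0 := by
  classical
  by_contra! hno
  choose l hl using hno
  obtain ⟨a, b, hab, he⟩ := Fintype.exists_ne_map_eq_of_card_lt l hcard
  refine hab (hinj a b fun x hx => ?_)
  have key : ∀ a y, (T a y : F) * ((g⁻¹ : GL ι F) : Matrix ι ι F) y k₁ =
      ((g * dg (T a) * g⁻¹ : GL ι F) : Matrix ι ι F) (l a) k₁ * ((g⁻¹ : GL ι F) : Matrix ι ι F) y (l a) := by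
    intro a y
    have h1 : ((g * dg (T a) * g⁻¹ : GL ι F) : Matrix ι ι F) *ᵥ Pi.single k₁ 1 =
        ((g * dg (T a) * g⁻¹ : GL ι F) : Matrix ι ι F) (l a) k₁ • Pi.single (l a) 1 := by
      rw [Matrix.mulVec_single_one]
      funext r
      by_cases hr : r = l a
      · subst hr; simp
      · simp only [Matrix.col_apply, Pi.smul_apply, Pi.single_eq_of_ne hr, smul_zero]; exact hl a r hr
    have h2 := congrFun (congrArg (((g⁻¹ : GL ι F) : Matrix ι ι F) *ᵥ ·) h1) y
    rw [Matrix.mulVec_mulVec, ← Units.val_mul, show g⁻¹ * (g * dg (T a) * g⁻¹) = dg (T a) * g⁻¹ by group,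
      Units.val_mul, ← Matrix.mulVec_mulVec, dg_mulVec, Matrix.mulVec_smul] at h2
    simpa [Matrix.mulVec_single_one] using h2
  have ha := key a r₀
  have hb := key b r₀
  rw [hr₀] at ha hb
  rw [← he] at hb
  have hk : ((g * dg (T a) * g⁻¹ : GL ι F) : Matrix ι ι F) (l a) k₁ =
      ((g * dg (T b) * g⁻¹ : GL ι F) : Matrix ι ι F) (l a) k₁ := by
    have hne : ((g⁻¹ : GL ι F) : Matrix ι ι F) r₀ (l a) ≠ 0 := fun e0 => hc (by simpa [e0] using ha)
    exact mul_right_cancel₀ hne (ha.symm.trans hb)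
  refine Units.ext (mul_right_cancel₀ hx ?_)
  rw [key a, key b, ← he, hk]

include hq hn hdiag hperm in
theorem exists_zero (hfix : ¬ Fix X) {g : GL ι F} (hg : g ∈ X) (hnm : ¬ Mon g) :
    ∃ h ∈ X, ¬ Mon h ∧ ∃ r k, ((h : GL ι F) : Matrix ι ι F) r k = 0 := by
  classical
  haveI : Fintype F := Fintype.ofFinite F
  have hqF : 5 ≤ Fintype.card F := by rwa [← Nat.card_eq_fintype_card]
  by_contra! hc
  have hgi := hc _ (X.inv_mem hg) (Mon.of_inv hnm)
  obtain ⟨e⟩ : Nonempty (Fin 6 ↪ ι) :=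
    Function.Embedding.nonempty_of_card_le (by rw [Fintype.card_fin]; omega)
  set i₀ := e 0
  set c : ι → F := fun x => ((g⁻¹ : GL ι F) : Matrix ι ι F) x i₀
  set w : ι → F := fun x => (g : Matrix ι ι F) i₀ x * c x
  have hw : ∀ x, w x ≠ 0 := fun x => mul_ne_zero (hc g hg hnm _ _) (hgi _ _)
  set R : Finset ι := Finset.univ \ Finset.univ.map e
  have hR : R.card = Fintype.card ι - 6 := by
    rw [Finset.card_univ_sdiff, Finset.card_map, Finset.card_univ, Fintype.card_fin]
  have hRe : ∀ k, e k ∉ R := fun k => by simp [R]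
  let ext : (↥R → Fˣ) → ι → Fˣ := fun f y => if hy : y ∈ R then f ⟨y, hy⟩ else 1
  let K : (↥R → Fˣ) → F := fun f => ∑ y : ↥R, w y * (f y : F)
  -- the last free coordinate keeps the constant part non-zero
  choose u hu using fun f : ↥R → Fˣ =>
    exists_embedding_avoid ({0, -(K f + w (e 5)) / w (e 4)} : Finset F) (k := 3) (by
      have := Finset.card_le_two (a := (0 : F)) (b := -(K f + w (e 5)) / w (e 4))
      omega)
  simp only [Finset.mem_insert, Finset.mem_singleton, not_or] at hu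
  have hs : ∀ f i, K f + w (e 5) + w (e 4) * u f i ≠ 0 := fun f i h => (hu f i).2 (by
    rw [eq_div_iff (hw _)]; linear_combination h)
  set κ : Fˣ := Units.mk0 (-w (e 0) / w (e 1)) (div_ne_zero (neg_ne_zero.2 (hw _)) (hw _))
  let U : (↥R → Fˣ) → Fin 3 → Fˣ := fun f i => Units.mk0 (u f i) (hu f i).1
  let Pf : (↥R → Fˣ) → Fin 3 → Fˣ := fun f i => U f i * ∏ y, f y
  choose y z hyz hyz' using fun f i => exists_square hq (c := -w (e 3) * ((Pf f i * κ : Fˣ) : F))
    (s := K f + w (e 5) + w (e 4) * u f i) (w := w (e 2)) (mul_ne_zero (neg_ne_zero.2 (hw _)) (Units.ne_zero _)) (hs f i)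
  let x : (↥R → Fˣ) → Fin 3 → Fin 2 → Fˣ := fun f i j => Units.mk0 (w (e 3)) (hw _) * (z f i j)⁻¹
  let v : (↥R → Fˣ) → Fin 3 → Fin 2 → Fin 6 → Fˣ := fun f i j =>
    ![x f i j, x f i j * κ, y f i j, (x f i j * (x f i j * κ) * y f i j * Pf f i)⁻¹, U f i, 1]
  let T : Option ((↥R → Fˣ) × Fin 3 × Fin 2) → ι → Fˣ :=
    fun o => o.elim 1 fun a => Function.extend e (v a.1 a.2.1 a.2.2) (ext a.1)
  have hTa : ∀ a k, T (some a) (e k) = v a.1 a.2.1 a.2.2 k := fun a k => e.injective.extend_apply _ _ k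
  have hTb : ∀ (a : (↥R → Fˣ) × Fin 3 × Fin 2) (r : ↥R), T (some a) r = a.1 r := fun a r => by
    show Function.extend e _ _ (r : ι) = _
    rw [Function.extend_apply' _ _ _ fun ⟨k, hk⟩ => hRe k (hk ▸ r.2)]
    exact dif_pos r.2
  have hsplit : ∀ {M : Type _} [CommMonoid M] (φ : ι → M),
      ∏ i, φ i = (∏ k : Fin 6, φ (e k)) * ∏ r : ↥R, φ r := fun φ => by
    rw [← Finset.prod_sdiff (Finset.subset_univ (Finset.univ.map e)), mul_comm, Finset.prod_map,
      ← Finset.prod_coe_sort R]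
  have hsplit' : ∀ φ : ι → F, ∑ i, φ i = (∑ k : Fin 6, φ (e k)) + ∑ r : ↥R, φ r := fun φ => by
    rw [← Finset.sum_sdiff (Finset.subset_univ (Finset.univ.map e)), add_comm, Finset.sum_map,
      ← Finset.sum_coe_sort R]
  have hprod : ∀ o, ∏ i, T o i = 1 := by
    rintro (_ | a)
    · exact Finset.prod_eq_one fun _ _ => rfl
    rw [hsplit, Finset.prod_congr rfl fun k _ => hTa a k, Finset.prod_congr rfl fun r _ => hTb a r,
      Fin.prod_univ_six]
    simp only [v, Pf, Matrix.cons_val_zero, Matrix.cons_val_one, Matrix.cons_val]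
    refine Units.ext ?_
    simp only [Units.val_mul, Units.val_inv_eq_inv_val, Units.val_one]
    have := Units.ne_zero (∏ r, a.1 r)
    field_simp
  have hsum : ∀ a, ∑ i, w i * (T (some a) i : F) = 0 := fun a => by
    rw [hsplit', Finset.sum_congr (g := fun k => w (e k) * (v a.1 a.2.1 a.2.2 k : F)) rfl
      fun k _ => by rw [hTa a k], Finset.sum_congr (g := fun r : ↥R => w r * (a.1 r : F)) rfl
      fun r _ => by rw [hTb a r], Fin.sum_univ_six]
    have h0 := hyz' a.1 a.2.1 a.2.2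
    simp only [v, x, U, κ, Pf, Matrix.cons_val_zero, Matrix.cons_val_one, Matrix.cons_val, Units.val_mul,
      Units.val_inv_eq_inv_val, Units.val_mk0, Units.val_one] at h0 ⊢
    have := Units.ne_zero (z a.1 a.2.1 a.2.2)
    have := Units.ne_zero (y a.1 a.2.1 a.2.2)
    have := Units.ne_zero (∏ r, a.1 r)
    have := hw (e 0)
    have := hw (e 1)
    have := hw (e 3)
    have := (hu a.1 a.2.1).1
    show _ + K a.1 = 0
    clear_value w K
    field_simp
    field_simp at h0
    linear_combination (-(z a.1 a.2.1 a.2.2 : F)) * h0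
  have hgk : ∀ x, ((g⁻¹ : GL ι F) : Matrix ι ι F) x i₀ ≠ 0 := fun x => hgi _ _
  obtain ⟨o, ho⟩ := exists_conj_not_single (g := g) (k₁ := i₀) (r₀ := e 5) (hgi _ _) T
    (fun o => by rcases o with _ | a; · rfl
                 rw [hTa]; simp [v])
    (fun o o' hoo => by
      have hT : ∀ r, T o r = T o' r := fun r => hoo r (hgk r)
      have h1 : ∑ i, w i * (1 : F) = 1 := by
        have := congrFun (congrFun (Units.mul_inv g) i₀) i₀
        rw [Matrix.mul_apply, Matrix.one_apply_eq] at this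
        simpa [w, c] using this
      have hne : ∀ a, T none ≠ T (some a) := fun a h => one_ne_zero (α := F) (by
        rw [← h1, ← hsum a, ← h]; exact Finset.sum_congr rfl fun i _ => by simp [T])
      rcases o with _ | a <;> rcases o' with _ | b
      · rfl
      · exact absurd (funext hT) (hne b)
      · exact absurd (funext fun r => (hT r).symm) (hne a)
      · obtain ⟨f, i, j⟩ := a
        obtain ⟨f', i', j'⟩ := b
        obtain rfl : f = f' := funext fun r => by simpa [hTb] using hT r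
        have h4 := hT (e 4)
        rw [hTa, hTa] at h4
        obtain rfl : i = i' := (u f).injective (by simpa [v, U] using congrArg Units.val h4)
        have h2 := hT (e 2)
        have h0 := hT (e 0)
        rw [hTa, hTa] at h2 h0
        simp [v, x] at h2 h0
        rw [hyz f i (Prod.ext h2 h0)])
    (by
      rw [Fintype.card_option, Fintype.card_prod, Fintype.card_prod, Fintype.card_fun, Fintype.card_coe, hR,
        Fintype.card_units, Fintype.card_fin, Fintype.card_fin]
      have h1 : 4 ^ (Fintype.card ι - 6) ≤ (Fintype.card F - 1) ^ (Fintype.card ι - 6) :=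
        Nat.pow_le_pow_left (by omega) _
      have h2 : Fintype.card ι ≤ 6 * 4 ^ (Fintype.card ι - 6) := by
        obtain ⟨d, hd⟩ : ∃ d, Fintype.card ι = 6 + d := ⟨_, (Nat.add_sub_cancel' hn).symm⟩
        rw [hd, Nat.add_sub_cancel_left]
        have := Nat.lt_pow_self (n := d) (show 1 < 4 by norm_num)
        omega
      omega)
  rcases o with _ | a
  · obtain ⟨r, hr, hr0⟩ := ho i₀
    refine absurd ?_ hr0
    simp [T, Matrix.one_apply_ne hr]
  have hmem : g * dg (T (some a)) * g⁻¹ ∈ X := X.mul_mem (X.mul_mem hg (hdiag _ (hprod _))) (X.inv_mem hg)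
  refine hc _ hmem (fun hm => ?_) i₀ i₀ ?_
  · obtain ⟨σ, hσ⟩ := hm
    obtain ⟨r, hr, hr0⟩ := ho (σ i₀)
    exact hr0 (hσ r i₀ hr)
  · rw [Units.val_mul, Units.val_mul, Matrix.mul_assoc, Matrix.mul_apply]
    refine Eq.trans (Finset.sum_congr rfl fun y _ => ?_) (hsum a)
    rw [coe_dg, Matrix.diagonal_mul]
    simp only [w, c]
    ring

include hq hn hdiag hperm in
theorem exists_fix {g : GL ι F} (hg : g ∈ X) (hnm : ¬ Mon g) : Fix X := by
  classical
  haveI : Fintype F := Fintype.ofFinite F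
  have hqF : 5 ≤ Fintype.card F := by rwa [← Nat.card_eq_fintype_card]
  by_contra hfix
  have htwo : ∀ h ∈ X, ¬ Mon h → ∀ k i j, i ≠ j → (h : Matrix ι ι F) i k = 0 → (h : Matrix ι ι F) j k ≠ 0 :=
    fun h hh hhn k i j hij hi hj => hfix (fix_of_two_zeros hq hn hdiag hperm hh hhn hij hi hj)
  obtain ⟨g₀, hg₀, hg₀n, k₀, k₁, h0⟩ := exists_zero hq hn hdiag hperm hfix hg hnm
  obtain ⟨g', hg', hg'n, hinv⟩ : ∃ g' ∈ X, ¬ Mon g' ∧ g'⁻¹ = g₀ :=
    ⟨g₀⁻¹, X.inv_mem hg₀, Mon.of_inv hg₀n, inv_inv _⟩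
  set c : ι → F := fun x => (g₀ : Matrix ι ι F) x k₁
  set S := Finset.univ.erase k₀
  have hcS : ∀ x ∈ S, c x ≠ 0 := fun x hx => htwo g₀ hg₀ hg₀n k₁ k₀ x (Finset.mem_erase.1 hx).1.symm h0
  set M := (g' : Matrix ι ι F)
  -- every pair of rows has a combination supported at one place
  have hpair : ∀ i j, i ≠ j → ∃ k ∈ S, ∃ a b : F, (∀ x ∈ S, x ≠ k → a * M i x + b * M j x = 0) ∧
      a * M i k + b * M j k ≠ 0 := by
    intro i j hij
    by_contra! hno
    obtain ⟨C, hC, k, hC4, hk, hsol⟩ := exists_core hqF S (fun x => M i x * c x) (fun x => M j x * c x)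
      fun k hk a b hab => by
        have := hno k hk a b fun x hx hxk =>
          mul_right_cancel₀ (hcS x hx) (by rw [zero_mul, ← hab x hx hxk]; ring)
        linear_combination c k * this
    have hcardS : S.card = Fintype.card ι - 1 := by
      rw [Finset.card_erase_of_mem (Finset.mem_univ _), Finset.card_univ]
    obtain ⟨r₀, hr₀⟩ : (S \ C).Nonempty := Finset.card_pos.1 (by rw [Finset.card_sdiff_of_subset hC]; omega)
    set R := (S \ C).erase r₀
    have hR : Fintype.card ι - 2 - C.card ≤ R.card := by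
      rw [Finset.card_erase_of_mem hr₀, Finset.card_sdiff_of_subset hC]; omega
    let ext : (↥R → Fˣ) → ι → Fˣ := fun f y => if hy : y ∈ R then f ⟨y, hy⟩ else 1
    choose t ht hts using fun f => hsol (ext f)
    let T : (↥R → Fˣ) × Fin k → ι → Fˣ := fun a => Function.update (t a.1 a.2) k₀ (∏ y ∈ S, t a.1 a.2 y)⁻¹
    have hTS : ∀ a y, y ∈ S → T a y = t a.1 a.2 y := fun a y hy => Function.update_of_ne (Finset.mem_erase.1 hy).1 _ _
    have hprod : ∀ f, ∏ y, T f y = 1 := fun f => by
      rw [← Finset.mul_prod_erase _ _ (Finset.mem_univ k₀), Finset.prod_congr rfl fun y hy => hTS f y hy]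
      simp only [T, Function.update_self]
      exact inv_mul_cancel _
    have hRS : ∀ y ∈ R, y ∈ S ∧ y ∉ C := fun y hy => Finset.mem_sdiff.1 (Finset.mem_erase.1 hy).2
    obtain ⟨f, hf⟩ := exists_conj_not_single (g := g') (k₁ := k₁) (r₀ := r₀)
      (by rw [hinv]; exact hcS _ (Finset.mem_sdiff.1 hr₀).1) T
      (fun f => by
        rw [hTS f _ (Finset.mem_sdiff.1 hr₀).1, (hts f.1 f.2).1 _ (Finset.mem_sdiff.1 hr₀).2]
        simp [ext, R])
      (fun f f' hff => by
        have hS : ∀ z ∈ S, t f.1 f.2 z = t f'.1 f'.2 z := fun z hz => by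
          rw [← hTS f z hz, ← hTS f' z hz]; exact hff z (by rw [hinv]; exact hcS _ hz)
        have h1 : f.1 = f'.1 := funext fun z => by
          have := hS z (hRS _ z.2).1
          rw [(hts f.1 f.2).1 _ (hRS _ z.2).2, (hts f'.1 f'.2).1 _ (hRS _ z.2).2] at this
          simpa [ext] using this
        refine Prod.ext h1 (ht f.1 (funext fun z => ?_))
        conv_rhs => rw [h1]
        by_cases hz : z ∈ S
        · exact hS z hz
        · rw [(hts f.1 f.2).1 z (fun h => hz (hC h)), (hts f'.1 f'.2).1 z (fun h => hz (hC h)), h1])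
      (by
        rw [Fintype.card_prod, Fintype.card_fin, Fintype.card_fun, Fintype.card_coe, Fintype.card_units]
        have h4 : 4 ^ R.card ≤ (Fintype.card F - 1) ^ R.card := Nat.pow_le_pow_left (by omega) _
        have h5 : 4 ^ (Fintype.card ι - 6) * 4 ^ (4 - C.card) ≤ 4 ^ R.card := by
          rw [← pow_add]; exact Nat.pow_le_pow_right (by norm_num) (by omega)
        calc Fintype.card ι < 8 * 4 ^ (Fintype.card ι - 6) := lt_four_pow _ hn
          _ ≤ k * 4 ^ (4 - C.card) * 4 ^ (Fintype.card ι - 6) := Nat.mul_le_mul_right _ hk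
          _ = k * (4 ^ (Fintype.card ι - 6) * 4 ^ (4 - C.card)) := by ring
          _ ≤ k * (Fintype.card F - 1) ^ R.card := Nat.mul_le_mul_left _ (h5.trans h4)
          _ = _ := by ring)
    have hmem : g' * dg (T f) * g'⁻¹ ∈ X := X.mul_mem (X.mul_mem hg' (hdiag _ (hprod f))) (X.inv_mem hg')
    have hentry : ∀ r, ((g' * dg (T f) * g'⁻¹ : GL ι F) : Matrix ι ι F) r k₁ =
        ∑ x ∈ S, (t f.1 f.2 x : F) * (M r x * c x) := fun r => by
      rw [hinv, Units.val_mul, Units.val_mul, Matrix.mul_assoc, Matrix.mul_apply,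
        ← Finset.add_sum_erase _ _ (Finset.mem_univ k₀)]
      rw [coe_dg, Matrix.diagonal_mul, h0, mul_zero, mul_zero, zero_add]
      refine Finset.sum_congr rfl fun x hx => ?_
      rw [Matrix.diagonal_mul, hTS f x hx]
      ring
    refine htwo _ hmem (fun hm => ?_) k₁ i j hij (by rw [hentry]; exact (hts f.1 f.2).2.1) (by rw [hentry]; exact (hts f.1 f.2).2.2)
    obtain ⟨σ, hσ⟩ := hm
    obtain ⟨r, hr, hr0⟩ := hf (σ k₁)
    exact hr0 (hσ r k₁ hr)
  -- at most one row is supported at one place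
  let Star : ι → Prop := fun i => ∃ k ∈ S, ∀ x ∈ S, x ≠ k → M i x = 0
  have hstar : ∀ i i', Star i → Star i' → i = i' := by
    rintro i i' ⟨k, -, hk⟩ ⟨k', -, hk'⟩
    by_contra hne
    obtain ⟨x, hxS, hx⟩ := Finset.exists_mem_notMem_of_card_lt_card (s := ({k, k'} : Finset ι)) (t := S)
      (lt_of_le_of_lt Finset.card_le_two (by
        rw [Finset.card_erase_of_mem (Finset.mem_univ _), Finset.card_univ]; omega))
    simp only [Finset.mem_insert, Finset.mem_singleton, not_or] at hx
    exact htwo g' hg' hg'n x i i' hne (hk x hxS hx.1) (hk' x hxS hx.2)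
  obtain ⟨s₀, hs₀⟩ : ∃ s₀, (g₀ : Matrix ι ι F) k₀ s₀ ≠ 0 := by
    by_contra! hz
    have := congrFun (congrFun (Units.mul_inv g₀) k₀) k₀
    rw [Matrix.mul_apply, Matrix.one_apply_eq] at this
    simp [hz] at this
  obtain ⟨V, hV, hVs⟩ : ∃ V : Finset ι, Fintype.card ι - 2 ≤ V.card ∧ ∀ i ∈ V, ¬ Star i ∧ i ≠ s₀ := by
    refine ⟨Finset.univ.filter fun i => ¬ Star i ∧ i ≠ s₀, ?_, fun i hi => (Finset.mem_filter.1 hi).2⟩
    have h1 := Finset.card_filter_add_card_filter_not (s := (Finset.univ : Finset ι)) (fun i => ¬ Star i ∧ i ≠ s₀)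
    have h2 : (Finset.univ.filter fun i => ¬ (¬ Star i ∧ i ≠ s₀)).card ≤ 2 := by
      refine (Finset.card_le_card (t := Finset.univ.filter Star ∪ {s₀}) fun i hi => ?_).trans ?_
      · simp only [Finset.mem_filter, Finset.mem_univ, true_and, not_and, ne_eq, not_not] at hi
        simp only [Finset.mem_union, Finset.mem_filter, Finset.mem_univ, true_and, Finset.mem_singleton]
        by_cases hs : Star i
        · exact Or.inl hs
        · exact Or.inr (hi hs)
      · refine (Finset.card_union_le _ _).trans ?_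
        have : (Finset.univ.filter Star).card ≤ 1 := Finset.card_le_one.2 fun a ha b hb =>
          hstar a b (Finset.mem_filter.1 ha).2 (Finset.mem_filter.1 hb).2
        rw [Finset.card_singleton]
        omega
    rw [Finset.card_univ] at h1
    omega
  have hne : ∀ p ∈ V.offDiag, p.1 ≠ p.2 := fun p hp => (Finset.mem_offDiag.1 hp).2.2
  let κ : ι × ι → ι := fun p => if hp : p.1 ≠ p.2 then (hpair p.1 p.2 hp).choose else k₀
  have hκ : ∀ p ∈ V.offDiag, κ p ∈ S ∧ ∃ a b : F, (∀ x ∈ S, x ≠ κ p → a * M p.1 x + b * M p.2 x = 0) ∧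
      a * M p.1 (κ p) + b * M p.2 (κ p) = 1 ∧ a ≠ 0 ∧ b ≠ 0 := by
    intro p hp
    have hsp := (hpair p.1 p.2 (hne p hp)).choose_spec
    have e : κ p = (hpair p.1 p.2 (hne p hp)).choose := dif_pos (hne p hp)
    rw [← e] at hsp
    obtain ⟨hS', a, b, h1, h2⟩ := hsp
    set s := a * M p.1 (κ p) + b * M p.2 (κ p)
    refine ⟨hS', a / s, b / s, fun x hx hxk => ?_, ?_, fun ha => ?_, fun hb => ?_⟩
    · field_simp
      linear_combination h1 x hx hxk
    · field_simp
      rfl
    · rw [div_eq_zero_iff, or_iff_left h2] at ha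
      subst ha
      refine (hVs p.2 (Finset.mem_offDiag.1 hp).2.1).1 ⟨κ p, hS', fun x hx hxk => ?_⟩
      have hb : b ≠ 0 := fun e => h2 (by simp [s, e])
      exact (mul_eq_zero.1 (by linear_combination h1 x hx hxk : b * M p.2 x = 0)).resolve_left hb
    · rw [div_eq_zero_iff, or_iff_left h2] at hb
      subst hb
      refine (hVs p.1 (Finset.mem_offDiag.1 hp).1).1 ⟨κ p, hS', fun x hx hxk => ?_⟩
      have ha : a ≠ 0 := fun e => h2 (by simp [s, e])
      exact (mul_eq_zero.1 (by linear_combination h1 x hx hxk : a * M p.1 x = 0)).resolve_left ha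
  have hsame : ∀ p ∈ V.offDiag, ∀ p' ∈ V.offDiag, κ p = κ p' → p' = p ∨ p' = p.swap := by
    intro p hp p' hp' hk
    obtain ⟨-, a, b, h1, h2, ha, hb⟩ := hκ p hp
    obtain ⟨-, a', b', h1', h2', -, -⟩ := hκ p' hp'
    set d : ι → F := a • Pi.single p.1 1 + b • Pi.single p.2 1 - (a' • Pi.single p'.1 1 + b' • Pi.single p'.2 1)
    have hrow : ∀ x ∈ S, (d ᵥ* M) x = 0 := fun x hx => by
      simp only [d, Matrix.sub_vecMul, Matrix.add_vecMul, Matrix.smul_vecMul, Matrix.single_one_vecMul,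
        Pi.sub_apply, Pi.add_apply, Pi.smul_apply, smul_eq_mul, Matrix.row_apply]
      by_cases hxk : x = κ p
      · subst hxk
        rw [h2]
        rw [hk, h2', sub_self]
      · rw [h1 x hx hxk, h1' x hx (hk ▸ hxk), sub_self]
    have hd : d = (d ᵥ* M) k₀ • fun r => (g₀ : Matrix ι ι F) k₀ r := by
      have e1 : d = (d ᵥ* M) ᵥ* (g₀ : Matrix ι ι F) := by
        rw [Matrix.vecMul_vecMul, ← hinv, Units.mul_inv, Matrix.vecMul_one]
      conv_lhs => rw [e1]
      funext r
      show ∑ x, (d ᵥ* M) x * (g₀ : Matrix ι ι F) x r = _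
      rw [Finset.sum_eq_single k₀ (fun x _ hx => by
        rw [hrow x (Finset.mem_erase.2 ⟨hx, Finset.mem_univ x⟩), zero_mul]) (by simp)]
      rfl
    have hne' : ∀ i ∈ V, i ≠ s₀ := fun i hi => (hVs i hi).2
    have hds : d s₀ = 0 := by
      simp [d, (hne' _ (Finset.mem_offDiag.1 hp).1).symm, (hne' _ (Finset.mem_offDiag.1 hp).2.1).symm,
        (hne' _ (Finset.mem_offDiag.1 hp').1).symm, (hne' _ (Finset.mem_offDiag.1 hp').2.1).symm]
    have hκ0 : (d ᵥ* M) k₀ = 0 := by
      have := congrFun hd s₀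
      rw [hds, Pi.smul_apply, smul_eq_mul] at this
      exact (mul_eq_zero.1 this.symm).resolve_right hs₀
    rw [hκ0, zero_smul] at hd
    have hp12 := hne p hp
    have m1 : p.1 = p'.1 ∨ p.1 = p'.2 := by
      by_contra! hn'
      have := congrFun hd p.1
      simp [d, hp12, hn'.1, hn'.2] at this
      exact ha this
    have m2 : p.2 = p'.1 ∨ p.2 = p'.2 := by
      by_contra! hn'
      have := congrFun hd p.2
      simp [d, hp12.symm, hn'.1, hn'.2] at this
      exact hb this
    rcases m1 with e1 | e1 <;> rcases m2 with e2 | e2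
    · exact absurd (e1.trans e2.symm) hp12
    · exact Or.inl (Prod.ext e1.symm e2.symm)
    · exact Or.inr (Prod.ext e2.symm e1.symm)
    · exact absurd (e1.trans e2.symm) hp12
  obtain ⟨y, -, hy⟩ := Finset.exists_lt_card_fiber_of_mul_lt_card_of_maps_to (s := V.offDiag) (t := S) (f := κ) (n := 2)
    (fun p hp => (hκ p hp).1) (by
      rw [Finset.offDiag_card, Finset.card_erase_of_mem (Finset.mem_univ _), Finset.card_univ]
      have h2 : (Fintype.card ι - 1) * 2 < V.card * (V.card - 1) :=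
        calc (Fintype.card ι - 1) * 2 < (Fintype.card ι - 2) * 3 := by omega
          _ ≤ V.card * (V.card - 1) := Nat.mul_le_mul hV (by omega)
      rw [Nat.mul_sub_one] at h2
      exact h2)
  obtain ⟨p, hp, hpf⟩ : ∃ p ∈ V.offDiag, κ p = y := by
    obtain ⟨p, hp⟩ := Finset.card_pos.1 (show 0 < _ from lt_trans (by norm_num) hy)
    exact ⟨p, (Finset.mem_filter.1 hp).1, (Finset.mem_filter.1 hp).2⟩
  have h3 : (V.offDiag.filter fun q => κ q = y) ⊆ {p, p.swap} := fun q hq => by
    have := hsame p hp q (Finset.mem_filter.1 hq).1 (by rw [hpf, (Finset.mem_filter.1 hq).2])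
    rcases this with rfl | rfl <;> simp
  have := (Finset.card_le_card h3).trans Finset.card_le_two
  omega

end CfsgLib.Geo.Monomial
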