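/-
An overgroup of the determinant-one monomial group that is not monomial contains the special linear group.
-/
import Cfsg.Agent.Lib.Geo.MonomialFix
import Cfsg.Agent.Lib.Classical.SLGroup

set_option autoImplicit false

namespace CfsgLib.Geo.Monomial

open Matrix

variable {ι : Type} [Fintype ι] [DecidableEq ι] {F : Type*} [Field F]

theorem single_vecMulVec (i j : ι) (c : F) :
    c • Matrix.vecMulVec (Pi.single i 1 : ι → F) (Pi.single j 1) = Matrix.single i j c := by
  ext a b
  simp only [Matrix.smul_apply, Matrix.vecMulVec_apply, Matrix.single_apply, Pi.single_apply, smul_eq_mul]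
  by_cases h1 : a = i <;> by_cases h2 : b = j <;> simp [h1, h2, Ne.symm]

/-- Conjugate of a one-row unipotent element by a torus element, times the inverse of the element. -/
theorem row_comm_val {y : GL ι F} {a : ι} {ψ : ι → F} (hy : (y : Matrix ι ι F) = 1 + Matrix.vecMulVec (Pi.single a 1) ψ)
    (hψ : ψ a = 0) (t : ι → Fˣ) :
    ((y⁻¹ * dg t * y * (dg t)⁻¹ : GL ι F) : Matrix ι ι F) =
      1 + Matrix.vecMulVec (Pi.single a 1) (fun l => (t a : F) * ψ l * ((t⁻¹ l : Fˣ) : F) - ψ l) := by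
  set v : ι → F := Pi.single a 1
  have hd : ψ ⬝ᵥ v = 0 := by simp [v, hψ]
  have hinv : ((y⁻¹ : GL ι F) : Matrix ι ι F) = 1 - Matrix.vecMulVec v ψ := by
    refine Units.inv_eq_of_mul_eq_one_right ?_
    rw [hy, add_mul, one_mul, mul_sub, mul_one, Matrix.vecMulVec_mul_vecMulVec, hd, zero_smul,
      Matrix.vecMulVec_zero]
    abel
  have hc : ((dg t * y * (dg t)⁻¹ : GL ι F) : Matrix ι ι F) =
      1 + Matrix.vecMulVec v (fun l => (t a : F) * ψ l * ((t⁻¹ l : Fˣ) : F)) := by
    rw [Units.val_mul, Units.val_mul, hy, mul_add, mul_one, add_mul, Units.mul_inv, Matrix.mul_vecMulVec,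
      Matrix.vecMulVec_mul]
    congr 1
    ext r l
    rw [Matrix.vecMulVec_apply, Matrix.vecMulVec_apply, dg_mulVec, ← map_inv, dg_vecMul]
    by_cases hr : r = a
    · subst hr; simp [v]; ring
    · simp [v, hr]
  rw [show y⁻¹ * dg t * y * (dg t)⁻¹ = y⁻¹ * (dg t * y * (dg t)⁻¹) by group, Units.val_mul, hinv, hc, sub_mul,
    one_mul, mul_add, mul_one, Matrix.vecMulVec_mul_vecMulVec]
  have hd' : ψ ⬝ᵥ v = 0 := hd
  rw [hd', zero_smul, Matrix.vecMulVec_zero, add_zero, show (fun l => (t a : F) * ψ l * ((t⁻¹ l : Fˣ) : F) - ψ l) =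
    (fun l => (t a : F) * ψ l * ((t⁻¹ l : Fˣ) : F)) - ψ from rfl, Matrix.vecMulVec_sub]
  abel

section

variable {X : Subgroup (GL ι F)} [Finite F] (hq : 5 ≤ Nat.card F) (hn : 4 ≤ Fintype.card ι)
  (hdiag : ∀ t : ι → Fˣ, ∏ x, t x = 1 → (dg t : GL ι F) ∈ X)
  (hperm : ∀ σ : Equiv.Perm ι, ∃ w ∈ X, ∀ i j, i ≠ σ j → ((w : GL ι F) : Matrix ι ι F) i j = 0)

omit [Finite F] in
include hdiag in
theorem row_mem {y : GL ι F} (hy : y ∈ X) {t : ι → Fˣ} (ht : ∏ x, t x = 1) : y⁻¹ * dg t * y * (dg t)⁻¹ ∈ X :=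
  X.mul_mem (X.mul_mem (X.mul_mem (X.inv_mem hy) (hdiag t ht)) hy) (X.inv_mem (hdiag t ht))

include hq hn hdiag in
/-- A one-row unipotent element gives a root element. -/
theorem root_of_row {y : GL ι F} (hy : y ∈ X) {a : ι} {ψ : ι → F}
    (hye : (y : Matrix ι ι F) = 1 + Matrix.vecMulVec (Pi.single a 1) ψ) (hψa : ψ a = 0) (hψ : ψ ≠ 0) :
    ∃ i j, i ≠ j ∧ ∃ c : F, c ≠ 0 ∧ El X c (Pi.single i 1) (Pi.single j 1) := by
  classical
  obtain ⟨l, hl⟩ := Function.ne_iff.1 hψ
  have hla : l ≠ a := fun e => hl (by rw [e]; exact hψa)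
  obtain ⟨l₁, -, hl₁⟩ := Finset.exists_mem_notMem_of_card_lt_card (s := ({a, l} : Finset ι)) (t := Finset.univ)
    (lt_of_le_of_lt Finset.card_le_two (by rw [Finset.card_univ]; omega))
  obtain ⟨l₂, -, hl₂⟩ := Finset.exists_mem_notMem_of_card_lt_card (s := ({a, l, l₁} : Finset ι)) (t := Finset.univ)
    (lt_of_le_of_lt Finset.card_le_three (by rw [Finset.card_univ]; omega))
  simp only [Finset.mem_insert, Finset.mem_singleton, not_or] at hl₁ hl₂
  obtain ⟨s, hs0, -, hs1⟩ := exists_gen hq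
  set u := Units.mk0 s hs0
  set ψ₁ : ι → F := fun x => (pairAt l l₁ u a : F) * ψ x * (((pairAt l l₁ u)⁻¹ x : Fˣ) : F) - ψ x with hψ₁
  set y₁ := y⁻¹ * dg (pairAt l l₁ u) * y * (dg (pairAt l l₁ u))⁻¹
  have hy₁ : y₁ ∈ X := row_mem hdiag hy (prod_pairAt _ _ _)
  have hy₁e : (y₁ : Matrix ι ι F) = 1 + Matrix.vecMulVec (Pi.single a 1) ψ₁ := row_comm_val hye hψa _
  have hval : ∀ x, ψ₁ x = (if x = l then (s⁻¹ - 1) * ψ x else if x = l₁ then (s - 1) * ψ x else 0) := fun x => by
    simp only [hψ₁, Pi.inv_apply, pairAt_apply (Ne.symm hl₁.2), if_neg hla.symm, if_neg (Ne.symm hl₁.1)]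
    split_ifs <;> simp [u] <;> ring
  set ψ₂ : ι → F := fun x => (pairAt l l₂ u a : F) * ψ₁ x * (((pairAt l l₂ u)⁻¹ x : Fˣ) : F) - ψ₁ x with hψ₂
  set y₂ := y₁⁻¹ * dg (pairAt l l₂ u) * y₁ * (dg (pairAt l l₂ u))⁻¹
  have hy₂ : y₂ ∈ X := row_mem hdiag hy₁ (prod_pairAt _ _ _)
  have hy₂e : (y₂ : Matrix ι ι F) = 1 + Matrix.vecMulVec (Pi.single a 1) ψ₂ :=
    row_comm_val hy₁e (by rw [hval, if_neg hla.symm, if_neg (Ne.symm hl₁.1)]) _
  have hval₂ : ψ₂ = ((s⁻¹ - 1) * ((s⁻¹ - 1) * ψ l)) • Pi.single l 1 := by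
    funext x
    simp only [hψ₂, Pi.inv_apply, pairAt_apply (Ne.symm hl₂.2.1), if_neg hla.symm, if_neg (Ne.symm hl₂.1), hval,
      Pi.smul_apply, Pi.single_apply, smul_eq_mul]
    by_cases h1 : x = l
    · subst h1; simp [u]; ring
    · by_cases h2 : x = l₂
      · subst h2; simp [h1, hl₂.2.2]
      · simp [h1, h2]
  refine ⟨a, l, hla.symm, (s⁻¹ - 1) * ((s⁻¹ - 1) * ψ l), ?_, y₂, hy₂, ?_⟩
  · have : s⁻¹ - 1 ≠ 0 := sub_ne_zero.2 fun e => hs1 (inv_eq_one.1 e)
    exact mul_ne_zero this (mul_ne_zero this hl)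
  · rw [hy₂e, hval₂, Matrix.vecMulVec_smul]

include hq hn hdiag in
/-- A conjugate difference of a one-row unipotent element of `GL` gives a root element. -/
theorem root_of_row_comm {y : GL ι F} {a : ι} {ψ : ι → F}
    (hye : (y : Matrix ι ι F) = 1 + Matrix.vecMulVec (Pi.single a 1) ψ) (hψa : ψ a = 0) (hψ : ψ ≠ 0) {k : ι}
    (hka : k ≠ a) (hmem : ∀ s : Fˣ, y⁻¹ * dg (pairAt a k s) * y * (dg (pairAt a k s))⁻¹ ∈ X) :
    ∃ i j, i ≠ j ∧ ∃ c : F, c ≠ 0 ∧ El X c (Pi.single i 1) (Pi.single j 1) := by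
  obtain ⟨s, hs2, -⟩ := exists_order hq
  refine root_of_row hq hn hdiag (hmem s) (row_comm_val hye hψa _) ?_ ?_
  · simp [hψa]
  obtain ⟨l, hl⟩ := Function.ne_iff.1 hψ
  have hla : l ≠ a := fun e => hl (by rw [e]; exact hψa)
  refine Function.ne_iff.2 ⟨l, fun e => ?_⟩
  simp only [Pi.inv_apply, pairAt_apply hka.symm, if_true, if_neg hla, Pi.zero_apply] at e
  by_cases hk : l = k
  · rw [if_pos hk, inv_inv] at e
    exact mul_ne_zero (sub_ne_zero.2 hs2) hl (by linear_combination e)
  · rw [if_neg hk, inv_one, Units.val_one, mul_one] at e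
    exact mul_ne_zero (sub_ne_zero.2 fun e' : (s : F) = 1 => hs2 (by rw [e', one_pow])) hl
      (by linear_combination e)

include hn hdiag hperm in
omit [Finite F] in
/-- One root element spreads over all root groups. -/
theorem tv_all {i j : ι} (hij : i ≠ j) {c : F} (hc : c ≠ 0) (h : El X c (Pi.single i 1) (Pi.single j 1))
    {i' j' : ι} (hij' : i' ≠ j') (d : F) : El X d (Pi.single i' 1) (Pi.single j' 1) := by
  classical
  have hbase : ∀ d : F, El X d (Pi.single i 1) (Pi.single j 1) := by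
    intro d
    by_cases hd : d = 0
    · rw [hd]; exact El.zero _ _
    obtain ⟨k, -, hk⟩ := Finset.exists_mem_notMem_of_card_lt_card (s := ({i, j} : Finset ι)) (t := Finset.univ)
      (lt_of_le_of_lt Finset.card_le_two (by rw [Finset.card_univ]; omega))
    simp only [Finset.mem_insert, Finset.mem_singleton, not_or] at hk
    set u := Units.mk0 (d / c) (div_ne_zero hd hc)
    refine (h.conj (hdiag (pairAt i k u) (prod_pairAt _ _ _))).scale ?_
    ext r l
    simp only [Matrix.smul_apply, Matrix.vecMulVec_apply, dg_mulVec, ← map_inv, dg_vecMul, Pi.inv_apply,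
      pairAt_apply (Ne.symm hk.1), smul_eq_mul]
    by_cases hr : r = i
    · subst hr
      by_cases hl : l = j
      · subst hl
        simp [u, hij.symm, Ne.symm hk.2]
        field_simp
      · simp [hl]
    · simp [hr]
  obtain ⟨σ, hσi, hσj⟩ : ∃ σ : Equiv.Perm ι, σ i = i' ∧ σ j = j' := by
    refine ⟨(Equiv.swap i i').trans (Equiv.swap (Equiv.swap i i' j) j'), ?_, ?_⟩
    · rw [Equiv.trans_apply, Equiv.swap_apply_left, Equiv.swap_apply_of_ne_of_ne _ hij']
      intro e
      exact hij ((Equiv.swap i i').injective (by rw [← e, Equiv.swap_apply_left]))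
    · simp
  obtain ⟨w, hw, hwσ⟩ := hperm σ
  have hwi : ∀ r l, r ≠ σ⁻¹ l → ((w⁻¹ : GL ι F) : Matrix ι ι F) r l = 0 := by
    intro r l hrl
    have h1 : ((w : Matrix ι ι F) * ((w⁻¹ : GL ι F) : Matrix ι ι F)) (σ r) l = 0 := by
      rw [Units.mul_inv, Matrix.one_apply_ne]
      exact fun e => hrl (by rw [← e]; exact (σ.symm_apply_apply r).symm)
    rw [Matrix.mul_apply, Finset.sum_eq_single r] at h1
    · exact (mul_eq_zero.1 h1).resolve_left (Mon.ne_zero hwσ r)
    · intro k _ hk
      rw [hwσ _ _ (fun e => hk (σ.injective e).symm), zero_mul]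
    · simp
  have e1 : (w : Matrix ι ι F) *ᵥ Pi.single i 1 = (w : Matrix ι ι F) i' i • Pi.single i' 1 := by
    rw [Mon.mulVec_single hwσ, hσi]
  have e2 : (Pi.single j 1 : ι → F) ᵥ* ((w⁻¹ : GL ι F) : Matrix ι ι F) =
      ((w⁻¹ : GL ι F) : Matrix ι ι F) j j' • Pi.single j' 1 := by
    funext l
    rw [Matrix.single_one_vecMul, Matrix.row_apply, Pi.smul_apply, Pi.single_apply, smul_eq_mul]
    by_cases hl : l = j'
    · subst hl; rw [if_pos rfl, mul_one]
    · rw [if_neg hl, mul_zero, hwi]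
      exact fun e => hl (by rw [← hσj, e]; exact (σ.apply_symm_apply l).symm)
  have hne1 : (w : Matrix ι ι F) i' i ≠ 0 := hσi ▸ Mon.ne_zero hwσ i
  have hne2 : ((w⁻¹ : GL ι F) : Matrix ι ι F) j j' ≠ 0 := by
    have := Mon.ne_zero hwi j'
    rwa [show σ⁻¹ j' = j from Equiv.Perm.inv_eq_iff_eq.2 hσj.symm] at this
  set a := (w : Matrix ι ι F) i' i
  set b := ((w⁻¹ : GL ι F) : Matrix ι ι F) j j'
  have := (hbase (d / (a * b))).conj hw
  rw [e1, e2] at this
  refine this.scale ?_
  rw [Matrix.smul_vecMulVec, Matrix.vecMulVec_smul, smul_smul, smul_smul]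
  congr 1
  field_simp

include hq hn hdiag hperm in
omit [Finite F] hq in
theorem specialLinear_le_of_root {i j : ι} (hij : i ≠ j) {c : F} (hc : c ≠ 0)
    (h : El X c (Pi.single i 1) (Pi.single j 1)) : Cfsg.Geo.specialLinear ι F ≤ X := by
  intro g hg
  haveI : Nontrivial ι := ⟨⟨i, j, hij⟩⟩
  have htop := CfsgLib.Classical.closure_transvection_eq_top (X.comap (Matrix.SpecialLinearGroup.toGL (n := ι) (R := F)))
    fun a b hab d => by
      obtain ⟨x, hx, e⟩ := tv_all hn hdiag hperm hij hc h hab d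
      rw [Subgroup.mem_comap]
      convert hx using 1
      refine Units.ext ?_
      rw [e, single_vecMulVec]
      rfl
  have hdet : (g : Matrix ι ι F).det = 1 := by
    have := congrArg Units.val (MonoidHom.mem_ker.1 hg)
    simpa using this
  let g' : Matrix.SpecialLinearGroup ι F := ⟨(g : Matrix ι ι F), hdet⟩
  have hm : g' ∈ X.comap (Matrix.SpecialLinearGroup.toGL (n := ι) (R := F)) := htop ▸ Subgroup.mem_top _
  convert Subgroup.mem_comap.1 hm using 1
  exact Units.ext rfl

/-- The element fixes the coordinate line `n`. -/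
def Col (n : ι) (x : GL ι F) : Prop := ∀ r, r ≠ n → (x : Matrix ι ι F) r n = 0

/-- The block away from the fixed line. -/
def sub (n : ι) (x : GL ι F) : Matrix {l // l ≠ n} {l // l ≠ n} F := fun r l => (x : Matrix ι ι F) r.1 l.1

omit [Finite F] in
theorem sub_mul {n : ι} {x y : GL ι F} (hx : Col n x) : sub n (x * y) = sub n x * sub n y := by
  ext r l
  show ((x * y : GL ι F) : Matrix ι ι F) r.1 l.1 = _
  rw [Units.val_mul, Matrix.mul_apply, Matrix.mul_apply,
    ← Finset.add_sum_erase _ _ (Finset.mem_univ n), hx _ r.2, zero_mul, zero_add]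
  exact Finset.sum_subtype (Finset.univ.erase n) (fun _ => by simp)
    (fun k => (x : Matrix ι ι F) r.1 k * (y : Matrix ι ι F) k l.1)

omit [Finite F] in
theorem Col.mul {n : ι} {x y : GL ι F} (hx : Col n x) (hy : Col n y) : Col n (x * y) := fun r hr => by
  rw [Units.val_mul, Matrix.mul_apply]
  refine Finset.sum_eq_zero fun k _ => ?_
  by_cases hk : k = n
  · rw [hk, hx r hr, zero_mul]
  · rw [hy k hk, mul_zero]

omit [Finite F] in
theorem Col.inv {n : ι} {x : GL ι F} (hx : Col n x) : Col n x⁻¹ := fun r hr => by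
  have e1 : (x : Matrix ι ι F) *ᵥ Pi.single n 1 = (x : Matrix ι ι F) n n • Pi.single n 1 := by
    rw [Matrix.mulVec_single_one]
    funext k
    by_cases hk : k = n
    · subst hk; simp
    · simp only [Matrix.col_apply, Pi.smul_apply, Pi.single_eq_of_ne hk, smul_zero]; exact hx k hk
  have e2 := congrFun (congrArg (((x⁻¹ : GL ι F) : Matrix ι ι F) *ᵥ ·) e1) r
  rw [Matrix.mulVec_mulVec, Units.inv_mul, Matrix.one_mulVec, Matrix.mulVec_smul, Matrix.mulVec_single_one,
    Pi.single_eq_of_ne hr, Pi.smul_apply, Matrix.col_apply, smul_eq_mul] at e2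
  refine (mul_eq_zero.1 e2.symm).resolve_left fun hnn => ?_
  rw [hnn, zero_smul] at e1
  have := Matrix.mulVec_injective_iff_isUnit.2 x.isUnit (e1.trans (Matrix.mulVec_zero _).symm)
  exact one_ne_zero (α := F) (by simpa using congrFun this n)

omit [Finite F] in
/-- The group induced away from the fixed line. -/
def induced (X : Subgroup (GL ι F)) (n : ι) : Subgroup (GL {l // l ≠ n} F) where
  carrier := {z | ∃ x ∈ X, Col n x ∧ (z : Matrix {l // l ≠ n} {l // l ≠ n} F) = sub n x}
  mul_mem' := by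
    rintro z z' ⟨x, hx, hc, e⟩ ⟨x', hx', hc', e'⟩
    exact ⟨x * x', X.mul_mem hx hx', hc.mul hc', by rw [Units.val_mul, e, e', sub_mul hc]⟩
  one_mem' := ⟨1, X.one_mem, fun r hr => by simp [hr], by
    ext r l
    simp [sub, Matrix.one_apply, Subtype.ext_iff]⟩
  inv_mem' := by
    rintro z ⟨x, hx, hc, e⟩
    refine ⟨x⁻¹, X.inv_mem hx, hc.inv, Units.inv_eq_of_mul_eq_one_right ?_⟩
    rw [e, ← sub_mul hc, mul_inv_cancel]
    ext r l
    simp [sub, Matrix.one_apply, Subtype.ext_iff]

omit [Finite F] in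
/-- An element of `GL` with the given block. -/
theorem exists_sub {n : ι} {x : GL ι F} (hx : Col n x) :
    ∃ z : GL {l // l ≠ n} F, (z : Matrix {l // l ≠ n} {l // l ≠ n} F) = sub n x := by
  have h1 : sub n (1 : GL ι F) = 1 := by
    ext r l
    simp [sub, Matrix.one_apply, Subtype.ext_iff]
  exact ⟨⟨sub n x, sub n x⁻¹, by rw [← sub_mul hx, mul_inv_cancel, h1],
    by rw [← sub_mul hx.inv, inv_mul_cancel, h1]⟩, rfl⟩

include hq hn hdiag hperm in
/-- An overgroup of the monomial group of determinant one with a non-monomial element fixing a coordinate line. -/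
theorem specialLinear_le_of_fix (hX : X ≤ Cfsg.Geo.specialLinear ι F) (hfix : Fix X) :
    Cfsg.Geo.specialLinear ι F ≤ X := by
  classical
  suffices h : ∃ i j, i ≠ j ∧ ∃ c : F, c ≠ 0 ∧ El X c (Pi.single i 1) (Pi.single j 1) by
    obtain ⟨i, j, hij, c, hc, h⟩ := h
    exact specialLinear_le_of_root hn hdiag hperm hij hc h
  obtain ⟨h, hh, hhm, n, hcol⟩ := hfix
  have hcard : Fintype.card {l // l ≠ n} = Fintype.card ι - 1 := by
    rw [Fintype.card_subtype_compl, Fintype.card_subtype_eq]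
  -- the induced group contains the torus and the permutations
  have hdiag' : ∀ t : {l // l ≠ n} → Fˣ, (dg t : GL {l // l ≠ n} F) ∈ induced X n := fun t => by
    let T : ι → Fˣ := fun x => if hx : x ≠ n then t ⟨x, hx⟩ else (∏ z, t z)⁻¹
    refine ⟨dg T, hdiag T ?_, fun r hr => by rw [coe_dg]; exact Matrix.diagonal_apply_ne _ hr, ?_⟩
    · rw [← Finset.mul_prod_erase _ _ (Finset.mem_univ n)]
      have e : ∏ x ∈ Finset.univ.erase n, T x = ∏ z, t z := by
        rw [Finset.prod_subtype (Finset.univ.erase n) (p := fun x => x ≠ n) (fun _ => by simp)]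
        exact Finset.prod_congr rfl fun z _ => dif_pos z.2
      rw [e]
      simp [T]
    · ext r l
      simp only [sub, coe_dg, Matrix.diagonal_apply, Subtype.ext_iff]
      split_ifs with h1
      · simp [T, r.2]
      · rfl
  have hperm' : ∀ σ : Equiv.Perm {l // l ≠ n}, ∃ w ∈ induced X n, ∀ i j, i ≠ σ j →
      ((w : GL {l // l ≠ n} F) : Matrix {l // l ≠ n} {l // l ≠ n} F) i j = 0 := fun σ => by
    obtain ⟨w, hw, hwσ⟩ := hperm σ.ofSubtype
    have hc : Col n w := fun r hr => hwσ r n (by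
      rw [Equiv.Perm.ofSubtype_apply_of_not_mem]
      · exact hr
      · simp)
    obtain ⟨z, hz⟩ := exists_sub hc
    refine ⟨z, ⟨w, hw, hc, hz⟩, fun i j hij => ?_⟩
    rw [hz]
    refine hwσ _ _ fun e => hij (Subtype.ext ?_)
    rw [e, Equiv.Perm.ofSubtype_apply_coe]
  obtain ⟨z, hz⟩ := exists_sub hcol
  have hzmem : z ∈ induced X n := ⟨h, hh, hcol, hz⟩
  by_cases hzm : Mon z
  · -- move to a diagonal block
    obtain ⟨σ, hσ⟩ := hzm
    obtain ⟨w, hw, hwσ⟩ := hperm (σ⁻¹).ofSubtype
    set y := w * h with hydef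
    have hy : y ∈ X := X.mul_mem hw hh
    have hwn : ∀ r l, r ≠ n → l ≠ r → (y : Matrix ι ι F) r l = 0 := by
      intro r l hr hlr
      rw [hydef, Units.val_mul, Matrix.mul_apply]
      refine Finset.sum_eq_zero fun k _ => ?_
      by_cases hrk : r = (σ⁻¹).ofSubtype k
      · have hk : k ≠ n := fun e => hr (by
          rw [hrk, e, Equiv.Perm.ofSubtype_apply_of_not_mem]
          simp)
        by_cases hl : l = n
        · rw [hl, hcol k hk, mul_zero]
        · have : (h : Matrix ι ι F) k l = sub n h ⟨k, hk⟩ ⟨l, hl⟩ := rfl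
          rw [this, ← hz, hσ, mul_zero]
          intro e
          rw [Equiv.Perm.ofSubtype_apply_of_mem (σ⁻¹) (show k ≠ n from hk), e] at hrk
          rw [show σ⁻¹ (σ ⟨l, hl⟩) = ⟨l, hl⟩ from σ.symm_apply_apply _] at hrk
          exact hlr hrk.symm
      · rw [hwσ r k hrk, zero_mul]
    have hd : ∀ r, (y : Matrix ι ι F) r r ≠ 0 := by
      intro r e
      by_cases hr : r = n
      · subst hr
        have h1 : (y : Matrix ι ι F) *ᵥ Pi.single r 1 = (y : Matrix ι ι F) *ᵥ 0 := by
          rw [Matrix.mulVec_zero, Matrix.mulVec_single_one]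
          funext k
          by_cases hk : k = r
          · subst hk; exact e
          · exact hwn k r hk (Ne.symm hk)
        exact one_ne_zero (α := F) (by simpa using congrFun (Matrix.mulVec_injective_iff_isUnit.2 y.isUnit h1) r)
      · have h1 := congrFun (congrFun (Units.mul_inv y) r) r
        rw [Matrix.mul_apply, Matrix.one_apply_eq, Finset.sum_eq_zero] at h1
        · exact zero_ne_one h1
        intro k _
        by_cases hk : k = r
        · rw [hk, e, zero_mul]
        · rw [hwn r k hr hk, zero_mul]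
    set d : ι → Fˣ := fun r => Units.mk0 _ (hd r)
    set ψ : ι → F := fun l => if l = n then 0 else (y : Matrix ι ι F) n l / (y : Matrix ι ι F) n n
    set y₀ := dg d⁻¹ * y with hy₀
    have hy₀e : (y₀ : Matrix ι ι F) = 1 + Matrix.vecMulVec (Pi.single n 1) ψ := by
      ext r l
      rw [hy₀, Units.val_mul, coe_dg, Matrix.diagonal_mul, Matrix.add_apply, Matrix.vecMulVec_apply]
      simp only [Pi.inv_apply, d, Units.val_inv_eq_inv_val, Units.val_mk0]
      by_cases hr : r = n
      · subst hr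
        rw [Pi.single_eq_same, one_mul]
        by_cases hl : l = r
        · subst hl; simp [ψ, inv_mul_cancel₀ (hd l)]
        · simp [ψ, hl, Ne.symm hl]; ring
      · rw [Pi.single_eq_of_ne hr, zero_mul, add_zero]
        by_cases hl : l = r
        · subst hl; rw [Matrix.one_apply_eq, inv_mul_cancel₀ (hd l)]
        · rw [hwn r l hr hl, Matrix.one_apply_ne (Ne.symm hl), mul_zero]
    have hψn : ψ n = 0 := if_pos rfl
    have hψ0 : ψ ≠ 0 := fun e => hhm (by
      have e1 : y₀ = 1 := Units.ext (by rw [hy₀e, e, Matrix.vecMulVec_zero, add_zero, Units.val_one])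
      have e2 : h = w⁻¹ * dg d := by
        rw [show dg d = y by rw [← mul_one (dg d), ← e1, hy₀, map_inv, mul_inv_cancel_left], hydef,
          inv_mul_cancel_left]
      rw [e2]
      exact (Mon.inv ⟨_, hwσ⟩).mul (mon_dg d))
    obtain ⟨k, -, hk⟩ := Finset.exists_mem_notMem_of_card_lt_card (s := ({n} : Finset ι)) (t := Finset.univ)
      (by rw [Finset.card_univ, Finset.card_singleton]; omega)
    refine root_of_row_comm hq hn hdiag hy₀e hψn hψ0 (k := k) (by simpa using hk) fun s => ?_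
    have := row_mem hdiag hy (prod_pairAt n k s)
    convert this using 1
    have hcomm : dg d * dg (pairAt n k s) = dg (pairAt n k s) * dg d := by rw [← map_mul, ← map_mul, mul_comm]
    rw [hy₀, map_inv, _root_.mul_inv_rev, inv_inv]
    calc y⁻¹ * dg d * dg (pairAt n k s) * ((dg d)⁻¹ * y) * (dg (pairAt n k s))⁻¹
        = y⁻¹ * (dg d * dg (pairAt n k s)) * (dg d)⁻¹ * y * (dg (pairAt n k s))⁻¹ := by group
      _ = y⁻¹ * dg (pairAt n k s) * y * (dg (pairAt n k s))⁻¹ := by rw [hcomm]; group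
  · -- lift a root element of the induced group
    obtain ⟨i, j, hij, -, hroot⟩ := exists_root (G := induced X n) hq hdiag' (by omega) hperm' hzmem hzm
    obtain ⟨e, ⟨x, hx, hxc, hxe⟩, hev⟩ := hroot 1
    have hij' : i.1 ≠ j.1 := fun e => hij (Subtype.ext e)
    have hxrl : ∀ r l, r ≠ n → (x : Matrix ι ι F) r l =
        (if r = l then 1 else 0) + if r = i.1 ∧ l = j.1 then 1 else 0 := by
      intro r l hr
      by_cases hl : l = n
      · subst hl
        rw [hxc r hr, if_neg hr, if_neg (fun h => j.2 h.2.symm), add_zero]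
      · have : (x : Matrix ι ι F) r l = (e : Matrix {l // l ≠ n} {l // l ≠ n} F) ⟨r, hr⟩ ⟨l, hl⟩ := by rw [hxe]; rfl
        rw [this, hev, one_smul]
        simp only [Matrix.add_apply, Matrix.one_apply, Matrix.vecMulVec_apply, Pi.single_apply, Subtype.ext_iff]
        by_cases h1 : r = i.1 <;> by_cases h2 : l = j.1 <;> simp [h1, h2]
    set A : GL ι F := transvectionGL (Pi.single j.1 1) (Pi.single i.1 1)
      (by simp [Pi.single_eq_of_ne hij']) with hAdef
    have hA : (A : Matrix ι ι F) = 1 + Matrix.vecMulVec (Pi.single i.1 1) (Pi.single j.1 1) := rfl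
    set δ := (x : Matrix ι ι F) n n
    have hδ : δ ≠ 0 := by
      intro h0
      have h1 : (x : Matrix ι ι F) *ᵥ Pi.single n 1 = (x : Matrix ι ι F) *ᵥ 0 := by
        rw [Matrix.mulVec_zero, Matrix.mulVec_single_one]
        funext k
        by_cases hk : k = n
        · subst hk; exact h0
        · exact hxc k hk
      exact one_ne_zero (α := F) (by simpa using congrFun (Matrix.mulVec_injective_iff_isUnit.2 x.isUnit h1) n)
    set d : ι → Fˣ := scaleAt n (Units.mk0 δ hδ)
    set ψ : ι → F := fun l => if l = n then 0 else (x : Matrix ι ι F) n l / δ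
    set B : GL ι F := transvectionGL ψ (Pi.single n 1) (by simp [ψ]) with hBdef
    have hB : (B : Matrix ι ι F) = 1 + Matrix.vecMulVec (Pi.single n 1) ψ := rfl
    have hxeq : x = dg d * (A * B) := by
      refine Units.ext ?_
      rw [Units.val_mul, Units.val_mul, hA, hB, add_mul, one_mul, mul_add (Matrix.vecMulVec _ _), mul_one,
        Matrix.vecMulVec_mul_vecMulVec]
      rw [show (Pi.single j.1 1 : ι → F) ⬝ᵥ Pi.single n 1 = 0 by simp [Pi.single_eq_of_ne (Ne.symm j.2)], zero_smul,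
        Matrix.vecMulVec_zero, add_zero]
      ext r l
      rw [coe_dg, Matrix.diagonal_mul, scaleAt_apply]
      simp only [Matrix.add_apply, Matrix.one_apply, Matrix.vecMulVec_apply, Units.val_mk0]
      by_cases hr : r = n
      · subst hr
        rw [Pi.single_eq_same, Pi.single_eq_of_ne i.2.symm]
        by_cases hl : l = r
        · subst hl; simp [ψ]; rfl
        · simp [ψ, hl, Ne.symm hl]; field_simp
      · rw [hxrl r l hr, if_neg hr, Pi.single_eq_of_ne hr]
        simp only [Pi.single_apply]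
        by_cases h1 : r = i.1 <;> by_cases h2 : l = j.1 <;> simp [h1, h2]
    by_cases hψ : ψ = 0
    · -- the lift is the transvection itself
      have hB1 : B = 1 := Units.ext (by rw [hB, hψ, Matrix.vecMulVec_zero, add_zero, Units.val_one])
      have hdet := congrArg Units.val (MonoidHom.mem_ker.1 (hX hx))
      rw [hxeq, hB1, mul_one, map_mul, Units.val_mul, Units.val_one,
        show ((Matrix.GeneralLinearGroup.det A : Fˣ) : F) = 1 from
          congrArg Units.val (MonoidHom.mem_ker.1 (transvectionGL_mem_specialLinear _ _ _)), mul_one] at hdet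
      have h1 : δ = 1 := by
        rw [← hdet]
        show _ = ((dg d : GL ι F) : Matrix ι ι F).det
        rw [det_dg, Finset.prod_eq_single n]
        · simp [d, scaleAt_apply]
        · intro k _ hk
          simp [d, scaleAt_apply, hk]
        · simp
      have hd1 : d = 1 := by
        funext k
        refine Units.ext ?_
        simp [d, scaleAt_apply, h1]
      refine ⟨i.1, j.1, hij', 1, one_ne_zero, x, hx, ?_⟩
      rw [hxeq, hB1, hd1, map_one, one_mul, mul_one, hA, one_smul]
    obtain ⟨k, -, hk⟩ := Finset.exists_mem_notMem_of_card_lt_card (s := ({n, i.1, j.1} : Finset ι)) (t := Finset.univ)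
      (lt_of_le_of_lt Finset.card_le_three (by rw [Finset.card_univ]; omega))
    simp only [Finset.mem_insert, Finset.mem_singleton, not_or] at hk
    refine root_of_row_comm hq hn hdiag hB (by simp [ψ]) hψ (k := k) hk.1 fun s => ?_
    convert row_mem hdiag hx (prod_pairAt n k s) using 1
    set T := dg (pairAt n k s)
    have hTd : dg d * T = T * dg d := by rw [← map_mul, ← map_mul, mul_comm]
    have hTA : A * T = T * A := by
      refine Units.ext ?_
      rw [Units.val_mul, Units.val_mul, hA, add_mul, mul_add, one_mul, mul_one, Matrix.mul_vecMulVec,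
        Matrix.vecMulVec_mul]
      congr 1
      ext r l
      simp only [Matrix.vecMulVec_apply, T, dg_vecMul, dg_mulVec, pairAt_apply (Ne.symm hk.1)]
      by_cases h1 : r = i.1
      · subst h1
        by_cases h2 : l = j.1
        · subst h2
          simp [i.2, j.2, Ne.symm hk.2.1, Ne.symm hk.2.2]
        · simp [h2]
      · simp [h1]
    have hcomm : dg d * A * T = T * (dg d * A) := by rw [mul_assoc, hTA, ← mul_assoc, hTd, mul_assoc]
    rw [hxeq]
    calc B⁻¹ * T * B * T⁻¹ = B⁻¹ * (dg d * A)⁻¹ * ((dg d * A) * T) * B * T⁻¹ := by group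
      _ = (dg d * (A * B))⁻¹ * T * (dg d * (A * B)) * T⁻¹ := by rw [hcomm]; group

end

/-- An overgroup of the monomial group of determinant one inside the special linear group. -/
theorem specialLinear_le {X : Subgroup (GL ι F)} [Finite F] (hq : 5 ≤ Nat.card F) (hn : 6 ≤ Fintype.card ι)
    (hdiag : ∀ t : ι → Fˣ, ∏ x, t x = 1 → (dg t : GL ι F) ∈ X)
    (hperm : ∀ σ : Equiv.Perm ι, ∃ w ∈ X, ∀ i j, i ≠ σ j → ((w : GL ι F) : Matrix ι ι F) i j = 0)
    (hX : X ≤ Cfsg.Geo.specialLinear ι F) {g : GL ι F} (hg : g ∈ X) (hnm : ¬ Mon g) :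
    Cfsg.Geo.specialLinear ι F ≤ X :=
  specialLinear_le_of_fix hq (by omega) hdiag hperm hX (exists_fix hq hn hdiag hperm hg hnm)

end CfsgLib.Geo.Monomial
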