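/-
Block-monomial matrices over an index set `Fin t × Fin m`, and the transvections they supply to an overgroup.
-/
import Cfsg.Agent.Lib.Geo.MonomialSL

set_option autoImplicit false

namespace CfsgLib.Geo.BlockDecomp

open Matrix Monomial

variable {t m : ℕ} {F : Type*} [Field F]

/-- Block-monomial matrices. -/
def Blk (g : GL (Fin t × Fin m) F) : Prop :=
  ∃ σ : Equiv.Perm (Fin t), ∀ p q, p.1 ≠ σ q.1 → (g : Matrix (Fin t × Fin m) (Fin t × Fin m) F) p q = 0

/-- Supported in one block. -/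
def Sup (i : Fin t) (v : Fin t × Fin m → F) : Prop := ∀ p, p.1 ≠ i → v p = 0

/-- The component in one block. -/
def comp (i : Fin t) (v : Fin t × Fin m → F) : Fin t × Fin m → F := fun p => if p.1 = i then v p else 0

theorem sup_comp (i : Fin t) (v : Fin t × Fin m → F) : Sup i (comp i v) := fun _ hp => if_neg hp

theorem sup_single {i : Fin t} {p : Fin t × Fin m} (hp : p.1 = i) (c : F) :
    Sup i (Pi.single p c : Fin t × Fin m → F) := fun q hq => Pi.single_eq_of_ne (fun e => hq (by rw [e]; exact hp)) _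

theorem Sup.smul {i : Fin t} {v : Fin t × Fin m → F} (h : Sup i v) (c : F) : Sup i (c • v) := fun p hp => by
  rw [Pi.smul_apply, h p hp, smul_zero]

theorem Sup.sub {i : Fin t} {v w : Fin t × Fin m → F} (h : Sup i v) (h' : Sup i w) : Sup i (v - w) := fun p hp => by
  rw [Pi.sub_apply, h p hp, h' p hp, sub_zero]

theorem Sup.dot {i : Fin t} {v : Fin t × Fin m → F} (h : Sup i v) (φ : Fin t × Fin m → F) :
    φ ⬝ᵥ v = comp i φ ⬝ᵥ v := by
  refine Finset.sum_congr rfl fun p _ => ?_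
  by_cases hp : p.1 = i
  · simp [comp, hp]
  · simp [comp, h p hp]

theorem Sup.dot_of_ne {i j : Fin t} {v φ : Fin t × Fin m → F} (hij : i ≠ j) (h : Sup i v) (h' : Sup j φ) :
    φ ⬝ᵥ v = 0 := by
  refine Finset.sum_eq_zero fun p _ => ?_
  by_cases hp : p.1 = i
  · rw [h' p (hp ▸ hij), zero_mul]
  · rw [h p hp, mul_zero]

theorem blk_one_add {i : Fin t} {v φ : Fin t × Fin m → F} (hv : Sup i v) (hφ : Sup i φ) (c : F)
    {g : GL (Fin t × Fin m) F} (hg : (g : Matrix (Fin t × Fin m) (Fin t × Fin m) F) = 1 + c • Matrix.vecMulVec v φ) :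
    Blk g := by
  refine ⟨1, fun p q hpq => ?_⟩
  rw [Equiv.Perm.one_apply] at hpq
  rw [hg, Matrix.add_apply, Matrix.one_apply_ne (fun e => hpq (by rw [e])), Matrix.smul_apply,
    Matrix.vecMulVec_apply, zero_add]
  by_cases hp : p.1 = i
  · rw [hφ q (fun e => hpq (hp.trans e.symm)), mul_zero, smul_zero]
  · rw [hv p hp, zero_mul, smul_zero]

theorem Blk.mul {g h : GL (Fin t × Fin m) F} (hg : Blk g) (hh : Blk h) : Blk (g * h) := by
  obtain ⟨σ, hσ⟩ := hg
  obtain ⟨τ, hτ⟩ := hh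
  refine ⟨σ * τ, fun p q hpq => ?_⟩
  rw [Units.val_mul, Matrix.mul_apply]
  refine Finset.sum_eq_zero fun k _ => ?_
  by_cases hk : k.1 = τ q.1
  · rw [hσ p k (by rw [hk]; exact hpq), zero_mul]
  · rw [hτ k q hk, mul_zero]

theorem blk_of_diag (d : Fin t × Fin m → Fˣ) : Blk (dg d : GL (Fin t × Fin m) F) :=
  ⟨1, fun p q hpq => by
    rw [coe_dg]
    exact Matrix.diagonal_apply_ne _ (fun e => hpq (by rw [e]; rfl))⟩

/-- A column-block criterion. -/
theorem blk_of_cols (hm : 0 < m) {g : GL (Fin t × Fin m) F}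
    (h : ∀ a, ∃ i, ∀ p q, q.1 = a → p.1 ≠ i → (g : Matrix (Fin t × Fin m) (Fin t × Fin m) F) p q = 0) : Blk g := by
  classical
  choose σ hσ using h
  have hsurj : Function.Surjective σ := by
    intro i
    by_contra! hi
    have hz : ∀ q, (g : Matrix (Fin t × Fin m) (Fin t × Fin m) F) (i, ⟨0, hm⟩) q = 0 := fun q =>
      hσ q.1 _ q rfl (fun e => hi q.1 e.symm)
    have := congrFun (congrFun (Units.mul_inv g) (i, ⟨0, hm⟩)) (i, ⟨0, hm⟩)
    rw [Matrix.mul_apply, Matrix.one_apply_eq, Finset.sum_eq_zero fun k _ => by rw [hz k, zero_mul]] at this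
    exact zero_ne_one this
  exact ⟨Equiv.ofBijective σ ⟨Finite.injective_iff_surjective.2 hsurj, hsurj⟩, fun p q hpq => hσ q.1 p q rfl hpq⟩

/-- A pseudo-reflection. -/
def refl (a η : Fin t × Fin m → F) (h : η ⬝ᵥ a = 1) (α : Fˣ) : GL (Fin t × Fin m) F where
  val := 1 + ((α : F) - 1) • Matrix.vecMulVec a η
  inv := 1 + (((α⁻¹ : Fˣ) : F) - 1) • Matrix.vecMulVec a η
  val_inv := by
    rw [add_mul, one_mul, mul_add, mul_one, Matrix.smul_mul, Matrix.mul_smul, Matrix.vecMulVec_mul_vecMulVec, h,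
      one_smul, smul_smul, Units.val_inv_eq_inv_val]
    have := α.ne_zero
    match_scalars <;> field_simp <;> ring
  inv_val := by
    rw [add_mul, one_mul, mul_add, mul_one, Matrix.smul_mul, Matrix.mul_smul, Matrix.vecMulVec_mul_vecMulVec, h,
      one_smul, smul_smul, Units.val_inv_eq_inv_val]
    have := α.ne_zero
    match_scalars <;> field_simp <;> ring

theorem det_refl (a η : Fin t × Fin m → F) (h : η ⬝ᵥ a = 1) (α : Fˣ) :
    ((refl a η h α : GL (Fin t × Fin m) F) : Matrix (Fin t × Fin m) (Fin t × Fin m) F).det = α := by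
  show (1 + ((α : F) - 1) • Matrix.vecMulVec a η).det = _
  rw [← Matrix.smul_vecMulVec, Matrix.vecMulVec_eq Unit, Matrix.det_one_add_replicateCol_mul_replicateRow,
    dotProduct_smul, h, smul_eq_mul, mul_one]
  ring

theorem refl_mulVec (a η : Fin t × Fin m → F) (h : η ⬝ᵥ a = 1) (α : Fˣ) (x : Fin t × Fin m → F) :
    ((refl a η h α : GL (Fin t × Fin m) F) : Matrix (Fin t × Fin m) (Fin t × Fin m) F) *ᵥ x =
      x + (((α : F) - 1) * (η ⬝ᵥ x)) • a := by
  show (1 + ((α : F) - 1) • Matrix.vecMulVec a η) *ᵥ x = _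
  rw [Matrix.add_mulVec, Matrix.one_mulVec, Matrix.smul_mulVec, Matrix.vecMulVec_mulVec, op_smul_eq_smul, smul_smul]

theorem vecMul_refl (a η : Fin t × Fin m → F) (h : η ⬝ᵥ a = 1) (α : Fˣ) {φ : Fin t × Fin m → F} (hφ : φ ⬝ᵥ a = 0) :
    φ ᵥ* ((refl a η h α : GL (Fin t × Fin m) F) : Matrix (Fin t × Fin m) (Fin t × Fin m) F) = φ := by
  show φ ᵥ* (1 + ((α : F) - 1) • Matrix.vecMulVec a η) = _
  rw [Matrix.vecMul_add, Matrix.vecMul_one, Matrix.vecMul_smul, Matrix.vecMul_vecMulVec, hφ, zero_smul, smul_zero,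
    add_zero]

variable {X : Subgroup (GL (Fin t × Fin m) F)}

theorem tv_fix_left {v φ : Fin t × Fin m → F} (h : Tv X v φ) {x : GL (Fin t × Fin m) F} (hx : x ∈ X)
    (hfix : φ ᵥ* (x : Matrix (Fin t × Fin m) (Fin t × Fin m) F) = φ) :
    Tv X ((x : Matrix (Fin t × Fin m) (Fin t × Fin m) F) *ᵥ v - v) φ := by
  refine Tv.sub_left ?_ h
  have := h.conj hx
  convert this using 1
  conv_rhs => rw [← hfix, Matrix.vecMul_vecMul, Units.mul_inv, Matrix.vecMul_one]

theorem tv_fix_right {v φ : Fin t × Fin m → F} (h : Tv X v φ) {x : GL (Fin t × Fin m) F} (hx : x ∈ X)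
    (hfix : (x : Matrix (Fin t × Fin m) (Fin t × Fin m) F) *ᵥ v = v) :
    Tv X v (φ ᵥ* (x : Matrix (Fin t × Fin m) (Fin t × Fin m) F) - φ) := by
  refine Tv.sub_right ?_ h
  have := h.conj (X.inv_mem hx)
  rw [inv_inv] at this
  convert this using 1
  conv_rhs => rw [← hfix, Matrix.mulVec_mulVec, Units.inv_mul, Matrix.one_mulVec]

variable (hblk : ∀ x : GL (Fin t × Fin m) F, x ∈ Cfsg.Geo.specialLinear (Fin t × Fin m) F → Blk x → x ∈ X)
include hblk

theorem block_tv {i : Fin t} {v φ : Fin t × Fin m → F} (hv : Sup i v) (hφ : Sup i φ) (h0 : φ ⬝ᵥ v = 0) :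
    Tv X v φ := by
  refine ⟨h0, fun c => ?_⟩
  have hd : (c • φ) ⬝ᵥ v = 0 := by rw [smul_dotProduct, h0, smul_zero]
  have e : ((transvectionGL (c • φ) v hd : GL (Fin t × Fin m) F) : Matrix (Fin t × Fin m) (Fin t × Fin m) F) =
      1 + c • Matrix.vecMulVec v φ := by
    show 1 + Matrix.vecMulVec v (c • φ) = _
    rw [Matrix.vecMulVec_smul]
  exact ⟨_, hblk _ (transvectionGL_mem_specialLinear _ _ hd) (blk_one_add hv hφ c e), e⟩

/-- Move the centre inside a block, the functional fixed. -/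
theorem tv_primal {v φ : Fin t × Fin m → F} (h : Tv X v φ) {i : Fin t} {w χ : Fin t × Fin m → F} (hw : Sup i w)
    (hχ : Sup i χ) (h1 : χ ⬝ᵥ w = 0) (h2 : χ ⬝ᵥ v = 1) (h3 : φ ⬝ᵥ w = 0) : Tv X w φ := by
  obtain ⟨x, hx, e⟩ := (block_tv hblk hw hχ h1).2 1
  rw [one_smul] at e
  have := tv_fix_left h hx (by
    rw [e, Matrix.vecMul_add, Matrix.vecMul_one, Matrix.vecMul_vecMulVec, h3, zero_smul, add_zero])
  rwa [e, Matrix.add_mulVec, Matrix.one_mulVec, Matrix.vecMulVec_mulVec, op_smul_eq_smul, h2, one_smul,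
    add_sub_cancel_left] at this

/-- Move the functional inside a block, the centre fixed. -/
theorem tv_dual {v φ : Fin t × Fin m → F} (h : Tv X v φ) {j : Fin t} {w χ : Fin t × Fin m → F} (hw : Sup j w)
    (hχ : Sup j χ) (h1 : χ ⬝ᵥ w = 0) (h2 : χ ⬝ᵥ v = 0) (h3 : φ ⬝ᵥ w = 1) : Tv X v χ := by
  obtain ⟨x, hx, e⟩ := (block_tv hblk hw hχ h1).2 1
  rw [one_smul] at e
  have := tv_fix_right h hx (by
    rw [e, Matrix.add_mulVec, Matrix.one_mulVec, Matrix.vecMulVec_mulVec, op_smul_eq_smul, h2, zero_smul, add_zero])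
  rwa [e, Matrix.vecMul_add, Matrix.vecMul_one, Matrix.vecMul_vecMulVec, h3, one_smul, add_sub_cancel_left] at this

/-- Two compensating pseudo-reflections. -/
theorem refl_pair_mem {i k : Fin t} {a η b θ : Fin t × Fin m → F} (ha : Sup i a) (hη : Sup i η) (hb : Sup k b)
    (hθ : Sup k θ) (h : η ⬝ᵥ a = 1) (h' : θ ⬝ᵥ b = 1) (α : Fˣ) : refl a η h α * refl b θ h' α⁻¹ ∈ X := by
  refine hblk _ (MonoidHom.mem_ker.2 (Units.ext ?_)) ((blk_one_add ha hη _ rfl).mul (blk_one_add hb hθ _ rfl))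
  rw [map_mul, Units.val_mul, Units.val_one, Matrix.GeneralLinearGroup.val_det_apply,
    Matrix.GeneralLinearGroup.val_det_apply, det_refl, det_refl, ← Units.val_mul, mul_inv_cancel, Units.val_one]

end CfsgLib.Geo.BlockDecomp
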