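/-
An overgroup of the block-monomial group of determinant one, not block-monomial, contains the special linear group.
-/
import Cfsg.Agent.Lib.Geo.BlockDecompBasic

set_option autoImplicit false

namespace CfsgLib.Geo.BlockDecomp

open Matrix Monomial

variable {t m : ℕ} {F : Type*} [Field F] {X : Subgroup (GL (Fin t × Fin m) F)}
  (hblk : ∀ x : GL (Fin t × Fin m) F, x ∈ Cfsg.Geo.specialLinear (Fin t × Fin m) F → Blk x → x ∈ X)

omit hblk in
theorem exists_ne_fin (hm : 2 ≤ m) (a : Fin m) : ∃ b : Fin m, b ≠ a :=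
  haveI := Fin.nontrivial_iff_two_le.2 hm
  exists_ne a

include hblk in
/-- A centre outside the support of the functional gives a mixed root. -/
theorem root_of_zero (hm : 2 ≤ m) {v φ : Fin t × Fin m → F} (h : Tv X v φ) {p : Fin t × Fin m} (hv : v p ≠ 0)
    (hφp : ∀ b, φ (p.1, b) = 0) (hφ : φ ≠ 0) :
    ∃ r q : Fin t × Fin m, r.1 ≠ q.1 ∧ Tv X (Pi.single r 1) (Pi.single q 1) := by
  obtain ⟨b, hb⟩ := exists_ne_fin hm p.2
  set r : Fin t × Fin m := (p.1, b)
  have hrp : r ≠ p := fun e => hb (congrArg Prod.snd e)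
  have h1 : Tv X (Pi.single r 1) φ := tv_primal hblk h (i := p.1) (w := Pi.single r 1) (χ := Pi.single p (v p)⁻¹)
    (sup_single (by rfl) _) (sup_single (by rfl) _) (by simp [hrp.symm]) (by simp [hv]) (by simp [r, hφp])
  obtain ⟨q, hq⟩ := Function.ne_iff.1 hφ
  have hqp : r.1 ≠ q.1 := fun e => hq (by
    show φ q = 0
    rw [show q = (p.1, q.2) from Prod.ext e.symm rfl]
    exact hφp _)
  obtain ⟨c, hc⟩ := exists_ne_fin hm q.2
  set q' : Fin t × Fin m := (q.1, c)
  have hqq : q' ≠ q := fun e => hc (congrArg Prod.snd e)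
  exact ⟨r, q', hqp, tv_dual hblk h1 (j := q.1) (w := Pi.single q (φ q)⁻¹) (χ := Pi.single q' 1) (sup_single (by rfl) _)
    (sup_single (by rfl) _) (by simp [hqq]) (by simp [show q' ≠ r from fun e => hqp (congrArg Prod.fst e).symm])
    (by simp [mul_inv_cancel₀ (show φ q ≠ 0 from hq)])⟩

include hblk in
/-- A transvection group with centre in two blocks gives a mixed root. -/
theorem root_of_two (hm : 2 ≤ m) (hn : 6 ≤ t * m ∨ (t = 2 ∧ ∃ α : Fˣ, (α : F) ^ 2 ≠ 1))
    (hq : m = 2 → ∃ α : Fˣ, α ≠ 1) {v φ : Fin t × Fin m → F}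
    (h : Tv X v φ) (hφ : φ ≠ 0) {p p' : Fin t × Fin m} (hpp : p.1 ≠ p'.1) (hp : v p ≠ 0) (hp' : v p' ≠ 0) :
    ∃ r q : Fin t × Fin m, r.1 ≠ q.1 ∧ Tv X (Pi.single r 1) (Pi.single q 1) := by
  classical
  by_cases hz : ∃ r, v r ≠ 0 ∧ ∀ b, φ (r.1, b) = 0
  · obtain ⟨r, hr, hr'⟩ := hz
    exact root_of_zero hblk hm h hr hr' hφ
  push Not at hz
  have hout : ∀ i, (∃ s : Fin t × Fin m, s.1 ≠ i ∧ φ s ≠ 0) := by
    intro i
    by_cases hi : p.1 = i
    · obtain ⟨b, hb⟩ := hz p' hp'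
      exact ⟨(p'.1, b), fun e => hpp (hi.trans e.symm), hb⟩
    · obtain ⟨b, hb⟩ := hz p hp
      exact ⟨(p.1, b), hi, hb⟩
  have hfin' : ∀ (i : Fin t) (w : Fin t × Fin m → F) (r : Fin t × Fin m), Sup i w → r.1 = i → w r ≠ 0 → Tv X w φ →
      ∃ r q : Fin t × Fin m, r.1 ≠ q.1 ∧ Tv X (Pi.single r 1) (Pi.single q 1) := by
    intro i w r hw hr hwr hT
    obtain ⟨s, hs, hs'⟩ := hout i
    refine root_of_zero hblk hm (hT.sub_right (block_tv hblk hw (sup_comp i φ) ?_)) hwr
      (fun b => by simp [comp, hr]) (Function.ne_iff.2 ⟨s, by simpa [comp, hs] using hs'⟩)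
    rw [← hw.dot]
    exact hT.1
  by_cases hgood : ∃ r, v r ≠ 0 ∧ (comp r.1 φ ⬝ᵥ v ≠ 0 ∨ 3 ≤ m)
  · obtain ⟨r, hr, hgd⟩ := hgood
    obtain ⟨a, ha⟩ := hz r hr
    by_cases hd : comp r.1 φ ⬝ᵥ v ≠ 0
    · obtain ⟨b, hb⟩ := exists_ne_fin hm a
      set w : Fin t × Fin m → F := Pi.single (r.1, b) 1 - (φ (r.1, b) / φ (r.1, a)) • Pi.single (r.1, a) 1
      have hw : Sup r.1 w := (sup_single (by rfl) _).sub ((sup_single (by rfl) _).smul _)
      have h0 : φ ⬝ᵥ w = 0 := by
        simp only [w, dotProduct_sub, dotProduct_smul, dotProduct_single_one, smul_eq_mul]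
        field_simp
        ring
      refine hfin' r.1 w (r.1, b) hw rfl (by simp [w, hb]) (tv_primal hblk h hw
        (χ := (comp r.1 φ ⬝ᵥ v)⁻¹ • comp r.1 φ) ((sup_comp _ _).smul _) ?_ ?_ h0)
      · rw [smul_dotProduct, ← hw.dot, h0, smul_zero]
      · rw [smul_dotProduct, smul_eq_mul, inv_mul_cancel₀ hd]
    · push Not at hd
      have h3 := hgd.resolve_left (fun h' => h' hd)
      obtain ⟨c, hca, hc⟩ : ∃ c, c ≠ a ∧ v (r.1, c) ≠ 0 := by
        by_contra! hc
        have hva : v (r.1, a) ≠ 0 := fun e => hr (by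
          by_cases hra : r.2 = a
          · rw [show r = (r.1, a) from Prod.ext rfl hra]; exact e
          · exact hc r.2 hra)
        refine mul_ne_zero ha hva (Eq.trans ?_ hd)
        rw [dotProduct, Finset.sum_eq_single ((r.1, a) : Fin t × Fin m)]
        · simp [comp]
        · intro s _ hs
          by_cases hsr : s.1 = r.1
          · rw [show s = (r.1, s.2) from Prod.ext hsr rfl, hc s.2 (fun e => hs (Prod.ext hsr e)), mul_zero]
          · simp [comp, hsr]
        · simp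
      obtain ⟨b, -, hb⟩ := Finset.exists_mem_notMem_of_card_lt_card (s := ({a, c} : Finset (Fin m)))
        (t := Finset.univ) (lt_of_le_of_lt Finset.card_le_two (by rw [Finset.card_univ, Fintype.card_fin]; omega))
      simp only [Finset.mem_insert, Finset.mem_singleton, not_or] at hb
      set w : Fin t × Fin m → F := Pi.single (r.1, b) 1 - (φ (r.1, b) / φ (r.1, a)) • Pi.single (r.1, a) 1
      have hw : Sup r.1 w := (sup_single (by rfl) _).sub ((sup_single (by rfl) _).smul _)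
      refine hfin' r.1 w (r.1, b) hw rfl (by simp [w, hb.1]) (tv_primal hblk h hw
        (χ := Pi.single (r.1, c) (v (r.1, c))⁻¹) (sup_single (by rfl) _) ?_ ?_ ?_)
      · simp [w, hca, Ne.symm hb.2]
      · simp [hc]
      · simp only [w, dotProduct_sub, dotProduct_smul, dotProduct_single_one, smul_eq_mul]
        field_simp
        ring
  push Not at hgood
  have hm2 : m = 2 := by have := (hgood p hp).2; omega
  have hφv : ∀ s : Fin t × Fin m, v s ≠ 0 → φ ⬝ᵥ comp s.1 v = 0 := by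
    intro s hs
    rw [(sup_comp s.1 v).dot, ← (hgood s hs).1]
    refine Finset.sum_congr rfl fun x _ => ?_
    by_cases hx : x.1 = s.1 <;> simp [comp, hx]
  rcases hn with hn | ⟨ht, α, hα⟩
  swap
  · have hη : (Pi.single p (v p)⁻¹ : Fin t × Fin m → F) ⬝ᵥ comp p.1 v = 1 := by simp [comp, hp]
    have hθ : (Pi.single p' (v p')⁻¹ : Fin t × Fin m → F) ⬝ᵥ comp p'.1 v = 1 := by simp [comp, hp']
    have hmem := refl_pair_mem hblk (sup_comp p.1 v) (sup_single (by rfl) _) (sup_comp p'.1 v)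
      (sup_single (by rfl) _) hη hθ α
    have h2 := (tv_fix_left h hmem (by
      rw [Units.val_mul, ← Matrix.vecMul_vecMul, vecMul_refl _ _ _ _ (hφv p hp), vecMul_refl _ _ _ _ (hφv p' hp')]))
    have h3 := h2.sub_left (h.smul_left ((α : F) - 1))
    have hv : v = comp p.1 v + comp p'.1 v := by
      funext s
      subst ht
      have : s.1 = p.1 ∨ s.1 = p'.1 := by omega
      rcases this with e | e <;> simp [comp, e, hpp, Ne.symm hpp]
    have e : (((refl _ _ hη α * refl _ _ hθ α⁻¹ : GL (Fin t × Fin m) F) :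
        Matrix (Fin t × Fin m) (Fin t × Fin m) F) *ᵥ v - v) - ((α : F) - 1) • v =
        (((α⁻¹ : Fˣ) : F) - (α : F)) • comp p'.1 v := by
      rw [Units.val_mul, ← Matrix.mulVec_mulVec, refl_mulVec, refl_mulVec, dotProduct_add, dotProduct_smul,
        show (Pi.single p' (v p')⁻¹ : Fin t × Fin m → F) ⬝ᵥ v = 1 by simp [hp'],
        show (Pi.single p (v p)⁻¹ : Fin t × Fin m → F) ⬝ᵥ v = 1 by simp [hp],
        Sup.dot_of_ne hpp.symm (sup_comp p'.1 v) (sup_single (by rfl) _), smul_zero, add_zero, mul_one, mul_one]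
      conv_lhs => arg 2; rw [hv]
      module
    rw [e] at h3
    refine hfin' p'.1 _ p' ((sup_comp _ _).smul _) rfl ?_ h3
    simp only [Pi.smul_apply, comp, if_pos, smul_eq_mul]
    refine mul_ne_zero (sub_ne_zero.2 fun e' => hα ?_) hp'
    have e2 : (α : F) * ((α⁻¹ : Fˣ) : F) = 1 := by simp
    linear_combination (-(α : F)) * e' + e2
  obtain ⟨α, hα⟩ := hq hm2
  have hα' : (α : F) - 1 ≠ 0 := sub_ne_zero.2 fun e => hα (Units.ext e)
  set a := comp p.1 v
  set b := comp p'.1 v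
  have hη : (Pi.single p (v p)⁻¹ : Fin t × Fin m → F) ⬝ᵥ a = 1 := by simp [a, comp, hp]
  have hθ : (Pi.single p' (v p')⁻¹ : Fin t × Fin m → F) ⬝ᵥ b = 1 := by simp [b, comp, hp']
  set v₂ := ((α : F) - 1) • a + (((α⁻¹ : Fˣ) : F) - 1) • b with hv₂
  have h2 : Tv X v₂ φ := by
    have hmem := refl_pair_mem hblk (sup_comp p.1 v) (sup_single (by rfl) _) (sup_comp p'.1 v) (sup_single (by rfl) _) hη hθ α
    have := tv_fix_left h hmem (by
      rw [Units.val_mul, ← Matrix.vecMul_vecMul, vecMul_refl _ _ _ _ (hφv p hp), vecMul_refl _ _ _ _ (hφv p' hp')])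
    convert this using 1
    rw [Units.val_mul, ← Matrix.mulVec_mulVec, refl_mulVec, refl_mulVec, dotProduct_add, dotProduct_smul,
      show (Pi.single p' (v p')⁻¹ : Fin t × Fin m → F) ⬝ᵥ v = 1 by simp [hp'],
      show (Pi.single p (v p)⁻¹ : Fin t × Fin m → F) ⬝ᵥ v = 1 by simp [hp],
      Sup.dot_of_ne hpp.symm (sup_comp p'.1 v) (sup_single (by rfl) _), smul_zero, add_zero, mul_one, mul_one, hv₂]
    abel
  have hv₂p : v₂ p = ((α : F) - 1) * v p := by simp [v₂, a, b, comp, hpp]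
  by_cases hx : ∃ s : Fin t × Fin m, s.1 ≠ p.1 ∧ s.1 ≠ p'.1 ∧ φ s ≠ 0
  · obtain ⟨s, hs1, hs2, hs⟩ := hx
    obtain ⟨c, hc⟩ := exists_ne_fin hm s.2
    set q : Fin t × Fin m := (s.1, c)
    have hqs : q ≠ s := fun e => hc (congrArg Prod.snd e)
    have h3 := tv_dual hblk h2 (j := s.1) (w := Pi.single s (φ s)⁻¹) (χ := Pi.single q 1) (sup_single (by rfl) _)
      (sup_single (by rfl) _) (by simp [hqs]) (by simp [v₂, a, b, comp, q, hs1, hs2]) (by simp [mul_inv_cancel₀ hs])
    refine root_of_zero hblk hm h3 (p := p) (by rw [hv₂p]; exact mul_ne_zero hα' hp) (fun d => ?_) ?_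
    · have hne : (p.1, d) ≠ q := fun e => hs1 (congrArg Prod.fst e).symm
      show (Pi.single q (1 : F) : Fin t × Fin m → F) (p.1, d) = 0
      simp [hne]
    · exact Function.ne_iff.2 ⟨q, show (Pi.single q (1 : F) : Fin t × Fin m → F) q ≠ 0 by simp⟩
  push Not at hx
  obtain ⟨l, -, hl⟩ := Finset.exists_mem_notMem_of_card_lt_card (s := ({p.1, p'.1} : Finset (Fin t)))
    (t := Finset.univ) (lt_of_le_of_lt Finset.card_le_two (by
      rw [Finset.card_univ, Fintype.card_fin]; subst hm2; omega))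
  simp only [Finset.mem_insert, Finset.mem_singleton, not_or] at hl
  set e : Fin t × Fin m := (l, p.2)
  have he : (Pi.single e 1 : Fin t × Fin m → F) ⬝ᵥ Pi.single e 1 = 1 := by simp
  have hmem := refl_pair_mem hblk (sup_comp p.1 v) (sup_single (by rfl) _) (sup_single (p := e) (i := l) rfl 1)
    (sup_single (by rfl) 1) hη he α
  have h3 := tv_fix_left h2 hmem (by
    rw [Units.val_mul, ← Matrix.vecMul_vecMul, vecMul_refl _ _ _ _ (hφv p hp),
      vecMul_refl _ _ _ _ (by simp [hx e hl.1 hl.2])])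
  refine hfin' p.1 _ p ?_ rfl ?_ h3
  all_goals rw [Units.val_mul, ← Matrix.mulVec_mulVec, refl_mulVec _ _ he,
    show (Pi.single e 1 : Fin t × Fin m → F) ⬝ᵥ v₂ = 0 by simp [v₂, a, b, comp, e, hl.1, hl.2], mul_zero, zero_smul,
    add_zero, refl_mulVec, add_sub_cancel_left]
  · exact (sup_comp _ _).smul _
  · rw [show (Pi.single p (v p)⁻¹ : Fin t × Fin m → F) ⬝ᵥ v₂ = (v p)⁻¹ * v₂ p by simp, hv₂p, Pi.smul_apply]
    simp only [a, comp, if_pos, smul_eq_mul]
    refine mul_ne_zero (mul_ne_zero hα' (mul_ne_zero (inv_ne_zero hp) (mul_ne_zero hα' hp))) hp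

omit hblk in
/-- Monomial elements with a prescribed permutation. -/
theorem exists_perm {ι : Type} [Fintype ι] [DecidableEq ι] [Nonempty ι] (π : Equiv.Perm ι) :
    ∃ w : GL ι F, w ∈ Cfsg.Geo.specialLinear ι F ∧ ∀ i j, i ≠ π j → (w : Matrix ι ι F) i j = 0 := by
  classical
  obtain ⟨x⟩ := ‹Nonempty ι›
  have hd : (π⁻¹.permMatrix F).det ≠ 0 := by
    rw [Matrix.det_permutation]
    rcases Int.units_eq_one_or (Equiv.Perm.sign π⁻¹) with h | h <;> simp [h]
  set P : GL ι F := Matrix.GeneralLinearGroup.mkOfDetNeZero (π⁻¹.permMatrix F) hd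
  refine ⟨dg (scaleAt x (Units.mk0 _ hd)⁻¹) * P, MonoidHom.mem_ker.2 (Units.ext ?_), fun i j hij => ?_⟩
  · rw [map_mul, Units.val_mul, Units.val_one, Matrix.GeneralLinearGroup.val_det_apply,
      Matrix.GeneralLinearGroup.val_det_apply, det_dg, Finset.prod_eq_single x]
    · simp only [scaleAt_apply, if_true, Units.val_inv_eq_inv_val, Units.val_mk0]
      exact inv_mul_cancel₀ hd
    · intro k _ hk
      simp [scaleAt_apply, hk]
    · simp
  · rw [Units.val_mul, coe_dg, Matrix.diagonal_mul]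
    show _ * ((π⁻¹).toPEquiv.toMatrix : Matrix ι ι F) i j = 0
    rw [PEquiv.toMatrix_apply]
    have : j ∉ (π⁻¹).toPEquiv i := by
      rw [Equiv.toPEquiv_apply, Option.mem_some_iff]
      exact fun e => hij (by rw [← e]; exact (π.apply_symm_apply i).symm)
    rw [if_neg this, mul_zero]

include hblk in
theorem tv_single_all (hm : 2 ≤ m) {r q : Fin t × Fin m} (hrq : r.1 ≠ q.1)
    (h : Tv X (Pi.single r 1) (Pi.single q 1)) (r' q' : Fin t × Fin m) (hne : r' ≠ q') :
    Tv X (Pi.single r' 1) (Pi.single q' 1) := by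
  classical
  by_cases hsame : r'.1 = q'.1
  · exact block_tv hblk (sup_single (by rfl) _) (sup_single hsame.symm _) (by simp [hne.symm])
  -- inside the blocks
  have hleft : ∀ (r : Fin t × Fin m) (q : Fin t × Fin m), r.1 ≠ q.1 → Tv X (Pi.single r 1) (Pi.single q 1) →
      ∀ c, Tv X (Pi.single (r.1, c) 1) (Pi.single q 1) := by
    intro r q hrq h c
    by_cases hc : c = r.2
    · subst hc; exact h
    exact tv_primal hblk h (χ := Pi.single r 1) (sup_single (i := r.1) (by rfl) _) (sup_single (by rfl) _)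
      (by simp [show r ≠ (r.1, c) from fun e => hc (congrArg Prod.snd e).symm]) (by simp)
      (by simp [show q ≠ (r.1, c) from fun e => hrq (congrArg Prod.fst e).symm])
  have hright : ∀ (r : Fin t × Fin m) (q : Fin t × Fin m), r.1 ≠ q.1 → Tv X (Pi.single r 1) (Pi.single q 1) →
      ∀ c, Tv X (Pi.single r 1) (Pi.single (q.1, c) 1) := by
    intro r q hrq h c
    by_cases hc : c = q.2
    · subst hc; exact h
    exact tv_dual hblk h (w := Pi.single q 1) (sup_single (i := q.1) (by rfl) _) (sup_single (i := q.1) (by rfl) _)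
      (by simp [show (q.1, c) ≠ q from fun e => hc (congrArg Prod.snd e)])
      (by simp [show (q.1, c) ≠ r from fun e => hrq (congrArg Prod.fst e).symm]) (by simp)
  -- between the blocks
  obtain ⟨σ, hσr, hσq⟩ : ∃ σ : Equiv.Perm (Fin t), σ r.1 = r'.1 ∧ σ q.1 = q'.1 := by
    refine ⟨(Equiv.swap r.1 r'.1).trans (Equiv.swap (Equiv.swap r.1 r'.1 q.1) q'.1), ?_, ?_⟩
    · rw [Equiv.trans_apply, Equiv.swap_apply_left, Equiv.swap_apply_of_ne_of_ne _ hsame]
      intro e
      exact hrq ((Equiv.swap r.1 r'.1).injective (by rw [← e, Equiv.swap_apply_left]))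
    · simp
  haveI : Nonempty (Fin t × Fin m) := ⟨r⟩
  obtain ⟨w, hwSL, hwπ⟩ := exists_perm (F := F) (σ.prodCongr (Equiv.refl (Fin m)))
  have hwX : w ∈ X := hblk w hwSL ⟨σ, fun x y hxy => hwπ x y fun e => hxy (by rw [e]; rfl)⟩
  set π := σ.prodCongr (Equiv.refl (Fin m))
  have h2 := h.conj hwX
  have e1 := Mon.mulVec_single hwπ r
  set β := (Pi.single q 1 : Fin t × Fin m → F) ᵥ* ((w⁻¹ : GL (Fin t × Fin m) F) : Matrix (Fin t × Fin m) (Fin t × Fin m) F)
  have e2 : β = β (π q) • Pi.single (π q) 1 := by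
    have key : β ᵥ* (w : Matrix (Fin t × Fin m) (Fin t × Fin m) F) = Pi.single q 1 := by
      rw [Matrix.vecMul_vecMul, Units.inv_mul, Matrix.vecMul_one]
    funext x
    by_cases hx : x = π q
    · subst hx; simp
    · rw [Pi.smul_apply, Pi.single_eq_of_ne hx, smul_zero]
      have := congrFun key (π.symm x)
      rw [Pi.single_eq_of_ne (fun e => hx (by rw [← e, Equiv.apply_symm_apply]))] at this
      rw [show (β ᵥ* (w : Matrix (Fin t × Fin m) (Fin t × Fin m) F)) (π.symm x) =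
        ∑ k, β k * (w : Matrix (Fin t × Fin m) (Fin t × Fin m) F) k (π.symm x) from rfl,
        Finset.sum_eq_single x] at this
      · refine (mul_eq_zero.1 this).resolve_right ?_
        simpa using Mon.ne_zero hwπ (π.symm x)
      · intro k _ hk
        rw [hwπ k _ (by rwa [Equiv.apply_symm_apply]), mul_zero]
      · simp
  have hb0 : β (π q) ≠ 0 := fun e0 => by
    rw [e0, zero_smul] at e2
    have key : β ᵥ* (w : Matrix (Fin t × Fin m) (Fin t × Fin m) F) = Pi.single q 1 := by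
      rw [Matrix.vecMul_vecMul, Units.inv_mul, Matrix.vecMul_one]
    rw [e2, Matrix.zero_vecMul] at key
    exact zero_ne_one (α := F) (by simpa using congrFun key q)
  rw [e1, e2] at h2
  have h3 := (h2.smul_left ((w : Matrix (Fin t × Fin m) (Fin t × Fin m) F) (π r) r)⁻¹).smul_right (β (π q))⁻¹
  rw [inv_smul_smul₀ (Mon.ne_zero hwπ r), inv_smul_smul₀ hb0] at h3
  have hr1 : (π r).1 = r'.1 := hσr
  have hq1 : (π q).1 = q'.1 := hσq
  have h4 := hleft _ _ (by rw [hr1, hq1]; exact hsame) h3 r'.2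
  rw [hr1] at h4
  have h5 := hright _ _ (by rw [hq1]; exact hsame) h4 q'.2
  rwa [hq1] at h5

include hblk in
theorem specialLinear_le_two (hm : 2 ≤ m) (hn : 6 ≤ t * m ∨ (t = 2 ∧ ∃ α : Fˣ, (α : F) ^ 2 ≠ 1))
    (hq : m = 2 → ∃ α : Fˣ, α ≠ 1)
    {g : GL (Fin t × Fin m) F} (hg : g ∈ X) (hnb : ¬ Blk g) : Cfsg.Geo.specialLinear (Fin t × Fin m) F ≤ X := by
  classical
  obtain ⟨a, ha⟩ : ∃ a : Fin t, ∀ i, ∃ p q : Fin t × Fin m, q.1 = a ∧ p.1 ≠ i ∧
      (g : Matrix (Fin t × Fin m) (Fin t × Fin m) F) p q ≠ 0 := by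
    by_contra! hc
    exact hnb (blk_of_cols (by omega) hc)
  -- a vector of block `a` with image in two blocks
  obtain ⟨u, hu, p, p', hpp, hp, hp'⟩ : ∃ u : Fin t × Fin m → F, Sup a u ∧ ∃ p p', p.1 ≠ p'.1 ∧
      ((g : Matrix (Fin t × Fin m) (Fin t × Fin m) F) *ᵥ u) p ≠ 0 ∧
      ((g : Matrix (Fin t × Fin m) (Fin t × Fin m) F) *ᵥ u) p' ≠ 0 := by
    obtain ⟨p, q, hqa, -, hpq⟩ := ha a
    obtain ⟨p', q', hqa', hpp', hpq'⟩ := ha p.1
    set M := (g : Matrix (Fin t × Fin m) (Fin t × Fin m) F)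
    have hval : ∀ x y, (M *ᵥ Pi.single y 1) x = M x y := fun x y => by simp [Matrix.mulVec_single_one]
    by_cases h1 : M p' q ≠ 0
    · exact ⟨Pi.single q 1, sup_single hqa _, p, p', hpp'.symm, by rwa [hval], by rwa [hval]⟩
    by_cases h2 : M p q' ≠ 0
    · exact ⟨Pi.single q' 1, sup_single hqa' _, p, p', hpp'.symm, by rwa [hval], by rwa [hval]⟩
    push Not at h1 h2
    refine ⟨Pi.single q 1 - Pi.single q' 1, (sup_single hqa _).sub (sup_single hqa' _), p, p', hpp'.symm, ?_, ?_⟩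
    · rw [Matrix.mulVec_sub, Pi.sub_apply, hval, hval, h2, sub_zero]; exact hpq
    · rw [Matrix.mulVec_sub, Pi.sub_apply, hval, hval, h1, zero_sub, neg_ne_zero]; exact hpq'
  obtain ⟨φ, hφa, hφ0, hφu⟩ : ∃ φ : Fin t × Fin m → F, Sup a φ ∧ φ ≠ 0 ∧ φ ⬝ᵥ u = 0 := by
    set x : Fin t × Fin m := (a, ⟨0, by omega⟩)
    set y : Fin t × Fin m := (a, ⟨1, by omega⟩)
    have hxy : x ≠ y := by simp [x, y, Fin.ext_iff]
    by_cases hux : u x = 0
    · exact ⟨Pi.single x 1, sup_single (by rfl) _, Function.ne_iff.2 ⟨x, by simp⟩, by simp [hux]⟩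
    · refine ⟨u y • Pi.single x 1 - u x • Pi.single y 1, ((sup_single (by rfl) _).smul _).sub ((sup_single (by rfl) _).smul _),
        Function.ne_iff.2 ⟨y, by simp [hxy.symm, hux]⟩, ?_⟩
      rw [sub_dotProduct, smul_dotProduct, smul_dotProduct, single_one_dotProduct, single_one_dotProduct]
      simp [mul_comm]
  have h1 := (block_tv hblk hu hφa hφu).conj hg
  have hφ1 : φ ᵥ* ((g⁻¹ : GL (Fin t × Fin m) F) : Matrix (Fin t × Fin m) (Fin t × Fin m) F) ≠ 0 := fun e => hφ0 (by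
    simpa [Matrix.vecMul_vecMul] using congrArg (fun x => x ᵥ* (g : Matrix (Fin t × Fin m) (Fin t × Fin m) F)) e)
  obtain ⟨r, q, hrq, hroot⟩ := root_of_two hblk hm hn hq h1 hφ1 hpp hp hp'
  have hall := tv_single_all hblk hm hrq hroot
  intro x hx
  haveI : Nontrivial (Fin t × Fin m) := ⟨⟨r, q, fun e => hrq (by rw [e])⟩⟩
  have htop := CfsgLib.Classical.closure_transvection_eq_top
    (X.comap (Matrix.SpecialLinearGroup.toGL (n := Fin t × Fin m) (R := F))) fun i j hij d => by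
      obtain ⟨y, hy, e⟩ := (hall i j hij).2 d
      rw [Subgroup.mem_comap]
      convert hy using 1
      refine Units.ext ?_
      rw [e, single_vecMulVec]
      rfl
  have hdet : (x : Matrix (Fin t × Fin m) (Fin t × Fin m) F).det = 1 := by
    have := congrArg Units.val (MonoidHom.mem_ker.1 hx)
    simpa using this
  let x' : Matrix.SpecialLinearGroup (Fin t × Fin m) F := ⟨(x : Matrix _ _ F), hdet⟩
  have hm' : x' ∈ X.comap (Matrix.SpecialLinearGroup.toGL (n := Fin t × Fin m) (R := F)) :=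
    htop ▸ Subgroup.mem_top _
  convert Subgroup.mem_comap.1 hm' using 1
  exact Units.ext rfl

end CfsgLib.Geo.BlockDecomp
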