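/-
Maximality of the stabiliser of a decomposition into subspaces of equal dimension in the special linear group.
-/
import Cfsg.Agent.Lib.Geo.BlockDecompRoots
import Cfsg.Agent.Lib.Geo.DecompCoords

set_option autoImplicit false

namespace CfsgLib.Geo.BlockDecomp

open Matrix Monomial Module

variable {F : Type*} [Field F]

/-- Matrices in the coordinates of a basis. -/
noncomputable def toCoords {ι κ : Type} [Fintype ι] [DecidableEq ι] [Fintype κ] [DecidableEq κ]
    (b : Basis κ F (ι → F)) : GL ι F ≃* GL κ F :=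
  Units.mapEquiv ((Matrix.toLinAlgEquiv' (R := F) (n := ι)).trans (LinearMap.toMatrixAlgEquiv b)).toMulEquiv

theorem toCoords_apply {ι κ : Type} [Fintype ι] [DecidableEq ι] [Fintype κ] [DecidableEq κ] (b : Basis κ F (ι → F))
    (g : GL ι F) (p q : κ) : ((toCoords b g : GL κ F) : Matrix κ κ F) p q = b.repr ((g : Matrix ι ι F) *ᵥ b q) p := by
  show LinearMap.toMatrixAlgEquiv b (Matrix.toLinAlgEquiv' (g : Matrix ι ι F)) p q = _
  rw [LinearMap.toMatrixAlgEquiv_apply, Matrix.toLinAlgEquiv'_apply]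

theorem toCoords_mem {ι κ : Type} [Fintype ι] [DecidableEq ι] [Fintype κ] [DecidableEq κ] (b : Basis κ F (ι → F))
    (g : GL ι F) : toCoords b g ∈ Cfsg.Geo.specialLinear κ F ↔ g ∈ Cfsg.Geo.specialLinear ι F := by
  have e : ((toCoords b g : GL κ F) : Matrix κ κ F).det = (g : Matrix ι ι F).det := by
    rw [show ((toCoords b g : GL κ F) : Matrix κ κ F) = LinearMap.toMatrix b b (Matrix.toLin' (g : Matrix ι ι F)) from rfl,
      LinearMap.det_toMatrix, LinearMap.det_toLin']
  rw [Cfsg.Geo.specialLinear, Cfsg.Geo.specialLinear, MonoidHom.mem_ker, MonoidHom.mem_ker, Units.ext_iff,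
    Units.ext_iff, Matrix.GeneralLinearGroup.val_det_apply, Matrix.GeneralLinearGroup.val_det_apply, e]

theorem mem_stabilizer_iff {n t m : ℕ} {D : Fin t → Submodule F (Fin n → F)} (hD : Cfsg.Geo.IsMDecomposition m D)
    (b : Basis (Fin t × Fin m) F (Fin n → F))
    (hb : ∀ i v, v ∈ D i ↔ ∀ p : Fin t × Fin m, p.1 ≠ i → b.repr v p = 0) (g : GL (Fin n) F) :
    g ∈ Cfsg.Geo.decompositionStabilizer D ↔ Blk (toCoords b g) := by
  have hmem : ∀ q, b q ∈ D q.1 := fun q => (hb _ _).2 fun p hp => by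
    rw [Basis.repr_self, Finsupp.single_apply, if_neg]
    rintro rfl
    exact hp rfl
  constructor
  · rintro ⟨σ, hσ⟩
    refine ⟨σ, fun p q hpq => ?_⟩
    rw [toCoords_apply]
    refine (hb (σ q.1) _).1 ?_ p hpq
    rw [← hσ]
    exact ⟨b q, hmem q, Matrix.toLin'_apply _ _⟩
  · rintro ⟨σ, hσ⟩
    refine ⟨σ, fun i => Submodule.eq_of_le_of_finrank_eq ?_ ?_⟩
    · rintro _ ⟨v, hv, rfl⟩
      rw [Matrix.toLin'_apply, hb]
      intro p hp
      conv_lhs => rw [← b.sum_repr v, Matrix.mulVec_sum, map_sum, Finsupp.coe_finset_sum, Finset.sum_apply]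
      refine Finset.sum_eq_zero fun q _ => ?_
      rw [Matrix.mulVec_smul, map_smul, Finsupp.smul_apply, smul_eq_mul]
      by_cases hq : q.1 = i
      · rw [← toCoords_apply, hσ p q (by rw [hq]; exact hp), mul_zero]
      · rw [(hb i v).1 hv q hq, zero_mul]
    · rw [← (Submodule.equivMapOfInjective _ (fun x y h => by
        refine Matrix.mulVec_injective_iff_isUnit.2 g.isUnit ?_
        simpa using h) (D i)).finrank_eq, hD.finrank_eq, hD.finrank_eq]

theorem specialLinear_le_of_not_blk [Finite F] {t m : ℕ} (hm : 0 < m) (hn : 6 ≤ t * m) (h1 : m = 1 → 5 ≤ Nat.card F)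
    (h2 : m = 2 → ∃ α : Fˣ, α ≠ 1) {X : Subgroup (GL (Fin t × Fin m) F)}
    (hX : X ≤ Cfsg.Geo.specialLinear (Fin t × Fin m) F)
    (hblk : ∀ x : GL (Fin t × Fin m) F, x ∈ Cfsg.Geo.specialLinear (Fin t × Fin m) F → Blk x → x ∈ X)
    {g : GL (Fin t × Fin m) F} (hg : g ∈ X) (hnb : ¬ Blk g) : Cfsg.Geo.specialLinear (Fin t × Fin m) F ≤ X := by
  by_cases hm1 : m = 1
  · subst hm1
    have hsub : ∀ p q : Fin t × Fin 1, p.1 = q.1 → p = q := fun p q h => Prod.ext h (Subsingleton.elim _ _)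
    haveI : Nonempty (Fin t × Fin 1) := ⟨(⟨0, by omega⟩, 0)⟩
    let blockPerm : Equiv.Perm (Fin t × Fin 1) → Equiv.Perm (Fin t) := fun π =>
      (Equiv.prodUnique (Fin t) (Fin 1)).symm.trans (π.trans (Equiv.prodUnique (Fin t) (Fin 1)))
    have hbp : ∀ π q, blockPerm π q.1 = (π q).1 := fun π q => by
      show (π ((Equiv.prodUnique (Fin t) (Fin 1)).symm q.1)).1 = _
      rw [show (Equiv.prodUnique (Fin t) (Fin 1)).symm q.1 = q from hsub _ _ rfl]
    have hblk' : ∀ (π : Equiv.Perm (Fin t × Fin 1)) (x : GL (Fin t × Fin 1) F),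
        (∀ i j, i ≠ π j → (x : Matrix (Fin t × Fin 1) (Fin t × Fin 1) F) i j = 0) → Blk x := fun π x hx =>
      ⟨blockPerm π, fun p q hpq => hx p q fun e => hpq (by rw [hbp, e])⟩
    refine Monomial.specialLinear_le (h1 rfl) (by rw [Fintype.card_prod, Fintype.card_fin, Fintype.card_fin]; omega)
      (fun d hd => hblk _ (MonoidHom.mem_ker.2 (Units.ext ?_)) (blk_of_diag d)) (fun π => ?_) hX hg
      (fun ⟨π, hπ⟩ => hnb (hblk' π g hπ))
    · rw [Matrix.GeneralLinearGroup.val_det_apply, det_dg, ← Units.coe_prod, hd]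
    · obtain ⟨w, hw, hwπ⟩ := exists_perm (F := F) π
      exact ⟨w, hblk w hw (hblk' π w hwπ), hwπ⟩
  · exact specialLinear_le_two hblk (by omega) (Or.inl hn) h2 hg hnb

theorem maximal [Fintype F] {n : ℕ} (hn : 6 ≤ n) {t m : ℕ} {D : Fin t → Submodule F (Fin n → F)}
    (hD : Cfsg.Geo.IsMDecomposition m D) (h1 : ¬ (m = 1 ∧ Fintype.card F ≤ 4))
    (h2 : ¬ (m = 2 ∧ Fintype.card F = 2)) :
    Cfsg.Geo.IsMaximalIn (Cfsg.Geo.specialLinear (Fin n) F)
      (Cfsg.Geo.decompositionStabilizer D ⊓ Cfsg.Geo.specialLinear (Fin n) F) := by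
  classical
  obtain ⟨b, hb⟩ := exists_adapted_basis hD
  have hcard : n = t * m := by simpa using card_eq_mul hD
  have h2' : m = 2 → ∃ α : Fˣ, α ≠ 1 := fun hm => by
    haveI : Nontrivial Fˣ := Fintype.one_lt_card_iff_nontrivial.1 (by
      rw [Fintype.card_units]
      have := Fintype.one_lt_card (α := F)
      have : Fintype.card F ≠ 2 := fun e => h2 ⟨hm, e⟩
      omega)
    exact exists_ne 1
  have h1' : m = 1 → 5 ≤ Nat.card F := fun hm => by
    rw [Nat.card_eq_fintype_card]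
    by_contra hc
    exact h1 ⟨hm, by omega⟩
  refine ⟨lt_of_le_of_ne inf_le_right fun e => ?_, fun M hHM hMK => ?_⟩
  · -- a transvection joining two blocks
    let p : Fin t × Fin m := (⟨0, by have := hD.two_le; omega⟩, ⟨0, hD.pos⟩)
    let q : Fin t × Fin m := (⟨1, by have := hD.two_le; omega⟩, ⟨0, hD.pos⟩)
    have hpq : p ≠ q := by simp [p, q, Fin.ext_iff]
    have hd : (Pi.single q 1 : Fin t × Fin m → F) ⬝ᵥ Pi.single p 1 = 0 := by simp [hpq.symm]
    set x := (toCoords b).symm (transvectionGL (Pi.single q 1) (Pi.single p 1) hd)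
    have hx : x ∈ Cfsg.Geo.specialLinear (Fin n) F := by
      rw [← toCoords_mem b, MulEquiv.apply_symm_apply]
      exact transvectionGL_mem_specialLinear _ _ _
    rw [← e] at hx
    have := (mem_stabilizer_iff hD b hb x).1 hx.1
    rw [MulEquiv.apply_symm_apply] at this
    obtain ⟨σ, hσ⟩ := this
    have hval : ∀ a c, ((transvectionGL (Pi.single q 1) (Pi.single p 1) hd : GL (Fin t × Fin m) F) :
        Matrix (Fin t × Fin m) (Fin t × Fin m) F) a c =
        (1 : Matrix (Fin t × Fin m) (Fin t × Fin m) F) a c + (Pi.single p 1 : Fin t × Fin m → F) a *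
          (Pi.single q 1 : Fin t × Fin m → F) c := fun a c => rfl
    have hne : p.1 ≠ q.1 := by simp [p, q, Fin.ext_iff]
    by_cases hp : p.1 = σ q.1
    · have := hσ q q (fun e' => hne (hp.trans e'.symm))
      rw [hval] at this
      simp [hpq.symm] at this
    · have := hσ p q hp
      rw [hval] at this
      simp [hpq] at this
  by_cases hM : M ≤ Cfsg.Geo.decompositionStabilizer D
  · exact Or.inl (le_antisymm (le_inf hM hMK) hHM)
  right
  obtain ⟨g, hg, hgD⟩ := SetLike.not_le_iff_exists.1 hM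
  refine le_antisymm hMK fun x hx => ?_
  have hle := specialLinear_le_of_not_blk hD.pos (hcard ▸ hn) h1' h2' (X := M.map (toCoords b).toMonoidHom)
    (by rintro _ ⟨y, hy, rfl⟩; exact (toCoords_mem b y).2 (hMK hy))
    (fun y hy hyB => ⟨(toCoords b).symm y, hHM ⟨(mem_stabilizer_iff hD b hb _).2 (by rwa [MulEquiv.apply_symm_apply]),
      (toCoords_mem b _).1 (by rwa [MulEquiv.apply_symm_apply])⟩, (toCoords b).apply_symm_apply y⟩)
    (Subgroup.mem_map_of_mem _ hg) (fun h => hgD ((mem_stabilizer_iff hD b hb g).2 h))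
  obtain ⟨y, hy, e⟩ := hle ((toCoords_mem b x).2 hx)
  rwa [← (toCoords b).injective e]

end CfsgLib.Geo.BlockDecomp
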