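/-
Complements in subgroup lattices obtained from an interval below a unique maximal overgroup.
-/
import Mathlib

namespace CfsgLib.Geo

/-- A subgroup not contained in M meeting T trivially has a complement, when the interval [T, X] is complemented. -/
theorem exists_complement_of_interval {G : Type*} [Group G] [Finite G] (T X M : Subgroup G) (hTX : T ≤ X)
    (hint : ∀ Y : Subgroup G, T ≤ Y → Y ≤ X → ∃ C : Subgroup G, T ≤ C ∧ C ≤ X ∧ Y ⊔ C = X ∧ Y ⊓ C = T)
    (huniq : ∀ M' : Subgroup G, IsCoatom M' → X ≤ M' → M' = M)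
    (H : Subgroup G) (hH : ¬ H ≤ M) (hHT : H ⊓ T = ⊥) :
    ∃ C : Subgroup G, H ⊔ C = ⊤ ∧ H ⊓ C = ⊥ := by
  obtain ⟨C, hTC, hCX, hsup, hinf⟩ := hint ((H ⊓ X) ⊔ T) le_sup_right (sup_le inf_le_right hTX)
  refine ⟨C, ?_, ?_⟩
  · by_contra hne
    obtain ⟨M', hM', hle⟩ := (eq_top_or_exists_le_coatom (H ⊔ C)).resolve_left hne
    have hXM : X ≤ M' := by
      rw [← hsup]
      exact sup_le (sup_le (inf_le_left.trans (le_sup_left.trans hle)) (hTC.trans (le_sup_right.trans hle)))
        (le_sup_right.trans hle)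
    exact hH (huniq M' hM' hXM ▸ le_sup_left.trans hle)
  · refine le_antisymm ?_ bot_le
    have h1 : H ⊓ C ≤ T := by
      rw [← hinf]
      exact le_inf ((inf_le_inf_left H hCX).trans le_sup_left) inf_le_right
    rw [← hHT]
    exact le_inf inf_le_left h1

/-- The interval hypothesis from a complemented quotient lattice. -/
theorem interval_of_quotient {G : Type*} [Group G] (N X : Subgroup G) (hNX : N ≤ X)
    [(N.subgroupOf X).Normal] (hK : ComplementedLattice (Subgroup (X ⧸ N.subgroupOf X))) :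
    ∀ Y : Subgroup G, N ≤ Y → Y ≤ X → ∃ C : Subgroup G, N ≤ C ∧ C ≤ X ∧ Y ⊔ C = X ∧ Y ⊓ C = N := by
  intro Y hNY hYX
  let π := QuotientGroup.mk' (N.subgroupOf X)
  have hsurj : Function.Surjective π := QuotientGroup.mk'_surjective _
  obtain ⟨D, hD⟩ := hK.exists_isCompl ((Y.subgroupOf X).map π)
  have hYc : ((Y.subgroupOf X).map π).comap π = Y.subgroupOf X := by
    apply Subgroup.comap_map_eq_self
    rw [QuotientGroup.ker_mk']
    exact Subgroup.comap_mono hNY
  have hND : N.subgroupOf X ≤ D.comap π := by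
    intro x hx
    rw [Subgroup.mem_comap, show π x = 1 from (QuotientGroup.eq_one_iff x).2 hx]
    exact D.one_mem
  refine ⟨(D.comap π).map X.subtype, ?_, Subgroup.map_subtype_le _, ?_, ?_⟩
  · have h := Subgroup.map_mono (f := X.subtype) hND
    rwa [Subgroup.subgroupOf_map_subtype, inf_eq_left.2 hNX] at h
  · have h := congrArg (Subgroup.comap π) hD.sup_eq_top
    rw [← Subgroup.comap_sup_eq _ _ _ hsurj, hYc, Subgroup.comap_top] at h
    have h' := congrArg (Subgroup.map X.subtype) h
    rwa [Subgroup.map_sup, Subgroup.subgroupOf_map_subtype, inf_eq_left.2 hYX, ← MonoidHom.range_eq_map,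
      Subgroup.range_subtype] at h'
  · have h := congrArg (Subgroup.comap π) hD.inf_eq_bot
    rw [Subgroup.comap_inf, hYc, MonoidHom.comap_bot, QuotientGroup.ker_mk'] at h
    have h' := congrArg (Subgroup.map X.subtype) h
    rwa [Subgroup.map_inf _ _ _ X.subtype_injective, Subgroup.subgroupOf_map_subtype, inf_eq_left.2 hYX,
      Subgroup.subgroupOf_map_subtype, inf_eq_left.2 hNX] at h'

/-- Complementation is invariant under conjugation. -/
theorem exists_complement_of_conj {G : Type*} [Group G] (H : Subgroup G) (g : G)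
    (h : ∃ C : Subgroup G, H.map (MulAut.conj g).toMonoidHom ⊔ C = ⊤ ∧ H.map (MulAut.conj g).toMonoidHom ⊓ C = ⊥) :
    ∃ C : Subgroup G, H ⊔ C = ⊤ ∧ H ⊓ C = ⊥ := by
  obtain ⟨C, h1, h2⟩ := h
  have e := (MulAut.conj g).mapSubgroup.symm
  refine ⟨(MulAut.conj g).mapSubgroup.symm C, ?_, ?_⟩
  · apply (MulAut.conj g).mapSubgroup.injective
    rw [map_sup, OrderIso.apply_symm_apply, map_top]
    exact h1
  · apply (MulAut.conj g).mapSubgroup.injective
    rw [map_inf, OrderIso.apply_symm_apply, map_bot]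
    exact h2

end CfsgLib.Geo
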