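/-
Involutions modulo scalars stabilise a decomposition of any admissible shape.
-/
import Mathlib
import Cfsg.Prelude.Def_GeometricClasses

namespace CfsgLib.Geo

open Matrix Module

/-- Block pattern: k pairs in a t × a array, σ an involution of the blocks. -/
theorem exists_pair_pattern (t a k : ℕ) (h : 2 * k ≤ t * a) :
    ∃ (ψ : Fin k × Fin 2 → Fin t × Fin a) (σ : Equiv.Perm (Fin t)), Function.Injective ψ ∧ (∀ u, σ (σ u) = u) ∧
      (∀ i, σ (ψ (i, 0)).1 = (ψ (i, 1)).1) ∧ ∀ p, (∀ q, ψ q ≠ p) → σ p.1 = p.1 := by
  set m := a / 2 with hm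
  have ha2 : a = 2 * m + a % 2 := (Nat.div_add_mod a 2).symm
  obtain ⟨j, hj⟩ : ∃ j, j = k - t * m := ⟨_, rfl⟩
  have hta : t * a = 2 * (t * m) + t * (a % 2) := by
    conv_lhs => rw [ha2]
    ring
  have hja : j * a = 2 * (j * m) + j * (a % 2) := by
    conv_lhs => rw [ha2]
    ring
  have hj2 : 2 * j ≤ t := by
    rcases Nat.mod_two_eq_zero_or_one a with h0 | h0 <;> rw [hta, h0] at h <;> omega
  have e : (t - 2 * j) * m + 2 * (j * m) = t * m := by
    rw [← Nat.mul_assoc, ← Nat.add_mul, Nat.sub_add_cancel hj2]
  have hjk : j * a ≤ k := by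
    rcases Nat.mod_two_eq_zero_or_one a with h0 | h0
    · rw [hta, h0] at h
      have : j = 0 := by omega
      simp [this]
    · rw [hja, h0]
      rcases Nat.eq_zero_or_pos j with h1 | h1
      · simp [h1]
      · omega
  have hrest : k - j * a ≤ (t - 2 * j) * m := by
    rcases Nat.mod_two_eq_zero_or_one a with h0 | h0
    · rw [hta, h0] at h
      rw [hja, h0]
      omega
    · rw [hja, h0]
      omega
  let sg : ℕ → ℕ := fun v => if v < 2 * j then (if v % 2 = 0 then v + 1 else v - 1) else v
  have hsg : ∀ v, v < t → sg v < t := fun v hv => by simp only [sg]; split_ifs <;> omega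
  have hsg2 : ∀ v, sg (sg v) = v := fun v => by simp only [sg]; split_ifs <;> omega
  let σ : Equiv.Perm (Fin t) :=
    { toFun := fun v => ⟨sg v.1, hsg v.1 v.2⟩
      invFun := fun v => ⟨sg v.1, hsg v.1 v.2⟩
      left_inv := fun v => Fin.ext (hsg2 v.1)
      right_inv := fun v => Fin.ext (hsg2 v.1) }
  have hin : ∀ i, i < j * a → i / a < j := fun i hi => Nat.div_lt_of_lt_mul (by rwa [mul_comm] at hi)
  have hout : ∀ i, i < k → j * a ≤ i → (i - j * a) / m < t - 2 * j ∧ 0 < m := fun i hi hle => by
    have hm0 : 0 < m := by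
      rcases Nat.eq_zero_or_pos m with h0 | h0
      · rw [h0, mul_zero] at hrest; omega
      · exact h0
    exact ⟨Nat.div_lt_of_lt_mul (by rw [mul_comm m]; omega), hm0⟩
  let blk : ℕ → ℕ → ℕ := fun i s => if i < j * a then 2 * (i / a) + s else 2 * j + (i - j * a) / m
  let off : ℕ → ℕ → ℕ := fun i s => if i < j * a then i % a else 2 * ((i - j * a) % m) + s
  have hblk : ∀ i s, i < k → s < 2 → blk i s < t := fun i s hi hs => by
    simp only [blk]; split_ifs with h1
    · have := hin i h1; omega
    · have := (hout i hi (by omega)).1; omega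
  have hoff : ∀ i s, i < k → s < 2 → off i s < a := fun i s hi hs => by
    simp only [off]; split_ifs with h1
    · have : 0 < a := by
        rcases Nat.eq_zero_or_pos a with h0 | h0
        · rw [h0, mul_zero] at h1; omega
        · exact h0
      exact Nat.mod_lt _ this
    · have := (hout i hi (by omega)).2
      have := Nat.mod_lt (i - j * a) this
      omega
  refine ⟨fun p => (⟨blk p.1.1 p.2.1, hblk _ _ p.1.2 p.2.2⟩, ⟨off p.1.1 p.2.1, hoff _ _ p.1.2 p.2.2⟩), σ, ?_,
    fun u => Fin.ext (hsg2 u.1), fun i => Fin.ext ?_, fun p hp => ?_⟩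
  · rintro ⟨⟨i, hi⟩, ⟨s, hs⟩⟩ ⟨⟨i', hi'⟩, ⟨s', hs'⟩⟩ heq
    simp only [Prod.mk.injEq, Fin.mk.injEq, blk, off] at heq
    obtain ⟨h1, h2⟩ := heq
    simp only [Prod.mk.injEq, Fin.mk.injEq]
    split_ifs at h1 h2 with c1 c2 c2
    · have := hin i c1; have := hin i' c2
      have := Nat.div_add_mod i a; have := Nat.div_add_mod i' a
      have e : i / a = i' / a := by omega
      refine ⟨?_, by omega⟩
      rw [← Nat.div_add_mod i a, ← Nat.div_add_mod i' a, e, h2]
    · have := hin i c1; have := Nat.zero_le ((i' - j * a) / m); omega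
    · have := hin i' c2; have := Nat.zero_le ((i - j * a) / m); omega
    · have := (hout i hi (by omega)).2
      have e : (i - j * a) / m = (i' - j * a) / m := by omega
      have e2 : (i - j * a) % m = (i' - j * a) % m := by omega
      have := Nat.div_add_mod (i - j * a) m; have := Nat.div_add_mod (i' - j * a) m
      refine ⟨?_, by omega⟩
      have : i - j * a = i' - j * a := by
        rw [← Nat.div_add_mod (i - j * a) m, ← Nat.div_add_mod (i' - j * a) m, e, e2]
      omega
  · show sg (blk i.1 0) = blk i.1 1
    simp only [sg, blk]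
    by_cases h1 : i.1 < j * a
    · have := hin i.1 h1
      simp only [if_pos h1]
      split_ifs <;> omega
    · simp only [if_neg h1]
      generalize (i.1 - j * a) / m = d
      split_ifs <;> omega
  · refine Fin.ext ?_
    show sg p.1.1 = p.1.1
    simp only [sg]
    rw [if_neg]
    intro hlt
    obtain ⟨⟨b, hb⟩, ⟨o, ho⟩⟩ := p
    simp only at hlt
    have h1 : (b / 2 + 1) * a ≤ j * a := Nat.mul_le_mul_right a (by omega)
    rw [Nat.add_mul, one_mul] at h1
    have hi : b / 2 * a + o < k := by omega
    refine hp (⟨b / 2 * a + o, hi⟩, ⟨b % 2, Nat.mod_lt _ two_pos⟩) ?_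
    have hlt' : b / 2 * a + o < j * a := by omega
    have ha0 : 0 < a := by omega
    simp only [blk, off, if_pos hlt', Prod.mk.injEq, Fin.mk.injEq]
    rw [mul_comm (b / 2) a, Nat.mul_add_div ha0, Nat.mul_add_mod, Nat.div_eq_of_lt ho, Nat.mod_eq_of_lt ho]
    omega

/-- A basis in which a linear map permutes lines with prescribed pairs yields a stable decomposition. -/
theorem exists_stable_decomposition {F V : Type*} [Field F] [AddCommGroup V] [Module F V] {k r t a : ℕ}
    (T : V →ₗ[F] V) (hT : Function.Injective T) (b : Basis ((Fin k × Fin 2) ⊕ Fin r) F V)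
    (hb0 : ∀ i, ∃ c : F, T (b (Sum.inl (i, 0))) = c • b (Sum.inl (i, 1)))
    (hb1 : ∀ i, ∃ c : F, T (b (Sum.inl (i, 1))) = c • b (Sum.inl (i, 0)))
    (hbr : ∀ i, ∃ c : F, T (b (Sum.inr i)) = c • b (Sum.inr i))
    (hn : k * 2 + r = t * a) (ht : 2 ≤ t) (ha : 0 < a) :
    ∃ D : Fin t → Submodule F V, (∀ i, finrank F (D i) = a) ∧ iSupIndep D ∧ iSup D = ⊤ ∧
      ∃ σ : Equiv.Perm (Fin t), ∀ i, (D i).map T = D (σ i) := by
  classical
  obtain ⟨ψ, σ, hψ, hσσ, hσ, hσfix⟩ := exists_pair_pattern t a k (by omega)
  have hcompl : Nat.card {p : Fin t × Fin a // ¬ p ∈ Set.range ψ} = r := by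
    rw [Nat.card_eq_fintype_card, Fintype.card_subtype_compl, Set.card_range_of_injective hψ]
    simp only [Fintype.card_prod, Fintype.card_fin]
    omega
  let er : Fin r ≃ {p : Fin t × Fin a // ¬ p ∈ Set.range ψ} := (Finite.equivFinOfCardEq hcompl).symm
  let φ : (Fin k × Fin 2) ⊕ Fin r ≃ Fin t × Fin a :=
    ((Equiv.ofInjective ψ hψ).sumCongr er).trans (Equiv.sumCompl (· ∈ Set.range ψ))
  let c := b.reindex φ
  let D : Fin t → Submodule F V := fun i => Submodule.span F (Set.range fun j => c (i, j))
  have hrank : ∀ i, finrank F (D i) = a := fun i =>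
    (finrank_span_eq_card (c.linearIndependent.comp (fun j => (i, j)) (fun x y h => congrArg Prod.snd h))).trans
      (Fintype.card_fin a)
  have hset : ∀ S : Set (Fin t), ⨆ i ∈ S, D i ≤ Submodule.span F (c '' {p | p.1 ∈ S}) := fun S =>
    iSup₂_le fun i hi => Submodule.span_mono (by rintro _ ⟨j, rfl⟩; exact ⟨(i, j), hi, rfl⟩)
  have hindep : iSupIndep D := by
    intro i
    refine Disjoint.mono (Submodule.span_mono ?_) (hset {k | k ≠ i})
      (c.linearIndependent.disjoint_span_image (s := {p | p.1 = i}) (t := {p | p.1 ∈ {k | k ≠ i}}) ?_)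
    · rintro _ ⟨j, rfl⟩
      exact ⟨(i, j), rfl, rfl⟩
    · rw [Set.disjoint_left]
      intro p hp hp'
      exact hp' hp
  have htop : iSup D = ⊤ := by
    rw [eq_top_iff, ← c.span_eq, Submodule.span_le]
    rintro _ ⟨p, rfl⟩
    exact le_iSup D p.1 (Submodule.subset_span ⟨p.2, rfl⟩)
  refine ⟨D, hrank, hindep, htop, σ, ?_⟩
  have key : ∀ q, ∃ (q' : (Fin k × Fin 2) ⊕ Fin r) (x : F), (φ q').1 = σ (φ q).1 ∧ T (b q) = x • b q' := by
    rintro (⟨i, s⟩ | i)
    · fin_cases s
      · obtain ⟨x, hx⟩ := hb0 i
        exact ⟨Sum.inl (i, 1), x, (hσ i).symm, hx⟩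
      · obtain ⟨x, hx⟩ := hb1 i
        refine ⟨Sum.inl (i, 0), x, ?_, hx⟩
        show (ψ (i, 0)).1 = σ (ψ (i, 1)).1
        rw [← hσ i, hσσ]
    · obtain ⟨x, hx⟩ := hbr i
      refine ⟨Sum.inr i, x, ?_, hx⟩
      show (er i).1.1 = σ (er i).1.1
      rw [hσfix _ (fun q hq => (er i).2 ⟨q, hq⟩)]
  have hle : ∀ i, (D i).map T ≤ D (σ i) := by
    intro i
    rw [Submodule.map_span_le]
    rintro _ ⟨j, rfl⟩
    obtain ⟨q', x, h1, h2⟩ := key (φ.symm (i, j))
    rw [Equiv.apply_symm_apply] at h1
    show T (c (i, j)) ∈ D (σ i)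
    rw [Basis.reindex_apply, h2]
    refine Submodule.smul_mem _ _ (Submodule.subset_span ⟨(φ q').2, ?_⟩)
    show c (σ i, (φ q').2) = b q'
    rw [Basis.reindex_apply, ← h1, show ((φ q').1, (φ q').2) = φ q' from rfl, Equiv.symm_apply_apply]
  intro i
  haveI : FiniteDimensional F V := Module.Finite.of_basis b
  refine Submodule.eq_of_le_of_finrank_eq (hle i) ?_
  rw [LinearEquiv.finrank_eq (Submodule.equivMapOfInjective T hT (D i)).symm, hrank, hrank]

/-- A map with scalar square is monomial in some basis, the permutation being an involution. -/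
theorem exists_pair_basis {F V : Type*} [Field F] [Finite F] [AddCommGroup V] [Module F V] [FiniteDimensional F V]
    (T : V →ₗ[F] V) (z : F) (hz : z ≠ 0) (hT : ∀ v, T (T v) = z • v) :
    ∃ (k r : ℕ) (b : Basis ((Fin k × Fin 2) ⊕ Fin r) F V), (∀ i, ∃ c : F, T (b (Sum.inl (i, 0))) = c • b (Sum.inl (i, 1))) ∧
      (∀ i, ∃ c : F, T (b (Sum.inl (i, 1))) = c • b (Sum.inl (i, 0))) ∧
      ∀ i, ∃ c : F, T (b (Sum.inr i)) = c • b (Sum.inr i) := by
  classical
  by_cases hsq : ∃ c : F, c ^ 2 = z
  · obtain ⟨c, hc⟩ := hsq
    have hc0 : c ≠ 0 := by rintro rfl; exact hz (by rw [← hc]; ring)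
    by_cases h2 : (2 : F) = 0
    · -- characteristic two
      let N : V →ₗ[F] V := c⁻¹ • T - LinearMap.id
      have hNT : ∀ v, T v = c • (v + N v) := fun v => by
        simp [N, smul_smul, hc0]
      have hNN : ∀ v, N (N v) = 0 := fun v => by
        simp only [N, LinearMap.sub_apply, LinearMap.smul_apply, LinearMap.id_apply, map_sub, map_smul, hT, ← hc]
        match_scalars <;> field_simp <;> first | linear_combination h2 | linear_combination -h2 | linear_combination (-2 : F) * h2 | linear_combination (2 : F) * h2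
      obtain ⟨W, hW⟩ := exists_isCompl (LinearMap.ker N)
      obtain ⟨R, hR⟩ := exists_isCompl ((W.map N).comap (LinearMap.ker N).subtype)
      have hNW : ∀ v, v ∈ W → N v = 0 → v = 0 := fun v hv h0 =>
        Submodule.disjoint_def.1 hW.disjoint v h0 hv
      let bw := Module.finBasis F W
      let br := Module.finBasis F R
      let v : (Fin (finrank F W) × Fin 2) ⊕ Fin (finrank F R) → V :=
        Sum.elim (fun p => if p.2 = 0 then (bw p.1 : V) else (bw p.1 : V) + N (bw p.1)) (fun i => ((br i : LinearMap.ker N) : V))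
      have hli : LinearIndependent F v := by
        rw [Fintype.linearIndependent_iff]
        intro g hg
        set α := fun i => g (Sum.inl (i, 0))
        set β := fun i => g (Sum.inl (i, 1))
        set γ := fun i => g (Sum.inr i)
        set A : W := ∑ i, α i • bw i with hA
        set B : W := ∑ i, β i • bw i with hB
        set R' : R := ∑ i, γ i • br i with hR'
        have hsum : (A : V) + ((B : V) + N B) + ((R' : LinearMap.ker N) : V) = 0 := by
          rw [← hg, Fintype.sum_sum_type, Fintype.sum_prod_type]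
          simp only [v, hA, hB, hR', Fin.sum_univ_two, Sum.elim_inl, Sum.elim_inr, Submodule.coe_sum, Submodule.coe_smul,
            map_sum, map_smul, ← Finset.sum_add_distrib, smul_add, if_pos, Fin.one_eq_zero_iff, if_false, α, β, γ]
          simp
        have hR0 : N ((R' : LinearMap.ker N) : V) = 0 := (R' : LinearMap.ker N).2
        have h1 := congrArg N hsum
        rw [map_add, map_add, map_add, hNN, hR0, map_zero, add_zero, add_zero, ← map_add] at h1
        have hAB : (A : V) + B = 0 := hNW _ (W.add_mem A.2 B.2) h1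
        have h3 : N (B : V) + ((R' : LinearMap.ker N) : V) = 0 := by
          rw [← hsum, ← add_assoc (A : V), hAB, zero_add]
        have hR'0 : R' = 0 := by
          have hmem : (R' : LinearMap.ker N) ∈ (W.map N).comap (LinearMap.ker N).subtype := by
            refine ⟨-(B : V), W.neg_mem B.2, ?_⟩
            rw [map_neg]
            exact neg_eq_of_add_eq_zero_right h3
          exact Subtype.ext (Submodule.disjoint_def.1 hR.disjoint _ hmem R'.2)
        rw [hR'0, ZeroMemClass.coe_zero, ZeroMemClass.coe_zero, add_zero] at h3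
        have hB0 : B = 0 := Subtype.ext (hNW _ B.2 h3)
        have hA0 : A = 0 := by
          rw [hB0, ZeroMemClass.coe_zero, add_zero] at hAB
          exact Subtype.ext hAB
        rintro (⟨i, s⟩ | i)
        · fin_cases s
          · exact Fintype.linearIndependent_iff.1 bw.linearIndependent α hA0 i
          · exact Fintype.linearIndependent_iff.1 bw.linearIndependent β hB0 i
        · exact Fintype.linearIndependent_iff.1 br.linearIndependent γ hR'0 i
      have hcard : Fintype.card ((Fin (finrank F W) × Fin 2) ⊕ Fin (finrank F R)) = finrank F V := by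
        have e1 := Submodule.finrank_add_eq_of_isCompl hW
        have e2 := Submodule.finrank_add_eq_of_isCompl hR
        have e3 : finrank F ((W.map N).comap (LinearMap.ker N).subtype) = finrank F W := by
          have hle : W.map N ≤ LinearMap.ker N := by rintro _ ⟨x, -, rfl⟩; exact hNN x
          rw [(Submodule.comapSubtypeEquivOfLe hle).finrank_eq, ← LinearMap.range_domRestrict]
          refine LinearMap.finrank_range_of_inj ?_
          rw [injective_iff_map_eq_zero]
          exact fun x hx => Subtype.ext (hNW _ x.2 hx)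
        simp only [Fintype.card_sum, Fintype.card_prod, Fintype.card_fin]
        omega
      let b := Basis.mk hli (hli.span_eq_top_of_card_eq_finrank' hcard).ge
      refine ⟨_, _, b, fun i => ⟨c, ?_⟩, fun i => ⟨c, ?_⟩, fun i => ⟨c, ?_⟩⟩
      · simp [b, v, hNT]
      · have e : ∀ y, y + N y = c⁻¹ • T y := fun y => by rw [hNT y, smul_smul, inv_mul_cancel₀ hc0, one_smul]
        simp [b, v, e, hT, smul_smul, ← hc, pow_two, hc0]
      · have : N (v (Sum.inr i)) = 0 := (br i).1.2
        simp only [b, Basis.mk_apply, hNT, this, add_zero]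
    · -- two eigenspaces
      have hcompl : IsCompl (End.eigenspace T c) (End.eigenspace T (-c)) := by
        constructor
        · rw [Submodule.disjoint_def]
          intro x hx hx'
          rw [End.mem_eigenspace_iff] at hx hx'
          have h0 : (2 * c) • x = 0 := by
            rw [two_mul, add_smul]
            nth_rewrite 1 [← hx]
            rw [hx', neg_smul, neg_add_cancel]
          exact (smul_eq_zero.1 h0).resolve_left (mul_ne_zero h2 hc0)
        · rw [codisjoint_iff, eq_top_iff]
          intro x _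
          have hx : x = (2 * c)⁻¹ • (c • x + T x) + (2 * c)⁻¹ • (c • x - T x) := by
            match_scalars <;> field_simp <;> ring
          rw [hx]
          refine Submodule.add_mem_sup (Submodule.smul_mem _ _ ?_) (Submodule.smul_mem _ _ ?_)
          · rw [End.mem_eigenspace_iff, map_add, map_smul, hT, ← hc]
            match_scalars <;> ring
          · rw [End.mem_eigenspace_iff, map_sub, map_smul, hT, ← hc]
            match_scalars <;> ring
      let b : Basis (Fin (finrank F (End.eigenspace T c)) ⊕ Fin (finrank F (End.eigenspace T (-c)))) F V :=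
        ((Module.finBasis F _).prod (Module.finBasis F _)).map (Submodule.prodEquivOfIsCompl _ _ hcompl)
      let e : Fin (finrank F (End.eigenspace T c)) ⊕ Fin (finrank F (End.eigenspace T (-c))) ≃
          (Fin 0 × Fin 2) ⊕ Fin (finrank F (End.eigenspace T c) + finrank F (End.eigenspace T (-c))) :=
        finSumFinEquiv.trans (Equiv.emptySum _ _).symm
      refine ⟨0, _, b.reindex e, fun i => Fin.elim0 i, fun i => Fin.elim0 i, fun i => ?_⟩
      simp only [Basis.reindex_apply]
      generalize e.symm (Sum.inr i) = q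
      rcases q with q | q
      · refine ⟨c, End.mem_eigenspace_iff.1 ?_⟩
        simp [b]
      · refine ⟨-c, End.mem_eigenspace_iff.1 ?_⟩
        simp [b]
  · -- no eigenvalues
    push Not at hsq
    let P : ℕ → Prop := fun j => ∃ w : Fin j → V, LinearIndependent F (fun p : Fin j × Fin 2 => if p.2 = 0 then w p.1 else T (w p.1))
    have hbound : ∀ j, P j → j ≤ finrank F V := by
      rintro j ⟨w, hw⟩
      have := hw.fintype_card_le_finrank
      simp at this
      omega
    have hP0 : P 0 := ⟨Fin.elim0, linearIndependent_empty_type⟩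
    have hPj : P (Nat.findGreatest P (finrank F V)) := Nat.findGreatest_spec (Nat.zero_le _) hP0
    set j := Nat.findGreatest P (finrank F V) with hj
    obtain ⟨w, hw⟩ := hPj
    set v := fun p : Fin j × Fin 2 => if p.2 = 0 then w p.1 else T (w p.1) with hv
    have hspan : Submodule.span F (Set.range v) = ⊤ := by
      by_contra hne
      obtain ⟨u, -, hu⟩ := SetLike.exists_of_lt (lt_top_iff_ne_top.2 hne)
      set S := Submodule.span F (Set.range v) with hS
      have hinv : ∀ y ∈ S, T y ∈ S := by
        intro y hy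
        induction hy using Submodule.span_induction with
        | mem y hy =>
          obtain ⟨⟨i, s⟩, rfl⟩ := hy
          fin_cases s
          · exact Submodule.subset_span ⟨(i, 1), by simp [hv]⟩
          · show T (v (i, 1)) ∈ S
            rw [show T (v (i, 1)) = z • v (i, 0) by simp [hv, hT]]
            exact Submodule.smul_mem _ _ (Submodule.subset_span ⟨(i, 0), rfl⟩)
        | zero => simp
        | add x y _ _ hx hy => rw [map_add]; exact S.add_mem hx hy
        | smul a x _ hx => rw [map_smul]; exact S.smul_mem _ hx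
      have hindep : ∀ α β : F, α • u + β • T u ∈ S → α = 0 ∧ β = 0 := by
        intro α β hmem
        by_cases hβ : β = 0
        · subst hβ
          rw [zero_smul, add_zero] at hmem
          by_contra hα
          exact hu ((S.smul_mem_iff (fun h => hα ⟨h, rfl⟩)).1 hmem)
        · exfalso
          have h1 := hinv _ hmem
          rw [map_add, map_smul, map_smul, hT] at h1
          have h3 := S.sub_mem (S.smul_mem α hmem) (S.smul_mem β h1)
          have e : α • (α • u + β • T u) - β • (α • T u + β • z • u) = (α ^ 2 - β ^ 2 * z) • u := by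
            match_scalars <;> ring
          rw [e] at h3
          refine hu ((S.smul_mem_iff fun h => hsq (α / β) ?_).1 h3)
          field_simp
          linear_combination h
      have hP : P (j + 1) := by
        refine ⟨Fin.snoc w u, ?_⟩
        rw [Fintype.linearIndependent_iff]
        intro g hg
        rw [Fintype.sum_prod_type, Fin.sum_univ_castSucc] at hg
        simp only [Fin.snoc_castSucc, Fin.snoc_last, Fin.sum_univ_two, if_pos, Fin.one_eq_zero_iff, if_false] at hg
        have hold : ∑ i : Fin j, ∑ s : Fin 2, g (i.castSucc, s) • v (i, s) ∈ S :=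
          Submodule.sum_mem _ fun i _ => Submodule.sum_mem _ fun s _ => S.smul_mem _ (Submodule.subset_span ⟨_, rfl⟩)
        have hnew : g (Fin.last j, 0) • u + g (Fin.last j, 1) • T u ∈ S := by
          have : g (Fin.last j, 0) • u + g (Fin.last j, 1) • T u =
              -(∑ i : Fin j, ∑ s : Fin 2, g (i.castSucc, s) • v (i, s)) := by
            simp [hv, Fin.sum_univ_two] at hg ⊢
            linear_combination (norm := module) hg
          rw [this]
          exact S.neg_mem hold
        obtain ⟨ha, hb⟩ := hindep _ _ hnew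
        have h0 : ∀ p : Fin j × Fin 2, g (p.1.castSucc, p.2) = 0 := by
          refine Fintype.linearIndependent_iff.1 hw (fun p => g (p.1.castSucc, p.2)) ?_
          rw [Fintype.sum_prod_type]
          simp [ha, hb, Fin.sum_univ_two] at hg
          simpa [hv, Fin.sum_univ_two] using hg
        rintro ⟨i, s⟩
        refine Fin.lastCases ?_ (fun i => h0 (i, s)) i
        fin_cases s
        · exact ha
        · exact hb
      have := Nat.le_findGreatest (hbound _ hP) hP
      omega
    let b : Basis (Fin j × Fin 2) F V := Basis.mk hw hspan.ge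
    refine ⟨j, 0, b.reindex (Equiv.sumEmpty (Fin j × Fin 2) (Fin 0)).symm, fun i => ⟨1, ?_⟩, fun i => ⟨z, ?_⟩,
      fun i => Fin.elim0 i⟩
    · simp [b, hv]
    · simp [b, hv, hT]

end CfsgLib.Geo
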