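/-
Invariant subspaces of linear maps of prime order (modulo scalars) over finite fields.
-/
import Mathlib

namespace CfsgLib.Geo.PrimeAct

open Module Polynomial

variable {F : Type*} [Field F] [Finite F] {V : Type*} [AddCommGroup V] [Module F V] [FiniteDimensional F V]
variable {r : ℕ} [Fact r.Prime]

omit [Finite F] [FiniteDimensional F V] in
theorem restrict_pow_apply (f : V →ₗ[F] V) {W : Submodule F V} (hW : ∀ v ∈ W, f v ∈ W) (k : ℕ) (w : W) :
    (((f.restrict hW) ^ k) w : V) = (f ^ k) (w : V) := by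
  induction k with
  | zero => rfl
  | succ k ih =>
    rw [pow_succ', pow_succ', Module.End.mul_apply, Module.End.mul_apply, ← ih]
    rfl

omit [Finite F] [FiniteDimensional F V] [Fact r.Prime] in
theorem restrict_pow_eq_one (f : V →ₗ[F] V) (hr : f ^ r = 1) {W : Submodule F V} (hW : ∀ v ∈ W, f v ∈ W) :
    (f.restrict hW) ^ r = 1 := by
  refine LinearMap.ext fun w => Subtype.ext ?_
  rw [restrict_pow_apply, hr]
  rfl

/-- A map of order `r` without fixed points forces `q ^ dim = 1` modulo `r`. -/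
theorem pow_finrank_eq_one (f : V →ₗ[F] V) (hr : f ^ r = 1) (hfree : ∀ v, f v = v → v = 0) :
    (Nat.card F : ZMod r) ^ finrank F V = 1 := by
  classical
  haveI : Finite V := Module.finite_of_finite F
  haveI := Fintype.ofFinite V
  have hr1 : r - 1 + 1 = r := Nat.sub_add_cancel (Fact.out : r.Prime).one_le
  let σ : Equiv.Perm V :=
    { toFun := f
      invFun := ⇑(f ^ (r - 1))
      left_inv := fun v => by rw [← Module.End.mul_apply, ← pow_succ, hr1, hr]; rfl
      right_inv := fun v => by rw [← Module.End.mul_apply, ← pow_succ', hr1, hr]; rfl }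
  have hk : ∀ (k : ℕ) (v : V), (σ ^ k) v = (f ^ k) v := fun k => by
    induction k with
    | zero => exact fun _ => rfl
    | succ k ih => intro v; rw [pow_succ', pow_succ', Equiv.Perm.mul_apply, Module.End.mul_apply, ih]; rfl
  have hσ : σ ^ r ^ 1 = 1 := Equiv.ext fun v => by rw [pow_one, hk, hr]; rfl
  have h := Equiv.Perm.card_compl_support_modEq hσ
  have hc : σ.supportᶜ = {0} := by
    ext v
    rw [Finset.mem_compl, Equiv.Perm.notMem_support, Finset.mem_singleton]
    exact ⟨hfree v, fun hv => by subst hv; exact map_zero f⟩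
  rw [hc, Finset.card_singleton, ← Nat.card_eq_fintype_card, Module.natCard_eq_pow_finrank (K := F)] at h
  rw [← Nat.cast_pow, ← Nat.cast_one]
  exact ((ZMod.natCast_eq_natCast_iff _ _ _).2 h).symm

theorem orderOf_dvd_finrank (f : V →ₗ[F] V) (hr : f ^ r = 1) (hfree : ∀ v, f v = v → v = 0) :
    orderOf (Nat.card F : ZMod r) ∣ finrank F V :=
  orderOf_dvd_of_pow_eq_one (pow_finrank_eq_one f hr hfree)

/-- The fixed space. -/
def fixSp (f : V →ₗ[F] V) : Submodule F V := LinearMap.ker (f - 1)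

omit [Finite F] [FiniteDimensional F V] in
theorem mem_fixSp {f : V →ₗ[F] V} {v : V} : v ∈ fixSp f ↔ f v = v := by
  rw [fixSp, LinearMap.mem_ker, LinearMap.sub_apply, sub_eq_zero]; rfl

/-- The sum of the powers. -/
def orbitSum (r : ℕ) (f : V →ₗ[F] V) : V →ₗ[F] V := ∑ j ∈ Finset.range r, f ^ j

/-- The complement of the fixed space. -/
def restSp (r : ℕ) (f : V →ₗ[F] V) : Submodule F V := LinearMap.ker (orbitSum r f)

omit [Finite F] [FiniteDimensional F V] [Fact r.Prime] in
theorem pow_apply_fixed {f : V →ₗ[F] V} {v : V} (hv : f v = v) (k : ℕ) : (f ^ k) v = v := by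
  induction k with
  | zero => rfl
  | succ k ih => rw [pow_succ, Module.End.mul_apply, hv, ih]

omit [Finite F] [FiniteDimensional F V] [Fact r.Prime] in
theorem orbitSum_fixed {f : V →ₗ[F] V} {v : V} (hv : f v = v) : orbitSum r f v = (r : F) • v := by
  simp [orbitSum, LinearMap.sum_apply, pow_apply_fixed hv, Nat.cast_smul_eq_nsmul]

omit [Finite F] [FiniteDimensional F V] [Fact r.Prime] in
theorem apply_orbitSum {f : V →ₗ[F] V} (hr : f ^ r = 1) (v : V) : f (orbitSum r f v) = orbitSum r f v := by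
  have h := mul_geom_sum f r
  rw [hr, sub_self] at h
  have h2 := congrArg (fun g : V →ₗ[F] V => g v) h
  simpa [orbitSum, Module.End.mul_apply, sub_eq_zero] using h2

omit [Finite F] [FiniteDimensional F V] [Fact r.Prime] in
theorem orbitSum_apply {f : V →ₗ[F] V} (hr : f ^ r = 1) (v : V) : orbitSum r f (f v) = orbitSum r f v := by
  have h := geom_sum_mul f r
  rw [hr, sub_self] at h
  have h2 := congrArg (fun g : V →ₗ[F] V => g v) h
  simpa [orbitSum, Module.End.mul_apply, sub_eq_zero] using h2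

omit [Finite F] [FiniteDimensional F V] [Fact r.Prime] in
theorem disjoint_fix_rest {f : V →ₗ[F] V} (hrF : (r : F) ≠ 0) : fixSp f ⊓ restSp r f = ⊥ := by
  rw [eq_bot_iff]
  rintro v ⟨hv, hv'⟩
  have h : orbitSum r f v = 0 := hv'
  rw [orbitSum_fixed (mem_fixSp.1 hv)] at h
  exact (Submodule.mem_bot F).2 ((smul_eq_zero.1 h).resolve_left hrF)

omit [Finite F] [FiniteDimensional F V] [Fact r.Prime] in
theorem restSp_invariant {f : V →ₗ[F] V} (hr : f ^ r = 1) : ∀ v ∈ restSp r f, f v ∈ restSp r f := fun v hv => by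
  show orbitSum r f (f v) = 0
  rw [orbitSum_apply hr]; exact hv

omit [Finite F] [FiniteDimensional F V] [Fact r.Prime] in
theorem free_of_le_rest {f : V →ₗ[F] V} (hrF : (r : F) ≠ 0) {v : V} (hv : v ∈ restSp r f) (h : f v = v) : v = 0 := by
  have h2 : v ∈ fixSp f ⊓ restSp r f := ⟨mem_fixSp.2 h, hv⟩
  rwa [disjoint_fix_rest hrF, Submodule.mem_bot] at h2

omit [Finite F] [Fact r.Prime] in
theorem finrank_split {f : V →ₗ[F] V} (hr : f ^ r = 1) (hrF : (r : F) ≠ 0) (W : Submodule F V)
    (hW : ∀ v ∈ W, f v ∈ W) :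
    finrank F ↥(W ⊓ fixSp f) + finrank F ↥(W ⊓ restSp r f) = finrank F W := by
  rw [← Submodule.finrank_sup_add_finrank_inf_eq (W ⊓ fixSp f) (W ⊓ restSp r f)]
  have h1 : (W ⊓ fixSp f) ⊓ (W ⊓ restSp r f) = ⊥ :=
    le_bot_iff.1 ((inf_le_inf inf_le_right inf_le_right).trans (disjoint_fix_rest hrF).le)
  have hmem : ∀ (k : ℕ), ∀ v ∈ W, (f ^ k) v ∈ W := fun k => by
    induction k with
    | zero => exact fun v hv => hv
    | succ k ih => intro v hv; rw [pow_succ', Module.End.mul_apply]; exact hW _ (ih v hv)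
  have h2 : (W ⊓ fixSp f) ⊔ (W ⊓ restSp r f) = W := by
    refine le_antisymm (sup_le inf_le_left inf_le_left) fun v hv => ?_
    have hs : orbitSum r f v ∈ W := by
      rw [orbitSum, LinearMap.sum_apply]
      exact W.sum_mem fun j _ => hmem j v hv
    refine Submodule.mem_sup.2 ⟨(r : F)⁻¹ • orbitSum r f v, ⟨W.smul_mem _ hs, mem_fixSp.2 ?_⟩,
      v - (r : F)⁻¹ • orbitSum r f v, ⟨W.sub_mem hv (W.smul_mem _ hs), ?_⟩, add_sub_cancel _ _⟩
    · rw [map_smul, apply_orbitSum hr]
    · show orbitSum r f _ = 0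
      rw [map_sub, map_smul, orbitSum_fixed (apply_orbitSum hr v), inv_smul_smul₀ hrF, sub_self]
  rw [h1, h2, finrank_bot, add_zero]

theorem orderOf_dvd_finrank_inf_rest {f : V →ₗ[F] V} (hr : f ^ r = 1) (hrF : (r : F) ≠ 0) (W : Submodule F V)
    (hW : ∀ v ∈ W, f v ∈ W) :
    orderOf (Nat.card F : ZMod r) ∣ finrank F (W ⊓ restSp r f : Submodule F V) := by
  have hinv : ∀ v ∈ W ⊓ restSp r f, f v ∈ W ⊓ restSp r f := fun v hv => ⟨hW v hv.1, restSp_invariant hr v hv.2⟩
  refine orderOf_dvd_finrank (f.restrict hinv) (restrict_pow_eq_one f hr hinv) fun v hv => Subtype.ext ?_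
  exact free_of_le_rest hrF v.2.2 (congrArg Subtype.val hv)

theorem finrank_invariant {f : V →ₗ[F] V} (hr : f ^ r = 1) (hrF : (r : F) ≠ 0) (W : Submodule F V)
    (hW : ∀ v ∈ W, f v ∈ W) :
    ∃ a b, a ≤ finrank F (fixSp f) ∧ finrank F W = a + b * orderOf (Nat.card F : ZMod r) := by
  obtain ⟨b, hb⟩ := orderOf_dvd_finrank_inf_rest hr hrF W hW
  exact ⟨finrank F (W ⊓ fixSp f : Submodule F V), b, Submodule.finrank_mono inf_le_right,
    by rw [← finrank_split hr hrF W hW, hb, mul_comm]⟩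

omit [Fact r.Prime] in
theorem natDegree_le {g : F[X]} (hg : Irreducible g) {i : ℕ} (hi : 0 < i) (h : g ∣ X ^ r - 1) (hqi : r ∣ Nat.card F ^ i - 1) :
    g.natDegree ≤ i := by
  classical
  haveI := Fact.mk hg
  haveI := Fintype.ofFinite F
  haveI : Module.Finite F (AdjoinRoot g) := (AdjoinRoot.powerBasis hg.ne_zero).finite
  haveI : Finite (AdjoinRoot g) := Module.finite_of_finite F
  haveI := Fintype.ofFinite (AdjoinRoot g)
  have hα : AdjoinRoot.root g ^ r = 1 := by
    obtain ⟨k, hk⟩ := h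
    have h0 : AdjoinRoot.mk g (X ^ r - 1) = 0 := by rw [hk, map_mul, AdjoinRoot.mk_self, zero_mul]
    rwa [map_sub, map_pow, AdjoinRoot.mk_X, map_one, sub_eq_zero] at h0
  have hq1 : 1 < Fintype.card F := Fintype.one_lt_card
  have hpos : 1 ≤ Nat.card F ^ i := Nat.one_le_pow _ _ (Nat.card_pos)
  have hfix : AdjoinRoot.root g ^ (Nat.card F ^ i) = AdjoinRoot.root g := by
    obtain ⟨k, hk⟩ := hqi
    rw [show Nat.card F ^ i = r * k + 1 by omega, pow_succ, pow_mul, hα, one_pow, one_mul]
  let φ := FiniteField.frobeniusAlgHom F (AdjoinRoot g)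
  have hφ : ∀ (k : ℕ) z, (φ ^ k) z = z ^ (Fintype.card F ^ k) := fun k => by
    induction k with
    | zero => intro z; simp
    | succ k ih =>
      intro z
      rw [pow_succ', AlgHom.mul_apply, ih, pow_succ, pow_mul]
      rfl
  have hid : φ ^ i = AlgHom.id F (AdjoinRoot g) := by
    refine AdjoinRoot.algHom_ext ?_
    rw [hφ, AlgHom.id_apply, ← Nat.card_eq_fintype_card, hfix]
  have hcard : Fintype.card (AdjoinRoot g) ≤ Fintype.card F ^ i := by
    have hne : (X ^ (Fintype.card F ^ i) - X : (AdjoinRoot g)[X]) ≠ 0 :=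
      FiniteField.X_pow_card_sub_X_ne_zero _ (Nat.one_lt_pow hi.ne' hq1)
    rw [← FiniteField.X_pow_card_sub_X_natDegree_eq (AdjoinRoot g) (Nat.one_lt_pow hi.ne' hq1), ← Finset.card_univ]
    refine Polynomial.card_le_degree_of_subset_roots fun z _ => ?_
    rw [Polynomial.mem_roots hne]
    simp only [Polynomial.IsRoot.def, eval_sub, eval_pow, eval_X, ← hφ, hid, AlgHom.id_apply, sub_self]
  rw [Module.card_eq_pow_finrank (K := F), (AdjoinRoot.powerBasis hg.ne_zero).finrank,
    AdjoinRoot.powerBasis_dim] at hcard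
  exact (Nat.pow_le_pow_iff_right hq1).1 hcard

theorem orderOf_pos_of_free (f : V →ₗ[F] V) (hr : f ^ r = 1) (hfree : ∀ v, f v = v → v = 0) (hV : 0 < finrank F V) :
    0 < orderOf (Nat.card F : ZMod r) :=
  orderOf_pos_iff.2 (isOfFinOrder_iff_pow_eq_one.2 ⟨_, hV, pow_finrank_eq_one f hr hfree⟩)

theorem exists_invariant_order (f : V →ₗ[F] V) (hr : f ^ r = 1) (hfree : ∀ v, f v = v → v = 0)
    (hV : 0 < finrank F V) :
    ∃ W : Submodule F V, (∀ v ∈ W, f v ∈ W) ∧ finrank F W = orderOf (Nat.card F : ZMod r) := by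
  classical
  set i := orderOf (Nat.card F : ZMod r) with hi_def
  haveI : Nontrivial V := Module.nontrivial_of_finrank_pos hV
  have hint : IsIntegral F f := Algebra.IsIntegral.isIntegral f
  obtain ⟨g, hgm, hgi, hgd⟩ := Polynomial.exists_monic_irreducible_factor (minpoly F f) (minpoly.not_isUnit F f)
  obtain ⟨h, hh⟩ := hgd
  have hgd' : g ∣ X ^ r - 1 := (dvd_mul_right g h).trans (hh ▸ minpoly.dvd F f (by simp [hr]))
  have hi : 0 < i := orderOf_pos_of_free f hr hfree hV
  have hpos : 1 ≤ Nat.card F ^ i := Nat.one_le_pow _ _ Nat.card_pos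
  have hqi : r ∣ Nat.card F ^ i - 1 := by
    rw [← ZMod.natCast_eq_zero_iff, Nat.cast_sub hpos, Nat.cast_pow, Nat.cast_one, pow_orderOf_eq_one, sub_self]
  have hdeg : g.natDegree ≤ i := natDegree_le hgi hi hgd' hqi
  have hne0 : minpoly F f ≠ 0 := minpoly.ne_zero hint
  have hg0 : g ≠ 0 := hgi.ne_zero
  have hh0 : h ≠ 0 := fun e => hne0 (by rw [hh, e, mul_zero])
  obtain ⟨v, hv, hv0⟩ : ∃ v, (aeval f g) v = 0 ∧ v ≠ 0 := by
    by_contra! hc
    have h0 : aeval f h = 0 := LinearMap.ext fun w => by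
      apply hc
      rw [← Module.End.mul_apply, ← map_mul, ← hh, minpoly.aeval]
      rfl
    have h1 := natDegree_le_of_dvd (minpoly.dvd F f h0) hh0
    rw [hh, natDegree_mul hg0 hh0] at h1
    have := hgi.natDegree_pos
    omega
  let S : Submodule F V := Submodule.span F (Set.range fun j : Fin g.natDegree => (f ^ (j : ℕ)) v)
  have hle : finrank F S ≤ g.natDegree := by
    exact (finrank_range_le_card (R := F) (fun j : Fin g.natDegree => (f ^ (j : ℕ)) v)).trans_eq (Fintype.card_fin _)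
  have htop : (f ^ g.natDegree) v ∈ S := by
    rw [aeval_eq_sum_range, Finset.sum_range_succ, hgm.coeff_natDegree, one_smul, LinearMap.add_apply,
      add_eq_zero_iff_neg_eq] at hv
    rw [← hv, LinearMap.sum_apply]
    exact S.neg_mem (S.sum_mem fun j hj => by
      rw [LinearMap.smul_apply]
      exact S.smul_mem _ (Submodule.subset_span ⟨⟨j, Finset.mem_range.1 hj⟩, rfl⟩))
  have hinv : ∀ w ∈ S, f w ∈ S := by
    show S ≤ S.comap f
    refine Submodule.span_le.2 ?_
    rintro _ ⟨j, rfl⟩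
    show f ((f ^ (j : ℕ)) v) ∈ S
    rw [← Module.End.mul_apply, ← pow_succ']
    rcases Nat.lt_or_ge ((j : ℕ) + 1) g.natDegree with hj | hj
    · exact Submodule.subset_span ⟨⟨_, hj⟩, rfl⟩
    · rwa [show (j : ℕ) + 1 = g.natDegree by omega]
  refine ⟨S, hinv, ?_⟩
  have hdvd : i ∣ finrank F S := orderOf_dvd_finrank (f.restrict hinv) (restrict_pow_eq_one f hr hinv)
    fun w hw => Subtype.ext (hfree w.1 (congrArg Subtype.val hw))
  have hvS : v ∈ S := Submodule.subset_span ⟨⟨0, hgi.natDegree_pos⟩, by simp⟩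
  have hSpos : 0 < finrank F S := by
    rw [Module.finrank_pos_iff_exists_ne_zero]
    exact ⟨⟨v, hvS⟩, fun e => hv0 (congrArg Subtype.val e)⟩
  exact le_antisymm (hle.trans hdeg) (Nat.le_of_dvd hSpos hdvd)

omit [Finite F] in
theorem exists_subspace_dim (S : Submodule F V) {a : ℕ} (ha : a ≤ finrank F S) :
    ∃ A : Submodule F V, A ≤ S ∧ finrank F A = a := by
  let b := Module.finBasis F S
  let w : Fin a → V := fun j => (b (Fin.castLE ha j) : V)
  have hw : LinearIndependent F w := (b.linearIndependent.comp _ (Fin.castLE_injective ha)).map' S.subtype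
    (Submodule.ker_subtype S)
  refine ⟨Submodule.span F (Set.range w), Submodule.span_le.2 ?_, by rw [finrank_span_eq_card hw, Fintype.card_fin]⟩
  rintro _ ⟨j, rfl⟩
  exact (b (Fin.castLE ha j)).2

theorem exists_invariant_mul (f : V →ₗ[F] V) (hr : f ^ r = 1) (hfree : ∀ v, f v = v → v = 0) (b : ℕ)
    (hb : b * orderOf (Nat.card F : ZMod r) ≤ finrank F V) :
    ∃ W : Submodule F V, (∀ v ∈ W, f v ∈ W) ∧ finrank F W = b * orderOf (Nat.card F : ZMod r) := by
  set i := orderOf (Nat.card F : ZMod r)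
  induction b with
  | zero => exact ⟨⊥, fun v hv => by rw [(Submodule.mem_bot F).1 hv, map_zero]; exact zero_mem _,
      by rw [finrank_bot, zero_mul]⟩
  | succ b ih =>
    rw [Nat.succ_mul] at hb ⊢
    obtain ⟨W, hW, hWd⟩ := ih (by omega)
    rcases Nat.eq_zero_or_pos i with hi | hi
    · exact ⟨W, hW, by rw [hWd, hi, mul_zero, add_zero]⟩
    let g : (V ⧸ W) →ₗ[F] V ⧸ W := W.mapQ W f hW
    have hg : ∀ (k : ℕ) (v : V), (g ^ k) (W.mkQ v) = W.mkQ ((f ^ k) v) := fun k => by
      induction k with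
      | zero => exact fun _ => rfl
      | succ k ih => intro v; rw [pow_succ', pow_succ', Module.End.mul_apply, Module.End.mul_apply, ih]; rfl
    have hgr : g ^ r = 1 := LinearMap.ext fun x => by
      obtain ⟨v, rfl⟩ := W.mkQ_surjective x
      rw [hg, hr]
      rfl
    have hgfree : ∀ x, g x = x → x = 0 := fun x hx => by
      obtain ⟨v, rfl⟩ := W.mkQ_surjective x
      have h1 : f v - v ∈ W := (Submodule.Quotient.eq W).1 hx
      have hinj : Function.Injective ((f - 1).restrict (p := W) (q := W) fun w hw => W.sub_mem (hW w hw) hw) := by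
        intro a c hac
        have h2 : f (a : V) - a = f (c : V) - c := congrArg Subtype.val hac
        refine Subtype.ext (sub_eq_zero.1 (hfree _ ?_))
        rw [map_sub]
        linear_combination (norm := abel) h2
      obtain ⟨w, hw⟩ := LinearMap.injective_iff_surjective.1 hinj ⟨f v - v, h1⟩
      have h3 : f (w : V) - w = f v - v := congrArg Subtype.val hw
      have h4 : v - w = 0 := hfree _ (by rw [map_sub]; linear_combination (norm := abel) -h3)
      rw [sub_eq_zero] at h4
      exact (Submodule.Quotient.mk_eq_zero W).2 (h4 ▸ w.2)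
    have hq := W.finrank_quotient_add_finrank
    obtain ⟨W1, hW1, hW1d⟩ := exists_invariant_order g hgr hgfree (by omega)
    refine ⟨W1.comap W.mkQ, fun v hv => hW1 _ hv, ?_⟩
    have h5 := LinearMap.finrank_range_add_finrank_ker (W.mkQ.domRestrict (W1.comap W.mkQ))
    have h6 : LinearMap.range (W.mkQ.domRestrict (W1.comap W.mkQ)) = W1 := by
      ext x
      constructor
      · rintro ⟨v, rfl⟩; exact v.2
      · intro hx
        obtain ⟨v, rfl⟩ := W.mkQ_surjective x
        exact ⟨⟨v, hx⟩, rfl⟩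
    have hle : W ≤ W1.comap W.mkQ := fun v hv => by
      show W.mkQ v ∈ W1
      rw [Submodule.mkQ_apply, (Submodule.Quotient.mk_eq_zero W).2 hv]
      exact zero_mem _
    have h7 : LinearMap.ker (W.mkQ.domRestrict (W1.comap W.mkQ)) = W.comap (W1.comap W.mkQ).subtype := by
      ext v
      exact Submodule.Quotient.mk_eq_zero W
    rw [h6, h7, hW1d, LinearEquiv.finrank_eq (Submodule.comapSubtypeEquivOfLe hle), hWd] at h5
    omega

theorem exists_invariant_dim {f : V →ₗ[F] V} (hr : f ^ r = 1) (hrF : (r : F) ≠ 0) (a b : ℕ)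
    (ha : a ≤ finrank F (fixSp f))
    (hb : finrank F (fixSp f) + b * orderOf (Nat.card F : ZMod r) ≤ finrank F V) :
    ∃ W : Submodule F V, (∀ v ∈ W, f v ∈ W) ∧ finrank F W = a + b * orderOf (Nat.card F : ZMod r) := by
  obtain ⟨A, hA, hAd⟩ := exists_subspace_dim (fixSp f) ha
  have hsplit := finrank_split hr hrF ⊤ fun v _ => Submodule.mem_top
  rw [top_inf_eq, top_inf_eq, finrank_top] at hsplit
  obtain ⟨B, hB, hBd⟩ := exists_invariant_mul (f.restrict (restSp_invariant hr)) (restrict_pow_eq_one f hr _)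
    (fun v hv => Subtype.ext (free_of_le_rest hrF v.2 (congrArg Subtype.val hv))) b (by omega)
  refine ⟨A ⊔ B.map (restSp r f).subtype, ?_, ?_⟩
  · intro v hv
    obtain ⟨x, hx, y, ⟨z, hz, rfl⟩, rfl⟩ := Submodule.mem_sup.1 hv
    rw [map_add, mem_fixSp.1 (hA hx)]
    exact Submodule.add_mem_sup hx ⟨_, hB z hz, rfl⟩
  · have h1 := Submodule.finrank_sup_add_finrank_inf_eq A (B.map (restSp r f).subtype)
    have h2 : A ⊓ B.map (restSp r f).subtype = ⊥ :=
      le_bot_iff.1 ((inf_le_inf hA (Submodule.map_subtype_le _ _)).trans (disjoint_fix_rest hrF).le)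
    rw [h2, finrank_bot, Submodule.finrank_map_subtype_eq, hAd, hBd] at h1
    omega

theorem orderOf_dvd_rest {f : V →ₗ[F] V} (hr : f ^ r = 1) (hrF : (r : F) ≠ 0) :
    orderOf (Nat.card F : ZMod r) ∣ finrank F V - finrank F (fixSp f) := by
  have h := finrank_split hr hrF ⊤ fun v _ => Submodule.mem_top
  have h2 := orderOf_dvd_finrank_inf_rest hr hrF ⊤ fun v _ => Submodule.mem_top
  rw [top_inf_eq, top_inf_eq, finrank_top] at h
  rw [top_inf_eq] at h2
  rwa [← h, Nat.add_sub_cancel_left]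

end CfsgLib.Geo.PrimeAct
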