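/-
Linear maps whose prime power is a scalar which is not a power; arithmetic of powers in finite fields.
-/
import Cfsg.Agent.Lib.Geo.PrimeOrderAction

namespace CfsgLib.Geo.PrimeAct

open Module Polynomial

variable {F : Type*} [Field F]
variable {r : ℕ} [Fact r.Prime]

section nonpower

variable {V : Type*} [AddCommGroup V] [Module F V] [FiniteDimensional F V]

theorem nonpower (f : V →ₗ[F] V) (c : F) (hc : ∀ d, d ^ r ≠ c) (hf : f ^ r = c • (1 : V →ₗ[F] V)) :
    r ∣ finrank F V ∧ LinearMap.det f = ((-1) ^ (r + 1) * c) ^ (finrank F V / r) ∧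
      ∀ b, b * r ≤ finrank F V → ∃ W : Submodule F V, (∀ v ∈ W, f v ∈ W) ∧ finrank F W = b * r := by
  classical
  have hrp : r.Prime := Fact.out
  let g : F[X] := X ^ r - C c
  have hg : Irreducible g := X_pow_sub_C_irreducible_of_prime hrp hc
  haveI := Fact.mk hg
  have hgm : g.Monic := monic_X_pow_sub_C c hrp.ne_zero
  have hgd : g.natDegree = r := natDegree_X_pow_sub_C
  have hg0 : aeval f g = 0 := by
    simp [g, hf, Algebra.algebraMap_eq_smul_one]
  let φ : AdjoinRoot g →+* Module.End F V :=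
    Ideal.Quotient.lift (Ideal.span {g}) (aeval f).toRingHom fun p hp => by
      obtain ⟨k, rfl⟩ := Ideal.mem_span_singleton.1 hp
      show aeval f (g * k) = 0
      rw [map_mul, hg0, zero_mul]
  have hφ : ∀ p, φ (AdjoinRoot.mk g p) = aeval f p := fun p => rfl
  letI : Module (AdjoinRoot g) V := Module.compHom V φ
  haveI : IsScalarTower F (AdjoinRoot g) V := IsScalarTower.of_algebraMap_smul fun a v => by
    show φ (algebraMap F (AdjoinRoot g) a) v = a • v
    rw [AdjoinRoot.algebraMap_eq, ← AdjoinRoot.mk_C, hφ, aeval_C]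
    rfl
  haveI : Module.Finite (AdjoinRoot g) V := Module.Finite.of_restrictScalars_finite F (AdjoinRoot g) V
  let pb := AdjoinRoot.powerBasis hg.ne_zero
  have hK : finrank F (AdjoinRoot g) = r := by rw [pb.finrank, AdjoinRoot.powerBasis_dim, hgd]
  have hdim : finrank F V = r * finrank (AdjoinRoot g) V := by rw [← hK, Module.finrank_mul_finrank]
  have hfv : ∀ v, f v = AdjoinRoot.root g • v := fun v => by
    show f v = φ (AdjoinRoot.root g) v
    rw [← AdjoinRoot.mk_X, hφ, aeval_X]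
  refine ⟨⟨_, hdim⟩, ?_, fun b hb => ?_⟩
  · let fK : V →ₗ[AdjoinRoot g] V := AdjoinRoot.root g • LinearMap.id
    have hfK : fK.restrictScalars F = f := LinearMap.ext fun v => (hfv v).symm
    rw [← hfK, LinearMap.det_restrictScalars, LinearMap.det_smul, LinearMap.det_id, mul_one, map_pow,
      hdim, Nat.mul_div_cancel_left _ hrp.pos]
    congr 1
    have h1 := Algebra.PowerBasis.norm_gen_eq_coeff_zero_minpoly pb
    rw [show pb.gen = AdjoinRoot.root g from AdjoinRoot.powerBasis_gen hg.ne_zero, AdjoinRoot.minpoly_root hg.ne_zero,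
      hgm.leadingCoeff, inv_one, map_one, mul_one, show pb.dim = r from (AdjoinRoot.powerBasis_dim hg.ne_zero).trans hgd] at h1
    rw [h1]
    have : g.coeff 0 = -c := by
      simp [g, coeff_X_pow, hrp.ne_zero.symm]
    rw [this]; ring
  · rw [hdim, mul_comm b r] at hb
    obtain ⟨A, -, hA⟩ := exists_subspace_dim (⊤ : Submodule (AdjoinRoot g) V) (a := b) (by
      rw [finrank_top]; exact Nat.le_of_mul_le_mul_left hb hrp.pos)
    refine ⟨A.restrictScalars F, fun v hv => ?_, ?_⟩
    · rw [hfv]; exact A.smul_mem _ hv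
    · have := Module.finrank_mul_finrank F (AdjoinRoot g) A
      rw [hK, hA] at this
      exact (show finrank F (A.restrictScalars F) = finrank F A from rfl).trans (this.symm.trans (mul_comm _ _))

end nonpower

variable [Fintype F]

theorem exists_generator : ∃ g : Fˣ, orderOf g = Fintype.card F - 1 ∧ ∀ x : Fˣ, ∃ k : ℕ, g ^ k = x := by
  classical
  obtain ⟨g, hg⟩ := IsCyclic.exists_monoid_generator (α := Fˣ)
  refine ⟨g, ?_, fun x => Submonoid.mem_powers_iff x g |>.1 (hg x)⟩
  have h : Subgroup.zpowers g = ⊤ := top_unique fun x _ => by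
    obtain ⟨k, hk⟩ := (Submonoid.mem_powers_iff x g).1 (hg x)
    exact ⟨k, by rw [← hk]; exact zpow_natCast g k⟩
  rw [← Nat.card_zpowers, h, Subgroup.card_top, Nat.card_units, Nat.card_eq_fintype_card]

theorem exists_nonpower (hr1 : r ∣ Fintype.card F - 1) {k : ℕ}
    (h : padicValNat r (Fintype.card F - 1) ≤ padicValNat r k) :
    ∃ e : F, e ^ k = 1 ∧ ∀ d, d ^ r ≠ e := by
  classical
  have hq : 1 < Fintype.card F := Fintype.one_lt_card
  obtain ⟨g, hg, -⟩ := exists_generator (F := F)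
  set v := padicValNat r (Fintype.card F - 1) with hv
  obtain ⟨s, hs⟩ : r ^ v ∣ Fintype.card F - 1 := pow_padicValNat_dvd
  have hv1 : 1 ≤ v := one_le_padicValNat_of_dvd (by omega) hr1
  have hs0 : ¬ r ∣ s := by
    rintro ⟨t, rfl⟩
    refine pow_succ_padicValNat_not_dvd (n := Fintype.card F - 1) (p := r) (by omega) ⟨t, ?_⟩
    rw [← hv, pow_succ, hs]; ring
  have hcop : Nat.Coprime s r := ((Fact.out : r.Prime).coprime_iff_not_dvd.2 hs0).symm
  refine ⟨((g ^ s : Fˣ) : F), ?_, fun d hd => ?_⟩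
  · obtain ⟨t, ht⟩ : r ^ v ∣ k := (pow_dvd_pow r h).trans pow_padicValNat_dvd
    rw [← Units.val_pow_eq_pow_val, ← pow_mul, ht, ← mul_assoc, mul_comm s, ← hs, pow_mul, ← hg, pow_orderOf_eq_one,
      one_pow, Units.val_one]
  · have hd0 : d ≠ 0 := by
      rintro rfl
      rw [zero_pow (Fact.out : r.Prime).ne_zero] at hd
      exact Units.ne_zero (g ^ s) hd.symm
    have hu : Units.mk0 d hd0 ^ r = g ^ s := Units.ext (by rw [Units.val_pow_eq_pow_val, Units.val_mk0, hd])
    set z := g ^ (s * r ^ (v - 1)) with hz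
    have hvv : r ^ (v - 1) * r = r ^ v := by rw [← pow_succ, Nat.sub_add_cancel hv1]
    have hzr : z ^ r = 1 := by
      rw [hz, ← pow_mul, mul_assoc, hvv, mul_comm s, ← hs, ← hg, pow_orderOf_eq_one]
    have hzs : z ^ s = 1 := by
      have h1 : Units.mk0 d hd0 ^ (Fintype.card F - 1) = 1 := by rw [← Fintype.card_units, pow_card_eq_one]
      calc z ^ s = (g ^ s) ^ (r ^ (v - 1) * s) := by rw [hz, ← pow_mul, ← pow_mul, mul_assoc]
        _ = Units.mk0 d hd0 ^ (r ^ (v - 1) * r * s) := by rw [← hu, ← pow_mul]; ring_nf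
        _ = 1 := by rw [hvv, ← hs, h1]
    have hz1 : z = 1 := by
      have h1 : orderOf z ∣ Nat.gcd s r := Nat.dvd_gcd (orderOf_dvd_of_pow_eq_one hzs) (orderOf_dvd_of_pow_eq_one hzr)
      rw [hcop, Nat.dvd_one, orderOf_eq_one_iff] at h1
      exact h1
    have hrpos := (Fact.out : r.Prime).pos
    have hspos : 0 < s := Nat.pos_of_ne_zero fun h => hs0 (h ▸ dvd_zero r)
    have h2 := Nat.le_of_dvd (mul_pos hspos (pow_pos hrpos _)) (orderOf_dvd_of_pow_eq_one hz1)
    rw [hg, hs] at h2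
    have h3 : r ^ (v - 1) < r ^ v := Nat.pow_lt_pow_right (Fact.out : r.Prime).one_lt (by omega)
    nlinarith [Nat.pos_of_ne_zero (fun h : s = 0 => hs0 (h ▸ dvd_zero r))]

theorem exists_root_of_pow_eq_one (hr1 : r ∣ Fintype.card F - 1) {k : ℕ} (hk : k ≠ 0)
    (h : padicValNat r k < padicValNat r (Fintype.card F - 1)) {e : F} (he : e ^ k = 1) : ∃ d, d ^ r = e := by
  classical
  have he0 : e ≠ 0 := by
    rintro rfl
    rw [zero_pow hk] at he
    exact zero_ne_one he
  obtain ⟨g, hg, hgen⟩ := exists_generator (F := F)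
  obtain ⟨j, hj⟩ := hgen (Units.mk0 e he0)
  have hdvd : Fintype.card F - 1 ∣ j * k := by
    rw [← hg]
    refine orderOf_dvd_of_pow_eq_one ?_
    rw [pow_mul, hj]
    exact Units.ext (by simp [he])
  have hrj : r ∣ j := by
    by_contra hn
    set v := padicValNat r (Fintype.card F - 1)
    have h1 : r ^ v ∣ j * k := pow_padicValNat_dvd.trans hdvd
    have h2 : r ^ v ∣ k := (Nat.Coprime.pow_left v ((Fact.out : r.Prime).coprime_iff_not_dvd.2 hn)).dvd_of_dvd_mul_left h1
    have := (padicValNat_dvd_iff_le hk).1 h2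
    omega
  obtain ⟨t, rfl⟩ := hrj
  refine ⟨((g ^ t : Fˣ) : F), ?_⟩
  rw [← Units.val_pow_eq_pow_val, ← pow_mul, mul_comm, hj, Units.val_mk0]

end CfsgLib.Geo.PrimeAct
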