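/-
An element of order two modulo scalars of a symplectic group in odd characteristic stabilises a pair of
complementary totally isotropic subspaces of half dimension.
-/
import Mathlib
import Cfsg.Prelude.Def_ClassicalGeometry

namespace CfsgLib.Geo.InvPairs

open Module Matrix

variable {F V : Type*} [Field F] [AddCommGroup V] [Module F V] [FiniteDimensional F V]

/-- totally isotropic -/
def Iso (f : V →ₗ[F] V →ₗ[F] F) (A : Submodule F V) : Prop := ∀ u ∈ A, ∀ v ∈ A, f u v = 0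

/-- non-degenerate on a subspace -/
def Nondeg (f : V →ₗ[F] V →ₗ[F] F) (W : Submodule F V) : Prop := ∀ u ∈ W, (∀ v ∈ W, f u v = 0) → u = 0

/-- The orthogonal complement of two vectors inside a subspace. -/
def perp (f : V →ₗ[F] V →ₗ[F] F) (W : Submodule F V) (a b : V) : Submodule F V :=
  W ⊓ (LinearMap.ker (f a) ⊓ LinearMap.ker (f b))

omit [FiniteDimensional F V] in
theorem mem_perp {f : V →ₗ[F] V →ₗ[F] F} {W : Submodule F V} {a b v : V} :
    v ∈ perp f W a b ↔ v ∈ W ∧ f a v = 0 ∧ f b v = 0 := by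
  simp [perp]

omit [FiniteDimensional F V] in
theorem swap {f : V →ₗ[F] V →ₗ[F] F} (hf : f.IsAlt) (u v : V) : f v u = - f u v := by
  rw [hf.neg]

omit [FiniteDimensional F V] in
theorem decomp {f : V →ₗ[F] V →ₗ[F] F} (hf : f.IsAlt) {W : Submodule F V} {a b : V}
    (ha : a ∈ W) (hb : b ∈ W) (hab : f a b ≠ 0) {v : V} (hv : v ∈ W) :
    ∃ s t : F, v - s • a - t • b ∈ perp f W a b := by
  refine ⟨f v b / f a b, f a v / f a b,
    mem_perp.2 ⟨W.sub_mem (W.sub_mem hv (W.smul_mem _ ha)) (W.smul_mem _ hb), ?_, ?_⟩⟩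
  · rw [map_sub, map_sub, map_smul, map_smul, hf a]
    simp [hab]
  · rw [map_sub, map_sub, map_smul, map_smul, hf b, swap hf a b, swap hf v b]
    simp [hab]

omit [FiniteDimensional F V] in
theorem perp_nondeg {f : V →ₗ[F] V →ₗ[F] F} (hf : f.IsAlt) {W : Submodule F V} (hW : Nondeg f W) {a b : V}
    (ha : a ∈ W) (hb : b ∈ W) (hab : f a b ≠ 0) : Nondeg f (perp f W a b) := by
  intro u hu h
  obtain ⟨huW, hua, hub⟩ := mem_perp.1 hu
  refine hW u huW fun v hv => ?_
  obtain ⟨s, t, hst⟩ := decomp hf ha hb hab hv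
  have := h _ hst
  rwa [map_sub, map_sub, map_smul, map_smul, swap hf a u, swap hf b u, hua, hub, neg_zero, smul_zero,
    smul_zero, sub_zero, sub_zero] at this

theorem perp_lt {f : V →ₗ[F] V →ₗ[F] F} {W : Submodule F V} {a b : V}
    (hb : b ∈ W) (hab : f a b ≠ 0) : finrank F (perp f W a b) < finrank F W :=
  Submodule.finrank_lt_finrank_of_lt (lt_of_le_of_ne inf_le_left fun h => hab (by
    have h' : perp f W a b = W := h
    have : b ∈ perp f W a b := by rw [h']; exact hb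
    exact (mem_perp.1 this).2.1))

omit [FiniteDimensional F V] in
theorem iso_sup {f : V →ₗ[F] V →ₗ[F] F} (hf : f.IsAlt) {A A' : Submodule F V} (hA : Iso f A) (hA' : Iso f A')
    (h : ∀ u ∈ A, ∀ v ∈ A', f u v = 0) : Iso f (A ⊔ A') := by
  intro u hu v hv
  obtain ⟨u1, hu1, u2, hu2, rfl⟩ := Submodule.mem_sup.1 hu
  obtain ⟨v1, hv1, v2, hv2, rfl⟩ := Submodule.mem_sup.1 hv
  simp only [map_add, LinearMap.add_apply, hA u1 hu1 v1 hv1, hA' u2 hu2 v2 hv2, h u1 hu1 v2 hv2]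
  rw [swap hf v1 u2, h v1 hv1 u2 hu2]
  simp

omit [FiniteDimensional F V] in
theorem iso_span {f : V →ₗ[F] V →ₗ[F] F} (hf : f.IsAlt) (a : V) : Iso f (F ∙ a) := by
  intro u hu v hv
  obtain ⟨s, rfl⟩ := Submodule.mem_span_singleton.1 hu
  obtain ⟨t, rfl⟩ := Submodule.mem_span_singleton.1 hv
  simp [hf a]

omit [FiniteDimensional F V] in
/-- A split of the complement of a hyperbolic pair extends. -/
theorem extend_split {f : V →ₗ[F] V →ₗ[F] F} (hf : f.IsAlt) {W : Submodule F V} {a b : V}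
    (ha : a ∈ W) (hb : b ∈ W) (hab : f a b ≠ 0) {A B : Submodule F V} (hA : Iso f A) (hB : Iso f B)
    (hd : A ⊓ B = ⊥) (hs : A ⊔ B = perp f W a b) :
    Iso f ((F ∙ a) ⊔ A) ∧ Iso f ((F ∙ b) ⊔ B) ∧ ((F ∙ a) ⊔ A) ⊓ ((F ∙ b) ⊔ B) = ⊥ ∧
      ((F ∙ a) ⊔ A) ⊔ ((F ∙ b) ⊔ B) = W := by
  have hAp : A ≤ perp f W a b := hs ▸ le_sup_left
  have hBp : B ≤ perp f W a b := hs ▸ le_sup_right
  refine ⟨iso_sup hf (iso_span hf a) hA fun u hu v hv => ?_, iso_sup hf (iso_span hf b) hB fun u hu v hv => ?_,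
    (Submodule.eq_bot_iff _).2 fun u hu => ?_, le_antisymm ?_ fun v hv => ?_⟩
  · obtain ⟨s, rfl⟩ := Submodule.mem_span_singleton.1 hu
    simp [(mem_perp.1 (hAp hv)).2.1]
  · obtain ⟨s, rfl⟩ := Submodule.mem_span_singleton.1 hu
    simp [(mem_perp.1 (hBp hv)).2.2]
  · obtain ⟨hu1, hu2⟩ := Submodule.mem_inf.1 hu
    obtain ⟨_, hs1, w1, hw1, e1⟩ := Submodule.mem_sup.1 hu1
    obtain ⟨s, rfl⟩ := Submodule.mem_span_singleton.1 hs1
    obtain ⟨_, ht1, w2, hw2, e2⟩ := Submodule.mem_sup.1 hu2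
    obtain ⟨t, rfl⟩ := Submodule.mem_span_singleton.1 ht1
    obtain ⟨-, h1a, h1b⟩ := mem_perp.1 (hAp hw1)
    obtain ⟨-, h2a, h2b⟩ := mem_perp.1 (hBp hw2)
    have ea := congrArg (f a) (e1.trans e2.symm)
    have eb := congrArg (f b) (e1.trans e2.symm)
    rw [map_add, map_add, map_smul, map_smul, hf a, h1a, h2a, smul_zero, zero_add, add_zero,
      smul_eq_mul, zero_eq_mul, or_iff_left hab] at ea
    rw [map_add, map_add, map_smul, map_smul, hf b, h1b, h2b, smul_zero, add_zero, zero_add,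
      smul_eq_mul, swap hf a b, mul_eq_zero, neg_eq_zero, or_iff_left hab] at eb
    rw [eb, zero_smul, zero_add] at e1
    rw [ea, zero_smul, zero_add] at e2
    have : u ∈ A ⊓ B := Submodule.mem_inf.2 ⟨e1 ▸ hw1, e2 ▸ hw2⟩
    rw [hd] at this
    simpa using this
  · exact sup_le (sup_le ((Submodule.span_singleton_le_iff_mem _ _).2 ha) (hAp.trans inf_le_left))
      (sup_le ((Submodule.span_singleton_le_iff_mem _ _).2 hb) (hBp.trans inf_le_left))
  · obtain ⟨s, t, hst⟩ := decomp hf ha hb hab hv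
    rw [← hs] at hst
    obtain ⟨w1, hw1, w2, hw2, e⟩ := Submodule.mem_sup.1 hst
    exact Submodule.mem_sup.2 ⟨s • a + w1, Submodule.mem_sup.2 ⟨_, Submodule.mem_span_singleton.2 ⟨s, rfl⟩,
      _, hw1, rfl⟩, t • b + w2, Submodule.mem_sup.2 ⟨_, Submodule.mem_span_singleton.2 ⟨t, rfl⟩, _, hw2, rfl⟩,
      by rw [show s • a + w1 + (t • b + w2) = s • a + t • b + (w1 + w2) by abel, e]; abel⟩

/-- A non-degenerate alternating space is the sum of two totally isotropic subspaces. -/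
theorem exists_split {f : V →ₗ[F] V →ₗ[F] F} (hf : f.IsAlt) (W : Submodule F V) (hW : Nondeg f W) :
    ∃ A B, Iso f A ∧ Iso f B ∧ A ⊓ B = ⊥ ∧ A ⊔ B = W := by
  induction hn : finrank F W using Nat.strong_induction_on generalizing W with
  | _ n ih =>
    subst hn
    rcases eq_or_ne W ⊥ with rfl | h0
    · exact ⟨⊥, ⊥, by simp [Iso], by simp [Iso], by simp, by simp⟩
    obtain ⟨a, ha, ha0⟩ := W.ne_bot_iff.1 h0
    obtain ⟨b, hb, hab⟩ : ∃ b ∈ W, f a b ≠ 0 := by
      by_contra h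
      push Not at h
      exact ha0 (hW a ha h)
    obtain ⟨A, B, hA, hB, hd, hs⟩ := ih _ (perp_lt hb hab) _ (perp_nondeg hf hW ha hb hab) rfl
    exact ⟨_, _, extend_split hf ha hb hab hA hB hd hs⟩

/-- A linear complex structure without eigenvalues splits as U ⊕ xU, U totally isotropic. -/
theorem exists_rotated_split {f : V →ₗ[F] V →ₗ[F] F} (hf : f.IsAlt) (h2 : (2 : F) ≠ 0) (x : V →ₗ[F] V)
    (hx : ∀ v, x (x v) = -v) (hfx : ∀ u v, f (x u) (x v) = f u v)
    (W : Submodule F V) (hW : Nondeg f W) (hWx : ∀ v ∈ W, x v ∈ W) :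
    ∃ A, Iso f A ∧ A ⊓ A.map x = ⊥ ∧ A ⊔ A.map x = W := by
  induction hn : finrank F W using Nat.strong_induction_on generalizing W with
  | _ n ih =>
    subst hn
    rcases eq_or_ne W ⊥ with rfl | h0
    · exact ⟨⊥, by simp [Iso], by simp, by simp⟩
    obtain ⟨a, ha, ha0⟩ := W.ne_bot_iff.1 h0
    have hanti : ∀ u v, f u (x v) = f v (x u) := fun u v => by
      rw [← hfx u (x v), hx, map_neg, ← swap hf (x u) v]
    obtain ⟨e, he, hee⟩ : ∃ e ∈ W, f e (x e) ≠ 0 := by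
      by_contra h
      push Not at h
      refine ha0 (hW a ha fun v hv => ?_)
      have h1 := h (a + x v) (W.add_mem ha (hWx v hv))
      simp only [map_add, LinearMap.add_apply, h a ha, h (x v) (hWx v hv)] at h1
      rw [hanti (x v) a, hx, map_neg] at h1
      have h3 : (2 : F) * f a v = 0 := by linear_combination (-1) * h1
      exact (mul_eq_zero.1 h3).resolve_left h2
    have hxp : ∀ v ∈ perp f W e (x e), x v ∈ perp f W e (x e) := fun v hv => by
      obtain ⟨h1, h2', h3⟩ := mem_perp.1 hv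
      refine mem_perp.2 ⟨hWx v h1, ?_, by rw [hfx, h2']⟩
      rw [← hfx e (x v), hx, map_neg, h3, neg_zero]
    obtain ⟨A, hA, hd, hs⟩ := ih _ (perp_lt (hWx e he) hee) _
      (perp_nondeg hf hW he (hWx e he) hee) hxp rfl
    have hxA : Iso f (A.map x) := by
      rintro _ ⟨u, hu, rfl⟩ _ ⟨v, hv, rfl⟩
      rw [hfx]
      exact hA u hu v hv
    obtain ⟨k1, -, k3, k4⟩ := extend_split hf he (hWx e he) hee hA hxA hd hs
    refine ⟨(F ∙ e) ⊔ A, k1, ?_, ?_⟩ <;>
      rw [Submodule.map_sup, Submodule.map_span, Set.image_singleton] <;> assumption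

omit [FiniteDimensional F V] in
theorem map_eq_self_of_scalar (x : V →ₗ[F] V) {c : F} (hc : c ≠ 0) (A : Submodule F V)
    (h : ∀ v ∈ A, x v = c • v) : A.map x = A := by
  refine le_antisymm ?_ fun v hv => ⟨c⁻¹ • v, A.smul_mem _ hv, ?_⟩
  · rintro _ ⟨v, hv, rfl⟩
    rw [h v hv]
    exact A.smul_mem _ hv
  · rw [h _ (A.smul_mem _ hv), smul_smul, mul_inv_cancel₀ hc, one_smul]

omit [FiniteDimensional F V] in
theorem eigen_compl (x : V →ₗ[F] V) {c : F} (hc : c ≠ 0) (h2 : (2 : F) ≠ 0) (hx : ∀ v, x (x v) = (c * c) • v) :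
    IsCompl (LinearMap.ker (x - c • LinearMap.id)) (LinearMap.ker (x + c • LinearMap.id)) := by
  refine ⟨disjoint_iff.2 ((Submodule.eq_bot_iff _).2 fun v hv => ?_), codisjoint_iff.2 (eq_top_iff.2 fun v _ => ?_)⟩
  · obtain ⟨h1, h3⟩ := Submodule.mem_inf.1 hv
    simp only [LinearMap.mem_ker, LinearMap.sub_apply, LinearMap.add_apply, LinearMap.smul_apply,
      LinearMap.id_apply, sub_eq_zero] at h1 h3
    rw [h1, ← add_smul, ← two_mul, smul_eq_zero] at h3
    exact h3.resolve_left (mul_ne_zero h2 hc)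
  · refine Submodule.mem_sup.2 ⟨(2 * c)⁻¹ • (x v + c • v), ?_, -((2 * c)⁻¹ • (x v - c • v)), ?_, ?_⟩
    · simp only [LinearMap.mem_ker, LinearMap.sub_apply, LinearMap.smul_apply, LinearMap.id_apply,
        map_smul, map_add, hx]
      module
    · simp only [LinearMap.mem_ker, LinearMap.add_apply, LinearMap.smul_apply, LinearMap.id_apply,
        map_neg, map_smul, map_sub, hx]
      module
    · match_scalars <;> field_simp <;> ring

theorem exists_fixed_pair {f : V →ₗ[F] V →ₗ[F] F} (hf : f.IsAlt) (hn : Nondeg f ⊤) (h2 : (2 : F) ≠ 0)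
    (x : V →ₗ[F] V) (hfx : ∀ u v, f (x u) (x v) = f u v) (z : F) (hz : z = 1 ∨ z = -1)
    (hx : ∀ v, x (x v) = z • v) :
    ∃ U W, IsCompl U W ∧ Iso f U ∧ Iso f W ∧
      ((U.map x = U ∧ W.map x = W) ∨ (U.map x = W ∧ W.map x = U)) := by
  by_cases hsq : ∃ c : F, c * c = z
  · obtain ⟨c, hc⟩ := hsq
    have hc0 : c ≠ 0 := fun h => by rcases hz with r | r <;> simp [h, r] at hc
    have hcomp := eigen_compl x hc0 h2 (by rw [hc]; exact hx)
    set Ep := LinearMap.ker (x - c • LinearMap.id)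
    set Em := LinearMap.ker (x + c • LinearMap.id)
    have hEp : ∀ v ∈ Ep, x v = c • v := fun v hv => by
      simpa [Ep, sub_eq_zero] using hv
    have hEm : ∀ v ∈ Em, x v = (-c) • v := fun v hv => by
      simpa [Em, neg_smul, add_eq_zero_iff_eq_neg] using hv
    rcases hz with rfl | rfl
    · have hpm : ∀ u ∈ Ep, ∀ v ∈ Em, f u v = 0 := fun u hu v hv => by
        have h1 := hfx u v
        rw [hEp u hu, hEm v hv] at h1
        simp only [map_smul, LinearMap.smul_apply, smul_eq_mul] at h1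
        have : (2 : F) * f u v = 0 := by linear_combination (-1) * h1 - f u v * hc
        exact (mul_eq_zero.1 this).resolve_left h2
      have key : ∀ E E' : Submodule F V, IsCompl E E' → (∀ u ∈ E, ∀ v ∈ E', f u v = 0) → Nondeg f E := by
        intro E E' hE h u hu hu0
        refine hn u trivial fun v _ => ?_
        obtain ⟨a, ha, b, hb, rfl⟩ := Submodule.mem_sup.1
          (show v ∈ E ⊔ E' by rw [hE.sup_eq_top]; trivial)
        rw [map_add, hu0 a ha, h u hu b hb, add_zero]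
      have hmp : ∀ u ∈ Em, ∀ v ∈ Ep, f u v = 0 := fun u hu v hv => by
        rw [swap hf v u, hpm v hv u hu, neg_zero]
      obtain ⟨A, B, hA, hB, hd, hs⟩ := exists_split hf Ep (key _ _ hcomp hpm)
      obtain ⟨A', B', hA', hB', hd', hs'⟩ := exists_split hf Em (key _ _ hcomp.symm hmp)
      have hAle : A ≤ Ep := hs ▸ le_sup_left
      have hBle : B ≤ Ep := hs ▸ le_sup_right
      have hA'le : A' ≤ Em := hs' ▸ le_sup_left
      have hB'le : B' ≤ Em := hs' ▸ le_sup_right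
      refine ⟨A ⊔ A', B ⊔ B', ⟨?_, ?_⟩, iso_sup hf hA hA' fun u hu v hv => hpm u (hAle hu) v (hA'le hv),
        iso_sup hf hB hB' fun u hu v hv => hpm u (hBle hu) v (hB'le hv), Or.inl ⟨?_, ?_⟩⟩
      · refine disjoint_iff.2 ((Submodule.eq_bot_iff _).2 fun u hu => ?_)
        obtain ⟨hu1, hu2⟩ := Submodule.mem_inf.1 hu
        obtain ⟨a, ha, a', ha', e1⟩ := Submodule.mem_sup.1 hu1
        obtain ⟨b, hb, b', hb', e2⟩ := Submodule.mem_sup.1 hu2
        have e3 : a - b = b' - a' := by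
          rw [sub_eq_sub_iff_add_eq_add, add_comm b', e1, e2]
        have e4 : a - b ∈ Ep ⊓ Em := Submodule.mem_inf.2
          ⟨Ep.sub_mem (hAle ha) (hBle hb), e3 ▸ Em.sub_mem (hB'le hb') (hA'le ha')⟩
        rw [hcomp.inf_eq_bot, Submodule.mem_bot] at e4
        have eb : b' = a' := sub_eq_zero.1 (e3 ▸ e4)
        have ea : a = b := sub_eq_zero.1 e4
        have k1 : a ∈ A ⊓ B := Submodule.mem_inf.2 ⟨ha, ea ▸ hb⟩
        have k2 : a' ∈ A' ⊓ B' := Submodule.mem_inf.2 ⟨ha', eb ▸ hb'⟩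
        rw [hd, Submodule.mem_bot] at k1
        rw [hd', Submodule.mem_bot] at k2
        rw [← e1, k1, k2, add_zero]
      · rw [codisjoint_iff, sup_sup_sup_comm, hs, hs', hcomp.sup_eq_top]
      · rw [Submodule.map_sup, map_eq_self_of_scalar x hc0 A fun v hv => hEp v (hAle hv),
          map_eq_self_of_scalar x (neg_ne_zero.2 hc0) A' fun v hv => hEm v (hA'le hv)]
      · rw [Submodule.map_sup, map_eq_self_of_scalar x hc0 B fun v hv => hEp v (hBle hv),
          map_eq_self_of_scalar x (neg_ne_zero.2 hc0) B' fun v hv => hEm v (hB'le hv)]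
    · have hiso : ∀ (d : F) (E : Submodule F V), d * d = -1 → (∀ v ∈ E, x v = d • v) → Iso f E := by
        intro d E hd hE u hu v hv
        have h1 := hfx u v
        rw [hE u hu, hE v hv] at h1
        simp only [map_smul, LinearMap.smul_apply, smul_eq_mul] at h1
        have : (2 : F) * f u v = 0 := by linear_combination (-1) * h1 + f u v * hd
        exact (mul_eq_zero.1 this).resolve_left h2
      exact ⟨Ep, Em, hcomp, hiso c Ep hc hEp, hiso (-c) Em (by rw [neg_mul_neg, hc]) hEm,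
        Or.inl ⟨map_eq_self_of_scalar x hc0 Ep hEp, map_eq_self_of_scalar x (neg_ne_zero.2 hc0) Em hEm⟩⟩
  · have hz' : z = -1 := hz.resolve_left fun h => hsq ⟨1, by rw [h, mul_one]⟩
    have hx' : ∀ v, x (x v) = -v := fun v => by rw [hx, hz', neg_one_smul]
    obtain ⟨A, hA, hd, hs⟩ := exists_rotated_split hf h2 x hx' hfx ⊤ hn fun v _ => trivial
    refine ⟨A, A.map x, ⟨disjoint_iff.2 hd, codisjoint_iff.2 hs⟩, hA, ?_, Or.inr ⟨rfl, ?_⟩⟩
    · rintro _ ⟨u, hu, rfl⟩ _ ⟨v, hv, rfl⟩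
      rw [hfx]
      exact hA u hu v hv
    · refine le_antisymm ?_ fun v hv => ⟨-x v, Submodule.neg_mem _ ⟨v, hv, rfl⟩, by simp [hx']⟩
      rintro _ ⟨_, ⟨v, hv, rfl⟩, rfl⟩
      rw [hx']
      exact A.neg_mem hv

theorem sympForm_fixed_pair {F : Type*} [Field F] (d : ℕ) (h2 : (2 : F) ≠ 0)
    (x : ↥(Matrix.symplecticGroup (Fin d) F)) (z : F)
    (hx : ((x ^ 2 : ↥(Matrix.symplecticGroup (Fin d) F)) : Matrix (Fin d ⊕ Fin d) (Fin d ⊕ Fin d) F) =
      z • (1 : Matrix (Fin d ⊕ Fin d) (Fin d ⊕ Fin d) F)) :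
    ∃ U W : Submodule F (Fin d ⊕ Fin d → F), IsCompl U W ∧ (∀ u ∈ U, ∀ v ∈ U, Cfsg.sympForm d F u v = 0) ∧
      (∀ u ∈ W, ∀ v ∈ W, Cfsg.sympForm d F u v = 0) ∧
      ((U.map (Matrix.toLin' (x : Matrix (Fin d ⊕ Fin d) (Fin d ⊕ Fin d) F)) = U ∧
          W.map (Matrix.toLin' (x : Matrix (Fin d ⊕ Fin d) (Fin d ⊕ Fin d) F)) = W) ∨
       (U.map (Matrix.toLin' (x : Matrix (Fin d ⊕ Fin d) (Fin d ⊕ Fin d) F)) = W ∧
          W.map (Matrix.toLin' (x : Matrix (Fin d ⊕ Fin d) (Fin d ⊕ Fin d) F)) = U)) := by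
  classical
  let f : (Fin d ⊕ Fin d → F) →ₗ[F] (Fin d ⊕ Fin d → F) →ₗ[F] F :=
    Matrix.toLinearMap₂' F (Matrix.J (Fin d) F)
  have happ : ∀ u v, f u v = Cfsg.sympForm d F u v := fun u v => by
    simp [f, Cfsg.sympForm, Matrix.toLinearMap₂'_apply']
  have hf : f.IsAlt := fun u => by
    rw [happ, Cfsg.sympForm, dotProduct, Fintype.sum_sum_type]
    simp [Matrix.mulVec, dotProduct, Matrix.J, Matrix.one_apply, mul_comm]
  have hn : Nondeg f ⊤ := fun u _ h => by
    funext i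
    have := h (Matrix.J (Fin d) F *ᵥ Pi.single i 1) trivial
    rw [happ, Cfsg.sympForm, Matrix.mulVec_mulVec, Matrix.J_squared, Matrix.neg_mulVec, Matrix.one_mulVec] at this
    simpa using this
  obtain ⟨A, hA⟩ := x
  have hfx : ∀ u v, f (Matrix.toLin' A u) (Matrix.toLin' A v) = f u v := fun u v => by
    have hT := SymplecticGroup.mem_iff'.1 hA
    simp only [happ, Cfsg.sympForm, Matrix.toLin'_apply, Matrix.mulVec_mulVec]
    rw [← Matrix.vecMul_transpose, ← Matrix.dotProduct_mulVec, Matrix.mulVec_mulVec, ← Matrix.mul_assoc, hT]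
  have hxx : ∀ v, Matrix.toLin' A (Matrix.toLin' A v) = z • v := fun v => by
    simp only [Matrix.toLin'_apply, Matrix.mulVec_mulVec]
    rw [pow_two] at hx
    rw [show A * A = z • (1 : Matrix _ _ F) from hx, Matrix.smul_mulVec, Matrix.one_mulVec]
  by_cases hd : d = 0
  · subst hd
    exact ⟨⊥, ⊤, isCompl_bot_top, by simp [Cfsg.sympForm, dotProduct],
      by simp [Cfsg.sympForm, dotProduct], Or.inl ⟨by simp, by
        apply Submodule.eq_top_iff'.2
        intro v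
        exact ⟨v, trivial, Subsingleton.elim _ _⟩⟩⟩
  have hz : z = 1 ∨ z = -1 := by
    let i : Fin d ⊕ Fin d := Sum.inl ⟨0, Nat.pos_of_ne_zero hd⟩
    obtain ⟨w, hw⟩ : ∃ w, f (Pi.single i 1) w ≠ 0 := by
      by_contra h
      push Not at h
      simpa using congrFun (hn _ trivial fun v _ => h v) i
    have := hfx (Matrix.toLin' A (Pi.single i 1)) (Matrix.toLin' A w)
    rw [hxx, hxx, hfx] at this
    simp only [map_smul, LinearMap.smul_apply, smul_eq_mul, ← mul_assoc] at this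
    exact mul_self_eq_one_iff.1 (mul_right_cancel₀ hw (this.trans (one_mul _).symm))
  obtain ⟨U, W, hc, hU, hW, h⟩ := exists_fixed_pair hf hn h2 _ hfx z hz hxx
  exact ⟨U, W, hc, fun u hu v hv => (happ u v) ▸ hU u hu v hv, fun u hu v hv => (happ u v) ▸ hW u hu v hv, h⟩

end CfsgLib.Geo.InvPairs
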