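/-
Classes of linear maps with scalar square over a finite field and adjustment of a conjugating element to
determinant one.
-/
import Mathlib
import Cfsg.Agent.Lib.Geo.InvolutionDecomp
import Cfsg.Agent.Lib.Geo.PrimeOrderNonPower
import Cfsg.Agent.Lib.Geo.SympInvolutionPairs

namespace CfsgLib.Geo.InvClass

open Module Matrix

variable {F V : Type*} [Field F] [AddCommGroup V] [Module F V] [FiniteDimensional F V]

/-- Normal form: swapped pairs and eigenlines. -/
theorem exists_pair_basis_norm [Finite F] (T : V →ₗ[F] V) (z : F) (hz : z ≠ 0) (hT : ∀ v, T (T v) = z • v) :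
    ∃ (k r : ℕ) (b : Basis ((Fin k × Fin 2) ⊕ Fin r) F V), (∀ i, T (b (Sum.inl (i, 0))) = b (Sum.inl (i, 1))) ∧
      (∀ i, T (b (Sum.inl (i, 1))) = z • b (Sum.inl (i, 0))) ∧
      ∀ i, ∃ c : F, c * c = z ∧ T (b (Sum.inr i)) = c • b (Sum.inr i) := by
  classical
  obtain ⟨k, r, b, h0, h1, hr⟩ := CfsgLib.Geo.exists_pair_basis T z hz hT
  choose c0 hc0 using h0
  have hne : ∀ i, c0 i ≠ 0 := fun i h => by
    have := hT (b (Sum.inl (i, 0)))
    rw [hc0 i, h, zero_smul, map_zero] at this
    exact (smul_ne_zero hz (b.ne_zero _)) this.symm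
  let w : (Fin k × Fin 2) ⊕ Fin r → Fˣ :=
    Sum.elim (fun p => if p.2 = 0 then 1 else Units.mk0 (c0 p.1) (hne p.1)) (fun _ => 1)
  refine ⟨k, r, b.unitsSMul w, fun i => ?_, fun i => ?_, fun i => ?_⟩
  · simp [w, hc0 i, Units.smul_def, Basis.unitsSMul_apply]
  · have := hT (b (Sum.inl (i, 0)))
    rw [hc0 i] at this
    simp [w, Units.smul_def, Basis.unitsSMul_apply, ← this]
  · obtain ⟨c, hc⟩ := hr i
    refine ⟨c, ?_, by simp [w, hc, Basis.unitsSMul_apply]⟩
    have := hT (b (Sum.inr i))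
    rw [hc, map_smul, hc, smul_smul] at this
    exact smul_left_injective F (b.ne_zero _) this

theorem det_of_diag {ι : Type*} [Fintype ι] [DecidableEq ι] (b : Basis ι F V) (C : V →ₗ[F] V) (d : ι → F)
    (h : ∀ i, C (b i) = d i • b i) : LinearMap.det C = ∏ i, d i := by
  rw [← LinearMap.det_toMatrix b, ← Matrix.det_diagonal]
  congr 1
  ext i j
  rw [LinearMap.toMatrix_apply, h j, map_smul, Basis.repr_self, Matrix.diagonal_apply]
  simp [Finsupp.single_apply, eq_comm]
  split_ifs with e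
  · rw [e]
  · rfl

theorem exists_norm_eq [Fintype F] (z d : F) (hz : z ≠ 0) : ∃ α β : F, α * α - z * (β * β) = d := by
  classical
  by_cases h2 : ringChar F = 2
  · obtain ⟨α, hα⟩ := FiniteField.isSquare_of_char_two h2 d
    exact ⟨α, 0, by rw [hα]; ring⟩
  · open Polynomial in
    obtain ⟨α, β, h⟩ := FiniteField.exists_root_sum_quadratic (f := X ^ 2 - C d) (g := C (-z) * X ^ 2)
      (degree_X_pow_sub_C (by norm_num) d) (by rw [degree_C_mul_X_pow 2 (neg_ne_zero.2 hz)]; rfl)
      (FiniteField.odd_card_of_char_ne_two h2)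
    refine ⟨α, β, ?_⟩
    simp at h
    linear_combination h

/-- The centraliser of a map with scalar square has determinants of every value. -/
theorem exists_commute_det [Fintype F] (T : V →ₗ[F] V) (z : F) (hz : z ≠ 0) (hT : ∀ v, T (T v) = z • v)
    [Nontrivial V] (d : F) : ∃ C : V →ₗ[F] V, LinearMap.det C = d ∧ ∀ v, C (T v) = T (C v) := by
  classical
  obtain ⟨k, r, b, h0, h1, hr⟩ := exists_pair_basis_norm T z hz hT
  rcases Nat.eq_zero_or_pos r with rfl | hr0
  · have hk : 0 < k := by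
      rcases Nat.eq_zero_or_pos k with rfl | h
      · have : finrank F V = 0 := by rw [finrank_eq_card_basis b]; simp
        exact absurd this (finrank_pos (R := F) (M := V)).ne'
      · exact h
    obtain ⟨α, β, hαβ⟩ := exists_norm_eq z d hz
    let i0 : Fin k := ⟨0, hk⟩
    let C : V →ₗ[F] V := b.constr F fun p =>
      if Sum.elim (fun q => q.1 = i0) (fun _ => False) p then α • b p + β • T (b p) else b p
    have hC : ∀ p, C (b p) = if Sum.elim (fun q => q.1 = i0) (fun _ => False) p then α • b p + β • T (b p) else b p :=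
      fun p => b.constr_basis F _ p
    have hcomm : C ∘ₗ T = T ∘ₗ C := b.ext fun p => by
      rcases p with ⟨i, s⟩ | i
      swap
      · exact i.elim0
      by_cases hi : i = i0 <;> fin_cases s <;>
        simp [h0, h1, hC, hi, map_add, map_smul, hT] <;> module
    refine ⟨C, ?_, fun v => LinearMap.congr_fun hcomm v⟩
    let e : (Fin k × Fin 2) ⊕ Fin 0 ≃ Fin 2 × Fin k := (Equiv.sumEmpty _ _).trans (Equiv.prodComm _ _)
    rw [← LinearMap.det_toMatrix (b.reindex e), show LinearMap.toMatrix (b.reindex e) (b.reindex e) C =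
      Matrix.blockDiagonal (fun i => if i = i0 then !![α, z * β; β, α] else 1) from ?_, Matrix.det_blockDiagonal,
      Finset.prod_eq_single i0 (fun i _ hi => by simp [hi]) (fun h => absurd (Finset.mem_univ _) h), if_pos rfl,
      Matrix.det_fin_two_of]
    · linear_combination hαβ
    ext ⟨s, i⟩ ⟨s', j⟩
    rw [LinearMap.toMatrix_apply, Basis.reindex_apply, Basis.repr_reindex_apply, Matrix.blockDiagonal_apply]
    simp only [e, Equiv.symm_trans_apply, Equiv.prodComm_symm, Equiv.prodComm_apply, Prod.swap_prod_mk,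
      Equiv.sumEmpty_symm_apply]
    have hC1 : C (b (Sum.inl (j, s'))) = if j = i0 then
        (!![α, z * β; β, α] 0 s') • b (Sum.inl (j, 0)) + (!![α, z * β; β, α] 1 s') • b (Sum.inl (j, 1))
        else b (Sum.inl (j, s')) := by
      rw [hC]
      by_cases hj : j = i0
      · fin_cases s' <;> simp only [Sum.elim_inl, hj, if_true] <;> simp [h0, h1, smul_smul] <;> module
      · simp [hj]
    rw [hC1]
    by_cases hij : i = j
    · subst hij
      by_cases hj : i = i0
      · fin_cases s <;> fin_cases s' <;> simp [hj]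
      · fin_cases s <;> fin_cases s' <;> simp [hj]
    · by_cases hj : j = i0
      · subst hj
        simp [Ne.symm hij, hij]
      · simp [hj, Ne.symm hij, hij]
  · let i0 : Fin r := ⟨0, hr0⟩
    let δ : (Fin k × Fin 2) ⊕ Fin r → F := fun p => if p = Sum.inr i0 then d else 1
    let C : V →ₗ[F] V := b.constr F fun p => δ p • b p
    have hC : ∀ p, C (b p) = δ p • b p := fun p => b.constr_basis F _ p
    have hcomm : C ∘ₗ T = T ∘ₗ C := b.ext fun p => by
      rcases p with ⟨i, s⟩ | i
      · fin_cases s <;> simp [h0, h1, hC, δ]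
      · obtain ⟨c, -, hc⟩ := hr i
        simp [hc, hC, smul_smul, mul_comm]
    exact ⟨C, by rw [det_of_diag b C δ hC]; simp [δ], fun v => LinearMap.congr_fun hcomm v⟩

omit [FiniteDimensional F V] in
theorem toGL_conj {ι : Type*} [Fintype ι] [DecidableEq ι] (x P : Matrix.SpecialLinearGroup ι F) :
    Matrix.SpecialLinearGroup.toGL (P⁻¹ * x * P) =
      (Matrix.SpecialLinearGroup.toGL P)⁻¹ * Matrix.SpecialLinearGroup.toGL x * Matrix.SpecialLinearGroup.toGL P := by
  rw [map_mul, map_mul, map_inv]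

/-- An element with scalar square conjugate in GL into a subgroup is so in SL. -/
theorem exists_sl_conj {F : Type*} [Field F] [Fintype F] {n : ℕ} (hn : 0 < n)
    (x : Matrix.SpecialLinearGroup (Fin n) F) {z : F}
    (hx : ((x ^ 2 : Matrix.SpecialLinearGroup (Fin n) F) : Matrix (Fin n) (Fin n) F) = z • 1)
    (H : Subgroup (GL (Fin n) F)) (P : GL (Fin n) F) (hP : P⁻¹ * Matrix.SpecialLinearGroup.toGL x * P ∈ H) :
    ∃ P' : Matrix.SpecialLinearGroup (Fin n) F, P'⁻¹ * x * P' ∈ H.comap Matrix.SpecialLinearGroup.toGL := by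
  classical
  haveI : Nonempty (Fin n) := ⟨⟨0, hn⟩⟩
  set A : Matrix (Fin n) (Fin n) F := x.1
  have hAA : A * A = z • 1 := by rw [← hx, pow_two]; rfl
  have hz : z ≠ 0 := by
    rintro rfl
    have := congrArg Matrix.det hAA
    rw [Matrix.det_mul, zero_smul, Matrix.det_zero, x.2, one_mul] at this
    exact one_ne_zero this
  obtain ⟨C, hCd, hC⟩ := exists_commute_det (Matrix.toLin' A) z hz (fun v => by
    rw [Matrix.toLin'_apply, Matrix.toLin'_apply, Matrix.mulVec_mulVec, hAA, Matrix.smul_mulVec, Matrix.one_mulVec])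
    (P : Matrix (Fin n) (Fin n) F).det⁻¹
  set C' := LinearMap.toMatrix' C
  have hd : C'.det = (P : Matrix (Fin n) (Fin n) F).det⁻¹ := by rw [LinearMap.det_toMatrix', hCd]
  have hC' : C' * A = A * C' := by
    apply Matrix.toLin'.injective
    rw [Matrix.toLin'_mul, Matrix.toLin'_mul, Matrix.toLin'_toMatrix']
    exact LinearMap.ext hC
  have hdet : (C' * (P : Matrix (Fin n) (Fin n) F)).det = 1 := by
    rw [Matrix.det_mul, hd, inv_mul_cancel₀]
    exact ((Matrix.isUnit_iff_isUnit_det _).1 P.isUnit).ne_zero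
  let P' : Matrix.SpecialLinearGroup (Fin n) F := ⟨_, hdet⟩
  refine ⟨P', ?_⟩
  rw [Subgroup.mem_comap, toGL_conj]
  convert hP using 1
  rw [mul_assoc, mul_assoc, inv_mul_eq_iff_eq_mul, ← mul_assoc, ← mul_assoc]
  ext1
  simp only [Units.val_mul]
  show A * (C' * (P : Matrix (Fin n) (Fin n) F)) =
    C' * (P : Matrix (Fin n) (Fin n) F) * ((P⁻¹ : GL (Fin n) F) : Matrix (Fin n) (Fin n) F) * A *
      (P : Matrix (Fin n) (Fin n) F)
  rw [mul_assoc C', ← Units.val_mul, mul_inv_cancel, Units.val_one, mul_one, hC', mul_assoc]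

/-- The change of basis matrix. -/
theorem exists_basis_change {F : Type*} [Field F] {n : ℕ} {ι : Type*} (e b : Basis ι F (Fin n → F)) :
    ∃ P : GL (Fin n) F, ∀ i, (P : Matrix (Fin n) (Fin n) F) *ᵥ e i = b i := by
  classical
  let L := e.equiv b (Equiv.refl ι)
  let P : GL (Fin n) F := ⟨LinearMap.toMatrix' L.toLinearMap, LinearMap.toMatrix' L.symm.toLinearMap,
    by rw [← LinearMap.toMatrix'_comp]; simp, by rw [← LinearMap.toMatrix'_comp]; simp⟩
  refine ⟨P, fun i => ?_⟩
  show LinearMap.toMatrix' L.toLinearMap *ᵥ e i = b i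
  rw [← Matrix.toLin'_apply, Matrix.toLin'_toMatrix']
  simp [L]

theorem exists_pow_eq_neg_one {F : Type*} [Field F] [Fintype F] (h2 : (2 : F) ≠ 0) {n : ℕ} (hn : n ≠ 0)
    (h : padicValNat 2 n < padicValNat 2 (Fintype.card F - 1)) : ∃ c : F, c ^ n = -1 := by
  classical
  haveI := Fact.mk Nat.prime_two
  obtain ⟨g, hg, -⟩ := CfsgLib.Geo.PrimeAct.exists_generator (F := F)
  set v := padicValNat 2 n
  obtain ⟨s, hs⟩ : 2 ^ v ∣ n := pow_padicValNat_dvd
  have hso : Odd s := Nat.not_even_iff_odd.1 fun he => by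
    obtain ⟨t, rfl⟩ := even_iff_two_dvd.1 he
    exact pow_succ_padicValNat_not_dvd (p := 2) hn ⟨t, hs.trans (by rw [pow_succ]; ring)⟩
  obtain ⟨m, hm⟩ : 2 ^ (v + 1) ∣ Fintype.card F - 1 := (pow_dvd_pow 2 h).trans pow_padicValNat_dvd
  have hq : 1 < Fintype.card F := Fintype.one_lt_card
  have hy2 : (((g ^ (m * 2 ^ v) : Fˣ) : F)) * ((g ^ (m * 2 ^ v) : Fˣ) : F) = 1 := by
    rw [← Units.val_mul, ← pow_add, show m * 2 ^ v + m * 2 ^ v = 2 ^ (v + 1) * m by ring, ← hm, ← hg,
      pow_orderOf_eq_one, Units.val_one]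
  have hy : ((g ^ (m * 2 ^ v) : Fˣ) : F) = -1 := by
    refine (mul_self_eq_one_iff.1 hy2).resolve_left fun h1 => ?_
    have h3 := orderOf_dvd_of_pow_eq_one (Units.ext (h1.trans Units.val_one.symm) : g ^ (m * 2 ^ v) = 1)
    rw [hg, hm] at h3
    have h4 := Nat.le_of_dvd (by
      rcases Nat.eq_zero_or_pos (m * 2 ^ v) with h0 | h0
      · rcases mul_eq_zero.1 h0 with rfl | h5
        · omega
        · exact absurd h5 (pow_ne_zero _ two_ne_zero)
      · exact h0) h3
    rw [pow_succ] at h4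
    have : 0 < 2 ^ v := by positivity
    have hm0 : 0 < m := by
      rcases Nat.eq_zero_or_pos m with rfl | h0
      · omega
      · exact h0
    nlinarith
  refine ⟨((g ^ m : Fˣ) : F), ?_⟩
  rw [hs, pow_mul, ← Units.val_pow_eq_pow_val, ← pow_mul, hy, hso.neg_one_pow]

theorem not_pow_eq_neg_one {F : Type*} [Field F] [Fintype F] (h2 : (2 : F) ≠ 0) {n : ℕ}
    (h : padicValNat 2 (Fintype.card F - 1) ≤ padicValNat 2 n) (c : F) : c ^ n ≠ -1 := by
  classical
  haveI := Fact.mk Nat.prime_two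
  intro hc
  have hq : 1 < Fintype.card F := Fintype.one_lt_card
  rcases Nat.eq_zero_or_pos n with rfl | hn
  · rw [pow_zero] at hc
    exact h2 (by linear_combination hc)
  set v := padicValNat 2 (Fintype.card F - 1)
  obtain ⟨s, hs⟩ : 2 ^ v ∣ Fintype.card F - 1 := pow_padicValNat_dvd
  have hso : Odd s := Nat.not_even_iff_odd.1 fun he => by
    obtain ⟨t, rfl⟩ := even_iff_two_dvd.1 he
    exact pow_succ_padicValNat_not_dvd (p := 2) (n := Fintype.card F - 1) (by omega) ⟨t, hs.trans (by rw [pow_succ]; ring)⟩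
  obtain ⟨j, hj⟩ : 2 ^ v ∣ n := (pow_dvd_pow 2 h).trans pow_padicValNat_dvd
  have hc0 : c ≠ 0 := by
    rintro rfl
    rw [zero_pow (by omega)] at hc
    simp at hc
  have h1 : (c ^ n) ^ s = (-1 : F) := by rw [hc, hso.neg_one_pow]
  rw [← pow_mul, hj, show 2 ^ v * j * s = (2 ^ v * s) * j by ring, ← hs, pow_mul,
    FiniteField.pow_card_sub_one_eq_one c hc0, one_pow] at h1
  exact h2 (by linear_combination h1)

end CfsgLib.Geo.InvClass
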