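/-
A subgroup of SL(2) with a large lower root group and one upper root element is the whole group.
-/
import Cfsg.Agent.Lib.Classical.Dickson.MaxExist
import Cfsg.Agent.Lib.Classical.PSLTwoSimple

set_option autoImplicit false

namespace CfsgLib.Geo.SLTwoGen

open Matrix CfsgLib.Classical CfsgLib.Classical.Dickson
open scoped MatrixGroups LinearAlgebra.Projectivization commutatorElement

variable {F : Type*} [Field F]

/-- The upper unitriangular matrix. -/
def up (a : F) : SL(2, F) := ⟨!![1, a; 0, 1], by simp [Matrix.det_fin_two_of]⟩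

/-- The lower unitriangular matrix. -/
def lo (b : F) : SL(2, F) := ⟨!![1, 0; b, 1], by simp [Matrix.det_fin_two_of]⟩

theorem lo_mul (a b : F) : lo a * lo b = lo (a + b) := by
  apply Subtype.ext
  show (!![1, 0; a, 1] : Matrix (Fin 2) (Fin 2) F) * !![1, 0; b, 1] = !![1, 0; a + b, 1]
  simp

theorem traceSq_toGL (A : SL(2, F)) :
    traceSq (SpecialLinearGroup.toGL A) = (A : Matrix (Fin 2) (Fin 2) F).trace ^ 2 := by
  rw [traceSq, SpecialLinearGroup.coe_GL_coe_matrix, A.2, div_one]

/-- An exponent two subgroup of the symmetric group of degree four does not have order eight. -/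
theorem false_of_exp_two (P : Subgroup (Equiv.Perm (Fin 4))) (hP : Nat.card P = 8)
    (h2 : ∀ x ∈ P, x * x = 1) : False := by
  have : Fact (Nat.Prime 2) := ⟨Nat.prime_two⟩
  have h24 : Nat.card (Equiv.Perm (Fin 4)) = 24 := by
    simp [Nat.card_eq_fintype_card, Fintype.card_perm, Fintype.card_fin, Nat.factorial]
  have hv : (24 : ℕ).factorization 2 = 3 := by
    rw [show (24 : ℕ) = 2 ^ 3 * 3 by norm_num, Nat.factorization_mul (by norm_num) (by norm_num),
      Finsupp.add_apply, Nat.Prime.factorization_pow Nat.prime_two, Nat.Prime.factorization Nat.prime_three]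
    simp
  let S : Sylow 2 (Equiv.Perm (Fin 4)) := Sylow.ofCard P (by rw [h24, hv, hP]; norm_num)
  set s : Equiv.Perm (Fin 4) := finRotate 4 with hs
  have ho : IsPGroup 2 (Subgroup.zpowers s) := by
    refine IsPGroup.of_card (n := 2) ?_
    rw [Nat.card_zpowers]
    refine orderOf_eq_prime_pow (n := 1) ?_ ?_ <;> decide
  obtain ⟨Q, hQ⟩ := ho.exists_le_sylow
  obtain ⟨g, rfl⟩ := MulAction.exists_smul_eq (Equiv.Perm (Fin 4)) S Q
  have hm : g⁻¹ * s * g ∈ P := by
    have h1 := hQ (Subgroup.mem_zpowers s)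
    rw [Sylow.coe_subgroup_smul, Subgroup.mem_pointwise_smul_iff_inv_smul_mem] at h1
    have h6 : g⁻¹ * s * g ∈ (S : Subgroup (Equiv.Perm (Fin 4))) := by simpa [MulAut.smul_def] using h1
    exact h6
  have h3 := h2 _ hm
  have h4 : s * s = 1 := by
    have h5 : s * s = g * (g⁻¹ * s * g * (g⁻¹ * s * g)) * g⁻¹ := by group
    rw [h5, h3, mul_one, mul_inv_cancel]
  exact absurd h4 (by decide)

/-- Generation from a lower root group of size at least eight and at least the square of the subfield. -/
theorem eq_top_of_root_groups_sq [Fintype F] (F₀ : Subfield F) {r : ℕ} (hr : r.Prime)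
    (hcard : Fintype.card F = Nat.card F₀ ^ r) (L : Subgroup SL(2, F)) {a : F} (ha : a ≠ 0) (hU : up a ∈ L)
    (B : AddSubgroup F) (hB₀ : ∀ c ∈ F₀, ∀ b ∈ B, c * b ∈ B) (hBL : ∀ b ∈ B, lo b ∈ L)
    (hBc : Nat.card F₀ ^ 2 ≤ Nat.card B) (h8 : 8 ≤ Nat.card B) : L = ⊤ := by
  classical
  obtain ⟨p, hp⟩ := CharP.exists F
  have : Fact p.Prime := ⟨CharP.char_is_prime F p⟩
  obtain ⟨f, hf, hq⟩ := exists_card_eq_prime_pow (F := F) p
  have hk2 : 2 ≤ Nat.card F₀ := Finite.one_lt_card
  obtain ⟨k, hk, hBk⟩ : ∃ k, k ≤ f ∧ Nat.card B = p ^ k := by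
    have h1 := AddSubgroup.card_addSubgroup_dvd_card B
    rw [Nat.card_eq_fintype_card (α := F), hq] at h1
    exact (Nat.dvd_prime_pow Fact.out).1 h1
  have h16 : 8 ≤ p ^ k := hBk ▸ h8
  set π := QuotientGroup.mk' (Subgroup.center SL(2, F)) with hπ
  set H : Subgroup (ProjectiveSpecialLinearGroup (Fin 2) F) := L.map π with hH
  have hmem : ∀ A ∈ L, ((A : SL(2, F)) : ProjectiveSpecialLinearGroup (Fin 2) F) ∈ H := fun A hA => ⟨A, hA, rfl⟩
  -- the lower root group inside `H`
  let ψ : Multiplicative B →* H :=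
    { toFun := fun b => ⟨((lo ((Multiplicative.toAdd b : B) : F) : SL(2, F)) : ProjectiveSpecialLinearGroup (Fin 2) F),
        hmem _ (hBL _ (Multiplicative.toAdd b).2)⟩
      map_one' := Subtype.ext (by
        show ((lo (0 : F) : SL(2, F)) : ProjectiveSpecialLinearGroup (Fin 2) F) = 1
        rw [show lo (0 : F) = 1 from Subtype.ext (by simp [lo, Matrix.one_fin_two])]
        rfl)
      map_mul' := fun b c => Subtype.ext (by
        show ((lo (((Multiplicative.toAdd b : B) : F) + ((Multiplicative.toAdd c : B) : F)) : SL(2, F)) :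
          ProjectiveSpecialLinearGroup (Fin 2) F) = _
        rw [← lo_mul]
        rfl) }
  have hψ : Function.Injective ψ := by
    rw [injective_iff_map_eq_one]
    intro b hb
    have h1 : ((lo ((Multiplicative.toAdd b : B) : F) : SL(2, F)) : ProjectiveSpecialLinearGroup (Fin 2) F) = 1 :=
      congrArg Subtype.val hb
    rw [QuotientGroup.eq_one_iff, Subgroup.mem_center_iff] at h1
    have h2 := congrArg (fun A : SL(2, F) => (A : Matrix (Fin 2) (Fin 2) F) 1 1) (h1 (up 1))
    simp only [Matrix.SpecialLinearGroup.coe_mul] at h2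
    simp [up, lo, Matrix.mul_apply, Fin.sum_univ_two] at h2
    exact Multiplicative.toAdd.injective (Subtype.ext (by simpa using h2))
  have hdvd : p ^ k ∣ Nat.card H := by
    rw [← hBk]
    exact (Nat.card_congr (Multiplicative.ofAdd (α := B))).symm ▸ Subgroup.card_dvd_of_injective ψ hψ
  have hpdvd : p ∣ Nat.card H := by
    refine (dvd_pow_self p ?_).trans hdvd
    rintro rfl
    simp at h16
  have hsmall : ∀ N : ℕ, p ^ k ∣ N → N = 12 ∨ N = 24 ∨ N = 60 → N = 24 ∧ p = 2 ∧ k = 3 := by
    intro N hd hcases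
    have hp := (Fact.out : p.Prime)
    have hk0 : k ≠ 0 := by rintro rfl; simp at h16
    have hk6 : k ≤ 5 := by
      have h1 : 2 ^ k ≤ N := (Nat.pow_le_pow_left hp.two_le k).trans (Nat.le_of_dvd (by omega) hd)
      by_contra hh
      have h2 : 2 ^ 6 ≤ 2 ^ k := Nat.pow_le_pow_right (by norm_num) (by omega)
      omega
    have hpd : p ∣ 2 ^ 2 * (3 * (2 * 5)) := by
      refine ((dvd_pow_self p hk0).trans hd).trans ?_
      rcases hcases with rfl | rfl | rfl <;> norm_num
    have hp235 : p = 2 ∨ p = 3 ∨ p = 5 := by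
      rcases hp.dvd_mul.1 hpd with h | h
      · exact Or.inl ((Nat.prime_dvd_prime_iff_eq hp Nat.prime_two).1 (hp.dvd_of_dvd_pow h))
      rcases hp.dvd_mul.1 h with h | h
      · exact Or.inr (Or.inl ((Nat.prime_dvd_prime_iff_eq hp Nat.prime_three).1 h))
      rcases hp.dvd_mul.1 h with h | h
      · exact Or.inl ((Nat.prime_dvd_prime_iff_eq hp Nat.prime_two).1 h)
      · exact Or.inr (Or.inr ((Nat.prime_dvd_prime_iff_eq hp Nat.prime_five).1 h))
    rcases hp235 with rfl | rfl | rfl <;> rcases hcases with rfl | rfl | rfl <;> interval_cases k <;>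
      first | exact ⟨rfl, rfl, rfl⟩ | (revert h16; decide) | (revert hd; decide)
  have hHtop : H = ⊤ := by
    rcases subgroup_cases_conj p hq H with ⟨-, h, -⟩ | ⟨-, x, hx⟩ | ⟨n, hn, hpn, -, ⟨e⟩⟩ | ⟨⟨e⟩⟩ | ⟨⟨e⟩⟩ |
      ⟨⟨e⟩⟩ | ⟨K, g, hK3, hcase⟩
    · exact absurd hpdvd h
    · exfalso
      induction x using Projectivization.ind with | h v hv => ?_
      obtain ⟨b, hb, hb0⟩ : ∃ b ∈ B, b ≠ 0 := by
        by_contra! hc
        have : B = ⊥ := (AddSubgroup.eq_bot_iff_forall B).2 hc
        rw [this] at hBk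
        simp at hBk
        omega
      have key : ∀ A ∈ L, ∃ c : F, (A : Matrix (Fin 2) (Fin 2) F) *ᵥ v = c • v := by
        intro A hA
        have h1 := hx _ (hmem A hA)
        obtain ⟨c, hc⟩ := (Projectivization.mk_eq_mk_iff' F _ _ _ _).1 h1
        exact ⟨c, hc.symm⟩
      obtain ⟨c, hc⟩ := key _ hU
      obtain ⟨d, hd⟩ := key _ (hBL b hb)
      have c0 := congrFun hc 0
      have c1 := congrFun hc 1
      have d1 := congrFun hd 1
      simp [up, Matrix.mulVec, dotProduct, Fin.sum_univ_two] at c0 c1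
      simp [lo, Matrix.mulVec, dotProduct, Fin.sum_univ_two] at d1
      have hv1 : v 1 = 0 := by
        by_contra h0
        have : c = 1 := mul_right_cancel₀ h0 (by rw [one_mul]; exact c1.symm)
        rw [this, one_mul, add_eq_left] at c0
        exact h0 ((mul_eq_zero.1 c0).resolve_left ha)
      rw [hv1, mul_zero, add_zero] at d1
      have hv0 : v 0 = 0 := (mul_eq_zero.1 d1).resolve_left hb0
      exact hv (funext fun i => by fin_cases i <;> assumption)
    · exfalso
      rw [Nat.card_congr e.toEquiv, DihedralGroup.nat_card] at hdvd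
      have hcop : Nat.Coprime (p ^ k) n := Nat.Coprime.pow_left _ ((Nat.Prime.coprime_iff_not_dvd Fact.out).2 hpn)
      have := Nat.le_of_dvd two_pos (hcop.dvd_of_dvd_mul_right hdvd)
      omega
    · rw [Nat.card_congr e.toEquiv, natCard_alt_four] at hdvd
      exact absurd (hsmall 12 hdvd (Or.inl rfl)).1 (by norm_num)
    · rw [Nat.card_congr e.toEquiv, natCard_perm_four] at hdvd
      obtain ⟨-, hp2, hk3⟩ := hsmall 24 hdvd (Or.inr (Or.inl rfl))
      subst hp2
      have hinj : Function.Injective (e.toMonoidHom.comp ψ) := e.injective.comp hψ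
      refine (false_of_exp_two (e.toMonoidHom.comp ψ).range ?_ ?_).elim
      · rw [← Nat.card_congr (MonoidHom.ofInjective hinj).toEquiv, Nat.card_congr Multiplicative.toAdd, hBk, hk3]
        norm_num
      · rintro x ⟨b, rfl⟩
        rw [← map_mul]
        have hbb : b * b = 1 := Multiplicative.toAdd.injective (Subtype.ext (by
          show ((Multiplicative.toAdd b : B) : F) + ((Multiplicative.toAdd b : B) : F) = 0
          exact CharTwo.add_self_eq_zero _))
        rw [hbb, map_one]
    · rw [Nat.card_congr e.toEquiv, natCard_alt_five] at hdvd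
      exact absurd (hsmall 60 hdvd (Or.inr (Or.inr rfl))).1 (by norm_num)
    · have htr : ∀ A ∈ L, (A : Matrix (Fin 2) (Fin 2) F).trace ^ 2 ∈ K := by
        intro A hA
        have h1 : pslConj g ((A : SL(2, F)) : ProjectiveSpecialLinearGroup (Fin 2) F) ∈ pglImage K.subtype := by
          have h2 : pslConj g ((A : SL(2, F)) : ProjectiveSpecialLinearGroup (Fin 2) F) ∈
              H.map (pslConj g).toMonoidHom := ⟨_, hmem A hA, rfl⟩
          rcases hcase with h3 | ⟨-, h3⟩ <;> rw [h3] at h2
          · exact h2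
          · exact pslImage_le_pglImage _ h2
        obtain ⟨k', hk'⟩ := (mem_pglImage _).1 h1
        induction k' using ProjGenLinGroup.induction_on with | mk k' => ?_
        rw [toPGL_pslConj, ProjectiveSpecialLinearGroup.toPGL_mk, ProjGenLinGroup.map_mk] at hk'
        have h4 : traceSq (g * SpecialLinearGroup.toGL A * g⁻¹) =
            traceSq (GeneralLinearGroup.map (n := Fin 2) K.subtype k') := by
          refine traceSq_congr ?_
          rw [map_mul, map_mul, map_inv]
          exact hk'.symm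
        rw [traceSq_conj, traceSq_toGL] at h4
        rw [h4, traceSq]
        have e : ((GeneralLinearGroup.map (n := Fin 2) K.subtype k' : GL (Fin 2) F) : Matrix (Fin 2) (Fin 2) F) =
            (k' : Matrix (Fin 2) (Fin 2) K).map K.subtype := rfl
        rw [e, Matrix.trace_fin_two, Matrix.det_fin_two]
        simp only [Matrix.map_apply, Subfield.coe_subtype]
        exact div_mem (pow_mem (add_mem (SetLike.coe_mem _) (SetLike.coe_mem _)) 2)
          (sub_mem (mul_mem (SetLike.coe_mem _) (SetLike.coe_mem _)) (mul_mem (SetLike.coe_mem _) (SetLike.coe_mem _)))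
      have hab : ∀ b ∈ B, a * b ∈ K := by
        have hsq : ∀ b ∈ B, (2 + a * b) ^ 2 ∈ K := fun b hb => by
          have := htr _ (L.mul_mem hU (hBL b hb))
          rw [Matrix.trace_fin_two] at this
          simp only [Matrix.SpecialLinearGroup.coe_mul] at this
          simp [up, lo, Matrix.mul_apply, Fin.sum_univ_two] at this
          convert this using 1
          ring
        intro b hb
        by_cases h2 : (2 : F) = 0
        · have h3 := hsq b hb
          rw [h2, zero_add] at h3
          exact (mem_subfield_iff_pow (L := K)).2 (by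
            have h4 := (mem_subfield_iff_pow (L := K)).1 h3
            have hp2 : p = 2 := by
              have := (CharP.cast_eq_zero_iff F p 2).1 (by exact_mod_cast h2)
              exact (Nat.prime_dvd_prime_iff_eq Fact.out Nat.prime_two).1 this
            subst hp2
            refine frobenius_inj F 2 ?_
            rw [frobenius_def, frobenius_def, ← pow_mul, mul_comm (Nat.card K), pow_mul]
            exact h4)
        · have h3 := sub_mem (hsq b hb) (hsq (-b) (B.neg_mem hb))
          have h8 : (8 : F) * (a * b) ∈ K := by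
            convert h3 using 1
            ring
          have h8' : (8 : F) ≠ 0 := by
            rw [show (8 : F) = 2 * 2 * 2 by norm_num]
            exact mul_ne_zero (mul_ne_zero h2 h2) h2
          have := mul_mem (inv_mem (natCast_mem K 8)) h8
          simpa [← mul_assoc, h8'] using this
      obtain ⟨b₁, hb₁, hb₁0⟩ : ∃ b ∈ B, b ≠ 0 := by
        by_contra! hc
        have : B = ⊥ := (AddSubgroup.eq_bot_iff_forall B).2 hc
        rw [this] at hBk
        simp at hBk
        omega
      have hle : F₀ ≤ K := fun c hc => by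
        have h1 := div_mem (hab _ (hB₀ c hc b₁ hb₁)) (hab b₁ hb₁)
        rwa [mul_left_comm, mul_div_cancel_right₀ _ (mul_ne_zero ha hb₁0)] at h1
      have hKbig : Nat.card F₀ ^ 2 ≤ Nat.card K := by
        refine hBc.trans (Nat.card_le_card_of_injective (fun b : B => (⟨a * b, hab _ b.2⟩ : K)) ?_)
        intro b c hbc
        exact Subtype.ext (mul_left_cancel₀ ha (congrArg Subtype.val hbc))
      rcases subfield_card_cases hr (by omega) hcard.symm rfl hle with h1 | h1
      · rw [h1] at hKbig
        have := Nat.pow_lt_pow_right (show 1 < Nat.card F₀ by omega) (show 1 < 2 by norm_num)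
        rw [pow_one] at this
        omega
      · exact eq_top_of_subfield p h1 hcase
  -- lift to SL
  refine eq_top_iff.2 ?_
  have h4 : 4 ≤ Fintype.card F := by
    rw [hcard]
    calc 4 = 2 ^ 2 := by norm_num
      _ ≤ Nat.card F₀ ^ 2 := Nat.pow_le_pow_left hk2 2
      _ ≤ Nat.card F₀ ^ r := Nat.pow_le_pow_right (by omega) hr.two_le
  rw [← commutator_SL_two_eq_top h4, commutator_def, Subgroup.commutator_le]
  intro x _ y _
  have hdec : ∀ x : SL(2, F), ∃ l ∈ L, ∃ z ∈ Subgroup.center SL(2, F), x = l * z := by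
    intro x
    have h1 : ((x : SL(2, F)) : ProjectiveSpecialLinearGroup (Fin 2) F) ∈ H := hHtop ▸ Subgroup.mem_top _
    obtain ⟨l, hl, hlx⟩ := h1
    exact ⟨l, hl, l⁻¹ * x, QuotientGroup.eq.1 hlx, (mul_inv_cancel_left l x).symm⟩
  obtain ⟨l, hl, z, hz, rfl⟩ := hdec x
  obtain ⟨l', hl', z', hz', rfl⟩ := hdec y
  have e : ⁅l * z, l' * z'⁆ = ⁅l, l'⁆ := by
    have c1 := Subgroup.mem_center_iff.1 hz
    have c2 := Subgroup.mem_center_iff.1 hz'
    simp only [commutatorElement_def, _root_.mul_inv_rev]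
    calc l * z * (l' * z') * (z⁻¹ * l⁻¹) * (z'⁻¹ * l'⁻¹)
        = l * (z * (l' * z') * z⁻¹) * l⁻¹ * z'⁻¹ * l'⁻¹ := by group
      _ = l * (l' * z') * l⁻¹ * z'⁻¹ * l'⁻¹ := by rw [← c1, mul_inv_cancel_right]
      _ = l * l' * (z' * l⁻¹) * z'⁻¹ * l'⁻¹ := by group
      _ = l * l' * (l⁻¹ * z') * z'⁻¹ * l'⁻¹ := by rw [c2]
      _ = l * l' * l⁻¹ * l'⁻¹ := by group
  rw [e, commutatorElement_def]
  exact L.mul_mem (L.mul_mem (L.mul_mem hl hl') (L.inv_mem hl)) (L.inv_mem hl')

/-- Generation from a lower root group of size at least the cube of the subfield. -/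
theorem eq_top_of_root_groups3 [Fintype F] (F₀ : Subfield F) {r : ℕ} (hr : r.Prime)
    (hcard : Fintype.card F = Nat.card F₀ ^ r) (L : Subgroup SL(2, F)) {a : F} (ha : a ≠ 0) (hU : up a ∈ L)
    (B : AddSubgroup F) (hB₀ : ∀ c ∈ F₀, ∀ b ∈ B, c * b ∈ B) (hBL : ∀ b ∈ B, lo b ∈ L)
    (hBc : Nat.card F₀ ^ 3 ≤ Nat.card B) : L = ⊤ :=
  have hk2 : 2 ≤ Nat.card F₀ := Finite.one_lt_card
  eq_top_of_root_groups_sq F₀ hr hcard L ha hU B hB₀ hBL
    ((Nat.pow_le_pow_right (by omega) (by norm_num)).trans hBc) ((Nat.pow_le_pow_left hk2 3).trans hBc)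

/-- Generation from a lower root group of size at least the fourth power of the subfield. -/
theorem eq_top_of_root_groups [Fintype F] (F₀ : Subfield F) {r : ℕ} (hr : r.Prime)
    (hcard : Fintype.card F = Nat.card F₀ ^ r) (L : Subgroup SL(2, F)) {a : F} (ha : a ≠ 0) (hU : up a ∈ L)
    (B : AddSubgroup F) (hB₀ : ∀ c ∈ F₀, ∀ b ∈ B, c * b ∈ B) (hBL : ∀ b ∈ B, lo b ∈ L)
    (hBc : Nat.card F₀ ^ 4 ≤ Nat.card B) : L = ⊤ :=
  eq_top_of_root_groups3 F₀ hr hcard L ha hU B hB₀ hBL
    ((Nat.pow_le_pow_right Finite.one_lt_card.le (by norm_num)).trans hBc)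

end CfsgLib.Geo.SLTwoGen
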