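/-
Subfield subgroups are maximal in SL.
-/
import Cfsg.Agent.Lib.Geo.Roots
import Cfsg.Agent.Lib.Geo.SLTwoGenerate

set_option autoImplicit false

namespace CfsgLib.Geo.SubfieldMax

open Matrix CfsgLib.Geo.Roots

variable {n : ℕ} {F : Type*} [Field F] {F₀ : Subfield F}

local notation "M₂" => Matrix (Fin 2) (Fin 2) F

variable {M : Subgroup (Matrix.GeneralLinearGroup (Fin n) F)}

theorem root_add_centre {φ u v : Fin n → F} (h₁ : Root M φ u) (h₂ : Root M φ v) : Root M φ (u + v) := by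
  obtain ⟨e₁, m₁⟩ := h₁
  obtain ⟨e₂, m₂⟩ := h₂
  refine ⟨by rw [dotProduct_add, e₁, e₂, add_zero], ?_⟩
  convert M.mul_mem m₁ m₂ using 1
  refine ext_mulVec fun x => ?_
  rw [Units.val_mul, ← Matrix.mulVec_mulVec, transvectionGL_mulVec, transvectionGL_mulVec, transvectionGL_mulVec,
    dotProduct_add, dotProduct_smul, e₂, smul_zero, add_zero]
  module

theorem root_neg_centre {φ u : Fin n → F} (h : Root M φ u) : Root M φ (-u) := by
  have : Root M φ ((-1 : F) • u) := by
    rw [root_smul_iff (neg_ne_zero.2 one_ne_zero), neg_one_smul]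
    exact h.neg
  rwa [neg_one_smul] at this

/-- All entries in the subfield. -/
def IsRat (F₀ : Subfield F) (x : Fin n → F) : Prop := ∀ i, x i ∈ F₀

theorem isRat_single (i : Fin n) {c : F} (hc : c ∈ F₀) : IsRat F₀ (Pi.single i c : Fin n → F) := fun j => by
  by_cases h : j = i
  · subst h; simpa using hc
  · simp [h]

theorem isRat_dot {x y : Fin n → F} (hx : IsRat F₀ x) (hy : IsRat F₀ y) : x ⬝ᵥ y ∈ F₀ :=
  sum_mem fun i _ => mul_mem (hx i) (hy i)

/-- The hypothesis: all transvections rational over the subfield lie in the subgroup. -/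
def HasRat (F₀ : Subfield F) (M : Subgroup (Matrix.GeneralLinearGroup (Fin n) F)) : Prop :=
  ∀ φ u : Fin n → F, IsRat F₀ φ → IsRat F₀ u → φ ⬝ᵥ u = 0 → Root M φ u

/-- A rational centre with a non-rational functional. -/
def HasSkewRoot (F₀ : Subfield F) (M : Subgroup (Matrix.GeneralLinearGroup (Fin n) F)) : Prop :=
  ∃ χ v, IsRat F₀ v ∧ v ≠ 0 ∧ Root M χ v ∧ ∃ j, χ j ∉ F₀

theorem skew_of_vanish (hR : HasRat F₀ M) {φ u v : Fin n → F} (hφu : Root M φ u)
    (hnr : ∃ i j, u i * φ j ∉ F₀) (hv : IsRat F₀ v) (hv0 : v ≠ 0) (hφv : φ ⬝ᵥ v = 0) : HasSkewRoot F₀ M := by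
  obtain ⟨k, hk⟩ := Function.ne_iff.1 hv0
  simp only [Pi.zero_apply] at hk
  obtain ⟨i₁, j₁, hij⟩ := hnr
  set ψ : Fin n → Fin n → F := fun i => Pi.single i 1 - (v i / v k) • Pi.single k 1 with hψ
  have hψr : ∀ i, IsRat F₀ (ψ i) := fun i l => by
    simp only [hψ, Pi.sub_apply, Pi.smul_apply, smul_eq_mul]
    exact sub_mem (isRat_single i (one_mem _) l) (mul_mem (div_mem (hv i) (hv k)) (isRat_single k (one_mem _) l))
  have hψv : ∀ i, ψ i ⬝ᵥ v = 0 := fun i => by
    simp [hψ, sub_dotProduct, smul_dotProduct, hk]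
  have hψu : ∀ i, ψ i ⬝ᵥ u = u i - v i / v k * u k := fun i => by
    simp [hψ, sub_dotProduct, smul_dotProduct]
  have hroot : ∀ i, Root M ((-(ψ i ⬝ᵥ u)) • φ) v := fun i =>
    hφu.comm (hR _ _ (hψr i) hv (hψv i)) hφv
  by_contra hcon
  have hall : ∀ i j, (u i - v i / v k * u k) * φ j ∈ F₀ := by
    intro i j
    by_contra hne
    refine hcon ⟨_, v, hv, hv0, hroot i, j, fun hmem => hne ?_⟩
    rw [Pi.smul_apply, smul_eq_mul, hψu, neg_mul] at hmem
    simpa using neg_mem hmem
  by_cases hpar : ∀ i, u i - v i / v k * u k = 0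
  · have hu : u = (u k / v k) • v := funext fun i => by
      rw [Pi.smul_apply, smul_eq_mul, sub_eq_zero.1 (hpar i)]
      ring
    have hc : u k / v k ≠ 0 := fun h0 => hij (by rw [hu, h0, zero_smul, Pi.zero_apply, zero_mul]; exact zero_mem _)
    refine hcon ⟨(u k / v k) • φ, v, hv, hv0, (root_smul_iff hc).1 (hu ▸ hφu), j₁, fun hmem => hij ?_⟩
    rw [hu, Pi.smul_apply, smul_eq_mul, mul_comm (u k / v k), mul_assoc]
    exact mul_mem (hv i₁) hmem
  push Not at hpar
  obtain ⟨a, ha⟩ := hpar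
  obtain ⟨j, hj⟩ : ∃ j, φ j ≠ 0 := ⟨j₁, fun h0 => hij (by rw [h0, mul_zero]; exact zero_mem _)⟩
  set φ' := (φ j)⁻¹ • φ with hφ'
  have hφ'r : IsRat F₀ φ' := fun l => by
    have : φ' l = ((u a - v a / v k * u k) * φ l) / ((u a - v a / v k * u k) * φ j) := by
      rw [hφ', Pi.smul_apply, smul_eq_mul, mul_div_mul_left _ _ ha, div_eq_inv_mul]
    rw [this]
    exact div_mem (hall a l) (hall a j)
  set c := u k * φ j / v k with hc
  set u₁ := φ j • u - c • v with hu₁
  have hu₁r : IsRat F₀ u₁ := fun i => by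
    have : u₁ i = (u i - v i / v k * u k) * φ j := by
      rw [hu₁, hc, Pi.sub_apply, Pi.smul_apply, Pi.smul_apply, smul_eq_mul, smul_eq_mul]
      ring
    rw [this]
    exact hall i j
  have h1 : Root M φ' (φ j • u) := by
    rw [root_smul_iff hj, hφ', smul_smul, mul_inv_cancel₀ hj, one_smul]
    exact hφu
  have h2 : Root M φ' u₁ := hR _ _ hφ'r hu₁r (by
    rw [hu₁, dotProduct_sub, dotProduct_smul, dotProduct_smul, hφ', smul_dotProduct, smul_dotProduct, hφu.dot, hφv]
    simp)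
  have h3 : Root M φ' (c • v) := by
    have := root_add_centre h1 (root_neg_centre h2)
    rwa [hu₁, ← sub_eq_add_neg, sub_sub_cancel] at this
  have hc0 : c ∉ F₀ := fun hmem => hij (by
    have e : u i₁ * φ j₁ = (u₁ i₁ + c * v i₁) * φ' j₁ := by
      rw [hu₁, hφ']
      simp only [Pi.sub_apply, Pi.smul_apply, smul_eq_mul, sub_add_cancel]
      field_simp
    rw [e]
    exact mul_mem (add_mem (hu₁r i₁) (mul_mem hmem (hv i₁))) (hφ'r j₁))
  have hcne : c ≠ 0 := fun h0 => hc0 (h0 ▸ zero_mem _)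
  refine hcon ⟨c • φ', v, hv, hv0, (root_smul_iff hcne).1 h3, j, ?_⟩
  rwa [hφ', Pi.smul_apply, Pi.smul_apply, smul_eq_mul, smul_eq_mul, inv_mul_cancel₀ hj, mul_one]

theorem li_exists_kernel (hn : 3 ≤ n) {ψ : Fin n → F} (hψ : IsRat F₀ ψ) :
    ∃ v v' : Fin n → F, IsRat F₀ v ∧ IsRat F₀ v' ∧ ψ ⬝ᵥ v = 0 ∧ ψ ⬝ᵥ v' = 0 ∧
      ∀ a b : F, a • v + b • v' = 0 → a = 0 ∧ b = 0 := by
  obtain ⟨k, hk⟩ : ∃ k : Fin n, ψ k ≠ 0 ∨ ψ = 0 := by
    by_cases h : ψ = 0
    · exact ⟨⟨0, by omega⟩, Or.inr h⟩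
    · obtain ⟨k, hk⟩ := Function.ne_iff.1 h
      exact ⟨k, Or.inl hk⟩
  obtain ⟨a, ha, b, hb, hab⟩ : ∃ a, a ≠ k ∧ ∃ b, b ≠ k ∧ a ≠ b := by
    classical
    have h : 1 < ((Finset.univ : Finset (Fin n)).erase k).card := by
      rw [Finset.card_erase_of_mem (Finset.mem_univ k), Finset.card_univ, Fintype.card_fin]
      omega
    obtain ⟨a, ha, b, hb, hab⟩ := Finset.one_lt_card.1 h
    exact ⟨a, (Finset.mem_erase.1 ha).1, b, (Finset.mem_erase.1 hb).1, hab⟩
  refine ⟨Pi.single a 1 - (ψ a / ψ k) • Pi.single k 1, Pi.single b 1 - (ψ b / ψ k) • Pi.single k 1,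
    fun l => sub_mem (isRat_single a (one_mem _) l) (mul_mem (div_mem (hψ a) (hψ k)) (isRat_single k (one_mem _) l)),
    fun l => sub_mem (isRat_single b (one_mem _) l) (mul_mem (div_mem (hψ b) (hψ k)) (isRat_single k (one_mem _) l)),
    ?_, ?_, ?_⟩
  · rcases hk with hk | hk
    · simp [dotProduct_sub, dotProduct_smul, hk]
    · simp [hk]
  · rcases hk with hk | hk
    · simp [dotProduct_sub, dotProduct_smul, hk]
    · simp [hk]
  · intro x y hxy
    have h1 := congrFun hxy a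
    have h2 := congrFun hxy b
    simp [ha, hb, hab, hab.symm] at h1 h2
    exact ⟨h1, h2⟩

theorem skew_of_dual_vanish (hn : 3 ≤ n) (hR : HasRat F₀ M) {φ u ψ : Fin n → F} (hφu : Root M φ u)
    (hnr : ∃ i j, u i * φ j ∉ F₀) (hψ : IsRat F₀ ψ) (hψ0 : ψ ≠ 0) (hψu : ψ ⬝ᵥ u = 0) : HasSkewRoot F₀ M := by
  obtain ⟨v, v', hv, hv', hψv, hψv', hli⟩ := li_exists_kernel (F₀ := F₀) hn hψ
  obtain ⟨l, hl⟩ := Function.ne_iff.1 hψ0
  simp only [Pi.zero_apply] at hl
  have key : ∀ w, IsRat F₀ w → ψ ⬝ᵥ w = 0 → w ≠ 0 → ¬ HasSkewRoot F₀ M →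
      φ ⬝ᵥ w ≠ 0 ∧ ∀ i, φ ⬝ᵥ w * u i ∈ F₀ := by
    intro w hw hψw hw0 hcon
    have hne : φ ⬝ᵥ w ≠ 0 := fun h0 => hcon (skew_of_vanish hR hφu hnr hw hw0 h0)
    refine ⟨hne, fun i => ?_⟩
    by_contra hbad
    have h1 : Root M ((-(φ ⬝ᵥ w)) • ψ) u := (hR ψ w hψ hw hψw).comm hφu hψu
    have h2 : Root M ψ ((-(φ ⬝ᵥ w)) • u) := (root_smul_iff (neg_ne_zero.2 hne)).2 h1
    refine hcon (skew_of_vanish hR h2 ⟨i, l, fun hmem => hbad ?_⟩ hw hw0 hψw)
    rw [Pi.smul_apply, smul_eq_mul, neg_mul, neg_mul] at hmem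
    have := div_mem (neg_mem hmem) (hψ l)
    rwa [neg_neg, mul_div_cancel_right₀ _ hl] at this
  by_contra hcon
  have hv0 : v ≠ 0 := fun h0 => one_ne_zero (α := F) (hli 1 0 (by rw [h0]; simp)).1
  have hv0' : v' ≠ 0 := fun h0 => one_ne_zero (α := F) (hli 0 1 (by rw [h0]; simp)).2
  obtain ⟨i₁, j₁, hij⟩ := hnr
  have hu : u i₁ ≠ 0 := fun h0 => hij (by rw [h0, zero_mul]; exact zero_mem _)
  obtain ⟨hne, hmem⟩ := key v hv hψv hv0 hcon
  obtain ⟨hne', hmem'⟩ := key v' hv' hψv' hv0' hcon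
  set c := (φ ⬝ᵥ v') / (φ ⬝ᵥ v) with hc
  have hcr : c ∈ F₀ := by
    rw [hc, ← mul_div_mul_right _ _ hu]
    exact div_mem (hmem' i₁) (hmem i₁)
  refine hcon (skew_of_vanish hR hφu ⟨i₁, j₁, hij⟩ (v := v' - c • v)
    (fun i => sub_mem (hv' i) (mul_mem hcr (hv i))) (fun h0 => one_ne_zero (α := F) (hli (-c) 1 ?_).2) ?_)
  · rw [← h0]
    module
  · rw [dotProduct_sub, dotProduct_smul, smul_eq_mul, hc, div_mul_cancel₀ _ hne, sub_self]

/-! ### The generic case -/

/-- The plane coordinates. -/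
def alpha (u : Fin n → F) (a : Fin n) (w : Fin n → F) : F := w a / u a

theorem skew_of_generic [Fintype F] {r : ℕ} (hr : r.Prime) (hcard : Fintype.card F = Nat.card F₀ ^ r) (hn : 4 ≤ n)
    (hR : HasRat F₀ M) {φ u : Fin n → F} (hφu : Root M φ u)
    (hv : ∀ v, IsRat F₀ v → v ≠ 0 → φ ⬝ᵥ v ≠ 0) (hψ : ∀ ψ, IsRat F₀ ψ → ψ ≠ 0 → ψ ⬝ᵥ u ≠ 0) :
    HasSkewRoot F₀ M := by
  classical
  set k : Fin n := ⟨0, by omega⟩ with hk
  set a₀ : Fin n := ⟨1, by omega⟩ with ha₀
  have hak : a₀ ≠ k := by simp [hk, ha₀, Fin.ext_iff]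
  set v : Fin n → F := Pi.single k 1 with hvdef
  have hv0 : v ≠ 0 := fun h0 => one_ne_zero (α := F) (by simpa [hvdef] using congrFun h0 k)
  have hvr : IsRat F₀ v := isRat_single k (one_mem _)
  have hφk : φ k ≠ 0 := by simpa [hvdef] using hv v hvr hv0
  have hua : u a₀ ≠ 0 := by
    simpa using hψ (Pi.single a₀ 1) (isRat_single a₀ (one_mem _)) fun h0 => one_ne_zero (α := F) (by
      simpa using congrFun h0 a₀)
  -- a root `(η, u)` with `η` killing `v` suffices
  have hfinish : ∀ η : Fin n → F, η ≠ 0 → η ⬝ᵥ v = 0 → Root M η u → HasSkewRoot F₀ M := by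
    intro η hη hηv hr
    have h1 : Root M ((-(u a₀)) • η) v := by
      have := hr.comm (hR (Pi.single a₀ 1) v (isRat_single a₀ (one_mem _)) hvr (by simp [hvdef, hak])) hηv
      simpa using this
    refine ⟨_, v, hvr, hv0, h1, ?_⟩
    by_contra! hall
    refine hψ ((-(u a₀)) • η) hall (smul_ne_zero (neg_ne_zero.2 hua) hη) ?_
    rw [smul_dotProduct, hr.dot, smul_zero]
  by_contra hcon
  -- the group acting on the plane
  set al := alpha u a₀ with hal
  set ga : (Fin n → F) → F := fun w => w k - al w * u k with hga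
  have hal_add : ∀ x y, al (x + y) = al x + al y := fun x y => by simp [hal, alpha, add_div]
  have hga_add : ∀ x y, ga (x + y) = ga x + ga y := fun x y => by simp [hga, hal_add]; ring
  have hal_smul : ∀ (c : F) x, al (c • x) = c * al x := fun c x => by simp [hal, alpha, mul_div_assoc]
  have hga_smul : ∀ (c : F) x, ga (c • x) = c * ga x := fun c x => by simp [hga, hal_smul]; ring
  have halu : al u = 1 := div_self hua
  have hgau : ga u = 0 := by simp [hga, halu]
  have halv : al v = 0 := by simp [hal, alpha, hvdef, hak]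
  have hgav : ga v = 1 := by simp [hga, halv]; simp [hvdef]
  let W : Submodule F (Fin n → F) := Submodule.span F {u, v}
  have hW : ∀ w ∈ W, w = al w • u + ga w • v := by
    intro w hw
    obtain ⟨x, y, rfl⟩ := Submodule.mem_span_pair.1 hw
    rw [hal_add, hga_add, hal_smul, hal_smul, hga_smul, hga_smul, halu, halv, hgau, hgav]
    simp
  have huW : u ∈ W := Submodule.subset_span (Set.mem_insert u _)
  have hvW : v ∈ W := Submodule.subset_span (Set.mem_insert_of_mem u rfl)
  let pm : Matrix.GeneralLinearGroup (Fin n) F → M₂ := fun g =>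
    !![al ((g : Matrix (Fin n) (Fin n) F) *ᵥ u), al ((g : Matrix (Fin n) (Fin n) F) *ᵥ v);
      ga ((g : Matrix (Fin n) (Fin n) F) *ᵥ u), ga ((g : Matrix (Fin n) (Fin n) F) *ᵥ v)]
  have hmem_img : ∀ g : Matrix.GeneralLinearGroup (Fin n) F,
      (∀ y, (g : Matrix (Fin n) (Fin n) F) *ᵥ y - y ∈ W) → ∀ w ∈ W, (g : Matrix (Fin n) (Fin n) F) *ᵥ w ∈ W :=
    fun g hg w hw => by simpa using W.add_mem (hg w) hw
  have hpm_mul : ∀ g g' : Matrix.GeneralLinearGroup (Fin n) F,
      (∀ y, (g' : Matrix (Fin n) (Fin n) F) *ᵥ y - y ∈ W) → pm (g * g') = pm g * pm g' := by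
    intro g g' hg'
    have e : ∀ w ∈ W, (g : Matrix (Fin n) (Fin n) F) *ᵥ w =
        al w • ((g : Matrix (Fin n) (Fin n) F) *ᵥ u) + ga w • ((g : Matrix (Fin n) (Fin n) F) *ᵥ v) := by
      intro w hw
      conv_lhs => rw [hW w hw]
      rw [Matrix.mulVec_add, Matrix.mulVec_smul, Matrix.mulVec_smul]
    ext i j
    fin_cases i <;> fin_cases j <;>
      simp [pm, Matrix.mul_apply, Fin.sum_univ_two, ← Matrix.mulVec_mulVec, e _ (hmem_img g' hg' u huW),
        e _ (hmem_img g' hg' v hvW), hal_add, hga_add, hal_smul, hga_smul] <;> ring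
  have hpm_one : pm 1 = 1 := by
    ext i j
    fin_cases i <;> fin_cases j <;> simp [pm, halu, halv, hgau, hgav]
  have hinvW : ∀ g : Matrix.GeneralLinearGroup (Fin n) F, (∀ y, (g : Matrix (Fin n) (Fin n) F) *ᵥ y - y ∈ W) →
      ∀ y, ((g⁻¹ : Matrix.GeneralLinearGroup (Fin n) F) : Matrix (Fin n) (Fin n) F) *ᵥ y - y ∈ W := by
    intro g hg y
    have := W.neg_mem (hg (((g⁻¹ : Matrix.GeneralLinearGroup (Fin n) F) : Matrix (Fin n) (Fin n) F) *ᵥ y))
    rwa [Matrix.mulVec_mulVec, Units.mul_inv, Matrix.one_mulVec, neg_sub] at this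
  let G : Subgroup (Matrix.GeneralLinearGroup (Fin n) F) :=
    { carrier := {g | g ∈ M ∧ (∀ y, (g : Matrix (Fin n) (Fin n) F) *ᵥ y - y ∈ W) ∧ (pm g).det = 1}
      mul_mem' := fun {g g'} hg hg' => ⟨M.mul_mem hg.1 hg'.1, fun y => by
        have := W.add_mem (hg.2.1 ((g' : Matrix (Fin n) (Fin n) F) *ᵥ y)) (hg'.2.1 y)
        rwa [Matrix.mulVec_mulVec, ← Units.val_mul, sub_add_sub_cancel] at this,
        by rw [hpm_mul _ _ hg'.2.1, Matrix.det_mul, hg.2.2, hg'.2.2, mul_one]⟩
      one_mem' := ⟨M.one_mem, fun y => by simp, by rw [hpm_one, Matrix.det_one]⟩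
      inv_mem' := fun {g} hg => ⟨M.inv_mem hg.1, hinvW g hg.2.1, by
        have := congrArg Matrix.det (hpm_mul g⁻¹ g hg.2.1)
        rw [inv_mul_cancel, hpm_one, Matrix.det_one, Matrix.det_mul, hg.2.2, mul_one] at this
        exact this.symm⟩ }
  let π : G →* Matrix.SpecialLinearGroup (Fin 2) F :=
    { toFun := fun g => ⟨pm g.1, g.2.2.2⟩
      map_one' := Subtype.ext hpm_one
      map_mul' := fun g g' => Subtype.ext (hpm_mul g.1 g'.1 g'.2.2.1) }
  have hlow : ∀ χ, χ k = 0 → Root M χ v → ∃ g : G, (∀ y, (g.1 : Matrix (Fin n) (Fin n) F) *ᵥ y = y + (χ ⬝ᵥ y) • v) ∧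
      π g = SLTwoGen.lo (χ ⬝ᵥ u) := by
    intro χ hχ hr
    obtain ⟨hd, hm⟩ := hr
    have hp : pm (transvectionGL χ v hd) = !![1, 0; χ ⬝ᵥ u, 1] := by
      ext i j
      fin_cases i <;> fin_cases j <;>
        simp [pm, transvectionGL_mulVec, hd, hal_add, hga_add, hal_smul, hga_smul, halu, halv, hgau, hgav]
    refine ⟨⟨transvectionGL χ v hd, hm, fun y => ?_, ?_⟩, fun y => transvectionGL_mulVec χ v hd y, Subtype.ext hp⟩
    · rw [transvectionGL_mulVec, add_sub_cancel_left]
      exact W.smul_mem _ hvW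
    · rw [hp, Matrix.det_fin_two_of]
      ring
  obtain ⟨hd, hm⟩ := id hφu
  set T := transvectionGL φ u hd with hT
  have hTp : pm T = !![1, φ k; 0, 1] := by
    ext i j
    fin_cases i <;> fin_cases j <;>
      simp [pm, hT, transvectionGL_mulVec, hd, hvdef ▸ (show φ ⬝ᵥ (Pi.single k 1 : Fin n → F) = φ k by simp),
        hal_add, hga_add, hal_smul, hga_smul, halu, halv, hgau, hgav]
  let Tg : G := ⟨T, hm, fun y => by
    rw [hT, transvectionGL_mulVec, add_sub_cancel_left]
    exact W.smul_mem _ huW, by rw [hTp, Matrix.det_fin_two_of]; ring⟩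
  -- the projection is onto
  let I := {i : Fin n // i ≠ k}
  let ext : (I → F₀) →+ (Fin n → F) :=
    { toFun := fun c i => if h : i ≠ k then (c ⟨i, h⟩ : F) else 0
      map_zero' := funext fun i => by by_cases h : i = k <;> simp [h]
      map_add' := fun c c' => funext fun i => by by_cases h : i = k <;> simp [h] }
  have hext_r : ∀ c, IsRat F₀ (ext c) := fun c i => by
    show (if h : i ≠ k then (c ⟨i, h⟩ : F) else 0) ∈ F₀
    split_ifs
    · exact SetLike.coe_mem _
    · exact zero_mem _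
  have hext_k : ∀ c, ext c k = 0 := fun c => by simp [ext]
  have hext_root : ∀ c, Root M (ext c) v := fun c => hR _ _ (hext_r c) hvr (by simp [hvdef, hext_k])
  let f : (I → F₀) →+ F :=
    { toFun := fun c => ext c ⬝ᵥ u
      map_zero' := by rw [map_zero, zero_dotProduct]
      map_add' := fun c c' => by rw [map_add, add_dotProduct] }
  have hf : Function.Injective f := by
    rw [injective_iff_map_eq_zero]
    intro c hc
    by_contra h0
    obtain ⟨i, hi⟩ := Function.ne_iff.1 h0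
    refine hψ (ext c) (hext_r c) (fun he => hi ?_) hc
    have := congrFun he i.1
    simp [ext, i.2] at this
    simpa using this
  have hsurj : Function.Surjective π := by
    have htop : π.range = ⊤ := by
      refine SLTwoGen.eq_top_of_root_groups3 F₀ hr hcard π.range hφk ⟨Tg, Subtype.ext hTp⟩ f.range ?_ ?_ ?_
      · rintro c hc _ ⟨x, rfl⟩
        refine ⟨fun i => ⟨c, hc⟩ * x i, ?_⟩
        show ext _ ⬝ᵥ u = c * (ext x ⬝ᵥ u)
        rw [← smul_eq_mul c, ← smul_dotProduct]
        congr 1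
        funext i
        by_cases h : i = k <;> simp [ext, h]
      · rintro _ ⟨c, rfl⟩
        obtain ⟨g, -, hg⟩ := hlow _ (hext_k c) (hext_root c)
        exact ⟨g, hg⟩
      · rw [show Nat.card f.range = Nat.card (I → F₀) from (Nat.card_congr (AddMonoidHom.ofInjective hf).toEquiv).symm,
          Nat.card_fun, Nat.card_eq_fintype_card (α := I), Fintype.card_subtype_compl, Fintype.card_fin,
          Fintype.card_subtype_eq]
        exact Nat.pow_le_pow_right Finite.one_lt_card.le (by omega)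
    exact MonoidHom.range_eq_top.1 htop
  -- the projection is injective
  have hπinj : Function.Injective π := by
    rw [injective_iff_map_eq_one]
    intro g hg
    have hgp : pm g.1 = 1 := congrArg Subtype.val hg
    have hfixW : ∀ w ∈ W, (g.1 : Matrix (Fin n) (Fin n) F) *ᵥ w = w := by
      have e00 := congrFun (congrFun hgp 0) 0
      have e01 := congrFun (congrFun hgp 0) 1
      have e10 := congrFun (congrFun hgp 1) 0
      have e11 := congrFun (congrFun hgp 1) 1
      simp [pm] at e00 e01 e10 e11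
      intro w hw
      rw [hW w hw, Matrix.mulVec_add, Matrix.mulVec_smul, Matrix.mulVec_smul,
        hW _ (hmem_img g.1 g.2.2.1 u huW), hW _ (hmem_img g.1 g.2.2.1 v hvW), e00, e01, e10, e11]
      simp
    set δ : (Fin n → F) →ₗ[F] (Fin n → F) :=
      Matrix.mulVecLin (g.1 : Matrix (Fin n) (Fin n) F) - LinearMap.id with hδ
    have hδy : ∀ y, (g.1 : Matrix (Fin n) (Fin n) F) *ᵥ y = y + δ y := fun y => by simp [hδ]
    have hδW : ∀ y, δ y ∈ W := fun y => by simpa [hδ] using g.2.2.1 y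
    have hδ0 : ∀ w ∈ W, δ w = 0 := fun w hw => by simp [hδ, hfixW w hw]
    let cγ : Fin n → F := fun j => ga (δ (Pi.single j 1))
    let cα : Fin n → F := fun j => al (δ (Pi.single j 1))
    have hcγ : ∀ y, cγ ⬝ᵥ y = ga (δ y) := by
      intro y
      let L : (Fin n → F) →ₗ[F] F :=
        { toFun := fun y => ga (δ y)
          map_add' := fun a b => by rw [map_add, hga_add]
          map_smul' := fun c a => by rw [map_smul, hga_smul, RingHom.id_apply, smul_eq_mul] }
      show _ = L y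
      conv_rhs => rw [pi_eq_sum_univ' y]
      rw [map_sum]
      exact Finset.sum_congr rfl fun j _ => by rw [map_smul, smul_eq_mul, mul_comm]; rfl
    have hcα : ∀ y, cα ⬝ᵥ y = al (δ y) := by
      intro y
      let L : (Fin n → F) →ₗ[F] F :=
        { toFun := fun y => al (δ y)
          map_add' := fun a b => by rw [map_add, hal_add]
          map_smul' := fun c a => by rw [map_smul, hal_smul, RingHom.id_apply, smul_eq_mul] }
      show _ = L y
      conv_rhs => rw [pi_eq_sum_univ' y]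
      rw [map_sum]
      exact Finset.sum_congr rfl fun j _ => by rw [map_smul, smul_eq_mul, mul_comm]; rfl
    have hzero : al (0 : Fin n → F) = 0 := by simp [hal, alpha]
    have hzero' : ga (0 : Fin n → F) = 0 := by simp [hga, hzero]
    have hφv' : φ ⬝ᵥ v = φ k := by simp [hvdef]
    have hγ0 : cγ = 0 := by
      by_contra hne
      set η := φ k • cγ with hη
      have hηd : η ⬝ᵥ u = 0 := by rw [hη, smul_dotProduct, hcγ, hδ0 u huW, hzero', smul_zero]
      refine hcon (hfinish η (smul_ne_zero hφk hne) (by rw [hη, smul_dotProduct, hcγ, hδ0 v hvW, hzero', smul_zero])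
        ⟨hηd, ?_⟩)
      convert M.mul_mem (M.mul_mem (M.mul_mem hm g.2.1) (M.inv_mem hm)) (M.inv_mem g.2.1) using 1
      rw [eq_mul_inv_iff_mul_eq, eq_mul_inv_iff_mul_eq]
      refine ext_mulVec fun y => ?_
      simp only [Units.val_mul, ← Matrix.mulVec_mulVec, hT, transvectionGL_mulVec, hδy, map_add, map_smul,
        hδ0 u huW, smul_zero, add_zero, hη, smul_dotProduct, dotProduct_add, dotProduct_smul, hcγ,
        hδ0 _ (hδW y), hzero', hd, hgau]
      rw [show φ ⬝ᵥ δ y = φ k * ga (δ y) by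
        conv_lhs => rw [hW _ (hδW y)]
        rw [dotProduct_add, dotProduct_smul, dotProduct_smul, hd, hφv', smul_zero, zero_add, smul_eq_mul, mul_comm]]
      match_scalars <;> ring
    by_contra hg1
    have hδα : ∀ y, δ y = al (δ y) • u := fun y => by
      conv_lhs => rw [hW _ (hδW y)]
      rw [← hcγ, hγ0, zero_dotProduct, zero_smul, add_zero]
    have hαd : cα ⬝ᵥ u = 0 := by rw [hcα, hδ0 u huW, hzero]
    have heq : g.1 = transvectionGL cα u hαd := ext_mulVec fun y => by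
      rw [transvectionGL_mulVec, hcα, ← hδα, hδy]
    refine hcon (hfinish cα (fun h0 => hg1 (Subtype.ext (ext_mulVec fun y => ?_))) ?_ ⟨hαd, heq ▸ g.2.1⟩)
    · rw [heq, transvectionGL_mulVec, h0, zero_dotProduct, zero_smul, add_zero]
      simp
    · rw [hcα, hδ0 v hvW, hzero]
  -- torus elements
  have htor : ∀ l : F, l ≠ 0 → ∃ t : G, (t.1 : Matrix (Fin n) (Fin n) F) *ᵥ u = l • u ∧
      (t.1 : Matrix (Fin n) (Fin n) F) *ᵥ v = l⁻¹ • v ∧ pm t.1 = !![l, 0; 0, l⁻¹] := by
    intro l hl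
    obtain ⟨t, ht⟩ := hsurj ⟨!![l, 0; 0, l⁻¹], by simp [Matrix.det_fin_two_of, hl]⟩
    have hp : pm t.1 = !![l, 0; 0, l⁻¹] := congrArg Subtype.val ht
    have e00 := congrFun (congrFun hp 0) 0
    have e01 := congrFun (congrFun hp 0) 1
    have e10 := congrFun (congrFun hp 1) 0
    have e11 := congrFun (congrFun hp 1) 1
    simp [pm] at e00 e01 e10 e11
    refine ⟨t, ?_, ?_, hp⟩
    · rw [hW _ (hmem_img t.1 t.2.2.1 u huW), e00, e10, zero_smul, add_zero]
    · rw [hW _ (hmem_img t.1 t.2.2.1 v hvW), e01, e11, zero_smul, zero_add]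
  obtain ⟨l₀, hl₀, hl₀1⟩ : ∃ l : F, l ≠ 0 ∧ l ≠ 1 := by
    by_contra! hc
    have h4 : Fintype.card F ≤ 2 := by
      refine (Finset.card_le_card (s := Finset.univ) (t := ({0, 1} : Finset F)) fun x _ => ?_).trans Finset.card_le_two
      by_cases h : x = 0
      · simp [h]
      · simp [hc x h]
    have h2 : 2 ≤ Nat.card F₀ := Finite.one_lt_card
    have := Nat.pow_le_pow_left h2 r
    have := Nat.pow_le_pow_right (show 0 < 2 by omega) hr.two_le
    omega
  have hl₀i : l₀⁻¹ - 1 ≠ 0 := sub_ne_zero.2 fun h0 => hl₀1 (inv_eq_one.1 h0)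
  have hl₀s : l₀ - 1 ≠ 0 := sub_ne_zero.2 hl₀1
  obtain ⟨t₀, ht₀u, ht₀v, ht₀p⟩ := htor l₀ hl₀
  set δ : (Fin n → F) →ₗ[F] (Fin n → F) :=
    Matrix.mulVecLin (t₀.1 : Matrix (Fin n) (Fin n) F) - LinearMap.id with hδ
  have hδy : ∀ y, (t₀.1 : Matrix (Fin n) (Fin n) F) *ᵥ y = y + δ y := fun y => by simp [hδ]
  have hδW : ∀ y, δ y ∈ W := fun y => by simpa [hδ] using t₀.2.2.1 y
  let ε : (Fin n → F) →ₗ[F] F :=
    { toFun := fun y => al (δ y) / (l₀ - 1)
      map_add' := fun a b => by rw [map_add, hal_add, add_div]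
      map_smul' := fun c a => by rw [map_smul, hal_smul, RingHom.id_apply, smul_eq_mul, mul_div_assoc] }
  let ω : (Fin n → F) →ₗ[F] F :=
    { toFun := fun y => ga (δ y) / (l₀⁻¹ - 1)
      map_add' := fun a b => by rw [map_add, hga_add, add_div]
      map_smul' := fun c a => by rw [map_smul, hga_smul, RingHom.id_apply, smul_eq_mul, mul_div_assoc] }
  let P : (Fin n → F) →ₗ[F] (Fin n → F) := LinearMap.id - ε.smulRight u - ω.smulRight v
  have hPy : ∀ y, P y = y - ε y • u - ω y • v := fun y => by simp [P]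
  have hPfix : ∀ y, (t₀.1 : Matrix (Fin n) (Fin n) F) *ᵥ P y = P y := by
    intro y
    have h1 : (t₀.1 : Matrix (Fin n) (Fin n) F) *ᵥ y =
        y + ((l₀ - 1) * ε y) • u + ((l₀⁻¹ - 1) * ω y) • v := by
      have e1 : (l₀ - 1) * ε y = al (δ y) := mul_div_cancel₀ _ hl₀s
      have e2 : (l₀⁻¹ - 1) * ω y = ga (δ y) := mul_div_cancel₀ _ hl₀i
      rw [hδy, e1, e2, add_assoc, ← hW _ (hδW y)]
    rw [hPy, Matrix.mulVec_sub, Matrix.mulVec_sub, Matrix.mulVec_smul, Matrix.mulVec_smul, ht₀u, ht₀v, h1]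
    module
  -- conjugating a root by a torus element
  have hkey : ∀ (l : F) (χ χ₁ : Fin n → F), l ≠ 0 → χ k = 0 → Root M χ v → χ₁ k = 0 → Root M χ₁ v →
      χ₁ ⬝ᵥ u = l⁻¹ * l⁻¹ * (χ ⬝ᵥ u) → ∀ y, χ₁ ⬝ᵥ P y = l⁻¹ * (χ ⬝ᵥ P y) := by
    intro l χ χ₁ hl hχ hr hχ₁ hr₁ he y
    obtain ⟨t, htu, htv, htp⟩ := htor l hl
    set ti := ((t.1⁻¹ : Matrix.GeneralLinearGroup (Fin n) F) : Matrix (Fin n) (Fin n) F) with hti
    have hti' : ∀ x z, (t.1 : Matrix (Fin n) (Fin n) F) *ᵥ x = z → ti *ᵥ z = x := fun x z e => by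
      rw [← e, hti, Matrix.mulVec_mulVec, Units.inv_mul, Matrix.one_mulVec]
    have hfix : (t.1 : Matrix (Fin n) (Fin n) F) *ᵥ P y = P y := by
      have hc : t * t₀ = t₀ * t := hπinj (Subtype.ext (by
        show pm ((t * t₀ : G) : Matrix.GeneralLinearGroup (Fin n) F) = pm ((t₀ * t : G) : Matrix.GeneralLinearGroup (Fin n) F)
        rw [Subgroup.coe_mul, Subgroup.coe_mul, hpm_mul _ _ t₀.2.2.1, hpm_mul _ _ t.2.2.1, htp, ht₀p]
        simp [mul_comm]))
      set w := (t.1 : Matrix (Fin n) (Fin n) F) *ᵥ P y - P y with hw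
      have hw0 : (t₀.1 : Matrix (Fin n) (Fin n) F) *ᵥ w = w := by
        have e := congrArg (fun g : G => (g.1 : Matrix (Fin n) (Fin n) F) *ᵥ P y) hc
        simp only [Subgroup.coe_mul, Units.val_mul, ← Matrix.mulVec_mulVec, hPfix] at e
        rw [hw, Matrix.mulVec_sub, hPfix, ← e]
      have hwW : w ∈ W := t.2.2.1 (P y)
      rw [hW w hwW, Matrix.mulVec_add, Matrix.mulVec_smul, Matrix.mulVec_smul, ht₀u, ht₀v, smul_smul, smul_smul] at hw0
      have ea := congrArg al hw0
      have eg := congrArg ga hw0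
      simp only [hal_add, hga_add, hal_smul, hga_smul, halu, halv, hgau, hgav, mul_one, mul_zero, add_zero,
        zero_add] at ea eg
      have a0 : al w = 0 := (mul_eq_zero.1 (show al w * (l₀ - 1) = 0 by linear_combination ea)).resolve_right hl₀s
      have g0 : ga w = 0 := (mul_eq_zero.1 (show ga w * (l₀⁻¹ - 1) = 0 by linear_combination eg)).resolve_right hl₀i
      have : w = 0 := by rw [hW w hwW, a0, g0, zero_smul, zero_smul, add_zero]
      exact sub_eq_zero.1 this
    set χ' := l⁻¹ • (χ ᵥ* ti) with hχ'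
    have hr' : Root M χ' v := by
      have := hr.conj t.2.1
      rw [htv] at this
      exact (root_smul_iff (inv_ne_zero hl)).1 this
    have hχ'k : χ' k = 0 := by simpa [hvdef] using hr'.dot
    have hu' : χ' ⬝ᵥ u = χ₁ ⬝ᵥ u := by
      rw [he, hχ', smul_dotProduct, ← Matrix.dotProduct_mulVec,
        hti' (l⁻¹ • u) u (by rw [Matrix.mulVec_smul, htu, smul_smul, inv_mul_cancel₀ hl, one_smul]),
        dotProduct_smul, smul_eq_mul, smul_eq_mul, mul_assoc]
    obtain ⟨g₁, hg₁, hπ₁⟩ := hlow χ' hχ'k hr'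
    obtain ⟨g₂, hg₂, hπ₂⟩ := hlow χ₁ hχ₁ hr₁
    have hg : g₁ = g₂ := hπinj (by rw [hπ₁, hπ₂, hu'])
    have e := congrFun ((hg₁ (P y)).symm.trans ((hg ▸ rfl : _ = _).trans (hg₂ (P y)))) k
    simp [hvdef] at e
    rw [← e, hχ', smul_dotProduct, ← Matrix.dotProduct_mulVec, hti' _ _ hfix, smul_eq_mul]
  -- all the rational roots lie in a plane
  have hcoef : ∀ i, i ≠ k → ∃ m : F, ∀ y, y i = u i * ε y + m * P y a₀ := by
    intro i hi
    have hrt : ∀ j, j ≠ k → Root M (Pi.single j 1 : Fin n → F) v ∧ (Pi.single j 1 : Fin n → F) k = 0 := fun j hj =>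
      ⟨hR _ _ (isRat_single j (one_mem _)) hvr (by simp [hvdef, hj]), by simp [hj.symm]⟩
    suffices ∃ m : F, ∀ y, P y i = m * P y a₀ by
      obtain ⟨m, hm'⟩ := this
      refine ⟨m, fun y => ?_⟩
      rw [← hm', hPy]
      simp [hvdef, hi]
      ring
    by_cases h2 : (2 : F) = 0
    · have hpm1 : (-1 : F) = 1 := by linear_combination -h2
      obtain ⟨p, hp⟩ := CharP.exists F
      have hp2 : p = 2 := by
        have : Fact p.Prime := ⟨CharP.char_is_prime F p⟩
        exact (Nat.prime_dvd_prime_iff_eq Fact.out Nat.prime_two).1 ((CharP.cast_eq_zero_iff F p 2).1 (by exact_mod_cast h2))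
      subst hp2
      have hui : u i ≠ 0 := by
        simpa using hψ (Pi.single i 1) (isRat_single i (one_mem _)) fun h0 => one_ne_zero (α := F) (by
          simpa using congrFun h0 i)
      obtain ⟨μ, hμ⟩ := (Finite.injective_iff_bijective.1 (frobenius_inj F 2)).2 (u i / u a₀)
      rw [frobenius_def] at hμ
      have hμ0 : μ ≠ 0 := fun h0 => div_ne_zero hui hua (by rw [← hμ, h0, zero_pow two_ne_zero])
      refine ⟨μ, fun y => ?_⟩
      have := hkey μ⁻¹ (Pi.single a₀ 1) (Pi.single i 1) (inv_ne_zero hμ0) (hrt a₀ hak).2 (hrt a₀ hak).1 (hrt i hi).2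
        (hrt i hi).1 (by
          rw [inv_inv, single_one_dotProduct, single_one_dotProduct, ← pow_two, hμ, div_mul_cancel₀ _ hua]) y
      simpa using this
    · refine ⟨0, fun y => ?_⟩
      have := hkey (-1) (Pi.single i 1) (Pi.single i 1) (neg_ne_zero.2 one_ne_zero) (hrt i hi).2 (hrt i hi).1
        (hrt i hi).2 (hrt i hi).1 (by simp) y
      simp only [single_one_dotProduct, inv_neg, inv_one, neg_mul, one_mul] at this
      rw [zero_mul]
      exact (mul_eq_zero.1 (show (2 : F) * P y i = 0 by linear_combination this)).resolve_left h2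
  let em : Fin 3 → Fin n := fun j => ⟨j.1 + 1, by omega⟩
  have hem : Function.Injective em := fun a b hab => by simpa [em, Fin.ext_iff] using hab
  let yv : (Fin 3 → F) →ₗ[F] (Fin n → F) := Fintype.linearCombination F fun j => Pi.single (em j) 1
  let L : (Fin 3 → F) →ₗ[F] F × F := (ε ∘ₗ yv).prod ((LinearMap.proj a₀ ∘ₗ P) ∘ₗ yv)
  have hL : Function.Injective L := by
    rw [injective_iff_map_eq_zero]
    intro c hc
    funext j
    obtain ⟨m, hm'⟩ := hcoef (em j) (fun h0 => Nat.succ_ne_zero j.1 (congrArg Fin.val h0))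
    have h1 : ε (yv c) = 0 := congrArg Prod.fst hc
    have h2 : P (yv c) a₀ = 0 := congrArg Prod.snd hc
    have e := hm' (yv c)
    rw [h1, h2, mul_zero, mul_zero, add_zero] at e
    simpa [yv, Fintype.linearCombination_apply, Pi.single_apply, hem.eq_iff] using e
  have := LinearMap.finrank_le_finrank_of_injective hL
  rw [Module.finrank_prod, Module.finrank_fin_fun, Module.finrank_self] at this
  omega

theorem skewRoot [Fintype F] {r : ℕ} (hr : r.Prime) (hcard : Fintype.card F = Nat.card F₀ ^ r) (hn : 4 ≤ n)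
    (hR : HasRat F₀ M) {φ u : Fin n → F} (hφu : Root M φ u) (hnr : ∃ i j, u i * φ j ∉ F₀) : HasSkewRoot F₀ M := by
  by_cases h1 : ∃ v, IsRat F₀ v ∧ v ≠ 0 ∧ φ ⬝ᵥ v = 0
  · obtain ⟨v, hv, hv0, hφv⟩ := h1
    exact skew_of_vanish hR hφu hnr hv hv0 hφv
  by_cases h2 : ∃ ψ, IsRat F₀ ψ ∧ ψ ≠ 0 ∧ ψ ⬝ᵥ u = 0
  · obtain ⟨ψ, hψ, hψ0, hψu⟩ := h2
    exact skew_of_dual_vanish (by omega) hR hφu hnr hψ hψ0 hψu
  exact skew_of_generic hr hcard hn hR hφu (fun v hv hv0 h => h1 ⟨v, hv, hv0, h⟩)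
    fun ψ hψ hψ0 h => h2 ⟨ψ, hψ, hψ0, h⟩

/-! ### From a skew root to SL -/

theorem exists_third {a b : Fin n} (hn : 3 ≤ n) : ∃ c, c ≠ a ∧ c ≠ b := by
  classical
  obtain ⟨c, hc⟩ : ((Finset.univ : Finset (Fin n)) \ {a, b}).Nonempty := by
    rw [← Finset.card_pos]
    have h := Finset.le_card_sdiff ({a, b} : Finset (Fin n)) Finset.univ
    have h2 : ({a, b} : Finset (Fin n)).card ≤ 2 := Finset.card_le_two
    rw [Finset.card_univ, Fintype.card_fin] at h
    omega
  simp at hc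
  exact ⟨c, hc.1, hc.2⟩

theorem specialLinear_le_of_skew [Fintype F] {r : ℕ} (hr : r.Prime) (hcard : Fintype.card F = Nat.card F₀ ^ r)
    (hn : 4 ≤ n) (hR : HasRat F₀ M) (hS : HasSkewRoot F₀ M) : Cfsg.Geo.specialLinear (Fin n) F ≤ M := by
  classical
  obtain ⟨χ₀, v, hv, hv0, hr₀, hnr₀⟩ := hS
  obtain ⟨k, hk⟩ := Function.ne_iff.1 hv0
  simp only [Pi.zero_apply] at hk
  -- move the centre to a basis vector
  obtain ⟨χ, hχ, j, hj⟩ : ∃ χ, Root M χ (Pi.single k 1) ∧ ∃ j, χ j ∉ F₀ := by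
    by_cases hpar : ∀ i, i ≠ k → v i = 0
    · have hv' : v = v k • (Pi.single k 1 : Fin n → F) := funext fun i => by
        by_cases h : i = k
        · subst h; simp
        · simp [h, hpar i h]
      obtain ⟨j, hj⟩ := hnr₀
      refine ⟨v k • χ₀, (root_smul_iff hk).1 (hv' ▸ hr₀), j, fun hmem => hj ?_⟩
      have := div_mem hmem (hv k)
      rwa [Pi.smul_apply, smul_eq_mul, mul_div_cancel_left₀ _ hk] at this
    push Not at hpar
    obtain ⟨i, hik, hi⟩ := hpar
    set ψ : Fin n → F := ((1 - v k) / v i) • Pi.single i 1 + Pi.single k 1 with hψ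
    have hψr : IsRat F₀ ψ := fun l => add_mem (mul_mem (div_mem (sub_mem (one_mem _) (hv k)) (hv i))
      (isRat_single i (one_mem _) l)) (isRat_single k (one_mem _) l)
    have hψk : ψ k = 1 := by simp [hψ, hik.symm]
    have hψv : ψ ⬝ᵥ v = 1 := by simp [hψ, add_dotProduct, smul_dotProduct, hi]
    set w := (Pi.single k 1 : Fin n → F) - v with hw
    have hwr : IsRat F₀ w := fun l => sub_mem (isRat_single k (one_mem _) l) (hv l)
    obtain ⟨hd, hm⟩ := hR ψ w hψr hwr (by rw [hw, dotProduct_sub, hψv]; simp [hψk])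
    have h1 := hr₀.conj hm
    rw [transvectionGL_mulVec, hψv, one_smul, show v + w = Pi.single k 1 from by rw [hw]; abel] at h1
    refine ⟨_, h1, ?_⟩
    by_contra! hall
    obtain ⟨j, hj⟩ := hnr₀
    refine hj ?_
    have e : χ₀ j = (χ₀ ᵥ* ((transvectionGL ψ w hd)⁻¹ : Matrix.GeneralLinearGroup (Fin n) F)) ⬝ᵥ
        ((Pi.single j 1 : Fin n → F) + (ψ ⬝ᵥ Pi.single j 1) • w) := by
      rw [← Matrix.dotProduct_mulVec, ← transvectionGL_mulVec ψ w hd, Matrix.mulVec_mulVec, Units.inv_mul,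
        Matrix.one_mulVec, dotProduct_single, mul_one]
    rw [e]
    exact isRat_dot hall fun l => add_mem (isRat_single j (one_mem _) l)
      (mul_mem (by simpa using hψr j) (hwr l))
  have hχk : χ k = 0 := by simpa using hχ.dot
  have hjk : j ≠ k := fun h => hj (by rw [h, hχk]; exact zero_mem _)
  let El : F → Fin n → Fin n → Prop := fun c a b => Root M (Pi.single b c : Fin n → F) (Pi.single a 1)
  have hneg : ∀ c a b, El c a b → El (-c) a b := fun c a b h => by
    show Root M (Pi.single b (-c) : Fin n → F) _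
    rw [Pi.single_neg]
    exact Root.neg h
  have hone : ∀ a b, a ≠ b → El 1 a b := fun a b hab =>
    hR _ _ (isRat_single b (one_mem _)) (isRat_single a (one_mem _)) (by simp [hab.symm])
  have hcomm : ∀ c d a b e, a ≠ e → El c a b → El d b e → El (c * d) a e := by
    intro c d a b e hae h1 h2
    have h3 := Root.comm h2 h1 (by simp [hae.symm])
    have h4 : El (-(c * d)) a e := by
      show Root M (Pi.single e (-(c * d)) : Fin n → F) _
      convert h3 using 1
      simp [← Pi.single_smul', Pi.single_neg]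
    simpa using hneg _ _ _ h4
  -- a first scalar outside the subfield
  obtain ⟨a, hak, haj⟩ := exists_third (a := k) (b := j) (by omega)
  have hfirst : El (χ j) k a := by
    have h3 := Root.comm (hone j a haj.symm) hχ (by simp [hak])
    have h4 : El (-χ j) k a := by
      show Root M (Pi.single a (-χ j) : Fin n → F) _
      convert h3 using 1
      simp [← Pi.single_smul', Pi.single_neg]
    simpa using hneg _ _ _ h4
  -- spreading
  have hspread : ∀ c a b, a ≠ b → El c a b → ∀ a' b', a' ≠ b' → El c a' b' := by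
    intro c a b hab h a' b' hab'
    have hrow : ∀ {c a b}, a ≠ b → El c a b → ∀ a', a' ≠ b → a' ≠ a → El c a' b := fun {c a b} hab h a' h1 h2 => by
      simpa using hcomm 1 c a' a b h1 (hone a' a h2) h
    have hcol : ∀ {c a b}, a ≠ b → El c a b → ∀ b', b' ≠ a → b' ≠ b → El c a b' := fun {c a b} hab h b' h1 h2 => by
      simpa using hcomm c 1 a b b' h1.symm h (hone b b' h2.symm)
    -- first to a pair disjoint from the target
    have hall : ∀ {c a b}, a ≠ b → El c a b → ∀ b', b' ≠ a → El c a b' := fun {c a b} hab h b' h1 => by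
      rcases eq_or_ne b' b with rfl | h2
      · exact h
      · exact hcol hab h b' h1 h2
    obtain ⟨d, hd, hd'⟩ := exists_third (a := a) (b := a') (by omega)
    have h1 := hall hab h d hd
    have h2 : El c a' d := by
      rcases eq_or_ne a' a with rfl | h3
      · exact h1
      · exact hrow hd.symm h1 a' hd'.symm h3
    exact hall hd'.symm h2 b' hab'.symm
  let S : Set F := {c | ∀ a b, a ≠ b → El c a b}
  have hS1 : (1 : F) ∈ S := hone
  have hSadd : ∀ {c d}, c ∈ S → d ∈ S → c + d ∈ S := fun {c d} hc hd a b hab => by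
    show Root M (Pi.single b (c + d) : Fin n → F) _
    rw [Pi.single_add]
    exact Root.add (hc a b hab) (hd a b hab)
  have hSmul : ∀ {c d}, c ∈ S → d ∈ S → c * d ∈ S := fun {c d} hc hd a b hab => by
    obtain ⟨e, hea, heb⟩ := exists_third (a := a) (b := b) (by omega)
    exact hcomm c d a e b hab (hc a e hea.symm) (hd e b heb)
  have hS0 : (0 : F) ∈ S := fun a b _ => by
    show Root M (Pi.single b (0 : F) : Fin n → F) _
    rw [Pi.single_zero]
    exact Root.zero _
  have hSpow : ∀ {c}, c ∈ S → ∀ e : ℕ, c ^ e ∈ S := fun {c} hc e => by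
    induction e with
    | zero => simpa using hS1
    | succ e ih => rw [pow_succ]; exact hSmul ih hc
  let K : Subfield F :=
    { carrier := S
      one_mem' := hS1
      zero_mem' := hS0
      add_mem' := fun hc hd => hSadd hc hd
      mul_mem' := fun hc hd => hSmul hc hd
      neg_mem' := fun hc a b hab => hneg _ _ _ (hc a b hab)
      inv_mem' := fun c hc => by
        by_cases h0 : c = 0
        · simpa [h0] using hS0
        · have e : c⁻¹ = c ^ (Fintype.card F - 2) := by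
            refine inv_eq_of_mul_eq_one_right ?_
            have h2 : 2 ≤ Fintype.card F := Fintype.one_lt_card
            rw [← pow_succ', show Fintype.card F - 2 + 1 = Fintype.card F - 1 by omega]
            exact FiniteField.pow_card_sub_one_eq_one c h0
          rw [e]
          exact hSpow hc _ }
  have hle : F₀ ≤ K := fun c hc a b hab =>
    hR _ _ (isRat_single b hc) (isRat_single a (one_mem _)) (by simp [hab.symm])
  have hjK : χ j ∈ K := hspread _ k a hak.symm hfirst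
  have hKF : Nat.card K = Fintype.card F := by
    rcases CfsgLib.Classical.Dickson.subfield_card_cases hr Finite.one_lt_card hcard.symm rfl hle with h | h
    · have : F₀ = K := SetLike.coe_injective (Set.eq_of_subset_of_ncard_le hle (by
        rw [← Nat.card_coe_set_eq, ← Nat.card_coe_set_eq, SetLike.coe_sort_coe, SetLike.coe_sort_coe, h]))
      exact absurd (this ▸ hjK) hj
    · exact h
  have hKall : ∀ c : F, c ∈ K := fun c => by
    obtain ⟨x, rfl⟩ := ((Nat.bijective_iff_injective_and_card (Subtype.val : K → F)).2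
      ⟨Subtype.val_injective, by rw [hKF, Nat.card_eq_fintype_card]⟩).2 c
    exact x.2
  intro g hg
  haveI : Nontrivial (Fin n) := Fin.nontrivial_iff_two_le.2 (by omega)
  have htop := CfsgLib.Classical.closure_transvection_eq_top (M.comap Matrix.SpecialLinearGroup.toGL)
    (fun i j hij c => by
      obtain ⟨h0, hm⟩ := hKall c i j hij
      rw [Subgroup.mem_comap]
      convert hm using 1
      refine Units.ext ?_
      show _ = (1 : Matrix (Fin n) (Fin n) F) + Matrix.vecMulVec (Pi.single i 1) (Pi.single j c)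
      rw [Matrix.SpecialLinearGroup.coe_GL_coe_matrix, Matrix.SpecialLinearGroup.transvection_coe]
      congr 1
      ext a b
      simp [Matrix.vecMulVec_apply, Matrix.single_apply, Pi.single_apply]
      grind)
  let s : Matrix.SpecialLinearGroup (Fin n) F := ⟨(g : Matrix (Fin n) (Fin n) F), congrArg Units.val (MonoidHom.mem_ker.1 hg)⟩
  have hs : s ∈ M.comap Matrix.SpecialLinearGroup.toGL := htop ▸ Subgroup.mem_top s
  rw [Subgroup.mem_comap, show Matrix.SpecialLinearGroup.toGL s = g from Units.ext rfl] at hs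
  exact hs

/-! ### The subfield group -/

theorem mem_subfieldSubgroup_one {g : Matrix.GeneralLinearGroup (Fin n) F} {l : F} (hl : l ≠ 0)
    (hg : ∀ i j, (g : Matrix (Fin n) (Fin n) F) i j / l ∈ F₀) : g ∈ Cfsg.Geo.subfieldSubgroup F₀ 1 := by
  classical
  let A : Matrix (Fin n) (Fin n) F₀ := fun i j => ⟨(g : Matrix (Fin n) (Fin n) F) i j / l, hg i j⟩
  have hA : A.map F₀.subtype = l⁻¹ • (g : Matrix (Fin n) (Fin n) F) := by
    ext i j
    show (g : Matrix (Fin n) (Fin n) F) i j / l = _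
    rw [Matrix.smul_apply, div_eq_inv_mul, smul_eq_mul]
  have hdet : A.det ≠ 0 := fun h0 => by
    have e := RingHom.map_det F₀.subtype A
    rw [h0, map_zero, RingHom.mapMatrix_apply, hA, Matrix.det_smul, eq_comm, mul_eq_zero] at e
    rcases e with e | e
    · exact inv_ne_zero hl (pow_eq_zero_iff'.1 e).1
    · exact (Matrix.isUnit_iff_isUnit_det _).1 g.isUnit |>.ne_zero e
  refine ⟨Matrix.GeneralLinearGroup.map (F₀.subtype : F₀ →+* F) (Matrix.GeneralLinearGroup.mkOfDetNeZero A hdet) *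
    Units.map (Matrix.scalar (Fin n) : F →+* Matrix (Fin n) (Fin n) F).toMonoidHom (Units.mk0 l hl),
    Subgroup.mul_mem_sup ⟨_, rfl⟩ ⟨Units.mk0 l hl, rfl⟩, ?_⟩
  show 1 * _ * 1⁻¹ = g
  rw [one_mul, inv_one, mul_one]
  refine Units.ext ?_
  show A.map F₀.subtype * Matrix.scalar (Fin n) l = _
  rw [hA, Matrix.scalar_apply, ← Matrix.smul_one_eq_diagonal, Matrix.mul_smul, Matrix.mul_one, smul_smul,
    mul_inv_cancel₀ hl, one_smul]

theorem isMaximalIn_subfield_one [Fintype F] {r : ℕ} (hr : r.Prime) (hcard : Fintype.card F = Nat.card F₀ ^ r)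
    (hn : 4 ≤ n) :
    Cfsg.Geo.IsMaximalIn (Cfsg.Geo.specialLinear (Fin n) F)
      (Cfsg.Geo.subfieldSubgroup F₀ 1 ⊓ Cfsg.Geo.specialLinear (Fin n) F) := by
  classical
  haveI : Nontrivial (Fin n) := Fin.nontrivial_iff_two_le.2 (by omega)
  refine ⟨lt_of_le_of_ne inf_le_right fun heq => ?_, fun M hM hMS => ?_⟩
  · obtain ⟨l, hl⟩ : ∃ l : F, l ∉ F₀ := by
      by_contra! hc
      have h1 : Nat.card F ≤ Nat.card F₀ := Nat.card_le_card_of_injective (fun x => (⟨x, hc x⟩ : F₀)) fun a b h =>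
        congrArg Subtype.val h
      rw [Nat.card_eq_fintype_card, hcard] at h1
      have := Nat.pow_lt_pow_right (show 1 < Nat.card F₀ from Finite.one_lt_card) hr.one_lt
      rw [pow_one] at this
      omega
    set a : Fin n := ⟨0, by omega⟩
    set b : Fin n := ⟨1, by omega⟩
    have hab : a ≠ b := by simp [a, b, Fin.ext_iff]
    have hd : (Pi.single b l : Fin n → F) ⬝ᵥ Pi.single a 1 = 0 := by simp [hab.symm]
    obtain ⟨g', hg', he⟩ := (heq.ge (transvectionGL_mem_specialLinear _ _ hd)).1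
    obtain ⟨_, ⟨A, rfl⟩, c, hc, rfl⟩ := Subgroup.mem_sup_of_normal_right.1 hg'
    obtain ⟨s, hs⟩ := (Cfsg.Geo.mem_scalars_iff c).1 hc
    have hv : ∀ i j, (transvectionGL _ _ hd : Matrix (Fin n) (Fin n) F) i j =
        (s : F) * ((A : Matrix (Fin n) (Fin n) F₀) i j : F) := by
      intro i j
      rw [← he]
      show ((1 * (Matrix.GeneralLinearGroup.map (F₀.subtype : F₀ →+* F) A * c) * 1⁻¹ :
        Matrix.GeneralLinearGroup (Fin n) F) : Matrix (Fin n) (Fin n) F) i j = _
      rw [one_mul, inv_one, mul_one, Units.val_mul, hs, Matrix.mul_smul, Matrix.mul_one]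
      rfl
    have haa := hv a a
    have hab' := hv a b
    simp [transvectionGL, Matrix.vecMulVec_apply, hab, hab.symm] at haa hab'
    have hA0 : ((A : Matrix (Fin n) (Fin n) F₀) a a : F) ≠ 0 := fun h0 => by
      rw [h0, mul_zero] at haa
      exact one_ne_zero haa
    refine hl ?_
    rw [hab', show (s : F) = ((A : Matrix (Fin n) (Fin n) F₀) a a : F)⁻¹ from eq_inv_of_mul_eq_one_left haa.symm]
    exact mul_mem (inv_mem (SetLike.coe_mem _)) (SetLike.coe_mem _)
  refine (eq_or_lt_of_le hM).imp Eq.symm fun hlt => le_antisymm hMS ?_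
  have hR : HasRat F₀ M := fun φ u hφ hu hd => ⟨hd, hM ⟨mem_subfieldSubgroup_one one_ne_zero fun i j => by
    rw [div_one]
    show ((1 : Matrix (Fin n) (Fin n) F) + Matrix.vecMulVec u φ) i j ∈ F₀
    rw [Matrix.add_apply, Matrix.vecMulVec_apply]
    refine add_mem ?_ (mul_mem (hu i) (hφ j))
    rw [Matrix.one_apply]
    split_ifs
    · exact one_mem _
    · exact zero_mem _, transvectionGL_mem_specialLinear _ _ hd⟩⟩
  obtain ⟨g, hgM, hgn⟩ := SetLike.exists_of_lt hlt
  set G := (g : Matrix (Fin n) (Fin n) F) with hG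
  set Gi := ((g⁻¹ : Matrix.GeneralLinearGroup (Fin n) F) : Matrix (Fin n) (Fin n) F) with hGi
  by_cases hnr : ∃ a b i j, a ≠ b ∧ G i a * Gi b j ∉ F₀
  · obtain ⟨a, b, i, j, hab, hbad⟩ := hnr
    have h1 := (hR (Pi.single b 1) (Pi.single a 1) (isRat_single b (one_mem _)) (isRat_single a (one_mem _))
      (by simp [hab.symm])).conj hgM
    rw [← hG, ← hGi, Matrix.mulVec_single_one, Matrix.single_one_vecMul] at h1
    exact specialLinear_le_of_skew hr hcard hn hR (skewRoot hr hcard hn hR h1 ⟨i, j, hbad⟩)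
  exfalso
  push Not at hnr
  have hGne : ∀ b, ∃ j, Gi b j ≠ 0 := fun b => by
    by_contra! hc
    have h1 : Gi * G = 1 := Units.inv_mul g
    have := congrFun (congrFun h1 b) b
    simp [Matrix.mul_apply, hc] at this
  obtain ⟨i₀, a₀, h0⟩ : ∃ i a, G i a ≠ 0 := by
    by_contra! hc
    have h1 : Gi * G = 1 := Units.inv_mul g
    have := congrFun (congrFun h1 ⟨0, by omega⟩) ⟨0, by omega⟩
    simp [Matrix.mul_apply, hc] at this
  refine hgn ⟨mem_subfieldSubgroup_one h0 fun i a => ?_, hMS hgM⟩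
  obtain ⟨b, hb, hb₀⟩ := exists_third (a := a) (b := a₀) (by omega)
  obtain ⟨j, hj⟩ := hGne b
  rw [← mul_div_mul_right _ _ hj]
  exact div_mem (hnr a b i j hb.symm) (hnr a₀ b i₀ j hb₀.symm)

/-- Subfield groups are maximal in SL, from dimension four on. -/
theorem isMaximalIn_subfield_four [Fintype F] {r : ℕ} (hr : r.Prime) (hcard : Fintype.card F = Nat.card F₀ ^ r)
    (hn : 4 ≤ n) (P : Matrix.GeneralLinearGroup (Fin n) F) :
    Cfsg.Geo.IsMaximalIn (Cfsg.Geo.specialLinear (Fin n) F)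
      (Cfsg.Geo.subfieldSubgroup F₀ P ⊓ Cfsg.Geo.specialLinear (Fin n) F) := by
  have h1 := isMaximalIn_subfield_one (n := n) (F₀ := F₀) hr hcard hn
  set e := (MulAut.conj P).toMonoidHom with he
  have hinj : Function.Injective e := (MulAut.conj P).injective
  have hS : (Cfsg.Geo.specialLinear (Fin n) F).map e = Cfsg.Geo.specialLinear (Fin n) F := by
    ext g
    rw [Subgroup.mem_map]
    constructor
    · rintro ⟨x, hx, rfl⟩
      rw [Cfsg.Geo.specialLinear, MonoidHom.mem_ker] at hx ⊢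
      simp [he, hx]
    · intro hg
      refine ⟨P⁻¹ * g * P, ?_, by simp [he, mul_assoc]⟩
      rw [Cfsg.Geo.specialLinear, MonoidHom.mem_ker] at hg ⊢
      simp [hg]
  have hH : (Cfsg.Geo.subfieldSubgroup F₀ 1 ⊓ Cfsg.Geo.specialLinear (Fin n) F).map e =
      Cfsg.Geo.subfieldSubgroup F₀ P ⊓ Cfsg.Geo.specialLinear (Fin n) F := by
    rw [Subgroup.map_inf _ _ _ hinj, hS]
    congr 1
    rw [Cfsg.Geo.subfieldSubgroup, Cfsg.Geo.subfieldSubgroup, Subgroup.map_map]
    congr 1
    ext x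
    simp [he]
  have hcomap : ∀ A : Subgroup (Matrix.GeneralLinearGroup (Fin n) F), (A.map e).comap e = A := fun A =>
    Subgroup.comap_map_eq_self_of_injective hinj A
  have hback : ∀ A : Subgroup (Matrix.GeneralLinearGroup (Fin n) F), (A.comap e).map e = A := fun A =>
    Subgroup.map_comap_eq_self (by rw [MonoidHom.range_eq_top.2 (MulAut.conj P).surjective]; exact le_top)
  refine ⟨?_, fun M hM hMS => ?_⟩
  · rw [← hH]
    conv_rhs => rw [← hS]
    exact (Subgroup.map_lt_map_iff_of_injective hinj).2 h1.1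
  · rcases h1.2 (M.comap e) (by rw [← hcomap (_ ⊓ _), hH]; exact Subgroup.comap_mono hM)
      (by rw [← hcomap (Cfsg.Geo.specialLinear (Fin n) F), hS]; exact Subgroup.comap_mono hMS) with h | h
    · exact Or.inl (by rw [← hback M, h, hH])
    · exact Or.inr (by rw [← hback M, h, hS])

/-- Subfield groups are maximal in SL. -/
theorem isMaximalIn_subfield [Fintype F] {r : ℕ} (hr : r.Prime) (hcard : Fintype.card F = Nat.card F₀ ^ r)
    (hn : 5 ≤ n) (P : Matrix.GeneralLinearGroup (Fin n) F) :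
    Cfsg.Geo.IsMaximalIn (Cfsg.Geo.specialLinear (Fin n) F)
      (Cfsg.Geo.subfieldSubgroup F₀ P ⊓ Cfsg.Geo.specialLinear (Fin n) F) :=
  isMaximalIn_subfield_four hr hcard (by omega) P

end CfsgLib.Geo.SubfieldMax
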