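/-
Elements of order two modulo scalars of the special linear group and subfield subgroups.
-/
import Mathlib
import Cfsg.Prelude.Def_GeometricClasses
import Cfsg.Agent.Lib.Geo.InvolutionClasses
import Cfsg.Agent.Lib.Geo.SubfieldMaximal

namespace CfsgLib.Geo.InvClass

open Module Matrix

theorem card_SL_mul {F : Type*} [Field F] [Fintype F] {n : ℕ} (hn : 0 < n) :
    Nat.card (Matrix.SpecialLinearGroup (Fin n) F) * (Fintype.card F - 1) = Nat.card (GL (Fin n) F) := by
  classical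
  let d : GL (Fin n) F →* Fˣ := Matrix.GeneralLinearGroup.det
  have hsurj : Function.Surjective d := fun a => by
    refine ⟨Matrix.GeneralLinearGroup.mkOfDetNeZero
      (Matrix.diagonal (Function.update (fun _ => (1 : F)) (⟨0, hn⟩ : Fin n) a)) ?_, ?_⟩
    · rw [Matrix.det_diagonal, Finset.prod_update_of_mem (Finset.mem_univ _)]
      simp
    · refine Units.ext ?_
      show Matrix.det (Matrix.diagonal (Function.update (fun _ => (1 : F)) (⟨0, hn⟩ : Fin n) (a : F))) = a
      rw [Matrix.det_diagonal, Finset.prod_update_of_mem (Finset.mem_univ _)]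
      simp
  let e : Matrix.SpecialLinearGroup (Fin n) F ≃ d.ker :=
    { toFun := fun A => ⟨Matrix.SpecialLinearGroup.toGL A, MonoidHom.mem_ker.2 (Units.ext A.2)⟩
      invFun := fun g => ⟨(g.1 : Matrix (Fin n) (Fin n) F), congrArg Units.val (MonoidHom.mem_ker.1 g.2)⟩
      left_inv := fun A => rfl
      right_inv := fun g => Subtype.ext (Units.ext rfl) }
  rw [Nat.card_congr e, ← Subgroup.card_mul_index d.ker, Subgroup.index_ker, MonoidHom.range_eq_top.2 hsurj,
    Subgroup.card_top, Nat.card_units, Nat.card_eq_fintype_card (α := F)]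

variable {F : Type*} [Field F] [Fintype F]

theorem exists_pow_mul_odd {q₀ k : ℕ} (h0 : Odd q₀) (hk : Odd k) (n : ℕ) (i : ℕ) (hi : i < n) :
    ∃ S, Odd S ∧ (q₀ ^ k) ^ n - (q₀ ^ k) ^ i = (q₀ ^ n - q₀ ^ i) * S := by
  obtain ⟨j, rfl⟩ : ∃ j, n = i + j := ⟨n - i, by omega⟩
  obtain ⟨k', rfl⟩ : ∃ k', k = k' + 1 := ⟨k - 1, by have := hk.pos; omega⟩
  refine ⟨q₀ ^ (i * k') * ∑ l ∈ Finset.range (k' + 1), (q₀ ^ j) ^ l,
    (h0.pow).mul (Finset.odd_sum_iff_odd_card_odd _ |>.2 ?_), ?_⟩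
  · rw [Finset.filter_true_of_mem (fun l _ => h0.pow.pow), Finset.card_range]
    exact hk
  · have hg : (q₀ ^ j) ^ (k' + 1) - 1 = (q₀ ^ j - 1) * ∑ l ∈ Finset.range (k' + 1), (q₀ ^ j) ^ l := by
      have h1 : 1 ≤ q₀ ^ j := Nat.one_le_pow _ _ h0.pos
      have := geom_sum_mul_add (q₀ ^ j - 1) (k' + 1)
      rw [Nat.sub_add_cancel h1] at this
      rw [← this, Nat.add_sub_cancel, mul_comm]
    rw [show q₀ ^ (i + j) - q₀ ^ i = q₀ ^ i * (q₀ ^ j - 1) by rw [Nat.mul_sub, mul_one, pow_add],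
      show (q₀ ^ (k' + 1)) ^ (i + j) = (q₀ ^ (k' + 1)) ^ i * (q₀ ^ j) ^ (k' + 1) by
        rw [pow_add, ← pow_mul q₀ (k' + 1) j, ← pow_mul q₀ j, mul_comm (k' + 1) j],
      ← Nat.mul_sub_one, hg, ← pow_mul, show (k' + 1) * i = i + i * k' by ring, pow_add]
    ring

theorem index_subfield_odd {n : ℕ} (hn : 0 < n) (F₀ : Subfield F) {k : ℕ} (hk : Odd k)
    (hodd : Odd (Nat.card ↥F₀)) (hcard : Fintype.card F = Nat.card ↥F₀ ^ k) :
    Odd ((Cfsg.Geo.subfieldSubgroup F₀ 1).comap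
      (Matrix.SpecialLinearGroup.toGL : Matrix.SpecialLinearGroup (Fin n) F →* GL (Fin n) F)).index := by
  classical
  haveI : Fintype F₀ := Fintype.ofFinite _
  set ι : Matrix.SpecialLinearGroup (Fin n) F₀ →* Matrix.SpecialLinearGroup (Fin n) F :=
    Matrix.SpecialLinearGroup.map (F₀.subtype : F₀ →+* F)
  have hle : ι.range ≤ (Cfsg.Geo.subfieldSubgroup F₀ 1).comap Matrix.SpecialLinearGroup.toGL := by
    rintro _ ⟨A, rfl⟩
    refine CfsgLib.Geo.SubfieldMax.mem_subfieldSubgroup_one one_ne_zero fun i j => ?_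
    rw [div_one]
    exact (A.1 i j).2
  have hinj : Function.Injective ι := fun A B h => Subtype.ext (Matrix.map_injective
    (Subtype.val_injective) (congrArg Subtype.val h))
  have hidx := Subgroup.card_mul_index ι.range
  rw [Nat.card_congr (MonoidHom.ofInjective hinj).toEquiv.symm] at hidx
  refine Odd.of_dvd_nat ?_ (Subgroup.index_dvd_of_le hle)
  set q₀ := Nat.card ↥F₀ with hq₀
  have hq₀' : Fintype.card ↥F₀ = q₀ := by rw [hq₀, Nat.card_eq_fintype_card]
  have h1 := card_SL_mul (F := F) hn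
  have h0 := card_SL_mul (F := F₀) hn
  rw [Matrix.card_GL_field] at h1 h0
  choose S hS hS' using fun i : Fin n => exists_pow_mul_odd hodd hk n i.1 i.2
  rw [hcard, Finset.prod_congr rfl (fun i _ => hS' i), Finset.prod_mul_distrib] at h1
  rw [hq₀'] at h0
  rw [← h0, ← hidx] at h1
  obtain ⟨S1, hS1, hS1'⟩ := exists_pow_mul_odd hodd hk 1 0 one_pos
  simp only [pow_one, pow_zero] at hS1'
  rw [hS1'] at h1
  have hpos : 0 < Nat.card (Matrix.SpecialLinearGroup (Fin n) F₀) * (q₀ - 1) := by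
    refine Nat.mul_pos Nat.card_pos ?_
    have : 1 < q₀ := Finite.one_lt_card
    omega
  have h2 : ι.range.index * S1 = ∏ i, S i := Nat.eq_of_mul_eq_mul_left hpos (by rw [← h1]; ring)
  have hodd' : Odd (∏ i, S i) := Finset.prod_induction _ Odd (fun a b ha hb => ha.mul hb) odd_one fun i _ => hS i
  rw [← h2, Nat.odd_mul] at hodd'
  exact hodd'.1

/-- A monomial shape with entries in a line over the subfield gives conjugation into the subfield subgroup. -/
theorem exists_conj_subfield {n : ℕ} (F₀ : Subfield F) {ι : Type*} [Fintype ι] (X : GL (Fin n) F)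
    (b : Basis ι F (Fin n → F)) {l : F} (hl : l ≠ 0)
    (h : ∀ p, ∃ p' : ι, ∃ a ∈ F₀, (X : Matrix (Fin n) (Fin n) F) *ᵥ b p = (l * a) • b p') :
    ∃ P : GL (Fin n) F, P⁻¹ * X * P ∈ Cfsg.Geo.subfieldSubgroup F₀ 1 := by
  classical
  let e : Fin n ≃ ι := (finCongr (by
    have := finrank_eq_card_basis b
    rwa [finrank_pi, Fintype.card_fin] at this)).trans (Fintype.equivFin ι).symm
  obtain ⟨P, hP⟩ := exists_basis_change (Pi.basisFun F (Fin n)) (b.reindex e.symm)
  refine ⟨P, CfsgLib.Geo.SubfieldMax.mem_subfieldSubgroup_one hl fun i j => ?_⟩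
  obtain ⟨p', a, ha, hpa⟩ := h (e j)
  have hPj : ∀ j, (P : Matrix (Fin n) (Fin n) F) *ᵥ Pi.single j 1 = b (e j) := fun j => by
    have := hP j
    rwa [Pi.basisFun_apply, Basis.reindex_apply, Equiv.symm_symm] at this
  have hcol : ((P⁻¹ * X * P : GL (Fin n) F) : Matrix (Fin n) (Fin n) F) *ᵥ Pi.single j 1 =
      (l * a) • Pi.single (e.symm p') 1 := by
    rw [Units.val_mul, Units.val_mul, ← Matrix.mulVec_mulVec, hPj, ← Matrix.mulVec_mulVec, hpa,
      Matrix.mulVec_smul, ← e.apply_symm_apply p', ← hPj, Matrix.mulVec_mulVec, ← Units.val_mul, inv_mul_cancel,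
      Units.val_one, Matrix.one_mulVec, Equiv.symm_apply_apply]
  have hij := congrFun hcol i
  rw [Matrix.mulVec_single_one, Matrix.col_apply, Pi.smul_apply, smul_eq_mul] at hij
  rw [hij]
  by_cases hi : i = e.symm p'
  · rw [hi, Pi.single_eq_same, mul_one, mul_div_cancel_left₀ _ hl]
    exact ha
  · rw [Pi.single_eq_of_ne hi, mul_zero, zero_div]
    exact F₀.zero_mem

theorem involution_subfield {n : ℕ} (hn : 0 < n) (F₀ : Subfield F) (x : Matrix.SpecialLinearGroup (Fin n) F) {z : F}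
    (hx : ((x ^ 2 : Matrix.SpecialLinearGroup (Fin n) F) : Matrix (Fin n) (Fin n) F) = z • 1)
    (hc : (2 : F) ≠ 0 → IsSquare (-1 : F) ∧ padicValNat 2 n ≤ padicValNat 2 (Fintype.card F - 1)) :
    ∃ P : GL (Fin n) F, P⁻¹ * Matrix.SpecialLinearGroup.toGL x * P ∈ Cfsg.Geo.subfieldSubgroup F₀ 1 := by
  classical
  haveI := Fact.mk Nat.prime_two
  haveI : Nonempty (Fin n) := ⟨⟨0, hn⟩⟩
  set A : Matrix (Fin n) (Fin n) F := x.1 with hA
  have hAA : A * A = z • 1 := by rw [← hx, pow_two]; rfl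
  have hz : z ≠ 0 := by
    rintro rfl
    have := congrArg Matrix.det hAA
    rw [Matrix.det_mul, zero_smul, Matrix.det_zero, x.2, one_mul] at this
    exact one_ne_zero this
  set T := Matrix.toLin' A with hT
  have hTT : ∀ v, T (T v) = z • v := fun v => by
    rw [hT, Matrix.toLin'_apply, Matrix.toLin'_apply, Matrix.mulVec_mulVec, hAA, Matrix.smul_mulVec, Matrix.one_mulVec]
  obtain ⟨k, r, b, h0, h1, hr⟩ := exists_pair_basis_norm T z hz hTT
  obtain ⟨c, hc'⟩ : ∃ c : F, c * c = z := by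
    by_contra hsq
    push Not at hsq
    have h2 : (2 : F) ≠ 0 := fun h => by
      obtain ⟨c, hc⟩ := FiniteField.isSquare_of_char_two
        (ringChar.eq_iff.2 (CharTwo.of_one_ne_zero_of_two_eq_zero one_ne_zero h)) z
      exact hsq c hc.symm
    obtain ⟨hneg, hv⟩ := hc h2
    obtain ⟨hdvd, hdet, -⟩ := CfsgLib.Geo.PrimeAct.nonpower (r := 2) T z (fun d hd => hsq d (by rw [← hd]; ring))
      (LinearMap.ext fun v => by simp [pow_two, Module.End.mul_apply, hTT])
    rw [hT, LinearMap.det_toLin', finrank_pi, Fintype.card_fin, show A.det = 1 from x.2] at hdet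
    rw [finrank_pi, Fintype.card_fin] at hdvd
    obtain ⟨m, hm⟩ := hdvd
    have hr1 : 2 ∣ Fintype.card F - 1 := by
      have := FiniteField.odd_card_of_char_ne_two (F := F) (fun h => h2 (by
        haveI : CharP F 2 := h ▸ ringChar.charP F
        exact CharTwo.two_eq_zero))
      omega
    rw [hm, Nat.mul_div_cancel_left _ two_pos] at hdet
    rw [hm, padicValNat.mul two_ne_zero (by omega), padicValNat_self] at hv
    obtain ⟨d, hd⟩ := CfsgLib.Geo.PrimeAct.exists_root_of_pow_eq_one (r := 2) hr1 (k := m) (by omega) (by omega)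
      hdet.symm
    obtain ⟨i, hi⟩ := hneg
    exact hsq (i * d) (by linear_combination (-1 : F) * d ^ 2 * hi - hd)
  have hc0 : c ≠ 0 := fun h => hz (by rw [← hc', h, mul_zero])
  let w : (Fin k × Fin 2) ⊕ Fin r → Fˣ := Sum.elim (fun p => if p.2 = 0 then 1 else (Units.mk0 c hc0)⁻¹) fun _ => 1
  refine exists_conj_subfield F₀ _ (b.unitsSMul w) hc0 fun p => ?_
  rcases p with ⟨i, s⟩ | i
  · fin_cases s
    · refine ⟨Sum.inl (i, 1), 1, F₀.one_mem, ?_⟩
      show A *ᵥ _ = _
      rw [← Matrix.toLin'_apply, ← hT, Basis.unitsSMul_apply, Basis.unitsSMul_apply]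
      simp [w, h0, Units.smul_def, smul_smul, hc0]
    · refine ⟨Sum.inl (i, 0), 1, F₀.one_mem, ?_⟩
      show A *ᵥ _ = _
      rw [← Matrix.toLin'_apply, ← hT, Basis.unitsSMul_apply, Basis.unitsSMul_apply]
      simp [w, h1, Units.smul_def, smul_smul, ← hc', hc0]
  · obtain ⟨d, hd, hdb⟩ := hr i
    refine ⟨Sum.inr i, d / c, ?_, ?_⟩
    · rcases mul_self_eq_mul_self_iff.1 (hd.trans hc'.symm) with rfl | rfl
      · rw [div_self hc0]; exact F₀.one_mem
      · rw [neg_div, div_self hc0]; exact F₀.neg_mem F₀.one_mem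
    · show A *ᵥ _ = _
      rw [← Matrix.toLin'_apply, ← hT, Basis.unitsSMul_apply]
      simp [w, hdb, mul_div_cancel₀ _ hc0]

theorem exists_no_subfield {n : ℕ} (hn : 0 < n) (F₀ : Subfield F) (hodd : Odd (Nat.card ↥F₀))
    (hcard : Fintype.card F = Nat.card ↥F₀ ^ 2) (hv : padicValNat 2 (Fintype.card F - 1) < padicValNat 2 n) :
    ∃ (x : Matrix.SpecialLinearGroup (Fin n) F) (z : F),
      ((x ^ 2 : Matrix.SpecialLinearGroup (Fin n) F) : Matrix (Fin n) (Fin n) F) = z • 1 ∧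
      (∀ a : F, (x : Matrix (Fin n) (Fin n) F) ≠ a • 1) ∧
      ∀ P : GL (Fin n) F, P⁻¹ * Matrix.SpecialLinearGroup.toGL x * P ∉ Cfsg.Geo.subfieldSubgroup F₀ 1 := by
  classical
  haveI := Fact.mk Nat.prime_two
  haveI : Nonempty (Fin n) := ⟨⟨0, hn⟩⟩
  set q₀ := Nat.card ↥F₀
  obtain ⟨t, ht⟩ := hodd
  have hq : Fintype.card F - 1 = (q₀ - 1) * (q₀ + 1) := by
    rw [hcard, ht, Nat.add_sub_cancel]
    ring_nf
    omega
  have hR : ringChar F ≠ 2 := fun h => by
    have := FiniteField.even_card_of_char_two h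
    rw [hcard, ht] at this
    have h' : (2 * t + 1) ^ 2 = 2 * (2 * t * t + 2 * t) + 1 := by ring
    omega
  have h2 : (2 : F) ≠ 0 := fun h => hR (ringChar.eq_iff.2 (CharTwo.of_one_ne_zero_of_two_eq_zero one_ne_zero h))
  have hsub : ∀ w ∈ F₀, w ≠ 0 → IsSquare w := fun w hw hw0 => by
    rw [FiniteField.isSquare_iff hR hw0]
    haveI : Fintype F₀ := Fintype.ofFinite _
    have h1 : (⟨w, hw⟩ : F₀) ^ (q₀ - 1) = 1 := by
      rw [show q₀ = Fintype.card F₀ from Nat.card_eq_fintype_card]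
      exact FiniteField.pow_card_sub_one_eq_one _ (fun h => hw0 (congrArg Subtype.val h))
    rw [show Fintype.card F / 2 = (q₀ - 1) * (t + 1) by
      rw [hcard, ht, Nat.add_sub_cancel, show (2 * t + 1) ^ 2 = 2 * (2 * t * t + 2 * t) + 1 by ring,
        show 2 * t * (t + 1) = 2 * t * t + 2 * t by ring]
      omega, pow_mul, show w ^ (q₀ - 1) = 1 from congrArg Subtype.val h1, one_pow]
  have hneg : IsSquare (-1 : F) := hsub _ (F₀.neg_mem F₀.one_mem) (neg_ne_zero.2 one_ne_zero)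
  obtain ⟨m, hm⟩ : 2 ∣ n := by
    by_contra h
    rw [padicValNat.eq_zero_of_not_dvd h] at hv
    omega
  have hm0 : 0 < m := by omega
  rw [hm, padicValNat.mul two_ne_zero hm0.ne', padicValNat_self] at hv
  obtain ⟨e, he, hen⟩ := CfsgLib.Geo.PrimeAct.exists_nonpower (F := F) (r := 2) (by
      have := FiniteField.odd_card_of_char_ne_two (F := F) hR
      omega) (k := m) (by omega)
  set z := -e with hz
  let φ : Fin n ≃ Fin 2 × Fin m := (finCongr hm).trans finProdFinEquiv.symm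
  let M : Matrix (Fin n) (Fin n) F :=
    (Matrix.blockDiagonal fun _ : Fin m => !![(0 : F), z; 1, 0]).submatrix φ φ
  have hdet : M.det = 1 := by
    rw [Matrix.det_submatrix_equiv_self, Matrix.det_blockDiagonal]
    simp [Matrix.det_fin_two, hz, he]
  have hMM : M * M = z • 1 := by
    rw [Matrix.submatrix_mul_equiv, ← Matrix.blockDiagonal_mul]
    ext i j
    simp only [Matrix.submatrix_apply, Matrix.blockDiagonal_apply, Matrix.smul_apply, Matrix.one_apply]
    rw [show (!![(0 : F), z; 1, 0] * !![(0 : F), z; 1, 0]) = !![z, 0; 0, z] by simp]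
    by_cases hij : i = j
    · subst hij
      generalize (φ i).1 = a
      fin_cases a <;> simp
    · rw [if_neg hij]
      split_ifs with h
      · generalize ha : (φ i).1 = a
        generalize hb : (φ j).1 = b
        fin_cases a <;> fin_cases b <;> simp
        all_goals exact absurd (φ.injective (Prod.ext (ha.trans hb.symm) h)) hij
      · simp
  let x : Matrix.SpecialLinearGroup (Fin n) F := ⟨M, hdet⟩
  have hzne : ¬ IsSquare z := by
    rintro ⟨d, hd⟩
    obtain ⟨i, hi⟩ := hneg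
    exact hen (i * d) (by linear_combination (-(d ^ 2)) * hi + hd + hz)
  refine ⟨x, z, by rw [pow_two]; exact hMM, fun a ha => hzne ⟨a, ?_⟩, fun P hP => ?_⟩
  · have : M * M = (a * a) • 1 := by
      rw [show M = a • 1 from ha, smul_mul_smul_comm, mul_one]
    rw [hMM] at this
    have := congrFun (congrFun this ⟨0, hn⟩) ⟨0, hn⟩
    simpa using this
  · obtain ⟨g', hg', he'⟩ := hP
    have he1 : g' = P⁻¹ * Matrix.SpecialLinearGroup.toGL x * P := by simpa using he'
    obtain ⟨_, ⟨A₀, rfl⟩, c, hc, rfl⟩ := Subgroup.mem_sup_of_normal_right.1 hg'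
    obtain ⟨s, hs⟩ := (Cfsg.Geo.mem_scalars_iff c).1 hc
    set A₁ : Matrix (Fin n) (Fin n) F := (A₀ : Matrix (Fin n) (Fin n) F₀).map F₀.subtype
    have hY : ((P⁻¹ * Matrix.SpecialLinearGroup.toGL x * P : GL (Fin n) F) : Matrix (Fin n) (Fin n) F) =
        (s : F) • A₁ := by
      rw [← he1, Units.val_mul, hs, Matrix.mul_smul, Matrix.mul_one]
      rfl
    have hsq : ((s : F) * s) • (A₁ * A₁) = z • 1 := by
      rw [← smul_mul_smul_comm, ← hY, ← Units.val_mul,
        show P⁻¹ * Matrix.SpecialLinearGroup.toGL x * P * (P⁻¹ * Matrix.SpecialLinearGroup.toGL x * P) =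
          P⁻¹ * (Matrix.SpecialLinearGroup.toGL x * Matrix.SpecialLinearGroup.toGL x) * P by group,
        Units.val_mul, Units.val_mul, Units.val_mul]
      show _ * (M * M) * _ = _
      rw [hMM, mul_smul_comm, mul_one, smul_mul_assoc, ← Units.val_mul, inv_mul_cancel, Units.val_one]
    have h00 := congrFun (congrFun hsq ⟨0, hn⟩) ⟨0, hn⟩
    simp only [Matrix.smul_apply, Matrix.one_apply_eq, smul_eq_mul, mul_one] at h00
    have hw : (A₁ * A₁) ⟨0, hn⟩ ⟨0, hn⟩ ∈ F₀ := by
      rw [← Matrix.map_mul]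
      exact (((A₀ : Matrix (Fin n) (Fin n) F₀) * A₀) ⟨0, hn⟩ ⟨0, hn⟩).2
    have hz0 : z ≠ 0 := fun h => hzne (h ▸ IsSquare.zero)
    obtain ⟨d, hd⟩ := hsub _ hw (fun h => hz0 (by rw [← h00, h, mul_zero]))
    exact hzne ⟨s * d, by rw [← h00, hd]; ring⟩

end CfsgLib.Geo.InvClass
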