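/-
Constructions of linear maps of prime order and the count of subspaces.
-/
import Cfsg.Agent.Lib.Geo.PrimeOrderNonPower

namespace CfsgLib.Geo.PrimeAct

open Module Polynomial

variable {F : Type*} [Field F] {r : ℕ} [Fact r.Prime]

omit [Fact r.Prime] in
theorem conj_pow_apply {V W : Type*} [AddCommGroup V] [Module F V] [AddCommGroup W] [Module F W] (e : V ≃ₗ[F] W)
    (f : V →ₗ[F] V) (k : ℕ) (v : V) :
    ((e.toLinearMap ∘ₗ f ∘ₗ e.symm.toLinearMap) ^ k) (e v) = e ((f ^ k) v) := by
  induction k with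
  | zero => rfl
  | succ k ih =>
    rw [pow_succ', pow_succ', Module.End.mul_apply, Module.End.mul_apply, ih]
    simp

omit [Fact r.Prime] in
theorem natCast_ne_zero_of_ringChar {p : ℕ} [Fact p.Prime] [CharP F p] (hr : r.Prime) (hrp : r ≠ p) : (r : F) ≠ 0 :=
  fun h => hrp ((Nat.prime_dvd_prime_iff_eq (Fact.out : p.Prime) hr).1 ((CharP.cast_eq_zero_iff F p r).1 h)).symm

variable [Finite F]

omit [Fact r.Prime] in
theorem card_GL_dvd (i : ℕ) (hi : 0 < i) : Nat.card F ^ i - 1 ∣ Nat.card (GL (Fin i) F) := by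
  haveI := Fintype.ofFinite F
  rw [Matrix.card_GL_field, ← Nat.card_eq_fintype_card]
  exact (by simp : Nat.card F ^ i - 1 ∣ Nat.card F ^ i - Nat.card F ^ ((⟨0, hi⟩ : Fin i) : ℕ)).trans
    (Finset.dvd_prod_of_mem _ (Finset.mem_univ _))

theorem exists_free_order (hrF : (r : F) ≠ 0) (hi : 0 < orderOf (Nat.card F : ZMod r)) :
    ∃ f : (Fin (orderOf (Nat.card F : ZMod r)) → F) →ₗ[F] (Fin (orderOf (Nat.card F : ZMod r)) → F),
      f ^ r = 1 ∧ ∀ v, f v = v → v = 0 := by
  set i := orderOf (Nat.card F : ZMod r)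
  have h1 : r ∣ Nat.card F ^ i - 1 := by
    rw [← ZMod.natCast_eq_zero_iff, Nat.cast_sub (Nat.one_le_pow _ _ Nat.card_pos), Nat.cast_pow, Nat.cast_one,
      pow_orderOf_eq_one, sub_self]
  haveI : Finite (GL (Fin i) F) := inferInstance
  obtain ⟨y, hy⟩ := exists_prime_orderOf_dvd_card' r (h1.trans (card_GL_dvd i hi))
  let f := Matrix.toLinAlgEquiv' (y : Matrix (Fin i) (Fin i) F)
  have hf : f ^ r = 1 := by
    rw [← map_pow, ← Units.val_pow_eq_pow_val, ← hy, pow_orderOf_eq_one, Units.val_one, map_one]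
  have hne : fixSp f ≠ ⊤ := by
    intro ht
    have : f = 1 := LinearMap.ext fun v => mem_fixSp.1 (ht ▸ Submodule.mem_top)
    have h2 : y = 1 := Units.ext (Matrix.toLinAlgEquiv'.injective (this.trans (map_one _).symm))
    rw [h2, orderOf_one] at hy
    exact (Fact.out : r.Prime).ne_one hy.symm
  refine ⟨f, hf, fun v hv => ?_⟩
  have hsplit := finrank_split hf hrF ⊤ fun v _ => Submodule.mem_top
  have hd := orderOf_dvd_rest hf hrF
  have hlt := Submodule.finrank_lt hne
  rw [finrank_pi, Fintype.card_fin] at hlt hd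
  have hle := Nat.le_of_dvd (by omega) hd
  have h0 : fixSp f = ⊥ := Submodule.finrank_eq_zero.1 (by omega)
  exact (Submodule.mem_bot F).1 (h0 ▸ mem_fixSp.2 hv)

theorem exists_order_fix (hrF : (r : F) ≠ 0) (hi : 0 < orderOf (Nat.card F : ZMod r)) (n k : ℕ)
    (hk : k * orderOf (Nat.card F : ZMod r) ≤ n) :
    ∃ f : (Fin n → F) →ₗ[F] (Fin n → F), f ^ r = 1 ∧
      finrank F (fixSp f) + k * orderOf (Nat.card F : ZMod r) = n := by
  obtain ⟨g, hg, hgfree⟩ := exists_free_order (F := F) hrF hi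
  let i := orderOf (Nat.card F : ZMod r)
  have hk : k * i ≤ n := hk
  let V := (Fin k → (Fin i → F)) × (Fin (n - k * i) → F)
  have hdim : finrank F V = finrank F (Fin n → F) := by
    simp [V, Module.finrank_prod, Module.finrank_pi_fintype]
    omega
  let e : V ≃ₗ[F] (Fin n → F) := LinearEquiv.ofFinrankEq _ _ hdim
  let h : V →ₗ[F] V := (LinearMap.pi fun j => g.comp (LinearMap.proj j)).prodMap LinearMap.id
  have hh : ∀ (m : ℕ) (x : V), (h ^ m) x = (fun j => (g ^ m) (x.1 j), x.2) := fun m => by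
    induction m with
    | zero => exact fun _ => rfl
    | succ m ih => intro x; rw [pow_succ', Module.End.mul_apply, ih, pow_succ']; rfl
  refine ⟨e.toLinearMap ∘ₗ h ∘ₗ e.symm.toLinearMap, LinearMap.ext fun v => ?_, ?_⟩
  · obtain ⟨x, rfl⟩ := e.surjective v
    rw [conj_pow_apply, hh, hg]
    rfl
  · have : fixSp (e.toLinearMap ∘ₗ h ∘ₗ e.symm.toLinearMap) =
        LinearMap.range (e.toLinearMap ∘ₗ LinearMap.inr F (Fin k → (Fin i → F)) (Fin (n - k * i) → F)) := by
      ext v
      obtain ⟨x, rfl⟩ := e.surjective v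
      rw [mem_fixSp]
      simp only [LinearMap.mem_range, LinearMap.comp_apply, LinearEquiv.coe_coe, LinearEquiv.symm_apply_apply,
        EmbeddingLike.apply_eq_iff_eq]
      constructor
      · intro hx
        refine ⟨x.2, Prod.ext (funext fun j => ?_) rfl⟩
        exact (hgfree _ (congrFun (congrArg Prod.fst hx) j)).symm
      · rintro ⟨y, rfl⟩
        exact Prod.ext (funext fun j => map_zero g) rfl
    have hinj : Function.Injective (e.toLinearMap ∘ₗ LinearMap.inr F (Fin k → (Fin i → F)) (Fin (n - k * i) → F)) :=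
      e.injective.comp LinearMap.inr_injective
    rw [this, LinearMap.finrank_range_of_inj hinj, finrank_pi, Fintype.card_fin]
    show n - k * i + k * i = n
    omega

omit [Finite F] in
theorem exists_nonpower_map {c : F} (hc : ∀ d, d ^ r ≠ c) {n : ℕ} (hn : r ∣ n) :
    ∃ f : (Fin n → F) →ₗ[F] (Fin n → F), f ^ r = c • (1 : (Fin n → F) →ₗ[F] (Fin n → F)) := by
  have hrp : r.Prime := Fact.out
  let g : F[X] := X ^ r - C c
  have hg : Irreducible g := X_pow_sub_C_irreducible_of_prime hrp hc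
  haveI := Fact.mk hg
  obtain ⟨k, rfl⟩ := hn
  let V := Fin k → AdjoinRoot g
  haveI : Module.Finite F (AdjoinRoot g) := (AdjoinRoot.powerBasis hg.ne_zero).finite
  have hdim : finrank F V = finrank F (Fin (r * k) → F) := by
    rw [Module.finrank_pi_fintype, finrank_pi, Fintype.card_fin, (AdjoinRoot.powerBasis hg.ne_zero).finrank,
      AdjoinRoot.powerBasis_dim, natDegree_X_pow_sub_C]
    simp [mul_comm]
  let e : V ≃ₗ[F] (Fin (r * k) → F) := LinearEquiv.ofFinrankEq _ _ hdim
  let h : V →ₗ[F] V := LinearMap.pi fun j => (LinearMap.mulLeft F (AdjoinRoot.root g)).comp (LinearMap.proj j)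
  have hh : ∀ (m : ℕ) (x : V) (j : Fin k), (h ^ m) x j = AdjoinRoot.root g ^ m * x j := fun m => by
    induction m with
    | zero => intro x j; simp
    | succ m ih => intro x j; rw [pow_succ', Module.End.mul_apply, pow_succ', mul_assoc, ← ih]; rfl
  have hroot : AdjoinRoot.root g ^ r = algebraMap F (AdjoinRoot g) c := by
    have h0 := AdjoinRoot.mk_self (f := g)
    rw [show AdjoinRoot.mk g g = AdjoinRoot.mk g (X ^ r - C c) from rfl, map_sub, map_pow, AdjoinRoot.mk_X,
      AdjoinRoot.mk_C, sub_eq_zero] at h0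
    rw [h0, AdjoinRoot.algebraMap_eq]
  refine ⟨e.toLinearMap ∘ₗ h ∘ₗ e.symm.toLinearMap, LinearMap.ext fun v => ?_⟩
  obtain ⟨x, rfl⟩ := e.surjective v
  rw [conj_pow_apply, LinearMap.smul_apply, Module.End.one_apply, ← map_smul]
  congr 1
  funext j
  rw [hh, hroot, ← Algebra.smul_def]
  rfl

theorem card_subspaces_mul (n m : ℕ) (hm : m ≤ n) :
    Nat.card {W : Submodule F (Fin n → F) // finrank F W = m} * ∏ j : Fin m, (Nat.card F ^ m - Nat.card F ^ (j : ℕ)) =
      ∏ j : Fin m, (Nat.card F ^ n - Nat.card F ^ (j : ℕ)) := by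
  classical
  haveI := Fintype.ofFinite F
  haveI : Finite (Fin n → F) := inferInstance
  haveI : Finite (Submodule F (Fin n → F)) := Finite.of_injective (fun W => (W : Set (Fin n → F))) SetLike.coe_injective
  haveI := Fintype.ofFinite {W : Submodule F (Fin n → F) // finrank F W = m}
  let Φ : (Σ W : {W : Submodule F (Fin n → F) // finrank F W = m}, {s : Fin m → W.1 // LinearIndependent F s}) →
      {s : Fin m → Fin n → F // LinearIndependent F s} :=
    fun x => ⟨fun j => (x.2.1 j : Fin n → F), x.2.2.map' x.1.1.subtype (Submodule.ker_subtype _)⟩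
  have hspan : ∀ x, x.1.1 = Submodule.span F (Set.range (Φ x).1) := fun x => by
    refine (Submodule.eq_of_le_of_finrank_eq (Submodule.span_le.2 ?_) ?_).symm
    · rintro _ ⟨j, rfl⟩; exact (x.2.1 j).2
    · rw [finrank_span_eq_card (Φ x).2, Fintype.card_fin, x.1.2]
  have hΦ : Function.Bijective Φ := by
    refine ⟨fun x y h => ?_, fun s => ?_⟩
    · obtain ⟨⟨W, hW⟩, s, hs⟩ := x
      obtain ⟨⟨W', hW'⟩, s', hs'⟩ := y
      obtain rfl : W = W' := (hspan _).trans ((congrArg (fun z => Submodule.span F (Set.range z.1)) h).trans (hspan _).symm)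
      refine Sigma.ext rfl (heq_of_eq (Subtype.ext (funext fun j => Subtype.ext ?_)))
      exact congrFun (congrArg Subtype.val h) j
    · refine ⟨⟨⟨Submodule.span F (Set.range s.1), by rw [finrank_span_eq_card s.2, Fintype.card_fin]⟩,
        ⟨fun j => ⟨s.1 j, Submodule.subset_span ⟨j, rfl⟩⟩, ?_⟩⟩, rfl⟩
      exact LinearIndependent.of_comp (Submodule.subtype _) s.2
  have h := Nat.card_eq_of_bijective Φ hΦ
  rw [Nat.card_sigma, card_linearIndependent (by rw [finrank_pi, Fintype.card_fin]; exact hm)] at h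
  simp only [finrank_pi, ← Nat.card_eq_fintype_card, Nat.card_fin] at h
  rw [← h]
  have hc : ∀ W : {W : Submodule F (Fin n → F) // finrank F W = m},
      Nat.card {s : Fin m → W.1 // LinearIndependent F s} = ∏ j : Fin m, (Nat.card F ^ m - Nat.card F ^ (j : ℕ)) :=
    fun W => by rw [card_linearIndependent W.2.ge, W.2, Nat.card_eq_fintype_card]
  simp only [hc, Finset.sum_const, Finset.card_univ, smul_eq_mul, ← Nat.card_eq_fintype_card]

/-- A prime dividing the number of subspaces. -/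
theorem prime_dvd_count {p : ℕ} [Fact p.Prime] [CharP F p] (n m : ℕ) (hm : m ≤ n)
    (h : r ∣ Nat.card {W : Submodule F (Fin n → F) // finrank F W = m}) :
    r ≠ p ∧ ∃ j < m, orderOf (Nat.card F : ZMod r) ∣ n - j := by
  haveI := Fintype.ofFinite F
  have hid := card_subspaces_mul (F := F) n m hm
  set Q := Nat.card F
  have hQ1 : 1 < Q := Finite.one_lt_card
  have hfac : ∀ a, m ≤ a → ∏ j : Fin m, (Q ^ a - Q ^ (j : ℕ)) = (∏ j : Fin m, Q ^ (j : ℕ)) * ∏ j : Fin m, (Q ^ (a - j) - 1) := by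
    intro a ha
    rw [← Finset.prod_mul_distrib]
    refine Finset.prod_congr rfl fun j _ => ?_
    rw [Nat.mul_sub, mul_one, ← pow_add, Nat.add_sub_cancel' (by omega)]
  rw [hfac m le_rfl, hfac n hm, mul_left_comm] at hid
  have hid' := Nat.eq_of_mul_eq_mul_left (Finset.prod_pos fun j _ => pow_pos (by omega) _) hid
  set N := Nat.card {W : Submodule F (Fin n → F) // finrank F W = m}
  have hrp : r ≠ p := by
    rintro rfl
    obtain ⟨f, -, hf⟩ := FiniteField.card F r
    have hQ : (Q : ZMod r) = 0 := by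
      rw [show Q = Fintype.card F from Nat.card_eq_fintype_card, hf, Nat.cast_pow, ZMod.natCast_self, zero_pow f.ne_zero]
    have h1 : ∀ a, m ≤ a → ((∏ j : Fin m, (Q ^ (a - j) - 1) : ℕ) : ZMod r) = (-1) ^ m := by
      intro a ha
      rw [Nat.cast_prod, Finset.prod_congr rfl (g := fun _ => (-1 : ZMod r)), Finset.prod_const, Finset.card_univ,
        Fintype.card_fin]
      intro j _
      rw [Nat.cast_sub (Nat.one_le_pow _ _ (by omega)), Nat.cast_pow, hQ, zero_pow (by omega), Nat.cast_one, zero_sub]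
    have h2 := congrArg (Nat.cast : ℕ → ZMod r) hid'
    rw [Nat.cast_mul, h1 m le_rfl, h1 n hm, (ZMod.natCast_eq_zero_iff N r).2 h, zero_mul] at h2
    exact (pow_ne_zero m (neg_ne_zero.2 (one_ne_zero (α := ZMod r)))) h2.symm
  refine ⟨hrp, ?_⟩
  obtain ⟨j, -, hj⟩ := (Prime.dvd_finsetProd_iff (Fact.out : r.Prime).prime _).1
    (show r ∣ ∏ j : Fin m, (Q ^ (n - j) - 1) from hid' ▸ h.mul_right _)
  refine ⟨j, j.2, orderOf_dvd_of_pow_eq_one ?_⟩
  rw [← ZMod.natCast_eq_zero_iff, Nat.cast_sub (Nat.one_le_pow _ _ (by omega)), Nat.cast_pow, Nat.cast_one, sub_eq_zero] at hj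
  exact hj

end CfsgLib.Geo.PrimeAct
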