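/-
Elements of odd prime order of the special linear group preserving no alternating form up to a scalar.
-/
import Mathlib
import Cfsg.Prelude.Def_GeometricClasses
import Cfsg.Agent.Lib.Geo.InvolutionClasses
import Cfsg.Agent.Lib.Geo.InvolutionSubfield
import Cfsg.Agent.Lib.Geo.PrimeOrderConstruct
import Cfsg.Agent.Lib.Classical.Symplectic.Matrix
import Cfsg.Agent.Lib.Classical.Symplectic.Geometry

namespace CfsgLib.Geo.DerangeAlt

open Module Matrix CfsgLib.Geo.PrimeAct

variable {F : Type*} [Field F] {n : ℕ}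

theorem exists_bilin {f : (Fin n → F) → (Fin n → F) → F} (hf : Cfsg.Geo.IsSymplecticForm f) :
    ∃ B : LinearMap.BilinForm F (Fin n → F), (∀ u v, B u v = f u v) ∧ B.IsAlt ∧ B.Nondegenerate := by
  let B : LinearMap.BilinForm F (Fin n → F) :=
    LinearMap.mk₂ F f hf.bilinear.add_left (fun c x v => by rw [hf.bilinear.smul_left, smul_eq_mul])
      hf.bilinear.add_right (fun c v x => by rw [hf.bilinear.smul_right, smul_eq_mul])
  refine ⟨B, fun u v => rfl, fun v => hf.alternating v, fun u h => ?_, fun u h => ?_⟩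
  · by_contra hu
    obtain ⟨w, hw⟩ := (hf.nondegenerate u hu).2
    exact hw (h w)
  · by_contra hu
    obtain ⟨w, hw⟩ := (hf.nondegenerate u hu).1
    exact hw (h w)

theorem even_finrank_of_nondeg {V : Type*} [AddCommGroup V] [Module F V] [FiniteDimensional F V]
    (B : LinearMap.BilinForm F V) (hA : B.IsAlt) (hn : ∀ u, (∀ v, B u v = 0) → u = 0) : Even (finrank F V) := by
  have hB : B.Nondegenerate := ⟨hn, fun u h => hn u fun v => by
    rw [← LinearMap.IsAlt.neg hA v u, h v, neg_zero]⟩
  obtain ⟨m, -, -, hm⟩ := CfsgLib.Classical.Symp.exists_sympSys hA hB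
  exact ⟨m, by omega⟩

/-- Eigenclasses of a similitude have the size of their partners. -/
theorem card_class_le {f : (Fin n → F) → (Fin n → F) → F} (hf : Cfsg.Geo.IsSymplecticForm f)
    (e : Basis (Fin n) F (Fin n → F)) (d : Fin n → F) (μ : F)
    (hrel : ∀ i j, d i * d j * f (e i) (e j) = μ * f (e i) (e j)) (a : F) (b : F) (hab : a * b = μ) (ha : a ≠ 0)
    [DecidableEq F] :
    (Finset.univ.filter fun i => d i = a).card ≤ (Finset.univ.filter fun i => d i = b).card := by
  classical
  obtain ⟨B, hB, -, hn⟩ := exists_bilin hf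
  let A := Submodule.span F (Set.range fun i : {i : Fin n // d i = a} => e i)
  have hA : finrank F A = Fintype.card {i : Fin n // d i = a} :=
    finrank_span_eq_card (e.linearIndependent.comp (fun i : {i : Fin n // d i = a} => (i : Fin n)) Subtype.val_injective)
  let Φ : A →ₗ[F] ({j : Fin n // d j = b} → F) :=
    LinearMap.pi fun j => (B.flip (e j)).domRestrict A
  have hzero : ∀ j, d j ≠ b → ∀ u ∈ A, B u (e j) = 0 := by
    intro j hj u hu
    have : A ≤ LinearMap.ker (B.flip (e j)) := Submodule.span_le.2 (by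
      rintro _ ⟨⟨i, hi⟩, rfl⟩
      show B (e i) (e j) = 0
      rw [hB]
      by_contra hne
      refine hj (mul_left_cancel₀ ha ?_)
      rw [hab, ← hi]
      exact mul_right_cancel₀ hne (hrel i j))
    exact this hu
  have hinj : Function.Injective Φ := by
    rw [injective_iff_map_eq_zero]
    intro u hu
    refine Subtype.ext (hn.1 _ fun w => ?_)
    have : B (u : Fin n → F) = 0 := e.ext fun j => by
      rw [LinearMap.zero_apply]
      by_cases hj : d j = b
      · exact congrFun hu ⟨j, hj⟩
      · exact hzero j hj u u.2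
    rw [this, LinearMap.zero_apply]
  have := LinearMap.finrank_le_finrank_of_injective hinj
  rw [hA, finrank_pi] at this
  rwa [Fintype.card_subtype, Fintype.card_subtype] at this

/-- The relations satisfied by a diagonal similitude. -/
theorem diag_relations {f : (Fin n → F) → (Fin n → F) → F} (hf : Cfsg.Geo.IsSymplecticForm f) (d : Fin n → F)
    (x : Matrix.SpecialLinearGroup (Fin n) F) (hx : (x : Matrix (Fin n) (Fin n) F) = Matrix.diagonal d)
    (P : GL (Fin n) F) (hP : P⁻¹ * Matrix.SpecialLinearGroup.toGL x * P ∈ Cfsg.Geo.similarityGroup f) :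
    ∃ (e : Basis (Fin n) F (Fin n → F)) (μ : F), μ ≠ 0 ∧
      ∀ i j, d i * d j * f (e i) (e j) = μ * f (e i) (e j) := by
  obtain ⟨μ, hμ⟩ := hP
  let L : (Fin n → F) ≃ₗ[F] (Fin n → F) :=
    { Matrix.toLin' ((P⁻¹ : GL (Fin n) F) : Matrix (Fin n) (Fin n) F) with
      invFun := fun v => (P : Matrix (Fin n) (Fin n) F) *ᵥ v
      left_inv := fun v => by
        show (P : Matrix (Fin n) (Fin n) F) *ᵥ Matrix.toLin' _ v = v
        rw [Matrix.toLin'_apply, Matrix.mulVec_mulVec, ← Units.val_mul, mul_inv_cancel, Units.val_one, Matrix.one_mulVec]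
      right_inv := fun v => by
        show Matrix.toLin' _ ((P : Matrix (Fin n) (Fin n) F) *ᵥ v) = v
        rw [Matrix.toLin'_apply, Matrix.mulVec_mulVec, ← Units.val_mul, inv_mul_cancel, Units.val_one, Matrix.one_mulVec] }
  refine ⟨(Pi.basisFun F (Fin n)).map L, μ, μ.ne_zero, fun i j => ?_⟩
  set e := (Pi.basisFun F (Fin n)).map L
  have hei : ∀ i, e i = ((P⁻¹ : GL (Fin n) F) : Matrix (Fin n) (Fin n) F) *ᵥ Pi.single i 1 := fun i => by
    simp only [e, Basis.map_apply, Pi.basisFun_apply]
    exact Matrix.toLin'_apply _ _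
  have he : ∀ i, ((P⁻¹ * Matrix.SpecialLinearGroup.toGL x * P : GL (Fin n) F) : Matrix (Fin n) (Fin n) F) *ᵥ e i =
      d i • e i := fun i => by
    rw [hei, Matrix.mulVec_mulVec, ← Units.val_mul, mul_inv_cancel_right, Units.val_mul, ← Matrix.mulVec_mulVec,
      ← Matrix.mulVec_smul]
    congr 1
    show (x : Matrix (Fin n) (Fin n) F) *ᵥ Pi.single i 1 = _
    rw [hx, Matrix.diagonal_mulVec_single, ← Pi.single_smul', smul_eq_mul]
  rw [← hμ, he, he, hf.bilinear.smul_left, hf.bilinear.smul_right, mul_assoc]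

theorem card_filter_val_lt (n k : ℕ) (hk : k ≤ n) : (Finset.univ.filter fun i : Fin n => (i : ℕ) < k).card = k := by
  classical
  have : (Finset.univ.filter fun i : Fin n => (i : ℕ) < k) = Finset.univ.map (Fin.castLEEmb hk) := by
    ext i
    simp only [Finset.mem_filter, Finset.mem_univ, true_and, Finset.mem_map]
    constructor
    · intro h
      exact ⟨⟨i, h⟩, Fin.ext rfl⟩
    · rintro ⟨j, rfl⟩
      exact j.2
  rw [this, Finset.card_map, Finset.card_univ, Fintype.card_fin]

/-- A diagonal derangement when r divides q - 1. -/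
theorem exists_diag_derangement [Fintype F] {r : ℕ} [Fact r.Prime] (hr2 : r ≠ 2) (hn : 4 ≤ n) (he : Even n)
    (hgap : ¬ (n = 6 ∧ r = 3)) (hr1 : r ∣ Fintype.card F - 1)
    {f : (Fin n → F) → (Fin n → F) → F} (hf : Cfsg.Geo.IsSymplecticForm f) :
    ∃ x : Matrix.SpecialLinearGroup (Fin n) F, x ^ r = 1 ∧ (∀ z : F, (x : Matrix (Fin n) (Fin n) F) ≠ z • 1) ∧
      ∀ P : GL (Fin n) F, P⁻¹ * Matrix.SpecialLinearGroup.toGL x * P ∉ Cfsg.Geo.similarityGroup f := by
  classical
  have hrp : r.Prime := Fact.out
  obtain ⟨w, hw⟩ := exists_prime_orderOf_dvd_card (G := Fˣ) r (by rwa [Fintype.card_units])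
  set ω : F := (w : F)
  have hω : ∀ k, ω ^ k = 1 ↔ r ∣ k := fun k => by
    rw [← Units.val_pow_eq_pow_val, Units.val_eq_one, ← hw]
    exact orderOf_dvd_iff_pow_eq_one.symm
  have hsmall : ∀ k, 0 < k → k < r → ω ^ k ≠ 1 := fun k h1 h2 h => by
    have := Nat.le_of_dvd h1 ((hω k).1 h)
    omega
  have hω0 : ω ≠ 0 := w.ne_zero
  have hr3 : 3 ≤ r := by have := hrp.two_le; omega
  have hω1 : ω ≠ 1 := fun h => hsmall 1 one_pos (by omega) (by rw [pow_one, h])
  by_cases h3 : r = 3
  · subst h3
    let d : Fin n → F := fun i => if (i : ℕ) < 3 then ω else 1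
    have hc1 : (Finset.univ.filter fun i => d i = ω).card = 3 := by
      rw [show (Finset.univ.filter fun i => d i = ω) = Finset.univ.filter fun i : Fin n => (i : ℕ) < 3 by
        refine Finset.filter_congr fun i _ => ?_
        simp only [d]; split_ifs with h <;> simp [h, hω1.symm]]
      exact card_filter_val_lt n 3 (by omega)
    have hdet : (Matrix.diagonal d).det = 1 := by
      rw [Matrix.det_diagonal, Finset.prod_ite, Finset.prod_const, Finset.prod_const_one, mul_one,
        card_filter_val_lt n 3 (by omega)]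
      exact (hω 3).2 dvd_rfl
    let x : Matrix.SpecialLinearGroup (Fin n) F := ⟨_, hdet⟩
    refine ⟨x, Subtype.ext ?_, fun z hz => ?_, fun P hP => ?_⟩
    · rw [Matrix.SpecialLinearGroup.coe_pow, Matrix.SpecialLinearGroup.coe_one]
      show Matrix.diagonal d ^ 3 = 1
      rw [Matrix.diagonal_pow, ← Matrix.diagonal_one]
      congr 1
      funext i
      simp only [d, Pi.pow_apply]
      split_ifs
      · exact (hω 3).2 dvd_rfl
      · exact one_pow _
    · have e0 := congrFun (congrFun hz ⟨0, by omega⟩) ⟨0, by omega⟩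
      have e1 := congrFun (congrFun hz ⟨3, by omega⟩) ⟨3, by omega⟩
      simp [x, d] at e0 e1
      exact hω1 (e0.trans e1.symm)
    · obtain ⟨e, μ, hμ, hrel⟩ := diag_relations hf d x rfl P hP
      set S := fun a : F => (Finset.univ.filter fun i => d i = a).card
      have hS0 : ∀ a, a ≠ ω → a ≠ 1 → S a = 0 := fun a h1 h2 => by
        refine Finset.card_eq_zero.2 (Finset.filter_eq_empty_iff.2 fun i _ h => ?_)
        simp only [d] at h
        split_ifs at h
        · exact h1 h.symm
        · exact h2 h.symm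
      have hS1 : S 1 = n - 3 := by
        have := Finset.card_filter_add_card_filter_not (s := Finset.univ) (fun i : Fin n => d i = ω)
        rw [hc1, Finset.card_univ, Fintype.card_fin] at this
        show (Finset.univ.filter fun i => d i = 1).card = n - 3
        rw [show (Finset.univ.filter fun i => d i = 1) = Finset.univ.filter fun i => ¬ d i = ω by
          refine Finset.filter_congr fun i _ => ?_
          simp only [d]; split_ifs <;> simp [hω1, hω1.symm]]
        omega
      have hpair : ∀ a, a ≠ 0 → S a = S (μ / a) := fun a ha => le_antisymm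
        (card_class_le hf e d μ hrel a (μ / a) (mul_div_cancel₀ μ ha) ha)
        (card_class_le hf e d μ hrel (μ / a) a (div_mul_cancel₀ μ ha) (div_ne_zero hμ ha))
      have hn' : n - 3 ≠ 3 := by
        intro h
        exact hgap ⟨by omega, rfl⟩
      have hSω : S ω = 3 := hc1
      have h1 := hpair 1 one_ne_zero
      rw [div_one] at h1
      have h2 : μ = 1 := by
        by_contra hne
        by_cases hμω : μ = ω
        · rw [hμω, hS1, hSω] at h1; exact hn' h1
        · rw [hS1, hS0 μ hμω hne] at h1; omega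
      have h3' := hpair ω hω0
      rw [h2, hSω] at h3'
      by_cases hwi : 1 / ω = 1
      · exact hω1 (by rw [div_eq_one_iff_eq hω0] at hwi; exact hwi.symm)
      · rw [hS0 (1 / ω) (fun h => hsmall 2 two_pos (by omega) (by
          rw [pow_two]; rw [div_eq_iff hω0] at h; exact h.symm)) hwi] at h3'
        omega
  · have hr5 : 5 ≤ r := by
      rcases Nat.lt_or_ge r 5 with h | h
      · interval_cases r
        · exact absurd rfl h3
        · exact absurd hrp (by norm_num)
      · exact h
    set τ : F := (ω ^ 2)⁻¹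
    have hτ1 : τ ≠ 1 := fun h => hsmall 2 two_pos (by omega) (inv_eq_one.1 h)
    have hτω : τ ≠ ω := fun h => hsmall 3 three_pos (by omega) (by
      calc ω ^ 3 = ω ^ 2 * ω := pow_succ ω 2
        _ = ω ^ 2 * τ := by rw [h]
        _ = 1 := mul_inv_cancel₀ (pow_ne_zero 2 hω0))
    let d : Fin n → F := fun i => if (i : ℕ) < 2 then ω else if (i : ℕ) = 2 then τ else 1
    let S := fun a : F => (Finset.univ.filter fun i => d i = a).card
    have hSω : S ω = 2 := by
      show (Finset.univ.filter fun i => d i = ω).card = 2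
      rw [show (Finset.univ.filter fun i => d i = ω) = Finset.univ.filter fun i : Fin n => (i : ℕ) < 2 by
        refine Finset.filter_congr fun i _ => ?_
        simp only [d]; split_ifs with h1 h2 <;> simp [h1, hτω, hω1.symm]
        all_goals omega]
      exact card_filter_val_lt n 2 (by omega)
    have hSτ : S τ = 1 := by
      show (Finset.univ.filter fun i => d i = τ).card = 1
      rw [Finset.card_eq_one]
      refine ⟨⟨2, by omega⟩, ?_⟩
      ext i
      simp only [Finset.mem_filter, Finset.mem_univ, true_and, Finset.mem_singleton, d, Fin.ext_iff]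
      split_ifs <;> simp_all [hτω.symm, hτ1.symm]
      all_goals omega
    have hS1 : S 1 = n - 3 := by
      have h := Finset.card_filter_add_card_filter_not (s := Finset.univ) (fun i : Fin n => (i : ℕ) < 3)
      rw [card_filter_val_lt n 3 (by omega), Finset.card_univ, Fintype.card_fin] at h
      show (Finset.univ.filter fun i => d i = 1).card = n - 3
      rw [show (Finset.univ.filter fun i => d i = 1) = Finset.univ.filter fun i : Fin n => ¬ (i : ℕ) < 3 by
        refine Finset.filter_congr fun i _ => ?_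
        simp only [d]; split_ifs <;> simp_all <;> omega]
      omega
    have hS0 : ∀ a, a ≠ ω → a ≠ τ → a ≠ 1 → S a = 0 := fun a h1 h2 h4 => by
      refine Finset.card_eq_zero.2 (Finset.filter_eq_empty_iff.2 fun i _ h => ?_)
      simp only [d] at h
      split_ifs at h
      · exact h1 h.symm
      · exact h2 h.symm
      · exact h4 h.symm
    have hdet : (Matrix.diagonal d).det = 1 := by
      rw [Matrix.det_diagonal, ← Finset.prod_filter_mul_prod_filter_not Finset.univ (fun i : Fin n => (i : ℕ) < 2),
        Finset.prod_congr rfl (fun i hi => show d i = ω from if_pos (Finset.mem_filter.1 hi).2), Finset.prod_const,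
        card_filter_val_lt n 2 (by omega), Finset.prod_eq_single (⟨2, by omega⟩ : Fin n)
          (fun i hi hne => by
            show (if (i : ℕ) < 2 then ω else if (i : ℕ) = 2 then τ else 1) = 1
            rw [if_neg (Finset.mem_filter.1 hi).2, if_neg fun h => hne (Fin.ext h)]) (by simp)]
      simp [d, τ, hω0]
    let x : Matrix.SpecialLinearGroup (Fin n) F := ⟨_, hdet⟩
    refine ⟨x, Subtype.ext ?_, fun z hz => ?_, fun P hP => ?_⟩
    · rw [Matrix.SpecialLinearGroup.coe_pow, Matrix.SpecialLinearGroup.coe_one]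
      show Matrix.diagonal d ^ r = 1
      rw [Matrix.diagonal_pow, ← Matrix.diagonal_one]
      congr 1
      funext i
      simp only [d, Pi.pow_apply]
      split_ifs
      · exact (hω r).2 dvd_rfl
      · rw [inv_pow, ← pow_mul, (hω _).2 (Dvd.intro_left _ rfl), inv_one]
      · exact one_pow _
    · have e0 := congrFun (congrFun hz ⟨0, by omega⟩) ⟨0, by omega⟩
      have e1 := congrFun (congrFun hz ⟨3, by omega⟩) ⟨3, by omega⟩
      simp [x, d] at e0 e1
      exact hω1 (e0.trans e1.symm)
    · obtain ⟨e, μ, hμ, hrel⟩ := diag_relations hf d x rfl P hP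
      have hpair : ∀ a, a ≠ 0 → S a = S (μ / a) := fun a ha => le_antisymm
        (card_class_le hf e d μ hrel a (μ / a) (mul_div_cancel₀ μ ha) ha)
        (card_class_le hf e d μ hrel (μ / a) a (div_mul_cancel₀ μ ha) (div_ne_zero hμ ha))
      have hμω : μ / ω = ω := by
        have h := hpair ω hω0
        rw [hSω] at h
        by_contra hne
        by_cases h1 : μ / ω = τ
        · rw [h1, hSτ] at h; omega
        · by_cases h2 : μ / ω = 1
          · rw [h2, hS1] at h
            obtain ⟨m, rfl⟩ := he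
            omega
          · rw [hS0 _ hne h1 h2] at h; omega
      rw [div_eq_iff hω0] at hμω
      have h := hpair 1 one_ne_zero
      rw [hS1, div_one, hS0 μ] at h
      · omega
      · rw [hμω]; exact fun h' => hω1 (mul_left_cancel₀ hω0 (h'.trans (mul_one ω).symm))
      · rw [hμω]
        exact fun h' => hsmall 4 (by norm_num) (by omega) (by
          calc ω ^ 4 = ω ^ 2 * (ω * ω) := by ring
            _ = 1 := by rw [h']; exact mul_inv_cancel₀ (pow_ne_zero 2 hω0))
      · rw [hμω, ← pow_two]; exact hsmall 2 two_pos (by omega)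

/-- An element with a free block of odd dimension. -/
theorem exists_block_derangement [Fintype F] {r : ℕ} [Fact r.Prime] (hrF : (r : F) ≠ 0)
    (hi2 : 2 ≤ orderOf (Nat.card F : ZMod r)) (hio : Odd (orderOf (Nat.card F : ZMod r)))
    (hin : orderOf (Nat.card F : ZMod r) ≤ n)
    {f : (Fin n → F) → (Fin n → F) → F} (hf : Cfsg.Geo.IsSymplecticForm f) :
    ∃ x : Matrix.SpecialLinearGroup (Fin n) F, x ^ r = 1 ∧ (∀ z : F, (x : Matrix (Fin n) (Fin n) F) ≠ z • 1) ∧
      ∀ P : GL (Fin n) F, P⁻¹ * Matrix.SpecialLinearGroup.toGL x * P ∉ Cfsg.Geo.similarityGroup f := by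
  classical
  have hnr : ¬ r ∣ Fintype.card F - 1 := by
    intro h
    have h2 : orderOf (Nat.card F : ZMod r) = 1 := by
      rw [orderOf_eq_one_iff, ← Nat.cast_one, ZMod.natCast_eq_natCast_iff, Nat.card_eq_fintype_card]
      exact ((Nat.modEq_iff_dvd' Fintype.card_pos).2 h).symm
    omega
  have hroot : ∀ a : F, a ^ r = 1 → a = 1 := by
    intro a ha
    by_contra hne
    have ha0 : a ≠ 0 := fun h => by simp [h, (Fact.out : r.Prime).ne_zero] at ha
    have ho : orderOf (Units.mk0 a ha0) = r := orderOf_eq_prime (Units.ext (by simpa using ha))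
      fun h => hne (congrArg Units.val h)
    have := orderOf_dvd_card (x := Units.mk0 a ha0)
    rw [ho, Fintype.card_units] at this
    exact hnr this
  obtain ⟨T, hTr, hfix⟩ := exists_order_fix (F := F) (r := r) hrF (by omega) n 1 (by omega)
  rw [one_mul] at hfix
  have hdet : LinearMap.det T = 1 := hroot _ (by rw [← map_pow, hTr, map_one])
  let x : Matrix.SpecialLinearGroup (Fin n) F :=
    ⟨LinearMap.toMatrix' T, by rw [LinearMap.det_toMatrix', hdet]⟩
  have hxT : Matrix.toLinAlgEquiv' (x : Matrix (Fin n) (Fin n) F) = T := Matrix.toLin'_toMatrix' T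
  have hTne : fixSp T ≠ ⊤ := fun h => by
    rw [h, finrank_top, finrank_pi, Fintype.card_fin] at hfix
    omega
  refine ⟨x, Subtype.ext (Matrix.toLinAlgEquiv'.injective ?_), fun z hz => hTne ?_, fun P hP => ?_⟩
  · rw [Matrix.SpecialLinearGroup.coe_pow, map_pow, hxT, hTr, Matrix.SpecialLinearGroup.coe_one, map_one]
  · have hTz : ∀ v, T v = z • v := fun v => by
      rw [← hxT, hz, map_smul, map_one]
      rfl
    have hz1 : z = 1 := by
      have h := congrArg Matrix.det hz
      rw [x.2, Matrix.det_smul, Matrix.det_one, mul_one, Fintype.card_fin] at h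
      refine hroot z ?_
      have h2 : (T ^ r) = z ^ r • (1 : (Fin n → F) →ₗ[F] (Fin n → F)) := by
        rw [show T = z • (1 : (Fin n → F) →ₗ[F] (Fin n → F)) from LinearMap.ext hTz, smul_pow, one_pow]
      rw [hTr] at h2
      have h3 := congrFun (LinearMap.congr_fun h2 (Pi.single ⟨0, by omega⟩ 1)) ⟨0, by omega⟩
      simpa using h3.symm
    exact Submodule.eq_top_iff'.2 fun v => mem_fixSp.2 (by rw [hTz, hz1, one_smul])
  · obtain ⟨μ, hμ⟩ := hP
    obtain ⟨B, hB, hBA, hBn⟩ := exists_bilin hf
    let Pm := Matrix.toLinAlgEquiv' (((P⁻¹ : GL (Fin n) F)) : Matrix (Fin n) (Fin n) F)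
    have hPinj : Function.Injective Pm := fun u v h => by
      have := congrArg ((P : Matrix (Fin n) (Fin n) F) *ᵥ ·) h
      simpa [Pm, Matrix.toLinAlgEquiv'_apply, Matrix.mulVec_mulVec, ← Units.val_mul] using this
    let g : LinearMap.BilinForm F (Fin n → F) := B.compl₁₂ Pm Pm
    have hg : ∀ u v, g (T u) (T v) = μ * g u v := fun u v => by
      have h := hμ (Pm u) (Pm v)
      have e : ∀ u, ((P⁻¹ * Matrix.SpecialLinearGroup.toGL x * P : GL (Fin n) F) : Matrix (Fin n) (Fin n) F) *ᵥ Pm u =
          Pm (T u) := fun u => by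
        show _ *ᵥ (_ *ᵥ u) = _ *ᵥ (T u)
        rw [Matrix.mulVec_mulVec, ← Units.val_mul, mul_inv_cancel_right, Units.val_mul, ← Matrix.mulVec_mulVec]
        congr 1
        exact LinearMap.congr_fun hxT u
      rw [e, e, ← hB, ← hB] at h
      exact h
    have hgn : ∀ u, (∀ v, g u v = 0) → u = 0 := fun u h => by
      refine hPinj ?_
      rw [map_zero]
      refine hBn.1 _ fun v => ?_
      obtain ⟨v', rfl⟩ := (LinearMap.injective_iff_surjective.1 hPinj) v
      exact h v'
    have hpow : ∀ k u v, g ((T ^ k) u) ((T ^ k) v) = (μ : F) ^ k * g u v := fun k => by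
      induction k with
      | zero => intro u v; simp
      | succ k ih =>
        intro u v
        rw [pow_succ', Module.End.mul_apply, Module.End.mul_apply, hg, ih]
        ring
    obtain ⟨v0, hv0⟩ : ∃ v, g (Pi.single ⟨0, by omega⟩ 1) v ≠ 0 := by
      by_contra! h
      simpa using congrFun (hgn _ h) ⟨0, by omega⟩
    have hμ1 : (μ : F) = 1 := by
      refine hroot _ (mul_right_cancel₀ hv0 ?_)
      rw [← hpow, hTr, one_mul]
      rfl
    have horth : ∀ u ∈ fixSp T, ∀ v ∈ restSp r T, g u v = 0 := fun u hu v hv => by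
      have h1 : ∀ k, g u ((T ^ k) v) = g u v := fun k => by
        have := hpow k u v
        rw [pow_apply_fixed (mem_fixSp.1 hu), hμ1, one_pow, one_mul] at this
        exact this
      have h2 : g u (orbitSum r T v) = (r : F) * g u v := by
        simp [orbitSum, LinearMap.sum_apply, map_sum, h1]
      rw [show orbitSum r T v = 0 from hv, map_zero, eq_comm, mul_eq_zero] at h2
      exact h2.resolve_left hrF
    have hsplit := finrank_split hTr hrF ⊤ fun _ _ => Submodule.mem_top
    rw [top_inf_eq, top_inf_eq, finrank_top, finrank_pi, Fintype.card_fin] at hsplit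
    have htop : fixSp T ⊔ restSp r T = ⊤ := Submodule.eq_top_of_finrank_eq (by
      have := Submodule.finrank_sup_add_finrank_inf_eq (fixSp T) (restSp r T)
      rw [disjoint_fix_rest hrF, finrank_bot, add_zero] at this
      rw [this, hsplit, finrank_pi, Fintype.card_fin])
    have hgA : g.IsAlt := fun u => hBA (Pm u)
    have heven := even_finrank_of_nondeg (g.restrict (restSp r T)) (fun u => hgA (u : Fin n → F)) fun u hu => by
      refine Subtype.ext (hgn _ fun v => ?_)
      obtain ⟨a, ha, b, hb, rfl⟩ := Submodule.mem_sup.1 (htop ▸ (Submodule.mem_top : v ∈ ⊤))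
      rw [map_add, show g (u : Fin n → F) b = 0 from hu ⟨b, hb⟩, add_zero, ← LinearMap.IsAlt.neg hgA a _, horth a ha u u.2, neg_zero]
    have hrest : finrank F (restSp r T) = orderOf (Nat.card F : ZMod r) := by omega
    rw [hrest] at heven
    exact Nat.not_even_iff_odd.2 hio heven

/-- A unipotent element with one block of size three. -/
theorem exists_unipotent_derangement {r : ℕ} [Fact r.Prime] [CharP F r] (hr2 : r ≠ 2) (hn : 4 ≤ n)
    {f : (Fin n → F) → (Fin n → F) → F} (hf : Cfsg.Geo.IsSymplecticForm f) :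
    ∃ x : Matrix.SpecialLinearGroup (Fin n) F, x ^ r = 1 ∧ (∀ z : F, (x : Matrix (Fin n) (Fin n) F) ≠ z • 1) ∧
      ∀ P : GL (Fin n) F, P⁻¹ * Matrix.SpecialLinearGroup.toGL x * P ∉ Cfsg.Geo.similarityGroup f := by
  classical
  have hrp : r.Prime := Fact.out
  have h2 : (2 : F) ≠ 0 := fun h => hr2 ((Nat.prime_dvd_prime_iff_eq hrp Nat.prime_two).1
    ((CharP.cast_eq_zero_iff F r 2).1 (by exact_mod_cast h)))
  let a : Fin n := ⟨0, by omega⟩
  let b : Fin n := ⟨1, by omega⟩
  let c : Fin n := ⟨2, by omega⟩
  have hab : a ≠ b := by simp [a, b]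
  have hbc : b ≠ c := by simp [b, c]
  have hac : a ≠ c := by simp [a, c]
  let N : Matrix (Fin n) (Fin n) F := Matrix.single a b 1 + Matrix.single b c 1
  have hN2 : N * N = Matrix.single a c 1 := by
    simp [N, add_mul, mul_add, hab, hab.symm, hbc, hbc.symm, hac, hac.symm]
  have hN3 : N * N * N = 0 := by
    rw [hN2]; simp [N, mul_add, hac.symm, hbc.symm]
  have hT : Matrix.transvection a b (1 : F) * Matrix.transvection b c 1 = 1 + (N + Matrix.single a c 1) := by
    simp [Matrix.transvection, N, mul_add, add_mul]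
    abel
  have hdetM : (1 + N).det = 1 := by
    have e : 1 + N = Matrix.transvection b c (1 : F) * Matrix.transvection a b 1 := by
      simp [Matrix.transvection, N, mul_add, add_mul, hac.symm]
      abel
    rw [e, Matrix.det_mul, Matrix.det_transvection_of_ne _ _ hbc, Matrix.det_transvection_of_ne _ _ hab, mul_one]
  haveI : Nonempty (Fin n) := ⟨a⟩
  haveI : CharP (Matrix (Fin n) (Fin n) F) r := inferInstance
  let x : Matrix.SpecialLinearGroup (Fin n) F := ⟨1 + N, hdetM⟩
  refine ⟨x, Subtype.ext ?_, fun z hz => ?_, fun P hP => ?_⟩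
  · rw [Matrix.SpecialLinearGroup.coe_pow, Matrix.SpecialLinearGroup.coe_one]
    show (1 + N) ^ r = 1
    obtain ⟨k, hk⟩ : ∃ k, r = 3 + k := ⟨r - 3, by have := hrp.two_le; omega⟩
    rw [add_pow_char_of_commute r (Commute.one_left N), one_pow, show N ^ r = 0 by
      rw [hk, pow_add, pow_succ, pow_two, hN3, zero_mul], add_zero]
  · change (1 + N : Matrix (Fin n) (Fin n) F) = z • 1 at hz
    have := congrFun (congrFun hz a) b
    simp [N, hab, hbc.symm, hab.symm, Matrix.one_apply] at this
  · obtain ⟨μ, hμ⟩ := hP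
    set Pi' : Matrix (Fin n) (Fin n) F := ((P⁻¹ : GL (Fin n) F) : Matrix (Fin n) (Fin n) F)
    set g : (Fin n → F) → (Fin n → F) → F := fun u v => f (Pi' *ᵥ u) (Pi' *ᵥ v) with hgdef
    have hg : ∀ u v, g ((1 + N) *ᵥ u) ((1 + N) *ᵥ v) = μ * g u v := fun u v => by
      have h := hμ (Pi' *ᵥ u) (Pi' *ᵥ v)
      simp only [Matrix.mulVec_mulVec, Pi', ← Units.val_mul, mul_inv_cancel_right] at h
      simp only [Units.val_mul, ← Matrix.mulVec_mulVec] at h
      exact h
    let e : Fin n → (Fin n → F) := fun i => Pi.single i 1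
    have hNe : ∀ i, N *ᵥ e i = if i = b then e a else if i = c then e b else 0 := fun i => by
      simp only [N, e, Matrix.add_mulVec, Matrix.single_mulVec, one_mul]
      rcases eq_or_ne i b with rfl | h1
      · simp [hbc.symm, Pi.single]
      rcases eq_or_ne i c with rfl | h2
      · simp [h1, hbc, Pi.single]
      · simp [h1, h2, h1.symm, h2.symm]
    have hx : ∀ i, (1 + N) *ᵥ e i = e i + if i = b then e a else if i = c then e b else 0 := fun i => by
      rw [Matrix.add_mulVec, Matrix.one_mulVec, hNe]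
    have gl : ∀ u v w, g (u + v) w = g u w + g v w := fun u v w => by
      simp only [hgdef, Matrix.mulVec_add, hf.bilinear.add_left]
    have gr : ∀ u v w, g u (v + w) = g u v + g u w := fun u v w => by
      simp only [hgdef, Matrix.mulVec_add, hf.bilinear.add_right]
    have gs : ∀ u v, g u v = - g v u := fun u v => hf.skew _ _
    have ga : ∀ u, g u u = 0 := fun u => hf.alternating _
    have g0 : ∀ u, g u 0 = 0 := fun u => by
      have := gr u 0 0
      rw [add_zero] at this
      linear_combination (-1) * this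
    have r1 := hg (e a) (e b)
    have r2 := hg (e a) (e c)
    have r3 := hg (e b) (e c)
    rw [hx, hx, if_neg hab, if_neg hac, add_zero, if_pos rfl, gr, ga, add_zero] at r1
    rw [hx, hx, if_neg hab, if_neg hac, add_zero, if_neg hbc.symm, if_pos rfl, gr] at r2
    rw [hx, hx, if_pos rfl, if_neg hbc.symm, if_pos rfl, gl, gr, gr, ga, add_zero] at r3
    have hAB : g (e a) (e b) = 0 := by
      by_contra h
      have hm : (μ : F) = 1 := (mul_right_cancel₀ h ((one_mul _).trans r1)).symm
      rw [hm, one_mul] at r2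
      exact h (by linear_combination r2)
    have hAC : g (e a) (e c) = 0 := by
      by_contra h
      rw [hAB, add_zero] at r2
      have hm : (μ : F) = 1 := (mul_right_cancel₀ h ((one_mul _).trans r2)).symm
      rw [hm, one_mul, hAB, add_zero] at r3
      exact h (by linear_combination r3)
    have hother : ∀ i, g (e a) (e i) = 0 := fun i => by
      rcases eq_or_ne i b with rfl | hib
      · exact hAB
      rcases eq_or_ne i c with rfl | hic
      · exact hAC
      by_contra h
      have r4 := hg (e a) (e i)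
      rw [hx, hx, if_neg hab, if_neg hac, add_zero, if_neg hib, if_neg hic, add_zero] at r4
      have hm : (μ : F) = 1 := (mul_right_cancel₀ h ((one_mul _).trans r4)).symm
      have r5 := hg (e b) (e i)
      rw [hx, hx, if_pos rfl, if_neg hib, if_neg hic, add_zero, gl, hm, one_mul] at r5
      exact h (by linear_combination r5)
    obtain ⟨B, hB, -, hBn⟩ := exists_bilin hf
    have hzero : Pi' *ᵥ e a = 0 := hBn.1 _ fun v => by
      have : B (Pi' *ᵥ e a) ∘ₗ Matrix.toLin' Pi' = 0 := (Pi.basisFun F _).ext fun i => by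
        simp only [LinearMap.comp_apply, Pi.basisFun_apply, Matrix.toLin'_apply, LinearMap.zero_apply, hB]
        exact hother i
      have h := LinearMap.congr_fun this ((P : Matrix (Fin n) (Fin n) F) *ᵥ v)
      simpa [Matrix.toLin'_apply, Matrix.mulVec_mulVec, Pi', ← Units.val_mul] using h
    have hea : e a = 0 := by
      rw [← Matrix.one_mulVec (e a), ← Units.val_one, ← mul_inv_cancel P, Units.val_mul, ← Matrix.mulVec_mulVec]
      show (P : Matrix (Fin n) (Fin n) F) *ᵥ (Pi' *ᵥ e a) = 0
      rw [hzero, Matrix.mulVec_zero]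
    exact one_ne_zero (α := F) (by simpa [e] using congrFun hea a)

/-- A prime dividing the index divides some q^j - 1 with j odd. -/
theorem exists_odd_dvd [Fintype F] (hn : 0 < n) {r : ℕ} (hr : r.Prime) (hrq : ¬ r ∣ Fintype.card F)
    {f : (Fin n → F) → (Fin n → F) → F} (hf : Cfsg.Geo.IsSymplecticForm f)
    (hΩ : r ∣ ((Cfsg.Geo.similarityGroup f).comap
      (Matrix.SpecialLinearGroup.toGL : Matrix.SpecialLinearGroup (Fin n) F →* GL (Fin n) F)).index) :
    ∃ j, Odd j ∧ j ≤ n ∧ r ∣ Fintype.card F ^ j - 1 := by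
  classical
  obtain ⟨B, hB, hBA, hBn⟩ := exists_bilin hf
  obtain ⟨m, -, -, hm⟩ := CfsgLib.Classical.Symp.exists_sympSys hBA hBn
  have hnm : n = 2 * m := by rwa [finrank_pi, Fintype.card_fin] at hm
  obtain ⟨e, he⟩ := CfsgLib.Classical.Symp.exists_isometry hBA hBn (CfsgLib.Classical.Symp.sympBil_isAlt m F)
    (CfsgLib.Classical.Symp.sympBil_nondegenerate m F) (hm.trans (CfsgLib.Classical.Symp.finrank_sympSpace m F).symm)
  let M : Matrix.symplecticGroup (Fin m) F → ((Fin n → F) →ₗ[F] (Fin n → F)) :=
    fun A => e.symm.toLinearMap ∘ₗ Matrix.toLin' (A : Matrix (Fin m ⊕ Fin m) (Fin m ⊕ Fin m) F) ∘ₗ e.toLinearMap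
  have hdet : ∀ A, (LinearMap.toMatrix' (M A)).det = 1 := fun A => by
    rw [LinearMap.det_toMatrix', show M A = e.symm.toLinearMap ∘ₗ Matrix.toLin' (A : Matrix (Fin m ⊕ Fin m) (Fin m ⊕ Fin m) F) ∘ₗ
      (e.symm.symm).toLinearMap from rfl, LinearMap.det_conj, LinearMap.det_toLin']
    exact SymplecticGroup.det_eq_one A.2
  let ι : Matrix.symplecticGroup (Fin m) F →* Matrix.SpecialLinearGroup (Fin n) F :=
    { toFun := fun A => ⟨LinearMap.toMatrix' (M A), hdet A⟩
      map_one' := Subtype.ext (by
        show LinearMap.toMatrix' (M 1) = 1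
        rw [← LinearMap.toMatrix'_id]
        congr 1
        ext v : 1
        simp [M])
      map_mul' := fun A A' => Subtype.ext (by
        show LinearMap.toMatrix' (M (A * A')) = LinearMap.toMatrix' (M A) * LinearMap.toMatrix' (M A')
        rw [← LinearMap.toMatrix'_comp]
        congr 1
        refine LinearMap.ext fun v => ?_
        simp [M, Matrix.toLin'_mul]) }
  have hι : Function.Injective ι := fun A A' h => by
    have h1 : M A = M A' := LinearMap.toMatrix'.injective (congrArg Subtype.val h)
    refine Subtype.ext (Matrix.toLin'.injective (LinearMap.ext fun v => e.symm.injective ?_))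
    have := LinearMap.congr_fun h1 (e.symm v)
    simpa [M] using this
  have hle : ι.range ≤ (Cfsg.Geo.similarityGroup f).comap Matrix.SpecialLinearGroup.toGL := by
    rintro _ ⟨A, rfl⟩
    refine ⟨1, fun u v => ?_⟩
    show f (LinearMap.toMatrix' (M A) *ᵥ u) (LinearMap.toMatrix' (M A) *ᵥ v) = (1 : F) * f u v
    rw [one_mul, ← Matrix.toLin'_apply, ← Matrix.toLin'_apply, Matrix.toLin'_toMatrix', ← hB, ← hB]
    simp only [M, LinearMap.comp_apply, LinearEquiv.coe_coe, Matrix.toLin'_apply]
    rw [← he (e.symm _) (e.symm _), e.apply_symm_apply, e.apply_symm_apply, CfsgLib.Classical.Symp.sympBil_apply,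
      CfsgLib.Classical.Symp.mem_symplecticGroup_iff_form.1 A.2, ← CfsgLib.Classical.Symp.sympBil_apply, he]
  have h1 : r * Nat.card (Matrix.symplecticGroup (Fin m) F) * (Fintype.card F - 1) ∣
      Nat.card (GL (Fin n) F) := by
    rw [← InvClass.card_SL_mul hn]
    refine mul_dvd_mul_right ?_ _
    rw [← Subgroup.card_mul_index ι.range, Nat.card_congr (MonoidHom.ofInjective hι).toEquiv.symm, mul_comm r]
    exact mul_dvd_mul_left _ (hΩ.trans (Subgroup.index_dvd_of_le hle))
  set q := Fintype.card F
  have hGL : Nat.card (GL (Fin n) F) = q ^ (∑ i : Fin n, (i : ℕ)) *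
      ((∏ l ∈ Finset.range m, (q ^ (2 * l + 1) - 1)) * ∏ l ∈ Finset.range m, (q ^ (2 * (l + 1)) - 1)) := by
    rw [Matrix.card_GL_field, ← Finset.prod_pow_eq_pow_sum, ← Finset.prod_mul_distrib]
    have e1 : ∏ i : Fin n, (q ^ n - q ^ (i : ℕ)) = (∏ i : Fin n, q ^ (i : ℕ)) * ∏ i : Fin n, (q ^ (n - i) - 1) := by
      rw [← Finset.prod_mul_distrib]
      refine Finset.prod_congr rfl fun i _ => ?_
      rw [Nat.mul_sub_one, ← pow_add, Nat.add_sub_cancel' i.2.le]
    rw [e1]
    congr 1
    rw [Finset.prod_fin_eq_prod_range, ← Finset.prod_range_reflect]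
    subst hnm
    calc ∏ j ∈ Finset.range (2 * m), (if h : 2 * m - 1 - j < 2 * m then q ^ (2 * m - (⟨2 * m - 1 - j, h⟩ : Fin (2 * m))) - 1 else 1)
        = ∏ j ∈ Finset.range (2 * m), (q ^ (j + 1) - 1) := by
          refine Finset.prod_congr rfl fun j hj => ?_
          rw [Finset.mem_range] at hj
          rw [dif_pos (by omega), show 2 * m - (2 * m - 1 - j) = j + 1 by omega]
      _ = _ := by
          clear e1 hn hle hι ι hdet M he e hm hBn hBA hB B h1 hΩ hf f
          induction m with
          | zero => simp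
          | succ m ih =>
            rw [show 2 * (m + 1) = 2 * m + 1 + 1 by ring, Finset.prod_range_succ, Finset.prod_range_succ, ih,
              Finset.prod_range_succ _ m]
            ring_nf
  rw [hGL, CfsgLib.Classical.Symp.card_symplecticGroup] at h1
  have hP : 0 < ∏ l ∈ Finset.range m, (q ^ (2 * (l + 1)) - 1) := by
    refine Finset.prod_pos fun i _ => ?_
    have : 1 < q ^ (2 * (i + 1)) := one_lt_pow₀ Fintype.one_lt_card (by omega)
    omega
  have h2 : r ∣ q ^ (∑ i : Fin n, (i : ℕ)) * ∏ l ∈ Finset.range m, (q ^ (2 * l + 1) - 1) := by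
    refine Nat.dvd_of_mul_dvd_mul_right hP ?_
    refine Dvd.dvd.trans ?_ (h1.trans (dvd_of_eq (mul_assoc _ _ _).symm))
    exact Dvd.intro (q ^ m ^ 2 * (q - 1)) (by ring)
  rcases hr.dvd_mul.1 h2 with h3 | h3
  · exact absurd (hr.dvd_of_dvd_pow h3) hrq
  · obtain ⟨l, hl, hrl⟩ := (Prime.dvd_finsetProd_iff hr.prime _).1 h3
    rw [Finset.mem_range] at hl
    exact ⟨2 * l + 1, ⟨l, rfl⟩, by omega, hrl⟩

end CfsgLib.Geo.DerangeAlt
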