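import Cfsg.Agent.Lib.Classical.ClassTheory.OrthPrime
import Cfsg.Agent.Lib.Classical.CharTwo.OmegaParity
import Cfsg.Agent.Lib.Classical.Quad.PlusMinusType
import Cfsg.Agent.Lib.Known.AltRank
import Cfsg.Prelude.Def_GeometricClasses

/-!
# Elements of prime order of orthogonal groups and nonsingular points, characteristic two
-/

set_option autoImplicit false

namespace CfsgLib.Geo.ElusiveNonsingularEven

open QuadraticMap (polar polarBilin)
open CfsgLib.Classical CfsgLib.Classical.ClassTheory CfsgLib.Known.QuadClassify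

universe u

variable {F : Type u} [Field F]

section Count

variable {V : Type*} [AddCommGroup V] [Module F V]

theorem point_eq_span {W : Submodule F V} (hW : Module.finrank F W = 1) {v : V} (hv : v ∈ W) (hv0 : v ≠ 0) :
    W = Submodule.span F {v} := by
  haveI := FiniteDimensional.of_finrank_eq_succ hW
  refine (Submodule.eq_of_le_of_finrank_eq (Submodule.span_le.2 (Set.singleton_subset_iff.2 hv)) ?_).symm
  rw [finrank_span_singleton hv0, hW]

theorem card_points_mul [Fintype F] [Finite V] (Q : QuadraticForm F V) :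
    Nat.card {W : Submodule F V // Module.finrank F W = 1 ∧ ∃ v ∈ W, Q v ≠ 0} * (Fintype.card F - 1) =
      Nat.card {v : V // Q v ≠ 0} := by
  classical
  haveI : Finite {W : Submodule F V // Module.finrank F W = 1 ∧ ∃ v ∈ W, Q v ≠ 0} := inferInstance
  haveI := Fintype.ofFinite {W : Submodule F V // Module.finrank F W = 1 ∧ ∃ v ∈ W, Q v ≠ 0}
  have hne : ∀ v, Q v ≠ 0 → v ≠ 0 := fun v hv h => hv (by rw [h, QuadraticMap.map_zero])
  let Φ : {v : V // Q v ≠ 0} ≃
      Σ W : {W : Submodule F V // Module.finrank F W = 1 ∧ ∃ v ∈ W, Q v ≠ 0}, {v : W.1 // v ≠ 0} :=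
    { toFun := fun v => ⟨⟨Submodule.span F {v.1}, finrank_span_singleton (hne _ v.2), v.1,
          Submodule.mem_span_singleton_self _, v.2⟩,
        ⟨⟨v.1, Submodule.mem_span_singleton_self _⟩, fun h => hne _ v.2 (congrArg Subtype.val h)⟩⟩
      invFun := fun Wv => ⟨Wv.2.1.1, by
        obtain ⟨w, hw, hQw⟩ := Wv.1.2.2
        have hv0 : (Wv.2.1 : V) ≠ 0 := fun h => Wv.2.2 (Subtype.ext h)
        rw [point_eq_span Wv.1.2.1 Wv.2.1.2 hv0] at hw
        obtain ⟨c, rfl⟩ := Submodule.mem_span_singleton.1 hw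
        intro h
        rw [QuadraticMap.map_smul, h, smul_zero] at hQw
        exact hQw rfl⟩
      left_inv := fun v => rfl
      right_inv := by
        rintro ⟨⟨W, hW⟩, ⟨⟨v, hv⟩, hv0⟩⟩
        have h := point_eq_span hW.1 hv (fun h => hv0 (Subtype.ext h))
        subst h
        rfl }
  rw [Nat.card_congr Φ, Nat.card_sigma]
  have hfib : ∀ W : {W : Submodule F V // Module.finrank F W = 1 ∧ ∃ v ∈ W, Q v ≠ 0},
      Nat.card {v : W.1 // v ≠ 0} = Fintype.card F - 1 := fun W => by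
    haveI := Fintype.ofFinite W.1
    haveI : FiniteDimensional F W.1 := FiniteDimensional.of_finrank_eq_succ W.2.1
    rw [Nat.card_eq_fintype_card, Fintype.card_subtype_compl, Fintype.card_subtype_eq,
      Module.card_eq_pow_finrank (K := F) (V := W.1), W.2.1, pow_one]
  rw [Finset.sum_congr rfl fun W _ => hfib W, Finset.sum_const, Finset.card_univ, smul_eq_mul,
    Nat.card_eq_fintype_card]

theorem card_ne_zero_add [Finite V] (Q : QuadraticForm F V) :
    Nat.card {v : V // Q v = 0} + Nat.card {v : V // Q v ≠ 0} = Nat.card V := by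
  classical
  haveI := Fintype.ofFinite V
  rw [Nat.card_eq_fintype_card, Nat.card_eq_fintype_card, Nat.card_eq_fintype_card,
    Fintype.card_subtype_compl, Nat.add_sub_cancel' (Fintype.card_subtype_le _)]

/-- An involutive isometry whose fixed vectors are all singular fixes a maximal singular subspace of even dimension. -/
theorem involution_singular [FiniteDimensional F V] (h2 : (2 : F) = 0) {Q : QuadraticForm F V}
    (hQ : (polarBilin Q).Nondegenerate) (g : Module.End F V) (hg : ∀ v, Q (g v) = Q v) (hg2 : ∀ v, g (g v) = v)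
    (hfix : ∀ v, g v = v → Q v = 0) :
    ∃ W : Submodule F V, (∀ w ∈ W, Q w = 0) ∧ 2 * Module.finrank F W = Module.finrank F V ∧
      Even (Module.finrank F W) := by
  have htwo : ∀ x : V, x + x = 0 := fun x => by rw [← two_smul F, h2, zero_smul]
  set N : Module.End F V := g - 1 with hN
  have hNa : ∀ v, N v = g v - v := fun v => rfl
  set W := LinearMap.ker N with hW
  have hWs : ∀ w ∈ W, Q w = 0 := fun w hw => hfix w (sub_eq_zero.1 (LinearMap.mem_ker.1 hw))
  have hNN : LinearMap.range N ≤ W := by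
    rintro _ ⟨v, rfl⟩
    show N (N v) = 0
    rw [hNa, hNa, map_sub, hg2]
    calc v - g v - (g v - v) = (v + v) - (g v + g v) := by abel
      _ = 0 := by rw [htwo, htwo, sub_zero]
  have h1 := LinearMap.finrank_range_add_finrank_ker N
  have h3 := Submodule.finrank_mono hNN
  have h4 := Quad.two_mul_finrank_le hQ hWs
  rw [← hW] at h1
  refine ⟨W, hWs, by omega, ?_⟩
  have halt : ((polarBilin Q).comp N).IsAlt := fun v => by
    show polar Q (N v) v = 0
    have h : Q (N v + v) = Q v := by rw [hNa, sub_add_cancel, hg]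
    rw [QuadraticMap.polar, h, hWs _ (hNN ⟨v, rfl⟩)]
    ring
  have h5 := CfsgLib.Known.AltRank.even_finrank_range _ rfl ((polarBilin Q).comp N) halt
  have hinj : Function.Injective (polarBilin Q) := (injective_iff_map_eq_zero _).2 fun v hv =>
    hQ.1 v fun w => by rw [hv]; rfl
  have h6 : Module.finrank F (LinearMap.range ((polarBilin Q).comp N)) = Module.finrank F (LinearMap.range N) := by
    rw [LinearMap.range_comp]
    exact (Submodule.equivMapOfInjective _ hinj _).finrank_eq.symm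
  rw [h6, show Module.finrank F (LinearMap.range N) = Module.finrank F W by omega] at h5
  exact h5

end Count

section Matrices

variable {ι : Type} [Fintype ι] [DecidableEq ι]

theorem mem_isometry_of_mem_omegaGL {Q : (ι → F) → F} {x : GL ι F} (hx : x ∈ Cfsg.Geo.omegaGL Q) :
    x ∈ Cfsg.isometryGroup F Q := by
  obtain ⟨y, -, rfl⟩ := hx
  exact y.2

theorem scalar_eq_one (h2 : (2 : F) = 0) {Q : QuadraticForm F (ι → F)} {x : GL ι F}
    (hx : x ∈ Cfsg.isometryGroup F ⇑Q) (hne : ∃ v, Q v ≠ 0) {z : F}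
    (hz : (x : Matrix ι ι F) = z • (1 : Matrix ι ι F)) : z = 1 := by
  obtain ⟨v, hv⟩ := hne
  have h : Q ((x : Matrix ι ι F).mulVec v) = Q v := hx v v
  rw [hz, Matrix.smul_mulVec, Matrix.one_mulVec, QuadraticMap.map_smul, smul_eq_mul] at h
  have hzz : z * z = 1 := mul_right_cancel₀ hv (h.trans (one_mul _).symm)
  rcases mul_self_eq_one_iff.1 hzz with e | e
  · exact e
  · rw [e]
    linear_combination (-1 : F) * h2

theorem eq_one_of_fixes (h2 : (2 : F) = 0) {Q : QuadraticForm F (ι → F)} {x : GL ι F}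
    (hx : x ∈ Cfsg.isometryGroup F ⇑Q) {v : ι → F} (hv : Q v ≠ 0) {c : F}
    (hc : (x : Matrix ι ι F).mulVec v = c • v) : c = 1 := by
  have h : Q ((x : Matrix ι ι F).mulVec v) = Q v := hx v v
  rw [hc, QuadraticMap.map_smul, smul_eq_mul] at h
  rcases mul_self_eq_one_iff.1 (mul_right_cancel₀ hv (h.trans (one_mul _).symm)) with e | e
  · exact e
  · rw [e]
    linear_combination (-1 : F) * h2

/-- Every element of order `r` of `Ω(Q)` fixes a nonsingular point. -/
def AllFix (Q : (ι → F) → F) (r : ℕ) : Prop :=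
  ∀ x : GL ι F, x ∈ Cfsg.Geo.omegaGL Q →
    (∃ z : F, ((x ^ r : GL ι F) : Matrix ι ι F) = z • (1 : Matrix ι ι F)) →
    (∀ z : F, (x : Matrix ι ι F) ≠ z • (1 : Matrix ι ι F)) →
    ∃ W : Submodule F (ι → F), (Module.finrank F ↥W = 1 ∧ ∃ v ∈ W, Q v ≠ 0) ∧
      W.map (Matrix.toLin' (x : Matrix ι ι F)) ≤ W

theorem allFix_two (h2 : (2 : F) = 0) {Q : QuadraticForm F (ι → F)} (hQ : (polarBilin Q).Nondegenerate)
    (hne : ∃ v, Q v ≠ 0)
    (hno : ∀ W : Submodule F (ι → F), (∀ w ∈ W, Q w = 0) → 2 * Module.finrank F W = Fintype.card ι →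
      ¬ Even (Module.finrank F W)) : AllFix (⇑Q) 2 := by
  intro x hx ⟨z, hz⟩ _
  have hxi := mem_isometry_of_mem_omegaGL hx
  have hz1 : z = 1 := scalar_eq_one h2 (pow_mem hxi 2) hne hz
  rw [hz1, one_smul, Units.val_pow_eq_pow_val, sq] at hz
  by_cases h : ∃ v, (x : Matrix ι ι F).mulVec v = v ∧ Q v ≠ 0
  · obtain ⟨v, hv, hQv⟩ := h
    refine ⟨Submodule.span F {v}, ⟨finrank_span_singleton fun h => hQv (by rw [h, QuadraticMap.map_zero]), v,
      Submodule.mem_span_singleton_self _, hQv⟩, ?_⟩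
    rw [Submodule.map_span, Set.image_singleton, Matrix.toLin'_apply, hv]
  · push Not at h
    obtain ⟨W, hW, hd, hev⟩ := involution_singular h2 hQ (Matrix.toLin' (x : Matrix ι ι F))
      (fun v => by rw [Matrix.toLin'_apply]; exact hxi v v)
      (fun v => by rw [Matrix.toLin'_apply, Matrix.toLin'_apply, Matrix.mulVec_mulVec, hz, Matrix.one_mulVec])
      (fun v hv => h v (by rw [← Matrix.toLin'_apply]; exact hv))
    rw [Module.finrank_pi] at hd
    exact absurd hev (hno W hW hd)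

theorem not_allFix_of_element (h2 : (2 : F) = 0) {Q : QuadraticForm F (ι → F)} (hne : ∃ v, Q v ≠ 0) {r : ℕ}
    (A : ↥(Cfsg.isometryGroup F ⇑Q)) (hA : A ∈ Cfsg.Omega F ⇑Q) (hr : A ^ r = 1)
    (hfix : ∀ v, ((A : GL ι F) : Matrix ι ι F).mulVec v = v → Q v = 0) : ¬ AllFix (⇑Q) r := by
  intro hall
  obtain ⟨w, hw⟩ := hne
  obtain ⟨W, ⟨hW1, v, hv, hQv⟩, hWA⟩ := hall (A : GL ι F) ⟨A, hA, rfl⟩
    ⟨1, by rw [← Subgroup.coe_pow, hr, Subgroup.coe_one, Units.val_one, one_smul]⟩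
    (fun z hz => hw (hfix w (by rw [hz, scalar_eq_one h2 A.2 ⟨w, hw⟩ hz, one_smul, Matrix.one_mulVec])))
  have hmem : ((A : GL ι F) : Matrix ι ι F).mulVec v ∈ W := by
    have := hWA (Submodule.mem_map_of_mem (f := Matrix.toLin' ((A : GL ι F) : Matrix ι ι F)) hv)
    rwa [Matrix.toLin'_apply] at this
  rw [point_eq_span hW1 hv fun h => hQv (by rw [h, QuadraticMap.map_zero])] at hmem
  obtain ⟨c, hc⟩ := Submodule.mem_span_singleton.1 hmem
  rw [eq_one_of_fixes h2 A.2 hQv hc.symm, one_smul] at hc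
  exact hQv (hfix v hc.symm)

theorem not_allFix_of_model [Fintype F] (h2 : (2 : F) = 0) {Q : QuadraticForm F (ι → F)}
    (hQ : (polarBilin Q).Nondegenerate) (h4 : 5 ≤ Fintype.card ι) (hne : ∃ v, Q v ≠ 0) {r : ℕ} (hr : Odd r)
    {V : Type*} [AddCommGroup V] [Module F V] (R : QuadraticForm F V) (e : V ≃ₗ[F] (ι → F))
    (he : ∀ v, Q (e v) = R v) (g : Module.End F V) (hg : ∀ v, R (g v) = R v) (hgr : g ^ r = 1)
    (hfix : ∀ v, g v = v → v = 0) : ¬ AllFix (⇑Q) r := by
  let g' : Module.End F (ι → F) := e.conjAlgEquiv F g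
  have hg' : ∀ v, g' v = e (g (e.symm v)) := fun v => rfl
  have hM : LinearMap.toMatrixAlgEquiv' g' ^ r = 1 := by
    rw [← map_pow, ← map_pow, hgr, map_one, map_one]
  let U : GL ι F := Units.ofPowEqOne _ r hM hr.pos.ne'
  have hUv : ∀ v, (U : Matrix ι ι F).mulVec v = g' v := fun v => LinearMap.toMatrix'_mulVec g' v
  have hmem : U ∈ Cfsg.isometryGroup F ⇑Q := fun u v => by
    show Q ((U : Matrix ι ι F).mulVec u) = Q u
    rw [hUv, hg', he, hg, ← he, e.apply_symm_apply]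
  have hUr : (⟨U, hmem⟩ : ↥(Cfsg.isometryGroup F ⇑Q)) ^ r = 1 := Subtype.ext (Units.ext (by
    rw [Subgroup.coe_pow, Units.val_pow_eq_pow_val]
    exact hM))
  refine not_allFix_of_element h2 hne ⟨U, hmem⟩ ?_ hUr fun v hv => ?_
  · have hidx : (Cfsg.Omega F ⇑Q).index = 2 := by
      rw [Quad.index_Omega hQ (Or.inr (by omega)) (by omega), Quad.card_sqClass_of_two_eq_zero h2]
    obtain ⟨k, hk⟩ := hr
    have hsq : ((⟨U, hmem⟩ : ↥(Cfsg.isometryGroup F ⇑Q)) ^ (k + 1)) *
        (⟨U, hmem⟩ : ↥(Cfsg.isometryGroup F ⇑Q)) ^ (k + 1) = ⟨U, hmem⟩ := by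
      rw [← pow_add, show k + 1 + (k + 1) = r + 1 by omega, pow_succ, hUr, one_mul]
    rw [← hsq]
    exact Subgroup.mul_self_mem_of_index_two hidx _
  · have h : g (e.symm v) = e.symm v := e.injective (by rw [← hg', e.apply_symm_apply, ← hUv]; exact hv)
    rw [← e.apply_symm_apply v, hfix _ h, map_zero, QuadraticMap.map_zero]

end Matrices

section Models

variable [Fintype F] {p : ℕ} [Fact p.Prime] [CharP F p] {r : ℕ} (hr : r.Prime) (hr2 : r ≠ 2) (hrp : r ≠ p)

include p hr hrp in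
theorem ne_zero_mod : (Fintype.card F : ZMod r) ≠ 0 := fun h0 => by
  obtain ⟨f₀, -, hq⟩ := FiniteField.card F p
  have hdvd : r ∣ Fintype.card F := (ZMod.natCast_eq_zero_iff _ _).1 h0
  rw [hq] at hdvd
  exact hrp ((Nat.prime_dvd_prime_iff_eq hr Fact.out).1 (hr.dvd_of_dvd_pow hdvd))

include p hr hrp in
theorem exists_params : ∃ i t : ℕ, i = orderOf (Fintype.card F : ZMod r) ∧ t * i = r - 1 := by
  haveI : Fact r.Prime := ⟨hr⟩
  obtain ⟨c, hc⟩ := ZMod.orderOf_dvd_card_sub_one (ne_zero_mod (F := F) (p := p) hr hrp)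
  exact ⟨_, c, rfl, by rw [hc, mul_comm]⟩

include p hr hr2 hrp in
theorem exists_plus_fpf {d : ℕ} (hd : (Fintype.card F : ZMod r) ^ d = 1) :
    ∃ g : Module.End F (Fin d ⊕ Fin d → F), (∀ v, Quad.qPlus d F (g v) = Quad.qPlus d F v) ∧ g ^ r = 1 ∧
      ∀ v, g v = v → v = 0 := by
  classical
  obtain ⟨i, t, hi, ht⟩ := exists_params (p := p) (F := F) hr hrp
  obtain ⟨hdeg, hcard, hi0⟩ := cycFactors_facts hr hrp hi ht (p := p) (F := F)
  obtain ⟨c, rfl⟩ : i ∣ d := hi ▸ orderOf_dvd_of_pow_eq_one hd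
  obtain ⟨j₀, hj₀⟩ : (cycFactors F r).Nonempty := Finset.card_pos.1 (hcard ▸ Nat.pos_of_ne_zero fun h => by
    rw [h, zero_mul] at ht; have := hr.two_le; omega)
  set δ := dualPerm (F := F) (p := p) hr hrp (RingHom.id F) (fun _ => rfl) with hδ
  have hinv : ∀ j, δ (δ j) = j := dualPerm_invol (p := p) hr hrp (RingHom.id F) (fun _ => rfl)
  let a : cycFactors F r → ℕ := fun j => (if j = ⟨j₀, hj₀⟩ then c else 0) + (if δ j = ⟨j₀, hj₀⟩ then c else 0)
  have hfix : a ∘ δ = a := funext fun j => by simp only [a, Function.comp_apply, hinv]; ring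
  have hsum : ∑ j, a j = c + c := by
    simp only [a, Finset.sum_add_distrib]
    rw [Equiv.sum_comp δ fun j => if j = (⟨j₀, hj₀⟩ : cycFactors F r) then c else 0]
    simp
  rcases exists_std_model hr hr2 hrp hi ht hfix (k := i * c) (by rw [hsum]; ring) with
    ⟨-, g, N, hg, hN, hN', hc⟩ | ⟨-, hoddS, -⟩
  · obtain ⟨hc', hf⟩ := charpoly_fpf hr hrp hi ht g hc
    exact ⟨g, hg, pow_prime_eq_one hr hrp g hN hN' hc', hf⟩
  · exact absurd hoddS (Nat.not_odd_iff_even.2 (hsum ▸ ⟨c, rfl⟩))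

include p hr hr2 hrp in
theorem exists_minus_fpf {d : ℕ} (hd0 : 1 ≤ d) (hd : (Fintype.card F : ZMod r) ^ d = -1) :
    ∃ ζ : F, (∀ t : F, t ^ 2 + t + ζ ≠ 0) ∧
      ∃ g : Module.End F ((Fin (d - 1) ⊕ Fin (d - 1)) ⊕ Fin 2 → F),
        (∀ v, Quad.qMinus (d - 1) F 1 ζ (g v) = Quad.qMinus (d - 1) F 1 ζ v) ∧ g ^ r = 1 ∧
        ∀ v, g v = v → v = 0 := by
  classical
  haveI : Fact r.Prime := ⟨hr⟩
  obtain ⟨i, t, hi, ht⟩ := exists_params (p := p) (F := F) hr hrp
  obtain ⟨hdeg, hcard, hi0⟩ := cycFactors_facts hr hrp hi ht (p := p) (F := F)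
  haveI : Fact (2 < r) := ⟨lt_of_le_of_ne hr.two_le (Ne.symm hr2)⟩
  have hne : ¬ i ∣ d := fun h => by
    rw [hi, orderOf_dvd_iff_pow_eq_one, hd] at h
    exact ZMod.neg_one_ne_one h
  obtain ⟨c, hc2⟩ : i ∣ 2 * d := hi ▸ orderOf_dvd_of_pow_eq_one
    (by rw [mul_comm, pow_mul, hd, neg_one_sq])
  have hev : Even i := by
    by_contra h
    exact hne ((Nat.coprime_two_right.2 (Nat.not_even_iff_odd.1 h)).dvd_of_dvd_mul_left ⟨c, hc2⟩)
  have hcodd : Odd c := Nat.not_even_iff_odd.1 fun ⟨l, hl⟩ => hne ⟨l, by subst hl; linarith⟩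
  obtain ⟨j₀, hj₀⟩ : (cycFactors F r).Nonempty := Finset.card_pos.1 (hcard ▸ Nat.pos_of_ne_zero fun h => by
    rw [h, zero_mul] at ht; have := hr.two_le; omega)
  let a : cycFactors F r → ℕ := fun j => if j = ⟨j₀, hj₀⟩ then c else 0
  have hsum : ∑ j, a j = c := by simp [a]
  rcases exists_std_model hr hr2 hrp hi ht (fixed_of_even (p := p) hr hr2 hrp hi hev a) (k := d)
      (by rw [hsum, hc2]) with ⟨hpar, -⟩ | ⟨-, -, -, ζ, hζ, g, N, hg, hN, hN', hc⟩
  · exact absurd (hsum ▸ hpar hev) (Nat.not_even_iff_odd.2 hcodd)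
  · obtain ⟨hc', hf⟩ := charpoly_fpf hr hrp hi ht g hc
    exact ⟨ζ, hζ, g, hg, pow_prime_eq_one hr hrp g hN hN' hc', hf⟩

end Models

theorem cast_card_eq {r n : ℕ} (hr : r.Prime) (hr2 : r ≠ 2) {f : ℕ} (h : r ∣ (2 ^ f) * n) : (n : ZMod r) = 0 := by
  rw [ZMod.natCast_eq_zero_iff]
  refine (Nat.Coprime.pow_right f ?_).dvd_of_dvd_mul_left h
  exact (Nat.coprime_primes hr Nat.prime_two).2 hr2

section Plus

variable [Fintype F] {p : ℕ} [Fact p.Prime] [CharP F p]

omit [Fintype F] [Fact p.Prime] in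
theorem two_eq_zero (hp : p = 2) : (2 : F) = 0 := by
  subst hp
  exact_mod_cast CharP.cast_eq_zero F 2

theorem card_pow_two (hp : p = 2) : ∃ f, Fintype.card F = 2 ^ f := by
  obtain ⟨f, -, hf⟩ := FiniteField.card F p
  exact ⟨f, by rw [hf, hp]⟩

theorem card_points_plus (d : ℕ) (hd : 1 ≤ d) :
    Nat.card {W : Submodule F (Fin d ⊕ Fin d → F) // Module.finrank F ↥W = 1 ∧
        ∃ v ∈ W, Cfsg.quadFormPlus d F v ≠ 0} + Fintype.card F ^ (d - 1) =
      Fintype.card F ^ (d - 1) * Fintype.card F ^ d := by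
  set q := Fintype.card F with hq
  have h1 := card_points_mul (Quad.qPlus d F)
  have h2 := card_ne_zero_add (Quad.qPlus d F)
  rw [Quad.coe_qPlus] at h1 h2
  rw [Quad.card_quadFormPlus_zero rfl d hd, Nat.card_fun, Nat.card_eq_fintype_card (α := F),
    Nat.card_sum, Nat.card_fin, ← hq] at h2
  generalize Nat.card {W : Submodule F (Fin d ⊕ Fin d → F) // Module.finrank F ↥W = 1 ∧
      ∃ v ∈ W, Cfsg.quadFormPlus d F v ≠ 0} = N at h1 ⊢
  obtain ⟨k, rfl⟩ : ∃ k, d = k + 1 := ⟨d - 1, by omega⟩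
  rw [Nat.add_sub_cancel, show 2 * (k + 1) - 1 = 2 * k + 1 by omega] at *
  have hq1 : 2 ≤ q := Fintype.one_lt_card
  have hle : q ^ k ≤ q ^ (2 * k + 1) + q ^ (k + 1) :=
    le_trans (Nat.pow_le_pow_right (by omega) (by omega)) (Nat.le_add_left _ _)
  zify [hle] at h2
  rw [← hq] at h1
  zify [show 1 ≤ q by omega] at h1
  zify
  refine mul_right_cancel₀ (b := ((q : ℤ) - 1)) (by omega) ?_
  push_cast at h1 h2 ⊢
  linear_combination h1 + h2

theorem card_points_minus (d : ℕ) (hd : 1 ≤ d) {a b : F}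
    (hab : ∀ x y : F, x ^ 2 + a * x * y + b * y ^ 2 = 0 → x = 0 ∧ y = 0) :
    Nat.card {W : Submodule F ((Fin (d - 1) ⊕ Fin (d - 1)) ⊕ Fin 2 → F) // Module.finrank F ↥W = 1 ∧
        ∃ v ∈ W, Cfsg.quadFormMinus (d - 1) F a b v ≠ 0} =
      Fintype.card F ^ (d - 1) * (Fintype.card F ^ d + 1) := by
  set q := Fintype.card F with hq
  have h1 := card_points_mul (Quad.qMinus (d - 1) F a b)
  have h2 := card_ne_zero_add (Quad.qMinus (d - 1) F a b)
  rw [Quad.coe_qMinus] at h1 h2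
  rw [Quad.card_quadFormMinus_zero rfl d hd hab, Nat.card_fun, Nat.card_eq_fintype_card (α := F),
    Nat.card_sum, Nat.card_sum, Nat.card_fin, Nat.card_fin, ← hq] at h2
  generalize Nat.card {W : Submodule F ((Fin (d - 1) ⊕ Fin (d - 1)) ⊕ Fin 2 → F) // Module.finrank F ↥W = 1 ∧
      ∃ v ∈ W, Cfsg.quadFormMinus (d - 1) F a b v ≠ 0} = N at h1 ⊢
  obtain ⟨k, rfl⟩ : ∃ k, d = k + 1 := ⟨d - 1, by omega⟩
  simp only [Nat.add_sub_cancel, show 2 * (k + 1) - 1 = 2 * k + 1 by omega] at h1 h2 ⊢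
  have hq1 : 2 ≤ q := Fintype.one_lt_card
  have hle : q ^ (k + 1) ≤ q ^ (2 * k + 1) + q ^ k :=
    le_trans (Nat.pow_le_pow_right (by omega) (by omega)) (Nat.le_add_right _ _)
  zify [hle] at h2
  rw [← hq] at h1
  zify [show 1 ≤ q by omega] at h1
  zify
  refine mul_right_cancel₀ (b := ((q : ℤ) - 1)) (by omega) ?_
  push_cast at h1 h2 ⊢
  linear_combination h1 + h2

/-- The involution fixing a maximal singular subspace. -/
theorem not_allFix_two_plus (h2 : (2 : F) = 0) (d : ℕ) (hd : 3 ≤ d) (hev : Even d) :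
    ¬ AllFix (⇑(Quad.qPlus d F)) 2 := by
  classical
  let N : Matrix (Fin d) (Fin d) F := Matrix.of fun i j => if j = i.rev then 1 else 0
  have hrev : ∀ i : Fin d, i.rev ≠ i := fun i h => by
    have h' := congrArg Fin.val h
    rw [Fin.val_rev] at h'
    obtain ⟨l, hl⟩ := hev
    omega
  have hNv : ∀ (w : Fin d → F) i, N.mulVec w i = w i.rev := fun w i => by
    simp [N, Matrix.mulVec, dotProduct]
  let M : Matrix (Fin d ⊕ Fin d) (Fin d ⊕ Fin d) F := Matrix.fromBlocks 1 N 0 1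
  have hMl : ∀ v i, M.mulVec v (Sum.inl i) = v (Sum.inl i) + v (Sum.inr i.rev) := fun v i => by
    simp [M, Matrix.fromBlocks_mulVec, hNv]
  have hMr : ∀ v i, M.mulVec v (Sum.inr i) = v (Sum.inr i) := fun v i => by
    simp [M, Matrix.fromBlocks_mulVec]
  have hM2 : M * M = 1 := by
    refine Matrix.toLin'.injective (LinearMap.ext fun v => ?_)
    rw [Matrix.toLin'_one, Matrix.toLin'_mul, LinearMap.comp_apply, LinearMap.id_apply, Matrix.toLin'_apply,
      Matrix.toLin'_apply]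
    funext x
    rcases x with i | i
    · rw [hMl, hMl, hMr]
      linear_combination (v (Sum.inr i.rev)) * h2
    · rw [hMr, hMr]
  let U : GL (Fin d ⊕ Fin d) F := ⟨M, M, hM2, hM2⟩
  have hmem : U ∈ Cfsg.isometryGroup F ⇑(Quad.qPlus d F) := fun u v => by
    show Quad.qPlus d F (M.mulVec u) = Quad.qPlus d F u
    simp only [Quad.coe_qPlus, Cfsg.quadFormPlus, hMl, hMr, add_mul, Finset.sum_add_distrib]
    refine add_eq_left.2 (Finset.sum_involution (fun i _ => i.rev) (fun i _ => ?_) (fun i _ _ => hrev i)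
      (fun i _ => Finset.mem_univ _) (fun i _ => Fin.rev_rev i))
    rw [Fin.rev_rev]
    linear_combination (u (Sum.inr i.rev) * u (Sum.inr i)) * h2
  refine not_allFix_of_element h2 ⟨Sum.elim 1 (Pi.single ⟨0, by omega⟩ 1), ?_⟩ ⟨U, hmem⟩ ?_
    (Subtype.ext (Units.ext (by rw [Subgroup.coe_pow, Units.val_pow_eq_pow_val, sq]; exact hM2))) fun v hv => ?_
  · simp [Quad.coe_qPlus, Cfsg.quadFormPlus, Pi.single_apply]
  · rw [CharTwo.mem_Omega_iff_rank_even h2 (Quad.qPlus_nondeg d) (Or.inr (by simp; omega))]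
    suffices h : (M - 1).rank = d by show Even (M - 1).rank; rw [h]; exact hev
    let S : (Fin d → F) →ₗ[F] (Fin d ⊕ Fin d → F) :=
      { toFun := fun w => Sum.elim w 0
        map_add' := fun a b => by funext x; rcases x with i | i <;> simp
        map_smul' := fun c a => by funext x; rcases x with i | i <;> simp }
    have hS : Function.Injective S := fun a b h => funext fun i => congrFun h (Sum.inl i)
    have hrg : LinearMap.range (M - 1).mulVecLin = LinearMap.range S := by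
      ext w
      constructor
      · rintro ⟨v, rfl⟩
        refine ⟨fun i => v (Sum.inr i.rev), ?_⟩
        funext x
        rcases x with i | i <;> simp [S, Matrix.sub_mulVec, hMl, hMr]
      · rintro ⟨a, rfl⟩
        refine ⟨Sum.elim 0 fun i => a i.rev, ?_⟩
        funext x
        rcases x with i | i <;> simp [S, Matrix.sub_mulVec, hMl, hMr]
    rw [Matrix.rank, hrg, LinearMap.finrank_range_of_inj hS, Module.finrank_fin_fun]
  · have h0 : ∀ i, v (Sum.inr i) = 0 := fun i => by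
      have h := congrFun hv (Sum.inl i.rev)
      change M.mulVec v (Sum.inl i.rev) = v (Sum.inl i.rev) at h
      rw [hMl, Fin.rev_rev] at h
      exact add_eq_left.1 h
    simp [Quad.coe_qPlus, Cfsg.quadFormPlus, h0]

theorem plus_iff (hp : p = 2) (d : ℕ) (hd : 4 ≤ d) (r : ℕ) (hr : r.Prime)
    (hrΩ : r ∣ Nat.card {W : Submodule F (Fin d ⊕ Fin d → F) // Module.finrank F ↥W = 1 ∧
      ∃ v ∈ W, Cfsg.quadFormPlus d F v ≠ 0}) :
    AllFix (Cfsg.quadFormPlus d F) r ↔ (r = 2 ∧ Odd d) := by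
  rw [← Quad.coe_qPlus d F]
  have h2 : (2 : F) = 0 := two_eq_zero hp
  have hne : ∃ v, Quad.qPlus d F v ≠ 0 :=
    ⟨Sum.elim 1 (Pi.single ⟨0, by omega⟩ 1), by simp [Quad.coe_qPlus, Cfsg.quadFormPlus, Pi.single_apply]⟩
  constructor
  · intro h
    by_cases hr2 : r = 2
    · refine ⟨hr2, Nat.not_even_iff_odd.1 fun hev => ?_⟩
      exact not_allFix_two_plus h2 d (by omega) hev (hr2 ▸ h)
    · exfalso
      haveI : Fact r.Prime := ⟨hr⟩
      obtain ⟨f, hf⟩ := card_pow_two (F := F) hp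
      have hcard := congrArg (fun n : ℕ => (n : ZMod r)) (card_points_plus (F := F) d (by omega))
      simp only [Nat.cast_add, Nat.cast_mul, Nat.cast_pow, (ZMod.natCast_eq_zero_iff _ _).2 hrΩ, zero_add] at hcard
      have hq0 : (Fintype.card F : ZMod r) ^ (d - 1) ≠ 0 := pow_ne_zero _ (ne_zero_mod (F := F) (p := p) hr (hp ▸ hr2))
      have hone : (Fintype.card F : ZMod r) ^ d = 1 := mul_left_cancel₀ hq0 (by rw [mul_one]; exact hcard.symm)
      obtain ⟨g, hg, hgr, hfix⟩ := exists_plus_fpf (p := p) hr hr2 (hp ▸ hr2) hone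
      exact not_allFix_of_model h2 (Quad.qPlus_nondeg d) (by simp; omega) hne (hr.odd_of_ne_two hr2)
        (Quad.qPlus d F) (LinearEquiv.refl F _) (fun _ => rfl) g hg hgr hfix h
  · rintro ⟨rfl, hodd⟩
    refine allFix_two h2 (Quad.qPlus_nondeg d) hne fun W _ hWd hev => ?_
    rw [Fintype.card_sum, Fintype.card_fin] at hWd
    exact Nat.not_even_iff_odd.2 hodd (by rwa [show d = Module.finrank F W by omega])

theorem minus_iff (hp : p = 2) (d : ℕ) (hd : 4 ≤ d) (a b : F)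
    (hab : ∀ x y : F, x ^ 2 + a * x * y + b * y ^ 2 = 0 → x = 0 ∧ y = 0) (r : ℕ) (hr : r.Prime)
    (hrΩ : r ∣ Nat.card {W : Submodule F ((Fin (d - 1) ⊕ Fin (d - 1)) ⊕ Fin 2 → F) // Module.finrank F ↥W = 1 ∧
      ∃ v ∈ W, Cfsg.quadFormMinus (d - 1) F a b v ≠ 0}) :
    AllFix (Cfsg.quadFormMinus (d - 1) F a b) r ↔ r = 2 := by
  rw [← Quad.coe_qMinus (d - 1) F a b]
  have h2 : (2 : F) = 0 := two_eq_zero hp
  have hnd := Quad.qMinus_nondeg hab (d - 1)
  have hne : ∃ v, Quad.qMinus (d - 1) F a b v ≠ 0 :=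
    ⟨Sum.elim 0 (Pi.single 0 1), by simp [Quad.coe_qMinus, Cfsg.quadFormMinus]⟩
  constructor
  · intro h
    by_contra hr2
    haveI : Fact r.Prime := ⟨hr⟩
    have hcard := (ZMod.natCast_eq_zero_iff _ _).2 hrΩ
    rw [card_points_minus (F := F) d (by omega) hab] at hcard
    push_cast at hcard
    have hq0 : (Fintype.card F : ZMod r) ^ (d - 1) ≠ 0 := pow_ne_zero _ (ne_zero_mod (F := F) (p := p) hr (hp ▸ hr2))
    have hneg : (Fintype.card F : ZMod r) ^ d = -1 :=
      eq_neg_of_add_eq_zero_left ((mul_eq_zero.1 hcard).resolve_left hq0)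
    obtain ⟨η, hη, g, hg, hgr, hfix⟩ := exists_minus_fpf (p := p) hr hr2 (hp ▸ hr2) (by omega) hneg
    obtain ⟨ζ, σ, hζ, hσ⟩ : ∃ (ζ : F) (e : ((Fin (d - 1) ⊕ Fin (d - 1)) ⊕ Fin 2 → F) ≃ₗ[F]
        ((Fin (d - 1) ⊕ Fin (d - 1)) ⊕ Fin 2 → F)), (∀ t : F, t ^ 2 + t + ζ ≠ 0) ∧
        ∀ v, Quad.qMinus (d - 1) F a b (e v) = Cfsg.quadFormMinus (d - 1) F 1 ζ v := by
      rcases classify_even (m := d) (by simp; omega) (Quad.qMinus (d - 1) F a b) hnd with
        ⟨e, he⟩ | ⟨-, ζ, e, hζ, he⟩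
      · refine absurd (fun v => ?_) (not_isometric (m := d) (by omega) a b hab e.toEquiv)
        rw [← he v, Quad.coe_qMinus]
        rfl
      · exact ⟨ζ, e, hζ, he⟩
    obtain ⟨τ, hτ⟩ := minus_equiv (F := F) (d - 1) hζ hη
    exact not_allFix_of_model h2 hnd (by simp; omega) hne (hr.odd_of_ne_two hr2)
      (Quad.qMinus (d - 1) F 1 η) (τ.trans σ) (fun v => by rw [LinearEquiv.trans_apply, hσ, hτ, Quad.coe_qMinus])
      g hg hgr hfix h
  · rintro rfl
    refine allFix_two h2 hnd hne fun W hW hWd _ => ?_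
    have := Quad.qMinus_no_half hab (d - 1) W hW
    simp only [Fintype.card_sum, Fintype.card_fin] at hWd
    omega

end Plus

end CfsgLib.Geo.ElusiveNonsingularEven
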