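/-
Quadratic forms with a given polar form in characteristic two, and their symmetries of prime order.
-/
import Cfsg.Agent.Lib.Classical.CharTwo.StandardSigns
import Cfsg.Agent.Lib.Known.QuadClassify
import Cfsg.Agent.Lib.Classical.Symplectic.Geometry

set_option autoImplicit false

namespace CfsgLib.Geo.QuadPolar

open Module
open QuadraticMap (polar polarBilin)
open CfsgLib.Classical.Quad CfsgLib.Classical.CharTwo

variable {F : Type*} [Field F] [Fintype F] [CharP F 2]
variable {V : Type*} [AddCommGroup V] [Module F V] [FiniteDimensional F V]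
variable {Q : QuadraticForm F V}

/-- The polar form as a bilinear form. -/
abbrev pB (Q : QuadraticForm F V) : LinearMap.BilinForm F V := polarBilin Q

/-- The form `Q + f(·, a) ^ 2`. -/
def shiftQ (Q : QuadraticForm F V) (a : V) (v : V) : F := Q v + polar Q v a ^ 2

omit [Fintype F] [FiniteDimensional F V] in
theorem polar_self_zero (v : V) : polar Q v v = 0 := by
  rw [polar_self', show (2 : F) = 0 from CharTwo.two_eq_zero, zero_mul]

omit [Fintype F] [FiniteDimensional F V] in
theorem shiftQ_add (a u v : V) : shiftQ Q a (u + v) = shiftQ Q a u + shiftQ Q a v + polar Q u v := by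
  simp only [shiftQ]
  rw [apply_add, QuadraticMap.polar_add_left, CharTwo.add_sq]
  ring

omit [Fintype F] [FiniteDimensional F V] in
theorem shiftQ_smul (a : V) (c : F) (v : V) : shiftQ Q a (c • v) = c ^ 2 * shiftQ Q a v := by
  simp only [shiftQ]
  rw [apply_smul, polar_smul_left']
  ring

theorem exists_sqrt (x : F) : ∃ y : F, y ^ 2 = x := by
  obtain ⟨y, hy⟩ := (frobeniusEquiv F 2).surjective x
  exact ⟨y, by rw [← hy, frobeniusEquiv_apply, frobenius_def]⟩

/-- An additive square-homogeneous function is the square of a scalar product. -/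
theorem exists_sq_rep (hQ : (polarBilin Q).Nondegenerate) (h : V → F) (hs : ∀ (c : F) v, h (c • v) = c ^ 2 * h v)
    (ha : ∀ u v, h (u + v) = h u + h v) : ∃ a, ∀ v, h v = polar Q v a ^ 2 := by
  choose g hg using fun v => exists_sqrt (h v)
  have hinj : ∀ x y : F, x ^ 2 = y ^ 2 → x = y := fun x y e =>
    (frobeniusEquiv F 2).injective (by simpa [frobeniusEquiv_apply, frobenius_def] using e)
  let L : Module.Dual F V :=
    { toFun := g
      map_add' := fun u v => hinj _ _ (by rw [CharTwo.add_sq, hg, hg, hg, ha])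
      map_smul' := fun c v => hinj _ _ (by
        rw [RingHom.id_apply, smul_eq_mul, mul_pow, hg, hg, hs]) }
  refine ⟨((pB Q).toDual hQ).symm L, fun v => ?_⟩
  rw [QuadraticMap.polar_comm, ← QuadraticMap.polarBilin_apply_apply,
    LinearMap.BilinForm.apply_toDual_symm_apply]
  exact (hg v).symm

theorem exists_shiftQ (hQ : (polarBilin Q).Nondegenerate) (Q' : V → F) (hs : ∀ (c : F) v, Q' (c • v) = c ^ 2 * Q' v)
    (ha : ∀ u v, Q' (u + v) = Q' u + Q' v + polar Q u v) : ∃ a, ∀ v, Q' v = shiftQ Q a v := by
  obtain ⟨a, hr⟩ := exists_sq_rep hQ (fun v => Q' v + Q v)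
    (fun c v => by simp only [hs, apply_smul]; ring)
    (fun u v => by
      simp only [ha, apply_add]
      linear_combination (polar Q u v) * (CharTwo.two_eq_zero (R := F)))
  refine ⟨a, fun v => ?_⟩
  rw [shiftQ, ← hr v, ← add_assoc, add_comm (Q v) (Q' v), add_assoc, CharTwo.add_self_eq_zero, add_zero]

omit [Fintype F] [FiniteDimensional F V] in
theorem shiftQ_inj (hQ : (polarBilin Q).Nondegenerate) {a b : V} (h : ∀ v, shiftQ Q a v = shiftQ Q b v) : a = b := by
  refine sub_eq_zero.1 (hQ.2 (a - b) fun v => ?_)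
  have h1 : polar Q v a ^ 2 = polar Q v b ^ 2 := add_left_cancel (h v)
  rw [QuadraticMap.polarBilin_apply_apply, QuadraticMap.polar_sub_right]
  refine sub_eq_zero.2 ?_
  exact frobenius_inj F 2 (by simpa [frobenius_def] using h1)

omit [Fintype F] [FiniteDimensional F V] in
/-- A form whose shift has trivial invariant is carried to the original by a transvection. -/
theorem exists_carrier {a : V} (h : psi (Q a) = 1) :
    ∃ g : V ≃ₗ[F] V, (∀ u v, polar Q (g u) (g v) = polar Q u v) ∧ ∀ v, Q (g v) = shiftQ Q a v := by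
  obtain ⟨s, hs⟩ := psi_eq_one_iff.1 h
  obtain ⟨c, hc⟩ : ∃ c : F, c ^ 2 * Q a + c = 1 := by
    by_cases hs1 : s + 1 = 0
    · refine ⟨1, ?_⟩
      rw [← hs, show s ^ 2 + s = s * (s + 1) by ring, hs1]
      simp
    · refine ⟨(s + 1)⁻¹, ?_⟩
      rw [← hs]
      field_simp

  let T : V →ₗ[F] V := LinearMap.id + LinearMap.smulRight ((c • polarBilin Q a : V →ₗ[F] F)) a
  have hT : ∀ v, T v = v + (c * polar Q a v) • a := fun v => rfl
  have hTT : ∀ v, T (T v) = v := fun v => by
    rw [hT, hT, polar_add_right', polar_smul_right', polar_self_zero, mul_zero, add_zero, add_assoc, ← add_smul,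
      CharTwo.add_self_eq_zero, zero_smul, add_zero]
  refine ⟨LinearEquiv.ofLinear T T (LinearMap.ext hTT) (LinearMap.ext hTT), fun u v => ?_, fun v => ?_⟩
  · show polar Q (T u) (T v) = _
    rw [hT, hT, QuadraticMap.polar_add_left, polar_smul_left', polar_add_right', polar_add_right',
      polar_smul_right', polar_smul_right', polar_self_zero, QuadraticMap.polar_comm Q u a]
    linear_combination (c * polar Q a u * polar Q a v) * (CharTwo.two_eq_zero (R := F))
  · show Q (T v) = _
    rw [hT, apply_add, apply_smul, polar_smul_right', shiftQ, QuadraticMap.polar_comm Q v a]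
    linear_combination (polar Q a v ^ 2) * hc

variable [Fintype V]

omit [FiniteDimensional F V] in
theorem signSum_shiftQ (a : V) : signSum (shiftQ Q a) = psi (Q a) * signSum Q := signSum_shift Q a

omit [Fintype F] in
/-- A form with a singular subspace of half dimension has positive sign sum. -/
theorem signSum_of_singular [Fintype F] (hQ : (polarBilin Q).Nondegenerate) (Q' : V → F)
    (ha : ∀ u v, Q' (u + v) = Q' u + Q' v + polar Q u v) (U : Submodule F V) (hU : ∀ u ∈ U, Q' u = 0) {d : ℕ}
    (hd : finrank F V = 2 * d) (hUd : finrank F U = d) : signSum Q' = (Fintype.card F : ℤ) ^ d := by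
  classical
  have hUU : U = (pB Q).orthogonal U := by
    refine Submodule.eq_of_le_of_finrank_le (fun v hv u hu => ?_) (le_of_eq ?_)
    · show polar Q u v = 0
      have := ha u v
      rw [hU _ (U.add_mem hu hv), hU u hu, hU v hv] at this
      simpa using this.symm
    · rw [LinearMap.BilinForm.finrank_orthogonal hQ, hd, hUd]
      omega
  have hcard : (Fintype.card U : ℤ) = (Fintype.card F : ℤ) ^ d := by
    rw [card_eq_pow_finrank (K := F) (V := U), hUd]
    push_cast
    rfl
  have hinner : ∀ v, ∑ u : U, psi (Q' (v + u)) = if v ∈ U then (Fintype.card U : ℤ) else 0 := by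
    intro v
    split_ifs with hv
    · simp [hU _ (U.add_mem hv (SetLike.coe_mem _)), psi_zero]
    · obtain ⟨u, hu, hne⟩ : ∃ u ∈ U, polar Q v u ≠ 0 := by
        by_contra hcon
        push Not at hcon
        refine hv (hUU.symm ▸ (fun u hu => ?_ : v ∈ (pB Q).orthogonal U))
        show polar Q u v = 0
        rw [QuadraticMap.polar_comm]
        exact hcon u hu
      obtain ⟨c, hc⟩ := exists_psi_neg (F := F)
      have := sum_psi_eq_zero (fun w : U => polar Q v w) (fun x y => polar_add_right' v (x : V) y)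
        (a₀ := (c / polar Q v u) • ⟨u, hu⟩) (by
          rw [SetLike.val_smul, polar_smul_right', div_mul_cancel₀ _ hne, hc])
      calc ∑ w : U, psi (Q' (v + w)) = ∑ w : U, psi (Q' v) * psi (polar Q v w) :=
            Finset.sum_congr rfl fun w _ => by rw [ha, hU _ w.2, add_zero, psi_add]
        _ = 0 := by rw [← Finset.mul_sum, this, mul_zero]
  have h1 : ∑ v, ∑ u : U, psi (Q' (v + u)) = (Fintype.card U : ℤ) * signSum Q' := by
    rw [Finset.sum_comm]
    have : ∀ u : U, ∑ v, psi (Q' (v + u)) = signSum Q' := fun u =>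
      Equiv.sum_comp (Equiv.addRight (u : V)) fun v => psi (Q' v)
    rw [Finset.sum_congr rfl fun u _ => this u, Finset.sum_const, Finset.card_univ, nsmul_eq_mul]
  rw [Finset.sum_congr rfl fun v _ => hinner v, Finset.sum_ite, Finset.sum_const_zero, add_zero,
    Finset.sum_const, nsmul_eq_mul, show (Finset.univ.filter fun v => v ∈ U).card = Fintype.card U from
      (Fintype.card_subtype _).symm] at h1
  have := mul_left_cancel₀ (by exact_mod_cast Fintype.card_ne_zero) h1
  rw [← this, hcard]

omit [Fintype F] [CharP F 2] [Module F V] [FiniteDimensional F V] [AddCommGroup V] in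
theorem signSum_eq_count [CharP F 2] (Q' : V → F) :
    signSum Q' = 2 * (Nat.card {v // psi (Q' v) = 1} : ℤ) - Fintype.card V := by
  classical
  have : ∀ v, psi (Q' v) = 2 * (if psi (Q' v) = 1 then (1 : ℤ) else 0) - 1 := fun v => by
    rcases psi_cases (Q' v) with h | h <;> rw [h] <;> simp
  unfold signSum
  rw [Finset.sum_congr rfl fun v _ => this v, Finset.sum_sub_distrib, ← Finset.mul_sum, Finset.sum_boole,
    Nat.card_eq_fintype_card, Fintype.card_subtype, Finset.sum_const, Finset.card_univ]
  simp

omit [Fintype F] in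
/-- A fixed-point-free symmetry of prime order forces the sign sum to be one modulo that prime. -/
theorem signSum_mod [Fintype F] (Q' : V → F) (h0 : Q' 0 = 0) {r : ℕ} [Fact r.Prime] (x : V →ₗ[F] V) (hx : x ^ r = 1)
    (hfree : ∀ v, x v = v → v = 0) (hinv : ∀ v, Q' (x v) = Q' v) : (r : ℤ) ∣ signSum Q' - 1 := by
  classical
  obtain ⟨k, hk⟩ : ∃ k, r = k + 1 := ⟨r - 1, by have := (Fact.out : r.Prime).pos; omega⟩
  let σ : Equiv.Perm V :=
    { toFun := x
      invFun := ⇑(x ^ k)
      left_inv := fun v => by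
        show ((x ^ k) * x) v = v
        rw [← pow_succ, ← hk, hx]; rfl
      right_inv := fun v => by
        show (x * x ^ k) v = v
        rw [← pow_succ', ← hk, hx]; rfl }
  have hσ : ∀ (j : ℕ) v, (σ ^ j) v = (x ^ j) v := fun j => by
    induction j with
    | zero => exact fun _ => rfl
    | succ j ih => intro v; rw [pow_succ', pow_succ', Equiv.Perm.mul_apply, Module.End.mul_apply, ih]; rfl
  have hσr : σ ^ r ^ 1 = 1 := Equiv.ext fun v => by rw [pow_one, hσ, hx]; rfl
  have hS : ∀ v, psi (Q' v) = 1 ↔ psi (Q' (σ v)) = 1 := fun v => by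
    show _ ↔ psi (Q' (x v)) = 1
    rw [hinv]
  let τ : Equiv.Perm {v // psi (Q' v) = 1} := σ.subtypePerm fun v => (hS v).symm
  have hτr : τ ^ r ^ 1 = 1 := Equiv.ext fun v => Subtype.ext (by
    rw [pow_one, Equiv.Perm.subtypePerm_pow]
    show (σ ^ r) v = v
    rw [hσ, hx]; rfl)
  have c1 : σ.supportᶜ.card = 1 := by
    rw [Finset.card_eq_one]
    refine ⟨0, ?_⟩
    ext v
    simp only [Finset.mem_compl, Equiv.Perm.mem_support, not_not, Finset.mem_singleton]
    exact ⟨hfree v, fun h => by show x v = v; rw [h, map_zero]⟩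
  have c2 : τ.supportᶜ.card = 1 := by
    rw [Finset.card_eq_one]
    refine ⟨⟨0, by rw [h0, psi_zero]⟩, ?_⟩
    ext v
    simp only [Finset.mem_compl, Equiv.Perm.mem_support, not_not, Finset.mem_singleton, Subtype.ext_iff]
    exact ⟨hfree v, fun h => by show x (v : V) = v; rw [h, map_zero]⟩
  have m1 := Equiv.Perm.card_compl_support_modEq hσr
  have m2 := Equiv.Perm.card_compl_support_modEq hτr
  rw [c1, ← Int.natCast_modEq_iff] at m1
  rw [c2, ← Nat.card_eq_fintype_card, ← Int.natCast_modEq_iff] at m2
  rw [signSum_eq_count]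
  have d1 := Int.modEq_iff_dvd.1 m1
  have d2 := Int.modEq_iff_dvd.1 m2
  have := dvd_sub (dvd_mul_of_dvd_right d2 2) d1
  push_cast at this ⊢
  rw [show ∀ A B : ℤ, 2 * A - B - 1 = 2 * (A - 1) - (B - 1) from fun A B => by ring]
  exact this

/-- An involution preserving the polar form fixes a form of trivial invariant or one with a singular kernel. -/
theorem involution_fixed (hQ : (polarBilin Q).Nondegenerate) {d : ℕ} (hd : finrank F V = 2 * d) (t : V →ₗ[F] V)
    (ht : ∀ v, t (t v) = v) (htQ : ∀ u v, polar Q (t u) (t v) = polar Q u v) :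
    ∃ a, (∀ v, shiftQ Q a (t v) = shiftQ Q a v) ∧
      (psi (Q a) = 1 ∨ (signSum (shiftQ Q a) = (Fintype.card F : ℤ) ^ d ∧ Even d)) := by
  classical
  let N : V →ₗ[F] V := t + LinearMap.id
  have hN : ∀ v, N v = t v + v := fun v => rfl
  have hneg : ∀ v : V, v + v = 0 := fun v => by
    rw [← two_smul F v, CharTwo.two_eq_zero, zero_smul]
  have hsym : ∀ u v, polar Q (N u) v = polar Q u (N v) := fun u v => by
    rw [hN, hN, QuadraticMap.polar_add_left, polar_add_right']
    congr 1
    rw [← htQ (t u) v, ht]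
  have hNN : ∀ v, N (N v) = 0 := fun v => by
    rw [hN, hN, map_add, ht, add_comm v (t v)]
    exact hneg _
  have hrange : LinearMap.range N = (pB Q).orthogonal (LinearMap.ker N) := by
    refine Submodule.eq_of_le_of_finrank_le ?_ (le_of_eq ?_)
    · rintro _ ⟨v, rfl⟩ u hu
      show polar Q u (N v) = 0
      rw [← hsym, LinearMap.mem_ker.1 hu, QuadraticMap.polar_zero_left]
    · rw [LinearMap.BilinForm.finrank_orthogonal hQ]
      have := N.finrank_range_add_finrank_ker
      omega
  have hp0 : ∀ u v, polar Q (t u) (t v) + polar Q u v = 0 := fun u v => by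
    rw [htQ, CharTwo.add_self_eq_zero]
  obtain ⟨c, hc⟩ := exists_sq_rep hQ (fun v => Q (t v) + Q v) (fun e v => by simp only [map_smul, apply_smul]; ring)
    (fun u v => by
      simp only [map_add, apply_add]
      linear_combination hp0 u v)
  obtain ⟨a₀, ha₀⟩ : c ∈ LinearMap.range N := by
    rw [hrange]
    intro k hk
    show polar Q k c = 0
    have e : t k = k := by
      have h := LinearMap.mem_ker.1 hk
      rw [hN] at h
      rw [← add_zero (t k), ← hneg k, ← add_assoc, h, zero_add]
    have := hc k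
    simp only [e, CharTwo.add_self_eq_zero] at this
    exact sq_eq_zero_iff.1 this.symm
  have hfix : ∀ k ∈ LinearMap.ker N, ∀ v, shiftQ Q (a₀ + k) (t v) = shiftQ Q (a₀ + k) v := by
    intro k hk v
    have h1 : polar Q (t v) (a₀ + k) = polar Q v (a₀ + k) + polar Q v c := by
      rw [show polar Q v c = polar Q (N v) (a₀ + k) by
        rw [hsym, map_add, LinearMap.mem_ker.1 hk, add_zero, ha₀], hN, QuadraticMap.polar_add_left]
      linear_combination (-polar Q v (a₀ + k)) * (CharTwo.two_eq_zero (R := F))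
    simp only [shiftQ, h1, CharTwo.add_sq, ← hc]
    linear_combination (Q (t v) : F) * (CharTwo.two_eq_zero (R := F))
  by_cases hex : ∃ k ∈ LinearMap.ker N, psi (Q (a₀ + k)) = 1
  · obtain ⟨k, hk, h⟩ := hex
    exact ⟨a₀ + k, hfix k hk, Or.inl h⟩
  push Not at hex
  refine ⟨a₀, fun v => by simpa using hfix 0 (zero_mem _) v, Or.inr ?_⟩
  have hone : ∀ k ∈ LinearMap.ker N, psi (Q k + polar Q a₀ k) = 1 := fun k hk => by
    have h1 := (psi_cases _).resolve_left (hex k hk)
    have h2 := (psi_cases _).resolve_left (hex 0 (zero_mem _))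
    rw [apply_add, add_assoc, psi_add] at h1
    rw [add_zero] at h2
    rw [h2] at h1
    linarith
  obtain ⟨e, he⟩ := exists_psi_neg (F := F)
  have hiso : ∀ k ∈ LinearMap.ker N, ∀ l ∈ LinearMap.ker N, polar Q k l = 0 := by
    intro k hk l hl
    by_contra hne
    set l' := (e / polar Q k l) • l
    have hl' : l' ∈ LinearMap.ker N := Submodule.smul_mem _ _ hl
    have h := hone (k + l') (Submodule.add_mem _ hk hl')
    rw [apply_add, polar_add_right', show Q k + Q l' + polar Q k l' + (polar Q a₀ k + polar Q a₀ l') =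
      (Q k + polar Q a₀ k) + (Q l' + polar Q a₀ l') + polar Q k l' by ring, psi_add, psi_add, hone k hk,
      hone l' hl', polar_smul_right', div_mul_cancel₀ _ hne, he] at h
    norm_num at h
  have hsing : ∀ k ∈ LinearMap.ker N, shiftQ Q a₀ k = 0 := by
    intro k hk
    obtain ⟨s, hs⟩ := exists_sqrt (Q k)
    by_contra hne
    have hne' : s + polar Q a₀ k ≠ 0 := fun h => hne (by
      rw [shiftQ, ← hs, QuadraticMap.polar_comm Q k a₀, ← CharTwo.add_sq, h, zero_pow two_ne_zero])
    set w := e / (s + polar Q a₀ k)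
    have h := hone (w • k) (Submodule.smul_mem _ _ hk)
    rw [apply_smul, polar_smul_right', ← hs, show w * w * s ^ 2 = (w * s) ^ 2 by ring, psi_add, psi_sq,
      ← psi_add, ← mul_add, div_mul_cancel₀ _ hne', he] at h
    norm_num at h
  have hsplit := N.finrank_range_add_finrank_ker
  have hkerle : finrank F (LinearMap.ker N) ≤ finrank F (LinearMap.range N) :=
    Submodule.finrank_mono (hrange ▸ fun v hv u hu => hiso u hu v hv)
  have hrle : finrank F (LinearMap.range N) ≤ finrank F (LinearMap.ker N) :=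
    Submodule.finrank_mono (by rintro _ ⟨v, rfl⟩; exact hNN v)
  have hkd : finrank F (LinearMap.ker N) = d := by omega
  refine ⟨signSum_of_singular hQ (shiftQ Q a₀) (shiftQ_add a₀) _ hsing hd hkd, ?_⟩
  have halt : ∀ v, polar Q v (N v) = 0 := fun v => by
    have h := hfix 0 (zero_mem _) v
    rw [add_zero, show t v = N v + v by rw [hN, add_assoc, hneg, add_zero], shiftQ_add,
      hsing (N v) (hNN v), zero_add, add_eq_left] at h
    rw [QuadraticMap.polar_comm]
    exact h
  obtain ⟨C, hC⟩ := Submodule.exists_isCompl (LinearMap.ker N)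
  have hCd : finrank F C = d := by
    have := Submodule.finrank_add_eq_of_isCompl hC
    omega
  let b : LinearMap.BilinForm F C := (((polarBilin Q).compl₂ N).comp C.subtype).compl₂ C.subtype
  have hb : ∀ u v : C, b u v = polar Q (u : V) (N v) := fun u v => rfl
  have hnd : ∀ u, (∀ v, b u v = 0) → u = 0 := by
    intro u hu
    have hu' : (u : V) ∈ LinearMap.ker N := by
      refine hQ.1 _ fun v => ?_
      show polar Q (N (u : V)) v = 0
      obtain ⟨k, hk, w, hw, rfl⟩ := Submodule.mem_sup.1
        (hC.sup_eq_top.symm ▸ (Submodule.mem_top : v ∈ ⊤) : v ∈ LinearMap.ker N ⊔ C)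
      rw [hsym, map_add, LinearMap.mem_ker.1 hk, zero_add]
      exact hu ⟨w, hw⟩
    exact Subtype.ext (by simpa using (hC.disjoint.le_bot ⟨hu', u.2⟩ : (u : V) ∈ (⊥ : Submodule F V)))
  have hbA : b.IsAlt := fun u => halt u
  have hbN : b.Nondegenerate := ⟨hnd, fun u h => hnd u fun v => by
    rw [← LinearMap.IsAlt.neg hbA v u, h v, neg_zero]⟩
  obtain ⟨m, -, -, hm⟩ := CfsgLib.Classical.Symp.exists_sympSys hbA hbN
  exact ⟨m, by omega⟩

end CfsgLib.Geo.QuadPolar
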