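/-
Elements of prime order of the symplectic group in characteristic two and the invariant quadratic forms.
-/
import Cfsg.Agent.Lib.Geo.QuadPolarForms
import Cfsg.Agent.Lib.Geo.PrimeOrderConstruct
import Cfsg.Agent.Lib.Classical.Symplectic.Matrix
import Cfsg.Prelude.Def_GeometricClasses

set_option autoImplicit false

namespace CfsgLib.Geo.QuadPolar

open Module Matrix
open QuadraticMap (polar polarBilin)
open CfsgLib.Classical.Quad CfsgLib.Classical.CharTwo

variable {F : Type*} [Field F] {d : ℕ}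

local notation "𝔼" => (Fin d ⊕ Fin d → F)

theorem exists_bundle {Q : 𝔼 → F} (hQ : Cfsg.Geo.IsNondegenerateQuadraticForm Q) :
    ∃ QF : QuadraticForm F 𝔼, ⇑QF = Q ∧ (polarBilin QF).Nondegenerate := by
  let QF : QuadraticForm F 𝔼 := QuadraticMap.ofPolar Q (fun c v => by rw [hQ.smul, smul_eq_mul, pow_two])
    (fun u u' v => hQ.polar_bilinear.add_left u u' v)
    (fun c u v => by rw [hQ.polar_bilinear.smul_left, smul_eq_mul])
  refine ⟨QF, rfl, fun u h => ?_, fun u h => ?_⟩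
  · by_contra hu
    obtain ⟨w, hw⟩ := (hQ.nondegenerate u hu).2
    exact hw (h w)
  · by_contra hu
    obtain ⟨w, hw⟩ := (hQ.nondegenerate u hu).1
    exact hw (h w)

theorem finrank_carrier : finrank F 𝔼 = 2 * d := by
  rw [finrank_pi, Fintype.card_sum, Fintype.card_fin]; ring

theorem card_carrier [Fintype F] : Fintype.card 𝔼 = Fintype.card F ^ (2 * d) := by
  rw [Fintype.card_fun, Fintype.card_sum, Fintype.card_fin]; ring

variable [Fintype F] [CharP F 2] {QF : QuadraticForm F (Fin d ⊕ Fin d → F)}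

open scoped Classical in
theorem sign_plus (hQ : (polarBilin QF).Nondegenerate) (h : Cfsg.Geo.IsPlusTypeOn (⇑QF) ⊤) :
    signSum ⇑QF = (Fintype.card F : ℤ) ^ d := by
  obtain ⟨U, -, hU, hd⟩ := h
  rw [finrank_top, finrank_carrier] at hd
  exact signSum_of_singular hQ QF (fun u v => apply_add u v) U hU finrank_carrier (by omega)

open scoped Classical in
theorem sign_minus (hQ : (polarBilin QF).Nondegenerate) (hd : 1 ≤ d) (h : ¬ Cfsg.Geo.IsPlusTypeOn (⇑QF) ⊤) :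
    signSum ⇑QF = -(Fintype.card F : ℤ) ^ d := by
  rcases CfsgLib.Known.QuadClassify.classify_even (finrank_carrier (F := F) (d := d)) QF hQ with
    ⟨e, he⟩ | ⟨-, ζ, e, hζ, he⟩
  · refine absurd ?_ h
    let J : (Fin d → F) →ₗ[F] 𝔼 :=
      { toFun := fun w => Sum.elim w 0
        map_add' := fun u v => by ext x; rcases x with i | i <;> simp
        map_smul' := fun c v => by ext x; rcases x with i | i <;> simp }
    have hJ : Function.Injective (e.toLinearMap ∘ₗ J) :=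
      e.injective.comp fun u v h => funext fun i => by simpa [J] using congrFun h (Sum.inl i)
    refine ⟨LinearMap.range (e.toLinearMap ∘ₗ J), le_top, ?_, ?_⟩
    · rintro _ ⟨w, rfl⟩
      show QF (e (J w)) = 0
      rw [he]
      simp [Cfsg.quadFormPlus, J]
    · rw [LinearMap.finrank_range_of_inj hJ, finrank_top, finrank_carrier, finrank_pi, Fintype.card_fin]
  · rw [show signSum ⇑QF = signSum (fun v => QF (e v)) from (Equiv.sum_comp e.toEquiv fun v => psi (QF v)).symm]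
    classical
    have := signSum_qMinus (fun z₁ z₂ => CfsgLib.Known.QuadClassify.aniso_of_no_root hζ z₁ z₂) (d - 1)
    rw [coe_qMinus, show d - 1 + 1 = d by omega] at this
    rw [← this]
    congr 1
    funext v
    exact he v

omit [Fintype F] [CharP F 2] in
theorem mem_spGL {g : GL (Fin d ⊕ Fin d) F} : g ∈ Cfsg.spGL d F ↔ ∀ u v : 𝔼, Cfsg.sympForm d F
    ((g : Matrix (Fin d ⊕ Fin d) (Fin d ⊕ Fin d) F) *ᵥ u) ((g : Matrix (Fin d ⊕ Fin d) (Fin d ⊕ Fin d) F) *ᵥ v) =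
      Cfsg.sympForm d F u v := Iff.rfl

variable (hQ : (polarBilin QF).Nondegenerate) (hf : ∀ u v, polar QF u v = Cfsg.sympForm d F u v)

omit [Fintype F] [CharP F 2] in
include hf in
theorem polar_map {g : GL (Fin d ⊕ Fin d) F} (hg : g ∈ Cfsg.spGL d F) (u v : 𝔼) :
    polar QF ((g : Matrix (Fin d ⊕ Fin d) (Fin d ⊕ Fin d) F) *ᵥ u)
      ((g : Matrix (Fin d ⊕ Fin d) (Fin d ⊕ Fin d) F) *ᵥ v) = polar QF u v := by
  rw [hf, hf]; exact mem_spGL.1 hg u v

include hQ hf in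
omit [Fintype F] [CharP F 2] in
theorem sim_fixed (hd : 1 ≤ d) {g : GL (Fin d ⊕ Fin d) F} (hg : g ∈ Cfsg.spGL d F) :
    g ∈ Cfsg.Geo.quadSimilarityGroup (⇑QF) ↔
      ∀ v, QF ((g : Matrix (Fin d ⊕ Fin d) (Fin d ⊕ Fin d) F) *ᵥ v) = QF v := by
  refine ⟨?_, fun h => ⟨1, fun v => by rw [h, Units.val_one, one_mul]⟩⟩
  rintro ⟨c, hc⟩ v
  obtain ⟨w, hw⟩ : ∃ w : 𝔼, w ≠ 0 := ⟨fun _ => 1, fun h => one_ne_zero (congrFun h (Sum.inl ⟨0, hd⟩))⟩
  obtain ⟨u, hu⟩ : ∃ u, polar QF w u ≠ 0 := by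
    by_contra hcon
    push Not at hcon
    exact hw (hQ.1 w hcon)
  have h1 := polar_map hf hg w u
  rw [QuadraticMap.polar, ← Matrix.mulVec_add, hc, hc, hc, ← mul_sub, ← mul_sub] at h1
  rw [hc, show (c : F) = 1 from (mul_eq_right₀ hu).1 h1, one_mul]

include hQ hf in
theorem carrier_unique (g : Cfsg.spGL d F) : ∃ a, psi (QF a) = 1 ∧ ∀ v,
    QF ((((g : GL (Fin d ⊕ Fin d) F)⁻¹ : GL (Fin d ⊕ Fin d) F) : Matrix (Fin d ⊕ Fin d) (Fin d ⊕ Fin d) F) *ᵥ v) =
      shiftQ QF a v := by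
  classical
  have hgi := (Cfsg.spGL d F).inv_mem g.2
  set M : Matrix (Fin d ⊕ Fin d) (Fin d ⊕ Fin d) F := (((g : GL (Fin d ⊕ Fin d) F)⁻¹ : GL (Fin d ⊕ Fin d) F) :)
  obtain ⟨a, ha⟩ := exists_shiftQ hQ (fun v => QF (M *ᵥ v))
    (fun c v => by simp only [Matrix.mulVec_smul, apply_smul]; ring)
    (fun u v => by simp only [Matrix.mulVec_add, apply_add]; rw [polar_map hf hgi])
  refine ⟨a, ?_, ha⟩
  have h := signSum_shiftQ (Q := QF) a
  let eM : 𝔼 ≃ 𝔼 :=
    { toFun := fun v => M *ᵥ v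
      invFun := fun v => ((g : GL (Fin d ⊕ Fin d) F) : Matrix (Fin d ⊕ Fin d) (Fin d ⊕ Fin d) F) *ᵥ v
      left_inv := fun v => by
        show _ *ᵥ (M *ᵥ v) = v
        rw [Matrix.mulVec_mulVec, ← Units.val_mul, mul_inv_cancel, Units.val_one, Matrix.one_mulVec]
      right_inv := fun v => by
        show M *ᵥ (_ *ᵥ v) = v
        rw [Matrix.mulVec_mulVec, ← Units.val_mul, inv_mul_cancel, Units.val_one, Matrix.one_mulVec] }
  rw [← funext ha, show signSum (fun v => QF (M *ᵥ v)) = signSum ⇑QF from signSum_comp_equiv (⇑QF) eM] at h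
  exact (mul_eq_right₀ (signSum_ne_zero hQ)).1 h.symm

include hQ hf in
theorem carrier_exists {a : 𝔼} (ha : psi (QF a) = 1) : ∃ g : Cfsg.spGL d F, ∀ v,
    QF ((((g : GL (Fin d ⊕ Fin d) F)⁻¹ : GL (Fin d ⊕ Fin d) F) : Matrix (Fin d ⊕ Fin d) (Fin d ⊕ Fin d) F) *ᵥ v) =
      shiftQ QF a v := by
  obtain ⟨h, hh, hh'⟩ := exists_carrier (Q := QF) ha
  let M : GL (Fin d ⊕ Fin d) F :=
    { val := LinearMap.toMatrix' h.toLinearMap
      inv := LinearMap.toMatrix' h.symm.toLinearMap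
      val_inv := by rw [← LinearMap.toMatrix'_comp, LinearEquiv.comp_symm, LinearMap.toMatrix'_id]
      inv_val := by rw [← LinearMap.toMatrix'_comp, LinearEquiv.symm_comp, LinearMap.toMatrix'_id] }
  have hM : ∀ v, (M : Matrix (Fin d ⊕ Fin d) (Fin d ⊕ Fin d) F) *ᵥ v = h v := fun v => by
    show LinearMap.toMatrix' h.toLinearMap *ᵥ v = _
    rw [← Matrix.toLin'_apply, Matrix.toLin'_toMatrix']; rfl
  have hmem : M ∈ Cfsg.spGL d F := mem_spGL.2 fun u v => by rw [hM, hM, ← hf, ← hf, hh]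
  exact ⟨⟨M⁻¹, (Cfsg.spGL d F).inv_mem hmem⟩, fun v => by rw [show (((⟨M⁻¹, (Cfsg.spGL d F).inv_mem hmem⟩ :
    Cfsg.spGL d F) : GL (Fin d ⊕ Fin d) F))⁻¹ = M from inv_inv M, hM, hh']⟩

include hQ hf in
/-- Twice the number of forms of the given type. -/
theorem two_mul_relIndex (hd : 1 ≤ d) :
    2 * ((Cfsg.Geo.quadSimilarityGroup (⇑QF)).relIndex (Cfsg.spGL d F) : ℤ) =
      (Fintype.card F : ℤ) ^ (2 * d) + signSum ⇑QF := by
  classical
  choose φ hφ1 hφ2 using carrier_unique hQ hf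
  have key : ∀ g g' : Cfsg.spGL d F, φ g = φ g' ↔
      g⁻¹ * g' ∈ (Cfsg.Geo.quadSimilarityGroup (⇑QF)).subgroupOf (Cfsg.spGL d F) := by
    intro g g'
    rw [Subgroup.mem_subgroupOf, sim_fixed hQ hf hd (g⁻¹ * g').2, Subgroup.coe_mul, Subgroup.coe_inv]
    constructor
    · intro e v
      rw [Units.val_mul, ← Matrix.mulVec_mulVec, hφ2, e, ← hφ2, Matrix.mulVec_mulVec, ← Units.val_mul,
        inv_mul_cancel, Units.val_one, Matrix.one_mulVec]
    · intro e
      refine shiftQ_inj hQ fun v => ?_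
      have := e ((((g' : GL (Fin d ⊕ Fin d) F)⁻¹ : GL (Fin d ⊕ Fin d) F) : Matrix (Fin d ⊕ Fin d) (Fin d ⊕ Fin d) F) *ᵥ v)
      rw [Matrix.mulVec_mulVec, ← Units.val_mul, mul_inv_cancel_right, hφ2, hφ2] at this
      exact this
  let Φ : Cfsg.spGL d F ⧸ (Cfsg.Geo.quadSimilarityGroup (⇑QF)).subgroupOf (Cfsg.spGL d F) → {a // psi (QF a) = 1} :=
    Quotient.lift (fun g => ⟨φ g, hφ1 g⟩) fun g g' h => Subtype.ext ((key g g').2 (QuotientGroup.leftRel_apply.1 h))
  have hΦ : Function.Bijective Φ := by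
    constructor
    · intro x y
      induction x using Quotient.inductionOn with
      | _ g =>
        induction y using Quotient.inductionOn with
        | _ g' =>
          intro h
          exact Quotient.sound (QuotientGroup.leftRel_apply.2 ((key g g').1 (congrArg Subtype.val h)))
    · rintro ⟨a, ha⟩
      obtain ⟨g, hg⟩ := carrier_exists hQ hf ha
      exact ⟨QuotientGroup.mk g, Subtype.ext (shiftQ_inj hQ fun v => ((hφ2 g v).symm.trans (hg v)))⟩
  have hidx : (Cfsg.Geo.quadSimilarityGroup (⇑QF)).relIndex (Cfsg.spGL d F) = Nat.card {a // psi (QF a) = 1} :=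
    Nat.card_eq_of_bijective _ hΦ
  rw [hidx, signSum_eq_count, card_carrier]
  push_cast
  ring

include hQ hf in
/-- An element fixes a point exactly when it fixes a form of the same type. -/
theorem fixes_iff (hd : 1 ≤ d) {x : GL (Fin d ⊕ Fin d) F} (hx : x ∈ Cfsg.spGL d F) :
    (∃ g ∈ Cfsg.spGL d F, g⁻¹ * x * g ∈ Cfsg.Geo.quadSimilarityGroup (⇑QF)) ↔
      ∃ a, psi (QF a) = 1 ∧
        ∀ v, shiftQ QF a ((x : Matrix (Fin d ⊕ Fin d) (Fin d ⊕ Fin d) F) *ᵥ v) = shiftQ QF a v := by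
  constructor
  · rintro ⟨g, hg, h⟩
    obtain ⟨a, ha, ha'⟩ := carrier_unique hQ hf ⟨g, hg⟩
    refine ⟨a, ha, fun v => ?_⟩
    rw [sim_fixed hQ hf hd (mul_mem (mul_mem (inv_mem hg) hx) hg)] at h
    have := h (((g⁻¹ : GL (Fin d ⊕ Fin d) F) : Matrix (Fin d ⊕ Fin d) (Fin d ⊕ Fin d) F) *ᵥ v)
    rw [Matrix.mulVec_mulVec, ← Units.val_mul, mul_inv_cancel_right, Units.val_mul, ← Matrix.mulVec_mulVec] at this
    rwa [ha', ha'] at this
  · rintro ⟨a, ha, h⟩
    obtain ⟨⟨g, hg⟩, hg'⟩ := carrier_exists hQ hf ha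
    refine ⟨g, hg, (sim_fixed hQ hf hd (mul_mem (mul_mem (inv_mem hg) hx) hg)).2 fun w => ?_⟩
    rw [Units.val_mul, Units.val_mul, ← Matrix.mulVec_mulVec, ← Matrix.mulVec_mulVec, hg', h, ← hg',
      Matrix.mulVec_mulVec, ← Units.val_mul, inv_mul_cancel, Units.val_one, Matrix.one_mulVec]

end CfsgLib.Geo.QuadPolar
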