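/-
Symplectic elements of prime order without fixed vectors, and a symplectic involution.
-/
import Cfsg.Agent.Lib.Geo.QuadPolarDerange

set_option autoImplicit false

namespace CfsgLib.Geo.QuadPolar

open Module Matrix CfsgLib.Geo.PrimeAct

variable {F : Type*} [Field F] {d : ℕ}

theorem sympForm_eq (u v : Fin d ⊕ Fin d → F) :
    Cfsg.sympForm d F u v = ∑ k, (u (Sum.inr k) * v (Sum.inl k) - u (Sum.inl k) * v (Sum.inr k)) := by
  simp only [Cfsg.sympForm, Matrix.J, dotProduct, Fintype.sum_sum_type, Matrix.fromBlocks_mulVec,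
    Sum.elim_inl, Sum.elim_inr, Matrix.zero_mulVec, zero_add, add_zero, Matrix.neg_mulVec, Matrix.one_mulVec,
    Pi.neg_apply, Function.comp_apply, mul_neg, Finset.sum_neg_distrib, Finset.sum_sub_distrib]
  ring

/-- A linear map of finite order preserving the form gives an element of the group. -/
theorem exists_gl {r : ℕ} (hr : r ≠ 0) (f : (Fin d ⊕ Fin d → F) →ₗ[F] (Fin d ⊕ Fin d → F)) (hfr : f ^ r = 1)
    (hfp : ∀ u v, Cfsg.sympForm d F (f u) (f v) = Cfsg.sympForm d F u v) :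
    ∃ x : GL (Fin d ⊕ Fin d) F, x ∈ Cfsg.spGL d F ∧ x ^ r = 1 ∧
      ∀ v, (x : Matrix (Fin d ⊕ Fin d) (Fin d ⊕ Fin d) F) *ᵥ v = f v := by
  have hM : (LinearMap.toMatrixAlgEquiv' f) ^ r = 1 := by rw [← map_pow, hfr, map_one]
  refine ⟨Units.ofPowEqOne _ r hM hr, ?_, Units.pow_ofPowEqOne hM hr, fun v => ?_⟩
  · refine mem_spGL.2 fun u v => ?_
    show Cfsg.sympForm d F (LinearMap.toMatrixAlgEquiv' f *ᵥ u) (LinearMap.toMatrixAlgEquiv' f *ᵥ v) = _
    rw [← Matrix.toLinAlgEquiv'_apply, ← Matrix.toLinAlgEquiv'_apply, Matrix.toLinAlgEquiv'_toMatrixAlgEquiv', hfp]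
  · show LinearMap.toMatrixAlgEquiv' f *ᵥ v = _
    rw [← Matrix.toLinAlgEquiv'_apply, Matrix.toLinAlgEquiv'_toMatrixAlgEquiv']

variable [Fintype F] {r : ℕ} [Fact r.Prime]

theorem dvd_sub_one_iff (k : ℕ) :
    r ∣ Fintype.card F ^ k - 1 ↔ orderOf (Nat.card F : ZMod r) ∣ k := by
  rw [orderOf_dvd_iff_pow_eq_one, Nat.card_eq_fintype_card, ← Nat.cast_pow,
    show ((Fintype.card F ^ k : ℕ) : ZMod r) = 1 ↔ Fintype.card F ^ k ≡ 1 [MOD r] by
      rw [← ZMod.natCast_eq_natCast_iff, Nat.cast_one]]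
  exact ⟨fun h => ((Nat.modEq_iff_dvd' (Nat.one_le_pow _ _ Fintype.card_pos)).2 h).symm,
    fun h => (Nat.modEq_iff_dvd' (Nat.one_le_pow _ _ Fintype.card_pos)).1 h.symm⟩

theorem exists_free_split (hrF : (r : F) ≠ 0) (hd : 1 ≤ d) (h : r ∣ Fintype.card F ^ d - 1) :
    ∃ f : (Fin d ⊕ Fin d → F) →ₗ[F] (Fin d ⊕ Fin d → F), f ^ r = 1 ∧ (∀ v, f v = v → v = 0) ∧
      ∀ u v, Cfsg.sympForm d F (f u) (f v) = Cfsg.sympForm d F u v := by
  have hi := (dvd_sub_one_iff d).1 h
  have hipos : 0 < orderOf (Nat.card F : ZMod r) := Nat.pos_of_dvd_of_pos hi hd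
  obtain ⟨g, hg, hgfix⟩ := exists_order_fix (F := F) hrF hipos d (d / orderOf (Nat.card F : ZMod r))
    (Nat.div_mul_le_self _ _)
  rw [Nat.div_mul_cancel hi] at hgfix
  have h0 : fixSp g = ⊥ := Submodule.finrank_eq_zero.1 (by omega)
  have hfree : ∀ v, g v = v → v = 0 := fun v hv => (Submodule.mem_bot F).1 (h0 ▸ mem_fixSp.2 hv)
  let A : Matrix (Fin d) (Fin d) F := LinearMap.toMatrixAlgEquiv' g
  have hA : A ^ r = 1 := by rw [← map_pow, hg, map_one]
  obtain ⟨k, hk⟩ : ∃ k, r = k + 1 := ⟨r - 1, by have := (Fact.out : r.Prime).pos; omega⟩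
  have hAg : ∀ v, A *ᵥ v = g v := fun v => by
    rw [← Matrix.toLinAlgEquiv'_apply, Matrix.toLinAlgEquiv'_toMatrixAlgEquiv']
  have hA1 : IsUnit (A - 1).det := by
    rw [isUnit_iff_ne_zero]
    intro hdet
    obtain ⟨v, hv, hv'⟩ := Matrix.exists_mulVec_eq_zero_iff.2 hdet
    rw [Matrix.sub_mulVec, Matrix.one_mulVec, sub_eq_zero, hAg] at hv'
    exact hv (hfree v hv')
  let B : Matrix (Fin d) (Fin d) F := (A ^ k)ᵀ
  have hBA : Bᵀ * A = 1 := by rw [Matrix.transpose_transpose, ← pow_succ, ← hk, hA]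
  have hAB : Aᵀ * B = 1 := by rw [← Matrix.transpose_mul, ← pow_succ, ← hk, hA, Matrix.transpose_one]
  have hBr : B ^ r = 1 := by
    rw [← Matrix.transpose_pow, ← pow_mul, mul_comm, pow_mul, hA, one_pow, Matrix.transpose_one]
  let f : (Fin d ⊕ Fin d → F) →ₗ[F] (Fin d ⊕ Fin d → F) := Matrix.toLinAlgEquiv' (Matrix.fromBlocks A 0 0 B)
  have hfl : ∀ v, f v ∘ Sum.inl = A *ᵥ (v ∘ Sum.inl) ∧ f v ∘ Sum.inr = B *ᵥ (v ∘ Sum.inr) := fun v => by
    simp only [f, Matrix.toLinAlgEquiv'_apply, Matrix.fromBlocks_mulVec, Matrix.zero_mulVec, zero_add, add_zero,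
      Sum.elim_comp_inl, Sum.elim_comp_inr, and_self]
  refine ⟨f, ?_, fun v hv => ?_, fun u v => ?_⟩
  · rw [← map_pow, ← map_one (Matrix.toLinAlgEquiv' (R := F) (n := Fin d ⊕ Fin d))]
    congr 1
    rw [Matrix.fromBlocks_diagonal_pow, hA, hBr, Matrix.fromBlocks_one]
  · have h1 := (hfl v).1
    have h2 := (hfl v).2
    rw [hv] at h1 h2
    have hl : v ∘ Sum.inl = 0 := hfree _ ((hAg _).symm.trans h1.symm)
    have hr' : v ∘ Sum.inr = 0 := by
      have e : Aᵀ *ᵥ (v ∘ Sum.inr) = v ∘ Sum.inr := by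
        conv_lhs => rw [h2]
        rw [Matrix.mulVec_mulVec, hAB, Matrix.one_mulVec]
      have e' : (A - 1)ᵀ *ᵥ (v ∘ Sum.inr) = 0 := by
        rw [Matrix.transpose_sub, Matrix.transpose_one, Matrix.sub_mulVec, e, Matrix.one_mulVec, sub_self]
      by_contra hne
      have := Matrix.exists_mulVec_eq_zero_iff.1 ⟨_, hne, e'⟩
      rw [Matrix.det_transpose] at this
      exact hA1.ne_zero this
    funext s
    rcases s with s | s
    · exact congrFun hl s
    · exact congrFun hr' s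
  · have key : ∀ a b : Fin d → F, (B *ᵥ a) ⬝ᵥ (A *ᵥ b) = a ⬝ᵥ b := fun a b => by
      rw [Matrix.dotProduct_mulVec, ← Matrix.mulVec_transpose, Matrix.mulVec_mulVec, hAB, Matrix.one_mulVec]
    rw [sympForm_eq, sympForm_eq, Finset.sum_sub_distrib, Finset.sum_sub_distrib]
    show (f u ∘ Sum.inr) ⬝ᵥ (f v ∘ Sum.inl) - (f u ∘ Sum.inl) ⬝ᵥ (f v ∘ Sum.inr) =
      (u ∘ Sum.inr) ⬝ᵥ (v ∘ Sum.inl) - (u ∘ Sum.inl) ⬝ᵥ (v ∘ Sum.inr)
    rw [(hfl u).1, (hfl u).2, (hfl v).1, (hfl v).2, key, dotProduct_comm (A *ᵥ _), key,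
      dotProduct_comm (v ∘ Sum.inr)]

theorem exists_free_twisted (hrF : (r : F) ≠ 0) (hd : 1 ≤ d) (hn : ¬ r ∣ Fintype.card F ^ d - 1)
    (h : r ∣ Fintype.card F ^ (2 * d) - 1) :
    ∃ f : (Fin d ⊕ Fin d → F) →ₗ[F] (Fin d ⊕ Fin d → F), f ^ r = 1 ∧ (∀ v, f v = v → v = 0) ∧
      ∀ u v, Cfsg.sympForm d F (f u) (f v) = Cfsg.sympForm d F u v := by
  classical
  set i := orderOf (Nat.card F : ZMod r) with hidef
  have hi := (dvd_sub_one_iff (2 * d)).1 h
  have hin : ¬ i ∣ d := fun h' => hn ((dvd_sub_one_iff d).2 h')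
  obtain ⟨j, hj⟩ : 2 ∣ i := by
    rcases Nat.even_or_odd i with he | ho
    · exact even_iff_two_dvd.1 he
    · exact absurd (Nat.Coprime.dvd_of_dvd_mul_left (Nat.coprime_two_right.2 ho) hi) hin
  obtain ⟨m, hm⟩ : j ∣ d := Nat.dvd_of_mul_dvd_mul_left two_pos (hj ▸ hi)
  have hj0 : 0 < j := by
    rcases Nat.eq_zero_or_pos j with h0 | h0
    · rw [h0, zero_mul] at hm; omega
    · exact h0
  have hcard : r ∣ Nat.card (Matrix.symplecticGroup (Fin j) F) := by
    rw [CfsgLib.Classical.Symp.card_symplecticGroup]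
    refine dvd_mul_of_dvd_right ((?_ : r ∣ Fintype.card F ^ (2 * (j - 1 + 1)) - 1).trans
      (Finset.dvd_prod_of_mem (fun l => Fintype.card F ^ (2 * (l + 1)) - 1)
        (Finset.mem_range.2 (by omega : j - 1 < j)))) _
    rw [show 2 * (j - 1 + 1) = i by omega]
    exact (dvd_sub_one_iff i).2 dvd_rfl
  obtain ⟨A, hA⟩ := exists_prime_orderOf_dvd_card' r hcard
  let g : (Fin j ⊕ Fin j → F) →ₗ[F] (Fin j ⊕ Fin j → F) :=
    Matrix.toLinAlgEquiv' (A : Matrix (Fin j ⊕ Fin j) (Fin j ⊕ Fin j) F)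
  have hgr : g ^ r = 1 := by
    rw [← map_pow, ← SubmonoidClass.coe_pow, ← hA, pow_orderOf_eq_one]
    exact map_one _
  have hgfree : ∀ v, g v = v → v = 0 := by
    have hne : fixSp g ≠ ⊤ := fun ht => by
      have hg1 : g = 1 := LinearMap.ext fun v => mem_fixSp.1 (ht ▸ Submodule.mem_top)
      have hA1 : A = 1 := Subtype.ext (Matrix.toLinAlgEquiv'.injective (hg1.trans (map_one _).symm))
      rw [hA1, orderOf_one] at hA
      exact (Fact.out : r.Prime).ne_one hA.symm
    have hsplit := finrank_split hgr hrF ⊤ fun v _ => Submodule.mem_top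
    rw [top_inf_eq, top_inf_eq, finrank_top] at hsplit
    have htwo : finrank F (Fin j ⊕ Fin j → F) = j + j := by rw [finrank_pi, Fintype.card_sum, Fintype.card_fin]
    have hd' := orderOf_dvd_rest hgr hrF
    have hlt := Submodule.finrank_lt hne
    rw [htwo] at hlt hsplit
    rw [← hidef] at hd'
    have hle := Nat.le_of_dvd (by omega) hd'
    have h0 : fixSp g = ⊥ := Submodule.finrank_eq_zero.1 (by omega)
    exact fun v hv => (Submodule.mem_bot F).1 (h0 ▸ mem_fixSp.2 hv)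
  have hgform : ∀ u v, Cfsg.sympForm j F (g u) (g v) = Cfsg.sympForm j F u v := fun u v => by
    simp only [g, Matrix.toLinAlgEquiv'_apply]
    exact CfsgLib.Classical.Symp.mem_symplecticGroup_iff_form.1 A.2 u v
  let e : Fin m × Fin j ≃ Fin d := finProdFinEquiv.trans (finCongr (by rw [mul_comm, ← hm]))
  let put : Fin m → (Fin j ⊕ Fin j) → (Fin d ⊕ Fin d) := fun k => Sum.map (fun l => e (k, l)) (fun l => e (k, l))
  let L : (Fin d ⊕ Fin d → F) ≃ₗ[F] (Fin m → (Fin j ⊕ Fin j → F)) :=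
    { toFun := fun u k s => u (put k s)
      map_add' := fun u v => rfl
      map_smul' := fun c v => rfl
      invFun := fun w s => Sum.elim (fun a => w (e.symm a).1 (Sum.inl (e.symm a).2))
        (fun a => w (e.symm a).1 (Sum.inr (e.symm a).2)) s
      left_inv := fun u => by funext s; rcases s with s | s <;> simp [put]
      right_inv := fun w => by funext k s; rcases s with s | s <;> simp [put] }
  let G : (Fin m → (Fin j ⊕ Fin j → F)) →ₗ[F] (Fin m → (Fin j ⊕ Fin j → F)) :=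
    LinearMap.pi fun k => g.comp (LinearMap.proj k)
  have hG : ∀ (t : ℕ) w k, (G ^ t) w k = (g ^ t) (w k) := fun t => by
    induction t with
    | zero => exact fun _ _ => rfl
    | succ t ih =>
      intro w k
      rw [pow_succ', pow_succ', Module.End.mul_apply, Module.End.mul_apply]
      show g ((G ^ t) w k) = _
      rw [ih]
  have hsum : ∀ u v, Cfsg.sympForm d F u v = ∑ k, Cfsg.sympForm j F (L u k) (L v k) := fun u v => by
    simp only [sympForm_eq]
    rw [← e.sum_comp, Fintype.sum_prod_type]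
    rfl
  refine ⟨L.symm.toLinearMap ∘ₗ G ∘ₗ L.toLinearMap, LinearMap.ext fun v => ?_, fun v hv => ?_, fun u v => ?_⟩
  · obtain ⟨w, rfl⟩ := L.symm.surjective v
    have := conj_pow_apply L.symm G r w
    simp only [LinearEquiv.symm_symm] at this
    rw [this, show (G ^ r) w = w from funext fun k => by rw [hG, hgr]; rfl]
    rfl
  · have h' : G (L v) = L v := by
      have := congrArg L hv
      simpa using this
    refine L.injective ((funext fun k => ?_).trans (map_zero L).symm)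
    exact hgfree _ (congrFun h' k)
  · rw [hsum, hsum u v]
    refine Finset.sum_congr rfl fun k _ => ?_
    simp only [LinearMap.comp_apply, LinearEquiv.coe_coe, LinearEquiv.apply_symm_apply]
    exact hgform _ _

/-- An involution whose invariant forms are all of plus type. -/
theorem exists_plus_involution [CharP F 2] (hd : 1 ≤ d) (he : Even d) :
    ∃ f : (Fin d ⊕ Fin d → F) →ₗ[F] (Fin d ⊕ Fin d → F), f ^ 2 = 1 ∧ f ≠ 1 ∧
      (∀ u v, Cfsg.sympForm d F (f u) (f v) = Cfsg.sympForm d F u v) ∧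
      ∃ U : Submodule F (Fin d ⊕ Fin d → F), finrank F U = d ∧
        ∀ u ∈ U, ∃ w, f w = w + u ∧ Cfsg.sympForm d F w u = 0 := by
  classical
  obtain ⟨m, hm⟩ := he
  let ρ : Fin d ≃ Fin m ⊕ Fin m := (finCongr hm).trans finSumFinEquiv.symm
  let σ : Fin d → Fin d := fun i => ρ.symm (Sum.swap (ρ i))
  have hσ : ∀ i, σ (σ i) = i := fun i => by simp [σ]
  have hσne : ∀ i, σ i ≠ i := fun i h => by
    have h' := congrArg ρ h
    simp only [σ, Equiv.apply_symm_apply] at h'
    rcases hs : ρ i with a | a <;> rw [hs] at h' <;> simp at h'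
  let N : (Fin d ⊕ Fin d → F) →ₗ[F] (Fin d ⊕ Fin d → F) :=
    { toFun := fun v => Sum.elim (fun i => v (Sum.inr (σ i))) 0
      map_add' := fun u v => by funext s; rcases s with s | s <;> simp
      map_smul' := fun c v => by funext s; rcases s with s | s <;> simp }
  have hNN : ∀ v, N (N v) = 0 := fun v => by
    funext s; rcases s with s | s <;> simp [N]
  have hneg : ∀ v : Fin d ⊕ Fin d → F, v + v = 0 := fun v => by
    rw [← two_smul F v, CharTwo.two_eq_zero, zero_smul]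
  let f : (Fin d ⊕ Fin d → F) →ₗ[F] (Fin d ⊕ Fin d → F) := LinearMap.id + N
  have hf : ∀ v, f v = v + N v := fun v => rfl
  refine ⟨f, LinearMap.ext fun v => ?_, ?_, fun u v => ?_, LinearMap.range N, ?_, ?_⟩
  · rw [pow_two, Module.End.mul_apply, hf, hf, map_add, hNN, add_zero, add_assoc, hneg, add_zero]
    rfl
  · intro h
    have h1 := congrFun (LinearMap.congr_fun h (Pi.single (Sum.inr (⟨0, hd⟩ : Fin d)) 1))
      (Sum.inl (σ ⟨0, hd⟩))
    simp [hf, N, hσ] at h1
  · have hswap : ∑ k, u (Sum.inr (σ k)) * v (Sum.inr k) = ∑ k, u (Sum.inr k) * v (Sum.inr (σ k)) := by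
      refine Fintype.sum_bijective σ (Function.Involutive.bijective hσ) _ _ fun k => ?_
      rw [hσ]
    simp only [sympForm_eq, hf, N, Pi.add_apply, LinearMap.coe_mk, AddHom.coe_mk, Sum.elim_inl, Sum.elim_inr,
      Pi.zero_apply, add_zero, mul_add, add_mul, Finset.sum_sub_distrib, Finset.sum_add_distrib, hswap]
    ring
  · let J : (Fin d → F) →ₗ[F] (Fin d ⊕ Fin d → F) :=
      { toFun := fun w => Sum.elim w 0
        map_add' := fun u v => by ext x; rcases x with i | i <;> simp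
        map_smul' := fun c v => by ext x; rcases x with i | i <;> simp }
    have hJ : LinearMap.range N = LinearMap.range J := by
      ext w
      constructor
      · rintro ⟨v, rfl⟩
        exact ⟨fun i => v (Sum.inr (σ i)), rfl⟩
      · rintro ⟨a, rfl⟩
        refine ⟨Sum.elim 0 (fun i => a (σ i)), ?_⟩
        funext s
        rcases s with s | s <;> simp [N, J, hσ]
    rw [hJ, LinearMap.finrank_range_of_inj (fun a b h => funext fun i => by simpa [J] using congrFun h (Sum.inl i)),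
      finrank_pi, Fintype.card_fin]
  · rintro _ ⟨v, rfl⟩
    refine ⟨v, hf v, ?_⟩
    simp only [sympForm_eq, N, LinearMap.coe_mk, AddHom.coe_mk, Sum.elim_inl, Sum.elim_inr, Pi.zero_apply,
      mul_zero, sub_zero]
    refine Finset.sum_involution (fun i _ => σ i) (fun i _ => ?_) (fun i _ _ => hσne i) (fun i _ => Finset.mem_univ _)
      (fun i _ => hσ i)
    rw [hσ, mul_comm (v (Sum.inr (σ i))), CharTwo.add_self_eq_zero]

end CfsgLib.Geo.QuadPolar
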