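/-
Fixed nonsingular points of elements of prime order of orthogonal groups in characteristic two.
-/
import Cfsg.Agent.Lib.Geo.QuadPolarWitness
import Cfsg.Agent.Lib.Classical.CharTwo.OmegaParity

set_option autoImplicit false

namespace CfsgLib.Geo.QuadPoint

open Module Matrix
open QuadraticMap (polar polarBilin)
open CfsgLib.Classical.Quad CfsgLib.Classical.CharTwo CfsgLib.Geo.QuadPolar

universe u

variable {F : Type u} [Field F] [Fintype F] [CharP F 2]

theorem exists_isometry_of_sign {V W : Type u} [AddCommGroup V] [Module F V] [FiniteDimensional F V] [Fintype V]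
    [AddCommGroup W] [Module F W] [FiniteDimensional F W] [Fintype W] {m : ℕ} {Q : QuadraticForm F V}
    {Q' : QuadraticForm F W} (hQ : (polarBilin Q).Nondegenerate) (hQ' : (polarBilin Q').Nondegenerate)
    (hV : finrank F V = 2 * m) (hW : finrank F W = 2 * m) (h : signSum ⇑Q = signSum ⇑Q') :
    ∃ e : V ≃ₗ[F] W, ∀ v, Q' (e v) = Q v := by
  classical
  have hneg : ∀ ζ : F, (∀ t : F, t ^ 2 + t + ζ ≠ 0) → 1 ≤ m →
      signSum (Cfsg.quadFormMinus (m - 1) F 1 ζ) = -(Fintype.card F : ℤ) ^ m := fun ζ hζ hm => by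
    have := signSum_qMinus (fun z₁ z₂ => CfsgLib.Known.QuadClassify.aniso_of_no_root hζ z₁ z₂) (m - 1)
    rwa [coe_qMinus, show m - 1 + 1 = m by omega] at this
  have hpos : signSum (Cfsg.quadFormPlus m F) = (Fintype.card F : ℤ) ^ m := by
    rw [← coe_qPlus]; exact signSum_qPlus m
  have hne : (Fintype.card F : ℤ) ^ m ≠ -(Fintype.card F : ℤ) ^ m := fun he => by
    have : (0 : ℤ) < (Fintype.card F : ℤ) ^ m := pow_pos (by exact_mod_cast Fintype.card_pos) _
    omega
  have tr : ∀ {X Y : Type u} [AddCommGroup X] [Module F X] [Fintype X] [AddCommGroup Y] [Module F Y] [Fintype Y]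
      (P : Y → F) (R : X → F) (e : X ≃ₗ[F] Y), (∀ v, P (e v) = R v) → signSum P = signSum R :=
    fun P R e he => by
      unfold signSum
      rw [← e.toEquiv.sum_comp]
      exact Finset.sum_congr rfl fun v _ => by rw [← he v]; rfl
  rcases CfsgLib.Known.QuadClassify.classify_even hV Q hQ with ⟨e, he⟩ | ⟨hm, ζ, e, hζ, he⟩ <;>
    rcases CfsgLib.Known.QuadClassify.classify_even hW Q' hQ' with ⟨e', he'⟩ | ⟨hm', η, e', hη, he'⟩
  · exact ⟨e.symm.trans e', fun v => by rw [LinearEquiv.trans_apply, he', ← he, e.apply_symm_apply]⟩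
  · rw [tr _ _ e he, tr _ _ e' he', hpos, hneg η hη hm'] at h
    exact absurd h hne
  · rw [tr _ _ e he, tr _ _ e' he', hpos, hneg ζ hζ hm] at h
    exact absurd h.symm hne
  · obtain ⟨g, hg⟩ := CfsgLib.Known.QuadClassify.minus_equiv (m - 1) hη hζ
    exact ⟨e.symm.trans (g.trans e'), fun v => by
      rw [LinearEquiv.trans_apply, LinearEquiv.trans_apply, he', hg, ← he, e.apply_symm_apply]⟩

variable {d : ℕ}

theorem polar_qPlus_symp (u v : Fin d ⊕ Fin d → F) : polar (qPlus d F) u v = Cfsg.sympForm d F u v := by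
  rw [coe_qPlus, QuadraticMap.polar, CfsgLib.Known.QuadClassify.polar_plus, sympForm_eq]
  refine Finset.sum_congr rfl fun k _ => ?_
  rw [CharTwo.sub_eq_add]
  ring

/-- An isometry without fixed vectors of a form of given sign. -/
theorem exists_free_isometry {r : ℕ} [Fact r.Prime] (hr2 : r ≠ 2) (hd : 1 ≤ d) (s : ℤ) (hs : s = 1 ∨ s = -1)
    (h : (r : ℤ) ∣ (Fintype.card F : ℤ) ^ d - s)
    {V : Type u} [AddCommGroup V] [Module F V] [FiniteDimensional F V] [Fintype V]
    {Q : QuadraticForm F V} (hQ : (polarBilin Q).Nondegenerate) (hV : finrank F V = 2 * d)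
    (hsQ : signSum ⇑Q = s * (Fintype.card F : ℤ) ^ d) :
    ∃ g : V →ₗ[F] V, g ^ r = 1 ∧ (∀ v, g v = v → v = 0) ∧ ∀ v, Q (g v) = Q v := by
  classical
  have hrp : r.Prime := Fact.out
  have hrF : (r : F) ≠ 0 := fun h => hr2 ((Nat.prime_dvd_prime_iff_eq Nat.prime_two hrp).1
    ((CharP.cast_eq_zero_iff F 2 r).1 h)).symm
  have h2d : r ∣ Fintype.card F ^ (2 * d) - 1 := by
    rw [← Int.natCast_dvd_natCast, Nat.cast_sub (Nat.one_le_pow _ _ Fintype.card_pos)]
    push_cast
    refine (h.mul_right ((Fintype.card F : ℤ) ^ d + s)).trans (dvd_of_eq ?_)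
    rcases hs with rfl | rfl <;> ring
  obtain ⟨f, hfr, hfree, hform⟩ : ∃ f : (Fin d ⊕ Fin d → F) →ₗ[F] (Fin d ⊕ Fin d → F), f ^ r = 1 ∧
      (∀ v, f v = v → v = 0) ∧ ∀ u v, Cfsg.sympForm d F (f u) (f v) = Cfsg.sympForm d F u v := by
    by_cases hA : r ∣ Fintype.card F ^ d - 1
    · exact exists_free_split hrF hd hA
    · exact exists_free_twisted hrF hd hA h2d
  set P := qPlus d F
  have hP : (polarBilin P).Nondegenerate := qPlus_nondeg d
  have hfp : ∀ u v, polar P (f u) (f v) = polar P u v := fun u v => by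
    rw [polar_qPlus_symp, polar_qPlus_symp, hform]
  obtain ⟨c, hc⟩ := exists_sq_rep hP (fun v => P (f v) + P v) (fun e v => by simp only [map_smul, apply_smul]; ring)
    (fun u v => by
      simp only [map_add, apply_add, hfp]
      linear_combination (polar P u v) * (CharTwo.two_eq_zero (R := F)))
  have hinj : Function.Injective (f + LinearMap.id : (Fin d ⊕ Fin d → F) →ₗ[F] _) := by
    rw [injective_iff_map_eq_zero]
    intro v hv
    refine hfree v ?_
    rw [LinearMap.add_apply, LinearMap.id_apply, add_eq_zero_iff_eq_neg] at hv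
    rw [hv]
    funext i
    exact CharTwo.neg_eq _
  obtain ⟨b, hb⟩ := LinearMap.surjective_of_injective hinj c
  have hfix : ∀ v, shiftQ P (f b) (f v) = shiftQ P (f b) v := fun v => by
    have h1 : polar P v (f b) + polar P v b = polar P v c := by rw [← polar_add_right', ← hb]; rfl
    simp only [shiftQ, hfp]
    have h2 := congrArg (· ^ 2) h1
    simp only [CharTwo.add_sq, ← hc] at h2
    linear_combination h2 +
      (P (f v) - polar P v (f b) ^ 2) * (CharTwo.two_eq_zero (R := F))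
  let L : (Fin d ⊕ Fin d → F) →ₗ[F] F := (polarBilin P).flip (f b)
  let Pa : QuadraticForm F (Fin d ⊕ Fin d → F) := P + (QuadraticMap.sq (R := F)).comp L
  have hPa : ∀ v, Pa v = shiftQ P (f b) v := fun v => by
    show P v + L v * L v = _
    rw [shiftQ, pow_two]
    rfl
  have hPan : (polarBilin Pa).Nondegenerate := by
    have : polarBilin Pa = polarBilin P := LinearMap.ext₂ fun u v => by
      show polar Pa u v = polar P u v
      rw [QuadraticMap.polar, hPa, hPa, hPa, shiftQ_add]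
      ring
    rwa [this]
  have hmod := signSum_mod (shiftQ P (f b)) (by simp [shiftQ]) f hfr hfree hfix
  have hsa : signSum ⇑Pa = signSum ⇑Q := by
    rw [show ⇑Pa = shiftQ P (f b) from funext hPa, signSum_shiftQ, hsQ]
    rw [signSum_shiftQ, signSum_qPlus] at hmod
    rw [signSum_qPlus]
    have h5 := dvd_sub (h.mul_left (psi (P (f b)))) hmod
    rcases psi_cases (P (f b)) with hp | hp <;> rw [hp] at h5 ⊢ <;> rcases hs with rfl | rfl <;>
      first
        | rfl
        | exact absurd ((Nat.prime_dvd_prime_iff_eq hrp Nat.prime_two).1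
            (Int.natCast_dvd_natCast.1 (h5.trans (dvd_of_eq (by push_cast; ring))))) hr2
  obtain ⟨φ, hφ⟩ := exists_isometry_of_sign hPan hQ finrank_carrier hV hsa
  refine ⟨φ.toLinearMap ∘ₗ f ∘ₗ φ.symm.toLinearMap, LinearMap.ext fun v => ?_, fun v hv => ?_, fun v => ?_⟩
  · obtain ⟨x, rfl⟩ := φ.surjective v
    rw [CfsgLib.Geo.PrimeAct.conj_pow_apply, hfr]
    rfl
  · obtain ⟨x, rfl⟩ := φ.surjective v
    rw [LinearMap.comp_apply, LinearMap.comp_apply, LinearEquiv.coe_coe, LinearEquiv.coe_coe,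
      φ.symm_apply_apply, φ.injective.eq_iff] at hv
    rw [hfree x hv, map_zero]
  · obtain ⟨x, rfl⟩ := φ.surjective v
    rw [LinearMap.comp_apply, LinearMap.comp_apply, LinearEquiv.coe_coe, LinearEquiv.coe_coe, φ.symm_apply_apply,
      hφ, hφ, hPa, hPa, hfix]

section matrices

variable {ι : Type} [Fintype ι] [DecidableEq ι] {Q : QuadraticForm F (ι → F)}

omit [Fintype F] in
theorem mem_omega_iff [Finite F] (hQ : (polarBilin Q).Nondegenerate) (hι : Fintype.card ι ≠ 4) (x : GL ι F) :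
    x ∈ Cfsg.Geo.omegaGL (⇑Q) ↔ (∀ v, Q ((x : Matrix ι ι F) *ᵥ v) = Q v) ∧
      Even (finrank F (LinearMap.range (Matrix.mulVecLin ((x : Matrix ι ι F) - 1)))) := by
  constructor
  · rintro ⟨g, hg, rfl⟩
    exact ⟨fun v => g.2 v v, (mem_Omega_iff_rank_even CharTwo.two_eq_zero hQ (Or.inr hι) g).1 hg⟩
  · rintro ⟨h1, h2⟩
    exact ⟨⟨x, fun u _ => h1 u⟩, (mem_Omega_iff_rank_even CharTwo.two_eq_zero hQ (Or.inr hι) _).2 h2, rfl⟩

omit [Fintype F] in
/-- A linear isometry of finite order with even rank gives an element of the group. -/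
theorem exists_omega [Finite F] (hQ : (polarBilin Q).Nondegenerate) (hι : Fintype.card ι ≠ 4) {r : ℕ} (hr : r ≠ 0)
    (g : (ι → F) →ₗ[F] (ι → F)) (hgr : g ^ r = 1) (hgQ : ∀ v, Q (g v) = Q v)
    (hrk : Even (finrank F (LinearMap.range (g - 1)))) :
    ∃ x : GL ι F, x ∈ Cfsg.Geo.omegaGL (⇑Q) ∧ x ^ r = 1 ∧ ∀ v, (x : Matrix ι ι F) *ᵥ v = g v := by
  have hM : (LinearMap.toMatrixAlgEquiv' g) ^ r = 1 := by rw [← map_pow, hgr, map_one]
  have hv : ∀ v, LinearMap.toMatrixAlgEquiv' g *ᵥ v = g v := fun v => by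
    rw [← Matrix.toLinAlgEquiv'_apply, Matrix.toLinAlgEquiv'_toMatrixAlgEquiv']
  refine ⟨Units.ofPowEqOne _ r hM hr, (mem_omega_iff hQ hι _).2 ⟨fun v => ?_, ?_⟩,
    Units.pow_ofPowEqOne hM hr, hv⟩
  · show Q (LinearMap.toMatrixAlgEquiv' g *ᵥ v) = Q v
    rw [hv, hgQ]
  · have : Matrix.mulVecLin (LinearMap.toMatrixAlgEquiv' g - 1) = g - 1 := LinearMap.ext fun v => by
      rw [Matrix.mulVecLin_apply, Matrix.sub_mulVec, hv, Matrix.one_mulVec]
      rfl
    exact (congrArg (fun T : (ι → F) →ₗ[F] (ι → F) => Even (finrank F (LinearMap.range T))) this).mpr hrk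

omit [Fintype F] in
/-- An element without fixed vectors moves every point. -/
theorem moves_all [Finite F] {x : GL ι F} (hxQ : ∀ v, Q ((x : Matrix ι ι F) *ᵥ v) = Q v)
    (hfree : ∀ v, Q v ≠ 0 → (x : Matrix ι ι F) *ᵥ v ≠ v) :
    ¬ ∃ W : Submodule F (ι → F), (finrank F W = 1 ∧ ∃ v ∈ W, Q v ≠ 0) ∧
      W.map (Matrix.toLin' (x : Matrix ι ι F)) ≤ W := by
  rintro ⟨W, ⟨hW, v, hv, hQv⟩, hmap⟩
  have hv0 : (⟨v, hv⟩ : W) ≠ 0 := fun h => hQv (by
    rw [show v = 0 from congrArg Subtype.val h, QuadraticMap.map_zero])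
  obtain ⟨c, hc⟩ := (finrank_eq_one_iff_of_nonzero' _ hv0).1 hW ⟨_, hmap (Submodule.mem_map_of_mem hv)⟩
  have hc' : c • v = (x : Matrix ι ι F) *ᵥ v := congrArg Subtype.val hc
  have h1 := hxQ v
  rw [← hc', apply_smul, mul_eq_right₀ hQv, ← pow_two] at h1
  have hc1 : c = 1 := frobenius_inj F 2 (by rw [frobenius_def, frobenius_def, h1, one_pow])
  rw [hc1, one_smul] at hc'
  exact hfree v hQv hc'.symm

omit [Fintype F] in
/-- An involution of the group fixes a point, unless its fixed space is singular. -/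
theorem involution_point [Finite F] (hQ : (polarBilin Q).Nondegenerate) {m : ℕ} (hm : 3 ≤ m)
    (hι : Fintype.card ι = 2 * m)
    (x : GL ι F) (hx : x ∈ Cfsg.Geo.omegaGL (⇑Q)) (z : F) (hz : ((x ^ 2 : GL ι F) : Matrix ι ι F) = z • 1) :
    (∃ W : Submodule F (ι → F), (finrank F W = 1 ∧ ∃ v ∈ W, Q v ≠ 0) ∧
      W.map (Matrix.toLin' (x : Matrix ι ι F)) ≤ W) ∨
    (Even m ∧ ∃ U : Submodule F (ι → F), finrank F U = m ∧ ∀ u ∈ U, Q u = 0) := by
  obtain ⟨hxQ, hrk⟩ := (mem_omega_iff hQ (by omega) x).1 hx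
  set N := Matrix.mulVecLin ((x : Matrix ι ι F) - 1)
  have hN : ∀ v, N v = (x : Matrix ι ι F) *ᵥ v - v := fun v => by
    rw [Matrix.mulVecLin_apply, Matrix.sub_mulVec, Matrix.one_mulVec]
  have hV : finrank F (ι → F) = 2 * m := by rw [finrank_pi, hι]
  by_cases h : ∃ v ∈ LinearMap.ker N, Q v ≠ 0
  · obtain ⟨v, hv, hQv⟩ := h
    have hv0 : v ≠ 0 := fun h0 => hQv (by rw [h0, QuadraticMap.map_zero])
    refine Or.inl ⟨F ∙ v, ⟨finrank_span_singleton hv0, v, Submodule.mem_span_singleton_self v, hQv⟩, ?_⟩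
    rw [Submodule.map_span, Set.image_singleton, Matrix.toLin'_apply,
      sub_eq_zero.1 ((hN v).symm.trans (LinearMap.mem_ker.1 hv))]
  push Not at h
  have hxx : ∀ v, (x : Matrix ι ι F) *ᵥ ((x : Matrix ι ι F) *ᵥ v) = z • v := fun v => by
    rw [Matrix.mulVec_mulVec, ← Units.val_mul, ← pow_two, hz, Matrix.smul_mulVec, Matrix.one_mulVec]
  have hNle : LinearMap.range N ≤ LinearMap.ker N := by
    have hz1 : z = 1 := by
      obtain ⟨v, hv⟩ : ∃ v, Q v ≠ 0 := by
        by_contra hcon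
        push Not at hcon
        have h2 := two_mul_finrank_le hQ (W := (⊤ : Submodule F (ι → F))) fun w _ => hcon w
        rw [finrank_top] at h2
        omega
      have h1 := hxQ ((x : Matrix ι ι F) *ᵥ v)
      rw [hxx, hxQ, apply_smul, mul_eq_right₀ hv, ← pow_two] at h1
      exact frobenius_inj F 2 (by rw [frobenius_def, frobenius_def, h1, one_pow])
    rintro _ ⟨v, rfl⟩
    rw [LinearMap.mem_ker, hN, hN, Matrix.mulVec_sub, hxx, hz1, one_smul]
    funext i
    simp only [Pi.sub_apply, Pi.zero_apply, CharTwo.sub_eq_add]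
    linear_combination (v i + ((x : Matrix ι ι F) *ᵥ v) i) * (CharTwo.two_eq_zero (R := F))
  have h1 := two_mul_finrank_le hQ (W := LinearMap.ker N) h
  have h2 := Submodule.finrank_mono hNle
  have h3 := N.finrank_range_add_finrank_ker
  refine Or.inr ⟨?_, LinearMap.ker N, by omega, h⟩
  rwa [show finrank F (LinearMap.range N) = m by omega] at hrk

omit [Fintype F] in
/-- A group element without fixed nonsingular vectors is a witness. -/
theorem exists_witness [Finite F] (hQ : (polarBilin Q).Nondegenerate) (hι : 4 < Fintype.card ι) {r : ℕ} (hr : r ≠ 0)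
    (g : (ι → F) →ₗ[F] (ι → F)) (hgr : g ^ r = 1) (hgQ : ∀ v, Q (g v) = Q v)
    (hrk : Even (finrank F (LinearMap.range (g - 1)))) (hfix : ∀ v, g v = v → Q v = 0) :
    ∃ x : GL ι F, x ∈ Cfsg.Geo.omegaGL (⇑Q) ∧
      (∃ z : F, ((x ^ r : GL ι F) : Matrix ι ι F) = z • (1 : Matrix ι ι F)) ∧
      (∀ z : F, (x : Matrix ι ι F) ≠ z • (1 : Matrix ι ι F)) ∧
      ¬ ∃ W : Submodule F (ι → F), (finrank F W = 1 ∧ ∃ v ∈ W, Q v ≠ 0) ∧
        W.map (Matrix.toLin' (x : Matrix ι ι F)) ≤ W := by
  obtain ⟨x, hx, hxr, hxv⟩ := exists_omega hQ (by omega) hr g hgr hgQ hrk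
  refine ⟨x, hx, ⟨1, by rw [hxr, one_smul, Units.val_one]⟩, fun z hz => ?_,
    moves_all (fun v => by rw [hxv, hgQ]) fun v hv h => hv (hfix v (by rw [← hxv, h]))⟩
  obtain ⟨v, hv⟩ : ∃ v, Q v ≠ 0 := by
    by_contra hcon
    push Not at hcon
    have h2 := two_mul_finrank_le hQ (W := (⊤ : Submodule F (ι → F))) fun w _ => hcon w
    rw [finrank_top, finrank_pi] at h2
    omega
  have hgv : g v = z • v := by rw [← hxv, hz, Matrix.smul_mulVec, Matrix.one_mulVec]
  have h1 := hgQ v
  rw [hgv, apply_smul, mul_eq_right₀ hv, ← pow_two] at h1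
  have hz1 : z = 1 := frobenius_inj F 2 (by rw [frobenius_def, frobenius_def, h1, one_pow])
  exact hv (hfix v (by rw [hgv, hz1, one_smul]))

omit [Fintype F] [CharP F 2] in
theorem even_range_of_free {m : ℕ} (hι : Fintype.card ι = 2 * m) (g : (ι → F) →ₗ[F] (ι → F))
    (hfree : ∀ v, g v = v → v = 0) : Even (finrank F (LinearMap.range (g - 1))) := by
  rw [LinearMap.finrank_range_of_inj, finrank_pi, hι]
  · exact even_two_mul m
  · rw [injective_iff_map_eq_zero]
    exact fun v hv => hfree v (sub_eq_zero.1 hv)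

end matrices

/-- An involution of the plus-type group fixing no nonsingular point. -/
theorem exists_involution_plus (he : Even d) :
    ∃ f : (Fin d ⊕ Fin d → F) →ₗ[F] (Fin d ⊕ Fin d → F), f ^ 2 = 1 ∧ (∀ v, qPlus d F (f v) = qPlus d F v) ∧
      Even (finrank F (LinearMap.range (f - 1))) ∧ ∀ v, f v = v → qPlus d F v = 0 := by
  classical
  obtain ⟨m, hm⟩ := id he
  let ρ : Fin d ≃ Fin m ⊕ Fin m := (finCongr hm).trans finSumFinEquiv.symm
  let σ : Fin d → Fin d := fun i => ρ.symm (Sum.swap (ρ i))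
  have hσ : ∀ i, σ (σ i) = i := fun i => by simp [σ]
  have hσne : ∀ i, σ i ≠ i := fun i h => by
    have h' := congrArg ρ h
    simp only [σ, Equiv.apply_symm_apply] at h'
    rcases hs : ρ i with a | a <;> rw [hs] at h' <;> simp at h'
  let N : (Fin d ⊕ Fin d → F) →ₗ[F] (Fin d ⊕ Fin d → F) :=
    { toFun := fun v => Sum.elim (fun i => v (Sum.inr (σ i))) 0
      map_add' := fun u v => by funext s; rcases s with s | s <;> simp
      map_smul' := fun c v => by funext s; rcases s with s | s <;> simp }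
  have hNN : ∀ v, N (N v) = 0 := fun v => by
    funext s; rcases s with s | s <;> simp [N]
  let f : (Fin d ⊕ Fin d → F) →ₗ[F] (Fin d ⊕ Fin d → F) := 1 + N
  have hf : ∀ v, f v = v + N v := fun v => rfl
  refine ⟨f, LinearMap.ext fun v => ?_, fun v => ?_, ?_, fun v hv => ?_⟩
  · rw [pow_two, Module.End.mul_apply, hf, hf, map_add, hNN, add_zero, add_assoc,
      ← two_smul F (N v), CharTwo.two_eq_zero, zero_smul, add_zero]
    rfl
  · have h0 : ∑ i, v (Sum.inr (σ i)) * v (Sum.inr i) = 0 :=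
      Finset.sum_involution (fun i _ => σ i)
        (fun i _ => by rw [hσ, mul_comm (v (Sum.inr i)), CharTwo.add_self_eq_zero])
        (fun i _ _ => hσne i) (fun i _ => Finset.mem_univ _) (fun i _ => hσ i)
    simp only [coe_qPlus, Cfsg.quadFormPlus, hf, N, Pi.add_apply, LinearMap.coe_mk, AddHom.coe_mk, Sum.elim_inl,
      Sum.elim_inr, Pi.zero_apply, add_zero, add_mul, Finset.sum_add_distrib, h0]
  · let J : (Fin d → F) →ₗ[F] (Fin d ⊕ Fin d → F) :=
      { toFun := fun w => Sum.elim w 0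
        map_add' := fun u v => by ext x; rcases x with i | i <;> simp
        map_smul' := fun c v => by ext x; rcases x with i | i <;> simp }
    have hJ : LinearMap.range N = LinearMap.range J := by
      ext w
      constructor
      · rintro ⟨v, rfl⟩
        exact ⟨fun i => v (Sum.inr (σ i)), rfl⟩
      · rintro ⟨a, rfl⟩
        refine ⟨Sum.elim 0 (fun i => a (σ i)), ?_⟩
        funext s
        rcases s with s | s <;> simp [N, J, hσ]
    rw [show f - 1 = N from add_sub_cancel_left _ _, hJ,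
      LinearMap.finrank_range_of_inj (fun a b h => funext fun i => by simpa [J] using congrFun h (Sum.inl i)),
      finrank_pi, Fintype.card_fin]
    exact he
  · have h : ∀ i, v (Sum.inr i) = 0 := fun i => by
      have := congrFun (add_eq_left.1 ((hf v).symm.trans hv)) (Sum.inl (σ i))
      simpa [N, hσ] using this
    simp [coe_qPlus, Cfsg.quadFormPlus, h]

/-- The points correspond to the vectors of value one. -/
theorem card_points {ι : Type} [Fintype ι] [DecidableEq ι] (Q : QuadraticForm F (ι → F)) :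
    (Fintype.card F - 1) *
        Nat.card {W : Submodule F (ι → F) // finrank F W = 1 ∧ ∃ v ∈ W, Q v ≠ 0} +
      Nat.card {v // Q v = 0} = Fintype.card (ι → F) := by
  classical
  let Φ : Fˣ × {v // Q v = 1} → {v // Q v ≠ 0} := fun p => ⟨(p.1 : F) • (p.2 : ι → F), by
    rw [apply_smul, p.2.2, mul_one]; exact mul_ne_zero p.1.ne_zero p.1.ne_zero⟩
  have hΦ : Function.Bijective Φ := by
    constructor
    · rintro ⟨a, v, hv⟩ ⟨b, w, hw⟩ h
      have h' : (a : F) • v = (b : F) • w := congrArg Subtype.val h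
      have h2 := congrArg Q h'
      rw [apply_smul, apply_smul, hv, hw, mul_one, mul_one, ← pow_two, ← pow_two] at h2
      have hab : (a : F) = b := frobenius_inj F 2 h2
      rw [hab] at h'
      exact Prod.ext (Units.ext hab) (Subtype.ext (smul_right_injective _ b.ne_zero h'))
    · rintro ⟨v, hv⟩
      obtain ⟨c, hc⟩ := exists_sqrt (Q v)
      have hc0 : c ≠ 0 := fun h => hv (by rw [← hc, h, zero_pow two_ne_zero])
      refine ⟨⟨Units.mk0 c hc0, c⁻¹ • v, ?_⟩, Subtype.ext ?_⟩
      · rw [apply_smul, ← hc]; field_simp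
      · show c • c⁻¹ • v = v
        rw [smul_inv_smul₀ hc0]
  let Ψ : {v // Q v = 1} → {W : Submodule F (ι → F) // finrank F W = 1 ∧ ∃ v ∈ W, Q v ≠ 0} :=
    fun v => ⟨F ∙ (v : ι → F), finrank_span_singleton (fun h => one_ne_zero (v.2.symm.trans
      (by rw [h, QuadraticMap.map_zero]))), v, Submodule.mem_span_singleton_self _, by rw [v.2]; exact one_ne_zero⟩
  have hΨ : Function.Bijective Ψ := by
    constructor
    · rintro ⟨v, hv⟩ ⟨w, hw⟩ h
      have e : (F ∙ v) = F ∙ w := congrArg Subtype.val h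
      obtain ⟨c, hc⟩ : ∃ c : F, c • w = v :=
        Submodule.mem_span_singleton.1 (by rw [← e]; exact Submodule.mem_span_singleton_self v)
      have h2 := congrArg Q hc
      rw [apply_smul, hv, hw, mul_one, ← pow_two] at h2
      have hc1 : c = 1 := frobenius_inj F 2 (by rw [frobenius_def, frobenius_def, h2, one_pow])
      rw [hc1, one_smul] at hc
      exact Subtype.ext hc.symm
    · rintro ⟨W, hW, v, hv, hQv⟩
      obtain ⟨c, hc⟩ := exists_sqrt (Q v)
      have hc0 : c ≠ 0 := fun h => hQv (by rw [← hc, h, zero_pow two_ne_zero])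
      have hw : Q (c⁻¹ • v) = 1 := by rw [apply_smul, ← hc]; field_simp
      refine ⟨⟨c⁻¹ • v, hw⟩, Subtype.ext (Submodule.eq_of_le_of_finrank_le
        ((Submodule.span_singleton_le_iff_mem _ _).2 (W.smul_mem _ hv)) ?_)⟩
      have hne : c⁻¹ • v ≠ 0 := fun h => one_ne_zero (hw.symm.trans (by rw [h, QuadraticMap.map_zero]))
      rw [hW, finrank_span_singleton hne]
  rw [← Nat.card_eq_of_bijective Ψ hΨ, ← Fintype.card_units, ← Nat.card_eq_fintype_card (α := Fˣ), ← Nat.card_prod,
    Nat.card_eq_of_bijective Φ hΦ, Nat.card_eq_fintype_card, Nat.card_eq_fintype_card, add_comm,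
    Fintype.card_subtype_compl, Nat.add_sub_cancel' (Fintype.card_subtype_le _)]

end CfsgLib.Geo.QuadPoint
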