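/-
Elements of prime order of `PSL_n(q)` acting on the subspaces of a given dimension.
-/
import Cfsg.Agent.Lib.Geo.PrimeOrderConstruct

namespace CfsgLib.Geo.PrimeAct

open Module

variable {F : Type*} [Field F] [Fintype F] {r : ℕ} [Fact r.Prime]

theorem eps_odd (hr2 : r ≠ 2) (c : F) : (-1 : F) ^ (r + 1) * c = c := by
  rw [((Fact.out : r.Prime).odd_of_ne_two hr2).add_one.neg_one_pow, one_mul]

theorem eps_two (hr2 : r = 2) (c : F) : (-1 : F) ^ (r + 1) * c = -c := by
  subst hr2
  ring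

theorem exists_rth_root (hr : ¬ r ∣ Fintype.card F - 1) (c : F) (hc : c ≠ 0) : ∃ d : F, d ^ r = c := by
  classical
  have hcop : (Nat.card Fˣ).Coprime r := by
    rw [Nat.card_units, Nat.card_eq_fintype_card]
    exact ((Fact.out : r.Prime).coprime_iff_not_dvd.2 hr).symm
  obtain ⟨d, hd⟩ := (powCoprime hcop).surjective (Units.mk0 c hc)
  exact ⟨(d : F), by rw [← Units.val_pow_eq_pow_val]; exact congrArg Units.val hd⟩

theorem eq_one_of_pow (hr : ¬ r ∣ Fintype.card F - 1) {d : F} (hd : d ^ r = 1) : d = 1 := by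
  classical
  have hd0 : d ≠ 0 := fun h => by simp [h, (Fact.out : r.Prime).ne_zero] at hd
  have h1 : orderOf d ∣ r := orderOf_dvd_of_pow_eq_one hd
  have h2 : orderOf d ∣ Fintype.card F - 1 := orderOf_dvd_of_pow_eq_one (FiniteField.pow_card_sub_one_eq_one d hd0)
  rcases (Nat.dvd_prime Fact.out).1 h1 with h | h
  · exact orderOf_eq_one_iff.1 h
  · exact absurd (h ▸ h2) hr

theorem orderOf_eq_one_iff_dvd : orderOf (Fintype.card F : ZMod r) = 1 ↔ r ∣ Fintype.card F - 1 := by
  rw [orderOf_eq_one_iff, ← ZMod.natCast_eq_zero_iff, Nat.cast_sub Fintype.card_pos, Nat.cast_one, sub_eq_zero]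

variable {p : ℕ} [Fact p.Prime] [CharP F p]

theorem orderOf_card_pos (hrp : r ≠ p) : 0 < orderOf (Fintype.card F : ZMod r) := by
  obtain ⟨f, -, hf⟩ := FiniteField.card F p
  have h : (Fintype.card F : ZMod r) ≠ 0 := by
    rw [Ne, ZMod.natCast_eq_zero_iff, hf]
    exact fun h => hrp ((Nat.prime_dvd_prime_iff_eq Fact.out Fact.out).1 ((Fact.out : r.Prime).dvd_of_dvd_pow h))
  exact orderOf_pos_iff.2 (isOfFinOrder_iff_pow_eq_one.2
    ⟨r - 1, Nat.sub_pos_of_lt (Fact.out : r.Prime).one_lt, ZMod.pow_card_sub_one_eq_one h⟩)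

variable (r) in
/-- The criterion. -/
def Crit (q n m : ℕ) : Prop :=
  (orderOf (q : ZMod r) = 1 ∧ (r ∣ m ∨ (padicValNat r n ≤ padicValNat r (q - 1) ∧ (r = 2 → Even n → q % 4 = 1)))) ∨
    (2 ≤ orderOf (q : ZMod r) ∧ orderOf (q : ZMod r) ≤ m ∧ m % orderOf (q : ZMod r) ≤ n % orderOf (q : ZMod r))

/-- All suitable maps leave an `m`-space invariant. -/
theorem exists_invariant_of_crit (hrp : r ≠ p) {n m : ℕ} (hmn : m ≤ n) (hn : 0 < n)
    (hcrit : Crit r (Fintype.card F) n m) (f : (Fin n → F) →ₗ[F] (Fin n → F)) (c : F)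
    (hf : f ^ r = c • (1 : (Fin n → F) →ₗ[F] (Fin n → F))) (hdet : LinearMap.det f = 1) :
    ∃ W : Submodule F (Fin n → F), (∀ v ∈ W, f v ∈ W) ∧ finrank F W = m := by
  classical
  haveI : Nonempty (Fin n) := ⟨⟨0, hn⟩⟩
  have hrF : (r : F) ≠ 0 := natCast_ne_zero_of_ringChar (p := p) Fact.out hrp
  have hc0 : c ≠ 0 := by
    rintro rfl
    have h := congrArg LinearMap.det hf
    rw [map_pow, hdet, one_pow, zero_smul, LinearMap.det_zero, finrank_pi, Fintype.card_fin, zero_pow hn.ne'] at h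
    exact one_ne_zero h
  have hQ : Nat.card F = Fintype.card F := Nat.card_eq_fintype_card
  set i := orderOf (Fintype.card F : ZMod r) with hi
  by_cases hpow : ∃ d, d ^ r = c
  · obtain ⟨d, rfl⟩ := hpow
    have hd : d ≠ 0 := fun h => hc0 (by rw [h, zero_pow (Fact.out : r.Prime).ne_zero])
    let y := d⁻¹ • f
    have hy : y ^ r = 1 := by
      rw [smul_pow, hf, smul_smul, ← mul_pow, inv_mul_cancel₀ hd, one_pow, one_smul]
    suffices h : ∃ W : Submodule F (Fin n → F), (∀ v ∈ W, y v ∈ W) ∧ finrank F W = m by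
      obtain ⟨W, hW, hWd⟩ := h
      refine ⟨W, fun v hv => ?_, hWd⟩
      have := W.smul_mem d (hW v hv)
      rwa [LinearMap.smul_apply, smul_inv_smul₀ hd] at this
    set n0 := finrank F (fixSp y) with hn0
    have hdim : finrank F (Fin n → F) = n := by rw [finrank_pi, Fintype.card_fin]
    have hle : n0 ≤ n := hdim ▸ Submodule.finrank_le _
    obtain ⟨k, hk⟩ := orderOf_dvd_rest hy hrF
    rw [hdim, hQ, ← hi] at hk
    have key : ∃ a b, a ≤ n0 ∧ n0 + b * i ≤ n ∧ a + b * i = m := by
      rcases hcrit with ⟨h1, -⟩ | ⟨h2, him, hmod⟩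
      · rw [← hi] at h1
        exact ⟨min m n0, m - min m n0, min_le_right _ _, by rw [h1]; omega, by rw [h1]; omega⟩
      · rw [← hi] at him hmod h2
        have hm' := Nat.mod_add_div m i
        rw [mul_comm i (m / i)] at hm'
        rw [mul_comm i k] at hk
        by_cases hbk : m / i ≤ k
        · refine ⟨m % i, m / i, ?_, ?_, hm'⟩
          · refine hmod.trans ?_
            rw [show n = n0 + k * i by omega, Nat.add_mul_mod_self_right]
            exact Nat.mod_le _ _
          · have := Nat.mul_le_mul_right i hbk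
            omega
        · have := Nat.mul_le_mul_right i (le_of_lt (not_le.1 hbk))
          exact ⟨m - k * i, k, by omega, by omega, by omega⟩
    obtain ⟨a, b, ha, hb, hab⟩ := key
    obtain ⟨W, hW, hWd⟩ := exists_invariant_dim hy hrF a b ha (by rw [hQ, ← hi, hdim]; exact hb)
    exact ⟨W, hW, hWd.trans (by rw [hQ, ← hi]; exact hab)⟩
  · simp only [not_exists] at hpow
    obtain ⟨hdvd, hdet', hex⟩ := nonpower f c hpow hf
    rw [finrank_pi, Fintype.card_fin] at hdvd hdet' hex
    rw [hdet] at hdet'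
    have hr1 : r ∣ Fintype.card F - 1 := by
      by_contra h
      obtain ⟨d, hd⟩ := exists_rth_root h c hc0
      exact hpow d hd
    have h1 : i = 1 := orderOf_eq_one_iff_dvd.2 hr1
    rcases hcrit with ⟨-, hm | ⟨hv, h4⟩⟩ | ⟨h2, -, -⟩
    · obtain ⟨b, rfl⟩ := hm
      obtain ⟨W, hW, hWd⟩ := hex b (by rwa [mul_comm] at hmn)
      exact ⟨W, hW, by rw [hWd, mul_comm]⟩
    · exfalso
      obtain ⟨k, hk⟩ := hdvd
      have hk0 : k ≠ 0 := by rintro rfl; omega
      rw [hk, Nat.mul_div_cancel_left _ (Fact.out : r.Prime).pos] at hdet'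
      have hvk : padicValNat r n = padicValNat r k + 1 := by
        rw [hk, padicValNat.mul (Fact.out : r.Prime).ne_zero hk0, padicValNat_self, add_comm]
      obtain ⟨d, hd⟩ := exists_root_of_pow_eq_one hr1 hk0 (by omega) hdet'.symm
      by_cases hr2 : r = 2
      · rw [eps_two hr2] at hd
        have hq4 := h4 hr2 (by rw [hk, hr2]; exact even_two_mul k)
        obtain ⟨s, hs⟩ := (FiniteField.isSquare_neg_one_iff (F := F)).2 (by omega)
        refine hpow (s * d) ?_
        rw [mul_pow, hd, hr2, pow_two, ← hs]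
        ring
      · rw [eps_odd hr2] at hd
        exact hpow d hd
    · rw [← hi, h1] at h2
      omega

/-- A map without invariant `m`-spaces, if the criterion fails. -/
theorem exists_derangement (hrp : r ≠ p) {n m : ℕ} (hmn : m ≤ n) (hn : 0 < n)
    (hj : ∃ j < m, orderOf (Fintype.card F : ZMod r) ∣ n - j)
    (hcrit : ¬ Crit r (Fintype.card F) n m) :
    ∃ f : (Fin n → F) →ₗ[F] (Fin n → F), ∃ c : F, f ^ r = c • (1 : (Fin n → F) →ₗ[F] (Fin n → F)) ∧
      LinearMap.det f = 1 ∧ (∀ z : F, f ≠ z • (1 : (Fin n → F) →ₗ[F] (Fin n → F))) ∧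
      ∀ W : Submodule F (Fin n → F), (∀ v ∈ W, f v ∈ W) → finrank F W ≠ m := by
  classical
  have hrF : (r : F) ≠ 0 := natCast_ne_zero_of_ringChar (p := p) Fact.out hrp
  have hQ : Nat.card F = Fintype.card F := Nat.card_eq_fintype_card
  have hi0 := orderOf_card_pos (F := F) (r := r) hrp
  set i := orderOf (Fintype.card F : ZMod r) with hi
  unfold Crit at hcrit
  rw [not_or, ← hi] at hcrit
  haveI : Nontrivial (Fin n → F) := by
    haveI : Nonempty (Fin n) := ⟨⟨0, hn⟩⟩
    infer_instance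
  by_cases h1 : i = 1
  · obtain ⟨hc1, -⟩ := hcrit
    rw [not_and, not_or] at hc1
    obtain ⟨hrm, hv⟩ := hc1 h1
    have hr1 : r ∣ Fintype.card F - 1 := orderOf_eq_one_iff_dvd.1 (hi ▸ h1)
    have hrn : r ∣ n := by
      by_contra h
      refine hv ⟨by rw [padicValNat.eq_zero_of_not_dvd h]; exact Nat.zero_le _, fun h2 he => ?_⟩
      exact absurd (h2 ▸ even_iff_two_dvd.1 he) h
    obtain ⟨k, hk⟩ := hrn
    have hk0 : k ≠ 0 := by rintro rfl; omega
    have hvk : padicValNat r n = padicValNat r k + 1 := by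
      rw [hk, padicValNat.mul (Fact.out : r.Prime).ne_zero hk0, padicValNat_self, add_comm]
    obtain ⟨c, hc, hck⟩ : ∃ c : F, (∀ d, d ^ r ≠ c) ∧ ((-1) ^ (r + 1) * c) ^ k = 1 := by
      by_cases hq : r = 2 ∧ Fintype.card F % 4 ≠ 1
      · refine ⟨-1, fun d hd => ?_, by rw [eps_two hq.1, neg_neg, one_pow]⟩
        rw [hq.1, pow_two] at hd
        have h4 := (FiniteField.isSquare_neg_one_iff (F := F)).1 ⟨d, hd.symm⟩
        have h2 : 2 ∣ Fintype.card F - 1 := hq.1 ▸ hr1
        have := Fintype.one_lt_card (α := F)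
        omega
      · have hvv : padicValNat r (Fintype.card F - 1) ≤ padicValNat r k := by
          by_contra hlt
          refine hv ⟨by omega, fun h2 _ => ?_⟩
          by_contra h4
          exact hq ⟨h2, h4⟩
        obtain ⟨e, he, hne⟩ := exists_nonpower hr1 hvv
        by_cases hr2 : r = 2
        · refine ⟨-e, fun d hd => ?_, by rw [eps_two hr2, neg_neg, he]⟩
          have h4 : Fintype.card F % 4 = 1 := by
            by_contra h4
            exact hq ⟨hr2, h4⟩
          obtain ⟨s, hs⟩ := (FiniteField.isSquare_neg_one_iff (F := F)).2 (by omega)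
          refine hne (s * d) ?_
          rw [mul_pow, hd, hr2, pow_two, ← hs]
          ring
        · exact ⟨e, hne, by rw [eps_odd hr2, he]⟩
    obtain ⟨f, hf⟩ := exists_nonpower_map hc (n := n) ⟨k, hk⟩
    refine ⟨f, c, hf, ?_, fun z hz => ?_, fun W hW hWd => hrm ?_⟩
    · obtain ⟨-, hd, -⟩ := nonpower f c hc hf
      rwa [finrank_pi, Fintype.card_fin,
        show n / r = k by rw [hk, Nat.mul_div_cancel_left _ (Fact.out : r.Prime).pos], hck] at hd
    · rw [hz, smul_pow, one_pow] at hf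
      exact hc z (smul_left_injective F (one_ne_zero (α := (Fin n → F) →ₗ[F] (Fin n → F))) hf)
    · obtain ⟨hd, -, -⟩ := nonpower (f.restrict hW) c hc (LinearMap.ext fun w => Subtype.ext (by
        rw [restrict_pow_apply, hf]; rfl))
      rwa [hWd] at hd
  · have h2 : 2 ≤ i := by omega
    obtain ⟨-, hc2⟩ := hcrit
    obtain ⟨j, hjm, t, ht⟩ := hj
    have hin : i ≤ n := by
      rcases Nat.eq_zero_or_pos t with rfl | htp
      · omega
      · have := Nat.le_mul_of_pos_right i htp
        omega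
    have hm' := Nat.mod_add_div n i
    rw [mul_comm i (n / i)] at hm'
    obtain ⟨f, hf, hfix⟩ := exists_order_fix (F := F) hrF (by rw [hQ, ← hi]; omega) n (n / i)
      (by rw [hQ, ← hi]; omega)
    rw [hQ, ← hi] at hfix
    have hn0 : finrank F (fixSp f) = n % i := by omega
    have hlt : n % i < i := Nat.mod_lt _ (by omega)
    refine ⟨f, 1, by rw [hf, one_smul], ?_, fun z hz => ?_, fun W hW hWd => ?_⟩
    · exact eq_one_of_pow (fun h => h1 (orderOf_eq_one_iff_dvd.2 h)) (by rw [← map_pow, hf, map_one])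
    · have hz1 : z = 1 := by
        refine eq_one_of_pow (fun h => h1 (orderOf_eq_one_iff_dvd.2 h)) (r := r) ?_
        rw [hz, smul_pow, one_pow] at hf
        exact smul_left_injective F (one_ne_zero (α := (Fin n → F) →ₗ[F] (Fin n → F))) (hf.trans (one_smul F _).symm)
      have htop : fixSp f = ⊤ := eq_top_iff.2 fun v _ => mem_fixSp.2 (by rw [hz, hz1, one_smul]; rfl)
      rw [htop, finrank_top, finrank_pi, Fintype.card_fin] at hn0
      omega
    · obtain ⟨a, b, ha, hab⟩ := finrank_invariant hf hrF W hW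
      rw [hn0] at ha
      rw [hWd, hQ, ← hi] at hab
      have hma : m % i = a := by rw [hab, Nat.add_mul_mod_self_right]; exact Nat.mod_eq_of_lt (by omega)
      refine hc2 ⟨h2, ?_, hma ▸ ha⟩
      by_contra him
      rcases Nat.eq_zero_or_pos b with rfl | hb
      · have hnj : n % i = j := by
          rw [show n = j + t * i by rw [mul_comm t i]; omega, Nat.add_mul_mod_self_right]
          exact Nat.mod_eq_of_lt (by omega)
        omega
      · have := Nat.le_mul_of_pos_left i hb
        omega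

theorem elusive_subspaces (n m : ℕ) (hm : 1 ≤ m) (hmn : m ≤ n)
    (hrΩ : r ∣ Nat.card {W : Submodule F (Fin n → F) // Module.finrank F ↥W = m}) :
    (∀ x : Matrix.SpecialLinearGroup (Fin n) F,
      (∃ c : F, ((x ^ r : Matrix.SpecialLinearGroup (Fin n) F) : Matrix (Fin n) (Fin n) F) = c • (1 : Matrix (Fin n) (Fin n) F)) →
      (∀ c : F, (x : Matrix (Fin n) (Fin n) F) ≠ c • (1 : Matrix (Fin n) (Fin n) F)) →
      ∃ W : Submodule F (Fin n → F), Module.finrank F ↥W = m ∧ W.map (Matrix.toLin' (x : Matrix (Fin n) (Fin n) F)) ≤ W) ↔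
    (r ≠ p ∧ Crit r (Fintype.card F) n m) := by
  classical
  obtain ⟨hrp, hj⟩ := prime_dvd_count (p := p) n m hmn hrΩ
  rw [Nat.card_eq_fintype_card] at hj
  constructor
  · intro hall
    refine ⟨hrp, ?_⟩
    by_contra hcrit
    obtain ⟨f, c, hf, hdet, hns, hno⟩ := exists_derangement (p := p) hrp hmn (by omega) hj hcrit
    let e : Matrix (Fin n) (Fin n) F ≃ₐ[F] ((Fin n → F) →ₗ[F] (Fin n → F)) := Matrix.toLinAlgEquiv'
    have hM : (e.symm f).det = 1 := by
      have h := LinearMap.det_toLin' (e.symm f)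
      rw [show Matrix.toLin' (e.symm f) = f from e.apply_symm_apply f, hdet] at h
      exact h.symm
    obtain ⟨W, hWd, hW⟩ := hall ⟨e.symm f, hM⟩
      ⟨c, by
        show (e.symm f) ^ r = _
        rw [← map_pow, hf, map_smul, map_one]⟩
      (fun z hz => hns z (by
        have := congrArg e (show e.symm f = z • (1 : Matrix (Fin n) (Fin n) F) from hz)
        rwa [e.apply_symm_apply, map_smul, map_one] at this))
    rw [show Matrix.toLin' (e.symm f) = f from e.apply_symm_apply f] at hW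
    exact hno W (Submodule.map_le_iff_le_comap.1 hW) hWd
  · rintro ⟨-, hcrit⟩ x ⟨c, hc⟩ -
    let e : Matrix (Fin n) (Fin n) F ≃ₐ[F] ((Fin n → F) →ₗ[F] (Fin n → F)) := Matrix.toLinAlgEquiv'
    have hdet : LinearMap.det (e (x : Matrix (Fin n) (Fin n) F)) = 1 := (LinearMap.det_toLin' _).trans x.2
    obtain ⟨W, hW, hWd⟩ := exists_invariant_of_crit (p := p) hrp hmn (by omega) hcrit (e (x : Matrix (Fin n) (Fin n) F)) c
      (by rw [← map_pow, ← Matrix.SpecialLinearGroup.coe_pow, hc, map_smul, map_one]) hdet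
    exact ⟨W, hWd, Submodule.map_le_iff_le_comap.2 hW⟩

end CfsgLib.Geo.PrimeAct
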