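/-
Elements of prime order of `PSL_n(q)` acting on pairs of subspaces `U ≤ W` of complementary dimensions.
-/
import Cfsg.Agent.Lib.Geo.ElusiveSubspaces

namespace CfsgLib.Geo.PrimeAct

open Module

variable {F : Type*} [Field F]

section count

variable [Finite F]

theorem card_subspaces_le (n a : ℕ) (ha : a ≤ n) :
    Nat.card {W : Submodule F (Fin n → F) // finrank F W = a} ≤
      Nat.card {W : Submodule F (Fin n → F) // finrank F W = n - a} := by
  haveI : Finite (Submodule F (Fin n → F)) := Finite.of_injective (fun W => (W : Set (Fin n → F))) SetLike.coe_injective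
  let e : Dual F (Fin n → F) ≃ₗ[F] (Fin n → F) := ((Pi.basisFun F (Fin n)).toDualEquiv).symm
  refine Nat.card_le_card_of_injective (fun W => ⟨W.1.dualAnnihilator.map e.toLinearMap, ?_⟩) ?_
  · rw [LinearEquiv.finrank_map_eq]
    have := Subspace.finrank_add_finrank_dualAnnihilator_eq W.1
    rw [W.2, finrank_pi, Fintype.card_fin] at this
    omega
  · intro W W' h
    have h1 := Submodule.map_injective_of_injective e.injective (congrArg Subtype.val h)
    exact Subtype.ext (Subspace.dualAnnihilator_inj.1 h1)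

theorem card_subspaces_symm (n a : ℕ) (ha : a ≤ n) :
    Nat.card {W : Submodule F (Fin n → F) // finrank F W = n - a} =
      Nat.card {W : Submodule F (Fin n → F) // finrank F W = a} :=
  le_antisymm (by
    have := card_subspaces_le (F := F) n (n - a) (Nat.sub_le _ _)
    rwa [Nat.sub_sub_self ha] at this) (card_subspaces_le n a ha)

theorem card_flags (n m : ℕ) (h : 2 * m ≤ n) :
    Nat.card {P : Submodule F (Fin n → F) × Submodule F (Fin n → F) //
        P.1 ≤ P.2 ∧ finrank F ↥P.1 = m ∧ finrank F ↥P.2 = n - m} =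
      Nat.card {W : Submodule F (Fin n → F) // finrank F W = m} *
        Nat.card {W : Submodule F (Fin (n - m) → F) // finrank F W = m} := by
  classical
  haveI : Finite (Submodule F (Fin n → F)) := Finite.of_injective (fun W => (W : Set (Fin n → F))) SetLike.coe_injective
  haveI := Fintype.ofFinite {W : Submodule F (Fin n → F) // finrank F W = n - m}
  let e : {P : Submodule F (Fin n → F) × Submodule F (Fin n → F) //
        P.1 ≤ P.2 ∧ finrank F ↥P.1 = m ∧ finrank F ↥P.2 = n - m} ≃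
      Σ W : {W : Submodule F (Fin n → F) // finrank F W = n - m}, {U : Submodule F W.1 // finrank F U = m} :=
    { toFun := fun P => ⟨⟨P.1.2, P.2.2.2⟩, ⟨P.1.1.comap P.1.2.subtype,
        (LinearEquiv.finrank_eq (Submodule.comapSubtypeEquivOfLe P.2.1)).trans P.2.2.1⟩⟩
      invFun := fun x => ⟨(x.2.1.map x.1.1.subtype, x.1.1), Submodule.map_subtype_le _ _,
        (Submodule.finrank_map_subtype_eq _ _).trans x.2.2, x.1.2⟩
      left_inv := fun P => Subtype.ext (Prod.ext (by
        show (P.1.1.comap P.1.2.subtype).map P.1.2.subtype = P.1.1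
        rw [Submodule.map_comap_subtype, inf_eq_right.2 P.2.1]) rfl)
      right_inv := fun x => Sigma.ext rfl (heq_of_eq (Subtype.ext
        (Submodule.comap_map_eq_of_injective x.1.1.injective_subtype x.2.1))) }
  have hW : ∀ W : {W : Submodule F (Fin n → F) // finrank F W = n - m},
      Nat.card {U : Submodule F W.1 // finrank F U = m} = Nat.card {U : Submodule F (Fin (n - m) → F) // finrank F U = m} := by
    intro W
    let l : W.1 ≃ₗ[F] (Fin (n - m) → F) := LinearEquiv.ofFinrankEq _ _ (by rw [W.2, finrank_pi, Fintype.card_fin])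
    refine Nat.card_congr ((Submodule.orderIsoMapComap l).toEquiv.subtypeEquiv fun U => ?_)
    show finrank F U = m ↔ finrank F (U.map l.toLinearMap) = m
    rw [LinearEquiv.finrank_map_eq]
  rw [Nat.card_congr e, Nat.card_sigma]
  simp only [hW, Finset.sum_const, Finset.card_univ, smul_eq_mul, ← Nat.card_eq_fintype_card,
    card_subspaces_symm n m (by omega)]

end count

section pair

variable [Finite F] {V : Type*} [AddCommGroup V] [Module F V] [FiniteDimensional F V] {r : ℕ} [Fact r.Prime]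

theorem exists_invariant_pair {f : V →ₗ[F] V} (hr : f ^ r = 1) (hrF : (r : F) ≠ 0) {a a' b b' : ℕ} (haa : a ≤ a')
    (ha : a' ≤ finrank F (fixSp f)) (hbb : b ≤ b')
    (hb : finrank F (fixSp f) + b' * orderOf (Nat.card F : ZMod r) ≤ finrank F V) :
    ∃ U W : Submodule F V, U ≤ W ∧ (∀ v ∈ U, f v ∈ U) ∧ (∀ v ∈ W, f v ∈ W) ∧
      finrank F U = a + b * orderOf (Nat.card F : ZMod r) ∧ finrank F W = a' + b' * orderOf (Nat.card F : ZMod r) := by
  obtain ⟨A', hA', hA'd⟩ := exists_subspace_dim (fixSp f) ha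
  obtain ⟨A, hA, hAd⟩ := exists_subspace_dim A' (haa.trans hA'd.ge)
  have hsplit := finrank_split hr hrF ⊤ fun v _ => Submodule.mem_top
  rw [top_inf_eq, top_inf_eq, finrank_top] at hsplit
  set g := f.restrict (restSp_invariant (r := r) hr)
  have hgfree : ∀ v, g v = v → v = 0 := fun v hv => Subtype.ext (free_of_le_rest hrF v.2 (congrArg Subtype.val hv))
  have hgr : g ^ r = 1 := restrict_pow_eq_one f hr _
  obtain ⟨B', hB', hB'd⟩ := exists_invariant_mul g hgr hgfree b' (by omega)
  obtain ⟨B, hB, hBd⟩ := exists_invariant_mul (g.restrict hB') (restrict_pow_eq_one g hgr hB')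
    (fun v hv => Subtype.ext (hgfree v.1 (congrArg Subtype.val hv))) b
    (by rw [hB'd]; exact Nat.mul_le_mul_right _ hbb)
  let B1 := B.map B'.subtype
  have hB1 : ∀ v ∈ B1, g v ∈ B1 := by rintro _ ⟨z, hz, rfl⟩; exact ⟨_, hB z hz, rfl⟩
  have key : ∀ (A : Submodule F V) (B : Submodule F (restSp r f)), A ≤ fixSp f → (∀ v ∈ B, g v ∈ B) →
      (∀ v ∈ A ⊔ B.map (restSp r f).subtype, f v ∈ A ⊔ B.map (restSp r f).subtype) ∧
      finrank F ↥(A ⊔ B.map (restSp r f).subtype) = finrank F A + finrank F B := by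
    intro A B hA hB
    refine ⟨fun v hv => ?_, ?_⟩
    · obtain ⟨x, hx, y, ⟨z, hz, rfl⟩, rfl⟩ := Submodule.mem_sup.1 hv
      rw [map_add, mem_fixSp.1 (hA hx)]
      exact Submodule.add_mem_sup hx ⟨_, hB z hz, rfl⟩
    · have h1 := Submodule.finrank_sup_add_finrank_inf_eq A (B.map (restSp r f).subtype)
      have h2 : A ⊓ B.map (restSp r f).subtype = ⊥ :=
        le_bot_iff.1 ((inf_le_inf hA (Submodule.map_subtype_le _ _)).trans (disjoint_fix_rest hrF).le)
      rw [h2, finrank_bot, Submodule.finrank_map_subtype_eq] at h1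
      omega
  obtain ⟨h1, h2⟩ := key A B1 (hA.trans hA') hB1
  obtain ⟨h3, h4⟩ := key A' B' hA' hB'
  refine ⟨_, _, sup_le_sup hA (Submodule.map_mono (Submodule.map_subtype_le _ _)), h1, h3,
    by rw [h2, hAd, Submodule.finrank_map_subtype_eq, hBd], by rw [h4, hA'd, hB'd]⟩

end pair

variable [Fintype F] {r : ℕ} [Fact r.Prime] {p : ℕ} [Fact p.Prime] [CharP F p]

variable (r) in
/-- The criterion for flags. -/
def FlagCrit (q n m : ℕ) : Prop :=
  (orderOf (q : ZMod r) = 1 ∧ (r ∣ m ∨ (padicValNat r n ≤ padicValNat r (q - 1) ∧ (r = 2 → Even n → q % 4 = 1)))) ∨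
    (2 ≤ orderOf (q : ZMod r) ∧ orderOf (q : ZMod r) ≤ m ∧ 2 * (m % orderOf (q : ZMod r)) ≤ n % orderOf (q : ZMod r))

theorem exists_flag_of_crit (hrp : r ≠ p) {n m : ℕ} (hm : 1 ≤ m) (hmn : 2 * m ≤ n)
    (hcrit : FlagCrit r (Fintype.card F) n m) (f : (Fin n → F) →ₗ[F] (Fin n → F)) (c : F)
    (hf : f ^ r = c • (1 : (Fin n → F) →ₗ[F] (Fin n → F))) (hdet : LinearMap.det f = 1) :
    ∃ U W : Submodule F (Fin n → F), U ≤ W ∧ (∀ v ∈ U, f v ∈ U) ∧ (∀ v ∈ W, f v ∈ W) ∧
      finrank F U = m ∧ finrank F W = n - m := by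
  classical
  haveI : Nonempty (Fin n) := ⟨⟨0, by omega⟩⟩
  have hrF : (r : F) ≠ 0 := natCast_ne_zero_of_ringChar (p := p) Fact.out hrp
  have hc0 : c ≠ 0 := by
    rintro rfl
    have h := congrArg LinearMap.det hf
    rw [map_pow, hdet, one_pow, zero_smul, LinearMap.det_zero, finrank_pi, Fintype.card_fin, zero_pow (by omega)] at h
    exact one_ne_zero h
  have hQ : Nat.card F = Fintype.card F := Nat.card_eq_fintype_card
  set i := orderOf (Fintype.card F : ZMod r) with hi
  have hdim : finrank F (Fin n → F) = n := by rw [finrank_pi, Fintype.card_fin]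
  by_cases hpow : ∃ d, d ^ r = c
  · obtain ⟨d, rfl⟩ := hpow
    have hd : d ≠ 0 := fun h => hc0 (by rw [h, zero_pow (Fact.out : r.Prime).ne_zero])
    let y := d⁻¹ • f
    have hy : y ^ r = 1 := by
      rw [smul_pow, hf, smul_smul, ← mul_pow, inv_mul_cancel₀ hd, one_pow, one_smul]
    suffices h : ∃ U W : Submodule F (Fin n → F), U ≤ W ∧ (∀ v ∈ U, y v ∈ U) ∧ (∀ v ∈ W, y v ∈ W) ∧
        finrank F U = m ∧ finrank F W = n - m by
      obtain ⟨U, W, hUW, hU, hW, hUd, hWd⟩ := h
      refine ⟨U, W, hUW, fun v hv => ?_, fun v hv => ?_, hUd, hWd⟩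
      · have := U.smul_mem d (hU v hv)
        rwa [LinearMap.smul_apply, smul_inv_smul₀ hd] at this
      · have := W.smul_mem d (hW v hv)
        rwa [LinearMap.smul_apply, smul_inv_smul₀ hd] at this
    set n0 := finrank F (fixSp y) with hn0
    have hle : n0 ≤ n := hdim ▸ Submodule.finrank_le _
    obtain ⟨k, hk⟩ := orderOf_dvd_rest hy hrF
    rw [hdim, hQ, ← hi, mul_comm] at hk
    obtain ⟨him, hmod⟩ : i ≤ m ∧ 2 * (m % i) ≤ n % i := by
      rcases hcrit with ⟨h1, -⟩ | ⟨-, h2, h3⟩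
      · rw [← hi] at h1
        rw [h1, Nat.mod_one, Nat.mod_one]
        exact ⟨hm, le_rfl⟩
      · exact ⟨h2, h3⟩
    set m' := m / i
    have hm' : m % i + m' * i = m := by rw [mul_comm]; exact Nat.mod_add_div m i
    have hn' : n % i ≤ n0 := by
      rw [show n = n0 + k * i by omega, Nat.add_mul_mod_self_right]
      exact Nat.mod_le _ _
    obtain ⟨b, b2, hb, hb2, hbk, hfix⟩ :
        ∃ b b2, b ≤ m' ∧ b2 ≤ m' ∧ b + b2 ≤ k ∧ 2 * m ≤ n0 + (b + b2) * i := by
      rcases Nat.le_total (2 * m') k with h | h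
      · refine ⟨m', m', le_rfl, le_rfl, by omega, ?_⟩
        rw [add_mul]; omega
      · refine ⟨min m' k, k - min m' k, min_le_left _ _, by omega, by omega, ?_⟩
        rw [Nat.add_sub_cancel' (min_le_right _ _)]
        omega
    have hbi := Nat.mul_le_mul_right i hb
    have hb2i := Nat.mul_le_mul_right i hb2
    have hbki := Nat.mul_le_mul_right i hbk
    rw [add_mul] at hfix hbki
    have hsub : (k - b2) * i = k * i - b2 * i := Nat.sub_mul _ _ _
    obtain ⟨U, W, hUW, hU, hW, hUd, hWd⟩ := exists_invariant_pair hy hrF (a := m - b * i)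
      (a' := n0 - (m - b2 * i)) (b := b) (b' := k - b2) (by omega) (Nat.sub_le _ _) (by omega) (by
        rw [hQ, ← hi, hdim, ← hn0, hsub]; omega)
    rw [hQ, ← hi] at hUd hWd
    rw [hsub] at hWd
    exact ⟨U, W, hUW, hU, hW, by omega, by omega⟩
  · simp only [not_exists] at hpow
    have hr1 : r ∣ Fintype.card F - 1 := by
      by_contra h
      obtain ⟨d, hd⟩ := exists_rth_root h c hc0
      exact hpow d hd
    have h1 : i = 1 := orderOf_eq_one_iff_dvd.2 hr1
    have hcrit' : Crit r (Fintype.card F) n m := by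
      rcases hcrit with h | ⟨h2, -, -⟩
      · exact Or.inl h
      · rw [← hi, h1] at h2; omega
    obtain ⟨U0, hU0, hU0d⟩ := exists_invariant_of_crit (p := p) hrp (by omega) (by omega) hcrit' f c hf hdet
    obtain ⟨hrm, -, -⟩ := nonpower (f.restrict hU0) c hpow (LinearMap.ext fun w => Subtype.ext (by
      rw [restrict_pow_apply, hf]; rfl))
    rw [hU0d] at hrm
    obtain ⟨hrn, -, hex⟩ := nonpower f c hpow hf
    rw [hdim] at hrn hex
    obtain ⟨b, rfl⟩ := hrm
    obtain ⟨t, ht⟩ : r ∣ n - r * b := Nat.dvd_sub hrn (dvd_mul_right r b)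
    obtain ⟨W, hW, hWd⟩ := hex t (by rw [mul_comm, ← ht]; exact Nat.sub_le _ _)
    obtain ⟨-, -, hexW⟩ := nonpower (f.restrict hW) c hpow (LinearMap.ext fun w => Subtype.ext (by
      rw [restrict_pow_apply, hf]; rfl))
    obtain ⟨U, hU, hUd⟩ := hexW b (by rw [hWd, mul_comm, mul_comm t, ← ht]; omega)
    refine ⟨U.map W.subtype, W, Submodule.map_subtype_le _ _, ?_, hW, ?_, ?_⟩
    · rintro _ ⟨z, hz, rfl⟩
      exact ⟨_, hU z hz, rfl⟩
    · rw [Submodule.finrank_map_subtype_eq, hUd, mul_comm]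
    · rw [hWd, mul_comm t, ← ht]

theorem exists_flag_derangement (hrp : r ≠ p) {n m : ℕ} (hmn : 2 * m < n) (hm : 1 ≤ m)
    (hj : ∃ j < 2 * m, orderOf (Fintype.card F : ZMod r) ∣ n - j)
    (hcrit : ¬ FlagCrit r (Fintype.card F) n m) :
    ∃ f : (Fin n → F) →ₗ[F] (Fin n → F), ∃ c : F, f ^ r = c • (1 : (Fin n → F) →ₗ[F] (Fin n → F)) ∧
      LinearMap.det f = 1 ∧ (∀ z : F, f ≠ z • (1 : (Fin n → F) →ₗ[F] (Fin n → F))) ∧
      ∀ U W : Submodule F (Fin n → F), U ≤ W → (∀ v ∈ U, f v ∈ U) → (∀ v ∈ W, f v ∈ W) →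
        finrank F U = m → finrank F W ≠ n - m := by
  classical
  have hrF : (r : F) ≠ 0 := natCast_ne_zero_of_ringChar (p := p) Fact.out hrp
  have hQ : Nat.card F = Fintype.card F := Nat.card_eq_fintype_card
  have hi0 := orderOf_card_pos (F := F) (r := r) hrp
  set i := orderOf (Fintype.card F : ZMod r) with hi
  unfold FlagCrit at hcrit
  rw [not_or, ← hi] at hcrit
  by_cases h1 : i = 1
  · have hcrit' : ¬ Crit r (Fintype.card F) n m := by
      unfold Crit
      rw [not_or, ← hi]
      exact ⟨hcrit.1, fun h => by omega⟩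
    obtain ⟨f, c, hf, hdet, hns, hno⟩ := exists_derangement (p := p) hrp (by omega) (by omega)
      ⟨0, hm, by rw [← hi, h1]; exact one_dvd _⟩ hcrit'
    exact ⟨f, c, hf, hdet, hns, fun U W _ hU _ hUd => absurd hUd (hno U hU)⟩
  · have h2 : 2 ≤ i := by omega
    obtain ⟨j, hjm, t, ht⟩ := hj
    have hin : i ≤ n := by
      rcases Nat.eq_zero_or_pos t with rfl | htp
      · omega
      · have := Nat.le_mul_of_pos_right i htp
        omega
    have hn' := Nat.mod_add_div n i
    rw [mul_comm i (n / i)] at hn'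
    obtain ⟨f, hf, hfix⟩ := exists_order_fix (F := F) hrF (by rw [hQ, ← hi]; omega) n (n / i)
      (by rw [hQ, ← hi]; omega)
    rw [hQ, ← hi] at hfix
    have hn0 : finrank F (fixSp f) = n % i := by omega
    have hlt : n % i < i := Nat.mod_lt _ (by omega)
    have hr1 : ¬ r ∣ Fintype.card F - 1 := fun h => h1 (orderOf_eq_one_iff_dvd.2 h)
    refine ⟨f, 1, by rw [hf, one_smul], ?_, fun z hz => ?_, fun U W hUW hU hW hUd hWd => ?_⟩
    · exact eq_one_of_pow hr1 (by rw [← map_pow, hf, map_one])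
    · haveI : Nonempty (Fin n) := ⟨⟨0, by omega⟩⟩
      have hz1 : z = 1 := by
        refine eq_one_of_pow hr1 (r := r) ?_
        rw [hz, smul_pow, one_pow] at hf
        exact smul_left_injective F (one_ne_zero (α := (Fin n → F) →ₗ[F] (Fin n → F))) (hf.trans (one_smul F _).symm)
      have htop : fixSp f = ⊤ := eq_top_iff.2 fun v _ => mem_fixSp.2 (by rw [hz, hz1, one_smul]; rfl)
      rw [htop, finrank_top, finrank_pi, Fintype.card_fin] at hn0
      omega
    · have hUs := finrank_split hf hrF U hU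
      have hWs := finrank_split hf hrF W hW
      obtain ⟨b, hb⟩ := orderOf_dvd_finrank_inf_rest hf hrF U hU
      obtain ⟨b', hb'⟩ := orderOf_dvd_finrank_inf_rest hf hrF W hW
      rw [hQ, ← hi, mul_comm] at hb hb'
      have hA : finrank F ↥(U ⊓ fixSp f) ≤ finrank F ↥(W ⊓ fixSp f) :=
        Submodule.finrank_mono (inf_le_inf_right _ hUW)
      have hA' : finrank F ↥(W ⊓ fixSp f) ≤ n % i := hn0 ▸ Submodule.finrank_mono inf_le_right
      set a := finrank F ↥(U ⊓ fixSp f)
      set a' := finrank F ↥(W ⊓ fixSp f)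
      rw [hUd, hb] at hUs
      rw [hWd, hb'] at hWs
      have hma : m % i = a := by rw [← hUs, Nat.add_mul_mod_self_right]; exact Nat.mod_eq_of_lt (by omega)
      have hb'k : b' ≤ n / i := (Nat.le_div_iff_mul_le (by omega)).2 (by omega)
      have hma' : m % i = n % i - a' := by
        rw [show m = (n % i - a') + (n / i - b') * i by
          have := Nat.mul_le_mul_right i hb'k
          rw [Nat.sub_mul]; omega, Nat.add_mul_mod_self_right]
        exact Nat.mod_eq_of_lt (by omega)
      refine hcrit.2 ⟨h2, ?_, by omega⟩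
      by_contra him
      have hnj : n % i ≤ j := by
        rw [show n = j + t * i by rw [mul_comm t i]; omega, Nat.add_mul_mod_self_right]
        exact Nat.mod_le _ _
      rw [Nat.mod_eq_of_lt (by omega : m < i)] at hma hma'
      omega

theorem elusive_flags (n m : ℕ) (hm : 1 ≤ m) (hmn : 2 * m < n)
    (hrΩ : r ∣ Nat.card {P : Submodule F (Fin n → F) × Submodule F (Fin n → F) //
        P.1 ≤ P.2 ∧ Module.finrank F ↥P.1 = m ∧ Module.finrank F ↥P.2 = n - m}) :
    (∀ x : Matrix.SpecialLinearGroup (Fin n) F,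
      (∃ c : F, ((x ^ r : Matrix.SpecialLinearGroup (Fin n) F) : Matrix (Fin n) (Fin n) F) = c • (1 : Matrix (Fin n) (Fin n) F)) →
      (∀ c : F, (x : Matrix (Fin n) (Fin n) F) ≠ c • (1 : Matrix (Fin n) (Fin n) F)) →
      ∃ U W : Submodule F (Fin n → F), U ≤ W ∧ Module.finrank F ↥U = m ∧ Module.finrank F ↥W = n - m ∧
        U.map (Matrix.toLin' (x : Matrix (Fin n) (Fin n) F)) ≤ U ∧ W.map (Matrix.toLin' (x : Matrix (Fin n) (Fin n) F)) ≤ W) ↔
    (r ≠ p ∧ FlagCrit r (Fintype.card F) n m) := by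
  classical
  rw [card_flags n m (by omega)] at hrΩ
  obtain ⟨hrp, hj⟩ : r ≠ p ∧ ∃ j < 2 * m, orderOf (Fintype.card F : ZMod r) ∣ n - j := by
    rcases (Fact.out : r.Prime).dvd_mul.1 hrΩ with h | h
    · obtain ⟨hrp, j, hj, hd⟩ := prime_dvd_count (p := p) n m (by omega) h
      exact ⟨hrp, j, by omega, by rwa [Nat.card_eq_fintype_card] at hd⟩
    · obtain ⟨hrp, j, hj, hd⟩ := prime_dvd_count (p := p) (n - m) m (by omega) h
      refine ⟨hrp, m + j, by omega, ?_⟩
      rwa [Nat.card_eq_fintype_card, Nat.sub_sub] at hd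
  let e : Matrix (Fin n) (Fin n) F ≃ₐ[F] ((Fin n → F) →ₗ[F] (Fin n → F)) := Matrix.toLinAlgEquiv'
  constructor
  · intro hall
    refine ⟨hrp, ?_⟩
    by_contra hcrit
    obtain ⟨f, c, hf, hdet, hns, hno⟩ := exists_flag_derangement (p := p) hrp hmn hm hj hcrit
    have hM : (e.symm f).det = 1 := by
      have h := LinearMap.det_toLin' (e.symm f)
      rw [show Matrix.toLin' (e.symm f) = f from e.apply_symm_apply f, hdet] at h
      exact h.symm
    obtain ⟨U, W, hUW, hUd, hWd, hU, hW⟩ := hall ⟨e.symm f, hM⟩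
      ⟨c, by
        show (e.symm f) ^ r = _
        rw [← map_pow, hf, map_smul, map_one]⟩
      (fun z hz => hns z (by
        have := congrArg e (show e.symm f = z • (1 : Matrix (Fin n) (Fin n) F) from hz)
        rwa [e.apply_symm_apply, map_smul, map_one] at this))
    rw [show Matrix.toLin' (e.symm f) = f from e.apply_symm_apply f] at hU hW
    exact hno U W hUW (Submodule.map_le_iff_le_comap.1 hU) (Submodule.map_le_iff_le_comap.1 hW) hUd hWd
  · rintro ⟨-, hcrit⟩ x ⟨c, hc⟩ -
    have hdet : LinearMap.det (e (x : Matrix (Fin n) (Fin n) F)) = 1 := (LinearMap.det_toLin' _).trans x.2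
    obtain ⟨U, W, hUW, hU, hW, hUd, hWd⟩ := exists_flag_of_crit (p := p) hrp hm hmn.le hcrit
      (e (x : Matrix (Fin n) (Fin n) F)) c
      (by rw [← map_pow, ← Matrix.SpecialLinearGroup.coe_pow, hc, map_smul, map_one]) hdet
    exact ⟨U, W, hUW, hUd, hWd, Submodule.map_le_iff_le_comap.2 hU, Submodule.map_le_iff_le_comap.2 hW⟩

end CfsgLib.Geo.PrimeAct
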