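/-
Types (partitions) of nilpotent linear maps.
-/
import Mathlib

namespace CfsgLib.Geo.NilType

open Module Polynomial

variable {F : Type*} [Field F]

/-- The shift map attached to a family of lengths. -/
def shiftMap {ι : Type*} (k : ι → ℕ) : ((Σ i, Fin (k i)) → F) →ₗ[F] ((Σ i, Fin (k i)) → F) where
  toFun v x := if h : (x.2 : ℕ) + 1 < k x.1 then v ⟨x.1, ⟨x.2 + 1, h⟩⟩ else 0
  map_add' u v := funext fun x => by
    show (if h : _ then (u + v) _ else 0) = (if h : _ then u _ else 0) + (if h : _ then v _ else 0)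
    split_ifs <;> simp
  map_smul' c v := funext fun x => by
    show (if h : _ then (c • v) _ else 0) = c • (if h : _ then v _ else 0)
    split_ifs <;> simp

theorem shiftMap_pow_apply {ι : Type*} (k : ι → ℕ) (j : ℕ) (v : (Σ i, Fin (k i)) → F) (x : Σ i, Fin (k i)) :
    (shiftMap k ^ j) v x = if h : (x.2 : ℕ) + j < k x.1 then v ⟨x.1, ⟨x.2 + j, h⟩⟩ else 0 := by
  induction j generalizing x with
  | zero =>
    rw [dif_pos (show (x.2 : ℕ) + 0 < k x.1 from x.2.2)]
    rfl
  | succ j ih =>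
    rw [pow_succ', Module.End.mul_apply]
    show (if h : (x.2 : ℕ) + 1 < k x.1 then (shiftMap k ^ j) v ⟨x.1, ⟨x.2 + 1, h⟩⟩ else 0) = _
    split_ifs with h1 h2 h3
    · rw [ih, dif_pos (show (x.2 : ℕ) + 1 + j < k x.1 by omega)]
      exact congrArg v (Sigma.ext rfl (heq_of_eq (Fin.ext (show (x.2 : ℕ) + 1 + j = x.2 + (j + 1) by omega))))
    · rw [ih, dif_neg (show ¬ (x.2 : ℕ) + 1 + j < k x.1 by omega)]
    · exact absurd h3 (by omega)
    · rfl

/-- The number `∑ min a j` over the parts `a`. -/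
def kerDim (μ : Multiset ℕ) (j : ℕ) : ℕ := (μ.map fun a => min a j).sum

theorem kerDim_succ (μ : Multiset ℕ) (j : ℕ) : kerDim μ (j + 1) = kerDim μ j + μ.countP (fun a => j < a) := by
  induction μ using Multiset.induction with
  | empty => rfl
  | cons a μ ih =>
    simp only [kerDim, Multiset.map_cons, Multiset.sum_cons, Multiset.countP_cons] at ih ⊢
    split_ifs <;> omega

theorem countP_succ (μ : Multiset ℕ) (j : ℕ) :
    μ.countP (fun a => j < a) = μ.countP (fun a => j + 1 < a) + μ.count (j + 1) := by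
  induction μ using Multiset.induction with
  | empty => rfl
  | cons a μ ih =>
    simp only [Multiset.countP_cons, Multiset.count_cons] at ih ⊢
    split_ifs <;> omega

theorem kerDim_add (μ ν : Multiset ℕ) (j : ℕ) : kerDim (μ + ν) j = kerDim μ j + kerDim ν j := by
  simp [kerDim]

theorem kerDim_filter_pos (μ : Multiset ℕ) (j : ℕ) : kerDim (μ.filter (0 < ·)) j = kerDim μ j := by
  induction μ using Multiset.induction with
  | empty => rfl
  | cons a μ ih =>
    rcases Nat.eq_zero_or_pos a with rfl | ha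
    · rw [Multiset.filter_cons_of_neg (p := fun x => 0 < x) _ (lt_irrefl 0), ih]
      simp [kerDim]
    · rw [Multiset.filter_cons_of_pos (p := fun x => 0 < x) _ ha]
      simp only [kerDim, Multiset.map_cons, Multiset.sum_cons] at ih ⊢
      rw [ih]

theorem kerDim_of_le {μ : Multiset ℕ} {j : ℕ} (h : ∀ a ∈ μ, a ≤ j) : kerDim μ j = μ.sum := by
  rw [kerDim]
  conv_rhs => rw [← Multiset.map_id μ]
  exact congrArg Multiset.sum (Multiset.map_congr rfl fun a ha => min_eq_left (h a ha))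

theorem eq_of_kerDim {μ ν : Multiset ℕ} (hμ : ∀ a ∈ μ, 0 < a) (hν : ∀ a ∈ ν, 0 < a)
    (h : ∀ j, kerDim μ j = kerDim ν j) : μ = ν := by
  refine Multiset.ext.2 fun a => ?_
  rcases Nat.eq_zero_or_pos a with rfl | ha
  · rw [Multiset.count_eq_zero.2 fun h => (hμ 0 h).false, Multiset.count_eq_zero.2 fun h => (hν 0 h).false]
  · obtain ⟨j, rfl⟩ : ∃ j, a = j + 1 := ⟨a - 1, by omega⟩
    have h1 := countP_succ μ j
    have h2 := countP_succ ν j
    have e1 := kerDim_succ μ j
    have e2 := kerDim_succ ν j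
    have e3 := kerDim_succ μ (j + 1)
    have e4 := kerDim_succ ν (j + 1)
    have := h j
    have := h (j + 1)
    have := h (j + 1 + 1)
    omega

variable {V : Type*} [AddCommGroup V] [Module F V] [FiniteDimensional F V]

/-- `μ` is the type of the nilpotent map `N`. -/
def HasType (N : V →ₗ[F] V) (μ : Multiset ℕ) : Prop :=
  (∀ a ∈ μ, 0 < a) ∧ ∀ j, finrank F (LinearMap.ker (N ^ j)) = kerDim μ j

theorem HasType.unique {N : V →ₗ[F] V} {μ ν : Multiset ℕ} (h : HasType N μ) (h' : HasType N ν) : μ = ν :=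
  eq_of_kerDim h.1 h'.1 fun j => (h.2 j).symm.trans (h'.2 j)

theorem finrank_ker_shiftMap {s : ℕ} (k : Fin s → ℕ) (j : ℕ) :
    finrank F (LinearMap.ker (shiftMap (F := F) k ^ j)) = kerDim ((Finset.univ : Finset (Fin s)).val.map k) j := by
  classical
  let R : ((Σ i, Fin (k i)) → F) →ₗ[F] ({x : Σ i, Fin (k i) // ¬ (x.2 : ℕ) < j} → F) :=
    LinearMap.funLeft F F Subtype.val
  have hker : LinearMap.ker (shiftMap (F := F) k ^ j) = LinearMap.ker R := by
    ext v
    rw [LinearMap.mem_ker, LinearMap.mem_ker]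
    constructor
    · intro h
      funext x
      obtain ⟨⟨i, l⟩, hl⟩ := x
      have hl' : ¬ (l : ℕ) < j := hl
      have h1 := congrFun h ⟨i, ⟨(l : ℕ) - j, by omega⟩⟩
      rw [shiftMap_pow_apply, dif_pos (show (l : ℕ) - j + j < k i by omega)] at h1
      show v ⟨i, l⟩ = 0
      refine Eq.trans ?_ h1
      exact congrArg v (Sigma.ext rfl (heq_of_eq (Fin.ext (show (l : ℕ) = l - j + j by omega))))
    · intro h
      funext x
      rw [shiftMap_pow_apply]
      split_ifs with hx
      · exact congrFun h ⟨⟨x.1, ⟨x.2 + j, hx⟩⟩, by show ¬ (x.2 : ℕ) + j < j; omega⟩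
      · rfl
  have hsurj : LinearMap.range R = ⊤ :=
    LinearMap.range_eq_top.2 (LinearMap.funLeft_surjective_of_injective F F _ Subtype.val_injective)
  have h1 := LinearMap.finrank_range_add_finrank_ker R
  rw [hsurj, finrank_top, finrank_pi, finrank_pi, ← hker, Fintype.card_subtype_compl] at h1
  have h2 : Fintype.card {x : Σ i, Fin (k i) // (x.2 : ℕ) < j} = kerDim ((Finset.univ : Finset (Fin s)).val.map k) j := by
    rw [Fintype.card_subtype, show (Finset.univ.filter fun x : Σ i, Fin (k i) => (x.2 : ℕ) < j) =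
      Finset.univ.sigma (fun i => Finset.univ.filter fun l : Fin (k i) => (l : ℕ) < j) by ext x; simp,
      Finset.card_sigma, kerDim, Multiset.map_map]
    refine Finset.sum_congr rfl fun i _ => ?_
    rw [Function.comp_apply]
    exact Fin.card_filter_val_lt
  have h3 := Fintype.card_subtype_le fun x : Σ i, Fin (k i) => (x.2 : ℕ) < j
  omega

/-- The map `v ↦ ∑ v_l X^(k-1-l)` to `F[X] / (X^k)`. -/
noncomputable def chainMap (k : ℕ) : (Fin k → F) →ₗ[F] (F[X] ⧸ F[X] ∙ (X ^ k : F[X])) :=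
  ∑ l : Fin k, (LinearMap.proj l).smulRight (Submodule.Quotient.mk (X ^ (k - 1 - (l : ℕ)) : F[X]))

theorem chainMap_apply (k : ℕ) (v : Fin k → F) :
    chainMap k v = Submodule.Quotient.mk (∑ l : Fin k, C (v l) * X ^ (k - 1 - (l : ℕ))) := by
  rw [← Submodule.mkQ_apply, map_sum, chainMap, LinearMap.sum_apply]
  refine Finset.sum_congr rfl fun l _ => ?_
  rw [LinearMap.smulRight_apply, LinearMap.proj_apply, Submodule.mkQ_apply, ← smul_eq_C_mul, Submodule.Quotient.mk_smul]

theorem chainMap_bijective (k : ℕ) : Function.Bijective (chainMap (F := F) k) := by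
  constructor
  · refine (injective_iff_map_eq_zero _).2 fun v hv => ?_
    rw [chainMap_apply, Submodule.Quotient.mk_eq_zero, Submodule.mem_span_singleton] at hv
    obtain ⟨a, ha⟩ := hv
    have hd : ∀ j, k ≤ j → (∑ l : Fin k, C (v l) * X ^ (k - 1 - (l : ℕ))).coeff j = 0 := by
      intro j hj
      rw [finsetSum_coeff]
      refine Finset.sum_eq_zero fun l _ => ?_
      rw [coeff_C_mul_X_pow, if_neg]
      omega
    have h0 : a = 0 := by
      ext j
      rw [coeff_zero, ← hd (j + k) (by omega), ← ha, smul_eq_mul, coeff_mul_X_pow]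
    rw [h0, zero_smul] at ha
    funext l
    have h1 := congrArg (fun p : F[X] => p.coeff (k - 1 - (l : ℕ))) ha
    simp only [coeff_zero, finsetSum_coeff, coeff_C_mul_X_pow] at h1
    rw [Finset.sum_eq_single l (fun b _ hb => if_neg (fun h => hb (Fin.ext (by have := b.2; have := l.2; omega))))
      (fun h => absurd (Finset.mem_univ l) h), if_pos rfl] at h1
    exact h1.symm
  · intro x
    obtain ⟨p, rfl⟩ := Submodule.Quotient.mk_surjective _ x
    refine ⟨fun l => p.coeff (k - 1 - (l : ℕ)), ?_⟩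
    rw [chainMap_apply, Submodule.Quotient.eq, Submodule.mem_span_singleton]
    have hdvd : X ^ k ∣ (∑ l : Fin k, C (p.coeff (k - 1 - (l : ℕ))) * X ^ (k - 1 - (l : ℕ))) - p := by
      rw [X_pow_dvd_iff]
      intro d hd
      rw [coeff_sub, finsetSum_coeff]
      simp only [coeff_C_mul_X_pow]
      rw [Finset.sum_eq_single (⟨k - 1 - d, by omega⟩ : Fin k)
        (fun b _ hb => if_neg (fun h => hb (Fin.ext (by have := b.2; show (b : ℕ) = k - 1 - d; omega))))
        (fun h => absurd (Finset.mem_univ _) h), if_pos (show d = k - 1 - (k - 1 - d) by omega),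
        show k - 1 - (k - 1 - d) = d by omega, sub_self]
    obtain ⟨c, hc⟩ := hdvd
    exact ⟨c, by rw [hc, smul_eq_mul, mul_comm]⟩

theorem chainMap_shift (k : ℕ) (v : Fin k → F) :
    chainMap k (fun l => if h : (l : ℕ) + 1 < k then v ⟨l + 1, h⟩ else 0) = (X : F[X]) • chainMap k v := by
  rw [chainMap_apply, chainMap_apply, ← Submodule.Quotient.mk_smul, Submodule.Quotient.eq, Submodule.mem_span_singleton]
  rcases k with _ | k
  · exact ⟨0, by simp⟩
  refine ⟨-C (v 0), ?_⟩
  rw [Fin.sum_univ_castSucc, Fin.sum_univ_succ (f := fun l : Fin (k + 1) => C (v l) * X ^ (k + 1 - 1 - (l : ℕ)))]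
  simp only [Fin.val_last, lt_irrefl, dite_false, Fin.val_castSucc, Fin.val_zero, Fin.val_succ, map_zero, zero_mul,
    add_zero, smul_eq_mul, mul_add, Finset.mul_sum]
  have : ∀ l : Fin k, C (if h : (l : ℕ) + 1 < k + 1 then v ⟨l + 1, h⟩ else 0) * X ^ (k + 1 - 1 - (l : ℕ)) =
      X * (C (v l.succ) * X ^ (k + 1 - 1 - ((l : ℕ) + 1))) := by
    intro l
    rw [dif_pos (by omega), show k + 1 - 1 - (l : ℕ) = k + 1 - 1 - ((l : ℕ) + 1) + 1 by omega, pow_succ]
    rw [show (⟨(l : ℕ) + 1, by omega⟩ : Fin (k + 1)) = l.succ from rfl]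
    ring
  rw [Finset.sum_congr rfl fun l _ => this l]
  simp only [Nat.add_sub_cancel, Nat.sub_zero]
  ring

/-- Every nilpotent map is equivalent to a shift map. -/
theorem exists_model (N : V →ₗ[F] V) {P : ℕ} (hN : N ^ P = 0) :
    ∃ (s : ℕ) (k : Fin s → ℕ) (e : V ≃ₗ[F] ((Σ i, Fin (k i)) → F)),
      (∀ i, k i ≤ P) ∧ ∀ v, e (N v) = shiftMap k (e v) := by
  classical
  let M := Module.AEval' N
  haveI : Module.Finite F[X] M := inferInstance
  have htors : Module.IsTorsion' M (Submonoid.powers (X : F[X])) := fun m => by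
    refine ⟨⟨X ^ P, ⟨P, rfl⟩⟩, ?_⟩
    obtain ⟨v, rfl⟩ := (Module.AEval'.of N).surjective m
    show (X ^ P : F[X]) • Module.AEval'.of N v = 0
    rw [Module.AEval'.X_pow_smul_of, hN]
    simp
  obtain ⟨s, k, ⟨e⟩⟩ := Module.torsion_by_prime_power_decomposition (prime_X (R := F)).irreducible htors
  let Q : Fin s → Type _ := fun i => F[X] ⧸ F[X] ∙ (X : F[X]) ^ k i
  let e1 : M ≃ₗ[F[X]] ((i : Fin s) → Q i) := e.trans (DirectSum.linearEquivFunOnFintype _ _ _)
  let φ : ∀ i, (Fin (k i) → F) ≃ₗ[F] Q i := fun i => LinearEquiv.ofBijective (chainMap (k i)) (chainMap_bijective (k i))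
  let E : V ≃ₗ[F] ((Σ i, Fin (k i)) → F) :=
    ((Module.AEval'.of N).trans ((e1.restrictScalars F).trans (LinearEquiv.piCongrRight fun i => (φ i).symm))).trans
      (LinearEquiv.piCurry F fun _ _ => F).symm
  have hE : ∀ v i, φ i (fun l => E v ⟨i, l⟩) = e1 (Module.AEval'.of N v) i := fun v i => by
    show φ i ((φ i).symm (e1 (Module.AEval'.of N v) i)) = _
    rw [LinearEquiv.apply_symm_apply]
  have hshift : ∀ v, E (N v) = shiftMap k (E v) := fun v => by
    funext x
    obtain ⟨i, l⟩ := x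
    have h1 : φ i (fun l => E (N v) ⟨i, l⟩) = φ i (fun l => shiftMap k (E v) ⟨i, l⟩) := by
      rw [hE, show N v = N • v from rfl, ← Module.AEval.X_smul_of, map_smul, Pi.smul_apply]
      exact (congrArg ((X : F[X]) • ·) (hE v i).symm).trans (chainMap_shift (k i) (fun l => E v ⟨i, l⟩)).symm
    exact congrFun ((φ i).injective h1) l
  refine ⟨s, k, E, fun i => ?_, hshift⟩
  by_contra hlt
  have hpow : ∀ (j : ℕ) v, E ((N ^ j) v) = (shiftMap k ^ j) (E v) := fun j => by
    induction j with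
    | zero => exact fun _ => rfl
    | succ j ih => intro v; rw [pow_succ', pow_succ', Module.End.mul_apply, Module.End.mul_apply, hshift, ih]
  have h1 := congrFun (hpow P (E.symm fun _ => 1)) ⟨i, ⟨0, by omega⟩⟩
  rw [hN, LinearMap.zero_apply, map_zero, E.apply_symm_apply, shiftMap_pow_apply,
    dif_pos (show ((⟨0, by omega⟩ : Fin (k i)) : ℕ) + P < k i by simpa using hlt)] at h1
  exact zero_ne_one h1

theorem finrank_ker_of_model (N : V →ₗ[F] V) {s : ℕ} {k : Fin s → ℕ} (e : V ≃ₗ[F] ((Σ i, Fin (k i)) → F))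
    (he : ∀ v, e (N v) = shiftMap k (e v)) (j : ℕ) :
    finrank F (LinearMap.ker (N ^ j)) = kerDim ((Finset.univ : Finset (Fin s)).val.map k) j := by
  have hpow : ∀ v, e ((N ^ j) v) = (shiftMap k ^ j) (e v) := by
    induction j with
    | zero => exact fun _ => rfl
    | succ j ih => intro v; rw [pow_succ', pow_succ', Module.End.mul_apply, Module.End.mul_apply, he, ih]
  rw [← finrank_ker_shiftMap (F := F) k j]
  have : (LinearMap.ker (N ^ j)).map e.toLinearMap = LinearMap.ker (shiftMap (F := F) k ^ j) := by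
    ext w
    rw [Submodule.mem_map_equiv, LinearMap.mem_ker, LinearMap.mem_ker, ← e.apply_symm_apply w, ← hpow]
    simp
  rw [← this, LinearEquiv.finrank_map_eq]

theorem exists_type (N : V →ₗ[F] V) {P : ℕ} (hN : N ^ P = 0) :
    ∃ μ, HasType N μ ∧ (∀ a ∈ μ, a ≤ P) ∧ μ.sum = finrank F V := by
  obtain ⟨s, k, e, hk, he⟩ := exists_model N hN
  refine ⟨((Finset.univ : Finset (Fin s)).val.map k).filter (0 < ·), ⟨fun a ha => (Multiset.mem_filter.1 ha).2,
    fun j => by rw [kerDim_filter_pos, finrank_ker_of_model N e he j]⟩, fun a ha => ?_, ?_⟩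
  · obtain ⟨i, -, rfl⟩ := Multiset.mem_map.1 (Multiset.mem_filter.1 ha).1
    exact hk i
  · have h := finrank_ker_of_model N e he P
    rw [hN, LinearMap.ker_zero, finrank_top, ← kerDim_filter_pos] at h
    rw [h, kerDim_of_le]
    intro a ha
    obtain ⟨i, -, rfl⟩ := Multiset.mem_map.1 (Multiset.mem_filter.1 ha).1
    exact hk i

theorem type_add {N : V →ₗ[F] V} {U W : Submodule F V} (hUW : IsCompl U W) (hU : ∀ v ∈ U, N v ∈ U)
    (hW : ∀ v ∈ W, N v ∈ W) {μ ν : Multiset ℕ} (hμ : HasType (N.restrict hU) μ) (hν : HasType (N.restrict hW) ν) :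
    HasType N (μ + ν) := by
  refine ⟨fun a ha => (Multiset.mem_add.1 ha).elim (hμ.1 a) (hν.1 a), fun j => ?_⟩
  have key : ∀ {S : Submodule F V} (hS : ∀ v ∈ S, N v ∈ S),
      finrank F (LinearMap.ker ((N.restrict hS) ^ j)) = finrank F ↥(LinearMap.ker (N ^ j) ⊓ S) := by
    intro S hS
    rw [← Submodule.finrank_map_subtype_eq]
    refine congrArg (fun S : Submodule F V => finrank F S) ?_
    ext v
    have hr : ∀ (i : ℕ) (w : S), (((N.restrict hS) ^ i) w : V) = (N ^ i) (w : V) := fun i => by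
      induction i with
      | zero => exact fun _ => rfl
      | succ i ih => intro w; rw [pow_succ', pow_succ', Module.End.mul_apply, Module.End.mul_apply, ← ih]; rfl
    constructor
    · rintro ⟨w, hw, rfl⟩
      exact ⟨LinearMap.mem_ker.2 (by rw [Submodule.coe_subtype, ← hr, LinearMap.mem_ker.1 hw]; rfl), w.2⟩
    · rintro ⟨hv, hvS⟩
      exact ⟨⟨v, hvS⟩, LinearMap.mem_ker.2 (Subtype.ext ((hr j ⟨v, hvS⟩).trans (LinearMap.mem_ker.1 hv))), rfl⟩
  rw [kerDim_add, ← hμ.2 j, ← hν.2 j, key hU, key hW]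
  set K := LinearMap.ker (N ^ j)
  have hinv' : ∀ (i : ℕ) {S : Submodule F V}, (∀ v ∈ S, N v ∈ S) → ∀ v ∈ S, (N ^ i) v ∈ S := by
    intro i S hS
    induction i with
    | zero => exact fun v hv => hv
    | succ i ih => intro v hv; rw [pow_succ', Module.End.mul_apply]; exact hS _ (ih v hv)
  have hinv : ∀ {S : Submodule F V}, (∀ v ∈ S, N v ∈ S) → ∀ v ∈ S, (N ^ j) v ∈ S := fun hS => hinv' j hS
  have h1 : (K ⊓ U) ⊔ (K ⊓ W) = K := by
    refine le_antisymm (sup_le inf_le_left inf_le_left) fun v hv => ?_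
    obtain ⟨u, hu, w, hw, rfl⟩ := Submodule.mem_sup.1 (hUW.sup_eq_top.ge (Submodule.mem_top (x := v)))
    have hv' : (N ^ j) u + (N ^ j) w = 0 := by rw [← map_add]; exact hv
    have hu0 : (N ^ j) u = 0 := by
      have hmem : (N ^ j) u ∈ U ⊓ W :=
        ⟨hinv hU u hu, by rw [eq_neg_of_add_eq_zero_left hv']; exact W.neg_mem (hinv hW w hw)⟩
      rwa [hUW.inf_eq_bot, Submodule.mem_bot] at hmem
    rw [hu0, zero_add] at hv'
    exact Submodule.add_mem_sup ⟨hu0, hu⟩ ⟨hv', hw⟩
  have h2 := Submodule.finrank_sup_add_finrank_inf_eq (K ⊓ U) (K ⊓ W)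
  have h3 : (K ⊓ U) ⊓ (K ⊓ W) = ⊥ := le_bot_iff.1 ((inf_le_inf inf_le_right inf_le_right).trans hUW.inf_eq_bot.le)
  rw [h1, h3, finrank_bot] at h2
  omega

omit [FiniteDimensional F V] in
theorem exists_subset_map {α : Type*} [DecidableEq α] (k : α → ℕ) (S : Finset α) :
    ∀ ν : Multiset ℕ, ν ≤ S.val.map k → ∃ T, T ⊆ S ∧ T.val.map k = ν := by
  induction S using Finset.induction with
  | empty => intro ν hν; exact ⟨∅, subset_rfl, (Multiset.le_zero.1 hν).symm⟩
  | insert a S ha ih =>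
    intro ν hν
    rw [Finset.insert_val_of_notMem ha, Multiset.map_cons] at hν
    by_cases hk : k a ∈ ν
    · obtain ⟨T, hT, hTν⟩ := ih (ν.erase (k a)) (Multiset.erase_le_iff_le_cons.2 hν)
      refine ⟨insert a T, Finset.insert_subset_insert a hT, ?_⟩
      rw [Finset.insert_val_of_notMem (fun h => ha (hT h)), Multiset.map_cons, hTν, Multiset.cons_erase hk]
    · obtain ⟨T, hT, hTν⟩ := ih ν ((Multiset.le_cons_of_notMem hk).1 hν)
      exact ⟨T, hT.trans (Finset.subset_insert a S), hTν⟩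

/-- A sub-multiset of the type gives a complemented invariant subspace. -/
theorem exists_compl_of_le {N : V →ₗ[F] V} {P : ℕ} (hN : N ^ P = 0) {μ ν : Multiset ℕ} (hμ : HasType N μ)
    (hνμ : ν ≤ μ) :
    ∃ U W : Submodule F V, IsCompl U W ∧ (∀ v ∈ U, N v ∈ U) ∧ (∀ v ∈ W, N v ∈ W) ∧ finrank F U = ν.sum := by
  classical
  obtain ⟨s, k, e, -, he⟩ := exists_model N hN
  have hμ' : HasType N (((Finset.univ : Finset (Fin s)).val.map k).filter (0 < ·)) :=
    ⟨fun a ha => (Multiset.mem_filter.1 ha).2, fun j => by rw [kerDim_filter_pos, finrank_ker_of_model N e he j]⟩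
  obtain ⟨T, -, hT⟩ := exists_subset_map k Finset.univ ν ((hμ.unique hμ' ▸ hνμ).trans (Multiset.filter_le _ _))
  let R : ((Σ i, Fin (k i)) → F) →ₗ[F] ({x : Σ i, Fin (k i) // x.1 ∈ T} → F) := LinearMap.funLeft F F Subtype.val
  let R' : ((Σ i, Fin (k i)) → F) →ₗ[F] ({x : Σ i, Fin (k i) // x.1 ∉ T} → F) := LinearMap.funLeft F F Subtype.val
  refine ⟨(LinearMap.ker R').comap e.toLinearMap, (LinearMap.ker R).comap e.toLinearMap, ?_, ?_, ?_, ?_⟩
  · constructor
    · rw [disjoint_iff, eq_bot_iff]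
      rintro v ⟨h1, h2⟩
      rw [Submodule.mem_bot, ← e.map_eq_zero_iff]
      funext x
      by_cases hx : x.1 ∈ T
      · exact congrFun (LinearMap.mem_ker.1 h2) ⟨x, hx⟩
      · exact congrFun (LinearMap.mem_ker.1 h1) ⟨x, hx⟩
    · rw [codisjoint_iff, eq_top_iff]
      intro v _
      let a : (Σ i, Fin (k i)) → F := fun x => if x.1 ∈ T then e v x else 0
      let b : (Σ i, Fin (k i)) → F := fun x => if x.1 ∈ T then 0 else e v x
      have hab : v = e.symm a + e.symm b := e.injective (by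
        rw [map_add, e.apply_symm_apply, e.apply_symm_apply]
        funext x
        simp only [a, b, Pi.add_apply]
        split_ifs <;> simp)
      rw [hab]
      refine Submodule.add_mem_sup ?_ ?_ <;> show _ = 0 <;> rw [LinearEquiv.coe_coe, e.apply_symm_apply] <;> funext x
      · exact if_neg x.2
      · exact if_pos x.2
  · intro v hv
    show R' (e (N v)) = 0
    rw [he]
    funext x
    show (if h : (x.1.2 : ℕ) + 1 < k x.1.1 then e v ⟨x.1.1, ⟨x.1.2 + 1, h⟩⟩ else 0) = 0
    split_ifs with h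
    · exact congrFun (LinearMap.mem_ker.1 hv) ⟨⟨x.1.1, ⟨x.1.2 + 1, h⟩⟩, x.2⟩
    · rfl
  · intro v hv
    show R (e (N v)) = 0
    rw [he]
    funext x
    show (if h : (x.1.2 : ℕ) + 1 < k x.1.1 then e v ⟨x.1.1, ⟨x.1.2 + 1, h⟩⟩ else 0) = 0
    split_ifs with h
    · exact congrFun (LinearMap.mem_ker.1 hv) ⟨⟨x.1.1, ⟨x.1.2 + 1, h⟩⟩, x.2⟩
    · rfl
  · have hc : ((LinearMap.ker R').comap e.toLinearMap).map e.toLinearMap = LinearMap.ker R' :=
      Submodule.map_comap_eq_of_surjective e.surjective _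
    have h0 : finrank F ((LinearMap.ker R').comap e.toLinearMap) = finrank F (LinearMap.ker R') := by
      rw [← LinearEquiv.finrank_map_eq e, hc]
    have h1 := LinearMap.finrank_range_add_finrank_ker R'
    rw [LinearMap.range_eq_top.2 (LinearMap.funLeft_surjective_of_injective F F _ Subtype.val_injective), finrank_top,
      finrank_pi, finrank_pi, Fintype.card_subtype_compl] at h1
    have h2 : Fintype.card {x : Σ i, Fin (k i) // x.1 ∈ T} = ν.sum := by
      rw [← hT, Fintype.card_subtype, show (Finset.univ.filter fun x : Σ i, Fin (k i) => x.1 ∈ T) =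
        T.sigma (fun _ => Finset.univ) by ext x; simp, Finset.card_sigma]
      simp only [Finset.card_univ, Fintype.card_fin]
      rfl
    have h3 := Fintype.card_subtype_le fun x : Σ i, Fin (k i) => x.1 ∈ T
    omega

/-- Existence of a nilpotent map of given type. -/
theorem exists_map_of_type (μ : Multiset ℕ) (hμ : ∀ a ∈ μ, 0 < a) {n P : ℕ} (hn : μ.sum = n) (hP : ∀ a ∈ μ, a ≤ P) :
    ∃ N : (Fin n → F) →ₗ[F] (Fin n → F), N ^ P = 0 ∧ HasType N μ := by
  classical
  obtain ⟨l, rfl⟩ : ∃ l : List ℕ, (l : Multiset ℕ) = μ := ⟨μ.toList, μ.coe_toList⟩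
  let k : Fin l.length → ℕ := fun i => l.get i
  have hk : (Finset.univ : Finset (Fin l.length)).val.map k = (l : Multiset ℕ) := by
    rw [Fin.univ_val_map, List.ofFn_get]
  have hdim : finrank F ((Σ i, Fin (k i)) → F) = finrank F (Fin n → F) := by
    rw [finrank_pi, finrank_pi, Fintype.card_sigma, Fintype.card_fin, ← hn, ← hk]
    simp only [Fintype.card_fin]
    rfl
  let e := LinearEquiv.ofFinrankEq _ _ hdim
  let N := e.toLinearMap ∘ₗ shiftMap (F := F) k ∘ₗ e.symm.toLinearMap
  have he : ∀ v, e.symm (N v) = shiftMap k (e.symm v) := fun v => by simp [N]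
  refine ⟨N, ?_, hμ, fun j => by rw [finrank_ker_of_model N e.symm he j, hk]⟩
  refine LinearMap.ext fun v => ?_
  have h := finrank_ker_of_model N e.symm he P
  rw [hk, kerDim_of_le hP, hn] at h
  have htop : LinearMap.ker (N ^ P) = ⊤ := Submodule.eq_top_of_finrank_eq (by rw [h, finrank_pi, Fintype.card_fin])
  exact LinearMap.mem_ker.1 (htop ▸ Submodule.mem_top)

end CfsgLib.Geo.NilType
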