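/-
Elements of prime order of `PSL_n(q)` acting on pairs of complementary subspaces.
-/
import Cfsg.Agent.Lib.Geo.ElusiveSubspaces
import Cfsg.Agent.Lib.Geo.UnipotentType

namespace CfsgLib.Geo.PrimeAct

open Module

variable {F : Type*} [Field F] [Fintype F] {p : ℕ} [Fact p.Prime] [CharP F p] {r : ℕ} [Fact r.Prime]

omit [Fact p.Prime] [CharP F p] [Fact r.Prime] in
theorem card_complements {n m : ℕ} (U : Submodule F (Fin n → F)) (hU : finrank F U = m) :
    Nat.card {W : Submodule F (Fin n → F) // IsCompl U W} = Nat.card F ^ (m * (n - m)) := by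
  classical
  obtain ⟨W0, hW0⟩ := Submodule.exists_isCompl U
  let f0 := U.projectionOnto W0 hW0
  let π := W0.projectionOnto U hW0.symm
  have hdec : ∀ x, (f0 x : Fin n → F) + π x = x := fun x => Submodule.projection_add_projection_eq_self hW0 x
  rw [Nat.card_congr U.isComplEquivProj]
  let e : {f : (Fin n → F) →ₗ[F] U // ∀ x : U, f x = x} ≃ (W0 →ₗ[F] U) :=
    { toFun := fun f => f.1 ∘ₗ W0.subtype
      invFun := fun g => ⟨f0 + g ∘ₗ π, fun x => by
        rw [LinearMap.add_apply, LinearMap.comp_apply, Submodule.projectionOnto_apply_left hW0,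
          Submodule.projectionOnto_apply_right hW0.symm, map_zero, add_zero]⟩
      left_inv := fun f => Subtype.ext (LinearMap.ext fun x => by
        conv_rhs => rw [← hdec x, map_add, f.2 (f0 x)]
        rfl)
      right_inv := fun g => LinearMap.ext fun w => by
        show f0 (w : Fin n → F) + g (π (w : Fin n → F)) = g w
        rw [Submodule.projectionOnto_apply_right hW0, Submodule.projectionOnto_apply_left hW0.symm, zero_add] }
  have h := Submodule.finrank_add_eq_of_isCompl hW0
  rw [hU, finrank_pi, Fintype.card_fin] at h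
  rw [Nat.card_congr e, Module.natCard_eq_pow_finrank (K := F), finrank_linearMap, hU,
    show finrank F W0 = n - m by omega, mul_comm]

theorem dvd_count_of_dvd_pairs (hrp : r ≠ p) (n m : ℕ)
    (h : r ∣ Nat.card {P : Submodule F (Fin n → F) × Submodule F (Fin n → F) // IsCompl P.1 P.2 ∧ finrank F ↥P.1 = m}) :
    r ∣ Nat.card {W : Submodule F (Fin n → F) // finrank F W = m} := by
  classical
  haveI : Finite (Submodule F (Fin n → F)) := Finite.of_injective (fun W => (W : Set (Fin n → F))) SetLike.coe_injective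
  haveI := Fintype.ofFinite {W : Submodule F (Fin n → F) // finrank F W = m}
  by_contra hn
  let e : {P : Submodule F (Fin n → F) × Submodule F (Fin n → F) // IsCompl P.1 P.2 ∧ finrank F ↥P.1 = m} ≃
      Σ U : {U : Submodule F (Fin n → F) // finrank F U = m}, {W : Submodule F (Fin n → F) // IsCompl U.1 W} :=
    { toFun := fun P => ⟨⟨P.1.1, P.2.2⟩, ⟨P.1.2, P.2.1⟩⟩
      invFun := fun x => ⟨(x.1.1, x.2.1), x.2.2, x.1.2⟩
      left_inv := fun P => rfl
      right_inv := fun x => rfl }
  have hc : ∀ U : {U : Submodule F (Fin n → F) // finrank F U = m},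
      Nat.card {W : Submodule F (Fin n → F) // IsCompl U.1 W} = Nat.card F ^ (m * (n - m)) :=
    fun U => card_complements U.1 U.2
  rw [Nat.card_congr e, Nat.card_sigma] at h
  simp only [hc, Finset.sum_const, Finset.card_univ, smul_eq_mul, ← Nat.card_eq_fintype_card] at h
  rcases (Fact.out : r.Prime).dvd_mul.1 h with h | h
  · exact hn h
  · obtain ⟨f, -, hf⟩ := FiniteField.card F p
    rw [Nat.card_eq_fintype_card, hf, ← pow_mul] at h
    exact hrp ((Nat.prime_dvd_prime_iff_eq Fact.out Fact.out).1 ((Fact.out : r.Prime).dvd_of_dvd_pow h))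

theorem exists_compl_invariant (hrp : r ≠ p) {V : Type*} [AddCommGroup V] [Module F V] [FiniteDimensional F V]
    (f : V →ₗ[F] V) (c : F) (hc : c ≠ 0) (hf : f ^ r = c • (1 : V →ₗ[F] V)) (U : Submodule F V)
    (hU : ∀ v ∈ U, f v ∈ U) : ∃ W, IsCompl U W ∧ ∀ v ∈ W, f v ∈ W := by
  have hs : Module.End.IsSemisimple f := by
    refine Module.End.isSemisimple_of_squarefree_aeval_eq_zero
      (p := Polynomial.X ^ r - Polynomial.C c) ?_ (by simp [hf, Algebra.algebraMap_eq_smul_one])
    exact (Polynomial.separable_X_pow_sub_C c (natCast_ne_zero_of_ringChar (p := p) Fact.out hrp) hc).squarefree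
  obtain ⟨W, hW, hUW⟩ := Module.End.isSemisimple_iff.1 hs U fun v hv => hU v hv
  exact ⟨W, hUW, fun v hv => hW hv⟩

/-- Every partition contains a partition of `m`. -/
def PartCond (p n m : ℕ) : Prop :=
  ∀ μ : Multiset ℕ, (∀ a ∈ μ, 0 < a ∧ a ≤ p) → μ.sum = n → ∃ ν : Multiset ℕ, ν ≤ μ ∧ ν.sum = m

theorem partCond_two (n m : ℕ) (hmn : m ≤ n) : PartCond 2 n m ↔ (Odd n ∨ Even m) := by
  constructor
  · intro h
    by_contra hc
    rw [not_or, Nat.not_odd_iff_even, Nat.not_even_iff_odd] at hc
    obtain ⟨⟨k, hk⟩, hm⟩ := hc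
    obtain ⟨ν, hν, hνs⟩ := h (Multiset.replicate k 2)
      (fun a ha => by rw [Multiset.eq_of_mem_replicate ha]; omega) (by simp; omega)
    obtain ⟨j, -, rfl⟩ := Multiset.le_replicate_iff.1 hν
    rw [Multiset.sum_replicate, smul_eq_mul] at hνs
    rw [← hνs] at hm
    exact Nat.not_odd_iff_even.2 ((even_two).mul_left j) hm
  · intro hc μ hμ hs
    have hμeq : μ = Multiset.replicate (μ.count 1) 1 + Multiset.replicate (μ.count 2) 2 := by
      refine Multiset.ext.2 fun a => ?_
      rw [Multiset.count_add, Multiset.count_replicate, Multiset.count_replicate]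
      by_cases ha : a ∈ μ
      · obtain ⟨h1, h2⟩ := hμ a ha
        interval_cases a <;> simp
      · rw [Multiset.count_eq_zero_of_notMem ha]
        split_ifs with h1 h2 h2 <;> first | omega | (subst h1; simp [ha]) | (subst h2; simp [ha])
    rw [hμeq] at hs ⊢
    set a := μ.count 1
    set b := μ.count 2
    simp only [Multiset.sum_add, Multiset.sum_replicate, smul_eq_mul, mul_one] at hs
    refine ⟨Multiset.replicate (m - 2 * min b (m / 2)) 1 + Multiset.replicate (min b (m / 2)) 2,
      add_le_add (Multiset.replicate_le_replicate 1 |>.2 ?_) (Multiset.replicate_le_replicate 2 |>.2 (min_le_left _ _)), ?_⟩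
    · rcases hc with ⟨k, hk⟩ | ⟨k, hk⟩ <;> omega
    · simp only [Multiset.sum_add, Multiset.sum_replicate, smul_eq_mul, mul_one]
      omega

theorem add_one_pow_char {V : Type*} [AddCommGroup V] [Module F V] (N : V →ₗ[F] V) (hN : N ^ p = 0) [Nontrivial V] :
    (1 + N) ^ p = 1 := by
  haveI : CharP (Module.End F V) p := charP_of_injective_algebraMap (algebraMap F (Module.End F V)).injective p
  rw [add_pow_char_of_commute (p := p) (Commute.one_left N), one_pow, hN, add_zero]

theorem part_cond_iff (n m : ℕ) (hm : 1 ≤ m) (hmn : m ≤ n) :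
    (∀ f : (Fin n → F) →ₗ[F] (Fin n → F), (∃ c : F, f ^ p = c • (1 : (Fin n → F) →ₗ[F] (Fin n → F))) →
      LinearMap.det f = 1 → (∀ z : F, f ≠ z • (1 : (Fin n → F) →ₗ[F] (Fin n → F))) →
      ∃ U W : Submodule F (Fin n → F), IsCompl U W ∧ finrank F U = m ∧ (∀ v ∈ U, f v ∈ U) ∧ (∀ v ∈ W, f v ∈ W)) ↔
    PartCond p n m := by
  classical
  have hp : p.Prime := Fact.out
  haveI : Nonempty (Fin n) := ⟨⟨0, by omega⟩⟩
  haveI : CharP (Module.End F (Fin n → F)) p :=
    charP_of_injective_algebraMap (algebraMap F (Module.End F (Fin n → F))).injective p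
  constructor
  · intro hall μ hμ hs
    by_cases hones : ∀ a ∈ μ, a = 1
    · have hμ1 : μ = Multiset.replicate (Multiset.card μ) 1 := Multiset.eq_replicate_card.2 hones
      rw [hμ1, Multiset.sum_replicate, smul_eq_mul, mul_one] at hs
      exact ⟨Multiset.replicate m 1, by rw [hμ1]; exact Multiset.replicate_le_replicate 1 |>.2 (by omega), by simp⟩
    · obtain ⟨N, hN, hT⟩ := NilType.exists_map_of_type (F := F) μ (fun a ha => (hμ a ha).1) hs (fun a ha => (hμ a ha).2)
      have hN0 : N ≠ 0 := by
        rintro rfl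
        apply hones
        intro a ha
        have h1 := hT.2 1
        have h2 := hT.2 2
        rw [zero_pow one_ne_zero, LinearMap.ker_zero] at h1
        rw [zero_pow two_ne_zero, LinearMap.ker_zero, h1] at h2
        have h3 : μ.countP (fun a => 1 < a) = 0 := by
          have h4 : NilType.kerDim μ 2 = NilType.kerDim μ 1 + μ.countP (fun a => 1 < a) := NilType.kerDim_succ μ 1
          omega
        have := Multiset.countP_eq_zero.1 h3 a ha
        have := (hμ a ha).1
        omega
      have hf : (1 + N) ^ p = 1 := add_one_pow_char N hN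
      obtain ⟨U, W, hUW, hUd, hU, hW⟩ := hall (1 + N) ⟨1, by rw [hf, one_smul]⟩ (by
        have h := congrArg LinearMap.det hf
        rw [map_pow, map_one] at h
        have h' : (LinearMap.det (1 + N) - 1) ^ p = 0 := by rw [sub_pow_char, h, one_pow, sub_self]
        exact sub_eq_zero.1 (pow_eq_zero_iff hp.ne_zero |>.1 h')) (fun z hz => by
        have h := congrArg (· ^ p) hz
        simp only [hf, smul_pow, one_pow] at h
        have hz1 : z = 1 := by
          have h' : (z - 1) ^ p = 0 := by
            rw [sub_pow_char, one_pow, sub_eq_zero]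
            exact (smul_left_injective F (one_ne_zero (α := Module.End F (Fin n → F))) ((one_smul F _).trans h)).symm
          exact sub_eq_zero.1 (pow_eq_zero_iff hp.ne_zero |>.1 h')
        rw [hz1, one_smul, add_eq_left] at hz
        exact hN0 hz)
      have hNU : ∀ v ∈ U, N v ∈ U := fun v hv => by
        have := U.sub_mem (hU v hv) hv
        rwa [LinearMap.add_apply, Module.End.one_apply, add_sub_cancel_left] at this
      have hNW : ∀ v ∈ W, N v ∈ W := fun v hv => by
        have := W.sub_mem (hW v hv) hv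
        rwa [LinearMap.add_apply, Module.End.one_apply, add_sub_cancel_left] at this
      have hres : ∀ {S : Submodule F (Fin n → F)} (hS : ∀ v ∈ S, N v ∈ S), (N.restrict hS) ^ p = 0 := fun hS =>
        LinearMap.ext fun w => Subtype.ext (by rw [restrict_pow_apply, hN]; rfl)
      obtain ⟨α, hα, -, hαs⟩ := NilType.exists_type _ (hres hNU)
      obtain ⟨β, hβ, -, -⟩ := NilType.exists_type _ (hres hNW)
      have heq := hT.unique (NilType.type_add hUW hNU hNW hα hβ)
      exact ⟨α, heq ▸ Multiset.le_add_right α β, hαs.trans hUd⟩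
  · intro hc f ⟨c, hf⟩ hdet _
    have hc0 : c ≠ 0 := by
      rintro rfl
      have h := congrArg LinearMap.det hf
      rw [map_pow, hdet, one_pow, zero_smul, LinearMap.det_zero, finrank_pi, Fintype.card_fin, zero_pow (by omega)] at h
      exact one_ne_zero h
    obtain ⟨d, hd⟩ := (Finite.injective_iff_surjective.1 (frobenius F p).injective) c
    rw [frobenius_def] at hd
    have hd0 : d ≠ 0 := fun h => hc0 (by rw [← hd, h, zero_pow hp.ne_zero])
    let N := d⁻¹ • f - 1
    have hN : N ^ p = 0 := by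
      rw [sub_pow_char_of_commute (p := p) (Commute.one_right _), smul_pow, hf, smul_smul, ← hd, ← mul_pow,
        inv_mul_cancel₀ hd0, one_pow, one_pow, one_smul, sub_self]
    obtain ⟨μ, hT, hle, hsum⟩ := NilType.exists_type N hN
    rw [finrank_pi, Fintype.card_fin] at hsum
    obtain ⟨ν, hν, hνs⟩ := hc μ (fun a ha => ⟨hT.1 a ha, hle a ha⟩) hsum
    obtain ⟨U, W, hUW, hU, hW, hUd⟩ := NilType.exists_compl_of_le hN hT hν
    have key : ∀ S : Submodule F (Fin n → F), (∀ v ∈ S, N v ∈ S) → ∀ v ∈ S, f v ∈ S := fun S hS v hv => by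
      have h : f v = d • (N v + v) := by
        rw [LinearMap.sub_apply, Module.End.one_apply, sub_add_cancel, LinearMap.smul_apply, smul_inv_smul₀ hd0]
      rw [h]
      exact S.smul_mem _ (S.add_mem (hS v hv) hv)
    exact ⟨U, W, hUW, hUd.trans hνs, key U hU, key W hW⟩

theorem elusive_pairs (n m : ℕ) (hm : 1 ≤ m) (hmn : 2 * m < n)
    (hrΩ : r ∣ Nat.card {P : Submodule F (Fin n → F) × Submodule F (Fin n → F) // IsCompl P.1 P.2 ∧ Module.finrank F ↥P.1 = m}) :
    (∀ x : Matrix.SpecialLinearGroup (Fin n) F,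
      (∃ c : F, ((x ^ r : Matrix.SpecialLinearGroup (Fin n) F) : Matrix (Fin n) (Fin n) F) = c • (1 : Matrix (Fin n) (Fin n) F)) →
      (∀ c : F, (x : Matrix (Fin n) (Fin n) F) ≠ c • (1 : Matrix (Fin n) (Fin n) F)) →
      ∃ U W : Submodule F (Fin n → F), IsCompl U W ∧ Module.finrank F ↥U = m ∧
        U.map (Matrix.toLin' (x : Matrix (Fin n) (Fin n) F)) ≤ U ∧ W.map (Matrix.toLin' (x : Matrix (Fin n) (Fin n) F)) ≤ W) ↔
    ((r = p ∧ 2 < p ∧ PartCond p n m) ∨ (r = p ∧ p = 2 ∧ (Odd n ∨ Even m)) ∨ (r ≠ p ∧ Crit r (Fintype.card F) n m)) := by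
  classical
  let e : Matrix (Fin n) (Fin n) F ≃ₐ[F] ((Fin n → F) →ₗ[F] (Fin n → F)) := Matrix.toLinAlgEquiv'
  by_cases hrp : r = p
  · subst hrp
    have hrhs : ((r = r ∧ 2 < r ∧ PartCond r n m) ∨ (r = r ∧ r = 2 ∧ (Odd n ∨ Even m)) ∨
        (r ≠ r ∧ Crit r (Fintype.card F) n m)) ↔ PartCond r n m := by
      rcases eq_or_ne r 2 with h2 | h2
      · subst h2
        simp [partCond_two n m (by omega)]
      · have : 2 < r := by have := (Fact.out : r.Prime).two_le; omega
        simp [h2, this]
    rw [hrhs, ← part_cond_iff (F := F) (p := r) n m hm (by omega)]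
    constructor
    · intro hall f ⟨c, hf⟩ hdet hns
      have hM : (e.symm f).det = 1 := by
        have h := LinearMap.det_toLin' (e.symm f)
        rw [show Matrix.toLin' (e.symm f) = f from e.apply_symm_apply f, hdet] at h
        exact h.symm
      obtain ⟨U, W, hUW, hUd, hU, hW⟩ := hall ⟨e.symm f, hM⟩
        ⟨c, by
          show (e.symm f) ^ r = _
          rw [← map_pow, hf, map_smul, map_one]⟩
        (fun z hz => hns z (by
          have := congrArg e (show e.symm f = z • (1 : Matrix (Fin n) (Fin n) F) from hz)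
          rwa [e.apply_symm_apply, map_smul, map_one] at this))
      rw [show Matrix.toLin' (e.symm f) = f from e.apply_symm_apply f] at hU hW
      exact ⟨U, W, hUW, hUd, Submodule.map_le_iff_le_comap.1 hU, Submodule.map_le_iff_le_comap.1 hW⟩
    · intro hall x ⟨c, hc⟩ hns
      obtain ⟨U, W, hUW, hUd, hU, hW⟩ := hall (e (x : Matrix (Fin n) (Fin n) F))
        ⟨c, by rw [← map_pow, ← Matrix.SpecialLinearGroup.coe_pow, hc, map_smul, map_one]⟩
        ((LinearMap.det_toLin' _).trans x.2)
        (fun z hz => hns z (e.injective (by rw [hz, map_smul, map_one])))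
      exact ⟨U, W, hUW, hUd, Submodule.map_le_iff_le_comap.2 hU, Submodule.map_le_iff_le_comap.2 hW⟩
  · have hN := dvd_count_of_dvd_pairs (p := p) hrp n m hrΩ
    have key := elusive_subspaces (p := p) n m hm (by omega) hN
    constructor
    · intro hall
      refine Or.inr (Or.inr (key.1 fun x hx1 hx2 => ?_))
      obtain ⟨U, W, -, hUd, hU, -⟩ := hall x hx1 hx2
      exact ⟨U, hUd, hU⟩
    · rintro (⟨h, -⟩ | ⟨h, -⟩ | h)
      · exact absurd h hrp
      · exact absurd h hrp
      intro x hx1 hx2
      obtain ⟨U, hUd, hU⟩ := key.2 h x hx1 hx2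
      obtain ⟨c, hc⟩ := hx1
      have hc0 : c ≠ 0 := by
        rintro rfl
        have h := congrArg Matrix.det hc
        haveI : Nonempty (Fin n) := ⟨⟨0, by omega⟩⟩
        rw [Matrix.SpecialLinearGroup.det_coe, zero_smul, Matrix.det_zero] at h
        exact one_ne_zero h
      obtain ⟨W, hUW, hW⟩ := exists_compl_invariant (p := p) (r := r) hrp (e (x : Matrix (Fin n) (Fin n) F)) c hc0
        (by rw [← map_pow, ← Matrix.SpecialLinearGroup.coe_pow, hc, map_smul, map_one]) U (Submodule.map_le_iff_le_comap.1 hU)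
      exact ⟨U, W, hUW, hUd, hU, Submodule.map_le_iff_le_comap.2 hW⟩

end CfsgLib.Geo.PrimeAct
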