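import Cfsg.Agent.Lib.Classical.ClassTheory.UnipotentIff
import Cfsg.Agent.Lib.Classical.Quad.PlusMinusType
import Cfsg.Agent.Lib.Classical.Quad.OmegaIndex
import Cfsg.Prelude.Def_GeometricClasses

/-!
# Elements of order `p` of orthogonal groups, odd characteristic, and invariant nondegenerate subspaces
-/

set_option autoImplicit false

namespace CfsgLib.Geo.ElusiveUnipotent

open QuadraticMap (polar polarBilin)
open LinearMap (BilinForm)
open CfsgLib.Classical CfsgLib.Classical.ClassTheory CfsgLib.Known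

section Combinatorics

/-- Even parts have even multiplicity. -/
def Valid (μ : Multiset ℕ) : Prop := ∀ e : ℕ, Even e → Even (μ.count e)

/-- A valid sub-multiset of sum `m`. -/
def HasSub (μ : Multiset ℕ) (m : ℕ) : Prop := ∃ ν : Multiset ℕ, ν ≤ μ ∧ ν.sum = m ∧ Valid ν

/-- Two kinds of parts. -/
theorem two_parts {μ : Multiset ℕ} {x y : ℕ} (hxy : x ≠ y) (h : ∀ a ∈ μ, a = x ∨ a = y) :
    μ.sum = μ.count x * x + μ.count y * y := by
  have e : μ = Multiset.replicate (μ.count x) x + Multiset.replicate (μ.count y) y := by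
    ext a
    rw [Multiset.count_add, Multiset.count_replicate, Multiset.count_replicate]
    by_cases ha : a ∈ μ
    · rcases h a ha with rfl | rfl
      · rw [if_pos rfl, if_neg hxy.symm, add_zero]
      · rw [if_neg hxy, if_pos rfl, zero_add]
    · rw [Multiset.count_eq_zero.2 ha]
      split_ifs with h1 h2 h2
      · exact absurd (h1.trans h2.symm) hxy
      · rw [h1, Multiset.count_eq_zero.2 ha]
      · rw [h2, Multiset.count_eq_zero.2 ha]
      · rfl
  conv_lhs => rw [e]
  rw [Multiset.sum_add, Multiset.sum_replicate, Multiset.sum_replicate, smul_eq_mul, smul_eq_mul]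

theorem hasSub_of_all_one {μ : Multiset ℕ} {m : ℕ} (h : ∀ a ∈ μ, a = 1) (hm : m ≤ μ.sum) : HasSub μ m := by
  refine ⟨Multiset.replicate m 1, ?_, by simp, fun e he => ?_⟩
  · rw [Multiset.eq_replicate_card.2 h] at hm ⊢
    rw [Multiset.sum_replicate, smul_eq_mul, mul_one] at hm
    exact Multiset.replicate_le_replicate _ |>.2 hm
  · rw [Multiset.count_replicate, if_neg (by rintro rfl; exact Nat.not_even_one he)]
    exact Even.zero

theorem even_sum_filter (ν : Multiset ℕ) : Even ((ν.filter fun a => Even a).sum) := by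
  refine Multiset.sum_induction (fun a => Even a) _ (fun a b ha hb => ha.add hb) Even.zero fun a ha => ?_
  exact (Multiset.mem_filter.1 ha).2

theorem valid_add {ρ σ : Multiset ℕ} (h1 : Valid ρ) (h2 : Valid σ) : Valid (ρ + σ) := fun e he => by
  rw [Multiset.count_add]; exact (h1 e he).add (h2 e he)

theorem valid_pair (j : ℕ) : Valid {j, j} := fun e _ => by
  rw [show ({j, j} : Multiset ℕ) = Multiset.replicate 2 j from rfl, Multiset.count_replicate]
  split_ifs
  · exact even_two
  · exact Even.zero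

/-- A witness with an odd part. -/
theorem exists_bad_odd {p N m : ℕ} (hp : Odd p) (hm : Even m) {μ : Multiset ℕ} (hμ : ∀ e ∈ μ, 0 < e ∧ e ≤ p)
    (hv : Valid μ) (hN : μ.sum = N) (hN0 : 0 < N) (hno : ¬ HasSub μ m) :
    ∃ μ' : Multiset ℕ, (∀ e ∈ μ', 0 < e ∧ e ≤ p) ∧ Valid μ' ∧ μ'.sum = N ∧ (∃ j ∈ μ', Odd j) ∧ ¬ HasSub μ' m := by
  classical
  by_cases ho : ∃ j ∈ μ, Odd j
  · exact ⟨μ, hμ, hv, hN, ho, hno⟩
  push Not at ho
  simp only [Nat.not_odd_iff_even] at ho
  obtain ⟨j, hj⟩ := Multiset.exists_mem_of_ne_zero (s := μ) (by rintro rfl; simp at hN; omega)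
  have hje := ho j hj
  have h2j : 2 ≤ μ.count j := by
    obtain ⟨c, hc⟩ := hv j hje
    have := Multiset.one_le_count_iff_mem.2 hj
    omega
  obtain ⟨ρ, rfl⟩ := Multiset.le_iff_exists_add.1 ((Multiset.le_count_iff_replicate_le).1 h2j)
  have hρe : ∀ a ∈ ρ, Even a := fun a ha => ho a (Multiset.mem_add.2 (Or.inr ha))
  have hρv : Valid ρ := fun e he => by
    have h := hv e he
    rw [Multiset.count_add, Multiset.count_replicate, Nat.even_add] at h
    refine h.1 ?_
    split_ifs
    · exact even_two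
    · exact Even.zero
  have hjp := hμ j hj
  obtain ⟨c, rfl⟩ : ∃ c, j = 2 * (c + 1) := by
    obtain ⟨c, rfl⟩ := hje
    exact ⟨c - 1, by omega⟩
  have hjp2 : 2 * (c + 1) + 1 ≤ p := by
    obtain ⟨l, rfl⟩ := hp
    omega
  refine ⟨{2 * c + 1, 2 * c + 3} + ρ, fun e he => ?_, valid_add (fun e he => ?_) hρv, ?_,
    ⟨2 * c + 1, by simp, ⟨c, rfl⟩⟩, ?_⟩
  · rcases Multiset.mem_add.1 he with he | he
    · simp only [Multiset.insert_eq_cons, Multiset.mem_cons, Multiset.mem_singleton] at he
      omega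
    · exact hμ e (Multiset.mem_add.2 (Or.inr he))
  · rw [Multiset.count_eq_zero.2]
    · exact Even.zero
    · simp only [Multiset.insert_eq_cons, Multiset.mem_cons, Multiset.mem_singleton]
      obtain ⟨l, rfl⟩ := he
      omega
  · rw [← hN, Multiset.sum_add, Multiset.sum_add, Multiset.sum_replicate, smul_eq_mul]
    simp [Multiset.insert_eq_cons]
    ring
  · rintro ⟨ν, hν, hνs, hνv⟩
    have hsplit := Multiset.filter_add_not (fun a => Even a) ν
    set νe := ν.filter fun a => Even a with hνe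
    set νo := ν.filter fun a => ¬ Even a with hνo
    have hle_e : νe ≤ ρ := by
      refine (Multiset.filter_le_filter _ hν).trans_eq ?_
      rw [Multiset.filter_add, Multiset.filter_eq_self.2 hρe, Multiset.filter_eq_nil.2, zero_add]
      intro a ha
      simp only [Multiset.insert_eq_cons, Multiset.mem_cons, Multiset.mem_singleton] at ha
      rintro ⟨l, rfl⟩
      omega
    have hle_o : νo ≤ {2 * c + 1, 2 * c + 3} := by
      refine (Multiset.filter_le_filter _ hν).trans_eq ?_
      rw [Multiset.filter_add, (Multiset.filter_eq_nil.2 fun a ha => not_not.2 (hρe a ha) :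
          Multiset.filter (fun a => ¬ Even a) ρ = 0), add_zero, Multiset.filter_eq_self]
      intro a ha
      simp only [Multiset.insert_eq_cons, Multiset.mem_cons, Multiset.mem_singleton] at ha
      rintro ⟨l, rfl⟩
      omega
    have hsum : νe.sum + νo.sum = m := by rw [← Multiset.sum_add, hsplit, hνs]
    have hev : Even νo.sum := by
      have h := hm
      rw [← hsum, Nat.even_add] at h
      exact h.1 (even_sum_filter ν)
    have hvalid_e : Valid νe := fun e he => by
      rw [hνe, Multiset.count_filter_of_pos he]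
      exact hνv e he
    have h := Multiset.mem_map_of_mem Multiset.sum (Multiset.mem_powerset.2 hle_o)
    simp at h
    rcases h with (h | h) | (h | h)
    · exact hno ⟨νe, hle_e.trans (Multiset.le_add_left _ _), by omega, hvalid_e⟩
    · rw [Nat.even_iff] at hev
      omega
    · rw [Nat.even_iff] at hev
      omega
    · refine hno ⟨Multiset.replicate 2 (2 * (c + 1)) + νe, add_le_add le_rfl hle_e, ?_,
          valid_add (valid_pair _) hvalid_e⟩
      rw [Multiset.sum_add, Multiset.sum_replicate, smul_eq_mul]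
      omega

end Combinatorics

variable {F : Type*} [Field F] [Fintype F]

theorem hasType_unique {V : Type*} [AddCommGroup V] [Module F V] {a : V ≃ₗ[F] V} {μ ν : Multiset ℕ}
    (hμ : ∀ x ∈ μ, 0 < x) (hν : ∀ x ∈ ν, 0 < x) (h1 : HasType a μ) (h2 : HasType a ν) : μ = ν :=
  Jordan.prof_injective hμ hν fun k => by rw [← h1.2, h2.2]

theorem det_gram_prod {V W : Type*} [AddCommGroup V] [Module F V] [AddCommGroup W] [Module F W]
    (Q : QuadraticForm F V) (R : QuadraticForm F W) {ι κ : Type*} [Fintype ι] [DecidableEq ι] [Fintype κ]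
    [DecidableEq κ] (b : Module.Basis ι F V) (c : Module.Basis κ F W) :
    (LinearMap.BilinForm.toMatrix (b.prod c) (polarBilin (Q.prod R))).det =
      (LinearMap.BilinForm.toMatrix b (polarBilin Q)).det * (LinearMap.BilinForm.toMatrix c (polarBilin R)).det := by
  have h : LinearMap.BilinForm.toMatrix (b.prod c) (polarBilin (Q.prod R)) =
      Matrix.fromBlocks (LinearMap.BilinForm.toMatrix b (polarBilin Q)) 0 0
        (LinearMap.BilinForm.toMatrix c (polarBilin R)) := by
    ext (i | i) (j | j) <;> simp [LinearMap.BilinForm.toMatrix_apply, polar]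
  rw [h, Matrix.det_fromBlocks_zero₂₁]

theorem prod_nondeg {V W : Type*} [AddCommGroup V] [Module F V] [AddCommGroup W] [Module F W]
    {Q : QuadraticForm F V} {R : QuadraticForm F W} (hQ : (polarBilin Q).Nondegenerate)
    (hR : (polarBilin R).Nondegenerate) : (polarBilin (Q.prod R)).Nondegenerate := by
  refine Quad.nondegenerate_of_left fun x hx => Prod.ext (hQ.1 _ fun y => ?_) (hR.1 _ fun y => ?_)
  · simpa [polar] using hx (y, 0)
  · simpa [polar] using hx (0, y)

/-- A prescribed form carries every valid type with an odd part. -/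
theorem exists_element (h2 : (2 : F) ≠ 0) {ι : Type} [Fintype ι] [DecidableEq ι] {R : QuadraticForm F (ι → F)}
    (hR : (polarBilin R).Nondegenerate) {μ : Multiset ℕ} (hpos : ∀ a ∈ μ, 0 < a) (hv : Valid μ)
    (hsum : μ.sum = Fintype.card ι) (hodd : ∃ j ∈ μ, Odd j) :
    ∃ A : ↥(Cfsg.isometryGroup F ⇑R), HasType (unitEquiv (A : GL ι F)) μ := by
  classical
  obtain ⟨j, hj, hjo⟩ := hodd
  obtain ⟨ρ, rfl⟩ := Multiset.exists_cons_of_mem hj
  obtain ⟨l, rfl⟩ := hjo
  obtain ⟨Q₁, a₁, hQ₁, ha₁, ht₁⟩ := oModel_odd (F := F) h2 l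
  obtain ⟨Q₂, a₂, hQ₂, ha₂, ht₂⟩ := oModel_of_parity_odd (F := F) h2 ρ
    (fun a ha => hpos a (Multiset.mem_cons_of_mem ha)) (fun e he _ => by
      have h := hv e he
      rw [Multiset.count_cons, if_neg (by rintro rfl; obtain ⟨c, hc⟩ := he; omega), add_zero] at h
      exact h)
  obtain ⟨α, hα⟩ : ∃ α : F, ¬ IsSquare α := FiniteField.exists_nonsquare fun h => h2 (by
    have := ringChar.eq_iff.1 h
    exact CharTwo.two_eq_zero)
  have hα0 : α ≠ 0 := by rintro rfl; exact hα IsSquare.zero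
  let V := (Fin ({2 * l + 1} : Multiset ℕ).sum → F) × (Fin ρ.sum → F)
  let bV := (Pi.basisFun F (Fin ({2 * l + 1} : Multiset ℕ).sum)).prod (Pi.basisFun F (Fin ρ.sum))
  let a : V ≃ₗ[F] V := a₁.prodCongr a₂
  have hdim : Module.finrank F V = Fintype.card ι := by
    rw [← hsum, Module.finrank_prod, Module.finrank_fin_fun, Module.finrank_fin_fun, Multiset.sum_cons,
      Multiset.sum_singleton]
  have hR0 : (LinearMap.BilinForm.toMatrix (Pi.basisFun F ι) (polarBilin R)).det ≠ 0 :=
    (LinearMap.BilinForm.nondegenerate_iff_det_ne_zero _).1 hR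
  obtain ⟨Q, hQ, ha, hsq⟩ : ∃ Q : QuadraticForm F V, (polarBilin Q).Nondegenerate ∧ (∀ v, Q (a v) = Q v) ∧
      IsSquare ((LinearMap.BilinForm.toMatrix bV (polarBilin Q)).det *
        (LinearMap.BilinForm.toMatrix (Pi.basisFun F ι) (polarBilin R)).det) := by
    have hQα : (polarBilin (α • Q₁)).Nondegenerate := Quad.nondegenerate_of_left fun x hx => hQ₁.1 x fun y => by
      have h : α * polar Q₁ x y = 0 := by
        have := hx y
        simpa [polar, mul_sub] using this
      exact (mul_eq_zero.1 h).resolve_left hα0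
    by_cases hs : IsSquare ((LinearMap.BilinForm.toMatrix bV (polarBilin (Q₁.prod Q₂))).det *
        (LinearMap.BilinForm.toMatrix (Pi.basisFun F ι) (polarBilin R)).det)
    · exact ⟨Q₁.prod Q₂, prod_nondeg hQ₁ hQ₂, fun v => (congrArg₂ (· + ·) (ha₁ v.1) (ha₂ v.2) :), hs⟩
    refine ⟨(α • Q₁).prod Q₂, prod_nondeg hQα hQ₂, fun v => (congrArg₂ (fun x y => α * x + y) (ha₁ v.1) (ha₂ v.2) :), ?_⟩
    rw [det_gram_prod] at hs ⊢
    have hG : LinearMap.BilinForm.toMatrix (Pi.basisFun F (Fin ({2 * l + 1} : Multiset ℕ).sum)) (polarBilin (α • Q₁)) =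
        α • LinearMap.BilinForm.toMatrix (Pi.basisFun F (Fin ({2 * l + 1} : Multiset ℕ).sum)) (polarBilin Q₁) := by
      ext i j
      simp [LinearMap.BilinForm.toMatrix_apply, polar, mul_sub]
    set D₁ := (LinearMap.BilinForm.toMatrix (Pi.basisFun F (Fin ({2 * l + 1} : Multiset ℕ).sum)) (polarBilin Q₁)).det
    set D₂ := (LinearMap.BilinForm.toMatrix (Pi.basisFun F (Fin ρ.sum)) (polarBilin Q₂)).det
    set D := (LinearMap.BilinForm.toMatrix (Pi.basisFun F ι) (polarBilin R)).det
    rw [hG, Matrix.det_smul, Fintype.card_fin,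
      show α ^ ({2 * l + 1} : Multiset ℕ).sum = (α ^ 2) ^ l * α by rw [Multiset.sum_singleton, pow_succ, pow_mul]]
    obtain ⟨r, hr⟩ := (Quad.isSquare_mul_iff_not h2 (mul_ne_zero (mul_ne_zero
      ((LinearMap.BilinForm.nondegenerate_iff_det_ne_zero _).1 hQ₁)
      ((LinearMap.BilinForm.nondegenerate_iff_det_ne_zero _).1 hQ₂)) hR0) hα).2 hs
    exact ⟨α ^ l * r, by linear_combination (α ^ 2) ^ l * hr⟩
  obtain ⟨e, he⟩ := Quad.exists_isometry_of_det h2 (B := polarBilin Q) (B' := polarBilin R)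
    ⟨fun u v => QuadraticMap.polar_comm _ u v⟩ hQ ⟨fun u v => QuadraticMap.polar_comm _ u v⟩ hR bV
    (Pi.basisFun F ι) (n := Fintype.card ι - 1) (by rw [hdim]; rw [← hsum, Multiset.sum_cons]; omega)
    (by rw [Module.finrank_pi, ← hsum, Multiset.sum_cons]; omega) hsq
  have heQ : ∀ v, R (e v) = Q v := fun v => by
    have h : polar R (e v) (e v) = polar Q v v := he v v
    rw [QuadraticMap.polar_self, QuadraticMap.polar_self, two_smul, two_smul, ← two_mul, ← two_mul] at h
    exact mul_left_cancel₀ h2 h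
  let a' : (ι → F) ≃ₗ[F] (ι → F) := e.symm.trans (a.trans e)
  let g : GL ι F := ⟨LinearMap.toMatrix' (a' : _ →ₗ[F] _), LinearMap.toMatrix' (a'.symm : _ →ₗ[F] _),
    by rw [← LinearMap.toMatrix'_comp, LinearEquiv.comp_coe, a'.symm_trans_self]; exact LinearMap.toMatrix'_id,
    by rw [← LinearMap.toMatrix'_comp, LinearEquiv.comp_coe, a'.self_trans_symm]; exact LinearMap.toMatrix'_id⟩
  have hg : ∀ v, Matrix.mulVec (g : Matrix ι ι F) v = a' v := fun v => LinearMap.toMatrix'_mulVec _ _
  have hmem : g ∈ Cfsg.isometryGroup F ⇑R := fun u v => by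
    show R (Matrix.mulVec (g : Matrix ι ι F) u) = R u
    rw [hg, ← e.apply_symm_apply u]
    simp only [a', LinearEquiv.trans_apply, LinearEquiv.symm_apply_apply, heQ, ha]
  refine ⟨⟨g, hmem⟩, ?_⟩
  have hua : unitEquiv g = a' := LinearEquiv.ext hg
  show HasType (unitEquiv g) _
  rw [hua, ← Multiset.singleton_add]
  exact (ht₁.prod ht₂).conj e

/-- Types with parts at most `p`, not all `1`, give elements of order `p` of `Ω`. -/
theorem mem_omega_data {p : ℕ} [Fact p.Prime] [CharP F p] (hp2 : p ≠ 2) {ι : Type} [Fintype ι] [DecidableEq ι]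
    {R : QuadraticForm F (ι → F)} (hR : (polarBilin R).Nondegenerate) (hn : 2 ≤ Fintype.card ι)
    {μ : Multiset ℕ} (hμ : ∀ e ∈ μ, 0 < e ∧ e ≤ p) (hne : ∃ e ∈ μ, e ≠ 1)
    (A : ↥(Cfsg.isometryGroup F ⇑R)) (hA : HasType (unitEquiv (A : GL ι F)) μ) :
    (A : GL ι F) ∈ Cfsg.Geo.omegaGL ⇑R ∧ (A : GL ι F) ^ p = 1 ∧ orderOf (A : GL ι F) = p ∧
      ∀ z : F, ((A : GL ι F) : Matrix ι ι F) ≠ z • (1 : Matrix ι ι F) := by
  classical
  have hpp : p.Prime := Fact.out
  have h2 : (2 : F) ≠ 0 := fun h => hp2 ((Nat.prime_dvd_prime_iff_eq hpp Nat.prime_two).1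
    ((CharP.cast_eq_zero_iff F p 2).1 (by exact_mod_cast h)))
  set M := ((A : GL ι F) : Matrix ι ι F) with hM
  have hN : ∀ k, ((M - 1) ^ k).rank = Jordan.prof μ k := fun k => by rw [rank_sub_one_pow]; exact hA.2 k
  have hNp : (M - 1) ^ p = 0 := by
    have h0 : ((M - 1) ^ p).rank = 0 := by
      rw [hN]
      exact Multiset.sum_eq_zero fun x hx => by
        obtain ⟨e, he, rfl⟩ := Multiset.mem_map.1 hx
        have := hμ e he
        omega
    rw [Matrix.rank, Submodule.finrank_eq_zero, LinearMap.range_eq_bot] at h0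
    exact Matrix.toLin'.injective (by rw [map_zero]; exact h0)
  have hMp : M ^ p = 1 := by
    haveI : CharP (Matrix ι ι F) p := by
      haveI : Nonempty ι := Fintype.card_pos_iff.1 (by omega)
      infer_instance
    have := sub_pow_char_of_commute (Commute.one_right M) (p := p)
    rw [hNp, one_pow] at this
    exact (sub_eq_zero.1 this.symm)
  have hAp : (A : GL ι F) ^ p = 1 := Units.ext (by rw [Units.val_pow_eq_pow_val, ← hM, hMp, Units.val_one])
  have hne1 : M ≠ 1 := fun h => by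
    obtain ⟨e, he, he1⟩ := hne
    have h1 := hN 1
    rw [h, sub_self, pow_one, Matrix.rank_zero] at h1
    have h2' := Multiset.single_le_sum (s := μ.map fun a => a - 1) (fun _ _ => Nat.zero_le _) (e - 1)
      (Multiset.mem_map.2 ⟨e, he, rfl⟩)
    have := (hμ e he).1
    change 0 = (μ.map fun a => a - 1).sum at h1
    omega
  have hns : ∀ z : F, M ≠ z • (1 : Matrix ι ι F) := fun z hz => by
    haveI : Nonempty ι := Fintype.card_pos_iff.1 (by omega)
    obtain ⟨i⟩ := ‹Nonempty ι›
    rw [hz, show z • (1 : Matrix ι ι F) - 1 = (z - 1) • (1 : Matrix ι ι F) by rw [sub_smul, one_smul], smul_pow,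
      one_pow] at hNp
    have h := congrFun (congrFun hNp i) i
    simp at h
    exact hne1 (by rw [hz, sub_eq_zero.1 h.1, one_smul])
  have hord : orderOf (A : GL ι F) = p := orderOf_eq_prime hAp fun h => hne1 (by rw [hM, h, Units.val_one])
  refine ⟨⟨A, ?_, rfl⟩, hAp, hord, hns⟩
  haveI : (Cfsg.Omega F ⇑R).Normal := inferInstance
  have hidx : (Cfsg.Omega F ⇑R).index = 4 := by
    rw [Quad.index_Omega hR (Quad.hex_of_two_ne_zero h2) hn, Quad.card_sqClass_of_odd h2]
  have h4 : A ^ 4 ∈ Cfsg.Omega F ⇑R := hidx ▸ Subgroup.pow_index_mem _ A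
  have hcop : Nat.Coprime p 4 := by
    rw [show (4 : ℕ) = 2 ^ 2 by norm_num]
    exact ((Nat.coprime_primes hpp Nat.prime_two).2 hp2).pow_right 2
  have hA' : A ^ p = 1 := Subtype.ext hAp
  obtain ⟨k, hk⟩ := Nat.exists_mul_mod_eq_one_of_coprime hcop.symm hpp.one_lt
  have : A = (A ^ 4) ^ k := by rw [← pow_mul, pow_eq_pow_mod _ hA', hk.2, pow_one]
  rw [this]
  exact pow_mem h4 k

/-- The type of the restriction to an invariant nondegenerate subspace. -/
theorem restrict_type (h2 : (2 : F) ≠ 0) {ι : Type} [Fintype ι] [DecidableEq ι] {R : QuadraticForm F (ι → F)}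
    (hR : (polarBilin R).Nondegenerate) {μ : Multiset ℕ} (hpos : ∀ a ∈ μ, 0 < a)
    (A : ↥(Cfsg.isometryGroup F ⇑R)) (hA : HasType (unitEquiv (A : GL ι F)) μ)
    {W : Submodule F (ι → F)} (hW : Cfsg.Geo.IsNondegenerateOn (polar ⇑R) W)
    (hWA : W.map (Matrix.toLin' ((A : GL ι F) : Matrix ι ι F)) ≤ W) :
    ∃ (ν : Multiset ℕ) (aW : W ≃ₗ[F] W), (∀ x : W, R (aW x : ι → F) = R x) ∧ HasType aW ν ∧ (∀ a ∈ ν, 0 < a) ∧
      ν ≤ μ ∧ ν.sum = Module.finrank F W ∧ Valid ν := by
  classical
  set a := unitEquiv (A : GL ι F)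
  have haR : ∀ v, R (a v) = R v := fun v => A.2 v v
  have haP : ∀ u v, polar R (a u) (a v) = polar R u v := fun u v => by
    simp only [QuadraticMap.polar, ← map_add, haR]
  set B : BilinForm F (ι → F) := polarBilin R
  have hBr : (B.restrict W).Nondegenerate := by
    refine ⟨fun x hx => ?_, fun x hx => ?_⟩
    · by_contra h
      obtain ⟨-, y, hy, hyx⟩ := hW x x.2 fun e => h (Subtype.ext e)
      exact hyx (hx ⟨y, hy⟩)
    · by_contra h
      obtain ⟨⟨y, hy, hyx⟩, -⟩ := hW x x.2 fun e => h (Subtype.ext e)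
      exact hyx (hx ⟨y, hy⟩)
  have hrefl : B.IsRefl := fun u v h => by
    show polar R v u = 0
    rw [QuadraticMap.polar_comm]; exact h
  have hcompl := LinearMap.BilinForm.isCompl_orthogonal_of_restrict_nondegenerate hrefl hBr
  have hmapW : ∀ w ∈ W, a w ∈ W := fun w hw => by
    have := hWA (Submodule.mem_map_of_mem (f := Matrix.toLin' ((A : GL ι F) : Matrix ι ι F)) hw)
    rwa [Matrix.toLin'_apply] at this
  let fW : W →ₗ[F] W := (a : (ι → F) →ₗ[F] (ι → F)).restrict hmapW
  have hfW : Function.Injective fW := fun x y h => Subtype.ext (a.injective (congrArg Subtype.val h))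
  let aW : W ≃ₗ[F] W := LinearEquiv.ofInjectiveEndo fW hfW
  have haW : ∀ x : W, (aW x : ι → F) = a x := fun x => rfl
  set W' := B.orthogonal W
  have hmapW' : ∀ u ∈ W', a u ∈ W' := fun u hu w hw => by
    obtain ⟨⟨w', hw'⟩, hh⟩ := aW.surjective ⟨w, hw⟩
    have hw0 : w = a w' := (congrArg Subtype.val hh).symm
    show polar R w (a u) = 0
    rw [hw0, haP]
    exact hu w' hw'
  let fW' : W' →ₗ[F] W' := (a : (ι → F) →ₗ[F] (ι → F)).restrict hmapW'
  have hfW' : Function.Injective fW' := fun x y h => Subtype.ext (a.injective (congrArg Subtype.val h))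
  let aW' : W' ≃ₗ[F] W' := LinearEquiv.ofInjectiveEndo fW' hfW'
  obtain ⟨N, hN⟩ := hA.1
  have hnil : ∀ (U : Submodule F (ι → F)) (f : U ≃ₗ[F] U), (∀ x : U, (f x : ι → F) = a x) →
      IsNilpotent ((f : U →ₗ[F] U) - 1) := fun U f hf => by
    refine ⟨N, LinearMap.ext fun x => Subtype.ext ?_⟩
    have h : ∀ k (x : U), (((((f : U →ₗ[F] U) - 1) ^ k : Module.End F U) x : U) : ι → F) =
        (((a : (ι → F) →ₗ[F] (ι → F)) - 1) ^ k : Module.End F (ι → F)) x := by
      intro k
      induction k with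
      | zero => intro x; rfl
      | succ k ih =>
        intro x
        rw [pow_succ, pow_succ, Module.End.mul_apply, Module.End.mul_apply, ih]
        congr 1
        simp [hf]
    rw [h, hN]
    rfl
  obtain ⟨ν, hν, hνs, hνp⟩ := Jordan.exists_blocks _ _ (hnil W aW haW) rfl
  obtain ⟨ν', hν', hν's, hν'p⟩ := Jordan.exists_blocks _ _ (hnil W' aW' fun x => rfl) rfl
  have hT : HasType aW ν := ⟨hnil W aW haW, hνp⟩
  have hT' : HasType aW' ν' := ⟨hnil W' aW' (fun x => rfl), hν'p⟩
  let e := Submodule.prodEquivOfIsCompl W W' hcompl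
  have hea : a = e.symm.trans ((aW.prodCongr aW').trans e) := LinearEquiv.ext fun v => by
    obtain ⟨⟨x, y⟩, rfl⟩ := e.surjective v
    rw [LinearEquiv.trans_apply, LinearEquiv.trans_apply, e.symm_apply_apply]
    simp only [e, Submodule.coe_prodEquivOfIsCompl', LinearEquiv.prodCongr_apply, map_add]
    rfl
  have heq : μ = ν + ν' := by
    refine hasType_unique hpos (fun x hx => ?_) (a := a) hA (hea ▸ (hT.prod hT').conj e)
    rcases Multiset.mem_add.1 hx with hx | hx
    · exact hν x hx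
    · exact hν' x hx
  refine ⟨ν, aW, fun x => haR x, hT, hν, heq ▸ Multiset.le_add_right _ _, hνs, fun j hj => ?_⟩
  rcases Nat.eq_zero_or_pos j with rfl | hj0
  · rw [Multiset.count_eq_zero.2 fun h => absurd (hν 0 h) (lt_irrefl 0)]
    exact Even.zero
  refine even_count_of_parity hj0 ?_
  obtain ⟨i, rfl⟩ : ∃ i, j = 2 * (i + 1) := by obtain ⟨c, rfl⟩ := hj; exact ⟨c - 1, by omega⟩
  rw [← hT.2, ← hT.2, show 2 * (i + 1) - 1 = 2 * i + 1 by omega]
  have haB : ∀ u v, B.restrict W (aW u) (aW v) = B.restrict W u v := fun u v => haP u v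
  exact (even_rank_symm aW hBr (fun u v => QuadraticMap.polar_comm _ _ _) h2 haB hT.1 i).add
    (even_rank_symm aW hBr (fun u v => QuadraticMap.polar_comm _ _ _) h2 haB hT.1 (i + 1))

/-- An invariant space of type `2^c` is of plus type. -/
theorem plus_of_type_two (h2 : (2 : F) ≠ 0) {ι : Type} [Fintype ι] [DecidableEq ι] {R : QuadraticForm F (ι → F)}
    {W : Submodule F (ι → F)} (aW : W ≃ₗ[F] W) (hiso : ∀ x : W, R (aW x : ι → F) = R x) {c : ℕ}
    (hT : HasType aW (Multiset.replicate c 2)) (hc : Module.finrank F W = 2 * c) :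
    Cfsg.Geo.IsPlusTypeOn ⇑R W := by
  classical
  set N : Module.End F W := (aW : W →ₗ[F] W) - 1
  have hr : Module.finrank F (LinearMap.range N) = c := by
    have := hT.2 1
    rw [pow_one] at this
    rw [this]
    simp [Jordan.prof]
  have hN2 : N ^ 2 = 0 := LinearMap.range_eq_bot.1 (Submodule.finrank_eq_zero.1 (by
    rw [hT.2 2]
    simp [Jordan.prof]))
  have hk := LinearMap.finrank_range_add_finrank_ker N
  have hle : LinearMap.range N ≤ LinearMap.ker N := by
    rintro _ ⟨x, rfl⟩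
    exact LinearMap.congr_fun hN2 x
  have heq : LinearMap.range N = LinearMap.ker N := Submodule.eq_of_le_of_finrank_eq hle (by omega)
  have hfix : ∀ z ∈ LinearMap.ker N, (aW z : ι → F) = z := fun z hz =>
    congrArg Subtype.val (sub_eq_zero.1 (LinearMap.mem_ker.1 hz))
  refine ⟨(LinearMap.range N).map W.subtype, Submodule.map_subtype_le _ _, ?_, ?_⟩
  · rintro _ ⟨w, ⟨u, rfl⟩, rfl⟩
    have hw := hfix (N u) (heq ▸ ⟨u, rfl⟩)
    have h1 : polar R (aW u : ι → F) (aW (N u) : ι → F) = polar R (u : ι → F) (N u : ι → F) := by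
      simp only [QuadraticMap.polar, ← Submodule.coe_add, ← map_add, hiso]
    rw [hw] at h1
    have h3 : polar R (N u : ι → F) (N u : ι → F) = 0 := by
      have hsplit : (aW u : ι → F) = (u : ι → F) + (N u : ι → F) := by
        simp [N]
      rw [hsplit, QuadraticMap.polar_add_left] at h1
      exact add_eq_left.1 h1
    rw [QuadraticMap.polar_self, two_smul, ← two_mul] at h3
    exact (mul_eq_zero.1 h3).resolve_left h2
  · rw [(Submodule.equivMapOfInjective W.subtype W.injective_subtype _).finrank_eq.symm, hr, hc]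

/-- The key step. -/
theorem exists_type_sub {p : ℕ} [Fact p.Prime] [CharP F p] (hp2 : p ≠ 2) {ι : Type} [Fintype ι] [DecidableEq ι]
    {R : QuadraticForm F (ι → F)} (hR : (polarBilin R).Nondegenerate) (hn : 2 ≤ Fintype.card ι) {m : ℕ}
    {P : Submodule F (ι → F) → Prop}
    (hall : ∀ x : GL ι F, x ∈ Cfsg.Geo.omegaGL ⇑R → x ^ p = 1 → orderOf x = p →
      (∀ z : F, (x : Matrix ι ι F) ≠ z • (1 : Matrix ι ι F)) →
      ∃ W : Submodule F (ι → F), (Module.finrank F W = m ∧ Cfsg.Geo.IsNondegenerateOn (polar ⇑R) W ∧ P W) ∧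
        W.map (Matrix.toLin' (x : Matrix ι ι F)) ≤ W)
    {μ : Multiset ℕ} (hμ : ∀ e ∈ μ, 0 < e ∧ e ≤ p) (hv : Valid μ) (hsum : μ.sum = Fintype.card ι)
    (hodd : ∃ j ∈ μ, Odd j) (hne : ∃ e ∈ μ, e ≠ 1) :
    ∃ (ν : Multiset ℕ) (W : Submodule F (ι → F)) (aW : W ≃ₗ[F] W), (∀ x : W, R (aW x : ι → F) = R x) ∧
      HasType aW ν ∧ ν ≤ μ ∧ ν.sum = m ∧ Valid ν ∧ Module.finrank F W = m ∧ P W := by
  have h2 : (2 : F) ≠ 0 := fun h => hp2 ((Nat.prime_dvd_prime_iff_eq Fact.out Nat.prime_two).1
    ((CharP.cast_eq_zero_iff F p 2).1 (by exact_mod_cast h)))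
  have hpos : ∀ e ∈ μ, 0 < e := fun e he => (hμ e he).1
  obtain ⟨A, hA⟩ := exists_element h2 hR hpos hv hsum hodd
  obtain ⟨h1, h1', h1'', h1'''⟩ := mem_omega_data hp2 hR hn hμ hne A hA
  obtain ⟨W, ⟨hWd, hWn, hWP⟩, hWA⟩ := hall _ h1 h1' h1'' h1'''
  obtain ⟨ν, aW, hiso, hT, -, hle, hs, hval⟩ := restrict_type h2 hR hpos A hA hWn hWA
  exact ⟨ν, W, aW, hiso, hT, hle, hs.trans hWd, hval, hWd, hWP⟩

/-- The partition condition. -/
theorem partition_condition {p : ℕ} [Fact p.Prime] [CharP F p] (hp2 : p ≠ 2) {ι : Type} [Fintype ι] [DecidableEq ι]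
    {R : QuadraticForm F (ι → F)} (hR : (polarBilin R).Nondegenerate) (hn : 2 ≤ Fintype.card ι) {m : ℕ}
    (hm : Even m) (hmn : m ≤ Fintype.card ι) {P : Submodule F (ι → F) → Prop}
    (hall : ∀ x : GL ι F, x ∈ Cfsg.Geo.omegaGL ⇑R → x ^ p = 1 → orderOf x = p →
      (∀ z : F, (x : Matrix ι ι F) ≠ z • (1 : Matrix ι ι F)) →
      ∃ W : Submodule F (ι → F), (Module.finrank F W = m ∧ Cfsg.Geo.IsNondegenerateOn (polar ⇑R) W ∧ P W) ∧
        W.map (Matrix.toLin' (x : Matrix ι ι F)) ≤ W) :
    ∀ μ : Multiset ℕ, (∀ e ∈ μ, 0 < e ∧ e ≤ p) → (∀ e : ℕ, Even e → Even (μ.count e)) → μ.sum = Fintype.card ι →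
      ∃ ν : Multiset ℕ, ν ≤ μ ∧ ν.sum = m ∧ ∀ e : ℕ, Even e → Even (ν.count e) := by
  intro μ hμ hv hsum
  by_contra hno
  obtain ⟨μ', hμ', hv', hsum', hodd, hno'⟩ := exists_bad_odd ((Fact.out : p.Prime).odd_of_ne_two hp2) hm hμ hv
    hsum (by omega) hno
  obtain ⟨ν, -, -, -, -, hle, hs, hval, -, -⟩ := exists_type_sub hp2 hR hn hall hμ' hv' hsum' hodd (by
    by_contra h
    push Not at h
    exact hno' (hasSub_of_all_one h (hsum' ▸ hmn)))
  exact hno' ⟨ν, hle, hs, hval⟩

theorem sub_twos {b c j : ℕ} {ν : Multiset ℕ} (hj : j ≠ 2)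
    (hle : ν ≤ Multiset.replicate (2 * b) 2 + Multiset.replicate c j) :
    ν.sum = ν.count 2 * 2 + ν.count j * j ∧ ν.count j ≤ c := by
  refine ⟨two_parts hj.symm fun a ha => ?_, ?_⟩
  · rcases Multiset.mem_add.1 (Multiset.mem_of_le hle ha) with h | h
    · exact Or.inl (Multiset.eq_of_mem_replicate h)
    · exact Or.inr (Multiset.eq_of_mem_replicate h)
  · refine (Multiset.count_le_of_le j hle).trans (le_of_eq ?_)
    simp [Multiset.count_replicate, hj.symm]

theorem odd_form_condition {p : ℕ} [Fact p.Prime] [CharP F p] (hp2 : p ≠ 2) {ι : Type} [Fintype ι] [DecidableEq ι]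
    {R : QuadraticForm F (ι → F)} (hR : (polarBilin R).Nondegenerate) {d : ℕ} (hd : 3 ≤ d)
    (hι : Fintype.card ι = 2 * d + 1) {m : ℕ} (hm : Even m) {P : Submodule F (ι → F) → Prop}
    (hall : ∀ x : GL ι F, x ∈ Cfsg.Geo.omegaGL ⇑R → x ^ p = 1 → orderOf x = p →
      (∀ z : F, (x : Matrix ι ι F) ≠ z • (1 : Matrix ι ι F)) →
      ∃ W : Submodule F (ι → F), (Module.finrank F W = m ∧ Cfsg.Geo.IsNondegenerateOn (polar ⇑R) W ∧ P W) ∧
        W.map (Matrix.toLin' (x : Matrix ι ι F)) ≤ W) :
    m % 4 = 0 := by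
  by_contra hm4
  obtain ⟨l, rfl⟩ := hm
  have hp3 : 3 ≤ p := by have := (Fact.out : p.Prime).two_le; omega
  obtain ⟨b, j, hj, hb1, hb⟩ : ∃ b j, (j = 1 ∨ j = 3) ∧ 1 ≤ b ∧ 4 * b + j = 2 * d + 1 := by
    rcases Nat.even_or_odd' d with ⟨b, rfl | rfl⟩
    · exact ⟨b, 1, Or.inl rfl, by omega, by omega⟩
    · exact ⟨b, 3, Or.inr rfl, by omega, by omega⟩
  have hj2 : j ≠ 2 := by omega
  have hjo : Odd j := by rcases hj with rfl | rfl <;> decide
  obtain ⟨ν, -, -, -, -, hle, hs, hval, -, -⟩ := exists_type_sub hp2 hR (by omega) hall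
    (μ := Multiset.replicate (2 * b) 2 + Multiset.replicate 1 j) (fun e he => by
      rcases Multiset.mem_add.1 he with h | h <;> have h' := Multiset.eq_of_mem_replicate h <;> omega)
    (fun e he => by
      rw [Multiset.count_add, Multiset.count_replicate, Multiset.count_replicate,
        if_neg (show j ≠ e by rintro rfl; exact Nat.not_even_iff_odd.2 hjo he), add_zero]
      split_ifs
      · exact even_two_mul b
      · exact Even.zero)
    (by simp [hι]; omega) ⟨j, by simp, hjo⟩ ⟨2, Multiset.mem_add.2 (Or.inl (Multiset.mem_replicate.2 ⟨by omega, rfl⟩)), by omega⟩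
  obtain ⟨h1, h2⟩ := sub_twos hj2 hle
  obtain ⟨c, hc⟩ := hval 2 even_two
  rcases (show ν.count j = 0 ∨ ν.count j = 1 by omega) with h | h <;> rw [h, hc, hs] at h1 <;> omega

theorem minus_form_condition {p : ℕ} [Fact p.Prime] [CharP F p] (hp2 : p ≠ 2) {ι : Type} [Fintype ι] [DecidableEq ι]
    {R : QuadraticForm F (ι → F)} (hR : (polarBilin R).Nondegenerate) {d : ℕ} (hd : 4 ≤ d)
    (hι : Fintype.card ι = 2 * d) {m : ℕ} (hm : Even m)
    (hall : ∀ x : GL ι F, x ∈ Cfsg.Geo.omegaGL ⇑R → x ^ p = 1 → orderOf x = p →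
      (∀ z : F, (x : Matrix ι ι F) ≠ z • (1 : Matrix ι ι F)) →
      ∃ W : Submodule F (ι → F), (Module.finrank F W = m ∧ Cfsg.Geo.IsNondegenerateOn (polar ⇑R) W ∧
        ¬ Cfsg.Geo.IsPlusTypeOn ⇑R W) ∧ W.map (Matrix.toLin' (x : Matrix ι ι F)) ≤ W) :
    (2 * d) % 4 = m % 4 := by
  by_contra hm4
  obtain ⟨l, rfl⟩ := hm
  have hp3 : 3 ≤ p := by have := (Fact.out : p.Prime).two_le; omega
  have h2 : (2 : F) ≠ 0 := fun h => hp2 ((Nat.prime_dvd_prime_iff_eq Fact.out Nat.prime_two).1
    ((CharP.cast_eq_zero_iff F p 2).1 (by exact_mod_cast h)))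
  rcases Nat.even_or_odd' d with ⟨b, rfl | rfl⟩
  · obtain ⟨b, rfl⟩ : ∃ b', b = b' + 1 := ⟨b - 1, by omega⟩
    obtain ⟨ν, -, -, -, -, hle, hs, hval, -, -⟩ := exists_type_sub hp2 hR (by omega) hall
      (μ := Multiset.replicate (2 * b) 2 + {3, 1}) (fun e he => by
        rcases Multiset.mem_add.1 he with h | h
        · have h' := Multiset.eq_of_mem_replicate h; omega
        · simp at h; omega)
      (fun e he => by
        have hne3 : e ≠ 3 := by rintro rfl; exact Nat.not_even_iff_odd.2 (by decide) he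
        have hne1 : e ≠ 1 := by rintro rfl; exact Nat.not_even_one he
        have hz : Multiset.count e ({3, 1} : Multiset ℕ) = 0 := Multiset.count_eq_zero.2 (by simp [hne3, hne1])
        rw [Multiset.count_add, hz, add_zero, Multiset.count_replicate]
        split_ifs
        · exact even_two_mul b
        · exact Even.zero)
      (by simp [hι]; omega) ⟨3, by simp, by decide⟩ ⟨3, by simp, by omega⟩
    have hsplit := Multiset.filter_add_not (fun a => Even a) ν
    have he : (ν.filter fun a => Even a).sum = ν.count 2 * 2 := by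
      rw [two_parts (x := 2) (y := 0) (by omega) (fun a ha => ?_)]
      · rw [Multiset.count_filter_of_pos even_two, mul_zero, add_zero]
      · obtain ⟨ha, hae⟩ := Multiset.mem_filter.1 ha
        have := Multiset.mem_of_le hle ha
        rcases Multiset.mem_add.1 this with h | h
        · exact Or.inl (Multiset.eq_of_mem_replicate h)
        · simp at h
          rcases h with rfl | rfl
          · exact absurd hae (by decide)
          · exact absurd hae (by decide)
    have ho : (ν.filter fun a => ¬ Even a) ≤ {3, 1} := by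
      refine (Multiset.filter_le_filter _ hle).trans_eq ?_
      rw [Multiset.filter_add, (Multiset.filter_eq_nil.2 fun a ha => by
          rw [Multiset.eq_of_mem_replicate ha]; decide :
          Multiset.filter (fun a => ¬ Even a) (Multiset.replicate (2 * b) 2) = 0), zero_add]
      rfl
    have hsum : (ν.filter fun a => Even a).sum + (ν.filter fun a => ¬ Even a).sum = l + l := by
      rw [← Multiset.sum_add, hsplit, hs]
    obtain ⟨c, hc⟩ := hval 2 even_two
    have hmem := Multiset.mem_powerset.2 ho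
    have hcases := Multiset.mem_map_of_mem Multiset.sum hmem
    simp at hcases hsum he
    rw [he, hc] at hsum
    rcases hcases with (h | h) | (h | h) <;> omega
  · obtain ⟨ν, W, aW, hiso, hT, hle, hs, hval, hWd, hP⟩ := exists_type_sub hp2 hR (by omega) hall
      (μ := Multiset.replicate (2 * b) 2 + Multiset.replicate 2 1) (fun e he => by
        rcases Multiset.mem_add.1 he with h | h <;> have h' := Multiset.eq_of_mem_replicate h <;> omega)
      (fun e he => by
        rw [Multiset.count_add, Multiset.count_replicate, Multiset.count_replicate,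
          if_neg (show 1 ≠ e by rintro rfl; exact Nat.not_even_one he), add_zero]
        split_ifs
        · exact even_two_mul b
        · exact Even.zero)
      (by simp [hι]; omega) ⟨1, by simp, odd_one⟩
      ⟨2, Multiset.mem_add.2 (Or.inl (Multiset.mem_replicate.2 ⟨by omega, rfl⟩)), by omega⟩
    obtain ⟨h1, h1'⟩ := sub_twos (by omega) hle
    obtain ⟨c, hc⟩ := hval 2 even_two
    have h0 : ν.count 1 = 0 := by
      rw [hs, hc] at h1
      omega
    have hν : ν = Multiset.replicate (ν.count 2) 2 := by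
      refine Multiset.eq_replicate.2 ⟨?_, fun a ha => ?_⟩
      · rw [Multiset.count_eq_card.2]
        intro a ha
        rcases Multiset.mem_add.1 (Multiset.mem_of_le hle ha) with h | h
        · exact (Multiset.eq_of_mem_replicate h).symm
        · exact absurd (Multiset.eq_of_mem_replicate h ▸ ha) (Multiset.count_eq_zero.1 h0)
      · rcases Multiset.mem_add.1 (Multiset.mem_of_le hle ha) with h | h
        · exact Multiset.eq_of_mem_replicate h
        · exact absurd (Multiset.eq_of_mem_replicate h ▸ ha) (Multiset.count_eq_zero.1 h0)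
    rw [hν] at hT
    exact hP (plus_of_type_two h2 aW hiso hT (by rw [hWd]; rw [hs, h0] at h1; omega))

end CfsgLib.Geo.ElusiveUnipotent
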