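/-
Extension-field root elements in a group of `F`-linear maps containing the special linear group over the larger field.
-/
import Mathlib

set_option autoImplicit false

namespace CfsgLib.Geo.FieldExt

open Module LinearMap

variable {F K V : Type*} [Field F] [Field K] [Algebra F K] [AddCommGroup V] [Module F V] [Module K V]
  [IsScalarTower F K V]

/-- `1 + T` lies in `X`. -/
def U (X : Subgroup (V ≃ₗ[F] V)) (T : V →ₗ[F] V) : Prop := ∃ x ∈ X, ∀ y, x y = y + T y

/-- The root map. -/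
def root (v : V) (φ : V →ₗ[K] K) (θ : K →ₗ[F] K) : V →ₗ[F] V :=
  ((LinearMap.toSpanSingleton K V v).restrictScalars F).comp (θ.comp (φ.restrictScalars F))

@[simp] theorem root_apply (v : V) (φ : V →ₗ[K] K) (θ : K →ₗ[F] K) (y : V) : root v φ θ y = θ (φ y) • v := rfl

/-- Multiplication by a scalar. -/
def mulL (a : K) : K →ₗ[F] K := LinearMap.mulLeft F a

@[simp] theorem mulL_apply (a c : K) : mulL (F := F) a c = a * c := rfl

/-- The special linear group over `K` lies in `X`. -/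
def Base (K : Type*) [Field K] [Module K V] (X : Subgroup (V ≃ₗ[F] V)) : Prop :=
  ∀ g : V ≃ₗ[F] V, (∀ (k : K) y, g (k • y) = k • g y) → LinearMap.det (g : V →ₗ[F] V) = 1 → g ∈ X

variable {X : Subgroup (V ≃ₗ[F] V)}

theorem U.congr {T T' : V →ₗ[F] V} (h : U X T) (e : ∀ y, T y = T' y) : U X T' := by
  obtain ⟨x, hx, hx'⟩ := h
  exact ⟨x, hx, fun y => by rw [hx', e]⟩

theorem U.zero : U X (0 : V →ₗ[F] V) := ⟨1, X.one_mem, fun y => by simp⟩

theorem U.add {T T' : V →ₗ[F] V} (h : U X T) (h' : U X T') (e : ∀ y, T (T' y) = 0) : U X (T + T') := by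
  obtain ⟨x, hx, hx₁⟩ := h
  obtain ⟨y, hy, hy₁⟩ := h'
  refine ⟨x * y, X.mul_mem hx hy, fun z => ?_⟩
  rw [LinearEquiv.mul_apply, hx₁, hy₁, map_add, e, LinearMap.add_apply]
  abel

theorem U.neg {T : V →ₗ[F] V} (h : U X T) (e : ∀ y, T (T y) = 0) : U X (-T) := by
  obtain ⟨x, hx, hx₁⟩ := h
  refine ⟨x⁻¹, X.inv_mem hx, fun z => ?_⟩
  show x.symm z = _
  rw [LinearEquiv.symm_apply_eq, hx₁, LinearMap.neg_apply, map_add, map_neg, e]
  abel

theorem U.conj {T : V →ₗ[F] V} (h : U X T) {g : V ≃ₗ[F] V} (hg : g ∈ X) :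
    U X ((g : V →ₗ[F] V).comp (T.comp (g.symm : V →ₗ[F] V))) := by
  obtain ⟨x, hx, hx₁⟩ := h
  refine ⟨g * x * g⁻¹, X.mul_mem (X.mul_mem hg hx) (X.inv_mem hg), fun z => ?_⟩
  show g (x (g.symm z)) = _
  rw [hx₁, map_add, g.apply_symm_apply]
  rfl

theorem U.commutator {T S : V →ₗ[F] V} (hT : U X T) (hS : U X S) (eT : ∀ y, T (T y) = 0)
    (eS : ∀ y, S (S y) = 0) {R : V →ₗ[F] V}
    (hR : ∀ y, R y = T (S y) - S (T y) - T (S (T y)) + S (T (S y)) + T (S (T (S y)))) : U X R := by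
  obtain ⟨x, hx, hx₁⟩ := hT
  obtain ⟨z, hz, hz₁⟩ := hS
  obtain ⟨x', hx', hx₁'⟩ := U.neg ⟨x, hx, hx₁⟩ eT
  obtain ⟨z', hz', hz₁'⟩ := U.neg ⟨z, hz, hz₁⟩ eS
  refine ⟨x * z * x' * z', X.mul_mem (X.mul_mem (X.mul_mem hx hz) hx') hz', fun y => ?_⟩
  simp only [LinearEquiv.mul_apply, hx₁, hz₁, hx₁', hz₁', map_add, map_neg, LinearMap.neg_apply, eT, eS, neg_zero,
    add_zero, hR]
  abel

variable [FiniteDimensional F K] [FiniteDimensional K V]

theorem det_restrict_of_det_eq {g : V →ₗ[K] V} {a : K} (h : LinearMap.det g = a) :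
    LinearMap.det (g.restrictScalars F) = Algebra.norm F a := by rw [LinearMap.det_restrictScalars, h]

theorem mem_of_klinear (hX : Base K X) (g : V ≃ₗ[K] V) (h : Algebra.norm F (LinearMap.det (g : V →ₗ[K] V)) = 1) :
    g.restrictScalars F ∈ X :=
  hX _ (fun k y => g.map_smul k y)
    (by
      rw [← h, ← LinearMap.det_restrictScalars]
      rfl)

/-- A transvection over `K`. -/
theorem U.transvection (hX : Base K X) (v : V) (φ : V →ₗ[K] K) (h : φ v = 0) :
    U X (root v φ (LinearMap.id : K →ₗ[F] K)) :=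
  ⟨_, mem_of_klinear hX (LinearEquiv.transvection h) (by
    rw [LinearEquiv.transvection.coe_toLinearMap, LinearMap.transvection.det, h, add_zero, map_one]), fun _ => rfl⟩

theorem U.transvection_mul (hX : Base K X) (v : V) (φ : V →ₗ[K] K) (h : φ v = 0) (a : K) :
    U X (root v φ (mulL (F := F) a)) :=
  (U.transvection hX (a • v) φ (by rw [map_smul, h, smul_zero])).congr fun y => by
    rw [root_apply, root_apply, LinearMap.id_apply, mulL_apply, smul_smul, mul_comm]

theorem exists_functional {u : V} {P : Submodule K V} (h : u ∉ P) :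
    ∃ φ : V →ₗ[K] K, φ u = 1 ∧ ∀ x ∈ P, φ x = 0 := by
  obtain ⟨f, hf, hker⟩ := Submodule.exists_dual_map_eq_bot_of_notMem h inferInstance
  exact ⟨(f u)⁻¹ • f, inv_mul_cancel₀ hf, fun x hx => by
    show (f u)⁻¹ * f x = 0
    have h0 : f x ∈ P.map f := Submodule.mem_map_of_mem hx
    rw [hker, Submodule.mem_bot] at h0
    rw [h0, mul_zero]⟩

theorem exists_functional' {u : V} (h : u ≠ 0) : ∃ φ : V →ₗ[K] K, φ u = 1 :=
  (exists_functional (P := ⊥) (by simpa using h)).imp fun _ => And.left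

end CfsgLib.Geo.FieldExt
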