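/-
Lines over the larger field, and the bimodule of coefficients of root elements.
-/
import Cfsg.Agent.Lib.Geo.FieldExtBasic

set_option autoImplicit false

namespace CfsgLib.Geo.FieldExt

open Module LinearMap

variable {F K V : Type*} [Field F] [Field K] [Algebra F K] [AddCommGroup V] [Module F V] [Module K V]
  [IsScalarTower F K V]

/-- The line over `K`. -/
def line (K : Type*) [Field K] [Algebra F K] [Module K V] [IsScalarTower F K V] (v : V) : Submodule F V :=
  (Submodule.span K {v}).restrictScalars F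

theorem mem_line {v x : V} : x ∈ line (F := F) K v ↔ ∃ c : K, c • v = x := by
  rw [line, Submodule.restrictScalars_mem, Submodule.mem_span_singleton]

theorem self_mem_line (v : V) : v ∈ line (F := F) K v := mem_line.2 ⟨1, one_smul _ _⟩

theorem line_eq {v x : V} (h : x ∈ line (F := F) K v) (hx : x ≠ 0) : line (F := F) K x = line K v := by
  obtain ⟨c, rfl⟩ := mem_line.1 h
  rw [line, line, Submodule.span_singleton_smul_eq (IsUnit.mk0 c fun e => hx (by rw [e, zero_smul]))]

theorem line_zero : line (F := F) K (0 : V) = ⊥ := by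
  rw [line, Submodule.span_zero_singleton, Submodule.restrictScalars_bot]

theorem finrank_line {v : V} (hv : v ≠ 0) : finrank F (line (F := F) K v) = finrank F K := by
  have e : line (F := F) K v = LinearMap.range ((LinearMap.toSpanSingleton K V v).restrictScalars F) := by
    ext x
    rw [mem_line]
    rfl
  rw [e, LinearMap.finrank_range_of_inj (fun a b h => smul_left_injective K hv h)]

/-- Maps sending lines onto lines are semilinear. -/
theorem semilinear_of_lines (h2 : 2 ≤ finrank K V) (g : V ≃ₗ[F] V)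
    (h : ∀ v : V, v ≠ 0 → ∃ w, (line (F := F) K v).map (g : V →ₗ[F] V) = line K w) (k : K) :
    ∃ k' : K, ∀ y, g (k • y) = k' • g y := by
  have hex : ∀ v, v ∉ (⊥ : Submodule K V) → (∃ c : K, g (k • v) = c • g v) ∧
      ∀ x, (∃ c : K, g x = c • g v) → ∃ c : K, c • v = x := by
    intro v hv
    have hv : v ≠ 0 := by simpa using hv
    obtain ⟨w, hw⟩ := h v hv
    have hgv : g v ∈ line (F := F) K w := hw ▸ Submodule.mem_map_of_mem (self_mem_line v)
    rw [← line_eq hgv (by simpa using hv)] at hw
    refine ⟨?_, fun x hx => ?_⟩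
    · have h1 : g (k • v) ∈ line (F := F) K (g v) := hw ▸ Submodule.mem_map_of_mem (mem_line.2 ⟨k, rfl⟩)
      exact (mem_line.1 h1).imp fun c e => e.symm
    · obtain ⟨c, hc⟩ := hx
      have h1 : g x ∈ (line (F := F) K v).map (g : V →ₗ[F] V) := hw ▸ mem_line.2 ⟨c, hc.symm⟩
      obtain ⟨y, hy, e⟩ := h1
      rw [← g.injective e]
      exact mem_line.1 hy
  have hindep : ∀ v w : V, v ≠ 0 → (∀ c : K, c • v ≠ w) → ∀ a b : K, g (k • v) = a • g v → g (k • w) = b • g w →
      a = b := by
    intro v w hv hvw a b ha hb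
    have hw : w ≠ 0 := fun e => hvw 0 (by rw [zero_smul, e])
    have hvw0 : v + w ≠ 0 := fun e => hvw (-1) (by rw [neg_one_smul]; exact neg_eq_of_add_eq_zero_right e)
    obtain ⟨⟨c, hc⟩, -⟩ := hex (v + w) (by simpa using hvw0)
    rw [smul_add, map_add, map_add, ha, hb, smul_add] at hc
    have e1 : (b - c) • g w = (c - a) • g v := by
      rw [sub_smul, sub_smul, sub_eq_sub_iff_add_eq_add, add_comm, hc]
    have hbc : b = c := by
      by_contra hne
      obtain ⟨d, hd⟩ := (hex v (by simpa using hv)).2 w ⟨(b - c)⁻¹ * (c - a), by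
        rw [mul_smul, ← e1, inv_smul_smul₀ (sub_ne_zero.2 hne)]⟩
      exact hvw d hd
    rw [hbc, sub_self, zero_smul, eq_comm, smul_eq_zero] at e1
    rw [hbc]
    exact (sub_eq_zero.1 (e1.resolve_right (by simpa using hv))).symm
  haveI : FiniteDimensional K V := Module.finite_of_finrank_pos (by omega)
  haveI : Nontrivial V := Module.nontrivial_of_finrank_pos (R := K) (by omega)
  obtain ⟨v₀, hv₀⟩ := exists_ne (0 : V)
  obtain ⟨a, ha⟩ := (hex v₀ (by simpa using hv₀)).1
  refine ⟨a, fun y => ?_⟩
  by_cases hy : y = 0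
  · simp [hy]
  obtain ⟨b, hb⟩ := (hex y (by simpa using hy)).1
  rw [hb]
  congr 1
  by_cases hd : ∀ c : K, c • v₀ ≠ y
  · exact (hindep v₀ y hv₀ hd a b ha hb).symm
  push Not at hd
  obtain ⟨c, hc⟩ := hd
  obtain ⟨u, hu⟩ : ∃ u : V, u ∉ Submodule.span K {v₀} := by
    by_contra! hall
    have h1 := finrank_span_singleton (K := K) hv₀
    rw [Submodule.eq_top_iff'.2 hall, finrank_top] at h1
    omega
  have hu' : ∀ d : K, d • v₀ ≠ u := fun d hd => hu (Submodule.mem_span_singleton.2 ⟨d, hd⟩)
  obtain ⟨e, he⟩ := (hex u (by simpa using fun e' : u = 0 => hu (e' ▸ zero_mem _))).1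
  rw [hindep v₀ u hv₀ hu' a e ha he]
  exact hindep y u hy (fun d hd => hu' (d * c) (by rw [mul_smul, hc, hd])) b e hb he

/-- A proper non-zero subspace is only stabilised by scalars. -/
theorem mem_range_of_stab (hr : (finrank F K).Prime) {A : Submodule F K} (hA : A ≠ ⊥) (hA' : A ≠ ⊤) {c : K}
    (h : ∀ x ∈ A, c * x ∈ A) : c ∈ Set.range (algebraMap F K) := by
  let S : Subalgebra F K :=
    { carrier := {d | ∀ x ∈ A, d * x ∈ A}
      mul_mem' := fun {a b} ha hb x hx => by rw [mul_assoc]; exact ha _ (hb x hx)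
      add_mem' := fun {a b} ha hb x hx => by rw [add_mul]; exact A.add_mem (ha x hx) (hb x hx)
      algebraMap_mem' := fun a x hx => by rw [← Algebra.smul_def]; exact A.smul_mem a hx }
  haveI := Subalgebra.isSimpleOrder_of_finrank_prime F K hr
  rcases eq_bot_or_eq_top S with e | e
  · have h1 : c ∈ S := h
    rw [e] at h1
    exact Algebra.mem_bot.1 h1
  · exfalso
    obtain ⟨x, hx, hx0⟩ := (Submodule.ne_bot_iff A).1 hA
    refine hA' (Submodule.eq_top_iff'.2 fun z => ?_)
    have h1 : z * x⁻¹ ∈ S := e ▸ Algebra.mem_top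
    simpa [hx0] using h1 x hx

/-- All root elements with coefficient `θ` lie in `X`. -/
def Th (X : Subgroup (V ≃ₗ[F] V)) (θ : K →ₗ[F] K) : Prop :=
  ∀ (v : V) (φ : V →ₗ[K] K), φ v = 0 → U X (root v φ θ)

variable {X : Subgroup (V ≃ₗ[F] V)}

theorem Th.twist {θ : K →ₗ[F] K} (h : Th X θ) (a b : K) : Th X ((mulL a).comp (θ.comp (mulL b))) := fun v φ hv =>
  (h (a • v) (b • φ) (by simp [hv])).congr fun y => by
    simp only [root_apply, LinearMap.smul_apply, smul_eq_mul, LinearMap.comp_apply, mulL_apply, smul_smul]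
    rw [mul_comm]

theorem Th.add {θ θ' : K →ₗ[F] K} (h : Th X θ) (h' : Th X θ') : Th X (θ + θ') := fun v φ hv =>
  ((h v φ hv).add (h' v φ hv) fun y => by simp [hv]).congr fun y => by simp [add_smul]

theorem Th.neg {θ : K →ₗ[F] K} (h : Th X θ) : Th X (-θ) := fun v φ hv =>
  ((h v φ hv).neg fun y => by simp [hv]).congr fun y => by simp

theorem Th.congr {θ θ' : K →ₗ[F] K} (h : Th X θ) (e : ∀ c, θ c = θ' c) : Th X θ' := LinearMap.ext e ▸ h

variable [Fintype F] [FiniteDimensional F K] [FiniteDimensional K V]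

/-- The coefficients at one pair form a bimodule. -/
theorem twist_pair (hr : (finrank F K).Prime) (hX : Base K X) {v : V} {φ : V →ₗ[K] K} (hv : v ≠ 0) (hφ : φ ≠ 0)
    (hφv : φ v = 0) {θ : K →ₗ[F] K} (h : U X (root v φ θ)) (a b : K) :
    U X (root v φ ((mulL a).comp (θ.comp (mulL b)))) := by
  classical
  obtain ⟨u, hu⟩ : ∃ u, φ u = 1 := by
    obtain ⟨u₀, hu₀⟩ : ∃ u, φ u ≠ 0 := by
      by_contra! hall
      exact hφ (LinearMap.ext hall)
    exact ⟨(φ u₀)⁻¹ • u₀, by rw [map_smul, smul_eq_mul, inv_mul_cancel₀ hu₀]⟩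
  obtain ⟨ψ, hψv, hψu⟩ := exists_functional (K := K) (u := v) (P := Submodule.span K {u}) (fun hm => by
    obtain ⟨c, rfl⟩ := Submodule.mem_span_singleton.1 hm
    rw [map_smul, hu, smul_eq_mul, mul_one] at hφv
    exact hv (by rw [hφv, zero_smul]))
  have hψu : ψ u = 0 := hψu u (Submodule.mem_span_singleton_self u)
  have htw : ∀ θ : K →ₗ[F] K, U X (root v φ θ) → ∀ a b : K, b ≠ 0 → Algebra.norm F a = Algebra.norm F b →
      U X (root v φ ((mulL a).comp (θ.comp (mulL b)))) := by
    intro θ h a b hb hab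
    set g₀ := (LinearMap.transvection ((a - 1) • ψ) v).comp (LinearMap.transvection ((b⁻¹ - 1) • φ) u) with hg₀
    have hdet : LinearMap.det g₀ = a * b⁻¹ := by
      rw [hg₀, LinearMap.det_comp, LinearMap.transvection.det, LinearMap.transvection.det, LinearMap.smul_apply,
        LinearMap.smul_apply, hψv, hu]
      simp
    have hn : Algebra.norm F (LinearMap.det g₀) = 1 := by
      rw [hdet, map_mul, hab, ← map_mul, mul_inv_cancel₀ hb, map_one]
    have hu0 : IsUnit (LinearMap.det g₀) := by
      refine IsUnit.mk0 _ fun e => ?_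
      rw [e, Algebra.norm_zero] at hn
      exact zero_ne_one hn
    set g := LinearMap.equivOfIsUnitDet hu0
    have hg : g.restrictScalars F ∈ X := mem_of_klinear hX g (by
      rw [LinearMap.coe_equivOfIsUnitDet]; exact hn)
    have hga : ∀ y, g y = g₀ y := LinearMap.equivOfIsUnitDet_apply hu0
    have hgv : g v = a • v := by
      rw [hga, hg₀, LinearMap.comp_apply, LinearMap.transvection.apply ((b⁻¹ - 1) • φ), LinearMap.smul_apply, hφv,
        smul_zero, zero_smul, add_zero, LinearMap.transvection.apply, LinearMap.smul_apply, hψv, smul_eq_mul, mul_one,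
        sub_smul, one_smul, add_sub_cancel]
    have hφg : ∀ y, φ (g y) = b⁻¹ * φ y := fun y => by
      rw [hga, hg₀, LinearMap.comp_apply, LinearMap.transvection.apply, map_add, map_smul, hφv, smul_zero, add_zero,
        LinearMap.transvection.apply, map_add, map_smul, hu, LinearMap.smul_apply, smul_eq_mul, smul_eq_mul]
      ring
    refine (h.conj hg).congr fun y => ?_
    have h1 := hφg (g.symm y)
    rw [g.apply_symm_apply] at h1
    show g (θ (φ (g.symm y)) • v) = (a * θ (b * φ y)) • v
    rw [map_smul, hgv, smul_smul, h1, ← mul_assoc, mul_inv_cancel₀ hb, one_mul, mul_comm]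
  have hadd : ∀ θ θ' : K →ₗ[F] K, U X (root v φ θ) → U X (root v φ θ') → U X (root v φ (θ + θ')) :=
    fun θ θ' h h' => (h.add h' fun y => by simp [hφv]).congr fun y => by simp [add_smul]
  have hneg : ∀ θ : K →ₗ[F] K, U X (root v φ θ) → U X (root v φ (-θ)) :=
    fun θ h => (h.neg fun y => by simp [hφv]).congr fun y => by simp
  have hsmul : ∀ θ : K →ₗ[F] K, U X (root v φ θ) → ∀ s : F, U X (root v φ (s • θ)) := by
    intro θ h
    have hsq : ∀ s : F, U X (root v φ ((s * s) • θ)) := by
      intro s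
      rcases eq_or_ne s 0 with rfl | hs
      · exact U.zero.congr fun y => by simp
      refine (htw θ h (algebraMap F K s) (algebraMap F K s) (by simpa using hs) rfl).congr fun y => ?_
      simp only [root_apply, LinearMap.comp_apply, mulL_apply, LinearMap.smul_apply, ← Algebra.smul_def, map_smul,
        smul_smul, smul_assoc]
    intro s
    by_cases h2 : (2 : F) = 0
    · haveI : CharP F 2 := CharTwo.of_one_ne_zero_of_two_eq_zero one_ne_zero h2
      obtain ⟨t, rfl⟩ := FiniteField.isSquare_of_char_two (ringChar.eq F 2) s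
      exact hsq t
    · have h4 : (4 : F) ≠ 0 := by
        rw [show (4 : F) = 2 * 2 by norm_num]
        exact mul_ne_zero h2 h2
      have e : (s / 4 + 1) * (s / 4 + 1) + -((s / 4 - 1) * (s / 4 - 1)) = s := by field_simp; ring
      refine (hadd _ _ (hsq (s / 4 + 1)) (hneg _ (hsq (s / 4 - 1)))).congr fun y => ?_
      simp only [root_apply, LinearMap.add_apply, LinearMap.neg_apply, LinearMap.smul_apply]
      rw [← neg_smul (R := F), ← add_smul (R := F), e]
  rcases eq_or_ne b 0 with rfl | hb
  · exact U.zero.congr fun y => by simp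
  let T : Submodule F K :=
    { carrier := {x | U X (root v φ ((mulL (b * x)).comp (θ.comp (mulL b))))}
      add_mem' := fun {x x'} hx hx' => (hadd _ _ hx hx').congr fun y => by simp [mul_add, add_mul, add_smul]
      zero_mem' := U.zero.congr fun y => by simp
      smul_mem' := fun s x hx => (hsmul _ hx s).congr fun y => by simp [Algebra.smul_def]; ring_nf }
  suffices hT : T = ⊤ by
    have h1 : b⁻¹ * a ∈ T := hT ▸ Submodule.mem_top
    refine U.congr (show U X _ from h1) fun y => ?_
    rw [mul_inv_cancel_left₀ hb]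
  haveI : Finite K := Module.finite_of_finite F
  haveI : Fintype K := Fintype.ofFinite K
  obtain ⟨γ, hγ⟩ := IsCyclic.exists_generator (α := Kˣ)
  set q := Fintype.card F
  set z : K := (γ : K) ^ (q - 1)
  have hz : z ∉ Set.range (algebraMap F K) := by
    rintro ⟨c, hc⟩
    have hc0 : c ≠ 0 := by
      rintro rfl
      rw [map_zero] at hc
      exact pow_ne_zero _ γ.ne_zero hc.symm
    have h1 : γ ^ ((q - 1) * (q - 1)) = 1 := by
      apply Units.ext
      rw [Units.val_pow_eq_pow_val, pow_mul, Units.val_one]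
      show z ^ (q - 1) = 1
      rw [← hc, ← map_pow, FiniteField.pow_card_sub_one_eq_one c hc0, map_one]
    have h2 := orderOf_dvd_of_pow_eq_one h1
    rw [orderOf_eq_card_of_forall_mem_zpowers hγ, Nat.card_units, Nat.card_eq_fintype_card,
      Module.card_eq_pow_finrank (K := F)] at h2
    have hq : 1 < q := Fintype.one_lt_card
    have h3 := Nat.le_of_dvd (Nat.mul_pos (by omega) (by omega)) h2
    have h4 : q ^ 2 ≤ q ^ finrank F K := Nat.pow_le_pow_right (by omega) hr.two_le
    have h5 : (q - 1) * (q - 1) + (2 * q - 1) = q ^ 2 := by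
      obtain ⟨e, he⟩ := Nat.exists_eq_add_of_le hq.le
      rw [he, Nat.add_sub_cancel_left, show 2 * (1 + e) - 1 = 2 * e + 1 by omega]
      ring
    simp only [q] at h3 h4 h5 hq
    omega
  have hle : Subalgebra.toSubmodule (Algebra.adjoin F {z}) ≤ T := by
    rw [Algebra.adjoin_eq_span, Submodule.span_le]
    intro x hx
    obtain ⟨i, rfl⟩ := Submonoid.mem_closure_singleton.1 hx
    refine htw θ h _ b hb ?_
    rw [map_mul, map_pow, map_pow, show (Algebra.norm F) (γ : K) ^ (q - 1) = 1 from
      FiniteField.pow_card_sub_one_eq_one _ ((Algebra.norm_ne_zero_iff).2 γ.ne_zero), one_pow, mul_one]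
  haveI := Subalgebra.isSimpleOrder_of_finrank_prime F K hr
  rcases eq_bot_or_eq_top (Algebra.adjoin F {z}) with e | e
  · exact absurd (Algebra.mem_bot.1 (e ▸ Algebra.self_mem_adjoin_singleton F z)) hz
  · rw [e, Algebra.top_toSubmodule] at hle
    exact top_le_iff.1 hle

/-- One root element gives all root elements with the same coefficient. -/
theorem th_of_root (hr : (finrank F K).Prime) (hX : Base K X) {v : V} {φ : V →ₗ[K] K} (hv : v ≠ 0) (hφ : φ ≠ 0)
    (hφv : φ v = 0) {θ : K →ₗ[F] K} (h : U X (root v φ θ)) : Th X θ := by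
  classical
  have key : ∀ (v : V) (φ φ' : V →ₗ[K] K), v ≠ 0 → φ ≠ 0 → φ v = 0 → φ' v = 0 → U X (root v φ θ) →
      U X (root v φ' θ) := by
    intro v φ φ' hv hφ hφv hφ'v h
    by_cases hd : ∃ c : K, φ' = c • φ
    · obtain ⟨c, rfl⟩ := hd
      exact (twist_pair hr hX hv hφ hφv h 1 c).congr fun y => by simp
    push Not at hd
    set ψ := φ - φ'
    obtain ⟨w, hw, hw'⟩ : ∃ w, ψ w = 0 ∧ φ' w ≠ 0 := by
      by_contra! hall
      obtain ⟨x, hx⟩ : ∃ x, ψ x ≠ 0 := by
        by_contra! hall'
        exact hd 1 (by rw [one_smul]; exact (sub_eq_zero.1 (LinearMap.ext hall' : ψ = 0)).symm)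
      obtain ⟨c, hc0⟩ : ∃ c, c = φ' x / ψ x := ⟨_, rfl⟩
      have hc : ∀ y, φ' y = c * ψ y := fun y => by
        have h1 := hall (y - (ψ y / ψ x) • x) (by simp [hx])
        rw [map_sub, map_smul, sub_eq_zero, smul_eq_mul] at h1
        rw [h1, hc0]
        ring
      by_cases hc1 : 1 + c = 0
      · refine hφ (LinearMap.ext fun y => ?_)
        have h1 := hc y
        simp only [ψ, LinearMap.sub_apply] at h1
        simp only [LinearMap.zero_apply]
        rw [eq_neg_of_add_eq_zero_right hc1] at h1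
        linear_combination h1
      · refine hd (c / (1 + c)) (LinearMap.ext fun y => ?_)
        have h1 := hc y
        simp only [ψ, LinearMap.sub_apply] at h1
        rw [LinearMap.smul_apply, smul_eq_mul]
        field_simp
        linear_combination h1
    set w₁ := (φ' w)⁻¹ • w
    have hw₁ : ψ w₁ = 0 := by rw [map_smul, hw, smul_zero]
    have hw₂ : φ' w₁ = 1 := by rw [map_smul, smul_eq_mul, inv_mul_cancel₀ hw']
    have hg := mem_of_klinear hX (LinearEquiv.transvection hw₁) (by
      rw [LinearEquiv.transvection.coe_toLinearMap, LinearMap.transvection.det, hw₁, add_zero, map_one])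
    refine (h.conj hg).congr fun y => ?_
    set g := LinearEquiv.transvection hw₁
    have h1 : φ' y = φ (g.symm y) := by
      conv_lhs => rw [← g.apply_symm_apply y]
      show φ' (g.symm y + ψ (g.symm y) • w₁) = _
      rw [map_add, map_smul, hw₂, smul_eq_mul, mul_one, LinearMap.sub_apply]
      ring
    show g (θ (φ (g.symm y)) • v) = θ (φ' y) • v
    rw [map_smul, ← h1]
    show θ (φ' y) • (v + ψ v • w₁) = _
    rw [LinearMap.sub_apply, hφv, hφ'v, sub_zero, zero_smul, add_zero]
  intro v' φ' hφ'v'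
  rcases eq_or_ne v' 0 with rfl | hv'
  · exact U.zero.congr fun y => by simp
  by_cases hd : ∃ c : K, v' = c • v
  · obtain ⟨c, rfl⟩ := hd
    have hc : c ≠ 0 := fun e => hv' (by rw [e, zero_smul])
    have hφ'v : φ' v = 0 := by simpa [hc] using hφ'v'
    rcases eq_or_ne φ' 0 with rfl | hφ'
    · exact U.zero.congr fun y => by simp
    exact (twist_pair hr hX hv hφ' hφ'v (key v φ φ' hv hφ hφv hφ'v h) c 1).congr fun y => by
      simp [smul_smul, mul_comm]
  push Not at hd
  obtain ⟨ψ, hψv, hψ'⟩ := exists_functional (K := K) (u := v) (P := Submodule.span K {v' - v}) (fun hm => by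
    obtain ⟨c, hc⟩ := Submodule.mem_span_singleton.1 hm
    rcases eq_or_ne c 0 with rfl | hc0
    · exact hv (by rw [← hc, zero_smul])
    refine hd (c⁻¹ + 1) ?_
    rw [add_smul, one_smul]
    nth_rewrite 1 [← hc]
    rw [inv_smul_smul₀ hc0, sub_add_cancel])
  have hψ' : ψ (v' - v) = 0 := hψ' _ (Submodule.mem_span_singleton_self _)
  have hg := mem_of_klinear hX (LinearEquiv.transvection hψ') (by
    rw [LinearEquiv.transvection.coe_toLinearMap, LinearMap.transvection.det, hψ', add_zero, map_one])
  set g := LinearEquiv.transvection hψ'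
  have hgv : g v = v' := by
    show v + ψ v • (v' - v) = v'
    rw [hψv, one_smul, add_sub_cancel]
  refine key v' (φ.comp (g.symm : V →ₗ[K] V)) φ' hv' (fun e => hφ (LinearMap.ext fun y => ?_)) ?_ hφ'v' ?_
  · simpa using congrFun (congrArg DFunLike.coe e) (g y)
  · show φ (g.symm v') = 0
    rw [← hgv, g.symm_apply_apply, hφv]
  · refine (h.conj hg).congr fun y => ?_
    show g (θ (φ (g.symm y)) • v) = _
    rw [map_smul, hgv]
    rfl

/-- A coefficient of rank one gives all transvections over `F`. -/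
theorem transvection_of_rankOne (h2 : 2 ≤ finrank K V) {μ : K →ₗ[F] F} {a : K} (hμ : μ ≠ 0) (ha : a ≠ 0)
    (hθ : Th X (μ.smulRight a)) (z : V) (g : V →ₗ[F] F) (hgz : g z = 0) : U X (g.smulRight z) := by
  classical
  rcases eq_or_ne z 0 with rfl | hz
  · exact U.zero.congr fun y => by simp
  let B : K →ₗ[F] (K →ₗ[F] F) :=
    { toFun := fun c => μ.comp (mulL c)
      map_add' := fun c d => LinearMap.ext fun x => by simp [add_mul]
      map_smul' := fun s c => LinearMap.ext fun x => by simp }
  have hinj : Function.Injective B := by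
    rw [← LinearMap.ker_eq_bot, LinearMap.ker_eq_bot']
    intro c hc
    by_contra hc0
    exact hμ (LinearMap.ext fun x => by simpa [B, hc0] using congrFun (congrArg DFunLike.coe hc) (c⁻¹ * x))
  have hsurj : Function.Surjective B :=
    (LinearMap.injective_iff_surjective_of_finrank_eq_finrank (by rw [Subspace.dual_finrank_eq])).1 hinj
  choose Φ hΦ using fun y : V => hsurj (g.comp ((LinearMap.toSpanSingleton K V y).restrictScalars F))
  have hΦ' : ∀ y k, μ (Φ y * k) = g (k • y) := fun y k => congrFun (congrArg DFunLike.coe (hΦ y)) k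
  let φ : V →ₗ[K] K :=
    { toFun := Φ
      map_add' := fun x y => hinj (LinearMap.ext fun k => by
        show μ (Φ (x + y) * k) = μ ((Φ x + Φ y) * k)
        rw [hΦ', add_mul, map_add, hΦ', hΦ', smul_add, map_add])
      map_smul' := fun c y => hinj (LinearMap.ext fun k => by
        show μ (Φ (c • y) * k) = μ (c * Φ y * k)
        rw [hΦ', smul_smul, show c * Φ y * k = Φ y * (k * c) by ring, hΦ']) }
  have hg : ∀ y, μ (φ y) = g y := fun y => by
    show μ (Φ y) = g y
    simpa using hΦ' y 1
  have hroot : ∀ (z : V) (φ : V →ₗ[K] K), φ z = 0 →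
      U X ((μ.comp (φ.restrictScalars F)).smulRight z) := fun z φ h =>
    (hθ (a⁻¹ • z) φ (by rw [map_smul, h, smul_zero])).congr fun y => by
      simp [smul_assoc, smul_smul, ha]
  by_cases hφz : φ z = 0
  · exact (hroot z φ hφz).congr fun y => by simp [hg]
  obtain ⟨x, hx⟩ : ∃ x : V, x ∉ Submodule.span K {z} := by
    by_contra! hall
    have h1 := finrank_span_singleton (K := K) hz
    rw [Submodule.eq_top_iff'.2 hall, finrank_top] at h1
    omega
  set z' := x - (φ x / φ z) • z
  have hz'φ : φ z' = 0 := by simp [z', hφz]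
  have hz' : z' ∉ Submodule.span K {z} := fun h => hx (by
    have := Submodule.add_mem _ h (Submodule.smul_mem _ (φ x / φ z) (Submodule.mem_span_singleton_self z))
    rwa [sub_add_cancel] at this)
  obtain ⟨φ₁, h1, h1'⟩ := exists_functional (K := K) hz'
  obtain ⟨a₀, ha₀⟩ : ∃ a₀, μ a₀ = 1 := by
    obtain ⟨b, hb⟩ : ∃ b, μ b ≠ 0 := by
      by_contra! hall
      exact hμ (LinearMap.ext hall)
    exact ⟨(μ b)⁻¹ • b, by rw [map_smul, smul_eq_mul, inv_mul_cancel₀ hb]⟩
  have hT := hroot z (a₀ • φ₁) (by simp [h1' z (Submodule.mem_span_singleton_self z)])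
  have hS : U X (g.smulRight z') := (hroot z' φ hz'φ).congr fun y => by simp [hg]
  set f := μ.comp ((a₀ • φ₁).restrictScalars F) with hf
  have e1 : f z = 0 := by simp [hf, h1' z (Submodule.mem_span_singleton_self z)]
  have e2 : f z' = 1 := by simp [hf, h1, ha₀]
  have e3 : g z' = 0 := by simp [← hg, hz'φ]
  refine U.commutator hT hS (fun y => ?_) (fun y => ?_) fun y => ?_
  · simp [e1]
  · simp [e3]
  · simp [e1, e2, hgz]

end CfsgLib.Geo.FieldExt
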