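/-
When all commutator coefficients are scalar.
-/
import Cfsg.Agent.Lib.Geo.FieldExtLines

set_option autoImplicit false

namespace CfsgLib.Geo.FieldExt

open Module LinearMap

variable {F K : Type*} [Field F] [Field K] [Algebra F K]

/-- The coefficient is not a multiplication. -/
def NonScalar (θ : K →ₗ[F] K) : Prop := ∀ a : K, ∃ c, θ c ≠ a * c

/-- The coefficient of the commutator. -/
def comCoef (lam Q θ : K →ₗ[F] K) : K →ₗ[F] K := lam.comp θ - θ.comp Q - lam.comp (θ.comp Q)

@[simp] theorem comCoef_apply (lam Q θ : K →ₗ[F] K) (c : K) :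
    comCoef lam Q θ c = lam (θ c) - θ (Q c) - lam (θ (Q c)) := rfl

variable {A : Submodule F K} {lam Q : K →ₗ[F] K} (h1A : (1 : K) ∈ A) (hlA : ∀ c, lam c ∈ A)
  (hlz : ∀ c ∈ A, lam c = 0) (hQ : finrank F (LinearMap.range Q) + finrank F A ≤ finrank F K)
  (hQ1 : Q 1 ≠ 0) [FiniteDimensional F K]

include h1A hlA hlz hQ in
theorem nonScalar_of_fixed (h1 : Q 1 = 1) : NonScalar (comCoef lam Q (mulL 1)) := by
  intro a
  by_contra! hall
  have e1 := hall 1
  simp only [comCoef_apply, mulL_apply, one_mul, h1, mul_one] at e1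
  have ha : a = -1 := by rw [← e1]; ring
  have hsur : LinearMap.range Q = ⊤ := by
    refine LinearMap.range_eq_top.2 fun c => ⟨c, ?_⟩
    have e := hall c
    simp only [comCoef_apply, mulL_apply, one_mul, ha, neg_one_mul] at e
    have h2 : c - Q c = lam (Q c - c) := by rw [map_sub]; linear_combination e
    have h3 : lam (c - Q c) = 0 := hlz _ (h2 ▸ hlA _)
    rw [map_sub] at h2 h3
    linear_combination -h2 + h3
  rw [hsur, finrank_top] at hQ
  have : 0 < finrank F A := by
    rw [Module.finrank_pos_iff]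
    exact ⟨⟨⟨1, h1A⟩, 0, fun e => one_ne_zero (congrArg Subtype.val e)⟩⟩
  omega

include h1A hlA hlz hQ hQ1 in
theorem exists_nonScalar_of_three (hr : (finrank F K).Prime) (h3 : 3 ≤ finrank F K) (hA : A ≠ ⊤) :
    ∃ k : K, NonScalar (comCoef lam Q (mulL k)) := by
  by_contra! hall
  simp only [NonScalar, not_forall, not_exists, not_not] at hall
  choose a ha using hall
  let α : K →ₗ[F] K :=
    { toFun := fun k => comCoef lam Q (mulL k) 1
      map_add' := fun k l => by simp [add_mul]; ring
      map_smul' := fun s k => by simp [smul_sub] }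
  have hα : ∀ k c, lam (k * c) - k * Q c - lam (k * Q c) = α k * c := fun k c => by
    have h1 := ha k 1
    rw [mul_one] at h1
    show _ = comCoef lam Q (mulL k) 1 * c
    rw [h1, ← ha k c]
    rfl
  have hA0 : A ≠ ⊥ := fun e => one_ne_zero ((Submodule.mem_bot F).1 (e ▸ h1A))
  have hz : ∀ k, α k = 0 → ∀ c, lam (k * c) = k * Q c := fun k hk c => by
    have h1 := hα k c
    rw [hk, zero_mul] at h1
    have h2 : k * Q c = lam (k * c - k * Q c) := by rw [map_sub]; linear_combination -h1
    have h3 : lam (k * Q c) = 0 := hlz _ (h2 ▸ hlA _)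
    rw [map_sub, h3, sub_zero] at h2
    exact h2.symm
  have hnz : ∀ k, α k ≠ 0 → (LinearMap.ker Q).map (mulL (α k)) = A := fun k hk => by
    refine Submodule.eq_of_le_of_finrank_le ?_ ?_
    · rintro _ ⟨y, hy, rfl⟩
      rw [SetLike.mem_coe, LinearMap.mem_ker] at hy
      have h1 := hα k y
      rw [hy, mul_zero, map_zero, sub_zero, sub_zero] at h1
      rw [mulL_apply, ← h1]
      exact hlA _
    · rw [← (Submodule.equivMapOfInjective _ (fun x y e => mul_left_cancel₀ hk e) _).finrank_eq]
      have := LinearMap.finrank_range_add_finrank_ker Q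
      omega
  -- the range of `α` is at most one-dimensional
  have hrange : finrank F (LinearMap.range α) ≤ 1 := by
    by_cases h0 : ∃ k₀, α k₀ ≠ 0
    · obtain ⟨k₀, hk₀⟩ := h0
      refine (Submodule.finrank_mono (?_ : LinearMap.range α ≤ Submodule.span F {α k₀})).trans
        (finrank_span_singleton hk₀).le
      rintro _ ⟨l, rfl⟩
      rcases eq_or_ne (α l) 0 with e | hl
      · rw [e]
        exact zero_mem _
      have hstab : ∀ x ∈ A, α l / α k₀ * x ∈ A := by
        intro x hx
        rw [← hnz k₀ hk₀] at hx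
        obtain ⟨y, hy, rfl⟩ := hx
        rw [← hnz l hl, mulL_apply, ← mul_assoc, div_mul_cancel₀ _ hk₀]
        exact Submodule.mem_map_of_mem hy
      obtain ⟨s, hs⟩ := mem_range_of_stab hr hA0 hA hstab
      refine Submodule.mem_span_singleton.2 ⟨s, ?_⟩
      rw [Algebra.smul_def, hs, div_mul_cancel₀ _ hk₀]
    · push Not at h0
      rw [show α = 0 from LinearMap.ext h0, LinearMap.range_zero, finrank_bot]
      omega
  have hker : 2 ≤ finrank F (LinearMap.ker α) := by
    have := LinearMap.finrank_range_add_finrank_ker α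
    omega
  obtain ⟨k, hk, hk0⟩ := (Submodule.ne_bot_iff (LinearMap.ker α)).1 (fun e => by
    rw [e, finrank_bot] at hker
    omega)
  have hlam : LinearMap.ker lam ≠ ⊤ := fun e => by
    have h1 := hz k hk 1
    rw [LinearMap.ker_eq_top.1 e, LinearMap.zero_apply] at h1
    exact mul_ne_zero hk0 hQ1 h1.symm
  have hlam0 : LinearMap.ker lam ≠ ⊥ := fun e =>
    hA0 (eq_bot_iff.2 fun x hx => e ▸ LinearMap.mem_ker.2 (hlz x hx))
  have hle : LinearMap.ker α ≤ Submodule.span F {k} := by
    intro l hl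
    obtain ⟨s, hs⟩ := mem_range_of_stab hr hlam0 hlam (c := l / k) (fun x hx => by
      rw [LinearMap.mem_ker] at hx ⊢
      have h1 := hz k hk (x / k)
      rw [mul_div_cancel₀ _ hk0, hx, eq_comm, mul_eq_zero] at h1
      rw [show l / k * x = l * (x / k) by ring, hz l hl, h1.resolve_left hk0, mul_zero])
    refine Submodule.mem_span_singleton.2 ⟨s, ?_⟩
    rw [Algebra.smul_def, hs, div_mul_cancel₀ _ hk0]
  have h4 := Submodule.finrank_mono hle
  rw [finrank_span_singleton hk0] at h4
  omega

include h1A hlA hlz hQ hQ1 in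
theorem quadratic_of_scalar (h2 : finrank F K = 2) (hA : A ≠ ⊤)
    (hall : ∀ k : K, ¬ NonScalar (comCoef lam Q (mulL k))) :
    Q 1 * Q 1 + lam (Q 1) * Q 1 + lam (Q 1) = 0 := by
  simp only [NonScalar, not_forall, not_exists, not_not] at hall
  choose a ha using hall
  have hA1 : Submodule.span F {(1 : K)} = A := by
    refine Submodule.eq_of_le_of_finrank_le ((Submodule.span_singleton_le_iff_mem _ _).2 h1A) ?_
    rw [finrank_span_singleton one_ne_zero]
    have := Submodule.finrank_lt hA
    omega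
  have hAF : ∀ c, c ∈ A ↔ c ∈ Set.range (algebraMap F K) := fun c => by
    rw [← hA1, Submodule.mem_span_singleton, Set.mem_range]
    simp [Algebra.algebraMap_eq_smul_one]
  have hl1 : lam 1 = 0 := hlz 1 h1A
  obtain ⟨p, hp⟩ : ∃ p, Q 1 = p := ⟨_, rfl⟩
  rw [hp] at hQ1 ⊢
  obtain ⟨c₀, hc₀, hc₀'⟩ := (Submodule.ne_bot_iff (LinearMap.ker Q)).1 (fun e => by
    have := LinearMap.finrank_range_add_finrank_ker Q
    have hA2 : finrank F A = 1 := by rw [← hA1, finrank_span_singleton one_ne_zero]
    rw [e, finrank_bot] at this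
    omega)
  rw [LinearMap.mem_ker] at hc₀
  have hc₀F : c₀ ∉ A := fun hm => by
    obtain ⟨s, rfl⟩ := (hAF _).1 hm
    rw [Algebra.algebraMap_eq_smul_one, map_smul, smul_eq_zero] at hc₀
    exact hc₀' (by rw [hc₀.resolve_right (by rw [hp]; exact hQ1), map_zero])
  have ek := ha p⁻¹ 1
  have ek' := ha p⁻¹ c₀
  simp only [comCoef_apply, mulL_apply, mul_one, hp, inv_mul_cancel₀ hQ1, hl1, sub_zero] at ek
  simp only [comCoef_apply, mulL_apply, hc₀, mul_zero, map_zero, sub_zero] at ek'
  have hl : lam p⁻¹ = 1 := by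
    have h1 : a p⁻¹ = 0 := by
      by_contra h
      have h3 : lam p⁻¹ - 1 ∈ A := A.sub_mem (hlA _) h1A
      rw [ek] at h3
      obtain ⟨s, hs⟩ := (hAF _).1 h3
      obtain ⟨t, ht⟩ := (hAF _).1 (hlA (p⁻¹ * c₀))
      refine hc₀F ((hAF _).2 ⟨t / s, ?_⟩)
      rw [map_div₀, ht, hs, ek', mul_div_cancel_left₀ _ h]
    rw [h1, sub_eq_zero] at ek
    exact ek
  have ek'' : lam (p⁻¹ * c₀) = 0 := by
    rw [ek', ← ek, hl, sub_self, zero_mul]
  have hm : p⁻¹ * c₀ ∈ A := by
    by_contra hm
    have hlt : A < LinearMap.ker lam := lt_of_le_of_ne (fun x hx => LinearMap.mem_ker.2 (hlz x hx))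
      (fun e => hm (e.symm ▸ LinearMap.mem_ker.2 ek''))
    have h3 := Submodule.finrank_lt_finrank_of_lt hlt
    have h4 : LinearMap.ker lam < ⊤ := lt_top_iff_ne_top.2 fun e => by
      rw [LinearMap.ker_eq_top.1 e, LinearMap.zero_apply] at hl
      exact zero_ne_one hl
    have h5 := Submodule.finrank_lt_finrank_of_lt h4
    rw [← hA1, finrank_span_singleton one_ne_zero] at h3
    rw [finrank_top] at h5
    omega
  obtain ⟨s, hs⟩ := (hAF _).1 hm
  have hQp : Q p = 0 := by
    have e : c₀ = s • p := by rw [Algebra.smul_def, hs, mul_comm, mul_inv_cancel_left₀ hQ1]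
    rw [e, map_smul, smul_eq_zero] at hc₀
    exact hc₀.resolve_left fun e' => hc₀' (by rw [e, e', zero_smul])
  have e1 := ha 1 1
  have e2 := ha 1 p
  simp only [comCoef_apply, mulL_apply, one_mul, mul_one, hp, hl1, zero_sub] at e1
  simp only [comCoef_apply, mulL_apply, one_mul, hQp, map_zero, sub_zero] at e2
  rw [← e1] at e2
  linear_combination e2

end CfsgLib.Geo.FieldExt
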