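/-
An overgroup outside the semilinear group: maximal intersections of images of lines with lines.
-/
import Cfsg.Agent.Lib.Geo.FieldExtLines

set_option autoImplicit false

namespace CfsgLib.Geo.FieldExt

open Module LinearMap

variable {F K V : Type*} [Field F] [Field K] [Algebra F K] [AddCommGroup V] [Module F V] [Module K V]
  [IsScalarTower F K V]

/-- The image of a line is not a line. -/
def Trip (K : Type*) [Field K] [Algebra F K] [Module K V] [IsScalarTower F K V] (X : Subgroup (V ≃ₗ[F] V))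
    (h : V ≃ₗ[F] V) (v v' : V) : Prop :=
  h ∈ X ∧ v ≠ 0 ∧ v' ≠ 0 ∧ ∀ w : V, (line (F := F) K v).map (h : V →ₗ[F] V) ≠ line K w

/-- A triple with the largest intersection, normalised. -/
structure MaxTrip (K : Type*) [Field K] [Algebra F K] [Module K V] [IsScalarTower F K V]
    (X : Subgroup (V ≃ₗ[F] V)) (h : V ≃ₗ[F] V) (v v' : V) : Prop where
  trip : Trip K X h v v'
  mem : v' ∈ (line (F := F) K v).map (h : V →ₗ[F] V)
  max : ∀ k u u', Trip K X k u u' →
    finrank F ((line (F := F) K u).map (k : V →ₗ[F] V) ⊓ line K u' : Submodule F V) ≤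
      finrank F ((line (F := F) K v).map (h : V →ₗ[F] V) ⊓ line K v' : Submodule F V)

variable [FiniteDimensional F K] [FiniteDimensional K V] {X : Subgroup (V ≃ₗ[F] V)}

theorem finrank_img (h : V ≃ₗ[F] V) {v : V} (hv : v ≠ 0) :
    finrank F ((line (F := F) K v).map (h : V →ₗ[F] V)) = finrank F K := by
  rw [← (Submodule.equivMapOfInjective _ h.injective _).finrank_eq, finrank_line hv]

theorem exists_maxTrip (h2 : 2 ≤ finrank K V) {g : V ≃ₗ[F] V} (hg : g ∈ X)
    (hns : ¬ ∀ k : K, ∃ k' : K, ∀ y, g (k • y) = k' • g y) : ∃ h v v', MaxTrip K X h v v' := by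
  classical
  haveI : Module.Finite F V := Module.Finite.trans K V
  obtain ⟨v, hv, hline⟩ : ∃ v : V, v ≠ 0 ∧ ∀ w, (line (F := F) K v).map (g : V →ₗ[F] V) ≠ line K w := by
    by_contra! hall
    exact hns fun k => semilinear_of_lines h2 g hall k
  let P : ℕ → Prop := fun j => ∃ k u u', Trip K X k u u' ∧
    finrank F ((line (F := F) K u).map (k : V →ₗ[F] V) ⊓ line K u' : Submodule F V) = j
  have hgv : g v ≠ 0 := by simpa using hv
  set j₀ := finrank F ((line (F := F) K v).map (g : V →ₗ[F] V) ⊓ line K (g v) : Submodule F V)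
  have hP : P j₀ := ⟨g, v, g v, ⟨hg, hv, hgv, hline⟩, rfl⟩
  have hb : ∀ j, P j → j ≤ finrank F K := by
    rintro j ⟨k, u, u', hk, rfl⟩
    exact (Submodule.finrank_mono inf_le_left).trans (finrank_img k hk.2.1).le
  obtain ⟨k, u, u', hk, hkj⟩ : P (Nat.findGreatest P (finrank F K)) := Nat.findGreatest_spec (hb _ hP) hP
  have hpos : 0 < Nat.findGreatest P (finrank F K) := by
    refine lt_of_lt_of_le ?_ (Nat.le_findGreatest (hb _ hP) hP)
    rw [Module.finrank_pos_iff]
    exact ⟨⟨⟨g v, Submodule.mem_map_of_mem (self_mem_line v), self_mem_line _⟩, 0,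
      fun e => hgv (congrArg Subtype.val e)⟩⟩
  obtain ⟨x, hx, hx0⟩ := (Submodule.ne_bot_iff _).1 (fun e => by
    rw [e, finrank_bot] at hkj
    omega : (line (F := F) K u).map (k : V →ₗ[F] V) ⊓ line K u' ≠ ⊥)
  refine ⟨k, u, x, ⟨hk.1, hk.2.1, hx0, hk.2.2.2⟩, hx.1, fun k₂ u₂ u₂' h₂ => ?_⟩
  rw [line_eq hx.2 hx0, hkj]
  exact Nat.le_findGreatest (hb _ ⟨k₂, u₂, u₂', h₂, rfl⟩) ⟨k₂, u₂, u₂', h₂, rfl⟩

variable {h : V ≃ₗ[F] V} {v v' : V}

/-- Coefficients of the image inside the line of `v'`. -/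
def coef (K : Type*) [Field K] [Algebra F K] [Module K V] [IsScalarTower F K V] (h : V ≃ₗ[F] V) (v v' : V) :
    Submodule F K :=
  ((line (F := F) K v).map (h : V →ₗ[F] V)).comap ((LinearMap.toSpanSingleton K V v').restrictScalars F)

theorem mem_coef {c : K} : c ∈ coef (F := F) K h v v' ↔ c • v' ∈ (line (F := F) K v).map (h : V →ₗ[F] V) := Iff.rfl

theorem finrank_coef (hv' : v' ≠ 0) : finrank F (coef (F := F) K h v v') =
    finrank F ((line (F := F) K v).map (h : V →ₗ[F] V) ⊓ line K v' : Submodule F V) := by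
  have hinj : Function.Injective ((LinearMap.toSpanSingleton K V v').restrictScalars F) :=
    fun a b e => smul_left_injective K hv' e
  have e : (coef (F := F) K h v v').map ((LinearMap.toSpanSingleton K V v').restrictScalars F) =
      (line (F := F) K v).map (h : V →ₗ[F] V) ⊓ line K v' := by
    ext x
    constructor
    · rintro ⟨c, hc, rfl⟩
      exact ⟨hc, mem_line.2 ⟨c, rfl⟩⟩
    · rintro ⟨hx, hx'⟩
      obtain ⟨c, rfl⟩ := mem_line.1 hx'
      exact ⟨c, hx, rfl⟩
  rw [(Submodule.equivMapOfInjective _ hinj _).finrank_eq, e]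

theorem MaxTrip.one_mem_coef (ht : MaxTrip K X h v v') : (1 : K) ∈ coef (F := F) K h v v' := by
  rw [mem_coef, one_smul]
  exact ht.mem

theorem MaxTrip.coef_ne_top (ht : MaxTrip K X h v v') : coef (F := F) K h v v' ≠ ⊤ := by
  intro e
  haveI : Module.Finite F V := Module.Finite.trans K V
  refine ht.trip.2.2.2 v' (Submodule.eq_of_le_of_finrank_le ?_ ?_).symm
  · intro x hx
    obtain ⟨c, rfl⟩ := mem_line.1 hx
    exact mem_coef.1 (e ▸ Submodule.mem_top)
  · rw [finrank_img h ht.trip.2.1, finrank_line ht.trip.2.2.1]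

theorem MaxTrip.coef_ne_bot (ht : MaxTrip K X h v v') : coef (F := F) K h v v' ≠ ⊥ := fun e =>
  one_ne_zero ((Submodule.mem_bot F).1 (e ▸ ht.one_mem_coef))

/-- An element fixing the intersection and one more vector of the image stabilises the image. -/
theorem MaxTrip.map_mem (ht : MaxTrip K X h v v') {s : V ≃ₗ[F] V} (hs : s ∈ X) {u : V}
    (hu : u ∈ (line (F := F) K v).map (h : V →ₗ[F] V)) (hun : u ∉ line (F := F) K v') (hsu : s u = u)
    (hsA : ∀ x ∈ (line (F := F) K v).map (h : V →ₗ[F] V), x ∈ line (F := F) K v' → s x = x) :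
    ∀ x ∈ (line (F := F) K v).map (h : V →ₗ[F] V), s x ∈ (line (F := F) K v).map (h : V →ₗ[F] V) := by
  haveI : Module.Finite F V := Module.Finite.trans K V
  set W := (line (F := F) K v).map (h : V →ₗ[F] V)
  set A₁ := (W ⊓ line (F := F) K v') ⊔ Submodule.span F {u}
  have hA₁ : ∀ x ∈ A₁, x ∈ W ∧ s x = x := by
    intro x hx
    obtain ⟨a, ha, b, hb, rfl⟩ := Submodule.mem_sup.1 hx
    obtain ⟨c, rfl⟩ := Submodule.mem_span_singleton.1 hb
    exact ⟨add_mem ha.1 (W.smul_mem c hu), by rw [map_add, map_smul, hsu, hsA a ha.1 ha.2]⟩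
  have hlt : finrank F (W ⊓ line (F := F) K v' : Submodule F V) < finrank F A₁ :=
    Submodule.finrank_lt_finrank_of_lt (lt_of_le_of_ne le_sup_left fun e => hun
      ((e.symm ▸ Submodule.mem_sup_right (Submodule.mem_span_singleton_self u) :
        u ∈ W ⊓ line (F := F) K v')).2)
  set k := h⁻¹ * s * h
  have hk : k ∈ X := X.mul_mem (X.mul_mem (X.inv_mem ht.trip.1) hs) ht.trip.1
  have hkmem : ∀ x ∈ A₁, h.symm x ∈ (line (F := F) K v).map (k : V →ₗ[F] V) ⊓ line K v := by
    intro x hx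
    obtain ⟨⟨y, hy, rfl⟩, hsx⟩ := hA₁ x hx
    refine ⟨⟨y, hy, ?_⟩, by simpa using hy⟩
    show h.symm (s (h y)) = h.symm (h y)
    rw [show s (h y) = h y from hsx]
  have hle : finrank F A₁ ≤ finrank F ((line (F := F) K v).map (k : V →ₗ[F] V) ⊓ line K v : Submodule F V) := by
    rw [(Submodule.equivMapOfInjective _ h.symm.injective A₁).finrank_eq]
    refine Submodule.finrank_mono ?_
    rintro _ ⟨x, hx, rfl⟩
    exact hkmem x hx
  by_cases hl : ∃ w, (line (F := F) K v).map (k : V →ₗ[F] V) = line K w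
  · obtain ⟨w, hw⟩ := hl
    have h1 := hkmem u (Submodule.mem_sup_right (Submodule.mem_span_singleton_self u))
    have hu0 : h.symm u ≠ 0 := fun e => hun (by
      rw [show u = 0 by simpa using e]
      exact zero_mem _)
    have h2 : line (F := F) K w = line K v :=
      (line_eq (hw ▸ h1.1) hu0).symm.trans (line_eq h1.2 hu0)
    rintro x ⟨y, hy, rfl⟩
    have h3 : k y ∈ line (F := F) K v := h2 ▸ hw ▸ Submodule.mem_map_of_mem hy
    refine ⟨k y, h3, ?_⟩
    show h (h.symm (s (h y))) = s (h y)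
    rw [h.apply_symm_apply]
  · push Not at hl
    exact absurd (ht.max k v v ⟨hk, ht.trip.2.1, ht.trip.2.1, hl⟩) (not_le.2 (hlt.trans_le hle))

/-- The properties of the unipotent attached to a maximal triple. -/
structure Eta (K : Type*) [Field K] [Algebra F K] [Module K V] [IsScalarTower F K V]
    (X : Subgroup (V ≃ₗ[F] V)) (h : V ≃ₗ[F] V) (v v' : V) (η : V →ₗ[F] V) : Prop where
  mem : U X η
  range : LinearMap.range η = (line (F := F) K v).map (h : V →ₗ[F] V)
  zero : ∀ x ∈ (line (F := F) K v).map (h : V →ₗ[F] V), η x = 0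
  stable : ∀ x ∈ line (F := F) K v', η x ∈ line (F := F) K v'

theorem Eta.sq {η : V →ₗ[F] V} (he : Eta K X h v v' η) (y : V) : η (η y) = 0 :=
  he.zero _ (he.range ▸ LinearMap.mem_range_self η y)

/-- The conjugate transvections. -/
theorem exists_conj_transvection_of (hh : h ∈ X) (hv : v ≠ 0) {φ : V →ₗ[K] K} (hφ : φ ≠ 0)
    (hφv : φ v = 0) (htr : U X (root v φ (LinearMap.id : K →ₗ[F] K))) {η : V →ₗ[F] V} (hη : ∀ y, η y = h (φ (h.symm y) • v)) :
    U X η ∧ LinearMap.range η = (line (F := F) K v).map (h : V →ₗ[F] V) ∧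
      ∀ x ∈ (line (F := F) K v).map (h : V →ₗ[F] V), η x = 0 := by
  refine ⟨(htr.conj hh).congr fun y => (hη y).symm, ?_, ?_⟩
  · ext x
    constructor
    · rintro ⟨y, rfl⟩
      rw [hη]
      exact Submodule.mem_map_of_mem (mem_line.2 ⟨_, rfl⟩)
    · rintro ⟨z, hz, rfl⟩
      obtain ⟨c, rfl⟩ := mem_line.1 hz
      obtain ⟨u, hu⟩ : ∃ u, φ u ≠ 0 := by
        by_contra! hall
        exact hφ (LinearMap.ext hall)
      refine ⟨h ((c / φ u) • u), ?_⟩
      rw [hη, h.symm_apply_apply, show φ ((c / φ u) • u) = c by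
        rw [map_smul, smul_eq_mul, div_mul_cancel₀ _ hu]]
      rfl
  · rintro x ⟨z, hz, rfl⟩
    obtain ⟨c, rfl⟩ := mem_line.1 hz
    simp [hη, hφv]

theorem exists_conj_transvection (hX : Base K X) (hh : h ∈ X) (hv : v ≠ 0) {φ : V →ₗ[K] K} (hφ : φ ≠ 0)
    (hφv : φ v = 0) {η : V →ₗ[F] V} (hη : ∀ y, η y = h (φ (h.symm y) • v)) :
    U X η ∧ LinearMap.range η = (line (F := F) K v).map (h : V →ₗ[F] V) ∧
      ∀ x ∈ (line (F := F) K v).map (h : V →ₗ[F] V), η x = 0 :=
  exists_conj_transvection_of hh hv hφ hφv (U.transvection hX v φ hφv) hη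

/-- A family of unipotents attached to a maximal triple, from the transvections along one functional. -/
theorem exists_eta_of (ht : MaxTrip K X h v v') {φ₁ : V →ₗ[K] K} {x₀ : V} (hφ₁ : φ₁ x₀ = 1) (hφ₁v : φ₁ v = 0)
    (htr : ∀ k : K, U X (root v (k • φ₁) (LinearMap.id : K →ₗ[F] K))) :
    ∃ η : V →ₗ[F] V, ∀ s : F, s ≠ 0 → Eta K X h v v' (s • η) := by
  haveI : Module.Finite F V := Module.Finite.trans K V
  obtain ⟨hh, hv, hv', -⟩ := ht.trip
  obtain ⟨e, he⟩ : ∃ e, e ∉ coef (F := F) K h v v' := by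
    by_contra! hall
    exact ht.coef_ne_top (Submodule.eq_top_iff'.2 hall)
  obtain ⟨z, hz, hzv⟩ := ht.mem
  obtain ⟨c₀, rfl⟩ := mem_line.1 hz
  have hzv : h (c₀ • v) = v' := hzv
  obtain ⟨k, hk, hkT⟩ : ∃ k : K, k ≠ 0 ∧ h ((k * φ₁ (h.symm (e • v'))) • v) ∈ line (F := F) K v' := by
    by_cases hc : φ₁ (h.symm (e • v')) = 0
    · exact ⟨1, one_ne_zero, by simp [hc]⟩
    · refine ⟨c₀ / φ₁ (h.symm (e • v')), div_ne_zero (fun e' => hv' ?_) hc, ?_⟩
      · rw [← hzv, e', zero_smul, map_zero]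
      · rw [div_mul_cancel₀ _ hc, hzv]
        exact self_mem_line v'
  let η : V →ₗ[F] V :=
    (h : V →ₗ[F] V).comp ((root v (k • φ₁) (LinearMap.id : K →ₗ[F] K)).comp (h.symm : V →ₗ[F] V))
  refine ⟨η, fun s hs => ?_⟩
  obtain ⟨hU, hrange, hzero⟩ := exists_conj_transvection_of (η := s • η) hh hv
    (φ := (algebraMap F K s * k) • φ₁)
    (fun h0 => by
      have := congrFun (congrArg DFunLike.coe h0) x₀
      rw [LinearMap.smul_apply, hφ₁, smul_eq_mul, mul_one] at this
      exact mul_ne_zero ((map_ne_zero _).2 hs) hk this)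
    (by simp [hφ₁v]) (htr _) (fun y => by
      simp [η, ← map_smul, mul_assoc, ← Algebra.smul_def, smul_assoc])
  refine ⟨hU, hrange, hzero, ?_⟩
  obtain ⟨x, hx, hx₁⟩ := hU
  have hxA : ∀ z ∈ (line (F := F) K v).map (h : V →ₗ[F] V), x z = z := fun z hz => by
    rw [hx₁, hzero z hz, add_zero]
  by_cases hl : ∃ w, (line (F := F) K v').map (x : V →ₗ[F] V) = line K w
  · obtain ⟨w, hw⟩ := hl
    have h1 : v' ∈ line (F := F) K w := hw ▸ ⟨v', self_mem_line v', hxA v' ht.mem⟩
    rw [← line_eq h1 hv'] at hw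
    intro z hz
    have h2 : x z ∈ line (F := F) K v' := hw ▸ Submodule.mem_map_of_mem hz
    have h3 := sub_mem h2 hz
    rwa [hx₁, add_sub_cancel_left] at h3
  · exfalso
    push Not at hl
    set W := (line (F := F) K v).map (h : V →ₗ[F] V)
    set A₁ := (W ⊓ line (F := F) K v') ⊔ Submodule.span F {x (e • v')}
    have hxe : x (e • v') ∈ line (F := F) K v' := by
      rw [hx₁]
      refine add_mem (mem_line.2 ⟨e, rfl⟩) ?_
      rw [LinearMap.smul_apply]
      exact Submodule.smul_mem _ s (by simpa [η] using hkT)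
    have hle : A₁ ≤ (line (F := F) K v').map (x : V →ₗ[F] V) ⊓ line K v' := by
      refine sup_le (fun z hz => ⟨⟨z, hz.2, hxA z hz.1⟩, hz.2⟩) ?_
      rw [Submodule.span_le, Set.singleton_subset_iff]
      exact ⟨Submodule.mem_map_of_mem (mem_line.2 ⟨e, rfl⟩), hxe⟩
    have hlt : finrank F (W ⊓ line (F := F) K v' : Submodule F V) < finrank F A₁ := by
      refine Submodule.finrank_lt_finrank_of_lt (lt_of_le_of_ne le_sup_left fun e' => he ?_)
      have h1 : x (e • v') ∈ W :=
        ((e'.symm ▸ Submodule.mem_sup_right (Submodule.mem_span_singleton_self _) :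
          x (e • v') ∈ W ⊓ line (F := F) K v')).1
      have h2 : (s • η) (e • v') ∈ W := hrange ▸ LinearMap.mem_range_self (s • η) (e • v')
      rw [hx₁] at h1
      exact mem_coef.2 ((Submodule.add_mem_iff_left _ h2).1 h1)
    exact absurd (ht.max x v' v' ⟨hx, hv', hv', hl⟩)
      (not_le.2 (hlt.trans_le (Submodule.finrank_mono hle)))

/-- A family of unipotents attached to a maximal triple. -/
theorem exists_eta (h2 : 2 ≤ finrank K V) (hX : Base K X) (ht : MaxTrip K X h v v') :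
    ∃ η : V →ₗ[F] V, ∀ s : F, s ≠ 0 → Eta K X h v v' (s • η) := by
  obtain ⟨-, hv, -⟩ := ht.trip
  obtain ⟨x₀, hx₀⟩ : ∃ x : V, x ∉ Submodule.span K {v} := by
    by_contra! hall
    have h1 := finrank_span_singleton (K := K) hv
    rw [Submodule.eq_top_iff'.2 hall, finrank_top] at h1
    omega
  obtain ⟨φ₁, hφ₁, hφ₁v⟩ := exists_functional (K := K) hx₀
  have hφ₁v : φ₁ v = 0 := hφ₁v v (Submodule.mem_span_singleton_self v)
  exact exists_eta_of ht hφ₁ hφ₁v fun k => U.transvection hX v _ (by simp [hφ₁v])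

end CfsgLib.Geo.FieldExt
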