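/-
Commutators with the unipotent of a maximal triple: a non-scalar coefficient, then one of rank one.
-/
import Cfsg.Agent.Lib.Geo.FieldExtMax
import Cfsg.Agent.Lib.Geo.FieldExtAlg

set_option autoImplicit false

namespace CfsgLib.Geo.FieldExt

open Module LinearMap

variable {F K V : Type*} [Field F] [Fintype F] [Field K] [Algebra F K] [AddCommGroup V] [Module F V] [Module K V]
  [IsScalarTower F K V] [FiniteDimensional F K] [FiniteDimensional K V]
  {X : Subgroup (V ≃ₗ[F] V)} {h : V ≃ₗ[F] V} {v v' : V} {η : V →ₗ[F] V}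

/-- The coefficient data of `η`. -/
theorem exists_data (ht : MaxTrip K X h v v') (he : Eta K X h v v' η) {u : V} {φ : V →ₗ[K] K} (hφv' : φ v' = 0) :
    ∃ lam Q : K →ₗ[F] K, (∀ c, lam c • v' = η (c • v')) ∧ (∀ c, lam c ∈ coef (F := F) K h v v') ∧
      (∀ c ∈ coef (F := F) K h v v', lam c = 0) ∧ (∀ c, Q c = φ (η (c • u))) ∧
      finrank F (LinearMap.range Q) + finrank F (coef (F := F) K h v v') ≤ finrank F K := by
  classical
  haveI : Module.Finite F V := Module.Finite.trans K V
  obtain ⟨π, hπ⟩ := exists_functional' (K := K) ht.trip.2.2.1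
  let lam : K →ₗ[F] K :=
    (π.restrictScalars F).comp (η.comp ((LinearMap.toSpanSingleton K V v').restrictScalars F))
  have hlam : ∀ c, lam c • v' = η (c • v') := fun c => by
    obtain ⟨d, hd⟩ := mem_line.1 (he.stable _ (mem_line.2 ⟨c, rfl⟩))
    show π (η (c • v')) • v' = _
    rw [← hd, map_smul, hπ, smul_eq_mul, mul_one]
  let Q : K →ₗ[F] K := (φ.restrictScalars F).comp (η.comp ((LinearMap.toSpanSingleton K V u).restrictScalars F))
  refine ⟨lam, Q, hlam, fun c => ?_, fun c hc => ?_, fun _ => rfl, ?_⟩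
  · rw [mem_coef, hlam, ← he.range]
    exact LinearMap.mem_range_self η _
  · exact (smul_eq_zero.1 ((hlam c).trans (he.zero _ (mem_coef.1 hc)))).resolve_right ht.trip.2.2.1
  set W := (line (F := F) K v).map (h : V →ₗ[F] V)
  have hle : LinearMap.range Q ≤ W.map (φ.restrictScalars F) := by
    rintro _ ⟨c, rfl⟩
    exact ⟨η (c • u), (SetLike.ext_iff.1 he.range _).1 (LinearMap.mem_range_self η _), rfl⟩
  have h1 := LinearMap.finrank_range_add_finrank_ker ((φ.restrictScalars F).comp W.subtype)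
  rw [LinearMap.range_comp, Submodule.range_subtype, finrank_img h ht.trip.2.1] at h1
  have h2 : finrank F (coef (F := F) K h v v') ≤
      finrank F (LinearMap.ker ((φ.restrictScalars F).comp W.subtype)) := by
    rw [finrank_coef ht.trip.2.2.1, ← (Submodule.comapSubtypeEquivOfLe (inf_le_left :
      W ⊓ line (F := F) K v' ≤ W)).finrank_eq]
    refine Submodule.finrank_mono fun x hx => ?_
    obtain ⟨c, hc⟩ := mem_line.1 (Submodule.mem_comap.1 hx).2
    rw [LinearMap.mem_ker, LinearMap.comp_apply]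
    show φ x.1 = 0
    rw [show x.1 = c • v' from hc.symm, map_smul, hφv', smul_zero]
  have := Submodule.finrank_mono hle
  omega

/-- The commutator with a root element on the line of `v'`. -/
theorem th_comCoef (hr : (finrank F K).Prime) (hX : Base K X) (ht : MaxTrip K X h v v')
    (he : Eta K X h v v' η) {u : V} {φ : V →ₗ[K] K} (hu : φ u = 1) (hφv' : φ v' = 0) {lam Q θ : K →ₗ[F] K}
    (hlam : ∀ c, lam c • v' = η (c • v')) (hQ : ∀ c, Q c = φ (η (c • u))) (hθ : U X (root v' φ θ)) :
    Th X (comCoef lam Q θ) := by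
  classical
  set α := root v' φ θ
  have hαα : ∀ y, α (α y) = 0 := fun y => by simp [α, hφv']
  have hαL : ∀ c : K, α (c • v') = 0 := fun c => by simp [α, hφv']
  have hηα : ∀ y, η (α y) = lam (θ (φ y)) • v' := fun y => by rw [hlam]; rfl
  have hαηα : ∀ y, α (η (α y)) = 0 := fun y => by rw [hηα, hαL]
  let ζ : V →ₗ[F] V := η.comp α - α.comp η - η.comp (α.comp η)
  have hζ : U X ζ := U.commutator he.mem hθ he.sq hαα fun y => by
    simp [ζ, hαηα]
  have hζu : ∀ c : K, ζ (c • u) = comCoef lam Q θ c • v' := fun c => by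
    have hαc : ∀ y, α y = θ (φ y) • v' := fun y => rfl
    simp only [ζ, LinearMap.sub_apply, LinearMap.comp_apply, hηα, comCoef_apply, sub_smul]
    rw [hαc (η (c • u)), ← hQ, map_smul, hu, smul_eq_mul, mul_one]
  have hζL : ∀ c : K, ζ (c • v') = 0 := fun c => by
    simp [ζ, hαL, ← hlam]
  have hζim : ∀ y, ∃ d : K, d • v' = ζ y := fun y => mem_line.1 (by
    have hα : ∀ z, α z ∈ line (F := F) K v' := fun z => mem_line.2 ⟨_, rfl⟩
    exact sub_mem (sub_mem (he.stable _ (hα _)) (hα _)) (he.stable _ (hα _)))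
  have hu0 : u ≠ 0 := fun e => by simp [e] at hu
  by_cases hx : ∃ x₀, x₀ ∉ Submodule.span K {v', u}
  · obtain ⟨x₀, hx₀⟩ := hx
    obtain ⟨φ₂, h₂, h₂'⟩ := exists_functional (K := K) hx₀
    have hv2 : φ₂ v' = 0 := h₂' _ (Submodule.subset_span (by simp))
    have hu2 : φ₂ u = 0 := h₂' _ (Submodule.subset_span (by simp))
    refine th_of_root hr hX ht.trip.2.2.1 (fun e => by simp [e] at h₂) hv2 (U.commutator hζ (U.transvection hX u φ₂ hu2)
      (fun y => ?_) (fun y => by simp [hu2]) fun y => ?_)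
    · obtain ⟨d, hd⟩ := hζim y
      rw [← hd, hζL]
    · obtain ⟨d, hd⟩ := hζim y
      simp [← hd, hζu, hv2]
  · push Not at hx
    refine th_of_root hr hX ht.trip.2.2.1 (φ := φ) (fun e => by simp [e] at hu) hφv' (hζ.congr fun y => ?_)
    obtain ⟨a, b, hab⟩ := Submodule.mem_span_pair.1 (hx y)
    rw [root_apply, ← hab, map_add, hζL, hζu, map_add, map_smul, map_smul, hφv', hu, smul_zero, smul_eq_mul, mul_one]
    simp

/-- A non-scalar coefficient. -/
theorem exists_nonScalar (hr : (finrank F K).Prime) (h2 : 2 ≤ finrank K V) (hX : Base K X)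
    (hbig : 3 ≤ finrank F K ∨ 3 ≤ finrank K V ∨ 3 ≤ Fintype.card F) (ht : MaxTrip K X h v v')
    (he : ∀ s : F, s ≠ 0 → Eta K X h v v' (s • η)) : ∃ θ : K →ₗ[F] K, Th X θ ∧ NonScalar θ := by
  classical
  haveI : Module.Finite F V := Module.Finite.trans K V
  have he1 : Eta K X h v v' η := by simpa using he 1 one_ne_zero
  obtain ⟨-, hv, hv', hns⟩ := ht.trip
  set W := (line (F := F) K v).map (h : V →ₗ[F] V)
  obtain ⟨w, hwW, hw⟩ : ∃ w ∈ W, w ∉ line (F := F) K v' := by
    by_contra! hall
    refine hns v' (Submodule.eq_of_le_of_finrank_le hall ?_)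
    rw [finrank_img h hv, finrank_line hv']
  obtain ⟨u₀, hu₀⟩ : w ∈ LinearMap.range η := he1.range ▸ hwW
  have hv'A : (1 : K) ∈ coef (F := F) K h v v' := ht.one_mem_coef
  -- from a functional, a non-scalar coefficient
  have main : ∀ (u : V) (φ : V →ₗ[K] K), φ v' = 0 → φ u = 1 → φ (η u) ≠ 0 →
      (φ (η u) = 1 ∨ 3 ≤ finrank F K ∨ 3 ≤ Fintype.card F) → ∃ θ : K →ₗ[F] K, Th X θ ∧ NonScalar θ := by
    intro u φ hφv' hu hp hcase
    obtain ⟨lam, Q, hlam, hlA, hlz, hQ, hQdim⟩ := exists_data ht he1 (u := u) hφv'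
    have hQ1 : Q 1 ≠ 0 := by rw [hQ, one_smul]; exact hp
    have hth : ∀ k : K, Th X (comCoef lam Q (mulL k)) := fun k =>
      th_comCoef hr hX ht he1 hu hφv' hlam hQ (U.transvection_mul hX v' φ hφv' k)
    rcases le_or_gt 3 (finrank F K) with h3 | h3
    · obtain ⟨k, hk⟩ := exists_nonScalar_of_three hv'A hlA hlz hQdim hQ1 hr h3 ht.coef_ne_top
      exact ⟨_, hth k, hk⟩
    have hr2 : finrank F K = 2 := le_antisymm (by omega) hr.two_le
    rcases hcase with hp1 | h | hq
    · exact ⟨_, hth 1, nonScalar_of_fixed hv'A hlA hlz hQdim (by rw [hQ, one_smul, hp1])⟩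
    · omega
    by_contra hno
    push Not at hno
    obtain ⟨s, -, hs⟩ := Finset.exists_mem_notMem_of_card_lt_card (s := ({0, 1} : Finset F)) (t := Finset.univ)
      (lt_of_le_of_lt Finset.card_le_two (by rw [Finset.card_univ]; omega))
    simp only [Finset.mem_insert, Finset.mem_singleton, not_or] at hs
    obtain ⟨hs0, hs1⟩ := hs
    have hths : ∀ k : K, Th X (comCoef (s • lam) (s • Q) (mulL k)) := fun k =>
      th_comCoef hr hX ht (he s hs0) hu hφv' (fun c => by simp [smul_assoc, hlam]) (fun c => by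
        rw [LinearMap.smul_apply, LinearMap.smul_apply, hQ]
        exact (φ.map_smul_of_tower s _).symm)
        (U.transvection_mul hX v' φ hφv' k)
    have hQs : finrank F (LinearMap.range (s • Q)) = finrank F (LinearMap.range Q) := by
      rw [LinearMap.range_smul Q s hs0]
    have q1 := quadratic_of_scalar hv'A hlA hlz hQdim hQ1 hr2 ht.coef_ne_top (fun k => hno _ (hth k))
    have q2 := quadratic_of_scalar (lam := s • lam) (Q := s • Q) hv'A
      (fun c => (coef (F := F) K h v v').smul_mem s (hlA c))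
      (fun c hc => by rw [LinearMap.smul_apply, hlz c hc, smul_zero]) (by rw [hQs]; exact hQdim)
      (by rw [LinearMap.smul_apply]; exact smul_ne_zero hs0 hQ1) hr2 ht.coef_ne_top (fun k => hno _ (hths k))
    simp only [LinearMap.smul_apply, map_smul, smul_smul] at q2
    simp only [Algebra.smul_def, map_mul] at q2
    set σ := algebraMap F K s
    have hl : lam (Q 1) ≠ 0 := fun e => hQ1 (by simpa [e] using q1)
    have e : σ * σ * (σ - 1) * (lam (Q 1) * Q 1) = 0 := by linear_combination q2 - σ * σ * q1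
    have hσ0 : σ ≠ 0 := (map_ne_zero _).2 hs0
    have hσ1 : σ - 1 ≠ 0 := sub_ne_zero.2 fun e => hs1 ((algebraMap F K).injective (e.trans (map_one _).symm))
    exact mul_ne_zero (mul_ne_zero (mul_ne_zero hσ0 hσ0) hσ1) (mul_ne_zero hl hQ1) e
  have hnotmem : ∀ u, η u = w → u ∉ Submodule.span K {v'} := fun u hu hmem => hw (hu ▸ he1.stable u hmem)
  by_cases h3 : ∃ u, η u = w ∧ u ∉ Submodule.span K {v', w}
  · obtain ⟨u, hu, hun⟩ := h3
    obtain ⟨φ, hφu, hφ'⟩ := exists_functional (K := K) (u := u) (P := Submodule.span K {v', w - u}) (fun hm => by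
      obtain ⟨a, b, hab⟩ := Submodule.mem_span_pair.1 hm
      rcases eq_or_ne (1 + b) 0 with hb | hb
      · refine hw (mem_line.2 ⟨?_, ?_⟩)
        · exact a
        · rw [eq_neg_of_add_eq_zero_right hb, neg_one_smul, neg_sub] at hab
          rw [← sub_eq_zero]
          calc a • v' - w = a • v' + (u - w) - u := by abel
            _ = 0 := by rw [hab, sub_self]
      · refine hun (Submodule.mem_span_pair.2 ⟨a / (1 + b), b / (1 + b), ?_⟩)
        have e : a • v' + b • w = (1 + b) • u := by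
          rw [add_smul, one_smul]
          calc a • v' + b • w = a • v' + b • (w - u) + b • u := by rw [smul_sub]; abel
            _ = u + b • u := by rw [hab]
        rw [div_eq_inv_mul, div_eq_inv_mul, mul_smul, mul_smul, ← smul_add, e, inv_smul_smul₀ hb])
    have h1 : φ (w - u) = 0 := hφ' _ (Submodule.subset_span (by simp))
    rw [map_sub, sub_eq_zero, hφu] at h1
    exact main u φ (hφ' _ (Submodule.subset_span (by simp))) hφu (by rw [hu, h1]; exact one_ne_zero)
      (Or.inl (by rw [hu, h1]))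
  · push Not at h3
    have hbig' : 3 ≤ finrank F K ∨ 3 ≤ Fintype.card F := by
      rcases hbig with h' | h' | h'
      · exact Or.inl h'
      · exfalso
        set P := (Submodule.span K {v', w}).restrictScalars F
        have hker : LinearMap.ker η ⊔ Submodule.span F {u₀} ≤ P := by
          refine sup_le (fun y hy => ?_) ((Submodule.span_singleton_le_iff_mem _ _).2 (h3 u₀ hu₀))
          have h1 : u₀ + y ∈ P := h3 _ (by rw [map_add, hu₀, LinearMap.mem_ker.1 hy, add_zero])
          exact (Submodule.add_mem_iff_right _ (h3 u₀ hu₀)).1 h1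
        have hlt : finrank F (LinearMap.ker η) < finrank F (LinearMap.ker η ⊔ Submodule.span F {u₀} : Submodule F V) :=
          Submodule.finrank_lt_finrank_of_lt (left_lt_sup.2 fun hle => hw (by
            have h1 : η u₀ = 0 := hle (Submodule.mem_span_singleton_self u₀)
            rw [← hu₀, h1]
            exact zero_mem _))
        have h4 := Submodule.finrank_mono hker
        have h5 := LinearMap.finrank_range_add_finrank_ker η
        rw [he1.range, finrank_img h hv, ← Module.finrank_mul_finrank F K V] at h5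
        have h6 : finrank F P ≤ finrank F K * 2 := by
          show finrank F ↥(Submodule.span K {v', w}) ≤ _
          rw [← Module.finrank_mul_finrank F K ↥(Submodule.span K {v', w})]
          refine Nat.mul_le_mul_left _ ((finrank_span_le_card _).trans ?_)
          simpa [Set.toFinset_insert] using Finset.card_le_two
        have : finrank F K * 3 ≤ finrank F K * finrank K V := Nat.mul_le_mul_left _ h'
        omega
      · exact Or.inr h'
    obtain ⟨φ₁, h₁u, h₁v⟩ := exists_functional (K := K) (hnotmem u₀ hu₀)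
    obtain ⟨φ₂, h₂w, h₂v⟩ := exists_functional (K := K) (u := w) (P := Submodule.span K {v'})
      (fun hm => hw (mem_line.2 (Submodule.mem_span_singleton.1 hm)))
    have h₁v := h₁v v' (Submodule.mem_span_singleton_self v')
    have h₂v := h₂v v' (Submodule.mem_span_singleton_self v')
    obtain ⟨φ, hφv, hφu, hφw⟩ : ∃ φ : V →ₗ[K] K, φ v' = 0 ∧ φ u₀ ≠ 0 ∧ φ w ≠ 0 := by
      by_cases e1 : φ₁ w = 0
      · by_cases e2 : φ₂ u₀ = 0
        · exact ⟨φ₁ + φ₂, by simp [h₁v, h₂v], by simp [h₁u, e2], by simp [e1, h₂w]⟩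
        · exact ⟨φ₂, h₂v, e2, by simp [h₂w]⟩
      · exact ⟨φ₁, h₁v, by simp [h₁u], e1⟩
    exact main u₀ ((φ u₀)⁻¹ • φ) (by simp [hφv]) (by simp [hφu])
      (by rw [hu₀, LinearMap.smul_apply, smul_eq_mul]; exact mul_ne_zero (inv_ne_zero hφu) hφw) (Or.inr hbig')

/-- A non-scalar coefficient gives one of rank one. -/
theorem exists_rankOne (hr : (finrank F K).Prime) (hX : Base K X) (ht : MaxTrip K X h v v')
    (he : Eta K X h v v' η) {θ₀ : K →ₗ[F] K} (hθ₀ : Th X θ₀) (hns₀ : NonScalar θ₀) :
    ∃ (μ : K →ₗ[F] F) (a : K), μ ≠ 0 ∧ a ≠ 0 ∧ Th X (μ.smulRight a) := by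
  classical
  haveI : Module.Finite F V := Module.Finite.trans K V
  obtain ⟨-, hv, hv', hns⟩ := ht.trip
  set W := (line (F := F) K v).map (h : V →ₗ[F] V)
  have hid : Th X (LinearMap.id : K →ₗ[F] K) := fun v φ h => U.transvection hX v φ h
  -- coefficients vanishing at a point
  let kill : K → K → (K →ₗ[F] K) := fun b p =>
    θ₀.comp (mulL b) - mulL (θ₀ (b * p) / p)
  have hkill : ∀ b p, Th X (kill b p) := fun b p =>
    ((hθ₀.twist 1 b).add ((hid.twist (-(θ₀ (b * p) / p)) 1))).congr fun c => by simp [kill]; ring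
  have hkill0 : ∀ b p, p ≠ 0 → kill b p p = 0 := fun b p hp => by simp [kill, hp]
  -- values of functionals on the image
  have hval : ∀ φ : V →ₗ[K] K, φ v' = 0 → ∀ u ∈ W, φ u ≠ 0 → ∀ x ∈ W, ∃ s : F, φ x = s • φ u := by
    intro φ hφ u hu hu0 x hx
    have hun : u ∉ line (F := F) K v' := fun hm => by
      obtain ⟨c, rfl⟩ := mem_line.1 hm
      exact hu0 (by simp [hφ])
    have key : ∀ θ : K →ₗ[F] K, Th X θ → θ (φ u) = 0 → θ (φ x) = 0 := by
      intro θ hθ hθu
      have hmem : ∀ a : K, a * θ (φ x) ∈ coef (F := F) K h v v' := by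
        intro a
        obtain ⟨s, hs, hs'⟩ := (hθ.twist a 1) v' φ hφ
        have h1 := ht.map_mem hs hu hun (by simp [hs', hθu]) (fun z hz hz' => by
          obtain ⟨c, rfl⟩ := mem_line.1 hz'
          simp [hs', hφ]) x hx
        rw [hs'] at h1
        rw [mem_coef]
        have h2 := sub_mem h1 hx
        rw [add_sub_cancel_left] at h2
        simpa using h2
      by_contra hne
      exact ht.coef_ne_top (Submodule.eq_top_iff'.2 fun z => by
        simpa [hne] using hmem (z / θ (φ x)))
    set t := φ x / φ u with htdef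
    have ht1 : ∀ c : K, θ₀ (t * c) = t * θ₀ c := by
      intro c
      have h1 := key _ (hkill (c / φ u) (φ u)) (hkill0 _ _ hu0)
      simp only [kill, LinearMap.sub_apply, LinearMap.comp_apply, mulL_apply, sub_eq_zero] at h1
      rw [show c / φ u * φ x = t * c by rw [htdef]; ring, div_mul_cancel₀ _ hu0] at h1
      rw [h1, htdef]
      ring
    let S : Subalgebra F K :=
      { carrier := {d | ∀ c, θ₀ (d * c) = d * θ₀ c}
        mul_mem' := fun {a b} ha hb c => by rw [mul_assoc, ha, hb, mul_assoc]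
        add_mem' := fun {a b} ha hb c => by rw [add_mul, map_add, ha, hb, add_mul]
        algebraMap_mem' := fun a c => by rw [← Algebra.smul_def, map_smul, Algebra.smul_def] }
    haveI := Subalgebra.isSimpleOrder_of_finrank_prime F K hr
    rcases eq_bot_or_eq_top S with e | e
    · have h1 : t ∈ S := ht1
      rw [e] at h1
      obtain ⟨s, hs⟩ := Algebra.mem_bot.1 h1
      exact ⟨s, by rw [Algebra.smul_def, hs, htdef, div_mul_cancel₀ _ hu0]⟩
    · exfalso
      obtain ⟨c, hc⟩ := hns₀ (θ₀ 1)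
      have h1 : c ∈ S := e ▸ Algebra.mem_top
      exact hc (by simpa [mul_comm] using h1 1)
  obtain ⟨w, hwW, hw⟩ : ∃ w ∈ W, w ∉ line (F := F) K v' := by
    by_contra! hall
    refine hns v' (Submodule.eq_of_le_of_finrank_le hall ?_)
    rw [finrank_img h hv, finrank_line hv']
  obtain ⟨u₀, hu₀⟩ : w ∈ LinearMap.range η := he.range ▸ hwW
  -- the intersection is a hyperplane
  have hWle : W ≤ (W ⊓ line (F := F) K v') ⊔ Submodule.span F {w} := by
    obtain ⟨φ, hφw, hφv⟩ := exists_functional (K := K) (u := w) (P := Submodule.span K {v'})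
      (fun hm => hw (mem_line.2 (Submodule.mem_span_singleton.1 hm)))
    have hφv := hφv v' (Submodule.mem_span_singleton_self v')
    intro x hx
    obtain ⟨s, hs⟩ := hval φ hφv w hwW (by simp [hφw]) x hx
    set y := x - s • w
    have hyW : y ∈ W := sub_mem hx (W.smul_mem s hwW)
    have hφy : φ y = 0 := by
      show φ (x - s • w) = 0
      rw [map_sub, LinearMap.map_smul_of_tower, hs, sub_self]
    by_cases hyL : y ∈ line (F := F) K v'
    · exact Submodule.mem_sup.2 ⟨y, ⟨hyW, hyL⟩, s • w,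
        Submodule.smul_mem _ s (Submodule.mem_span_singleton_self w), sub_add_cancel x _⟩
    exfalso
    obtain ⟨φ₀, hy₀, h₀⟩ := exists_functional (K := K) (u := y) (P := Submodule.span K {v', w}) (fun hm => by
      obtain ⟨a, b, hab⟩ := Submodule.mem_span_pair.1 hm
      have : b = 0 := by simpa [← hab, hφv, hφw] using hφy
      exact hyL (mem_line.2 ⟨a, by rw [← hab, this, zero_smul, add_zero]⟩))
    obtain ⟨b, hb⟩ : ∃ b : K, b ∉ Set.range (algebraMap F K) := by
      by_contra! hall
      have h1 : (⊥ : Subalgebra F K) = ⊤ := (Algebra.eq_top_iff.2 fun b => Algebra.mem_bot.2 (hall b)).symm ▸ rfl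
      rw [Subalgebra.bot_eq_top_iff_finrank_eq_one] at h1
      exact Nat.not_prime_one (h1 ▸ hr)
    obtain ⟨s', hs'⟩ := hval (φ + b • φ₀) (by simp [hφv, h₀ v' (Submodule.subset_span (by simp))]) w hwW
      (by simp [hφw, h₀ w (Submodule.subset_span (by simp))]) y hyW
    refine hb ⟨s', ?_⟩
    simpa [hφy, hy₀, hφw, h₀ w (Submodule.subset_span (by simp)), Algebra.smul_def] using hs'.symm
  have hdim : finrank F K ≤ finrank F (coef (F := F) K h v v') + 1 := by
    rw [finrank_coef hv', ← finrank_img (K := K) h hv]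
    refine (Submodule.finrank_mono hWle).trans ((Submodule.finrank_add_le_finrank_add_finrank _ _).trans ?_)
    rw [finrank_span_singleton (fun e => hw (by rw [e]; exact zero_mem _))]
  -- functionals nonzero at `u₀` and `w`
  obtain ⟨φ₁, h₁u, h₁v⟩ := exists_functional (K := K) (u := u₀) (P := Submodule.span K {v'})
    (fun hm => hw (hu₀ ▸ he.stable u₀ hm))
  obtain ⟨φ₂, h₂w, h₂v⟩ := exists_functional (K := K) (u := w) (P := Submodule.span K {v'})
    (fun hm => hw (mem_line.2 (Submodule.mem_span_singleton.1 hm)))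
  have h₁v := h₁v v' (Submodule.mem_span_singleton_self v')
  have h₂v := h₂v v' (Submodule.mem_span_singleton_self v')
  obtain ⟨φ', hφ'v, hφ'u, hφ'w⟩ : ∃ φ : V →ₗ[K] K, φ v' = 0 ∧ φ u₀ ≠ 0 ∧ φ w ≠ 0 := by
    by_cases e1 : φ₁ w = 0
    · by_cases e2 : φ₂ u₀ = 0
      · exact ⟨φ₁ + φ₂, by simp [h₁v, h₂v], by simp [h₁u, e2], by simp [e1, h₂w]⟩
      · exact ⟨φ₂, h₂v, e2, by simp [h₂w]⟩
    · exact ⟨φ₁, h₁v, by simp [h₁u], e1⟩
  set φ := (φ' u₀)⁻¹ • φ'
  have hφv : φ v' = 0 := by simp [φ, hφ'v]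
  have hφu : φ u₀ = 1 := by simp [φ, hφ'u]
  have hφw : φ w ≠ 0 := by simp [φ, hφ'u, hφ'w]
  obtain ⟨lam, Q, hlam, hlA, hlz, hQ, -⟩ := exists_data ht he (u := u₀) hφv
  have hQp : ∀ c, ∃ s : F, Q c = s • φ w := fun c => by
    rw [hQ]
    exact hval φ hφv w hwW hφw _ ((SetLike.ext_iff.1 he.range _).1 (LinearMap.mem_range_self η _))
  have hrk : ∀ θ : K →ₗ[F] K, Th X θ → θ ≠ 0 → finrank F (LinearMap.range θ) ≤ 1 →
      ∃ (μ : K →ₗ[F] F) (a : K), μ ≠ 0 ∧ a ≠ 0 ∧ Th X (μ.smulRight a) := by
    intro θ hθ hθ0 hθ1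
    obtain ⟨c, hc⟩ : ∃ c, θ c ≠ 0 := by
      by_contra! hall
      exact hθ0 (LinearMap.ext hall)
    obtain ⟨f, hf⟩ := exists_functional' (K := F) (V := K) hc
    have hspan : Submodule.span F {θ c} = LinearMap.range θ := Submodule.eq_of_le_of_finrank_le
      ((Submodule.span_singleton_le_iff_mem _ _).2 (LinearMap.mem_range_self θ c))
      (by rw [finrank_span_singleton hc]; exact hθ1)
    refine ⟨f.comp θ, θ c, fun e => ?_, hc, hθ.congr fun x => ?_⟩
    · simpa [hf] using congrFun (congrArg DFunLike.coe e) c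
    · obtain ⟨s, hs⟩ := Submodule.mem_span_singleton.1 (hspan.ge (LinearMap.mem_range_self θ x))
      show θ x = f (θ x) • θ c
      rw [← hs, map_smul, hf, smul_eq_mul, mul_one]
  by_cases hl0 : lam = 0
  · refine hrk _ (th_comCoef hr hX ht he hφu hφv hlam hQ (hid v' φ hφv)) (fun e => hφw ?_) ?_
    · simpa [hl0, hQ, hu₀] using congrFun (congrArg DFunLike.coe e) 1
    · refine (Submodule.finrank_mono (?_ : _ ≤ Submodule.span F {φ w})).trans
        (finrank_span_singleton hφw).le
      rintro _ ⟨c, rfl⟩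
      obtain ⟨s, hs⟩ := hQp c
      exact Submodule.mem_span_singleton.2 ⟨-s, by simp [hl0, hs]⟩
  · obtain ⟨d, hd⟩ : ∃ d, lam d ≠ 0 := by
      by_contra! hall
      exact hl0 (LinearMap.ext hall)
    obtain ⟨b, c₁, hc₁⟩ : ∃ b c, kill b (φ w) c ≠ 0 := by
      by_contra! hall
      obtain ⟨c, hc⟩ := hns₀ (θ₀ 1)
      apply hc
      have h1 := hall c 1
      have h2 := hall 1 c
      simp only [kill, LinearMap.sub_apply, LinearMap.comp_apply, mulL_apply, one_mul, mul_one, sub_eq_zero] at h1 h2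
      have h3 := hall 1 1
      simp only [kill, LinearMap.sub_apply, LinearMap.comp_apply, mulL_apply, one_mul, mul_one, sub_eq_zero] at h3
      rw [h2, ← h3]
    set θ := (mulL (d / kill b (φ w) c₁)).comp (kill b (φ w)) with hθdef
    have hθ : Th X θ := ((hkill b (φ w)).twist (d / kill b (φ w) c₁) 1).congr fun c => by simp [θ]
    have hθQ : ∀ c, θ (Q c) = 0 := fun c => by
      obtain ⟨s, hs⟩ := hQp c
      rw [hs, map_smul, hθdef, LinearMap.comp_apply, hkill0 _ _ hφw, map_zero, smul_zero]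
    refine hrk _ (th_comCoef hr hX ht he hφu hφv hlam hQ (hθ v' φ hφv)) (fun e => ?_) ?_
    · have h1 := congrFun (congrArg DFunLike.coe e) c₁
      simp only [comCoef_apply, hθQ, map_zero, sub_zero, LinearMap.zero_apply] at h1
      rw [hθdef, LinearMap.comp_apply, mulL_apply, div_mul_cancel₀ _ hc₁] at h1
      exact hd h1
    · have hle : LinearMap.range (comCoef lam Q θ) ≤ LinearMap.range lam := by
        rintro _ ⟨c, rfl⟩
        exact ⟨θ c, by simp [hθQ]⟩
      have h1 := LinearMap.finrank_range_add_finrank_ker lam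
      have h2 : finrank F (coef (F := F) K h v v') ≤ finrank F (LinearMap.ker lam) :=
        Submodule.finrank_mono fun x hx => LinearMap.mem_ker.2 (hlz x hx)
      have := Submodule.finrank_mono hle
      omega

end CfsgLib.Geo.FieldExt
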