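/-
The case of four dimensions over the field with two elements.
-/
import Cfsg.Agent.Lib.Geo.FieldExtMax
import Cfsg.Agent.Lib.Geo.FieldExtAlg

set_option autoImplicit false

namespace CfsgLib.Geo.FieldExt

open Module LinearMap

variable {F K V : Type*} [Field F] [Fintype F] [Field K] [Algebra F K] [AddCommGroup V] [Module F V] [Module K V]
  [IsScalarTower F K V] [FiniteDimensional F K] [FiniteDimensional K V] {X : Subgroup (V ≃ₗ[F] V)}

theorem eq_zero_or_one (hF : Fintype.card F = 2) (c : F) : c = 0 ∨ c = 1 := by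
  by_contra! hc
  classical
  have h1 : ({0, 1, c} : Finset F).card ≤ Fintype.card F := Finset.card_le_univ _
  rw [Finset.card_eq_three.2 ⟨0, 1, c, zero_ne_one, hc.1.symm, hc.2.symm, rfl⟩, hF] at h1
  omega

/-- A `2 × 2` matrix over the larger field acts through `X`. -/
theorem exists_mem_matrix (hX : Base K X) (hF : Fintype.card F = 2) (Φ : (K × K) ≃ₗ[K] V) (a b c d : K)
    (h : a * d - b * c ≠ 0) : ∃ g ∈ X, ∀ x y : K, g (Φ (x, y)) = Φ (a * x + b * y, c * x + d * y) := by
  let f : (K × K) →ₗ[K] (K × K) :=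
    { toFun := fun p => (a * p.1 + b * p.2, c * p.1 + d * p.2)
      map_add' := fun p q => by ext <;> simp <;> ring
      map_smul' := fun k p => by ext <;> simp <;> ring }
  have hf : Function.Injective f := by
    rw [← LinearMap.ker_eq_bot, LinearMap.ker_eq_bot']
    rintro ⟨x, y⟩ hxy
    have h1 : a * x + b * y = 0 := congrArg Prod.fst hxy
    have h2 : c * x + d * y = 0 := congrArg Prod.snd hxy
    have hx : (a * d - b * c) * x = 0 := by linear_combination d * h1 - b * h2
    have hy : (a * d - b * c) * y = 0 := by linear_combination a * h2 - c * h1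
    exact Prod.ext ((mul_eq_zero.1 hx).resolve_left h) ((mul_eq_zero.1 hy).resolve_left h)
  let e := LinearEquiv.ofBijective f ⟨hf, LinearMap.injective_iff_surjective.1 hf⟩
  refine ⟨_, mem_of_klinear hX (Φ.symm.trans (e.trans Φ)) ((eq_zero_or_one hF _).resolve_left fun h0 => ?_),
    fun x y => ?_⟩
  · have h1 := (Φ.symm.trans (e.trans Φ)).isUnit_det'
    exact h1.ne_zero (by rwa [Algebra.norm_eq_zero_iff] at h0)
  · show Φ (e (Φ.symm (Φ (x, y)))) = _
    rw [Φ.symm_apply_apply]
    rfl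

theorem exists_nonScalar_four (hX : Base K X) (hF : Fintype.card F = 2) (hr : finrank F K = 2)
    (hm : finrank K V = 2) {h : V ≃ₗ[F] V} {v v' : V} (ht : MaxTrip K X h v v') :
    ∃ (u : V) (φ : V →ₗ[K] K) (θ : K →ₗ[F] K), u ≠ 0 ∧ φ ≠ 0 ∧ φ u = 0 ∧ U X (root u φ θ) ∧ NonScalar θ := by
  classical
  haveI : Module.Finite F V := Module.Finite.trans K V
  obtain ⟨hh, hv, hv', hns⟩ := ht.trip
  set W := (line (F := F) K v).map (h : V →ₗ[F] V)
  have hWr : finrank F W = 2 := (finrank_img h hv).trans hr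
  obtain ⟨w, hwW, hw⟩ : ∃ w ∈ W, w ∉ line (F := F) K v' := by
    by_contra! hall
    exact hns v' (Submodule.eq_of_le_of_finrank_le hall (le_of_eq (by rw [hWr, finrank_line hv', hr])))
  -- the second basis vector of the larger field
  haveI : Finite K := Module.finite_of_finite F
  haveI : Fintype K := Fintype.ofFinite K
  obtain ⟨ω, hω⟩ : ∃ ω : K, ω ∉ Set.range (algebraMap F K) := by
    by_contra! hall
    have := Fintype.card_le_of_surjective _ (fun b => hall b)
    rw [Module.card_eq_pow_finrank (K := F), hF, hr] at this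
    omega
  have hK : ∀ c : K, ∃ s t : F, c = algebraMap F K s + algebraMap F K t * ω := by
    have hspan : Submodule.span F ({1, ω} : Set K) = ⊤ := by
      refine Submodule.eq_top_of_finrank_eq (le_antisymm (Submodule.finrank_le _) ?_)
      have hlt : Submodule.span F ({1} : Set K) < Submodule.span F ({1, ω} : Set K) := by
        refine lt_of_le_of_ne (Submodule.span_mono (by simp)) fun e => hω ?_
        have h1 : ω ∈ Submodule.span F ({1} : Set K) := e.symm ▸ Submodule.subset_span (by simp)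
        obtain ⟨s, hs⟩ := Submodule.mem_span_singleton.1 h1
        exact ⟨s, by rw [← hs, Algebra.algebraMap_eq_smul_one]⟩
      have := Submodule.finrank_lt_finrank_of_lt hlt
      rw [finrank_span_singleton one_ne_zero] at this
      omega
    intro c
    obtain ⟨s, t, hst⟩ := Submodule.mem_span_pair.1 (hspan ▸ Submodule.mem_top : c ∈ Submodule.span F {1, ω})
    exact ⟨s, t, by rw [← hst]; simp [Algebra.smul_def]⟩
  have h2 : (2 : K) = 0 := by
    have h1 : (2 : F) = 0 := by
      have := FiniteField.cast_card_eq_zero F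
      rwa [hF, Nat.cast_ofNat] at this
    rw [← map_ofNat (algebraMap F K) 2, h1, map_zero]
  have hω2 : ω * ω = ω + 1 := by
    obtain ⟨s, t, hst⟩ := hK (ω * ω)
    rcases eq_zero_or_one hF s with rfl | rfl <;> rcases eq_zero_or_one hF t with rfl | rfl <;>
      simp only [map_zero, map_one, zero_mul, one_mul, add_zero, zero_add] at hst
    · exact absurd ⟨0, by rw [map_zero]; exact (mul_self_eq_zero.1 hst).symm⟩ hω
    · have h1 : ω * (ω - 1) = 0 := by linear_combination hst
      rcases mul_eq_zero.1 h1 with e | e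
      · exact absurd ⟨0, by rw [map_zero, e]⟩ hω
      · exact absurd ⟨1, by rw [map_one, sub_eq_zero.1 e]⟩ hω
    · have h1 : (ω - 1) * (ω - 1) = 0 := by linear_combination hst - (ω - 1) * h2
      exact absurd ⟨1, by rw [map_one, sub_eq_zero.1 (mul_self_eq_zero.1 h1)]⟩ hω
    · rw [hst, add_comm]
  -- the elements of the image
  have hW : ∀ z ∈ W, ∃ s t : F, z = s • v' + t • w := by
    intro z hz
    have hle : Submodule.span F ({v', w} : Set V) = W := by
      refine Submodule.eq_of_le_of_finrank_le (Submodule.span_le.2 ?_) ?_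
      · rintro x (rfl | rfl)
        exacts [ht.mem, hwW]
      · have hlt : Submodule.span F ({v'} : Set V) < Submodule.span F ({v', w} : Set V) := by
          refine lt_of_le_of_ne (Submodule.span_mono (by simp)) fun e => hw ?_
          have h1 : w ∈ Submodule.span F ({v'} : Set V) := e.symm ▸ Submodule.subset_span (by simp)
          obtain ⟨s, hs⟩ := Submodule.mem_span_singleton.1 h1
          exact hs ▸ Submodule.smul_mem _ s (self_mem_line v')
        have := Submodule.finrank_lt_finrank_of_lt hlt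
        rw [finrank_span_singleton hv'] at this
        omega
    obtain ⟨s, t, hst⟩ := Submodule.mem_span_pair.1 (hle.ge hz)
    exact ⟨s, t, hst.symm⟩
  have hωW : ∀ z ∈ W, z ≠ 0 → ω • z ∉ W := by
    intro z hz hz0 hz'
    refine hns z (Submodule.eq_of_le_of_finrank_le ?_ ?_).symm
    · intro x hx
      obtain ⟨c, rfl⟩ := mem_line.1 hx
      obtain ⟨s, t, rfl⟩ := hK c
      rw [add_smul, mul_smul, algebraMap_smul, algebraMap_smul]
      exact add_mem (W.smul_mem s hz) (W.smul_mem t hz')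
    · rw [hWr, finrank_line hz0, hr]
  -- the unipotent
  obtain ⟨x₀, hx₀⟩ : ∃ x : V, x ∉ Submodule.span K {v} := by
    by_contra! hall
    have h1 := finrank_span_singleton (K := K) hv
    rw [Submodule.eq_top_iff'.2 hall, finrank_top] at h1
    omega
  obtain ⟨φ₁, hφ₁, hφ₁v⟩ := exists_functional (K := K) hx₀
  have hφ₁v : φ₁ v = 0 := hφ₁v v (Submodule.mem_span_singleton_self v)
  have hker : LinearMap.ker φ₁ = Submodule.span K {v} := by
    refine (Submodule.eq_of_le_of_finrank_le ((Submodule.span_singleton_le_iff_mem _ _).2 hφ₁v) ?_).symm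
    have h1 : LinearMap.ker φ₁ < ⊤ := lt_top_iff_ne_top.2 fun e => by
      rw [LinearMap.ker_eq_top.1 e, LinearMap.zero_apply] at hφ₁
      exact zero_ne_one hφ₁
    have := Submodule.finrank_lt h1.ne
    rw [finrank_span_singleton hv]
    omega
  obtain ⟨z, hz, rfl⟩ := hwW
  obtain ⟨c₀, rfl⟩ := mem_line.1 hz
  set c := φ₁ (h.symm (ω • v'))
  have hc : c ≠ 0 := fun e => hωW v' ht.mem hv' ⟨h.symm (ω • v'), (hker.le e : _), h.apply_symm_apply _⟩
  let η : V →ₗ[F] V :=
    (h : V →ₗ[F] V).comp ((root v ((c₀ / c) • φ₁) (LinearMap.id : K →ₗ[F] K)).comp (h.symm : V →ₗ[F] V))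
  have hk : c₀ / c ≠ 0 := div_ne_zero (fun e => hw (by simp [e])) hc
  obtain ⟨hU, hrange, hzero⟩ := exists_conj_transvection (η := η) hX hh hv (φ := (c₀ / c) • φ₁)
    (fun e => hk (by simpa [hφ₁] using congrFun (congrArg DFunLike.coe e) x₀)) (by simp [hφ₁v]) (fun y => rfl)
  set w := (h : V →ₗ[F] V) (c₀ • v)
  have hwW : w ∈ W := Submodule.mem_map_of_mem hz
  have hη1 : η (ω • v') = w := by
    show h (((c₀ / c) • φ₁) (h.symm (ω • v')) • v) = _
    rw [LinearMap.smul_apply, smul_eq_mul, div_mul_cancel₀ _ hc]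
    rfl
  have hinj : ∀ y, η y = 0 → y ∈ W := by
    intro y hy
    change h (((c₀ / c) • φ₁) (h.symm y) • v) = 0 at hy
    rw [LinearEquiv.map_eq_zero_iff, smul_eq_zero, or_iff_left hv, LinearMap.smul_apply, smul_eq_zero,
      or_iff_right hk] at hy
    exact ⟨h.symm y, (hker.le hy : _), h.apply_symm_apply y⟩
  have hw0 : w ≠ 0 := fun e => hw (e ▸ zero_mem _)
  obtain ⟨β, hη2⟩ : ∃ β : F, η (ω • w) = v' + β • w := by
    obtain ⟨s, t, hst⟩ := hW (η (ω • w)) ((SetLike.ext_iff.1 hrange _).1 (LinearMap.mem_range_self η _))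
    rcases eq_zero_or_one hF s with rfl | rfl
    · exfalso
      rcases eq_zero_or_one hF t with rfl | rfl
      · exact hωW w hwW hw0 (hinj _ (by simpa using hst))
      · rw [zero_smul, zero_add, one_smul] at hst
        refine hωW (w - v') (sub_mem hwW ht.mem) (fun e => hw ?_)
          (hinj _ (by rw [smul_sub, map_sub, hst, hη1, sub_self]))
        rw [sub_eq_zero.1 e]
        exact self_mem_line v'
    · exact ⟨t, by rw [hst, one_smul]⟩
  -- coordinates
  obtain ⟨ε, hε0, hε1⟩ : ∃ ε : K →ₗ[F] K, ε 1 = 0 ∧ ε ω = 1 := by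
    obtain ⟨f, hf, hf1⟩ := exists_functional (K := F) (V := K) (u := ω) (P := Submodule.span F {1}) (fun hm => by
      obtain ⟨s, hs⟩ := Submodule.mem_span_singleton.1 hm
      exact hω ⟨s, by rw [← hs, Algebra.algebraMap_eq_smul_one]⟩)
    exact ⟨(Algebra.linearMap F K).comp f, by simp [hf1 1 (Submodule.mem_span_singleton_self 1)], by simp [hf]⟩
  have hεF : ∀ s : F, ε (algebraMap F K s) = 0 := fun s => by
    rw [Algebra.algebraMap_eq_smul_one, map_smul, hε0, smul_zero]
  let Φ₀ : (K × K) →ₗ[K] V := (LinearMap.toSpanSingleton K V v').coprod (LinearMap.toSpanSingleton K V w)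
  have hΦinj : Function.Injective Φ₀ := by
    rw [← LinearMap.ker_eq_bot, LinearMap.ker_eq_bot']
    rintro ⟨a, b⟩ hab
    change a • v' + b • w = 0 at hab
    have hb : b = 0 := by
      by_contra hb
      exact hw (mem_line.2 ⟨-(b⁻¹ * a), by
        rw [neg_smul, mul_smul, eq_neg_of_add_eq_zero_left hab, smul_neg, neg_neg, inv_smul_smul₀ hb]⟩)
    rw [hb, zero_smul, add_zero, smul_eq_zero] at hab
    exact Prod.ext (hab.resolve_right hv') hb
  let Φ : (K × K) ≃ₗ[K] V := LinearEquiv.ofBijective Φ₀ ⟨hΦinj,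
    (LinearMap.injective_iff_surjective_of_finrank_eq_finrank (by rw [Module.finrank_prod, Module.finrank_self, hm])).1 hΦinj⟩
  have hΦ : ∀ a b : K, Φ (a, b) = a • v' + b • w := fun a b => rfl
  obtain ⟨x, hxX, hx⟩ := hU
  have hx' : ∀ a b : K, x (Φ (a, b)) = Φ (a + ε b, b + (ε a + algebraMap F K β * ε b)) := by
    intro a b
    obtain ⟨a₀, a₁, rfl⟩ := hK a
    obtain ⟨b₀, b₁, rfl⟩ := hK b
    have e1 : ∀ s t : F, ε (algebraMap F K s + algebraMap F K t * ω) = algebraMap F K t := fun s t => by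
      rw [map_add, hεF, zero_add, ← Algebra.smul_def, map_smul, hε1, Algebra.smul_def, mul_one]
    have hηv : ∀ s t : F, η ((algebraMap F K s + algebraMap F K t * ω) • v') = t • w := fun s t => by
      rw [add_smul, mul_smul, algebraMap_smul, algebraMap_smul, map_add, map_smul, map_smul, hzero v' ht.mem,
        smul_zero, zero_add, hη1]
    have hηw : ∀ s t : F, η ((algebraMap F K s + algebraMap F K t * ω) • w) = t • v' + t • β • w := fun s t => by
      rw [add_smul, mul_smul, algebraMap_smul, algebraMap_smul, map_add, map_smul, map_smul, hzero w hwW,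
        smul_zero, zero_add, hη2, smul_add]
    rw [hx, e1, e1, hΦ, hΦ, map_add, hηv, hηw]
    simp only [add_smul, mul_smul, algebraMap_smul]
    rw [smul_comm b₁ β w]
    abel
  have step : ∀ a b c d : K, a * d - b * c ≠ 0 → ∃ g ∈ X, ∀ p q : K, g (Φ (p, q)) = Φ (a * p + b * q, c * p + d * q) :=
    exists_mem_matrix hX hF Φ
  -- rewriting table
  have t2 : ∀ k : K, k + k = 0 := fun k => by linear_combination k * h2
  have t3 : ω + (ω + 1) = 1 := by linear_combination ω * h2
  have t4 : ω + 1 + ω = 1 := by linear_combination ω * h2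
  have t5 : 1 + (ω + 1) = ω := by linear_combination h2
  have t6 : ω + 1 + 1 = ω := by linear_combination h2
  have t7 : 1 + ω = ω + 1 := add_comm _ _
  have t8 : ω * (ω + 1) = 1 := by linear_combination hω2 + ω * h2
  have t9 : (ω + 1) * ω = 1 := by linear_combination hω2 + ω * h2
  have t10 : (ω + 1) * (ω + 1) = ω := by linear_combination hω2 + (ω + 1) * h2
  have t11 : ε (ω + 1) = 1 := by rw [map_add, hε1, hε0, add_zero]
  have hω0 : ω ≠ 0 := fun e => hω ⟨0, by rw [map_zero, e]⟩
  have hω1 : ω + 1 ≠ 0 := fun e => hω ⟨1, by rw [map_one]; linear_combination -e + h2⟩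
  have hω1' : ω ≠ 1 := fun e => hω ⟨1, by rw [map_one, e]⟩
  let π : V →ₗ[K] K := (LinearMap.snd K K K).comp (Φ.symm : V →ₗ[K] K × K)
  have hπ : ∀ a b, π (Φ (a, b)) = b := fun a b => by simp [π]
  have hπv : π v' = 0 := by simpa [hΦ] using hπ 1 0
  have hπ0 : π ≠ 0 := fun e => by simpa [e] using hπ 0 1
  -- four basis vectors suffice
  have finish : ∀ (y : V ≃ₗ[F] V) (θ : K →ₗ[F] K), y ∈ X → y (Φ (1, 0)) = Φ (1, 0) → y (Φ (ω, 0)) = Φ (ω, 0) →
      y (Φ (0, 1)) = Φ (θ 1, 1) → y (Φ (0, ω)) = Φ (θ ω, ω) → U X (root v' π θ) := by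
    intro y θ hy e1 e2 e3 e4
    refine ⟨y, hy, fun z => ?_⟩
    obtain ⟨⟨a, b⟩, rfl⟩ := Φ.surjective z
    obtain ⟨a₀, a₁, rfl⟩ := hK a
    obtain ⟨b₀, b₁, rfl⟩ := hK b
    rw [root_apply, hπ]
    simp only [hΦ, zero_smul, add_zero, zero_add, one_smul] at e1 e2 e3 e4
    have hθ : θ (algebraMap F K b₀ + algebraMap F K b₁ * ω) = b₀ • θ 1 + b₁ • θ ω := by
      rw [map_add, Algebra.algebraMap_eq_smul_one, map_smul, ← Algebra.smul_def, map_smul]
    rw [hθ, hΦ]
    simp only [add_smul, mul_smul, algebraMap_smul, smul_assoc, map_add, map_smul, e1, e2, e3, e4, smul_add]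
    abel
  rcases eq_zero_or_one hF β with rfl | rfl <;> simp only [map_zero, map_one, zero_mul, one_mul, add_zero] at hx'
  · obtain ⟨A, hA, hA'⟩ := step 0 1 (ω + 1) ω (by rw [zero_mul, one_mul, zero_sub]; exact neg_ne_zero.2 hω1)
    obtain ⟨B, hB, hB'⟩ := step (ω + 1) (ω + 1) 0 (ω + 1) (by simp [hω1])
    obtain ⟨C, hC, hC'⟩ := step 1 0 0 ω (by simp [hω0])
    refine ⟨v', π, (mulL (ω + 1)).comp ε, hv', hπ0, hπv, finish (x * A * x * B * x * C) _
      (mul_mem (mul_mem (mul_mem (mul_mem (mul_mem hxX hA) hxX) hB) hxX) hC) ?_ ?_ ?_ ?_, fun a => ?_⟩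
    iterate 4 simp only [LinearEquiv.mul_apply, hC', hB', hA', hx', hω2, t2, t3, t4, t5, t6, t7, t8, t9, t10, t11,
      hε0, hε1, mul_zero, zero_mul, mul_one, one_mul, add_zero, zero_add, map_zero, LinearMap.comp_apply, mulL_apply]
    rcases eq_or_ne a 0 with rfl | ha
    · exact ⟨ω, by simp [hε1, hω1]⟩
    · exact ⟨1, by simp [hε0, ha.symm]⟩
  · obtain ⟨A, hA, hA'⟩ := step ω 0 1 (ω + 1) (by simp [hω0, hω1])
    obtain ⟨B, hB, hB'⟩ := step (ω + 1) 0 0 (ω + 1) (by simp [hω1])
    refine ⟨v', π, mulL ω + (mulL ω).comp ε, hv', hπ0, hπv, finish (x * A * x * B) _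
      (mul_mem (mul_mem (mul_mem hxX hA) hxX) hB) ?_ ?_ ?_ ?_, fun a => ?_⟩
    iterate 4 simp only [LinearEquiv.mul_apply, hB', hA', hx', hω2, t2, t3, t4, t5, t6, t7, t8, t9, t10, t11,
      hε0, hε1, mul_zero, zero_mul, mul_one, one_mul, add_zero, zero_add, map_zero, LinearMap.add_apply,
      LinearMap.comp_apply, mulL_apply]
    rcases eq_or_ne a ω with ha | ha
    · rw [ha]
      refine ⟨ω, ?_⟩
      simp only [LinearMap.add_apply, LinearMap.comp_apply, mulL_apply, hε1, mul_one, hω2, t4]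
      exact fun e => hω0 (by linear_combination -e)
    · exact ⟨1, by simp [hε0, ha.symm]⟩

end CfsgLib.Geo.FieldExt
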