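/-
Normalisers of field subalgebras of prime degree are maximal.
-/
import Cfsg.Agent.Lib.Geo.FieldExtCore
import Cfsg.Agent.Lib.Geo.FieldExtFour
import Cfsg.Agent.Lib.Geo.FieldNormalizer
import Cfsg.Agent.Lib.Classical.SLGroup

set_option autoImplicit false

namespace CfsgLib.Geo.FieldExt

open Module LinearMap

variable {F K V : Type*} [Field F] [Fintype F] [Field K] [Algebra F K] [AddCommGroup V] [Module F V] [Module K V]
  [IsScalarTower F K V] [FiniteDimensional F K] [FiniteDimensional K V] {X : Subgroup (V ≃ₗ[F] V)}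

/-- An overgroup outside the semilinear group contains all transvections over the smaller field. -/
theorem transvection_mem (hr : (finrank F K).Prime) (h2 : 2 ≤ finrank K V) (hX : Base K X) {g : V ≃ₗ[F] V}
    (hg : g ∈ X) (hns : ¬ ∀ k : K, ∃ k' : K, ∀ y, g (k • y) = k' • g y) (z : V) (f : V →ₗ[F] F) (hf : f z = 0) :
    U X (f.smulRight z) := by
  obtain ⟨h, v, v', ht⟩ := exists_maxTrip h2 hg hns
  obtain ⟨η, hη⟩ := exists_eta h2 hX ht
  have hθ : ∃ θ : K →ₗ[F] K, Th X θ ∧ NonScalar θ := by
    by_cases hbig : 3 ≤ finrank F K ∨ 3 ≤ finrank K V ∨ 3 ≤ Fintype.card F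
    · exact exists_nonScalar hr h2 hX hbig ht hη
    · push Not at hbig
      have := Fintype.one_lt_card (α := F)
      have := hr.two_le
      obtain ⟨u, φ, θ, hu, hφ, hφu, hU, hθ⟩ :=
        exists_nonScalar_four hX (by omega) (by omega) (by omega) ht
      exact ⟨θ, th_of_root hr hX hu hφ hφu hU, hθ⟩
  obtain ⟨θ, hθ, hθns⟩ := hθ
  obtain ⟨μ, a, hμ, ha, hμa⟩ := exists_rankOne hr hX ht (η := η) (by simpa using hη 1 one_ne_zero) hθ hθns
  exact transvection_of_rankOne h2 hμ ha hμa z f hf

end CfsgLib.Geo.FieldExt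

namespace CfsgLib.Geo.FieldExt

open Matrix Cfsg.Geo

variable {ι : Type} [Fintype ι] [DecidableEq ι] {F : Type*} [Field F] [Fintype F]

theorem specialLinear_le_and_det {r : ℕ} (hr : r.Prime) (hlt : r < Fintype.card ι)
    (K : Subalgebra F (Matrix ι ι F)) (hK : IsFieldSubalgebra r K) :
    (∀ M : Subgroup (GL ι F), subalgebraNormalizer K ⊓ specialLinear ι F ≤ M → ¬ M ≤ subalgebraNormalizer K →
      specialLinear ι F ≤ M) ∧
      ∀ a : Fˣ, ∃ d ∈ subalgebraNormalizer K, Matrix.GeneralLinearGroup.det d = a := by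
  classical
  haveI : Nonempty ι := Fintype.card_pos_iff.1 (by omega)
  haveI : Nontrivial ι := Fintype.one_lt_card_iff_nontrivial.1 (by have := hr.two_le; omega)
  haveI : Nontrivial K := ⟨⟨0, 1, zero_ne_one⟩⟩
  have hKf : IsField K := ⟨⟨0, 1, zero_ne_one⟩, fun a b => Subtype.ext (hK.comm a.1 a.2 b.1 b.2), fun {a} ha => by
    obtain ⟨y, hy, e⟩ := hK.inv a.1 a.2 (fun h => ha (Subtype.ext h))
    exact ⟨⟨y, hy⟩, Subtype.ext e⟩⟩
  letI : Field K := @IsField.toField K (inferInstance : Ring K) hKf
  letI : Module K (ι → F) :=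
    { smul := fun k v => (k : Matrix ι ι F) *ᵥ v
      one_smul := fun v => Matrix.one_mulVec v
      mul_smul := fun a b v => (Matrix.mulVec_mulVec v (a : Matrix ι ι F) b).symm
      smul_zero := fun a => Matrix.mulVec_zero _
      smul_add := fun a u v => Matrix.mulVec_add _ u v
      add_smul := fun a b v => Matrix.add_mulVec _ _ v
      zero_smul := fun v => Matrix.zero_mulVec v }
  haveI : IsScalarTower F K (ι → F) := ⟨fun c k v => Matrix.smul_mulVec c (k : Matrix ι ι F) v⟩
  haveI : FiniteDimensional F K := Module.finite_of_finrank_pos (by rw [hK.finrank_eq]; exact hr.pos)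
  haveI : FiniteDimensional K (ι → F) := Module.Finite.of_restrictScalars_finite F K _
  have hfin : Module.finrank F K * Module.finrank K (ι → F) = Fintype.card ι := by
    rw [Module.finrank_mul_finrank, Module.finrank_pi]
  rw [hK.finrank_eq] at hfin
  have hm : 2 ≤ Module.finrank K (ι → F) := by
    by_contra h
    push Not at h
    interval_cases hm : Module.finrank K (ι → F) <;> omega
  let e : GL ι F ≃* ((ι → F) ≃ₗ[F] (ι → F)) :=
    Matrix.GeneralLinearGroup.toLin.trans (LinearMap.GeneralLinearGroup.generalLinearEquiv F (ι → F))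
  have he : ∀ (x : GL ι F) (y : ι → F), e x y = (x : Matrix ι ι F) *ᵥ y := fun x y => rfl
  have hdet : ∀ x : GL ι F, LinearMap.det (e x : (ι → F) →ₗ[F] (ι → F)) = (x : Matrix ι ι F).det := fun x => by
    rw [show ((e x : (ι → F) →ₗ[F] (ι → F))) = Matrix.toLin' (x : Matrix ι ι F) from LinearMap.ext fun y => rfl,
      LinearMap.det_toLin']
  have hklin : ∀ x : GL ι F, (∀ (k : K) (y : ι → F), e x (k • y) = k • e x y) → x ∈ subalgebraNormalizer K := by
    intro x hx k
    have hc : ∀ k ∈ K, (x : Matrix ι ι F) * k = k * (x : Matrix ι ι F) := fun k hk =>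
      Matrix.toLin'.injective (LinearMap.ext fun y => by
        simp only [Matrix.toLin'_apply, ← Matrix.mulVec_mulVec]
        exact hx ⟨k, hk⟩ y)
    refine ⟨fun hk => by rw [hc k hk, Units.mul_inv_cancel_right]; exact hk, fun hk => ?_⟩
    have h1 := hc _ hk
    rw [Units.inv_mul_cancel_right] at h1
    have h2 := (Units.mul_right_inj x).1 h1
    rw [h2] at hk
    exact hk
  refine ⟨fun M hM hMn => ?_, fun a => ?_⟩
  · obtain ⟨g, hg, hgn⟩ := SetLike.not_le_iff_exists.1 hMn
    let X : Subgroup ((ι → F) ≃ₗ[F] (ι → F)) := M.map e.toMonoidHom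
    have hX : Base K X := fun y hy hy1 => ⟨e.symm y, hM ⟨hklin _ (fun k z => by
        rw [MulEquiv.apply_symm_apply]; exact hy k z), MonoidHom.mem_ker.2 (Units.ext (by
        show ((e.symm y : GL ι F) : Matrix ι ι F).det = 1
        rw [← hdet, MulEquiv.apply_symm_apply]
        exact hy1))⟩, e.apply_symm_apply y⟩
    have hns : ¬ ∀ k : K, ∃ k' : K, ∀ y, e g (k • y) = k' • e g y := by
      intro hsl
      choose σ hσ using hsl
      have hc : ∀ k : K, (g : Matrix ι ι F) * k.1 * ((g⁻¹ : GL ι F) : Matrix ι ι F) = (σ k).1 := fun k => by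
        have h1 : (g : Matrix ι ι F) * k.1 = (σ k).1 * (g : Matrix ι ι F) :=
          Matrix.toLin'.injective (LinearMap.ext fun y => by
            simp only [Matrix.toLin'_apply, ← Matrix.mulVec_mulVec]
            exact hσ k y)
        rw [h1, Units.mul_inv_cancel_right]
      haveI : Finite K := Finite.of_injective _ Subtype.val_injective
      have hinj : Function.Injective σ := fun a b hab => by
        have h1 := (hc a).trans ((congrArg Subtype.val hab).trans (hc b).symm)
        rw [(Units.isUnit g⁻¹).mul_left_inj, (Units.isUnit g).mul_right_inj] at h1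
        exact Subtype.ext h1
      refine hgn fun k => ⟨fun hk => hc ⟨k, hk⟩ ▸ (σ ⟨k, hk⟩).2, fun hk => ?_⟩
      obtain ⟨l, hl⟩ := (Finite.injective_iff_surjective.1 hinj) ⟨_, hk⟩
      have h1 := (hc l).trans (congrArg Subtype.val hl)
      rw [(Units.isUnit g⁻¹).mul_left_inj, (Units.isUnit g).mul_right_inj] at h1
      rw [← h1]
      exact l.2
    have htr := transvection_mem (X := X) (by rw [hK.finrank_eq]; exact hr) hm hX
      (Subgroup.mem_map_of_mem _ hg) hns
    have hH : (M.comap (SpecialLinearGroup.toGL : SpecialLinearGroup ι F →* GL ι F)) = ⊤ := by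
      refine CfsgLib.Classical.closure_transvection_eq_top _ fun i j hij c => ?_
      obtain ⟨y, ⟨x, hx, rfl⟩, hy⟩ := htr (Pi.single i 1) (c • LinearMap.proj j) (by
        simp [Pi.single_eq_of_ne hij.symm])
      rw [Subgroup.mem_comap]
      suffices h : SpecialLinearGroup.toGL (SpecialLinearGroup.transvection hij c) = x by rw [h]; exact hx
      refine Units.ext (Matrix.toLin'.injective (LinearMap.ext fun z => ?_))
      simp only [Matrix.toLin'_apply]
      refine Eq.trans ?_ (hy z).symm
      funext k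
      show (SpecialLinearGroup.transvection hij c • z) k = _
      rw [CfsgLib.Classical.transvection_smul_apply]
      simp [Pi.single_apply]
    intro y hy
    have hy1 : (y : Matrix ι ι F).det = 1 := congrArg Units.val (MonoidHom.mem_ker.1 hy)
    let t : SpecialLinearGroup ι F := ⟨(y : Matrix ι ι F), hy1⟩
    have : t ∈ M.comap SpecialLinearGroup.toGL := hH.ge (Subgroup.mem_top t)
    rw [Subgroup.mem_comap] at this
    convert this using 1
    exact Units.ext rfl
  · haveI : Nontrivial (ι → F) := inferInstance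
    obtain ⟨v, hv⟩ := exists_ne (0 : ι → F)
    obtain ⟨φ, hφ⟩ := exists_functional' (K := K) hv
    haveI : Finite K := Finite.of_injective _ Subtype.val_injective
    obtain ⟨k, hk⟩ := FiniteField.norm_surjective F K (a : F)
    have hu : IsUnit (LinearMap.det (LinearMap.transvection ((k - 1) • φ) v)) := by
      rw [LinearMap.transvection.det, LinearMap.smul_apply, hφ, smul_eq_mul, mul_one, add_sub_cancel]
      exact IsUnit.mk0 _ fun e0 => a.ne_zero (by rw [← hk, e0, Algebra.norm_zero])
    refine ⟨e.symm ((LinearMap.equivOfIsUnitDet hu).restrictScalars F), hklin _ fun c y => ?_, Units.ext ?_⟩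
    · rw [MulEquiv.apply_symm_apply]
      exact (LinearMap.equivOfIsUnitDet hu).map_smul c y
    · show ((e.symm _ : GL ι F) : Matrix ι ι F).det = (a : F)
      rw [← hdet, MulEquiv.apply_symm_apply,
        show (((LinearMap.equivOfIsUnitDet hu).restrictScalars F : (ι → F) ≃ₗ[F] (ι → F)) : (ι → F) →ₗ[F] (ι → F)) =
          (LinearMap.transvection ((k - 1) • φ) v).restrictScalars F from
          LinearMap.ext fun y => LinearMap.equivOfIsUnitDet_apply hu y,
        LinearMap.det_restrictScalars, LinearMap.transvection.det, LinearMap.smul_apply, hφ, smul_eq_mul, mul_one,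
        add_sub_cancel, hk]

theorem isCoatom_and_isMaximalIn {r : ℕ} (hr : r.Prime) (hlt : r < Fintype.card ι)
    (K : Subalgebra F (Matrix ι ι F)) (hK : IsFieldSubalgebra r K) :
    IsCoatom (subalgebraNormalizer K) ∧
      IsMaximalIn (specialLinear ι F) (subalgebraNormalizer K ⊓ specialLinear ι F) := by
  classical
  obtain ⟨hle, hdet⟩ := specialLinear_le_and_det hr hlt K hK
  haveI : Nonempty ι := Fintype.card_pos_iff.1 (by omega)
  obtain ⟨g, hgS, -, hgn⟩ := CfsgLib.Geo.exists_centralize_not_normalize K ⊥ hK.inv hK.comm bot_le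
    (fun e => by
      have h1 : Module.finrank F (⊥ : Subalgebra F (Matrix ι ι F)) = r := e ▸ hK.finrank_eq
      rw [Subalgebra.finrank_bot] at h1
      exact hr.one_lt.ne h1)
    (by
      haveI : Fintype K := Fintype.ofFinite K
      rw [Nat.card_eq_fintype_card, Module.card_eq_pow_finrank (K := F), hK.finrank_eq, Fintype.card_fun]
      exact Nat.pow_lt_pow_right Fintype.one_lt_card hlt)
  refine ⟨⟨fun e => hgn (e ▸ Subgroup.mem_top g), fun M hM => ?_⟩,
    lt_of_le_of_ne inf_le_right fun e => hgn (e.ge hgS).1, fun M hM hMK => ?_⟩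
  · have hS := hle M (inf_le_left.trans hM.le) (not_le_of_gt hM)
    refine eq_top_iff.2 fun x _ => ?_
    obtain ⟨d, hd, hd'⟩ := hdet (Matrix.GeneralLinearGroup.det x)
    have h1 : d⁻¹ * x ∈ specialLinear ι F :=
      MonoidHom.mem_ker.2 (by rw [map_mul, map_inv, hd', inv_mul_cancel])
    simpa using M.mul_mem (hM.le hd) (hS h1)
  · by_cases h : M ≤ subalgebraNormalizer K
    · exact Or.inl (le_antisymm (le_inf h hMK) hM)
    · exact Or.inr (le_antisymm hMK (hle M hM h))

end CfsgLib.Geo.FieldExt
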