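/-
Self-adjoint coefficients of a field extension: closure under sandwiching by scalars.
-/
import Cfsg.Agent.Lib.Geo.FieldExtAlg

set_option autoImplicit false

namespace CfsgLib.Geo.FieldExtSymp

open Module LinearMap CfsgLib.Geo.FieldExt

variable {F K : Type*} [Field F] [Fintype F] [Field K] [Algebra F K] [FiniteDimensional F K] {μ : K →ₗ[F] F}

/-- The rank one map `x ↦ μ (a x) b`. -/
def dy (μ : K →ₗ[F] F) (a b : K) : K →ₗ[F] K := (μ.comp (mulL a)).smulRight b

omit [Fintype F] [FiniteDimensional F K] in
@[simp] theorem dy_apply (a b x : K) : dy μ a b x = μ (a * x) • b := rfl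

omit [Fintype F] [FiniteDimensional F K] in
theorem eq_zero_of_forall (hμ : μ 1 = 1) {c : K} (h : ∀ d, μ (c * d) = 0) : c = 0 := by
  by_contra hc
  have := h c⁻¹
  rw [mul_inv_cancel₀ hc, hμ] at this
  exact one_ne_zero this

omit [Fintype F] in
theorem exists_eq_mul (hμ : μ 1 = 1) (g : K →ₗ[F] F) : ∃ m : K, ∀ x, g x = μ (m * x) := by
  let P : K →ₗ[F] (K →ₗ[F] F) :=
    { toFun := fun m => μ.comp (mulL m)
      map_add' := fun m m' => LinearMap.ext fun x => by simp [add_mul]
      map_smul' := fun s m => LinearMap.ext fun x => by simp }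
  have hinj : Function.Injective P := by
    rw [← LinearMap.ker_eq_bot, LinearMap.ker_eq_bot']
    exact fun c hc => eq_zero_of_forall hμ fun d => congrFun (congrArg DFunLike.coe hc) d
  obtain ⟨m, hm⟩ := (LinearMap.injective_iff_surjective_of_finrank_eq_finrank
    (by rw [Subspace.dual_finrank_eq])).1 hinj g
  exact ⟨m, fun x => (congrFun (congrArg DFunLike.coe hm) x).symm⟩

omit [FiniteDimensional F K] in
/-- A commutator with a multiplication which is a multiplication vanishes. -/
theorem commute_of_commutator [Finite K] {Y : K →ₗ[F] K} {c k : K} (h : ∀ x, Y (c * x) - c * Y x = k * x) (x : K) :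
    Y (c * x) = c * Y x := by
  haveI : Fintype K := Fintype.ofFinite K
  have hi : ∀ (i : ℕ) (x : K), Y (c ^ i * x) - c ^ i * Y x = (i : K) * (c ^ (i - 1) * k * x) := by
    intro i
    induction i with
    | zero => simp
    | succ i ih =>
      intro x
      have e1 := ih (c * x)
      have e2 := h x
      rw [show c ^ (i + 1) * x = c ^ i * (c * x) by ring, Nat.add_sub_cancel, Nat.cast_succ]
      rcases i with - | i
      · simpa using e2
      · rw [Nat.add_sub_cancel] at e1
        linear_combination e1 + c ^ (i + 1) * e2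
  have h1 := hi (Fintype.card K) x
  rw [FiniteField.pow_card, FiniteField.cast_card_eq_zero, zero_mul, sub_eq_zero] at h1
  exact h1

omit [Fintype F] [FiniteDimensional F K] in
/-- A map commuting with an element outside the ground field is a multiplication. -/
theorem eq_mul_of_commute (hr : (finrank F K).Prime) {Y : K →ₗ[F] K} {c : K}
    (hc : c ∉ Set.range (algebraMap F K)) (h : ∀ x, Y (c * x) = c * Y x) (x : K) : Y x = Y 1 * x := by
  let S : Subalgebra F K :=
    { carrier := {d | ∀ x, Y (d * x) = d * Y x}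
      mul_mem' := fun {a b} ha hb x => by rw [mul_assoc, ha, hb, mul_assoc]
      add_mem' := fun {a b} ha hb x => by rw [add_mul, map_add, ha, hb, add_mul]
      algebraMap_mem' := fun a x => by rw [← Algebra.smul_def, map_smul, Algebra.smul_def] }
  haveI := Subalgebra.isSimpleOrder_of_finrank_prime F K hr
  rcases eq_bot_or_eq_top S with e | e
  · exact absurd (Algebra.mem_bot.1 (e ▸ h : c ∈ (⊥ : Subalgebra F K))) hc
  · have h1 : x ∈ S := e ▸ Algebra.mem_top
    simpa [mul_comm] using h1 1

omit [FiniteDimensional F K] in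
theorem eq_mul_of_polar [Finite K] (hr : (finrank F K).Prime) {S : K →ₗ[F] K} {k : K → K → K}
    (h : ∀ c d x, c * S (d * x) + d * S (c * x) = k c d * x) (x : K) : S x = S 1 * x := by
  obtain ⟨e, he⟩ : ∃ e : K, e ∉ Set.range (algebraMap F K) := by
    by_contra! hall
    have h1 : (⊤ : Subalgebra F K) = ⊥ := eq_bot_iff.2 fun b _ => Algebra.mem_bot.2 (hall b)
    exact Nat.not_prime_one ((Subalgebra.bot_eq_top_iff_finrank_eq_one.1 h1.symm) ▸ hr)
  by_cases h2 : (2 : K) = 0
  · refine eq_mul_of_commute hr he (commute_of_commutator (k := k 1 e) fun y => ?_) x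
    have h1 := h 1 e y
    simp only [one_mul] at h1
    linear_combination h1 - (e * S y) * h2
  · have e1 := h 1 1 x
    have e2 := h 1 1 1
    simp only [one_mul, mul_one] at e1 e2
    rw [← e2] at e1
    exact mul_left_cancel₀ h2 (by linear_combination e1)

/-- A space of self-adjoint coefficients containing the multiplications and closed under sandwiching. -/
structure Coeff (μ : K →ₗ[F] F) (R : Submodule F (K →ₗ[F] K)) : Prop where
  scalar : ∀ k, mulL k ∈ R
  sandwich : ∀ a, ∀ S ∈ R, (mulL a).comp (S.comp (mulL a)) ∈ R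
  sym : ∀ S ∈ R, ∀ a b, μ (S a * b) = μ (a * S b)

variable {R : Submodule F (K →ₗ[F] K)} (hR : Coeff μ R)

include hR

omit [Fintype F] [FiniteDimensional F K] in
theorem Coeff.polar {S : K →ₗ[F] K} (hS : S ∈ R) (c d : K) :
    (mulL c).comp (S.comp (mulL d)) + (mulL d).comp (S.comp (mulL c)) ∈ R := by
  have h := R.sub_mem (R.sub_mem (hR.sandwich (c + d) S hS) (hR.sandwich c S hS)) (hR.sandwich d S hS)
  convert h using 1
  refine LinearMap.ext fun x => ?_
  simp only [LinearMap.add_apply, LinearMap.sub_apply, LinearMap.comp_apply, mulL_apply, add_mul, map_add]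
  ring

omit [Fintype F] [FiniteDimensional F K] in
theorem Coeff.move {a b : K} (h : dy μ a b + dy μ b a ∈ R) (c : K) :
    dy μ (c * a) (c * b) + dy μ (c * b) (c * a) ∈ R := by
  convert hR.sandwich c _ h using 1
  refine LinearMap.ext fun x => ?_
  simp [mul_comm, mul_left_comm, mul_add]

omit [Fintype F] [FiniteDimensional F K] in
theorem Coeff.move_one {a : K} (h : dy μ a a ∈ R) (c : K) : dy μ (c * a) (c * a) ∈ R := by
  convert hR.sandwich c _ h using 1
  refine LinearMap.ext fun x => ?_
  simp [mul_comm, mul_left_comm]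

omit [Fintype F] in
/-- A coefficient of rank one is symmetric. -/
theorem Coeff.dy_mem_of_range (hμ : μ 1 = 1) {S : K →ₗ[F] K} (hS : S ∈ R) (hS0 : S ≠ 0) {a : K} (ha : a ≠ 0)
    (hran : ∀ x, ∃ s : F, S x = s • a) : dy μ 1 1 ∈ R := by
  choose g hg using hran
  obtain ⟨y, hy⟩ : ∃ y, μ (a * y) = 1 := ⟨a⁻¹, by rw [mul_inv_cancel₀ ha, hμ]⟩
  have hgx : ∀ x, g x = g y * μ (a * x) := fun x => by
    have h1 := hR.sym S hS x y
    rw [hg, hg, smul_mul_assoc, map_smul, hy, mul_comm x, smul_mul_assoc, map_smul, smul_eq_mul, smul_eq_mul,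
      mul_one] at h1
    exact h1
  have hgy : g y ≠ 0 := fun e => hS0 (LinearMap.ext fun x => by rw [hg, hgx, e, zero_mul, zero_smul]; rfl)
  have h1 : dy μ a a ∈ R := by
    convert R.smul_mem (g y)⁻¹ hS using 1
    refine LinearMap.ext fun x => ?_
    rw [LinearMap.smul_apply, hg x, hgx x, dy_apply, mul_smul, inv_smul_smul₀ hgy]
  simpa [ha] using hR.move_one h1 a⁻¹

/-- Quadratic extensions: non-scalar coefficients give rank one. -/
theorem Coeff.dy_mem_of_two (hμ : μ 1 = 1) (h2 : finrank F K = 2) {S : K →ₗ[F] K} (hS : S ∈ R)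
    (hns : NonScalar S) : dy μ 1 1 ∈ R := by
  set S' := S - mulL (S 1) with hS'
  have h1 : S' 1 = 0 := by simp [hS']
  have hS0 : S' ≠ 0 := fun e => by
    obtain ⟨c, hc⟩ := hns (S 1)
    exact hc (sub_eq_zero.1 (by simpa [hS'] using congrFun (congrArg DFunLike.coe e) c))
  obtain ⟨c, hc⟩ : ∃ c, S' c ≠ 0 := by
    by_contra! hall
    exact hS0 (LinearMap.ext hall)
  refine hR.dy_mem_of_range hμ (R.sub_mem hS (hR.scalar _)) hS0 hc fun x => ?_
  have hdim : finrank F (LinearMap.range S') ≤ 1 := by
    have := LinearMap.finrank_range_add_finrank_ker S'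
    have h3 : 0 < finrank F (LinearMap.ker S') := by
      rw [Module.finrank_pos_iff]
      exact ⟨⟨⟨1, h1⟩, 0, fun e => one_ne_zero (congrArg Subtype.val e)⟩⟩
    omega
  have hspan : Submodule.span F {S' c} = LinearMap.range S' := Submodule.eq_of_le_of_finrank_le
    ((Submodule.span_singleton_le_iff_mem _ _).2 (LinearMap.mem_range_self S' c))
    (by rw [finrank_span_singleton hc]; exact hdim)
  exact (Submodule.mem_span_singleton.1 (hspan.ge (LinearMap.mem_range_self S' x))).imp fun s e => e.symm

/-- Coefficients killing `p` have large values elsewhere. -/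
theorem Coeff.finrank_le_of_kill (hμ : μ 1 = 1) (hr : (finrank F K).Prime) {S : K →ₗ[F] K} (hS : S ∈ R)
    (hns : NonScalar S) {p z : K} (hp : p ≠ 0) (hz : ∀ s : F, z ≠ s • p) {A : Submodule F K}
    (hA : ∀ S' ∈ R, S' p = 0 → S' z ∈ A) : finrank F K ≤ finrank F A + 1 := by
  haveI : Finite K := Module.finite_of_finite F
  set t := z / p with htdef
  have ht : t ∉ Set.range (algebraMap F K) := fun ⟨s, hs⟩ => hz s (by
    rw [Algebra.smul_def, hs, htdef, div_mul_cancel₀ _ hp])
  let Φ : K →ₗ[F] (A →ₗ[F] F) :=
    { toFun := fun u => μ.comp ((mulL u).comp A.subtype)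
      map_add' := fun u u' => LinearMap.ext fun x => by simp [add_mul]
      map_smul' := fun s u => LinearMap.ext fun x => by simp }
  have hker : LinearMap.ker Φ ≤ Submodule.span F {p} := by
    intro u hu
    have hu' : ∀ x ∈ A, μ (u * x) = 0 := fun x hx =>
      congrFun (congrArg DFunLike.coe (LinearMap.mem_ker.1 hu)) ⟨x, hx⟩
    set u' := u / p with hu'def
    have hq : ∀ b, μ (u' * (b * S (t * b))) - μ (u' * (t * (b * S b))) = 0 := by
      intro b
      set k := b / p * S (b / p * p) / p
      have hm : (mulL (b / p)).comp (S.comp (mulL (b / p))) - mulL k ∈ R :=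
        R.sub_mem (hR.sandwich _ S hS) (hR.scalar _)
      have h0 := hu' _ (hA _ hm (by simp [k, hp]))
      have e1 : b / p * p = b := div_mul_cancel₀ _ hp
      have e2 : b / p * z = t * b := by rw [htdef]; ring
      simp only [k, LinearMap.sub_apply, LinearMap.comp_apply, mulL_apply, e1, e2] at h0
      rw [← map_sub, ← h0, hu'def, htdef]
      congr 1
      field_simp
    set C : K →ₗ[F] K := S.comp (mulL u') - (mulL u').comp S with hC
    have hD : ∀ b, C (t * b) = t * C b := fun b => by
      refine sub_eq_zero.1 (eq_zero_of_forall hμ fun d => ?_)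
      have h1 := hq (b + d)
      have h2 := hq b
      have h3 := hq d
      have s1 := hR.sym S hS (u' * b) (t * d)
      have s2 := hR.sym S hS (u' * (t * b)) d
      simp only [mul_add, add_mul, map_add] at h1
      simp only [hC, LinearMap.sub_apply, LinearMap.comp_apply, mulL_apply, mul_sub, sub_mul, map_sub]
      have r1 : t * S (u' * b) * d = S (u' * b) * (t * d) := by ring
      have r2 : u' * b * S (t * d) = u' * (b * S (t * d)) := mul_assoc _ _ _
      have r3 : u' * (t * b) * S d = u' * (t * (b * S d)) := by ring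
      have r4 : u' * S (t * b) * d = u' * (d * S (t * b)) := by ring
      have r5 : t * (u' * S b) * d = u' * (t * (d * S b)) := by ring
      rw [r1, s1, r2, s2, r3, r4, r5]
      linear_combination h2 + h3 - h1
    have hmul := eq_mul_of_commute hr ht hD
    have hcomm := commute_of_commutator (Y := S) (c := u') (k := C 1) (fun x => by
      rw [← hmul x]
      simp [hC])
    by_cases hu'F : u' ∈ Set.range (algebraMap F K)
    · obtain ⟨s, hs⟩ := hu'F
      exact Submodule.mem_span_singleton.2 ⟨s, by rw [Algebra.smul_def, hs, hu'def, div_mul_cancel₀ _ hp]⟩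
    · obtain ⟨c, hc⟩ := hns (S 1)
      exact absurd (eq_mul_of_commute hr hu'F hcomm c) hc
  have h1 := LinearMap.finrank_range_add_finrank_ker Φ
  have h2 := (Submodule.finrank_mono hker).trans (finrank_span_singleton hp).le
  have h3 : finrank F (LinearMap.range Φ) ≤ finrank F A :=
    (Submodule.finrank_le _).trans Subspace.dual_finrank_eq.le
  omega

omit [Fintype F] in
/-- Symmetric pairs and the multiplications give rank one. -/
theorem Coeff.dy_mem_of_pairs (hμ : μ 1 = 1) [Finite F] (hpair : ∀ a b, dy μ a b + dy μ b a ∈ R) :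
    dy μ 1 1 ∈ R := by
  haveI : Fintype F := Fintype.ofFinite F
  by_cases h2 : (2 : F) ≠ 0
  · convert R.smul_mem (2 : F)⁻¹ (hpair 1 1) using 1
    rw [← two_smul F (dy μ 1 1), inv_smul_smul₀ h2]
  rw [not_not] at h2
  haveI : CharP F 2 := CharTwo.of_one_ne_zero_of_two_eq_zero one_ne_zero h2
  haveI : Finite K := Module.finite_of_finite F
  haveI : CharP K 2 := charP_of_injective_algebraMap (algebraMap F K).injective 2
  -- alternating coefficients
  have halt : ∀ (n : ℕ) (S : K →ₗ[F] K), finrank F K - finrank F (LinearMap.ker S) ≤ n →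
      (∀ a b, μ (S a * b) = μ (a * S b)) → (∀ a, μ (a * S a) = 0) → S ∈ R := by
    intro n
    induction n with
    | zero =>
      intro S hn _ _
      have h1 : LinearMap.ker S = ⊤ := Submodule.eq_top_of_finrank_eq (le_antisymm (Submodule.finrank_le _) (by omega))
      rw [LinearMap.ker_eq_top.1 h1]
      exact R.zero_mem
    | succ n ih =>
      intro S hn hsym hzero
      by_cases hS : S = 0
      · rw [hS]
        exact R.zero_mem
      obtain ⟨b₀, hb₀⟩ : ∃ b, S b ≠ 0 := by
        by_contra! hall
        exact hS (LinearMap.ext hall)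
      obtain ⟨a, ha⟩ : ∃ a, μ (a * S b₀) = 1 := ⟨(S b₀)⁻¹, by rw [inv_mul_cancel₀ hb₀, hμ]⟩
      set P := dy μ (S a) (S b₀) + dy μ (S b₀) (S a) with hP
      set S' := S - P with hS'
      have hlt : LinearMap.ker S < LinearMap.ker S' := by
        refine lt_of_le_of_ne (fun x hx => ?_) fun e => ?_
        · rw [LinearMap.mem_ker] at hx ⊢
          simp [hS', hP, hx, hsym]
        · have h1 : a ∈ LinearMap.ker S' := by
            rw [LinearMap.mem_ker, hS', LinearMap.sub_apply, hP, LinearMap.add_apply, dy_apply, dy_apply,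
              mul_comm (S a) a, hzero, zero_smul, zero_add, mul_comm (S b₀) a, ha, one_smul, sub_self]
          rw [← e, LinearMap.mem_ker] at h1
          rw [← hsym, h1, zero_mul, map_zero] at ha
          exact zero_ne_one ha
      have h3 := ih S' (by
        have := Submodule.finrank_lt_finrank_of_lt hlt
        omega) (fun x y => by
        have e1 : μ (S a * x) * μ (S b₀ * y) + μ (S b₀ * x) * μ (S a * y) =
            μ (x * S b₀) * μ (S a * y) + μ (x * S a) * μ (S b₀ * y) := by
          rw [mul_comm x (S a), mul_comm x (S b₀)]; ring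
        simp only [hS', hP, LinearMap.sub_apply, LinearMap.add_apply, dy_apply, add_mul, mul_add, sub_mul, mul_sub,
          map_sub, map_add, smul_mul_assoc, mul_smul_comm, map_smul, smul_eq_mul, hsym x y]
        rw [e1]
        ring) (fun x => by
        simp only [hS', hP, LinearMap.sub_apply, LinearMap.add_apply, dy_apply, mul_add, mul_sub, map_sub, map_add,
          mul_smul_comm, map_smul, smul_eq_mul, hzero x, mul_comm x (S b₀), mul_comm x (S a)]
        linear_combination (-(μ (S a * x) * μ (S b₀ * x))) * h2)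
      have := R.add_mem h3 (hpair (S a) (S b₀))
      rwa [hS', ← hP, sub_add_cancel] at this
  let g : K →ₗ[F] F :=
    { toFun := fun y => μ ((frobeniusEquiv K 2).symm y) ^ 2
      map_add' := fun x y => by rw [map_add, map_add, CharTwo.add_sq]
      map_smul' := fun s x => by
        obtain ⟨s', hs'⟩ := FiniteField.isSquare_of_char_two (ringChar.eq F 2) s
        have e : (frobeniusEquiv K 2).symm (s • x) = s' • (frobeniusEquiv K 2).symm x := by
          rw [RingEquiv.symm_apply_eq, frobeniusEquiv_def, smul_pow, ← frobeniusEquiv_def K 2, RingEquiv.apply_symm_apply,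
            hs', sq]
        rw [e, map_smul, smul_eq_mul, mul_pow, hs', RingHom.id_apply, smul_eq_mul, sq s'] }
  obtain ⟨k, hk⟩ := exists_eq_mul hμ g
  have h4 : mulL k - dy μ 1 1 ∈ R := halt _ _ le_rfl (fun a b => by
      simp only [LinearMap.sub_apply, mulL_apply, dy_apply, one_mul, sub_mul, mul_sub, map_sub, smul_mul_assoc,
        mul_smul_comm, map_smul, smul_eq_mul, mul_one]
      rw [mul_comm (μ a) (μ b), mul_left_comm a k b, mul_assoc k a b]) (fun a => by
      have e : g (a ^ 2) = μ a ^ 2 := by
        show μ ((frobeniusEquiv K 2).symm (a ^ 2)) ^ 2 = _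
        rw [← frobeniusEquiv_def K 2, RingEquiv.symm_apply_apply]
      rw [hk] at e
      simp only [LinearMap.sub_apply, mulL_apply, dy_apply, one_mul, mul_sub, map_sub, mul_smul_comm, map_smul,
        smul_eq_mul, mul_one]
      rw [show a * (k * a) = k * a ^ 2 by ring, e]
      ring)
  simpa using R.sub_mem (hR.scalar k) h4

end CfsgLib.Geo.FieldExtSymp
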