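/-
Root elements in an overgroup of the symplectic group over a larger field.
-/
import Cfsg.Agent.Lib.Geo.FieldExtCore
import Cfsg.Agent.Lib.Geo.FieldExtSympAlg
import Cfsg.Agent.Lib.Classical.Symplectic.Basic

set_option autoImplicit false

namespace CfsgLib.Geo.FieldExtSymp

open Module LinearMap CfsgLib.Geo.FieldExt
open LinearMap (BilinForm)

variable {F K V : Type*} [Field F] [Fintype F] [Field K] [Algebra F K] [AddCommGroup V] [Module F V] [Module K V]
  [IsScalarTower F K V] [FiniteDimensional F K] [FiniteDimensional K V]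

/-- A group of isometries of `μ ∘ B` containing all isometries of `B`. -/
structure Setup (B : BilinForm K V) (μ : K →ₗ[F] F) (X : Subgroup (V ≃ₗ[F] V)) : Prop where
  alt : B.IsAlt
  nondeg : B.Nondegenerate
  mu_one : μ 1 = 1
  preserves : ∀ g ∈ X, ∀ x y, μ (B (g x) (g y)) = μ (B x y)
  base : ∀ g : V ≃ₗ[K] V, (∀ x y, B (g x) (g y) = B x y) → g.restrictScalars F ∈ X

variable {B : BilinForm K V} {μ : K →ₗ[F] F} {X : Subgroup (V ≃ₗ[F] V)} (hs : Setup B μ X)
include hs

omit [Fintype F] [FiniteDimensional F K] [FiniteDimensional K V] in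
theorem Setup.swap (x y : V) : B y x = -B x y := CfsgLib.Classical.Symp.swap hs.alt x y

omit [Fintype F] [FiniteDimensional F K] [FiniteDimensional K V] in
theorem Setup.exists_pairing {v : V} (hv : v ≠ 0) : ∃ u, B u v = 1 := by
  obtain ⟨u₀, hu₀⟩ : ∃ u, B u v ≠ 0 := by
    by_contra! hall
    exact hv (hs.nondeg.2 v hall)
  exact ⟨(B u₀ v)⁻¹ • u₀, by rw [map_smul, LinearMap.smul_apply, smul_eq_mul, inv_mul_cancel₀ hu₀]⟩

omit [Fintype F] [FiniteDimensional F K] in
theorem Setup.exists_dual (φ : V →ₗ[K] K) : ∃ z, ∀ x, φ x = B x z := by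
  obtain ⟨z, hz⟩ := (B.toDual hs.nondeg).surjective (-φ)
  refine ⟨z, fun x => ?_⟩
  have h := congrFun (congrArg DFunLike.coe hz) x
  rw [BilinForm.toDual_def, LinearMap.neg_apply] at h
  rw [hs.swap z x, h, neg_neg]

omit [Fintype F] [FiniteDimensional F K] [FiniteDimensional K V] in
theorem Setup.transvection_smul (v : V) (a : K) :
    U X (root v (a • B.flip v) (LinearMap.id : K →ₗ[F] K)) := by
  have h : (a • B.flip v) v = 0 := by simp [hs.alt v]
  refine ⟨_, hs.base (LinearEquiv.transvection h) fun x y => ?_, fun _ => rfl⟩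
  simp only [LinearEquiv.transvection.apply, LinearMap.smul_apply, LinearMap.BilinForm.flip_apply, map_add, map_smul,
    LinearMap.add_apply, smul_eq_mul, hs.alt v, hs.swap y v]
  ring

omit [Fintype F] [FiniteDimensional F K] [FiniteDimensional K V] in
theorem Setup.transvection (v : V) (a : K) : U X (root v (B.flip v) (mulL (F := F) a)) :=
  (hs.transvection_smul v a).congr fun y => by simp

omit [Fintype F] [FiniteDimensional F K] [FiniteDimensional K V] in
/-- Unipotents with totally isotropic image are self-adjoint. -/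
theorem Setup.adj_of_unipotent {T : V →ₗ[F] V} (hT : U X T) (hti : ∀ x y, μ (B (T x) (T y)) = 0) (y z : V) :
    μ (B (T y) z) = -μ (B y (T z)) := by
  obtain ⟨g, hg, hg'⟩ := hT
  have h1 := hs.preserves g hg y z
  simp only [hg', map_add, LinearMap.add_apply, hti, add_zero] at h1
  linear_combination h1

omit [Fintype F] [FiniteDimensional F K] [FiniteDimensional K V] in
theorem Setup.root_sq {v : V} (θ : K →ₗ[F] K) (y : V) :
    root v (B.flip v) θ (root v (B.flip v) θ y) = 0 := by
  simp [hs.alt v]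

/-- The coefficients of root elements on all lines. -/
def RS (B : BilinForm K V) (X : Subgroup (V ≃ₗ[F] V)) (S : K →ₗ[F] K) : Prop := ∀ v, U X (root v (B.flip v) S)

omit [Fintype F] [FiniteDimensional F K] in
theorem Setup.rs_of_root {v : V} (hv : v ≠ 0) {S : K →ₗ[F] K} (h : U X (root v (B.flip v) S)) : RS B X S := by
  intro w
  rcases eq_or_ne w 0 with rfl | hw
  · exact U.zero.congr fun y => by simp
  obtain ⟨g, -, hg⟩ := CfsgLib.Classical.Symp.sp_transitive_ne_zero hs.alt hs.nondeg hv hw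
  have hgB : ∀ x y, B ((g : V ≃ₗ[K] V) x) ((g : V ≃ₗ[K] V) y) = B x y := g.2
  refine (h.conj (hs.base _ hgB)).congr fun y => ?_
  show (g : V ≃ₗ[K] V) (S (B ((g : V ≃ₗ[K] V).symm y) v) • v) = S (B y w) • w
  rw [map_smul, hg, ← hgB ((g : V ≃ₗ[K] V).symm y) v, LinearEquiv.apply_symm_apply, hg]

omit [Fintype F] [FiniteDimensional F K] in
theorem Setup.sym_of_rs [Nontrivial V] {S : K →ₗ[F] K} (h : RS B X S) (a b : K) : μ (S a * b) = μ (a * S b) := by
  obtain ⟨v, hv⟩ := exists_ne (0 : V)
  obtain ⟨u, hu⟩ := hs.exists_pairing hv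
  have h1 := hs.adj_of_unipotent (h v) (fun x y => by simp [hs.alt v]) (a • u) (b • u)
  simp only [root_apply, LinearMap.BilinForm.flip_apply, map_smul, LinearMap.smul_apply, hu, smul_eq_mul, mul_one,
    hs.swap u v] at h1
  simp only [mul_neg, map_neg, mul_one, mul_comm (S b) a, neg_inj] at h1
  rw [mul_comm]
  exact h1

omit [Fintype F] [FiniteDimensional F K] [FiniteDimensional K V] in
theorem Setup.rs_add {S S' : K →ₗ[F] K} (h : RS B X S) (h' : RS B X S') : RS B X (S + S') := fun v =>
  ((h v).add (h' v) fun y => by simp [hs.alt v]).congr fun y => by simp [add_smul]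

omit [Fintype F] [FiniteDimensional F K] [FiniteDimensional K V] in
theorem Setup.rs_neg {S : K →ₗ[F] K} (h : RS B X S) : RS B X (-S) := fun v =>
  ((h v).neg (hs.root_sq S)).congr fun y => by simp

omit [Fintype F] [FiniteDimensional F K] [FiniteDimensional K V] in
theorem Setup.rs_sandwich {S : K →ₗ[F] K} (h : RS B X S) (a : K) : RS B X ((mulL a).comp (S.comp (mulL a))) :=
  fun v => (h (a • v)).congr fun y => by simp [smul_smul, mul_comm]

omit [Fintype F] [FiniteDimensional F K] [FiniteDimensional K V] in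
theorem Setup.rs_sq {S : K →ₗ[F] K} (h : RS B X S) (s : F) : RS B X ((s * s) • S) := fun v =>
  ((hs.rs_sandwich h (algebraMap F K s)) v).congr fun y => by
    simp only [root_apply, LinearMap.comp_apply, mulL_apply, LinearMap.smul_apply, ← Algebra.smul_def, map_smul,
      smul_smul, smul_assoc]

omit [FiniteDimensional F K] [FiniteDimensional K V] in
theorem Setup.rs_smul {S : K →ₗ[F] K} (h : RS B X S) (s : F) : RS B X (s • S) := by
  by_cases h2 : (2 : F) = 0
  · haveI : CharP F 2 := CharTwo.of_one_ne_zero_of_two_eq_zero one_ne_zero h2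
    obtain ⟨t, rfl⟩ := FiniteField.isSquare_of_char_two (ringChar.eq F 2) s
    exact hs.rs_sq h t
  · have h4 : (4 : F) ≠ 0 := by
      rw [show (4 : F) = 2 * 2 by norm_num]
      exact mul_ne_zero h2 h2
    have e : (s / 4 + 1) * (s / 4 + 1) + -((s / 4 - 1) * (s / 4 - 1)) = s := by field_simp; ring
    intro v
    refine ((hs.rs_add (hs.rs_sq h (s / 4 + 1)) (hs.rs_neg (hs.rs_sq h (s / 4 - 1)))) v).congr fun y => ?_
    simp only [root_apply, LinearMap.add_apply, LinearMap.neg_apply, LinearMap.smul_apply]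
    rw [← neg_smul (R := F), ← add_smul (R := F), e]

/-- The space of coefficients. -/
def Setup.coeff : Submodule F (K →ₗ[F] K) where
  carrier := {S | RS B X S}
  add_mem' := fun h h' => hs.rs_add h h'
  zero_mem' := fun v => U.zero.congr fun y => by simp
  smul_mem' := fun s _ h => hs.rs_smul h s

theorem Setup.coeff_spec [Nontrivial V] : Coeff μ hs.coeff where
  scalar := fun k v => hs.transvection v k
  sandwich := fun a _ h => hs.rs_sandwich h a
  sym := fun _ h => hs.sym_of_rs h

omit [Fintype F] [FiniteDimensional F K] [FiniteDimensional K V] in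
/-- Images of lines are totally isotropic. -/
theorem Setup.img_isotropic {h : V ≃ₗ[F] V} (hh : h ∈ X) {v : V} {x y : V}
    (hx : x ∈ (line (F := F) K v).map (h : V →ₗ[F] V)) (hy : y ∈ (line (F := F) K v).map (h : V →ₗ[F] V)) :
    μ (B x y) = 0 := by
  obtain ⟨a, ha, rfl⟩ := hx
  obtain ⟨b, hb, rfl⟩ := hy
  obtain ⟨c, rfl⟩ := mem_line.1 ha
  obtain ⟨d, rfl⟩ := mem_line.1 hb
  show μ (B (h (c • v)) (h (d • v))) = 0
  rw [hs.preserves h hh]
  simp [hs.alt v]

omit [Fintype F] [FiniteDimensional F K] [FiniteDimensional K V] in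
theorem Setup.eta_adj {h : V ≃ₗ[F] V} (hh : h ∈ X) {v v' : V} {η : V →ₗ[F] V} (he : Eta K X h v v' η) (y z : V) :
    μ (B (η y) z) = -μ (B y (η z)) :=
  hs.adj_of_unipotent he.mem (fun _ _ => hs.img_isotropic hh ((SetLike.ext_iff.1 he.range _).1
    (LinearMap.mem_range_self η _)) ((SetLike.ext_iff.1 he.range _).1 (LinearMap.mem_range_self η _))) y z

theorem Setup.exists_eta {h : V ≃ₗ[F] V} {v v' : V} (ht : MaxTrip K X h v v') :
    ∃ η : V →ₗ[F] V, ∀ s : F, s ≠ 0 → Eta K X h v v' (s • η) := by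
  obtain ⟨u, hu⟩ := hs.exists_pairing ht.trip.2.1
  exact exists_eta_of ht (φ₁ := B.flip v) (x₀ := u) hu (hs.alt v) fun k => hs.transvection_smul v k

omit [Fintype F] in
/-- The commutator of a root element on the line of `v'` with `η`. -/
theorem Setup.rs_comCoef {h : V ≃ₗ[F] V} {v v' : V} {η : V →ₗ[F] V} (ht : MaxTrip K X h v v')
    (he : Eta K X h v v' η) {u : V} (hu : B u v' = 1) {lam Q S : K →ₗ[F] K}
    (hlam : ∀ c, lam c • v' = η (c • v')) (hQ : ∀ c, Q c = B (η (c • u)) v') (hS : RS B X S) :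
    RS B X (comCoef lam Q S) := by
  set α := root v' (B.flip v') S
  have hαL : ∀ c : K, α (c • v') = 0 := fun c => by simp [α, hs.alt v']
  have hηα : ∀ y, η (α y) = lam (S (B y v')) • v' := fun y => by rw [hlam]; rfl
  have hαηα : ∀ y, α (η (α y)) = 0 := fun y => by rw [hηα, hαL]
  let ζ : V →ₗ[F] V := η.comp α - α.comp η - η.comp (α.comp η)
  have hζ : U X ζ := U.commutator (T := η) (S := α) he.mem (hS v') he.sq (hs.root_sq S) fun y => by simp [ζ, hαηα]
  have hζu : ∀ c : K, ζ (c • u) = comCoef lam Q S c • v' := fun c => by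
    have hαc : ∀ y, α y = S (B y v') • v' := fun y => rfl
    simp only [ζ, LinearMap.sub_apply, LinearMap.comp_apply, hηα, comCoef_apply, sub_smul]
    rw [hαc (η (c • u)), ← hQ, map_smul, LinearMap.smul_apply, hu, smul_eq_mul, mul_one]
  have hζL : ∀ c : K, ζ (c • v') = 0 := fun c => by simp [ζ, hαL, ← hlam]
  have hζim : ∀ y, ∃ d : K, d • v' = ζ y := fun y => mem_line.1 (by
    have hα : ∀ z, α z ∈ line (F := F) K v' := fun z => mem_line.2 ⟨_, rfl⟩
    exact sub_mem (sub_mem (he.stable _ (hα _)) (hα _)) (he.stable _ (hα _)))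
  have hperp : ∀ y, B y v' = 0 → ζ y = 0 := by
    intro y hy
    obtain ⟨d, hd⟩ := hζim y
    rw [← hd]
    have hd0 : d = 0 := eq_zero_of_forall hs.mu_one fun e => by
      have h1 := hs.adj_of_unipotent hζ (fun x z => by
        obtain ⟨a, ha⟩ := hζim x
        obtain ⟨b, hb⟩ := hζim z
        simp [← ha, ← hb, hs.alt v']) y (e • u)
      obtain ⟨b, hb⟩ := hζim (e • u)
      simp only [← hd, ← hb, map_smul, LinearMap.smul_apply, smul_eq_mul, hy, mul_zero, map_zero, neg_zero,
        hs.swap u v', hu, mul_neg, mul_one, map_neg, neg_eq_zero] at h1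
      rwa [mul_comm]
    rw [hd0, zero_smul]
  refine hs.rs_of_root ht.trip.2.2.1 (hζ.congr fun y => ?_)
  have h1 := hperp (y - B y v' • u) (by simp [hu])
  rw [map_sub, sub_eq_zero] at h1
  rw [h1, hζu]
  rfl

end CfsgLib.Geo.FieldExtSymp
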