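/-
An image of a line perpendicular to the maximal intersection: a transvection over the smaller field.
-/
import Cfsg.Agent.Lib.Geo.FieldExtSympBasic

set_option autoImplicit false

namespace CfsgLib.Geo.FieldExtSymp

open Module LinearMap CfsgLib.Geo.FieldExt
open LinearMap (BilinForm)

variable {F K V : Type*} [Field F] [Fintype F] [Field K] [Algebra F K] [AddCommGroup V] [Module F V] [Module K V]
  [IsScalarTower F K V] [FiniteDimensional F K] [FiniteDimensional K V]
  {B : BilinForm K V} {μ : K →ₗ[F] F} {X : Subgroup (V ≃ₗ[F] V)} (hs : Setup B μ X)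
  {h : V ≃ₗ[F] V} {v v' : V} {η : V →ₗ[F] V}
include hs

omit [Fintype F] [FiniteDimensional F K] [FiniteDimensional K V] in
theorem Setup.eq_zero_of_pairing {x : V} (hx : ∀ z, μ (B x z) = 0) : x = 0 :=
  hs.nondeg.1 x fun z => eq_zero_of_forall hs.mu_one fun d => by
    simpa [mul_comm] using hx (d • z)

/-- The quadratic map of `η` is not scalar on some line. -/
theorem Setup.exists_nonScalar_line (hr : (finrank F K).Prime) (ht : MaxTrip K X h v v')
    (he : Eta K X h v v' η) : ∃ z : V, ∀ a : K, ∃ c : K, B (η (c • z)) z ≠ a * c := by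
  by_contra! hall
  choose k hk using hall
  haveI : Finite K := Module.finite_of_finite F
  have key : ∀ (e : K) (z w : V), B (η (e • z)) w = e * B (η z) w := by
    intro e z w
    have h1 : ∀ (e c : K), B (η ((c * e) • z)) w + e * B (η (c • w)) z = (k (e • z + w) - k (e • z) - k w) * c := by
      intro e c
      have e1 := hk (e • z + w) c
      have e2 := hk (e • z) c
      have e3 := hk w c
      simp only [smul_add, map_add, LinearMap.add_apply, map_smul, LinearMap.smul_apply, smul_eq_mul,
        smul_smul] at e1 e2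
      linear_combination e1 - e2 - e3
    let Y : K →ₗ[F] K :=
      { toFun := fun c => B (η (c • z)) w
        map_add' := fun a b => by simp [add_smul]
        map_smul' := fun s a => by
          rw [RingHom.id_apply, smul_assoc, map_smul, ← algebraMap_smul K s (η (a • z)), map_smul,
            LinearMap.smul_apply, algebraMap_smul] }
    have h2 : ∀ c, Y (e * c) - e * Y c =
        ((k (e • z + w) - k (e • z) - k w) - e * (k ((1 : K) • z + w) - k ((1 : K) • z) - k w)) * c := fun c => by
      have e1 := h1 e c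
      have e2 := h1 1 c
      rw [mul_one, one_mul] at e2
      show B (η ((e * c) • z)) w - e * B (η (c • z)) w = _
      rw [mul_comm e c]
      linear_combination e1 - e * e2
    have h3 := commute_of_commutator h2 1
    simpa [Y] using h3
  have hlin : ∀ (e : K) (z : V), η (e • z) = e • η z := fun e z => by
    refine sub_eq_zero.1 (hs.nondeg.1 _ fun w => ?_)
    rw [map_sub, LinearMap.sub_apply, key]
    simp
  obtain ⟨y, hy⟩ : v' ∈ LinearMap.range η := (SetLike.ext_iff.1 he.range _).2 ht.mem
  haveI : Module.Finite F V := Module.Finite.trans K V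
  refine ht.trip.2.2.2 v' (Submodule.eq_of_le_of_finrank_le (fun x hx => ?_) ?_).symm
  · obtain ⟨c, rfl⟩ := mem_line.1 hx
    exact (SetLike.ext_iff.1 he.range _).1 ⟨c • y, by rw [hlin, hy]⟩
  · rw [finrank_img h ht.trip.2.1, finrank_line ht.trip.2.2.1]

omit [Fintype F] [FiniteDimensional F K] [FiniteDimensional K V] in
/-- A move along a hyperbolic pair. -/
theorem Setup.exists_move {v₁ z : V} (hz : B z v₁ = 0) (c : K) :
    ∃ g : V ≃ₗ[K] V, g.restrictScalars F ∈ X ∧
      (∀ y, g y = y + c • (B y v₁ • (-z) + B y (-z) • v₁)) ∧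
      ∀ y, g.symm y = y - c • (B y v₁ • (-z) + B y (-z) • v₁) := by
  let N : V →ₗ[K] V := c • ((B.flip v₁).smulRight (-z) + (B.flip (-z)).smulRight v₁)
  have hN : ∀ y, N y = c • (B y v₁ • (-z) + B y (-z) • v₁) := fun y => rfl
  have hz' : B v₁ z = 0 := by rw [hs.swap z v₁, hz, neg_zero]
  have hNN : ∀ y, N (N y) = 0 := fun y => by
    simp only [hN, map_add, map_smul, LinearMap.add_apply, LinearMap.smul_apply, map_neg, LinearMap.neg_apply, hz,
      hz', hs.alt v₁, hs.alt z]
    simp
  let g : V ≃ₗ[K] V := LinearEquiv.ofLinear (LinearMap.id + N) (LinearMap.id - N)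
    (LinearMap.ext fun y => by simp [hNN]) (LinearMap.ext fun y => by simp [hNN])
  refine ⟨g, hs.base g fun x y => ?_, fun y => rfl, fun y => rfl⟩
  show B (x + N x) (y + N y) = B x y
  simp only [hN, map_add, LinearMap.add_apply, map_smul, LinearMap.smul_apply, map_neg, LinearMap.neg_apply,
    smul_eq_mul, hz, hz', hs.alt v₁, hs.alt z, hs.swap y v₁, hs.swap y z]
  ring

omit [Fintype F] in
/-- The second difference of the conjugates of `η` by the moves. -/
theorem Setup.rs_polar (hη : U X η) {v₁ u₁ z : V} (hv₁ : v₁ ≠ 0) (hvu : B v₁ u₁ = 0) (hzv : B z v₁ = 0)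
    (him : ∀ y, η y ∈ Submodule.span K {v₁, u₁}) (hkill : ∀ y, B y v₁ = 0 → B y u₁ = 0 → η y = 0) {S : K →ₗ[F] K}
    (hS : ∀ c, S c = -B (η (c • z)) z) (c d : K) :
    RS B X ((mulL c).comp (S.comp (mulL d)) + (mulL d).comp (S.comp (mulL c))) := by
  have hP : ∀ x ∈ Submodule.span K {v₁, u₁}, B x v₁ = 0 ∧ B x u₁ = 0 := by
    intro x hx
    obtain ⟨a, b, rfl⟩ := Submodule.mem_span_pair.1 hx
    simp [hs.alt v₁, hs.alt u₁, hvu, hs.swap v₁ u₁]
  have hPη : ∀ x ∈ Submodule.span K {v₁, u₁}, η x = 0 := fun x hx => hkill x (hP x hx).1 (hP x hx).2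
  have hNP : ∀ x ∈ Submodule.span K {v₁, u₁}, ∀ e : K,
      e • (B x v₁ • (-z) + B x (-z) • v₁) = (-(e * B x z)) • v₁ := fun x hx e => by
    rw [(hP x hx).1, zero_smul, zero_add, smul_smul, map_neg]
    congr 1
    ring
  have hvP : v₁ ∈ Submodule.span K {v₁, u₁} := Submodule.subset_span (by simp)
  choose g hgX hg hg' using fun e : K => hs.exists_move hzv e
  let C : K → (V →ₗ[F] V) := fun e =>
    ((g e).restrictScalars F : V →ₗ[F] V).comp (η.comp (((g e).restrictScalars F).symm : V →ₗ[F] V))
  have hC : ∀ e, U X (C e) := fun e => hη.conj (hgX e)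
  have hCy : ∀ e y, C e y = η ((g e).symm y) + (-(e * B (η ((g e).symm y)) z)) • v₁ := fun e y => by
    show g e (η ((g e).symm y)) = _
    rw [hg, hNP _ (him _)]
  have hCim : ∀ e y, C e y ∈ Submodule.span K {v₁, u₁} := fun e y => by
    rw [hCy]; exact add_mem (him _) (Submodule.smul_mem _ _ hvP)
  have hCP : ∀ e, ∀ x ∈ Submodule.span K {v₁, u₁}, C e x = 0 := fun e x hx => by
    have h1 : η ((g e).symm x) = 0 := hPη _ (by
      rw [hg', hNP x hx]; exact sub_mem hx (Submodule.smul_mem _ _ hvP))
    simp [hCy, h1]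
  have hU : U X (C (c + d) + (-C c) + (-C d) + η) := by
    refine ((((hC _).add ((hC c).neg fun y => hCP _ _ (hCim _ _)) fun y => ?_).add
      ((hC d).neg fun y => hCP _ _ (hCim _ _)) fun y => ?_).add hη fun y => ?_)
    · exact hCP _ _ (neg_mem (hCim _ _))
    · simp only [LinearMap.add_apply, LinearMap.neg_apply, hCP _ _ (neg_mem (hCim d y))]
      simp
    · simp only [LinearMap.add_apply, LinearMap.neg_apply, hCP _ _ (him _)]
      simp
  refine hs.rs_of_root hv₁ (hU.congr fun y => ?_)
  have hηN : ∀ e, η ((g e).symm y) = η y - η (-(e * B y v₁) • z) := fun e => by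
    rw [hg', map_sub, smul_add, map_add, smul_smul, smul_smul, hPη _ (Submodule.smul_mem _ (e * B y (-z)) hvP),
      add_zero]
    simp
  have hadd : ∀ a b : K, η ((a + b) • z) = η (a • z) + η (b • z) := fun a b => by rw [add_smul, map_add]
  simp only [LinearMap.add_apply, LinearMap.neg_apply, hCy, hηN, add_mul, neg_add, hadd, map_add, map_sub,
    LinearMap.add_apply, LinearMap.sub_apply, root_apply, LinearMap.comp_apply, mulL_apply, hS,
    LinearMap.BilinForm.flip_apply, neg_mul, neg_smul, map_neg, LinearMap.neg_apply, mul_add, mul_sub, mul_neg,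
    add_smul, sub_smul, neg_smul]
  abel

omit [Fintype F] in
/-- The first difference, when the quadratic map vanishes. -/
theorem Setup.rs_diff (hη : U X η) {v₁ u₁ z w : V} (hv₁ : v₁ ≠ 0) (hvu : B v₁ u₁ = 0) (hzv : B z v₁ = 0)
    (hzu : B z u₁ = 1) (hwv : B w v₁ = 1) (hwu : B w u₁ = 0)
    (him : ∀ y, η y ∈ Submodule.span K {v₁, u₁}) (hkill : ∀ y, B y v₁ = 0 → B y u₁ = 0 → η y = 0)
    (hS : ∀ c : K, B (η (c • z)) z = 0) (c : K) {θ : K →ₗ[F] K}
    (hθ : ∀ e, θ e = c * B z (η (e • w)) + B w (η ((c * e) • z))) : RS B X θ := by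
  have hP : ∀ x ∈ Submodule.span K {v₁, u₁}, B x v₁ = 0 ∧ B x u₁ = 0 ∧ x = B w x • v₁ + B z x • u₁ := by
    intro x hx
    obtain ⟨a, b, rfl⟩ := Submodule.mem_span_pair.1 hx
    refine ⟨by simp [hs.alt v₁, hs.swap v₁ u₁, hvu], by simp [hs.alt u₁, hvu], ?_⟩
    simp [hzv, hzu, hwv, hwu]
  have hPη : ∀ x ∈ Submodule.span K {v₁, u₁}, η x = 0 := fun x hx => hkill x (hP x hx).1 (hP x hx).2.1
  have hvP : v₁ ∈ Submodule.span K {v₁, u₁} := Submodule.subset_span (by simp)
  obtain ⟨g, hgX, hg, hg'⟩ := hs.exists_move hzv c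
  have hgP : ∀ x ∈ Submodule.span K {v₁, u₁}, g x = x + (c * B z x) • v₁ := fun x hx => by
    rw [hg, (hP x hx).1, zero_smul, zero_add, smul_smul, map_neg, ← hs.swap x z]
  have hgP' : ∀ y, g (η (g.symm y)) ∈ Submodule.span K {v₁, u₁} := fun y => by
    rw [hgP _ (him _)]; exact add_mem (him _) (Submodule.smul_mem _ _ hvP)
  have hU := (hη.conj hgX).add (hη.neg fun y => hPη _ (him _)) fun y => by
    show g (η (g.symm (-η y))) = 0
    have h1 : η (g.symm (-η y)) = 0 := hPη _ (by
      rw [hg', (hP _ (neg_mem (him y))).1, zero_smul, zero_add, smul_smul]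
      exact sub_mem (neg_mem (him y)) (Submodule.smul_mem _ _ hvP))
    rw [h1, map_zero]
  refine hs.rs_of_root hv₁ (hU.congr fun y => ?_)
  have e1 : η (g.symm y) = η y + η ((c * B y v₁) • z) := by
    rw [hg', map_sub, smul_add, smul_smul, smul_smul, map_add, hPη _ (Submodule.smul_mem _ (c * B y (-z)) hvP),
      add_zero, smul_neg, map_neg, sub_neg_eq_add]
  have e2 : η ((c * B y v₁) • z) = B w (η ((c * B y v₁) • z)) • v₁ := by
    conv_lhs => rw [(hP _ (him _)).2.2]
    rw [hs.swap (η ((c * B y v₁) • z)) z, hS, neg_zero, zero_smul, add_zero]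
  have e3 : B z (η y) = B z (η (B y v₁ • w)) := by
    have h1 := hkill (y - (B y v₁ • w + B y u₁ • z)) (by simp [hwv, hzv]) (by simp [hwu, hzu])
    rw [map_sub, sub_eq_zero, map_add] at h1
    rw [h1, map_add, hs.swap (η (B y u₁ • z)) z, hS, neg_zero, add_zero]
  show g (η (g.symm y)) + -η y = θ (B y v₁) • v₁
  rw [hgP _ (him _), e1, map_add, e3, hs.swap (η ((c * B y v₁) • z)) z, hS, neg_zero, add_zero, hθ, add_smul, ← e2]
  abel

/-- An image perpendicular to the intersection gives rank one. -/
theorem Setup.dy_mem_of_perp [Nontrivial V] (hr : (finrank F K).Prime) (ht : MaxTrip K X h v v')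
    (hperp : ∀ x ∈ (line (F := F) K v).map (h : V →ₗ[F] V), B x v' = 0) : dy μ 1 1 ∈ hs.coeff := by
  haveI : Module.Finite F V := Module.Finite.trans K V
  have hR := hs.coeff_spec
  obtain ⟨η, hη⟩ := hs.exists_eta ht
  have he : Eta K X h v v' η := by simpa using hη 1 one_ne_zero
  obtain ⟨hh, hv, hv', hns⟩ := ht.trip
  set W := (line (F := F) K v).map (h : V →ₗ[F] V)
  obtain ⟨u, huW, hu⟩ : ∃ u ∈ W, u ∉ line (F := F) K v' := by
    by_contra! hall
    refine hns v' (Submodule.eq_of_le_of_finrank_le hall ?_)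
    rw [finrank_img h hv, finrank_line hv']
  have huv : B u v' = 0 := hperp u huW
  have hvu : B v' u = 0 := by rw [hs.swap u v', huv, neg_zero]
  -- the image lies in the plane
  have hWP : ∀ x ∈ W, x ∈ Submodule.span K {v', u} := by
    intro x hx
    by_contra hxP
    obtain ⟨φ, hφx, hφ⟩ := exists_functional (K := K) hxP
    obtain ⟨z, hz⟩ := hs.exists_dual φ
    have hzv : B v' z = 0 := by rw [← hz]; exact hφ _ (Submodule.subset_span (by simp))
    have hzu : B u z = 0 := by rw [← hz]; exact hφ _ (Submodule.subset_span (by simp))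
    rw [hz] at hφx
    have hmem : ∀ k : K, k • z ∈ W := fun k => by
      obtain ⟨s, hsX, hs'⟩ := hs.transvection z k
      have h1 := ht.map_mem hsX huW hu (by simp [hs', hzu]) (fun a _ ha' => by
        obtain ⟨e, rfl⟩ := mem_line.1 ha'
        simp [hs', hzv]) x hx
      rw [hs'] at h1
      have h2 := sub_mem h1 hx
      rw [add_sub_cancel_left] at h2
      rw [root_apply, mulL_apply, LinearMap.BilinForm.flip_apply, hφx, mul_one] at h2
      exact h2
    refine hns z (Submodule.eq_of_le_of_finrank_le ?_ ?_).symm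
    · intro y hy
      obtain ⟨k, rfl⟩ := mem_line.1 hy
      exact hmem k
    · rw [finrank_img h hv, finrank_line (fun e => by simp [e] at hφx)]
  have hP : ∀ x ∈ Submodule.span K {v', u}, B x v' = 0 ∧ B x u = 0 := by
    intro x hx
    obtain ⟨a, b, rfl⟩ := Submodule.mem_span_pair.1 hx
    simp [hs.alt v', hs.alt u, huv, hvu]
  have him : ∀ y, η y ∈ Submodule.span K {v', u} := fun y =>
    hWP _ ((SetLike.ext_iff.1 he.range _).1 (LinearMap.mem_range_self η y))
  have hkill : ∀ y, B y v' = 0 → B y u = 0 → η y = 0 := fun y h1 h2 => hs.eq_zero_of_pairing fun z => by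
    obtain ⟨a, b, hab⟩ := Submodule.mem_span_pair.1 (him z)
    rw [hs.eta_adj hh he y z, ← hab]
    simp [h1, h2]
  -- a non-scalar coefficient
  obtain ⟨S₁, hS₁, hS₁n⟩ : ∃ S ∈ hs.coeff, CfsgLib.Geo.FieldExt.NonScalar S := by
    obtain ⟨z, hz⟩ := hs.exists_nonScalar_line hr ht he
    obtain ⟨u₁, v₁, hvu₁, hv₁, hv₁0, hspan⟩ : ∃ u₁ v₁ : V, B v₁ u₁ = 0 ∧ B z v₁ = 0 ∧ v₁ ≠ 0 ∧
        Submodule.span K {v', u} ≤ Submodule.span K {v₁, u₁} := by
      by_cases h0 : B z v' = 0
      · exact ⟨u, v', hvu, h0, hv', le_rfl⟩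
      · refine ⟨v', u - (B z u / B z v') • v', by simp [huv, hs.alt v'], by simp [h0], fun e => ?_, ?_⟩
        · exact hu (mem_line.2 ⟨_, (sub_eq_zero.1 e).symm⟩)
        · rw [Submodule.span_le]
          rintro x (rfl | rfl)
          · exact Submodule.subset_span (by simp)
          · exact Submodule.mem_span_pair.2 ⟨1, B z x / B z v', by simp⟩
    let S : K →ₗ[F] K :=
      { toFun := fun c => -B (η (c • z)) z
        map_add' := fun a b => by simp [add_smul]; ring
        map_smul' := fun s a => by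
          rw [RingHom.id_apply, smul_assoc, map_smul, ← algebraMap_smul K s (η (a • z)), map_smul,
            LinearMap.smul_apply, algebraMap_smul]
          exact (smul_neg s _).symm }
    have hT := hs.rs_polar he.mem hv₁0 hvu₁ hv₁ (fun y => hspan (him y))
      (fun y h1 h2 => hkill y
        (by obtain ⟨a, b, hab⟩ := Submodule.mem_span_pair.1 (hspan (Submodule.subset_span (by simp) :
              v' ∈ Submodule.span K {v', u}))
            rw [← hab]; simp [h1, h2])
        (by obtain ⟨a, b, hab⟩ := Submodule.mem_span_pair.1 (hspan (Submodule.subset_span (by simp) :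
              u ∈ Submodule.span K {v', u}))
            rw [← hab]; simp [h1, h2]))
      (S := S) (fun c => rfl)
    by_contra! hno
    simp only [CfsgLib.Geo.FieldExt.NonScalar, not_forall, not_exists, not_not] at hno
    choose k hk using fun c d => hno _ (hT c d)
    haveI : Finite K := Module.finite_of_finite F
    have hmul := eq_mul_of_polar hr (S := S) (k := k) (fun c d x => by simpa using hk c d x)
    obtain ⟨c, hc⟩ := hz (-S 1)
    refine hc ?_
    have := hmul c
    change -B (η (c • z)) z = _ at this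
    linear_combination -this
  obtain ⟨φu, hφuu, hφu⟩ := exists_functional (K := K) (u := u) (P := Submodule.span K {v'})
    (fun hm => hu (mem_line.2 (Submodule.mem_span_singleton.1 hm)))
  obtain ⟨zu', hzu'⟩ := hs.exists_dual φu
  obtain ⟨φv, hφvv, hφv⟩ := exists_functional (K := K) (u := v') (P := Submodule.span K {u}) (fun hm => by
    obtain ⟨a, ha⟩ := Submodule.mem_span_singleton.1 hm
    have ha0 : a ≠ 0 := fun e => hv' (by rw [← ha, e, zero_smul])
    exact hu (mem_line.2 ⟨a⁻¹, by rw [← ha, inv_smul_smul₀ ha0]⟩))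
  obtain ⟨zv', hzv'⟩ := hs.exists_dual φv
  set z := -zu' with hzdef
  set w := -zv' with hwdef
  have hzu : B z u = 1 := by rw [hzdef, map_neg, LinearMap.neg_apply, ← hs.swap, ← hzu', hφuu]
  have hzv : B z v' = 0 := by
    rw [hzdef, map_neg, LinearMap.neg_apply, ← hs.swap, ← hzu']; exact hφu _ (Submodule.mem_span_singleton_self _)
  have hwv : B w v' = 1 := by rw [hwdef, map_neg, LinearMap.neg_apply, ← hs.swap, ← hzv', hφvv]
  have hwu : B w u = 0 := by
    rw [hwdef, map_neg, LinearMap.neg_apply, ← hs.swap, ← hzv']; exact hφv _ (Submodule.mem_span_singleton_self _)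
  have hzv0 : B v' z = 0 := by rw [hs.swap z v', hzv, neg_zero]
  have hzu0 : B u z = -1 := by rw [hs.swap z u, hzu]
  -- values in the ground field
  have hval : ∀ x ∈ W, ∃ s : F, B z x = s • (1 : K) := by
    intro x hx
    by_contra! hne
    have h1 := hR.finrank_le_of_kill hs.mu_one hr hS₁ hS₁n one_ne_zero hne (A := (⊥ : Submodule F K))
      (fun S' hS' h1' => by
        obtain ⟨s, hsX, hs'⟩ := (hS' : RS B X S') z
        have h2 := ht.map_mem hsX huW hu (by simp [hs', hzu0, h1']) (fun a _ ha' => by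
          obtain ⟨e, rfl⟩ := mem_line.1 ha'
          simp [hs', hzv0]) x hx
        rw [hs'] at h2
        have h3 := sub_mem h2 hx
        rw [add_sub_cancel_left, root_apply, LinearMap.BilinForm.flip_apply, hs.swap z x, map_neg] at h3
        have h4 := (hP _ (hWP _ h3)).2
        rw [map_smul, LinearMap.smul_apply, hzu, smul_eq_mul, mul_one, neg_eq_zero] at h4
        rw [Submodule.mem_bot]
        exact h4)
    rw [finrank_bot] at h1
    have := hr.two_le
    omega
  refine hR.dy_mem_of_pairs hs.mu_one fun a b => ?_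
  by_cases hS0 : ∀ c : K, B (η (c • z)) z = 0
  · let g : K →ₗ[F] F :=
      { toFun := fun e => μ (B z (η (e • w)))
        map_add' := fun a b => by simp [add_smul]
        map_smul' := fun s a => by
          rw [RingHom.id_apply, smul_assoc, map_smul, ← algebraMap_smul K s (η (a • w)), map_smul, algebraMap_smul,
            map_smul] }
    obtain ⟨m, hm⟩ := exists_eq_mul hs.mu_one g
    have hM : ∀ e, B z (η (e • w)) = μ (m * e) • (1 : K) := fun e => by
      obtain ⟨s, hs'⟩ := hval _ ((SetLike.ext_iff.1 he.range _).1 (LinearMap.mem_range_self η (e • w)))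
      rw [← hm]
      show _ = μ (B z (η (e • w))) • (1 : K)
      rw [hs', map_smul, hs.mu_one, smul_eq_mul, mul_one]
    have hM' : ∀ d, B w (η (d • z)) = μ d • m := fun d => by
      refine sub_eq_zero.1 (eq_zero_of_forall hs.mu_one fun e => ?_)
      have h1 := hs.eta_adj hh he (e • w) (d • z)
      have e1 : B (η (e • w)) (d • z) = -(d * (μ (m * e) • (1 : K))) := by
        rw [map_smul, hs.swap z (η (e • w)), hM, smul_eq_mul, mul_neg]
      have e2 : B (e • w) (η (d • z)) = e * B w (η (d • z)) := by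
        rw [map_smul, LinearMap.smul_apply, smul_eq_mul]
      rw [e1, e2, map_neg, neg_inj, mul_smul_comm, mul_one, map_smul, smul_eq_mul] at h1
      rw [sub_mul, map_sub, smul_mul_assoc, μ.map_smul, smul_eq_mul, mul_comm _ e, ← h1, mul_comm (μ d), sub_self]
    have hm0 : m ≠ 0 := fun hm0 => by
      obtain ⟨y, hy⟩ : u ∈ LinearMap.range η := (SetLike.ext_iff.1 he.range _).2 huW
      have h1 := hkill (y - (B y v' • w + B y u • z)) (by simp [hwv, hzv]) (by simp [hwu, hzu])
      rw [map_sub, sub_eq_zero, map_add, hy] at h1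
      have h2 := congrArg (B z) h1
      rw [hzu, map_add, hM, hm0, zero_mul, map_zero, zero_smul, zero_add, hs.swap (η _) z, hS0, neg_zero] at h2
      exact one_ne_zero h2
    have hpair : ∀ c, dy μ m c + dy μ c m ∈ hs.coeff := fun c =>
      hs.rs_diff he.mem hv' hvu hzv hzu hwv hwu him hkill hS0 c fun e => by
        rw [hM, hM', LinearMap.add_apply, dy_apply, dy_apply, mul_smul_comm, mul_one]
    rcases eq_or_ne a 0 with rfl | ha
    · convert hs.coeff.zero_mem using 1
      exact LinearMap.ext fun x => by simp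
    have h1 := hR.move (hpair (b * m / a)) (a / m)
    rwa [div_mul_cancel₀ _ hm0, show a / m * (b * m / a) = b by field_simp] at h1
  · push Not at hS0
    obtain ⟨c₀, hc₀⟩ := hS0
    let S : K →ₗ[F] K :=
      { toFun := fun c => -B (η (c • z)) z
        map_add' := fun a b => by simp [add_smul]; ring
        map_smul' := fun s a => by
          rw [RingHom.id_apply, smul_assoc, map_smul, ← algebraMap_smul K s (η (a • z)), map_smul,
            LinearMap.smul_apply, algebraMap_smul]
          exact (smul_neg s _).symm }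
    have hSval : ∀ c, ∃ s : F, S c = s • (1 : K) := fun c => by
      obtain ⟨s, hs'⟩ := hval _ ((SetLike.ext_iff.1 he.range _).1 (LinearMap.mem_range_self η (c • z)))
      refine ⟨s, ?_⟩
      show -B (η (c • z)) z = _
      rw [← hs.swap, hs']
    have hsym : ∀ x y, μ (S x * y) = μ (x * S y) := fun x y => by
      have h1 := hs.eta_adj hh he (x • z) (y • z)
      have e1 : B (η (x • z)) (y • z) = -(S x * y) := by
        rw [map_smul, smul_eq_mul]
        show _ = -(-B (η (x • z)) z * y)
        ring
      have e2 : B (x • z) (η (y • z)) = x * S y := by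
        rw [map_smul, LinearMap.smul_apply, smul_eq_mul]
        show _ = x * -B (η (y • z)) z
        rw [← hs.swap]
      rw [e1, e2, map_neg, neg_inj] at h1
      exact h1
    choose g hg using hSval
    have hgx : ∀ x, g x = g 1 * μ x := fun x => by
      have h1 := hsym x 1
      rw [hg, hg 1, mul_smul_comm, map_smul, mul_one, map_smul, smul_eq_mul, smul_eq_mul, hs.mu_one, mul_one,
        mul_one] at h1
      exact h1
    have hg1 : g 1 ≠ 0 := fun e => hc₀ (by
      have h1 := hg c₀
      rw [hgx, e, zero_mul, zero_smul] at h1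
      change -B (η (c₀ • z)) z = 0 at h1
      exact neg_eq_zero.1 h1)
    have hT := hs.rs_polar he.mem hv' hvu hzv him hkill (S := S) (fun c => rfl) b a
    convert hs.coeff.smul_mem (g 1)⁻¹ hT using 1
    refine LinearMap.ext fun x => ?_
    simp only [LinearMap.add_apply, dy_apply, LinearMap.smul_apply, LinearMap.comp_apply, mulL_apply, hg, hgx (a * x),
      hgx (b * x), mul_smul_comm, mul_one, smul_add, smul_smul, inv_mul_cancel_left₀ hg1]

end CfsgLib.Geo.FieldExtSymp
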