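/-
A transvection over the smaller field in every overgroup outside the semilinear group.
-/
import Cfsg.Agent.Lib.Geo.FieldExtSympTwo

set_option autoImplicit false

namespace CfsgLib.Geo.FieldExtSymp

open Module LinearMap CfsgLib.Geo.FieldExt
open LinearMap (BilinForm)

variable {F K V : Type*} [Field F] [Fintype F] [Field K] [Algebra F K] [AddCommGroup V] [Module F V] [Module K V]
  [IsScalarTower F K V] [FiniteDimensional F K] [FiniteDimensional K V]
  {B : BilinForm K V} {μ : K →ₗ[F] F} {X : Subgroup (V ≃ₗ[F] V)} (hs : Setup B μ X)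
  {h : V ≃ₗ[F] V} {v v' : V} {η : V →ₗ[F] V}
include hs

/-- The smallest case: a new triple with perpendicular image. -/
theorem Setup.exists_perp_trip (hF : Fintype.card F = 2) (hr : finrank F K = 2) (h3 : 3 ≤ finrank K V)
    (ht : MaxTrip K X h v v') {w : V} (hwW : w ∈ (line (F := F) K v).map (h : V →ₗ[F] V)) (hw : B v' w ≠ 0) :
    ∃ (h' : V ≃ₗ[F] V) (a : V), MaxTrip K X h' a a ∧
      ∀ x ∈ (line (F := F) K a).map (h' : V →ₗ[F] V), B x a = 0 := by
  classical
  haveI : Module.Finite F V := Module.Finite.trans K V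
  obtain ⟨hh, hv, hv', hns⟩ := ht.trip
  set W := (line (F := F) K v).map (h : V →ₗ[F] V)
  have h01 : ∀ c : F, c = 0 ∨ c = 1 := by
    intro c
    by_contra! hc
    have h1 : ({0, 1, c} : Finset F).card ≤ Fintype.card F := Finset.card_le_univ _
    rw [Finset.card_eq_three.2 ⟨0, 1, c, zero_ne_one, hc.1.symm, hc.2.symm, rfl⟩, hF] at h1
    omega
  have hμ1 := hs.mu_one
  obtain ⟨ω, hωdef⟩ : ∃ ω, B v' w = ω := ⟨_, rfl⟩
  rw [hωdef] at hw
  have hμω : μ ω = 0 := hωdef ▸ hs.img_isotropic hh ht.mem hwW
  have hω : ω ∉ Set.range (algebraMap F K) := by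
    rintro ⟨s, rfl⟩
    rcases h01 s with rfl | rfl
    · exact hw (map_zero _)
    · rw [map_one, hμ1] at hμω
      exact one_ne_zero hμω
  have hK : ∀ c : K, ∃ s t : F, c = algebraMap F K s + algebraMap F K t * ω := by
    have hspan : Submodule.span F ({1, ω} : Set K) = ⊤ := by
      refine Submodule.eq_top_of_finrank_eq (le_antisymm (Submodule.finrank_le _) ?_)
      have hlt : Submodule.span F ({1} : Set K) < Submodule.span F ({1, ω} : Set K) := by
        refine lt_of_le_of_ne (Submodule.span_mono (by simp)) fun e => hω ?_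
        have h1 : ω ∈ Submodule.span F ({1} : Set K) := e.symm ▸ Submodule.subset_span (by simp)
        obtain ⟨s, hs⟩ := Submodule.mem_span_singleton.1 h1
        exact ⟨s, by rw [← hs, Algebra.algebraMap_eq_smul_one]⟩
      have := Submodule.finrank_lt_finrank_of_lt hlt
      rw [finrank_span_singleton one_ne_zero] at this
      omega
    intro c
    obtain ⟨s, t, hst⟩ := Submodule.mem_span_pair.1 (hspan ▸ Submodule.mem_top : c ∈ Submodule.span F {1, ω})
    exact ⟨s, t, by rw [← hst]; simp [Algebra.smul_def]⟩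
  have h2 : (2 : K) = 0 := by
    have h1 : (2 : F) = 0 := by
      have := FiniteField.cast_card_eq_zero F
      rwa [hF, Nat.cast_ofNat] at this
    rw [← map_ofNat (algebraMap F K) 2, h1, map_zero]
  have hω2 : ω * ω = ω + 1 := by
    obtain ⟨s, t, hst⟩ := hK (ω * ω)
    rcases h01 s with rfl | rfl <;> rcases h01 t with rfl | rfl <;>
      simp only [map_zero, map_one, zero_mul, one_mul, add_zero, zero_add] at hst
    · exact absurd (mul_self_eq_zero.1 hst) hw
    · have h1 : ω * (ω - 1) = 0 := by linear_combination hst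
      exact absurd ⟨1, by rw [map_one, sub_eq_zero.1 ((mul_eq_zero.1 h1).resolve_left hw)]⟩ hω
    · have h1 : (ω - 1) * (ω - 1) = 0 := by linear_combination hst - (ω - 1) * h2
      exact absurd ⟨1, by rw [map_one, sub_eq_zero.1 (mul_self_eq_zero.1 h1)]⟩ hω
    · rw [hst, add_comm]
  have hμω2 : μ (ω * ω) = 1 := by rw [hω2, map_add, hμω, hμ1, zero_add]
  have hwv : B w v' = -ω := by rw [hs.swap v' w, hωdef]
  have hW : ∀ z ∈ W, ∃ s t : F, z = s • v' + t • w := by
    intro z hz
    have hle : Submodule.span F ({v', w} : Set V) = W := by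
      refine Submodule.eq_of_le_of_finrank_le (Submodule.span_le.2 ?_) ?_
      · rintro x (rfl | rfl)
        exacts [ht.mem, hwW]
      · have hlt : Submodule.span F ({v'} : Set V) < Submodule.span F ({v', w} : Set V) := by
          refine lt_of_le_of_ne (Submodule.span_mono (by simp)) fun e => hw ?_
          have h1 : w ∈ Submodule.span F ({v'} : Set V) := e.symm ▸ Submodule.subset_span (by simp)
          obtain ⟨s, hs'⟩ := Submodule.mem_span_singleton.1 h1
          rw [← hωdef, ← hs', ← algebraMap_smul K s v', map_smul, hs.alt v', smul_zero]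
        have := Submodule.finrank_lt_finrank_of_lt hlt
        rw [finrank_span_singleton hv'] at this
        rw [finrank_img h hv]
        omega
    obtain ⟨s, t, hst⟩ := Submodule.mem_span_pair.1 (hle.ge hz)
    exact ⟨s, t, hst.symm⟩
  obtain ⟨z, hz, hzw⟩ := hwW
  obtain ⟨c₀, rfl⟩ := mem_line.1 hz
  have hzw : h (c₀ • v) = w := hzw
  have hwW : w ∈ W := ⟨_, hz, hzw⟩
  -- pairing with the image
  have hperp : ∀ y, B (h.symm y) v = 0 → ∀ x ∈ W, μ (B y x) = 0 := by
    rintro y hy x ⟨b, hb, rfl⟩
    obtain ⟨e, rfl⟩ := mem_line.1 hb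
    show μ (B y (h (e • v))) = 0
    conv_lhs => rw [← h.apply_symm_apply y, hs.preserves h hh]
    simp [hy]
  set c := B (h.symm (ω • v')) v with hc_def
  have hc : c ≠ 0 := fun e => by
    have h1 := hperp _ e w hwW
    rw [map_smul, LinearMap.smul_apply, hωdef, smul_eq_mul, hμω2] at h1
    exact one_ne_zero h1
  have hc₀ : c₀ ≠ 0 := fun e => hw (by rw [← hωdef, ← hzw, e, zero_smul, map_zero, map_zero])
  have hk : c₀ / c ≠ 0 := div_ne_zero hc₀ hc
  let η : V →ₗ[F] V :=
    (h : V →ₗ[F] V).comp ((root v ((c₀ / c) • B.flip v) (LinearMap.id : K →ₗ[F] K)).comp (h.symm : V →ₗ[F] V))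
  obtain ⟨u₀, hu₀⟩ := hs.exists_pairing hv
  obtain ⟨hU, hrange, hzero⟩ := exists_conj_transvection_of (η := η) hh hv (φ := (c₀ / c) • B.flip v)
    (fun e => hk (by simpa [hu₀] using congrFun (congrArg DFunLike.coe e) u₀)) (by simp [hs.alt v])
    (hs.transvection_smul v _) (fun y => rfl)
  have hηW : ∀ y, η y ∈ W := fun y => (SetLike.ext_iff.1 hrange _).1 (LinearMap.mem_range_self η y)
  have hadj := hs.adj_of_unipotent hU fun x y => hs.img_isotropic hh (hηW x) (hηW y)
  have hη1 : η (ω • v') = w := by
    show h (((c₀ / c) • B.flip v) (h.symm (ω • v')) • v) = _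
    rw [LinearMap.smul_apply, smul_eq_mul, LinearMap.BilinForm.flip_apply, ← hc_def, div_mul_cancel₀ _ hc, hzw]
  have hη2 : η (ω • w) = v' := by
    obtain ⟨s, t, hst⟩ := hW _ (hηW (ω • w))
    have hne : η (ω • w) ≠ 0 := fun e => by
      change h (((c₀ / c) • B.flip v) (h.symm (ω • w)) • v) = 0 at e
      rw [LinearEquiv.map_eq_zero_iff, smul_eq_zero, or_iff_left hv, LinearMap.smul_apply, smul_eq_zero,
        or_iff_right hk, LinearMap.BilinForm.flip_apply] at e
      have h1 := hperp _ e v' ht.mem
      rw [map_smul, LinearMap.smul_apply, hwv, smul_eq_mul, mul_neg, map_neg, hμω2] at h1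
      exact one_ne_zero (neg_eq_zero.1 h1)
    have h1 := hadj (ω • v') (ω • w)
    rw [hη1, hst, ← algebraMap_smul K s v', ← algebraMap_smul K t w] at h1
    simp only [map_smul, map_add, LinearMap.smul_apply, smul_eq_mul, hs.alt w, hs.alt v', hωdef,
      mul_zero, add_zero, zero_add, map_zero] at h1
    rw [← Algebra.smul_def, map_smul, hμω2, smul_eq_mul, mul_one, eq_comm, neg_eq_zero] at h1
    subst h1
    rcases h01 s with rfl | rfl
    · exact absurd (by simpa using hst) hne
    · simpa using hst
  -- a vector perpendicular to both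
  obtain ⟨b, hbv, hbw, hb⟩ : ∃ b, B b v' = 0 ∧ B b w = 0 ∧ b ≠ 0 := by
    let π : V →ₗ[K] K × K := (B.flip v').prod (B.flip w)
    have h1 := LinearMap.finrank_range_add_finrank_ker π
    have h4 : finrank K (LinearMap.range π) ≤ 2 :=
      (Submodule.finrank_le _).trans (by rw [Module.finrank_prod, Module.finrank_self])
    obtain ⟨b, hb, hb0⟩ := (Submodule.ne_bot_iff (LinearMap.ker π)).1 (fun e => by
      rw [e, finrank_bot] at h1
      omega)
    exact ⟨b, congrArg Prod.fst (LinearMap.mem_ker.1 hb), congrArg Prod.snd (LinearMap.mem_ker.1 hb), hb0⟩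
  have hηb : ∀ e : K, η (e • b) = 0 := fun e => hs.eq_zero_of_pairing fun z => by
    obtain ⟨s, t, hst⟩ := hW _ (hηW z)
    rw [hadj, hst, ← algebraMap_smul K s v', ← algebraMap_smul K t w]
    simp [hbv, hbw]
  obtain ⟨x, hxX, hx⟩ := hU
  set a := v' + w with ha_def
  have hav : B a v' = -ω := by simp [ha_def, hs.alt v', hwv]
  have hba : B b a = 0 := by simp [ha_def, hbv, hbw]
  have hab : B a b = 0 := by rw [hs.swap b a, hba, neg_zero]
  have hxa : x (a + b) = a + b := by
    rw [hx, map_add, ha_def, map_add, hzero v' ht.mem, hzero w hwW, ← one_smul K b, hηb]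
    simp
  have hxω : x (ω • (a + b)) = ω • (a + b) + a := by
    rw [hx, smul_add, map_add, hηb, add_zero, ha_def, smul_add, map_add, hη1, hη2, add_comm w v']
  have hab0 : a + b ≠ 0 := fun e => by
    have h1 : B (a + b) v' = 0 := by rw [e, map_zero, LinearMap.zero_apply]
    rw [map_add, LinearMap.add_apply, hav, hbv, add_zero, neg_eq_zero] at h1
    exact hw h1
  have hnot : ∀ z : V, (line (F := F) K (a + b)).map (x : V →ₗ[F] V) ≠ line K z := by
    intro z e
    have h1 : a + b ∈ line (F := F) K z := e ▸ ⟨a + b, self_mem_line _, hxa⟩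
    have h2' : ω • (a + b) + a ∈ line (F := F) K z :=
      e ▸ ⟨ω • (a + b), mem_line.2 ⟨ω, rfl⟩, hxω⟩
    rw [← line_eq h1 hab0] at h2'
    obtain ⟨d, hd⟩ := mem_line.1 h2'
    have h4 : a = (d - ω) • (a + b) := by rw [sub_smul, hd]; abel
    have h5 := congrArg (fun y => B y v') h4
    simp only [map_smul, LinearMap.smul_apply, map_add, LinearMap.add_apply, hav, hbv, add_zero, smul_eq_mul] at h5
    have h6 : d - ω = 1 := by
      have : (d - ω - 1) * ω = 0 := by linear_combination h5
      exact sub_eq_zero.1 ((mul_eq_zero.1 this).resolve_right hw)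
    rw [h6, one_smul] at h4
    exact hb (by simpa using h4.symm)
  have htrip : Trip K X x (a + b) (a + b) := ⟨hxX, hab0, hab0, hnot⟩
  have hle : ∀ k u u', Trip K X k u u' →
      finrank F ((line (F := F) K u).map (k : V →ₗ[F] V) ⊓ line K u' : Submodule F V) ≤ 1 := by
    intro k u u' hk
    by_contra! hlt
    refine hk.2.2.2 u' (Submodule.eq_of_le_of_finrank_le ?_ ?_)
    · have e1 : (line (F := F) K u).map (k : V →ₗ[F] V) ⊓ line K u' = (line (F := F) K u).map (k : V →ₗ[F] V) :=
        Submodule.eq_of_le_of_finrank_le inf_le_left (by rw [finrank_img k hk.2.1, hr]; omega)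
      exact e1 ▸ inf_le_right
    · rw [finrank_img k hk.2.1, finrank_line hk.2.2.1]
  refine ⟨x, a + b, ⟨htrip, ⟨a + b, self_mem_line _, hxa⟩, fun k u u' hk => (hle k u u' hk).trans ?_⟩, ?_⟩
  · rw [Nat.one_le_iff_ne_zero]
    intro e
    exact hab0 ((Submodule.mem_bot F).1 ((Submodule.finrank_eq_zero.1 e).le
      ⟨⟨a + b, self_mem_line _, hxa⟩, self_mem_line _⟩))
  · rintro _ ⟨y, hy, rfl⟩
    obtain ⟨e, rfl⟩ := mem_line.1 hy
    obtain ⟨s, t, rfl⟩ := hK e
    have e : x (s • (a + b) + t • ω • (a + b)) = s • (a + b) + t • (ω • (a + b) + a) := by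
      rw [x.map_add, x.map_smul, x.map_smul, hxa, hxω]
    rw [add_smul, mul_smul, algebraMap_smul, algebraMap_smul, LinearEquiv.coe_coe, e]
    simp only [← algebraMap_smul K s (a + b), ← algebraMap_smul K t (ω • (a + b) + a), map_add, map_smul,
      LinearMap.add_apply, LinearMap.smul_apply, hs.alt a, hs.alt b, hab, hba]
    simp

/-- Every overgroup outside the semilinear group has a transvection over the smaller field. -/
theorem Setup.dy_mem [Nontrivial V] (hr : (finrank F K).Prime)
    (hbig : 3 ≤ finrank F K ∨ 3 ≤ Fintype.card F ∨ 3 ≤ finrank K V) (h2 : 2 ≤ finrank K V) {g : V ≃ₗ[F] V}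
    (hg : g ∈ X) (hns : ¬ ∀ k : K, ∃ k' : K, ∀ y, g (k • y) = k' • g y) : dy μ 1 1 ∈ hs.coeff := by
  classical
  haveI : Module.Finite F V := Module.Finite.trans K V
  have hR := hs.coeff_spec
  obtain ⟨h, v, v', ht⟩ := exists_maxTrip h2 hg hns
  obtain ⟨η, hη⟩ := hs.exists_eta ht
  have he : Eta K X h v v' η := by simpa using hη 1 one_ne_zero
  by_cases hzero : ∀ c : K, η (c • v') = 0
  · refine hs.dy_mem_of_perp hr ht fun x hx => ?_
    obtain ⟨y, rfl⟩ := (SetLike.ext_iff.1 he.range _).2 hx
    refine eq_zero_of_forall hs.mu_one fun c => ?_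
    have h1 := hs.eta_adj ht.trip.1 he y (c • v')
    rw [hzero, map_smul, map_zero, map_zero, neg_zero, smul_eq_mul] at h1
    rw [mul_comm]
    exact h1
  push Not at hzero
  obtain ⟨c₁, hc₁⟩ := hzero
  -- renormalise
  set v'' := η (c₁ • v') with hv''
  have hl : v'' ∈ line (F := F) K v' := he.stable _ (mem_line.2 ⟨c₁, rfl⟩)
  have hline := line_eq hl hc₁
  have ht' : MaxTrip K X h v v'' :=
    ⟨⟨ht.trip.1, ht.trip.2.1, hc₁, ht.trip.2.2.2⟩, (SetLike.ext_iff.1 he.range _).1 (LinearMap.mem_range_self η _),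
      fun k u u' hk => (ht.max k u u' hk).trans_eq (by rw [hline])⟩
  have hη' : ∀ s : F, s ≠ 0 → Eta K X h v v'' (s • η) := fun s hs' =>
    ⟨(hη s hs').mem, (hη s hs').range, (hη s hs').zero, fun x hx => by
      rw [hline] at hx ⊢; exact (hη s hs').stable x hx⟩
  have he' : Eta K X h v v'' η := by simpa using hη' 1 one_ne_zero
  obtain ⟨u, hu⟩ := hs.exists_pairing hc₁
  have hvu : B v'' u = -1 := by rw [hs.swap u v'', hu]
  obtain ⟨lam, Q, hlam, hlA, hlz, hQ, hQdim⟩ := exists_data ht' he' (u := u) (φ := B.flip v'') (hs.alt v'')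
  have hQ' : ∀ c, Q c = B (η (c • u)) v'' := hQ
  have hadj : ∀ c d, μ (lam c * d) = -μ (c * Q d) := by
    intro c d
    have h1 := hs.eta_adj ht.trip.1 he (c • v'') (d • u)
    have e1 : B (η (c • v'')) (d • u) = -(lam c * d) := by
      rw [← hlam, map_smul, map_smul, LinearMap.smul_apply, smul_eq_mul, smul_eq_mul, hvu]
      ring
    have e2 : B (c • v'') (η (d • u)) = -(c * Q d) := by
      rw [map_smul, LinearMap.smul_apply, smul_eq_mul, hQ', hs.swap (η (d • u)) v'', mul_neg]
    rw [e1, e2, map_neg, map_neg, neg_neg] at h1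
    linear_combination -h1
  obtain ⟨c₂, hc₂⟩ : ∃ c, lam c = 1 := by
    obtain ⟨b, hb⟩ := mem_line.1 hl
    have hb0 : b ≠ 0 := fun e => hc₁ (by rw [← hb, e, zero_smul])
    refine ⟨c₁ / b, smul_left_injective K hc₁ (show lam (c₁ / b) • v'' = (1 : K) • v'' from ?_)⟩
    have e : (c₁ / b) • v'' = c₁ • v' := by rw [← hb, smul_smul, div_mul_cancel₀ _ hb0]
    rw [one_smul, hlam, e]
  have h1A := ht'.one_mem_coef
  have hQ1 : Q 1 ≠ 0 := fun e => by
    have h1 := hadj c₂ 1
    rw [hc₂, e, mul_zero, map_zero, neg_zero, one_mul, hs.mu_one] at h1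
    exact one_ne_zero h1
  have hcom : ∀ k : K, RS B X (comCoef lam Q (mulL k)) := fun k =>
    hs.rs_comCoef ht' he' hu hlam hQ' (fun v => hs.transvection v k)
  rcases le_or_gt 3 (finrank F K) with h3 | h3
  · obtain ⟨k, hk⟩ := exists_nonScalar_of_three h1A hlA hlz hQdim hQ1 hr h3 ht'.coef_ne_top
    have hS : comCoef lam Q (mulL k) ∈ hs.coeff := hcom k
    -- the rank of `lam` is one
    have hrank : finrank F (LinearMap.range lam) ≤ 1 := by
      have hsum := LinearMap.finrank_range_add_finrank_ker lam
      by_cases hall : ∀ x ∈ (line (F := F) K v).map (h : V →ₗ[F] V), ∀ y ∈ (line (F := F) K v).map (h : V →ₗ[F] V),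
          B y v'' ≠ 0 → ∃ s : F, B x v'' = s • B y v''
      · obtain ⟨d, hd⟩ : ∃ d, Q d ≠ 0 := ⟨1, hQ1⟩
        have hQd : ∀ e, ∃ s : F, Q e = s • Q d := fun e => by
          rw [hQ', hQ']
          exact hall _ ((SetLike.ext_iff.1 he.range _).1 (LinearMap.mem_range_self η _)) _
            ((SetLike.ext_iff.1 he.range _).1 (LinearMap.mem_range_self η _)) (by rw [← hQ']; exact hd)
        let g : K →ₗ[F] F := μ.comp (mulL (Q d))
        have hker : LinearMap.ker g ≤ LinearMap.ker lam := fun c hc => by
          rw [LinearMap.mem_ker] at hc ⊢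
          refine eq_zero_of_forall hs.mu_one fun e => ?_
          obtain ⟨s, hs'⟩ := hQd e
          rw [hadj, hs', mul_smul_comm, map_smul, mul_comm c]
          change μ (Q d * c) = 0 at hc
          rw [hc, smul_zero, neg_zero]
        have h4 := LinearMap.finrank_range_add_finrank_ker g
        have h5 : finrank F (LinearMap.range g) ≤ 1 := (Submodule.finrank_le _).trans (Module.finrank_self F).le
        have := Submodule.finrank_mono hker
        omega
      · push Not at hall
        obtain ⟨x, hx, y, hy, hy0, hxy⟩ := hall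
        have h4 := hR.finrank_le_of_kill hs.mu_one hr hS hk hy0 hxy (A := coef (F := F) K h v v'')
          (fun S' hS' hS'p => by
            obtain ⟨s, hsX, hs'⟩ := (hS' : RS B X S') v''
            have hyn : y ∉ line (F := F) K v'' := fun hm => by
              obtain ⟨e, rfl⟩ := mem_line.1 hm
              exact hy0 (by simp [hs.alt v''])
            have h5 := ht'.map_mem hsX hy hyn (by simp [hs', hS'p]) (fun a _ ha' => by
              obtain ⟨e, rfl⟩ := mem_line.1 ha'
              simp [hs', hs.alt v'']) x hx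
            rw [hs'] at h5
            have h6 := sub_mem h5 hx
            rw [add_sub_cancel_left] at h6
            exact h6)
        have := Submodule.finrank_mono (show coef (F := F) K h v v'' ≤ LinearMap.ker lam from
          fun c hc => LinearMap.mem_ker.2 (hlz c hc))
        omega
    have hspan : Submodule.span F {(1 : K)} = LinearMap.range lam := Submodule.eq_of_le_of_finrank_le
      ((Submodule.span_singleton_le_iff_mem _ _).2 ⟨c₂, hc₂⟩) (by rw [finrank_span_singleton one_ne_zero]; exact hrank)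
    obtain ⟨m, hm⟩ := exists_eq_mul hs.mu_one (μ.comp lam)
    have hlm : ∀ c, lam c = μ (m * c) • (1 : K) := fun c => by
      obtain ⟨s, hs'⟩ := Submodule.mem_span_singleton.1 (hspan.ge (LinearMap.mem_range_self lam c))
      rw [← hm, LinearMap.comp_apply, ← hs', map_smul, hs.mu_one, smul_eq_mul, mul_one]
    have hQm : ∀ d, Q d = -(μ d • m) := fun d => by
      refine sub_eq_zero.1 (eq_zero_of_forall hs.mu_one fun e => ?_)
      have h4 := hadj e d
      rw [hlm, smul_mul_assoc, one_mul, map_smul, smul_eq_mul] at h4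
      rw [sub_mul, map_sub, neg_mul, map_neg, smul_mul_assoc, μ.map_smul, smul_eq_mul, sub_neg_eq_add, mul_comm (Q d),
        mul_comm (μ d), h4, add_neg_cancel]
    have hmμ : μ m = 0 := by
      have h4 := hlm 1
      rw [hlz 1 h1A, mul_one, eq_comm, smul_eq_zero] at h4
      exact h4.resolve_right one_ne_zero
    have hm0 : m ≠ 0 := fun e => by simp [hlm, e] at hc₂
    -- the coefficients `T b`
    have hT : ∀ b, dy μ 1 b + dy μ b 1 + μ (m * b) • dy μ 1 1 ∈ hs.coeff := by
      intro b
      have h5 : comCoef lam Q (mulL (b / m)) ∈ hs.coeff := hcom (b / m)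
      convert h5 using 1
      refine LinearMap.ext fun c => ?_
      have e2 : b / m * Q c = -(μ c • b) := by
        rw [hQm, mul_neg, mul_smul_comm, div_mul_cancel₀ _ hm0]
      simp only [comCoef_apply, mulL_apply, e2, LinearMap.add_apply, LinearMap.smul_apply, dy_apply, one_mul]
      rw [map_neg, map_smul, hlm, hlm b, show m * (b / m * c) = b * c by field_simp]
      module
    by_cases h2F : (2 : F) = 0
    · haveI : CharP F 2 := CharTwo.of_one_ne_zero_of_two_eq_zero one_ne_zero h2F
      haveI : Finite K := Module.finite_of_finite F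
      haveI : CharP K 2 := charP_of_injective_algebraMap (algebraMap F K).injective 2
      -- a hyperplane which is not closed under inversion
      obtain ⟨β, hβ0, hβ1, hβ2⟩ : ∃ β : K, β ≠ 0 ∧ μ (m * β) = 0 ∧ μ (m * β⁻¹) ≠ 0 := by
        by_contra! hno
        let H : Submodule F K := LinearMap.ker (μ.comp (mulL m))
        have hH : ∀ x, x ∈ H ↔ μ (m * x) = 0 := fun x => LinearMap.mem_ker
        have hinv : ∀ x ∈ H, x⁻¹ ∈ H := fun x hx => by
          rcases eq_or_ne x 0 with rfl | hx0
          · rw [inv_zero]; exact hx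
          · exact (hH _).2 (hno x hx0 ((hH x).1 hx))
        have h1H : (1 : K) ∈ H := (hH 1).2 (by rw [mul_one, hmμ])
        have hsq : ∀ x ∈ H, ∀ y ∈ H, x * y * x ∈ H := by
          intro x hx y hy
          rcases eq_or_ne x 0 with rfl | hx0
          · simp
          rcases eq_or_ne y 0 with rfl | hy0
          · simp
          by_cases hxy : x * y = 1
          · rw [hxy, one_mul]; exact hx
          have h5 : (1 - x * y) ≠ 0 := sub_ne_zero.2 (Ne.symm hxy)
          have e1 : y⁻¹ - x = (1 - x * y) / y := by field_simp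
          have e2 : x⁻¹ + y / (1 - x * y) = 1 / (x * (1 - x * y)) := by field_simp; ring
          have e : x - (x⁻¹ + (y⁻¹ - x)⁻¹)⁻¹ = x * y * x := by rw [e1, inv_div, e2, inv_div, div_one]; ring
          rw [← e]
          exact H.sub_mem hx (hinv _ (H.add_mem (hinv _ hx) (hinv _ (H.sub_mem (hinv _ hy) hx))))
        have hroot : ∀ x ∈ H, ∃ y ∈ H, y * y = x := by
          intro x hx
          let f : H → H := fun y => ⟨y.1 * y.1, by simpa using hsq y.1 y.2 1 h1H⟩
          have hf : Function.Injective f := fun a b e => Subtype.ext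
            (frobenius_inj K 2 (by simpa [_root_.frobenius_def, sq, f] using congrArg Subtype.val e))
          obtain ⟨y, hy⟩ := (Finite.injective_iff_surjective.1 hf) ⟨x, hx⟩
          exact ⟨y.1, y.2, congrArg Subtype.val hy⟩
        let S : Subalgebra F K :=
          { carrier := H
            mul_mem' := fun {a b} ha hb => by
              obtain ⟨y, hy, rfl⟩ := hroot a ha
              rw [show y * y * b = y * b * y by ring]
              exact hsq y hy b hb
            add_mem' := fun ha hb => H.add_mem ha hb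
            algebraMap_mem' := fun s => by rw [Algebra.algebraMap_eq_smul_one]; exact H.smul_mem s h1H }
        haveI := Subalgebra.isSimpleOrder_of_finrank_prime F K hr
        rcases eq_bot_or_eq_top S with e | e
        · have h5 : H ≤ Submodule.span F {(1 : K)} := fun x hx => by
            have h6 : x ∈ S := hx
            rw [e, Algebra.mem_bot] at h6
            obtain ⟨s, rfl⟩ := h6
            exact Submodule.mem_span_singleton.2 ⟨s, (Algebra.algebraMap_eq_smul_one s).symm⟩
          have h6 := Submodule.finrank_mono h5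
          rw [finrank_span_singleton one_ne_zero] at h6
          have h7 := LinearMap.finrank_range_add_finrank_ker (μ.comp (mulL (F := F) m))
          have h8 : finrank F (LinearMap.range (μ.comp (mulL (F := F) m))) ≤ 1 :=
            (Submodule.finrank_le _).trans (Module.finrank_self F).le
          change finrank F (LinearMap.ker (μ.comp (mulL (F := F) m))) ≤ 1 at h6
          omega
        · have h5 : m⁻¹ ∈ S := e ▸ Algebra.mem_top
          have h6 := (hH _).1 h5
          rw [mul_inv_cancel₀ hm0, hs.mu_one] at h6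
          exact one_ne_zero h6
      have h4 := hR.sandwich β _ (hT β⁻¹)
      have h5 := hs.coeff.sub_mem h4 (hT β)
      have h6 : dy μ β β ∈ hs.coeff := by
        convert hs.coeff.smul_mem (μ (m * β⁻¹))⁻¹ h5 using 1
        refine LinearMap.ext fun c => ?_
        simp only [LinearMap.smul_apply, LinearMap.sub_apply, LinearMap.comp_apply, mulL_apply, LinearMap.add_apply,
          dy_apply, one_mul, hβ1, zero_smul, add_zero, mul_add, mul_smul_comm, mul_one, mul_inv_cancel₀ hβ0,
          inv_mul_cancel_left₀ hβ0]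
        rw [show μ (β * c) • (1 : K) + μ c • β + μ (m * β⁻¹) • μ (β * c) • β - (μ c • β + μ (β * c) • (1 : K)) =
          μ (m * β⁻¹) • μ (β * c) • β by abel, inv_smul_smul₀ hβ2]
      simpa [hβ0] using hR.move_one h6 β⁻¹
    · have h4 := hT 1
      rw [mul_one, hmμ, zero_smul, add_zero, ← two_smul F (dy μ (1 : K) 1)] at h4
      simpa [h2F] using hs.coeff.smul_mem (2 : F)⁻¹ h4
  have hr2 : finrank F K = 2 := le_antisymm (by omega) hr.two_le
  by_cases hq : 3 ≤ Fintype.card F
  · obtain ⟨S, hS, hSn⟩ : ∃ S ∈ hs.coeff, CfsgLib.Geo.FieldExt.NonScalar S := by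
      by_contra hno
      push Not at hno
      obtain ⟨s, -, hs'⟩ := Finset.exists_mem_notMem_of_card_lt_card (s := ({0, 1} : Finset F)) (t := Finset.univ)
        (lt_of_le_of_lt Finset.card_le_two (by rw [Finset.card_univ]; omega))
      simp only [Finset.mem_insert, Finset.mem_singleton, not_or] at hs'
      obtain ⟨hs0, hs1⟩ := hs'
      have hcoms : ∀ k : K, RS B X (comCoef (s • lam) (s • Q) (mulL k)) := fun k =>
        hs.rs_comCoef ht' (hη' s hs0) hu (fun c => by simp [smul_assoc, hlam]) (fun c => by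
          rw [LinearMap.smul_apply, LinearMap.smul_apply, hQ']
          exact ((B.flip v'').map_smul_of_tower s _).symm) (fun v => hs.transvection v k)
      have hQs : finrank F (LinearMap.range (s • Q)) = finrank F (LinearMap.range Q) := by
        rw [LinearMap.range_smul Q s hs0]
      have q1 := quadratic_of_scalar h1A hlA hlz hQdim hQ1 hr2 ht'.coef_ne_top (fun k => hno _ (hcom k))
      have q2 := quadratic_of_scalar (lam := s • lam) (Q := s • Q) h1A
        (fun c => (coef (F := F) K h v v'').smul_mem s (hlA c))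
        (fun c hc => by rw [LinearMap.smul_apply, hlz c hc, smul_zero]) (by rw [hQs]; exact hQdim)
        (by rw [LinearMap.smul_apply]; exact smul_ne_zero hs0 hQ1) hr2 ht'.coef_ne_top (fun k => hno _ (hcoms k))
      simp only [LinearMap.smul_apply, map_smul, smul_smul] at q2
      simp only [Algebra.smul_def, map_mul] at q2
      set σ := algebraMap F K s
      have hl' : lam (Q 1) ≠ 0 := fun e => hQ1 (by simpa [e] using q1)
      have e : σ * σ * (σ - 1) * (lam (Q 1) * Q 1) = 0 := by linear_combination q2 - σ * σ * q1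
      have hσ0 : σ ≠ 0 := (map_ne_zero _).2 hs0
      have hσ1 : σ - 1 ≠ 0 := sub_ne_zero.2 fun e => hs1 ((algebraMap F K).injective (e.trans (map_one _).symm))
      exact mul_ne_zero (mul_ne_zero (mul_ne_zero hσ0 hσ0) hσ1) (mul_ne_zero hl' hQ1) e
    exact hR.dy_mem_of_two hs.mu_one hr2 hS hSn
  · have hF : Fintype.card F = 2 := by
      have := Fintype.one_lt_card (α := F)
      omega
    obtain ⟨h', a, ha, hperp⟩ := hs.exists_perp_trip hF hr2 (by omega) ht'
      ((SetLike.ext_iff.1 he.range _).1 (LinearMap.mem_range_self η ((1 : K) • u))) (fun e => hQ1 (by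
        rw [hQ', hs.swap v'', e, neg_zero]))
    exact hs.dy_mem_of_perp hr ha hperp

end CfsgLib.Geo.FieldExtSymp
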