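/-
Elements of prime order with small rest space in symplectic groups.
-/
import Cfsg.Agent.Lib.Classical.Symplectic.Geometry
import Cfsg.Agent.Lib.Geo.PrimeOrderConstruct
import Cfsg.Prelude.Def_GeometricClasses

set_option autoImplicit false

namespace CfsgLib.Geo.PrimeSp

open Module Matrix CfsgLib.Geo.PrimeAct
open LinearMap (BilinForm)
open CfsgLib.Classical.Symp (sympBil sympBil_apply sympBil_isAlt sympBil_nondegenerate finrank_sympSpace)

section Abstract

variable {F : Type*} [Field F] {V : Type*} [AddCommGroup V] [Module F V]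
variable {B : BilinForm F V} {T : V →ₗ[F] V} {r : ℕ}

theorem form_pow (hT : ∀ u v, B (T u) (T v) = B u v) (k : ℕ) (u v : V) : B ((T ^ k) u) ((T ^ k) v) = B u v := by
  induction k with
  | zero => rfl
  | succ k ih => rw [pow_succ', Module.End.mul_apply, Module.End.mul_apply, hT, ih]

theorem fix_rest_orth (hrF : (r : F) ≠ 0) (hT : ∀ u v, B (T u) (T v) = B u v) {u v : V} (hu : T u = u)
    (hv : v ∈ restSp r T) : B u v = 0 ∧ B v u = 0 := by
  have h1 : ∀ k, B u ((T ^ k) v) = B u v ∧ B ((T ^ k) v) u = B v u := fun k => by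
    constructor
    · have := form_pow hT k u v
      rwa [pow_apply_fixed hu] at this
    · have := form_pow hT k v u
      rwa [pow_apply_fixed hu] at this
  have hv0 : orbitSum r T v = 0 := hv
  constructor
  · have h2 : B u (orbitSum r T v) = (r : F) * B u v := by simp [orbitSum, LinearMap.sum_apply, (h1 _).1]
    rw [hv0, map_zero, eq_comm, mul_eq_zero] at h2
    exact h2.resolve_left hrF
  · have h2 : B (orbitSum r T v) u = (r : F) * B v u := by simp [orbitSum, LinearMap.sum_apply, (h1 _).2]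
    rw [hv0, map_zero, LinearMap.zero_apply, eq_comm, mul_eq_zero] at h2
    exact h2.resolve_left hrF

theorem exists_split (hr : T ^ r = 1) (hrF : (r : F) ≠ 0) (v : V) :
    ∃ a b, T a = a ∧ b ∈ restSp r T ∧ a + b = v := by
  refine ⟨(r : F)⁻¹ • orbitSum r T v, v - (r : F)⁻¹ • orbitSum r T v, ?_, ?_, add_sub_cancel _ _⟩
  · rw [map_smul, apply_orbitSum hr]
  · show orbitSum r T _ = 0
    rw [map_sub, map_smul, orbitSum_fixed (apply_orbitSum hr v), inv_smul_smul₀ hrF, sub_self]

theorem rest_nondeg (hr : T ^ r = 1) (hrF : (r : F) ≠ 0) (hT : ∀ u v, B (T u) (T v) = B u v)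
    (hn : ∀ u, (∀ v, B u v = 0) → u = 0) :
    ∀ u ∈ restSp r T, (∀ v ∈ restSp r T, B u v = 0) → u = 0 := by
  intro u hu h
  refine hn u fun v => ?_
  obtain ⟨a, b, ha, hb, rfl⟩ := exists_split hr hrF v
  rw [map_add, h b hb, (fix_rest_orth hrF hT ha hu).2, add_zero]

theorem even_finrank [FiniteDimensional F V] (hA : B.IsAlt) (W : Submodule F V)
    (hn : ∀ u ∈ W, (∀ v ∈ W, B u v = 0) → u = 0) : Even (finrank F W) := by
  obtain ⟨m, -, -, hm⟩ := CfsgLib.Classical.Symp.exists_sympSys
    (CfsgLib.Classical.Symp.restrict_isAlt hA W) (CfsgLib.Classical.Symp.restrict_nondegenerate hA hn)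
  exact ⟨m, by omega⟩

theorem rest_commute {J : V →ₗ[F] V} (h : ∀ v, T (J v) = J (T v)) : ∀ v ∈ restSp r T, J v ∈ restSp r T := by
  intro v hv
  have hk : ∀ (k : ℕ) v, (T ^ k) (J v) = J ((T ^ k) v) := fun k => by
    induction k with
    | zero => intro v; rfl
    | succ k ih => intro v; rw [pow_succ', Module.End.mul_apply, Module.End.mul_apply, ih, h]
  have hv0 : orbitSum r T v = 0 := hv
  show orbitSum r T (J v) = 0
  rw [orbitSum, LinearMap.sum_apply, Finset.sum_congr rfl fun k _ => hk k v, ← map_sum, ← LinearMap.sum_apply]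
  change J (orbitSum r T v) = 0
  rw [hv0, map_zero]

end Abstract

/-! ### Bridging matrices and maps -/

section Bridge

variable {F : Type*} [Field F] {ι : Type} [Fintype ι] [DecidableEq ι]

/-- The linear map of an invertible matrix. -/
noncomputable def toEnd (x : GL ι F) : (ι → F) →ₗ[F] (ι → F) := Matrix.toLin' (x : Matrix ι ι F)

@[simp] theorem toEnd_apply (x : GL ι F) (v : ι → F) : toEnd x v = (x : Matrix ι ι F) *ᵥ v := Matrix.toLin'_apply _ _

theorem toEnd_mul (x y : GL ι F) : toEnd (x * y) = toEnd x * toEnd y := by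
  refine LinearMap.ext fun v => ?_
  simp [Matrix.mulVec_mulVec]

theorem toEnd_one : toEnd (1 : GL ι F) = 1 := LinearMap.ext fun v => by simp

theorem toEnd_pow (x : GL ι F) (k : ℕ) : toEnd (x ^ k) = toEnd x ^ k := by
  induction k with
  | zero => rw [pow_zero, pow_zero, toEnd_one]
  | succ k ih => rw [pow_succ, toEnd_mul, ih, pow_succ]

theorem toEnd_injective : Function.Injective (toEnd (F := F) (ι := ι)) := fun _ _ h =>
  Units.ext (Matrix.toLin'.injective h)

theorem toEnd_eq_one_iff {x : GL ι F} : toEnd x = 1 ↔ x = 1 := by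
  rw [← toEnd_one, toEnd_injective.eq_iff]

/-- A linear equivalence as an invertible matrix. -/
noncomputable def ofEquiv (e : (ι → F) ≃ₗ[F] (ι → F)) : GL ι F where
  val := LinearMap.toMatrix' e.toLinearMap
  inv := LinearMap.toMatrix' e.symm.toLinearMap
  val_inv := by
    rw [← LinearMap.toMatrix'_comp, ← LinearMap.toMatrix'_id]; congr 1; ext v; simp
  inv_val := by
    rw [← LinearMap.toMatrix'_comp, ← LinearMap.toMatrix'_id]; congr 1; ext v; simp

theorem toEnd_ofEquiv (e : (ι → F) ≃ₗ[F] (ι → F)) : toEnd (ofEquiv e) = e.toLinearMap :=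
  Matrix.toLin'_toMatrix' _

theorem toEnd_conj (g x : GL ι F) (v : ι → F) :
    toEnd (g⁻¹ * x * g) v = toEnd g⁻¹ (toEnd x (toEnd g v)) := by
  simp [Matrix.mulVec_mulVec, mul_assoc]

variable {r : ℕ}

theorem finrank_fixSp_conj (g x : GL ι F) :
    finrank F (fixSp (toEnd (g⁻¹ * x * g))) = finrank F (fixSp (toEnd x)) := by
  let e : (ι → F) ≃ₗ[F] (ι → F) :=
    { toEnd g with
      invFun := toEnd g⁻¹
      left_inv := fun v => by simp [Matrix.mulVec_mulVec]
      right_inv := fun v => by simp [Matrix.mulVec_mulVec] }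
  have h : (fixSp (toEnd (g⁻¹ * x * g))).map e.toLinearMap = fixSp (toEnd x) := by
    ext v
    constructor
    · rintro ⟨w, hw, rfl⟩
      have hw' := mem_fixSp.1 hw
      rw [toEnd_conj] at hw'
      refine mem_fixSp.2 ?_
      conv_rhs => rw [show (e : (ι → F) →ₗ[F] (ι → F)) w = toEnd g w from rfl, ← hw']
      show toEnd x (toEnd g w) = _
      simp [Matrix.mulVec_mulVec]
    · intro hv
      refine ⟨e.symm v, mem_fixSp.2 ?_, e.apply_symm_apply v⟩
      rw [toEnd_conj, show toEnd g (e.symm v) = v from e.apply_symm_apply v, mem_fixSp.1 hv]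
      rfl
  rw [← h, LinearEquiv.finrank_map_eq]

theorem finrank_rest [Finite F] [Fact r.Prime] {x : GL ι F} (hx : x ^ r = 1) (hrF : (r : F) ≠ 0) :
    finrank F (fixSp (toEnd x)) + finrank F (restSp r (toEnd x)) = Fintype.card ι := by
  have hr : toEnd x ^ r = 1 := by rw [← toEnd_pow, hx, toEnd_one]
  have h := finrank_split hr hrF ⊤ fun _ _ => Submodule.mem_top
  rwa [top_inf_eq, top_inf_eq, finrank_top, finrank_pi] at h

end Bridge

/-! ### Symplectic elements -/

section Symp

variable {F : Type*} [Field F] {d : ℕ}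

theorem mem_sp {x : GL (Fin d ⊕ Fin d) F} (hx : x ∈ Cfsg.spGL d F) (u v : Fin d ⊕ Fin d → F) :
    sympBil d F (toEnd x u) (toEnd x v) = sympBil d F u v := by
  rw [sympBil_apply, sympBil_apply, toEnd_apply, toEnd_apply]
  exact hx u v

theorem mem_sp_iff {x : GL (Fin d ⊕ Fin d) F} :
    x ∈ Cfsg.spGL d F ↔ ∀ u v, sympBil d F (toEnd x u) (toEnd x v) = sympBil d F u v :=
  ⟨mem_sp, fun h u v => by
    have := h u v
    rwa [sympBil_apply, sympBil_apply, toEnd_apply, toEnd_apply] at this⟩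

theorem sp_nondeg (u : Fin d ⊕ Fin d → F) (h : ∀ v, sympBil d F u v = 0) : u = 0 :=
  (sympBil_nondegenerate d F).1 u h

/-- An element acting on a hyperbolic subspace of dimension `2 j` and trivially on its complement. -/
theorem exists_extend [Finite F] {j : ℕ} (hj : j ≤ d) (y : Matrix.symplecticGroup (Fin j) F) :
    ∃ x : GL (Fin d ⊕ Fin d) F, x ∈ Cfsg.spGL d F ∧ (∀ k, y ^ k = 1 → x ^ k = 1) ∧
      finrank F (fixSp (toEnd x)) + 2 * j =
        finrank F (fixSp (Matrix.toLin' (y : Matrix (Fin j ⊕ Fin j) (Fin j ⊕ Fin j) F))) + 2 * d := by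
  classical
  let ι : Fin j ⊕ Fin j → Fin d ⊕ Fin d := Sum.map (Fin.castLE hj) (Fin.castLE hj)
  have hι : Function.Injective ι := Sum.map_injective.2 ⟨Fin.castLE_injective hj, Fin.castLE_injective hj⟩
  let π : (Fin d ⊕ Fin d → F) →ₗ[F] (Fin j ⊕ Fin j → F) := LinearMap.funLeft F F ι
  let ex : (Fin j ⊕ Fin j → F) →ₗ[F] (Fin d ⊕ Fin d → F) := Fintype.linearCombination F fun a => Pi.single (ι a) 1
  have hex : ∀ w a, ex w (ι a) = w a := fun w a => by
    simp [ex, Fintype.linearCombination_apply, Finset.sum_apply, Pi.single_apply, hι.eq_iff]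
  have hex0 : ∀ w b, (∀ a, ι a ≠ b) → ex w b = 0 := fun w b hb => by
    simp [ex, Fintype.linearCombination_apply, Finset.sum_apply, Pi.single_apply, fun a => (hb a).symm]
  have hπex : ∀ w, π (ex w) = w := fun w => funext fun a => hex w a
  have hform : ∀ w v, sympBil d F (ex w) v = sympBil j F w (π v) := fun w v => by
    rw [sympBil_apply, sympBil_apply, CfsgLib.Classical.Symp.sympForm_expand,
      CfsgLib.Classical.Symp.sympForm_expand]
    refine (Finset.sum_of_injOn (Fin.castLE hj) (Fin.castLE_injective hj).injOn (fun _ _ => Finset.mem_univ _) ?_ ?_).symm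
    · intro b _ hb
      have hb' : ∀ a, Fin.castLE hj a ≠ b := fun a h => hb ⟨a, Finset.mem_coe.2 (Finset.mem_univ a), h⟩
      rw [hex0 w (Sum.inr b) (by rintro (a | a) <;> simp [ι, hb' a]),
        hex0 w (Sum.inl b) (by rintro (a | a) <;> simp [ι, hb' a])]
      ring
    · intro a _
      rw [show Sum.inr (Fin.castLE hj a) = ι (Sum.inr a) from rfl, show Sum.inl (Fin.castLE hj a) = ι (Sum.inl a) from rfl,
        hex, hex]
      rfl
  set Y := Matrix.toLin' (y : Matrix (Fin j ⊕ Fin j) (Fin j ⊕ Fin j) F)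
  let T : (Fin d ⊕ Fin d → F) →ₗ[F] (Fin d ⊕ Fin d → F) := LinearMap.id + ex ∘ₗ (Y - LinearMap.id) ∘ₗ π
  have hT : ∀ v, T v = v + ex (Y (π v) - π v) := fun v => rfl
  have hTf : ∀ u v, sympBil d F (T u) (T v) = sympBil d F u v := fun u v => by
    have hY' : sympBil j F (Y (π u)) (Y (π v)) = sympBil j F (π u) (π v) := by
      rw [sympBil_apply, sympBil_apply, Matrix.toLin'_apply, Matrix.toLin'_apply]
      exact CfsgLib.Classical.Symp.mem_symplecticGroup_iff_form.1 y.2 _ _
    have hsw : ∀ w, sympBil d F u (ex w) = sympBil j F (π u) w := fun w => by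
      rw [← LinearMap.IsAlt.neg (sympBil_isAlt d F) (ex w) u, hform, LinearMap.IsAlt.neg (sympBil_isAlt j F)]
    rw [hT, hT, map_add, map_add, LinearMap.add_apply, LinearMap.add_apply, hform, hform, hsw, hπex]
    simp only [map_sub, LinearMap.sub_apply]
    linear_combination hY'
  have hTinj : Function.Injective T := by
    rw [injective_iff_map_eq_zero]
    intro u hu
    refine sp_nondeg u fun v => ?_
    rw [← hTf, hu, map_zero, LinearMap.zero_apply]
  let x := ofEquiv (LinearEquiv.ofInjectiveEndo T hTinj)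
  have hx : toEnd x = T := toEnd_ofEquiv _
  refine ⟨x, mem_sp_iff.2 fun u v => by rw [hx, hTf], fun k hk => ?_, ?_⟩
  · have hTk : ∀ (k : ℕ) v, (T ^ k) v = v + ex ((Y ^ k) (π v) - π v) := fun k => by
      induction k with
      | zero => intro v; simp
      | succ k ih =>
        intro v
        rw [pow_succ', Module.End.mul_apply, ih, hT, pow_succ', Module.End.mul_apply, map_add π, hπex,
          add_sub_cancel, add_assoc, ← map_add]
        congr 2
        abel
    have hYk : Y ^ k = 1 := by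
      show (Matrix.toLinAlgEquiv' (y : Matrix (Fin j ⊕ Fin j) (Fin j ⊕ Fin j) F)) ^ k = 1
      rw [← map_pow, ← SubmonoidClass.coe_pow, hk, Submonoid.coe_one, map_one]
    rw [← toEnd_eq_one_iff, toEnd_pow, hx]
    exact LinearMap.ext fun v => by rw [hTk, hYk]; simp
  · rw [hx]
    have hfix : fixSp T = (fixSp Y).comap π := by
      ext v
      rw [Submodule.mem_comap, mem_fixSp, mem_fixSp, hT]
      constructor
      · intro h
        have h' : ex (Y (π v) - π v) = 0 := by simpa using h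
        have := congrArg π h'
        rwa [hπex, map_zero, sub_eq_zero] at this
      · intro h
        rw [h, sub_self, map_zero, add_zero]
    have hπ : Function.Surjective π := fun w => ⟨ex w, hπex w⟩
    have hker := LinearMap.finrank_range_add_finrank_ker ((fixSp Y).mkQ ∘ₗ π)
    rw [LinearMap.range_eq_top.2 (fun z => by
        obtain ⟨w, rfl⟩ := (fixSp Y).mkQ_surjective z
        obtain ⟨v, rfl⟩ := hπ w
        exact ⟨v, rfl⟩ : Function.Surjective ((fixSp Y).mkQ ∘ₗ π)), finrank_top, LinearMap.ker_comp,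
      Submodule.ker_mkQ, ← hfix, finrank_pi, Fintype.card_sum, Fintype.card_fin] at hker
    have hq := (fixSp Y).finrank_quotient_add_finrank
    rw [finrank_pi, Fintype.card_sum, Fintype.card_fin] at hq
    omega

variable [Fintype F]

/-- An element of prime order whose rest space has dimension `lcm 2 i`. -/
theorem exists_element {r : ℕ} [Fact r.Prime] (hrF : (r : F) ≠ 0)
    (hi : 0 < orderOf (Nat.card F : ZMod r)) (hc : Nat.lcm 2 (orderOf (Nat.card F : ZMod r)) ≤ 2 * d) :
    ∃ x : GL (Fin d ⊕ Fin d) F, x ∈ Cfsg.spGL d F ∧ x ^ r = 1 ∧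
      finrank F (fixSp (toEnd x)) + Nat.lcm 2 (orderOf (Nat.card F : ZMod r)) = 2 * d ∧
      finrank F (restSp r (toEnd x)) = Nat.lcm 2 (orderOf (Nat.card F : ZMod r)) := by
  classical
  set i := orderOf (Nat.card F : ZMod r) with hidef
  set c := Nat.lcm 2 i
  obtain ⟨j, hj⟩ : ∃ j, c = 2 * j := Nat.dvd_lcm_left 2 i
  have hc0 : 0 < c := Nat.lcm_pos two_pos hi
  have hry : r ∣ Nat.card (Matrix.symplecticGroup (Fin j) F) := by
    rw [CfsgLib.Classical.Symp.card_symplecticGroup]
    refine dvd_mul_of_dvd_right ?_ _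
    refine (?_ : r ∣ Fintype.card F ^ (2 * (j - 1 + 1)) - 1).trans
      (Finset.dvd_prod_of_mem _ (Finset.mem_range.2 (by omega : j - 1 < j)))
    rw [Nat.sub_add_cancel (by omega : 1 ≤ j), ← hj, ← ZMod.natCast_eq_zero_iff,
      Nat.cast_sub (Nat.one_le_pow _ _ Fintype.card_pos), Nat.cast_pow, Nat.cast_one, ← Nat.card_eq_fintype_card,
      orderOf_dvd_iff_pow_eq_one.1 (Nat.dvd_lcm_right 2 i), sub_self]
  obtain ⟨y, hy⟩ := exists_prime_orderOf_dvd_card' r hry
  have hyr : y ^ r = 1 := by rw [← hy, pow_orderOf_eq_one]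
  set Y := Matrix.toLin' (y : Matrix (Fin j ⊕ Fin j) (Fin j ⊕ Fin j) F) with hY
  have hYr : Y ^ r = 1 := by
    show (Matrix.toLinAlgEquiv' (y : Matrix (Fin j ⊕ Fin j) (Fin j ⊕ Fin j) F)) ^ r = 1
    rw [← map_pow, ← SubmonoidClass.coe_pow, hyr, Submonoid.coe_one, map_one]
  have hYf : ∀ u v, sympBil j F (Y u) (Y v) = sympBil j F u v := fun u v => by
    rw [sympBil_apply, sympBil_apply, Matrix.toLin'_apply, Matrix.toLin'_apply]
    exact CfsgLib.Classical.Symp.mem_symplecticGroup_iff_form.1 y.2 _ _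
  obtain ⟨x, hx, hxk, hfix⟩ := exists_extend (by omega : j ≤ d) y
  rw [← hY] at hfix
  have hsplit := finrank_split hYr hrF ⊤ fun _ _ => Submodule.mem_top
  have hdvd := orderOf_dvd_finrank_inf_rest hYr hrF ⊤ fun _ _ => Submodule.mem_top
  rw [top_inf_eq] at hdvd
  rw [top_inf_eq, top_inf_eq, finrank_top, finrank_pi, Fintype.card_sum, Fintype.card_fin] at hsplit
  have heven := even_finrank (sympBil_isAlt j F) (restSp r Y)
    (rest_nondeg hYr hrF hYf (sp_nondeg (d := j)))
  have hpos : 0 < finrank F (restSp r Y) := by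
    by_contra h0
    have htop : fixSp Y = ⊤ := Submodule.eq_top_of_finrank_eq (by
      rw [finrank_pi, Fintype.card_sum, Fintype.card_fin]; omega)
    have h1 : Y = 1 := LinearMap.ext fun w => mem_fixSp.1 (htop ▸ Submodule.mem_top : w ∈ fixSp Y)
    have h2 : y = 1 := Subtype.ext (Matrix.toLinAlgEquiv'.injective (h1.trans (map_one _).symm))
    rw [h2, orderOf_one] at hy
    exact (Fact.out : r.Prime).ne_one hy.symm
  have hcd : c ∣ finrank F (restSp r Y) := Nat.lcm_dvd (even_iff_two_dvd.1 heven) hdvd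
  have := Nat.le_of_dvd hpos hcd
  have hxr := hxk r hyr
  have h3 := finrank_rest hxr hrF
  rw [Fintype.card_sum, Fintype.card_fin] at h3
  refine ⟨x, hx, hxr, by omega, by omega⟩

theorem ne_scalar_of_rest {r : ℕ} [Fact r.Prime] (hrF : (r : F) ≠ 0) (hd : 0 < d) {x : GL (Fin d ⊕ Fin d) F}
    (hx : x ∈ Cfsg.spGL d F) (hxr : x ^ r = 1) (h0 : 0 < finrank F (restSp r (toEnd x)))
    (h : r ≠ 2 ∨ finrank F (restSp r (toEnd x)) < 2 * d) (z : F) :
    (x : Matrix (Fin d ⊕ Fin d) (Fin d ⊕ Fin d) F) ≠ z • 1 := by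
  intro hz
  have hT : ∀ v, toEnd x v = z • v := fun v => by
    rw [toEnd_apply, hz, Matrix.smul_mulVec, Matrix.one_mulVec]
  have hTk : ∀ (k : ℕ) v, (toEnd x ^ k) v = z ^ k • v := fun k => by
    induction k with
    | zero => intro v; simp
    | succ k ih => intro v; rw [pow_succ', Module.End.mul_apply, ih, map_smul, hT, smul_smul, ← pow_succ]
  let e0 : Fin d ⊕ Fin d → F := Pi.single (Sum.inl ⟨0, hd⟩) 1
  have he0 : e0 ≠ 0 := by simp [e0]
  obtain ⟨w, hw⟩ : ∃ w, sympBil d F e0 w ≠ 0 := by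
    by_contra! hc
    exact he0 (sp_nondeg _ hc)
  have hz2 : z * z = 1 := by
    have := mem_sp hx e0 w
    rw [hT, hT, map_smul, map_smul, LinearMap.smul_apply, smul_eq_mul, smul_eq_mul, ← mul_assoc] at this
    exact (mul_eq_right₀ hw).1 this
  have hzr : z ^ r = 1 := by
    have h1 := hTk r e0
    rw [← toEnd_pow, hxr, toEnd_one] at h1
    have := congrFun h1 (Sum.inl ⟨0, hd⟩)
    simpa [e0] using this.symm
  have hfr := finrank_rest hxr hrF
  rw [Fintype.card_sum, Fintype.card_fin] at hfr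
  by_cases hz1 : z = 1
  · have htop : fixSp (toEnd x) = ⊤ := Submodule.eq_top_iff'.2 fun v => mem_fixSp.2 (by rw [hT, hz1, one_smul])
    rw [htop, finrank_top, finrank_pi, Fintype.card_sum, Fintype.card_fin] at hfr
    omega
  · rcases h with h | h
    · obtain ⟨k, hk⟩ := (Fact.out : r.Prime).odd_of_ne_two h
      rw [hk, pow_succ, pow_mul, pow_two, hz2, one_pow, one_mul] at hzr
      exact hz1 hzr
    · have hbot : fixSp (toEnd x) = ⊥ := (Submodule.eq_bot_iff _).2 fun v hv => by
        have h1 := mem_fixSp.1 hv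
        rw [hT] at h1
        have : (z - 1) • v = 0 := by rw [sub_smul, h1, one_smul, sub_self]
        exact (smul_eq_zero.1 this).resolve_left (sub_ne_zero.2 hz1)
      rw [hbot, finrank_bot] at hfr
      omega

/-- The prime divides the order of the symplectic group in a factor. -/
theorem order_bound {r : ℕ} [Fact r.Prime] {l : ℕ} (hl : r ∣ Fintype.card F ^ (2 * (l + 1)) - 1) (hld : l < d) :
    0 < orderOf (Nat.card F : ZMod r) ∧ orderOf (Nat.card F : ZMod r) ∣ 2 * (l + 1) ∧
      Nat.lcm 2 (orderOf (Nat.card F : ZMod r)) ∣ 2 * (l + 1) ∧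
      Nat.lcm 2 (orderOf (Nat.card F : ZMod r)) ≤ 2 * d := by
  have h1 : (Nat.card F : ZMod r) ^ (2 * (l + 1)) = 1 := by
    rw [← ZMod.natCast_eq_zero_iff, Nat.cast_sub (Nat.one_le_pow _ _ Fintype.card_pos), Nat.cast_pow, Nat.cast_one,
      sub_eq_zero] at hl
    rwa [Nat.card_eq_fintype_card]
  have hdvd := orderOf_dvd_of_pow_eq_one h1
  have hlcm : Nat.lcm 2 (orderOf (Nat.card F : ZMod r)) ∣ 2 * (l + 1) := Nat.lcm_dvd (dvd_mul_right _ _) hdvd
  exact ⟨Nat.pos_of_dvd_of_pos hdvd (by omega), hdvd, hlcm, (Nat.le_of_dvd (by omega) hlcm).trans (by omega)⟩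

/-- A symplectic transvection as an invertible matrix. -/
theorem exists_transvection (hd : 0 < d) :
    ∃ (x : GL (Fin d ⊕ Fin d) F) (a : Fin d ⊕ Fin d → F), x ∈ Cfsg.spGL d F ∧ a ≠ 0 ∧
      (∀ v, toEnd x v = v + sympBil d F v a • a) ∧
      ∀ (p : ℕ) [CharP F p], x ^ p = 1 := by
  classical
  let a : Fin d ⊕ Fin d → F := Pi.single (Sum.inl ⟨0, hd⟩) 1
  let g := CfsgLib.Classical.Symp.tr (sympBil_isAlt d F) a 1
  let x := ofEquiv (g : (Fin d ⊕ Fin d → F) ≃ₗ[F] (Fin d ⊕ Fin d → F))
  have hx : ∀ v, toEnd x v = v + sympBil d F v a • a := fun v => by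
    rw [toEnd_ofEquiv]
    show (g : (Fin d ⊕ Fin d → F) ≃ₗ[F] (Fin d ⊕ Fin d → F)) v = _
    rw [CfsgLib.Classical.Symp.tr_apply, one_mul]
  refine ⟨x, a, mem_sp_iff.2 fun u v => ?_, by simp [a], hx, fun p _ => ?_⟩
  · rw [hx, hx]
    simp only [map_add, map_smul, LinearMap.add_apply, LinearMap.smul_apply, smul_eq_mul, sympBil_isAlt d F a]
    rw [← LinearMap.IsAlt.neg (sympBil_isAlt d F) v a]
    ring
  · have hk : ∀ (k : ℕ) v, (toEnd x ^ k) v = v + ((k : F) * sympBil d F v a) • a := fun k => by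
      induction k with
      | zero => intro v; simp
      | succ k ih =>
        intro v
        rw [pow_succ', Module.End.mul_apply, ih, hx, map_add, map_smul, LinearMap.add_apply, LinearMap.smul_apply,
          sympBil_isAlt d F a, smul_zero, add_zero, add_assoc, ← add_smul, Nat.cast_succ]
        congr 2
        ring
    rw [← toEnd_eq_one_iff, toEnd_pow]
    exact LinearMap.ext fun v => by rw [hk]; simp

end Symp

end CfsgLib.Geo.PrimeSp
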