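/-
Diagonal elements of prime order and the symmetry that a form imposes on their eigenvalues.
-/
import Cfsg.Prelude.Def_GeometricClasses
import Cfsg.Agent.Lib.Geo.PrimeOrderConstruct
import Cfsg.Agent.Lib.Geo.PrimeSympElements
import Cfsg.Agent.Lib.Geo.InvolutionClasses
import Cfsg.Agent.Lib.Geo.DerangeAlternating

set_option autoImplicit false

namespace CfsgLib.Geo.FormDer

open Matrix Module CfsgLib.Geo.PrimeAct CfsgLib.Geo.PrimeSp

variable {F : Type*} [Field F] {n : ℕ}

theorem mem_SL_iff {x : GL (Fin n) F} :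
    x ∈ Cfsg.Geo.specialLinear (Fin n) F ↔ (x : Matrix (Fin n) (Fin n) F).det = 1 := by
  show x ∈ (Matrix.GeneralLinearGroup.det : GL (Fin n) F →* Fˣ).ker ↔ _
  rw [MonoidHom.mem_ker, Units.ext_iff]
  rfl

theorem det_toEnd (x : GL (Fin n) F) : LinearMap.det (toEnd x) = (x : Matrix (Fin n) (Fin n) F).det :=
  LinearMap.det_toLin' _

theorem det_ne_zero (x : GL (Fin n) F) : (x : Matrix (Fin n) (Fin n) F).det ≠ 0 :=
  ((Matrix.isUnit_iff_isUnit_det _).1 x.isUnit).ne_zero

theorem toEnd_conj_equiv (x : GL (Fin n) F) (L : (Fin n → F) ≃ₗ[F] (Fin n → F)) (v : Fin n → F) :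
    toEnd ((ofEquiv L.symm)⁻¹ * x * ofEquiv L.symm) v = L (toEnd x (L.symm v)) := by
  refine L.symm.injective ?_
  rw [L.symm_apply_apply, toEnd_conj]
  have h : ∀ w, toEnd (ofEquiv L.symm) w = L.symm w := fun w => by rw [toEnd_ofEquiv]; rfl
  rw [h, ← h (toEnd (ofEquiv L.symm)⁻¹ _)]
  simp [Matrix.mulVec_mulVec]

/-- Adjust the determinant of a conjugating element by the centraliser. -/
theorem conj_into_SL (H : Subgroup (GL (Fin n) F)) {x : GL (Fin n) F}
    (hC : ∀ a : F, a ≠ 0 → ∃ C : (Fin n → F) →ₗ[F] (Fin n → F), LinearMap.det C = a ∧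
      ∀ v, C (toEnd x v) = toEnd x (C v))
    (g : GL (Fin n) F) (hg : g⁻¹ * x * g ∈ H) :
    ∃ g' ∈ Cfsg.Geo.specialLinear (Fin n) F, g'⁻¹ * x * g' ∈ H := by
  classical
  obtain ⟨C, hCd, hC⟩ := hC _ (inv_ne_zero (det_ne_zero g))
  let c : GL (Fin n) F := Matrix.GeneralLinearGroup.mkOfDetNeZero (LinearMap.toMatrix' C)
    (by rw [LinearMap.det_toMatrix', hCd]; exact inv_ne_zero (det_ne_zero g))
  have hc : toEnd c = C := Matrix.toLin'_toMatrix' C
  have hcx : x * c = c * x := by
    refine toEnd_injective (LinearMap.ext fun v => ?_)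
    rw [toEnd_mul, toEnd_mul, hc, Module.End.mul_apply, Module.End.mul_apply, hC]
  refine ⟨c * g, mem_SL_iff.2 ?_, ?_⟩
  · rw [Units.val_mul, Matrix.det_mul, show (c : Matrix (Fin n) (Fin n) F) = LinearMap.toMatrix' C from rfl,
      LinearMap.det_toMatrix', hCd, inv_mul_cancel₀ (det_ne_zero g)]
  · convert hg using 1
    rw [_root_.mul_inv_rev, show g⁻¹ * c⁻¹ * x * (c * g) = g⁻¹ * c⁻¹ * (x * c) * g by simp only [mul_assoc], hcx]
    simp [mul_assoc]

/-- A conjugate of a diagonal matrix has an eigenbasis. -/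
theorem exists_eigenbasis {x : GL (Fin n) F} {d : Fin n → F} (hx : (x : Matrix (Fin n) (Fin n) F) = Matrix.diagonal d)
    (g : GL (Fin n) F) :
    ∃ e : Basis (Fin n) F (Fin n → F), ∀ i, toEnd (g⁻¹ * x * g) (e i) = d i • e i := by
  let L : (Fin n → F) ≃ₗ[F] (Fin n → F) :=
    { toEnd g⁻¹ with
      invFun := toEnd g
      left_inv := fun v => by simp [Matrix.mulVec_mulVec]
      right_inv := fun v => by simp [Matrix.mulVec_mulVec] }
  refine ⟨(Pi.basisFun F (Fin n)).map L, fun i => ?_⟩
  rw [Basis.map_apply, Pi.basisFun_apply, toEnd_conj]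
  show toEnd g⁻¹ (toEnd x (toEnd g (toEnd g⁻¹ (Pi.single i 1)))) = d i • toEnd g⁻¹ (Pi.single i 1)
  rw [← map_smul]
  congr 1
  have hgg : ∀ w, toEnd g (toEnd g⁻¹ w) = w := fun w => by simp [Matrix.mulVec_mulVec]
  rw [hgg, toEnd_apply, hx, Matrix.diagonal_mulVec_single, ← Pi.single_smul', smul_eq_mul]

/-! ### Multiplicities -/

/-- The number of indices with a given value. -/
noncomputable def mult (d : Fin n → F) (a : F) : ℕ := by classical exact (Finset.univ.filter fun i => d i = a).card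

theorem mult_eq_zero {d : Fin n → F} {a : F} (h : ∀ i, d i ≠ a) : mult d a = 0 := by
  classical
  exact Finset.card_eq_zero.2 (Finset.filter_eq_empty_iff.2 fun i _ => h i)

/-- A non-singular matrix supported on pairs with product `μ` makes the multiplicities symmetric. -/
theorem mult_pair {d : Fin n → F} {μ : F} {M : Matrix (Fin n) (Fin n) F} (hM : M.det ≠ 0)
    (h : ∀ i j, M i j ≠ 0 → d i * d j = μ) (hd : ∀ i, d i ≠ 0) {a : F} (ha : a ≠ 0) (hμ : μ ≠ 0) :
    mult d a = mult d (μ / a) := by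
  classical
  suffices key : ∀ a : F, a ≠ 0 → mult d a ≤ mult d (μ / a) by
    refine le_antisymm (key a ha) ?_
    have := key (μ / a) (div_ne_zero hμ ha)
    rwa [div_div_cancel₀ hμ] at this
  intro a ha
  let ι := {i : Fin n // d i = a}
  let κ := {j : Fin n // d j = μ / a}
  have hli : LinearIndependent F fun i : ι => M i.1 :=
    (Matrix.linearIndependent_rows_of_det_ne_zero hM).comp _ Subtype.val_injective
  let P : (Fin n → F) →ₗ[F] (κ → F) := LinearMap.funLeft F F fun j : κ => j.1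
  have hli' : LinearIndependent F fun i : ι => P (M i.1) := by
    rw [Fintype.linearIndependent_iff] at hli ⊢
    intro c hc
    refine hli c (funext fun j => ?_)
    by_cases hj : d j = μ / a
    · simpa [P, LinearMap.funLeft_apply, Finset.sum_apply] using congrFun hc ⟨j, hj⟩
    · rw [Finset.sum_apply, Pi.zero_apply]
      refine Finset.sum_eq_zero fun i _ => ?_
      have : M i.1 j = 0 := by
        by_contra hne
        refine hj ?_
        rw [eq_div_iff ha, mul_comm, ← i.2]
        exact h _ _ hne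
      rw [Pi.smul_apply, this, smul_zero]
  have h1 := hli'.fintype_card_le_finrank
  rw [finrank_pi] at h1
  rwa [mult, mult, ← Fintype.card_subtype, ← Fintype.card_subtype]

/-- Symmetric multiplicities. -/
def Symmetric' (d : Fin n → F) : Prop := ∃ μ : F, μ ≠ 0 ∧ ∀ a : F, a ≠ 0 → mult d a = mult d (μ / a)

theorem card_ge (a : ℕ) : (Finset.univ.filter fun i : Fin n => a ≤ (i : ℕ)).card = n - a := by
  classical
  have h := Finset.card_filter_add_card_filter_not (s := (Finset.univ : Finset (Fin n))) (fun i => (i : ℕ) < a)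
  rw [Finset.card_univ, Fintype.card_fin, Fin.card_filter_val_lt] at h
  rw [show (Finset.univ.filter fun i : Fin n => a ≤ (i : ℕ)) = Finset.univ.filter fun i : Fin n => ¬ (i : ℕ) < a from
    Finset.filter_congr fun i _ => by omega]
  omega

theorem prod_two (n k : ℕ) (hk : k ≤ n) (u v : F) :
    ∏ i : Fin n, (if (i : ℕ) < k then u else v) = u ^ k * v ^ (n - k) := by
  classical
  rw [Finset.prod_ite, Finset.prod_const, Finset.prod_const, Fin.card_filter_val_lt, min_eq_right hk]
  congr 2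
  rw [← card_ge k]
  exact congrArg Finset.card (Finset.filter_congr fun i _ => by omega)

theorem mult_two {k : ℕ} (hk : k ≤ n) {u v : F} (huv : u ≠ v) :
    mult (fun i : Fin n => if (i : ℕ) < k then u else v) u = k ∧
      mult (fun i : Fin n => if (i : ℕ) < k then u else v) v = n - k := by
  classical
  constructor
  · rw [mult, show (Finset.univ.filter fun i : Fin n => (if (i : ℕ) < k then u else v) = u) =
      Finset.univ.filter fun i : Fin n => (i : ℕ) < k from Finset.filter_congr fun i _ => by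
        split_ifs with h <;> simp [h, huv.symm], Fin.card_filter_val_lt, min_eq_right hk]
  · rw [mult, ← card_ge k]
    refine congrArg Finset.card (Finset.filter_congr fun i _ => ?_)
    split_ifs with h
    · exact ⟨fun h' => absurd h' huv, fun h' => absurd h (by omega)⟩
    · exact ⟨fun _ => by omega, fun _ => rfl⟩

/-- Two values with different multiplicities are not symmetric unless both are self-paired. -/
theorem not_symmetric_two {k : ℕ} (hk0 : 0 < k) (hkn : k < n) (hne : k ≠ n - k) {u v : F} (hu : u ≠ 0) (hv : v ≠ 0)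
    (huv : u ≠ v) (huv' : u * u ≠ v * v) : ¬ Symmetric' (fun i : Fin n => if (i : ℕ) < k then u else v) := by
  rintro ⟨μ, -, h⟩
  obtain ⟨hmu, hmv⟩ := mult_two (n := n) (k := k) hkn.le huv
  set d := fun i : Fin n => if (i : ℕ) < k then u else v
  have hval : ∀ a, a ≠ u → a ≠ v → mult d a = 0 := fun a h1 h2 => mult_eq_zero fun i => by
    simp only [d]
    split_ifs
    exacts [h1.symm, h2.symm]
  have key : ∀ x y : F, x ≠ 0 → (∀ a, a ≠ x → a ≠ y → mult d a = 0) → 0 < mult d x → mult d x ≠ mult d y →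
      μ = x * x := fun x y hx hxy hpos hne => by
    have h1 := h x hx
    by_contra hne'
    by_cases hy : μ / x = y
    · rw [hy] at h1; exact hne h1
    · rw [hxy (μ / x) (fun h2 => hne' (by rw [div_eq_iff hx] at h2; exact h2)) hy] at h1
      omega
  exact huv' ((key u v hu hval (by omega) (by omega)).symm.trans
    (key v u hv (fun a h1 h2 => hval a h2 h1) (by omega) (by omega)))

/-- The fifteen pairings of five points fixing one of them. -/
def pairs5 : List (Fin 5 → Fin 5) :=
  [![0, 2, 1, 4, 3], ![0, 3, 4, 1, 2], ![0, 4, 3, 2, 1], ![2, 1, 0, 4, 3], ![3, 1, 4, 0, 2], ![4, 1, 3, 2, 0],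
    ![1, 0, 2, 4, 3], ![3, 4, 2, 0, 1], ![4, 3, 2, 1, 0], ![1, 0, 4, 3, 2], ![2, 4, 0, 3, 1], ![4, 2, 1, 3, 0],
    ![1, 0, 3, 2, 4], ![2, 3, 0, 1, 4], ![3, 2, 1, 0, 4]]

theorem pairing_five (E : Fin 5 → ZMod 5) (hsum : ∑ i, E i = 0) :
    ∃ s : Fin 5 → Fin 5, s ∈ pairs5 ∧ Function.Involutive s ∧ ∀ i j, E i + E (s i) = E j + E (s j) := by
  have key : ∀ b c d : ZMod 5, ∃ s ∈ pairs5, (∀ i, s (s i) = i) ∧
      ∀ i, ![0, b, c, d, -(b + c + d)] i + ![0, b, c, d, -(b + c + d)] (s i) =
        ![0, b, c, d, -(b + c + d)] 0 + ![0, b, c, d, -(b + c + d)] (s 0) := by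
    decide +kernel
  have hfive : ∀ a b c d e : ZMod 5, a + b + c + d + e = 0 → e - a = -((b - a) + (c - a) + (d - a)) := by
    intro a b c d e h
    have h5 : (5 : ZMod 5) = 0 := rfl
    linear_combination h - a * h5
  rw [Fin.sum_univ_five] at hsum
  obtain ⟨s, hs, hinv, h⟩ := key (E 1 - E 0) (E 2 - E 0) (E 3 - E 0)
  refine ⟨s, hs, hinv, fun i j => ?_⟩
  have hsub : ∀ k, E k - E 0 =
      ![0, E 1 - E 0, E 2 - E 0, E 3 - E 0, -((E 1 - E 0) + (E 2 - E 0) + (E 3 - E 0))] k := fun k => by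
    fin_cases k
    · simp
    · simp
    · simp
    · simp
    · exact hfive _ _ _ _ _ hsum
  linear_combination (h i).trans (h j).symm + hsub i + hsub (s i) - hsub j - hsub (s j)

theorem pairing_three : ∀ a b c : ZMod 3, a + b + c = 0 → a + a = b + c := by decide +kernel

section Root

variable [Fintype F] {r : ℕ} [hr : Fact r.Prime]

theorem exists_root (hr1 : r ∣ Fintype.card F - 1) :
    ∃ ω : F, ω ≠ 0 ∧ ω ^ r = 1 ∧ ∀ k, ω ^ k = 1 ↔ r ∣ k := by
  classical
  obtain ⟨w, hw⟩ := exists_prime_orderOf_dvd_card (G := Fˣ) r (by rwa [Fintype.card_units])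
  have h : ∀ k, (w : F) ^ k = 1 ↔ r ∣ k := fun k => by
    rw [← Units.val_pow_eq_pow_val, Units.val_eq_one, ← hw]
    exact orderOf_dvd_iff_pow_eq_one.symm
  exact ⟨w, w.ne_zero, (h r).2 dvd_rfl, h⟩

/-- A diagonal element whose multiplicities are not symmetric. -/
theorem exists_bad (hr2 : r ≠ 2) (hn : 3 ≤ n) (hgap : ¬ (n = 6 ∧ r = 3)) (hexc : ¬ ((r = 3 ∨ r = 5) ∧ n = r))
    (hr1 : r ∣ Fintype.card F - 1) :
    ∃ d : Fin n → F, (∀ i, d i ≠ 0) ∧ (∏ i, d i = 1) ∧ (∀ i, d i ^ r = 1) ∧ (∀ z, ∃ i, d i ≠ z) ∧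
      ¬ Symmetric' d := by
  classical
  obtain ⟨ω, hω0, hωr, hω⟩ := exists_root (F := F) hr1
  have hrp : r.Prime := hr.out
  have hr3 : 3 ≤ r := by have := hrp.two_le; omega
  have hsmall : ∀ k, 0 < k → k < r → ω ^ k ≠ 1 := fun k h1 h2 h => by
    have := Nat.le_of_dvd h1 ((hω k).1 h)
    omega
  have hω1 : ω ≠ 1 := fun h => hsmall 1 one_pos (by omega) (by rw [pow_one, h])
  have hωω : ω * ω ≠ 1 := fun h => hsmall 2 two_pos (by omega) (by rw [pow_two, h])
  by_cases h3 : r = 3
  · have hn3 : n ≠ 3 := fun h => hexc ⟨Or.inl h3, by omega⟩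
    subst h3
    let d : Fin n → F := fun i => if (i : ℕ) < 3 then ω else 1
    refine ⟨d, fun i => by simp only [d]; split_ifs <;> simp [hω0], ?_, fun i => ?_, fun z => ?_,
      not_symmetric_two three_pos (by omega) (by omega) hω0 one_ne_zero hω1 (by rwa [one_mul])⟩
    · rw [prod_two n 3 (by omega), hωr, one_pow, one_mul]
    · simp only [d]; split_ifs <;> simp [hωr]
    · by_contra! hc
      have := (hc ⟨0, by omega⟩).trans (hc ⟨3, by omega⟩).symm
      simp [d] at this
      exact hω1 this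
  have hr5 : 5 ≤ r := by
    rcases Nat.lt_or_ge r 5 with h | h
    · interval_cases r
      · exact absurd rfl h3
      · exact absurd hrp (by norm_num)
    · exact h
  set τ : F := (ω ^ 2)⁻¹ with hτ
  have hτ0 : τ ≠ 0 := inv_ne_zero (pow_ne_zero 2 hω0)
  have hτω2 : τ * (ω * ω) = 1 := by rw [hτ, pow_two]; exact inv_mul_cancel₀ (mul_ne_zero hω0 hω0)
  have hτω : ω ≠ τ := fun h => hsmall 3 three_pos (by omega) (by rw [← hτω2, ← h]; ring)
  have hτ1 : τ ≠ 1 := fun h => hωω (by rw [← hτω2, h, one_mul])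
  by_cases hn3 : n = 3
  · subst hn3
    let d : Fin 3 → F := fun i => if (i : ℕ) < 2 then ω else τ
    refine ⟨d, fun i => by simp only [d]; split_ifs <;> simp [hω0, hτ0], ?_, fun i => ?_, fun z => ?_,
      not_symmetric_two two_pos (by omega) (by omega) hω0 hτ0 hτω ?_⟩
    · rw [prod_two 3 2 (by omega), show 3 - 2 = 1 from rfl, pow_one, mul_comm, pow_two, hτω2]
    · simp only [d]; split_ifs
      · exact hωr
      · rw [hτ, inv_pow, ← pow_mul, (hω _).2 (Dvd.intro_left _ rfl), inv_one]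
    · by_contra! hc
      have := (hc 0).trans (hc 2).symm
      simp [d] at this
      exact hτω this
    · intro h
      have e : ω ^ 6 = 1 := by linear_combination (ω ^ 4) * h + (τ * (ω * ω) + 1) * hτω2
      have h6 := (hω 6).1 e
      have := Nat.le_of_dvd (by omega) h6
      interval_cases r
      · omega
      · exact absurd hrp (by norm_num)
  let d : Fin n → F := fun i => if (i : ℕ) < 2 then ω else if (i : ℕ) = 2 then τ else 1
  have hSω : mult d ω = 2 := by
    rw [mult, show (Finset.univ.filter fun i => d i = ω) = Finset.univ.filter fun i : Fin n => (i : ℕ) < 2 from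
      Finset.filter_congr fun i _ => by
        simp only [d]
        split_ifs with h1 h2 <;> simp [h1, hτω.symm, hω1.symm], Fin.card_filter_val_lt]
    omega
  have hSτ : mult d τ = 1 := by
    rw [mult, Finset.card_eq_one]
    refine ⟨⟨2, by omega⟩, ?_⟩
    ext i
    simp only [Finset.mem_filter, Finset.mem_univ, true_and, Finset.mem_singleton, d, Fin.ext_iff]
    split_ifs with h1 h2
    · exact ⟨fun h => absurd h hτω, fun h => by omega⟩
    · exact ⟨fun _ => h2, fun _ => rfl⟩
    · exact ⟨fun h => absurd h.symm hτ1, fun h => absurd h h2⟩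
  have hS1 : mult d 1 = n - 3 := by
    rw [mult, ← card_ge 3]
    refine congrArg Finset.card (Finset.filter_congr fun i _ => ?_)
    simp only [d]
    split_ifs with h1 h2
    · exact ⟨fun h => absurd h hω1, fun h => by omega⟩
    · exact ⟨fun h => absurd h hτ1, fun h => by omega⟩
    · exact ⟨fun _ => by omega, fun _ => rfl⟩
  have hS0 : ∀ a, a ≠ ω → a ≠ τ → a ≠ 1 → mult d a = 0 := fun a h1 h2 h4 => mult_eq_zero fun i => by
    simp only [d]
    split_ifs
    exacts [h1.symm, h2.symm, h4.symm]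
  refine ⟨d, fun i => by simp only [d]; split_ifs <;> simp [hω0, hτ0], ?_, fun i => ?_, fun z => ?_, ?_⟩
  · rw [← Finset.prod_filter_mul_prod_filter_not Finset.univ (fun i : Fin n => (i : ℕ) < 2),
      Finset.prod_congr rfl (fun i hi => show d i = ω from if_pos (Finset.mem_filter.1 hi).2), Finset.prod_const,
      Fin.card_filter_val_lt, min_eq_right (by omega), Finset.prod_eq_single (⟨2, by omega⟩ : Fin n)
        (fun i hi hne => by
          show (if (i : ℕ) < 2 then ω else if (i : ℕ) = 2 then τ else 1) = 1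
          rw [if_neg (Finset.mem_filter.1 hi).2, if_neg fun h => hne (Fin.ext h)]) (by simp)]
    show ω ^ 2 * (if 2 < 2 then ω else if 2 = 2 then τ else 1) = 1
    rw [if_neg (lt_irrefl 2), if_pos rfl, mul_comm, pow_two, hτω2]
  · simp only [d]; split_ifs
    · exact hωr
    · rw [hτ, inv_pow, ← pow_mul, (hω _).2 (Dvd.intro_left _ rfl), inv_one]
    · exact one_pow _
  · by_contra! hc
    have := (hc ⟨0, by omega⟩).trans (hc ⟨3, by omega⟩).symm
    simp [d] at this
    exact hω1 this
  · rintro ⟨μ, hμ, h⟩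
    have h1 := h ω hω0
    rw [hSω] at h1
    by_cases hμω : μ = ω * ω
    · have h2 := h 1 one_ne_zero
      rw [hS1, div_one, hμω, hS0 _ ?_ ?_ hωω] at h2
      · omega
      · exact fun h' => hω1 (mul_left_cancel₀ hω0 (h'.trans (mul_one ω).symm))
      · intro h'
        exact hsmall 4 (by omega) (by omega) (by linear_combination (ω * ω) * h' + hτω2)
    · by_cases hμτ : μ / ω = τ
      · rw [hμτ, hSτ] at h1; omega
      · by_cases hμ1 : μ / ω = 1
        · rw [hμ1, hS1] at h1
          have hn5 : n = 5 := by omega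
          have h2 := h τ hτ0
          rw [hSτ] at h2
          rw [div_eq_one_iff_eq hω0] at hμ1
          have hne : μ / τ = ω * (ω * ω) := by
            rw [hμ1, div_eq_iff hτ0]; linear_combination (-ω) * hτω2
          rw [hne, hS0] at h2
          · omega
          · exact fun h' => hωω (mul_left_cancel₀ hω0 (h'.trans (mul_one ω).symm))
          · intro h'
            have e : ω ^ 5 = 1 := by linear_combination (ω * ω) * h' + hτω2
            have h5 := (Nat.prime_dvd_prime_iff_eq hrp (by norm_num)).1 ((hω 5).1 e)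
            exact hexc ⟨Or.inr h5, by omega⟩
          · exact fun h' => hsmall 3 three_pos (by omega) (by linear_combination h')
        · rw [hS0 (μ / ω) (fun h' => hμω (by rw [div_eq_iff hω0] at h'; exact h')) hμτ hμ1] at h1
          omega

/-- When `r ^ 2` divides `q - 1` there is one more diagonal element. -/
theorem exists_bad_square (hr2 : r ≠ 2) (hr1 : r ^ 2 ∣ Fintype.card F - 1) :
    ∃ (d : Fin r → F) (z : F), (∀ i, d i ≠ 0) ∧ (∏ i, d i = 1) ∧ (∀ i, d i ^ r = z) ∧ z ^ r = 1 ∧
      (∀ z, ∃ i, d i ≠ z) ∧ ¬ Symmetric' d := by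
  classical
  have hrp : r.Prime := hr.out
  have hr3 : 3 ≤ r := by have := hrp.two_le; omega
  obtain ⟨m, hm⟩ := hr1
  obtain ⟨gen, hgen⟩ := IsCyclic.exists_generator (α := Fˣ)
  have hord : orderOf gen = Fintype.card F - 1 := by
    rw [← Fintype.card_units, ← Nat.card_eq_fintype_card, orderOf_eq_card_of_forall_mem_zpowers hgen]
  set η : Fˣ := gen ^ m
  have hm0 : 0 < m := Nat.pos_of_ne_zero fun h => by
    rw [h, mul_zero] at hm
    have := Fintype.one_lt_card (α := F)
    omega
  have hη : orderOf η = r ^ 2 := by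
    rw [orderOf_pow' _ hm0.ne', hord, hm, Nat.gcd_mul_left_left, Nat.mul_div_cancel _ hm0]
  set u : F := (η : F)
  set ω : F := u ^ r with hωdef
  have hu0 : u ≠ 0 := η.ne_zero
  have hk : ∀ k, u ^ k = 1 ↔ r ^ 2 ∣ k := fun k => by
    rw [← Units.val_pow_eq_pow_val, Units.val_eq_one, ← hη]
    exact orderOf_dvd_iff_pow_eq_one.symm
  have hω0 : ω ≠ 0 := pow_ne_zero r hu0
  have hωr : ω ^ r = 1 := by rw [hωdef, ← pow_mul, hk, pow_two]
  have hω2 : ω * ω ≠ 1 := fun h => by
    rw [hωdef, ← pow_add, hk, ← two_mul, pow_two, mul_comm 2] at h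
    have := Nat.le_of_dvd two_pos (Nat.dvd_of_mul_dvd_mul_left hrp.pos h)
    omega
  have hω1 : ω ≠ 1 := fun h => hω2 (by rw [h, one_mul])
  set d : Fin r → F := fun i => if (i : ℕ) < 1 then u * ω⁻¹ else u
  have hne : u * ω⁻¹ ≠ u := fun h => hω1 (by
    rw [mul_inv_eq_iff_eq_mul₀ hω0] at h
    exact mul_left_cancel₀ hu0 (h.symm.trans (mul_one u).symm))
  refine ⟨d, ω, fun i => by simp only [d]; split_ifs <;> simp [hu0, hω0], ?_, fun i => ?_, hωr, fun z => ?_,
    not_symmetric_two one_pos (by omega) (by omega) (mul_ne_zero hu0 (inv_ne_zero hω0)) hu0 hne ?_⟩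
  · rw [prod_two r 1 (by omega), pow_one, mul_comm u, mul_assoc, ← pow_succ', Nat.sub_add_cancel (by omega),
      ← hωdef, inv_mul_cancel₀ hω0]
  · simp only [d]; split_ifs
    · rw [mul_pow, inv_pow, hωr, inv_one, mul_one]
    · rfl
  · by_contra! hc
    have := (hc ⟨0, by omega⟩).trans (hc ⟨1, by omega⟩).symm
    simp [d] at this
    exact hne this
  · intro h
    refine hω2 ?_
    have h' : (u * u) * (ω⁻¹ * ω⁻¹) = (u * u) * 1 := by linear_combination h
    have h'' := mul_left_cancel₀ (mul_ne_zero hu0 hu0) h'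
    rwa [← mul_inv, inv_eq_one] at h''

/-- In dimension three or five the eigenvalues of an element of that order pair up. -/
theorem exists_pairing (hr35 : r = 3 ∨ r = 5) (hr1 : r ∣ Fintype.card F - 1) {d : Fin r → F} (hd : ∀ i, d i ^ r = 1)
    (hprod : ∏ i, d i = 1) :
    ∃ (σ : Equiv.Perm (Fin r)) (μ : F), μ ≠ 0 ∧ (∀ i, σ (σ i) = i) ∧ ∀ i, d i * d (σ i) = μ := by
  classical
  obtain ⟨ω, hω0, hωr, hω⟩ := exists_root (F := F) hr1
  have hrp : r.Prime := hr.out
  have hd0 : ∀ i, d i ≠ 0 := fun i h => by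
    have := hd i
    rw [h, zero_pow hrp.ne_zero] at this
    exact zero_ne_one this
  haveI : NeZero r := ⟨hrp.ne_zero⟩
  have hprim : IsPrimitiveRoot ω r := ⟨hωr, fun l hl => (hω l).1 hl⟩
  choose e he hed using fun i => hprim.eq_pow_of_pow_eq_one (hd i)
  have hmod : ∀ k l : ℕ, (k : ZMod r) = (l : ZMod r) → ω ^ k = ω ^ l := fun k l h => by
    rw [ZMod.natCast_eq_natCast_iff'] at h
    rw [pow_eq_pow_mod k hωr, h, ← pow_eq_pow_mod l hωr]
  let E : Fin r → ZMod r := fun i => (e i : ZMod r)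
  have hsum : ∑ i, E i = 0 := by
    rw [← Nat.cast_sum, ZMod.natCast_eq_zero_iff, ← hω, ← Finset.prod_pow_eq_pow_sum,
      Finset.prod_congr rfl fun i _ => hed i]
    exact hprod
  suffices h : ∃ σ : Equiv.Perm (Fin r), (∀ i, σ (σ i) = i) ∧ ∀ i j, E i + E (σ i) = E j + E (σ j) by
    obtain ⟨σ, hσ, hE⟩ := h
    refine ⟨σ, d 0 * d (σ 0), mul_ne_zero (hd0 _) (hd0 _), hσ, fun i => ?_⟩
    rw [← hed i, ← hed (σ i), ← hed 0, ← hed (σ 0), ← pow_add, ← pow_add]
    exact hmod _ _ (by push_cast; exact hE i 0)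
  clear hmod hd0 hed he hprod hd hprim hω hωr
  rcases hr35 with rfl | rfl
  · rw [Fin.sum_univ_three] at hsum
    refine ⟨Equiv.swap 1 2, fun i => Equiv.swap_apply_self _ _ i, ?_⟩
    have h : ∀ i, E i + E (Equiv.swap (1 : Fin 3) 2 i) = E 1 + E 2 := fun i => by
      fin_cases i
      · simpa [Equiv.swap_apply_of_ne_of_ne] using pairing_three _ _ _ hsum
      · simp
      · simp [add_comm]
    exact fun i j => (h i).trans (h j).symm
  · obtain ⟨s, hs, hinv, hE⟩ := pairing_five E hsum
    exact ⟨Function.Involutive.toPerm s hinv, hinv, hE⟩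

end Root

/-! ### Elements with a free block -/

section Block

variable [Fintype F] {r : ℕ} [hr : Fact r.Prime]

theorem root_trivial (hr1 : ¬ r ∣ Fintype.card F - 1) {a : F} (ha : a ^ r = 1) : a = 1 := by
  classical
  by_contra hne
  have ha0 : a ≠ 0 := fun h => by rw [h, zero_pow hr.out.ne_zero] at ha; exact zero_ne_one ha
  have ho : orderOf (Units.mk0 a ha0) = r := orderOf_eq_prime (Units.ext (by simpa using ha))
    fun h => hne (congrArg Units.val h)
  have := orderOf_dvd_card (x := Units.mk0 a ha0)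
  rw [ho, Fintype.card_units] at this
  exact hr1 this

theorem exists_block (hrF : (r : F) ≠ 0) (hr1 : ¬ r ∣ Fintype.card F - 1)
    (hi : 0 < orderOf (Nat.card F : ZMod r)) {k : ℕ} (hk : 0 < k) (hkn : k * orderOf (Nat.card F : ZMod r) ≤ n) :
    ∃ x : GL (Fin n) F, x ∈ Cfsg.Geo.specialLinear (Fin n) F ∧ x ^ r = 1 ∧
      (∀ z : F, (x : Matrix (Fin n) (Fin n) F) ≠ z • 1) ∧
      finrank F (restSp r (toEnd x)) = k * orderOf (Nat.card F : ZMod r) := by
  classical
  obtain ⟨T, hTr, hfix⟩ := exists_order_fix (F := F) (r := r) hrF hi n k hkn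
  have hdet : LinearMap.det T = 1 := root_trivial hr1 (by rw [← map_pow, hTr, map_one])
  let x : GL (Fin n) F := Matrix.GeneralLinearGroup.mkOfDetNeZero (LinearMap.toMatrix' T)
    (by rw [LinearMap.det_toMatrix', hdet]; exact one_ne_zero)
  have hxT : toEnd x = T := Matrix.toLin'_toMatrix' T
  have hxr : x ^ r = 1 := by rw [← toEnd_eq_one_iff, toEnd_pow, hxT, hTr]
  have hpos : 0 < k * orderOf (Nat.card F : ZMod r) := Nat.mul_pos hk hi
  have hrest : finrank F (restSp r (toEnd x)) = k * orderOf (Nat.card F : ZMod r) := by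
    have h := finrank_rest hxr hrF
    rw [Fintype.card_fin, hxT] at h
    rw [hxT]
    omega
  refine ⟨x, mem_SL_iff.2 (by rw [← det_toEnd, hxT, hdet]), hxr, fun z hz => ?_, hrest⟩
  have hT : ∀ v, T v = z • v := fun v => by
    rw [← hxT, toEnd_apply, hz, Matrix.smul_mulVec, Matrix.one_mulVec]
  have hn : 0 < n := by omega
  have hTk : ∀ (j : ℕ) v, (T ^ j) v = z ^ j • v := fun j => by
    induction j with
    | zero => intro v; simp
    | succ j ih => intro v; rw [pow_succ', Module.End.mul_apply, ih, map_smul, hT, smul_smul, ← pow_succ]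
  have hz1 : z = 1 := by
    refine root_trivial hr1 ?_
    have h := hTk r (Pi.single ⟨0, hn⟩ 1)
    rw [hTr, Module.End.one_apply] at h
    simpa using (congrFun h ⟨0, hn⟩).symm
  have htop : fixSp T = ⊤ := Submodule.eq_top_iff'.2 fun v => mem_fixSp.2 (by rw [hT, hz1, one_smul])
  rw [htop, finrank_top, finrank_pi, Fintype.card_fin] at hfix
  omega

end Block

end CfsgLib.Geo.FormDer
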