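/-
Elements of order three or five in dimension three or five are diagonalisable.
-/
import Cfsg.Agent.Lib.Geo.FormDerangeCommon
import Mathlib.LinearAlgebra.Matrix.Charpoly.Coeff
import Mathlib.FieldTheory.KummerPolynomial

set_option autoImplicit false

namespace CfsgLib.Geo.FormDer

open Matrix Module CfsgLib.Geo.PrimeAct CfsgLib.Geo.PrimeSp

variable {F : Type*} [Field F] [Fintype F]

theorem diag_centraliser {n : ℕ} (hn : 0 < n) {T : (Fin n → F) →ₗ[F] (Fin n → F)} (b : Basis (Fin n) F (Fin n → F))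
    {d : Fin n → F} (hb : ∀ i, T (b i) = d i • b i) (a : F) :
    ∃ C : (Fin n → F) →ₗ[F] (Fin n → F), LinearMap.det C = a ∧ ∀ v, C (T v) = T (C v) := by
  classical
  let e : Fin n → F := fun i => if i = ⟨0, hn⟩ then a else 1
  let C : (Fin n → F) →ₗ[F] (Fin n → F) := b.constr F fun i => e i • b i
  have hC : ∀ i, C (b i) = e i • b i := fun i => b.constr_basis F _ i
  have hcomm : C ∘ₗ T = T ∘ₗ C := b.ext fun i => by
    simp [hb, hC, smul_smul, mul_comm]
  exact ⟨C, by rw [CfsgLib.Geo.InvClass.det_of_diag b C e hC]; simp [e], fun v => LinearMap.congr_fun hcomm v⟩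

variable {r : ℕ} [hr : Fact r.Prime]

/-- An element of order `r` in dimension `r` is diagonalisable when `r` divides `q - 1` exactly once. -/
theorem exists_diagonal (hr2 : r ≠ 2) (hrF : (r : F) ≠ 0) (hr1 : r ∣ Fintype.card F - 1)
    (hr1' : ¬ r ^ 2 ∣ Fintype.card F - 1) {x : GL (Fin r) F} (hx : x ∈ Cfsg.Geo.specialLinear (Fin r) F) {z : F}
    (hz : ((x ^ r : GL (Fin r) F) : Matrix (Fin r) (Fin r) F) = z • 1) :
    ∃ (b : Basis (Fin r) F (Fin r → F)) (d : Fin r → F),
      (∀ i, toEnd x (b i) = d i • b i) ∧ (∀ i, d i ^ r = 1) ∧ ∏ i, d i = 1 := by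
  classical
  have hrp : r.Prime := hr.out
  haveI : Nonempty (Fin r) := ⟨⟨0, hrp.pos⟩⟩
  set X : Matrix (Fin r) (Fin r) F := (x : Matrix (Fin r) (Fin r) F) with hXdef
  have hdet : X.det = 1 := mem_SL_iff.1 hx
  have hXr : X ^ r = z • 1 := by rw [← hz, Units.val_pow_eq_pow_val]
  have hzr : z ^ r = 1 := by
    have h := congrArg Matrix.det hXr
    rwa [Matrix.det_pow, hdet, one_pow, Matrix.det_smul, Matrix.det_one, mul_one, Fintype.card_fin, eq_comm] at h
  have hz1 : z = 1 := by
    by_contra hne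
    have hroot : ∀ b : F, b ^ r ≠ z := by
      intro s hs
      have hs0 : s ≠ 0 := fun h => by
        rw [h, zero_pow hrp.ne_zero] at hs
        rw [← hs, zero_pow hrp.ne_zero] at hzr
        exact zero_ne_one hzr
      have h1 : orderOf (Units.mk0 s hs0) = r ^ (1 + 1) := by
        refine orderOf_eq_prime_pow ?_ ?_
        · rw [pow_one]
          exact fun h => hne (by rw [← hs]; simpa using congrArg Units.val h)
        · refine Units.ext ?_
          rw [pow_succ, pow_one, Units.val_pow_eq_pow_val, Units.val_mk0, pow_mul, hs, hzr, Units.val_one]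
      have h3 := orderOf_dvd_card (x := Units.mk0 s hs0)
      rw [h1, Fintype.card_units] at h3
      exact hr1' h3
    have hirr := X_pow_sub_C_irreducible_of_prime hrp hroot
    have hmon : (Polynomial.X ^ r - Polynomial.C z).Monic := Polynomial.monic_X_pow_sub_C z hrp.ne_zero
    have hmin : minpoly F X = Polynomial.X ^ r - Polynomial.C z :=
      (minpoly.eq_of_irreducible_of_monic hirr (by
        rw [map_sub, map_pow, Polynomial.aeval_X, Polynomial.aeval_C, hXr, Algebra.algebraMap_eq_smul_one, sub_self])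
        hmon).symm
    have hchar : X.charpoly = Polynomial.X ^ r - Polynomial.C z :=
      (Polynomial.eq_of_monic_of_dvd_of_natDegree_le hmon X.charpoly_monic
        (hmin ▸ Matrix.minpoly_dvd_charpoly X) (by
          rw [X.charpoly_natDegree_eq_dim, Fintype.card_fin, Polynomial.natDegree_X_pow_sub_C]))
    have hd := Matrix.det_eq_sign_charpoly_coeff X
    rw [hchar, hdet, Fintype.card_fin, Polynomial.coeff_sub, Polynomial.coeff_X_pow, if_neg hrp.ne_zero.symm,
      Polynomial.coeff_C_zero, zero_sub, (hrp.odd_of_ne_two hr2).neg_one_pow, neg_one_mul, neg_neg] at hd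
    exact hne hd.symm
  subst hz1
  set T := toEnd x
  have hT : T ^ r = 1 := by rw [← toEnd_pow, ← toEnd_one]; congr 1; exact Units.ext (by rw [hz, one_smul]; rfl)
  obtain ⟨ω, hω0, hωr, hω⟩ := exists_root (F := F) hr1
  let E : Set (Fin r → F) := {w | ∃ c : F, c ^ r = 1 ∧ T w = c • w}
  let w : ℕ → (Fin r → F) → (Fin r → F) := fun a v => ∑ j ∈ Finset.range r, ((ω ^ a) ^ j) • (T ^ j) v
  have hwE : ∀ a v, w a v ∈ E := fun a v => by
    refine ⟨(ω ^ a)⁻¹, by rw [inv_pow, ← pow_mul, mul_comm, pow_mul, hωr, one_pow, inv_one], ?_⟩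
    have hωa : ω ^ a ≠ 0 := pow_ne_zero a hω0
    rw [eq_inv_smul_iff₀ hωa]
    show (ω ^ a) • T (∑ j ∈ Finset.range r, ((ω ^ a) ^ j) • (T ^ j) v) = _
    let f : ℕ → (Fin r → F) := fun j => ((ω ^ a) ^ j) • (T ^ j) v
    have hstep : ∀ j, (ω ^ a) • T (f j) = f (j + 1) := fun j => by
      simp only [f, map_smul, smul_smul, pow_succ']
      rfl
    have hfr : f r = f 0 := by
      show ((ω ^ a) ^ r) • (T ^ r) v = ((ω ^ a) ^ 0) • (T ^ 0) v
      rw [hT, ← pow_mul, mul_comm, pow_mul, hωr, one_pow, pow_zero, pow_zero]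
    rw [map_sum, Finset.smul_sum, Finset.sum_congr rfl fun j _ => hstep j]
    have h1 := Finset.sum_range_succ' f r
    have h2 := Finset.sum_range_succ f r
    rw [hfr] at h2
    exact add_right_cancel (h1.symm.trans h2)
  have hspan : (⊤ : Submodule F (Fin r → F)) ≤ Submodule.span F E := fun v _ => by
    have hsum : ∑ a ∈ Finset.range r, w a v = (r : F) • v := by
      simp only [w]
      rw [Finset.sum_comm, Finset.sum_eq_single 0 (fun j hj hj0 => ?_) (fun h => absurd (Finset.mem_range.2 hrp.pos) h)]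
      · simp [← Nat.cast_smul_eq_nsmul F]
      · rw [← Finset.sum_smul]
        have hne : ω ^ j ≠ 1 := fun h => by
          have := Nat.le_of_dvd (Nat.pos_of_ne_zero hj0) ((hω j).1 h)
          exact absurd (Finset.mem_range.1 hj) (by omega)
        rw [Finset.sum_congr rfl fun a _ => pow_right_comm ω a j, geom_sum_eq hne, ← pow_mul, mul_comm, pow_mul,
          hωr, one_pow, sub_self, zero_div, zero_smul]
    rw [← inv_smul_smul₀ hrF v, ← hsum]
    exact Submodule.smul_mem _ _ (Submodule.sum_mem _ fun a _ => Submodule.subset_span (hwE a v))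
  let b₀ := Module.Basis.ofSpan hspan
  let b := b₀.reindex (b₀.indexEquiv (Pi.basisFun F (Fin r)))
  have hb : ∀ i, b i ∈ E := fun i => by
    rw [Basis.reindex_apply]
    exact Module.Basis.ofSpan_subset hspan ⟨_, rfl⟩
  choose d hd hdT using hb
  refine ⟨b, d, hdT, hd, ?_⟩
  rw [← CfsgLib.Geo.InvClass.det_of_diag b T d hdT, det_toEnd]
  exact hdet

end CfsgLib.Geo.FormDer
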