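/-
Hermitian forms over the field with four elements: orthonormal frames and isotropic transvections.
-/
import Cfsg.Agent.Lib.Geo.DecompCoords
import Cfsg.Prelude.Def_LieClassical

namespace CfsgLib.Geo

open Matrix Module

/-- The hypotheses on a hermitian form over the field with four elements. -/
structure IsHermFour {F V : Type*} [Field F] [AddCommGroup V] [Module F V] (B : V → V → F) : Prop where
  add_left : ∀ x y v, B (x + y) v = B x v + B y v
  smul_left : ∀ (c : F) x v, B (c • x) v = c * B x v
  herm : ∀ v w, B v w = B w v ^ 2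
  two : (2 : F) = 0

namespace IsHermFour

variable {F V : Type*} [Field F] [AddCommGroup V] [Module F V] {B : V → V → F} (h : IsHermFour B)
include h

theorem add_right (v x y : V) : B v (x + y) = B v x + B v y := by
  rw [h.herm, h.add_left, h.herm v x, h.herm v y]
  linear_combination (B x v * B y v) * h.two

theorem smul_right (c : F) (v x : V) : B v (c • x) = c ^ 2 * B v x := by
  rw [h.herm, h.smul_left, h.herm v x]; ring

theorem zero_left (v : V) : B 0 v = 0 := by
  have := h.smul_left 0 0 v
  simpa using this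

theorem zero_right (v : V) : B v 0 = 0 := by rw [h.herm, h.zero_left]; ring

theorem self_eq (v : V) : B v v = 0 ∨ B v v = 1 := by
  have h1 := h.herm v v
  rcases eq_or_ne (B v v) 0 with h0 | h0
  · exact Or.inl h0
  · right
    exact mul_left_cancel₀ h0 (by rw [mul_one, ← pow_two]; exact h1.symm)

omit h in
theorem exists_sq_ne {F : Type*} [Field F] [Fintype F] (hq : Fintype.card F = 4) : ∃ z : F, z ^ 2 ≠ z := by
  classical
  by_contra! hall
  have hsub : (Finset.univ : Finset F) ⊆ {0, 1} := fun z _ => by
    rcases eq_or_ne z 0 with rfl | hz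
    · simp
    · have h1 : z = 1 := mul_left_cancel₀ hz (by rw [mul_one, ← pow_two, hall z])
      simp [h1]
  have := Finset.card_le_card hsub
  rw [Finset.card_univ, hq] at this
  have h2 : ({0, 1} : Finset F).card ≤ 2 := Finset.card_le_two
  omega

theorem exists_norm_one [Fintype F] (hq : Fintype.card F = 4) (W : Submodule F V) {x y : V} (hx : x ∈ W) (hy : y ∈ W)
    (hxy : B x y ≠ 0) : ∃ e ∈ W, B e e = 1 := by
  by_contra! hall
  have hiso : ∀ e ∈ W, B e e = 0 := fun e he => (h.self_eq e).resolve_right (hall e he)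
  obtain ⟨z, hz⟩ := exists_sq_ne hq
  have h1 := hiso _ (W.add_mem (W.smul_mem (z / B x y) hx) hy)
  rw [h.add_left, h.add_right, h.add_right, h.smul_left, h.smul_left, hiso x hx |> fun e => show B x ((z / B x y) • x) = 0 by
    rw [h.smul_right, e, mul_zero], h.smul_right, hiso y hy, h.herm y x] at h1
  apply hz
  have : z / B x y * B x y + (z / B x y) ^ 2 * B x y ^ 2 = 0 := by linear_combination h1
  rw [← mul_pow, div_mul_cancel₀ _ hxy] at this
  linear_combination this - z * h.two

theorem repr_eq {κ : Type*} [Fintype κ] (b : Basis κ F V) (hb : ∀ p q, B (b p) (b q) = open Classical in if p = q then 1 else 0)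
    (x : V) (p : κ) : b.repr x p = B x (b p) := by
  classical
  let f : V →ₗ[F] F :=
    { toFun := fun x => B x (b p)
      map_add' := fun x y => h.add_left x y _
      map_smul' := fun c x => h.smul_left c x _ }
  have : b.coord p = f := b.ext fun q => by
    show b.repr (b q) p = B (b q) (b p)
    rw [hb, Basis.repr_self, Finsupp.single_apply]
  exact LinearMap.congr_fun this x

theorem linearIndependent_of_orthonormal {κ : Type*} [Fintype κ] (v : κ → V)
    (hv : ∀ p q, B (v p) (v q) = open Classical in if p = q then 1 else 0) : LinearIndependent F v := by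
  classical
  rw [Fintype.linearIndependent_iff]
  intro g hg q
  let f : V →ₗ[F] F :=
    { toFun := fun x => B x (v q)
      map_add' := fun x y => h.add_left x y _
      map_smul' := fun c x => h.smul_left c x _ }
  have h1 := congrArg f hg
  rw [map_sum, map_zero, Finset.sum_eq_single q] at h1
  · rw [map_smul, smul_eq_mul] at h1
    simpa [f, hv] using h1
  · intro p _ hp
    rw [map_smul, smul_eq_mul, show f (v p) = 0 by simp [f, hv, hp], mul_zero]
  · intro hq'
    exact absurd (Finset.mem_univ q) hq'

/-- A non-degenerate plane has an orthonormal basis. -/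
theorem exists_frame_two [Fintype F] (hq : Fintype.card F = 4) (W : Submodule F V) [FiniteDimensional F V]
    (hrank : finrank F W = 2) (hnd : ∀ x ∈ W, x ≠ 0 → ∃ y ∈ W, B x y ≠ 0) :
    ∃ v : Fin 2 → V, (∀ j, v j ∈ W) ∧ ∀ j k, B (v j) (v k) = if j = k then 1 else 0 := by
  classical
  obtain ⟨x, hx, hx0⟩ : ∃ x ∈ W, x ≠ 0 := by
    apply Submodule.exists_mem_ne_zero_of_ne_bot
    intro hb
    rw [hb, finrank_bot] at hrank
    omega
  obtain ⟨y, hy, hxy⟩ := hnd x hx hx0
  obtain ⟨e, he, hee⟩ := h.exists_norm_one hq W hx hy hxy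
  obtain ⟨w, hw, hwe⟩ : ∃ w ∈ W, w ∉ Submodule.span F {e} := by
    by_contra! hall
    have h1 := Submodule.finrank_mono (show W ≤ Submodule.span F {e} from hall)
    have h2 := finrank_span_le_card (R := F) ({e} : Set V)
    rw [hrank] at h1
    simp at h2
    omega
  set z := w + B w e • e with hz
  have hzm : z ∈ W := W.add_mem hw (W.smul_mem _ he)
  have hze : B z e = 0 := by
    rw [hz, h.add_left, h.smul_left, hee]
    linear_combination (B w e) * h.two
  have hez : B e z = 0 := by rw [h.herm, hze]; ring
  have hz0 : z ≠ 0 := by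
    intro h0
    apply hwe
    rw [show w = (-B w e) • e by rw [hz] at h0; rw [neg_smul]; exact eq_neg_of_add_eq_zero_left h0]
    exact Submodule.smul_mem _ _ (Submodule.mem_span_singleton_self e)
  have hzz : B z z = 1 := by
    refine (h.self_eq z).resolve_left fun h0 => ?_
    obtain ⟨x', hx', hzx'⟩ := hnd z hzm hz0
    apply hzx'
    have hli : LinearIndependent F ![e, z] := by
      rw [LinearIndependent.pair_iff' (fun h' => one_ne_zero (α := F) (by rw [← hee, h', h.zero_left]))]
      intro c hc
      apply hz0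
      have : c = 0 := by
        have h3 : B z e = c := by rw [← hc, h.smul_left, hee, mul_one]
        rw [← h3, hze]
      rw [← hc, this, zero_smul]
    have hle : Submodule.span F (Set.range ![e, z]) ≤ W := by
      rw [Submodule.span_le]
      rintro _ ⟨k, rfl⟩
      fin_cases k
      · exact he
      · exact hzm
    have heq : Submodule.span F (Set.range ![e, z]) = W :=
      Submodule.eq_of_le_of_finrank_eq hle (by rw [finrank_span_eq_card hli, hrank, Fintype.card_fin])
    rw [← heq, show Set.range ![e, z] = {e, z} by simp [Matrix.range_cons, Set.pair_comm],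
      Submodule.mem_span_pair] at hx'
    obtain ⟨a, c, rfl⟩ := hx'
    rw [h.add_right, h.smul_right, h.smul_right, hze, h0]
    ring
  refine ⟨![e, z], fun j => ?_, fun j k => ?_⟩
  · fin_cases j
    · exact he
    · exact hzm
  · fin_cases j <;> fin_cases k <;> simp [hee, hez, hze, hzz]

omit h in
theorem cube_eq_one [Fintype F] (hq : Fintype.card F = 4) {c : F} (hc : c ≠ 0) : c * c ^ 2 = 1 := by
  have := FiniteField.pow_card_sub_one_eq_one c hc
  rw [hq] at this
  rw [← this]; ring

/-- A norm-one combination of an orthonormal pair has exactly one non-zero coefficient. -/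
theorem coeff_of_norm_one [Fintype F] (hq : Fintype.card F = 4) {e z : V} (he : B e e = 1) (hz : B z z = 1)
    (hez : B e z = 0) (hze : B z e = 0) {α β : F} (hn : B (α • e + β • z) (α • e + β • z) = 1) :
    (α = 0 ∧ β ≠ 0) ∨ (α ≠ 0 ∧ β = 0) := by
  rw [h.add_left, h.add_right, h.add_right, h.smul_left, h.smul_left, h.smul_left, h.smul_left,
    h.smul_right, h.smul_right, h.smul_right, h.smul_right, he, hz, hez, hze] at hn
  by_cases hα : α = 0
  · refine Or.inl ⟨hα, ?_⟩
    rintro rfl
    rw [hα] at hn
    simp at hn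
  · by_cases hβ : β = 0
    · exact Or.inr ⟨hα, hβ⟩
    · exfalso
      apply one_ne_zero (α := F)
      linear_combination (-1 : F) * hn + cube_eq_one hq hα + cube_eq_one hq hβ + h.two

/-- The functional x ↦ B x u. -/
def flipMap (u : V) : V →ₗ[F] F where
  toFun x := B x u
  map_add' x y := h.add_left x y u
  map_smul' c x := h.smul_left c x u

theorem transvection_preserves {u : V} (hu : B u u = 0) (x y : V) :
    B (x + B x u • u) (y + B y u • u) = B x y := by
  rw [h.add_left, h.add_right, h.add_right, h.smul_left, h.smul_left, h.smul_right, h.smul_right, hu, h.herm u y]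
  linear_combination (B y u ^ 2 * B x u) * h.two

end IsHermFour

variable {F : Type*} [Field F] [Fintype F] {n : ℕ}

theorem isHermFour_hermForm (hq : Fintype.card F = 4) : IsHermFour (Cfsg.hermForm n F 2) := by
  have h4 : ∀ x : F, x ^ 4 = x := fun x => by simpa [hq] using FiniteField.pow_card x
  have h2 : (2 : F) = 0 := by
    have := FiniteField.cast_card_eq_zero F
    rw [hq] at this
    push_cast at this
    exact pow_eq_zero_iff (two_ne_zero) |>.1 (by linear_combination this)
  haveI : CharP F 2 := CharTwo.of_one_ne_zero_of_two_eq_zero one_ne_zero h2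
  refine ⟨fun x y v => ?_, fun c x v => ?_, fun v w => ?_, h2⟩
  · simp [Cfsg.hermForm, add_mul, Finset.sum_add_distrib]
  · simp [Cfsg.hermForm, Finset.mul_sum, mul_assoc]
  · simp only [Cfsg.hermForm]
    rw [CharTwo.sum_sq]
    refine Finset.sum_congr rfl fun i _ => ?_
    rw [mul_pow, ← pow_mul, h4, mul_comm]

/-- The isotropic transvection x ↦ x + h(x,u) u, an element of SU. -/
noncomputable def hermTransvection (hq : Fintype.card F = 4) (u : Fin n → F) (hu : Cfsg.hermForm n F 2 u u = 0) :
    Matrix.GeneralLinearGroup (Fin n) F :=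
  rankOne ((isHermFour_hermForm hq).flipMap u) u (by
    rw [show (isHermFour_hermForm hq).flipMap u u = 0 from hu, add_zero]; exact one_ne_zero)

theorem hermTransvection_mulVec (hq : Fintype.card F = 4) (u : Fin n → F) (hu : Cfsg.hermForm n F 2 u u = 0)
    (x : Fin n → F) :
    (hermTransvection hq u hu : Matrix (Fin n) (Fin n) F) *ᵥ x = x + Cfsg.hermForm n F 2 x u • u :=
  rankOne_mulVec _ _ _ x

theorem hermTransvection_mem (hq : Fintype.card F = 4) (u : Fin n → F) (hu : Cfsg.hermForm n F 2 u u = 0) :
    hermTransvection hq u hu ∈ Cfsg.GU n F 2 ⊓ Cfsg.Geo.specialLinear (Fin n) F := by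
  refine ⟨fun x y => ?_, rankOne_mem_specialLinear _ _ _ hu⟩
  show Cfsg.hermForm n F 2 ((hermTransvection hq u hu : Matrix (Fin n) (Fin n) F) *ᵥ x)
    ((hermTransvection hq u hu : Matrix (Fin n) (Fin n) F) *ᵥ y) = _
  rw [hermTransvection_mulVec, hermTransvection_mulVec]
  exact (isHermFour_hermForm hq).transvection_preserves hu x y

theorem unitary_planes_not_maximal {t : ℕ} (hq : Fintype.card F = 4) (D : Fin t → Submodule F (Fin n → F))
    (hD : Cfsg.Geo.IsNondegenerateMDecomposition (Cfsg.hermForm n F 2) 2 D) :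
    ∃ K : Subgroup (Matrix.GeneralLinearGroup (Fin n) F),
      Cfsg.Geo.decompositionStabilizer D ⊓ (Cfsg.GU n F 2 ⊓ Cfsg.Geo.specialLinear (Fin n) F) < K ∧
        K < (Cfsg.GU n F 2 ⊓ Cfsg.Geo.specialLinear (Fin n) F) := by
  classical
  have ht := hD.decomp.two_le
  set B := Cfsg.hermForm n F 2 with hBdef
  have h : IsHermFour B := isHermFour_hermForm hq
  have hframe : ∀ i, ∃ v : Fin 2 → Fin n → F, (∀ j, v j ∈ D i) ∧ ∀ j k, B (v j) (v k) = if j = k then 1 else 0 :=
    fun i => h.exists_frame_two hq (D i) (hD.decomp.finrank_eq i) fun x hx hx0 => (hD.nondegenerate i x hx hx0).2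
  choose v hvD hv using hframe
  let vv : Fin t × Fin 2 → Fin n → F := fun p => v p.1 p.2
  have hvv : ∀ p q, B (vv p) (vv q) = if p = q then 1 else 0 := by
    rintro ⟨i, j⟩ ⟨k, l⟩
    rcases eq_or_ne i k with rfl | hik
    · simp [vv, hv i j l]
    · rw [if_neg (fun h' => hik (congrArg Prod.fst h'))]
      exact hD.orthogonal i k hik _ (hvD i j) _ (hvD k l)
  have hcard := card_eq_mul hD.decomp
  rw [Fintype.card_fin] at hcard
  haveI : Nonempty (Fin t × Fin 2) := ⟨(⟨0, by omega⟩, 0)⟩
  let b : Basis (Fin t × Fin 2) F (Fin n → F) := basisOfLinearIndependentOfCardEqFinrank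
    (h.linearIndependent_of_orthonormal vv (by intro p q; rw [hvv]; congr 1))
    (by rw [Fintype.card_prod, Fintype.card_fin, Fintype.card_fin, Module.finrank_fin_fun]; omega)
  have hb : ∀ p q, B (b p) (b q) = if p = q then 1 else 0 := fun p q => by
    simp [b, hvv]
  have hrepr := h.repr_eq b (by intro p q; rw [hb]; congr 1)
  have hbD : ∀ p, b p ∈ D p.1 := fun p => by simp [b, vv, hvD]
  let D' : Fin (t * 2) → Submodule F (Fin n → F) := fun k => Submodule.span F {b (finProdFinEquiv.symm k)}
  have hcube : ∀ c : F, c ≠ 0 → c * c ^ 2 = 1 := fun c hc => by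
    have := FiniteField.pow_card_sub_one_eq_one c hc
    rw [hq] at this
    rw [← this]; ring
  -- elements permuting the planes and preserving the form permute the lines of the frame
  have hle : ∀ g ∈ Cfsg.Geo.decompositionStabilizer D ⊓ (Cfsg.GU n F 2 ⊓ Cfsg.Geo.specialLinear (Fin n) F),
      g ∈ Cfsg.Geo.decompositionStabilizer D' := by
    rintro g ⟨⟨σ, hσ⟩, hgU, -⟩
    have hiso : ∀ x y, B ((g : Matrix (Fin n) (Fin n) F) *ᵥ x) ((g : Matrix (Fin n) (Fin n) F) *ᵥ y) = B x y := hgU
    have hline : ∀ p, ∃ q, ∃ c : F, c ≠ 0 ∧ (g : Matrix (Fin n) (Fin n) F) *ᵥ b p = c • b q := by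
      intro p
      set x := (g : Matrix (Fin n) (Fin n) F) *ᵥ b p with hx
      have hxD : x ∈ D (σ p.1) := by
        rw [← hσ p.1]
        exact ⟨b p, hbD p, Matrix.toLin'_apply _ _⟩
      have hzero : ∀ q : Fin t × Fin 2, q.1 ≠ σ p.1 → b.repr x q = 0 := fun q hq' => by
        rw [hrepr]
        exact hD.orthogonal _ _ (Ne.symm hq') _ hxD _ (hbD q)
      have hxsum : x = b.repr x (σ p.1, 0) • b (σ p.1, 0) + b.repr x (σ p.1, 1) • b (σ p.1, 1) := by
        conv_lhs => rw [← b.sum_repr x]
        rw [Fintype.sum_prod_type (f := fun q => b.repr x q • b q), Finset.sum_eq_single (σ p.1)]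
        · rw [Fin.sum_univ_two]
        · intro i _ hi
          exact Finset.sum_eq_zero fun j _ => by rw [hzero (i, j) hi, zero_smul]
        · intro hh
          exact absurd (Finset.mem_univ _) hh
      have hnorm : B x x = 1 := by rw [hx, hiso, hb, if_pos rfl]
      generalize b.repr x (σ p.1, 0) = α at hxsum
      generalize b.repr x (σ p.1, 1) = β at hxsum
      rw [hxsum, h.add_left, h.add_right, h.add_right, h.smul_left, h.smul_left, h.smul_left, h.smul_left,
        h.smul_right, h.smul_right, h.smul_right, h.smul_right, hb, hb, hb, hb, if_pos rfl, if_pos rfl,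
        if_neg (by simp), if_neg (by simp)] at hnorm
      by_cases hα : α = 0
      · refine ⟨(σ p.1, 1), β, ?_, by rw [hxsum, hα, zero_smul, zero_add]⟩
        rintro rfl
        rw [hα] at hnorm
        simp at hnorm
      · by_cases hβ : β = 0
        · exact ⟨(σ p.1, 0), α, hα, by rw [hxsum, hβ, zero_smul, add_zero]⟩
        · exfalso
          apply one_ne_zero (α := F)
          linear_combination (-1 : F) * hnorm + hcube α hα + hcube β hβ + h.two
    choose π c hc hπ using hline
    have hinj : Function.Injective π := by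
      intro p q hpq
      by_contra hne
      have := hiso (b p) (b q)
      rw [hπ, hπ, hpq, h.smul_left, h.smul_right, hb, hb, if_pos rfl, if_neg hne, mul_one] at this
      exact mul_ne_zero (hc p) (pow_ne_zero 2 (hc q)) this
    let τ : Equiv.Perm (Fin (t * 2)) :=
      finProdFinEquiv.symm.trans ((Equiv.ofBijective π (Finite.injective_iff_bijective.1 hinj)).trans finProdFinEquiv)
    refine ⟨τ, fun k => ?_⟩
    show (Submodule.span F {b (finProdFinEquiv.symm k)}).map (Matrix.toLin' (g : Matrix (Fin n) (Fin n) F)) = Submodule.span F _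
    rw [Submodule.map_span, Set.image_singleton, Matrix.toLin'_apply, hπ,
      Submodule.span_singleton_smul_eq (IsUnit.mk0 _ (hc _))]
    simp [τ]
  let i0 : Fin t := ⟨0, by omega⟩
  let i1 : Fin t := ⟨1, by omega⟩
  have h01 : i0 ≠ i1 := by simp [i0, i1, Fin.ext_iff]
  refine ⟨Cfsg.Geo.decompositionStabilizer D' ⊓ (Cfsg.GU n F 2 ⊓ Cfsg.Geo.specialLinear (Fin n) F),
    lt_of_le_of_ne (le_inf hle inf_le_right) fun heq => ?_, lt_of_le_of_ne inf_le_right fun heq => ?_⟩
  · -- the transposition of two frame vectors from different planes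
    set u := b (i0, 0) + b (i1, 0) with hu
    have hpq : ((i0, 0) : Fin t × Fin 2) ≠ (i1, 0) := fun h' => h01 (congrArg Prod.fst h')
    have huu : B u u = 0 := by
      rw [hu, h.add_left, h.add_right, h.add_right, hb, hb, hb, hb, if_pos rfl, if_pos rfl, if_neg hpq, if_neg hpq.symm]
      linear_combination h.two
    have hbu : ∀ p, B (b p) u = if p = (i0, 0) ∨ p = (i1, 0) then 1 else 0 := fun p => by
      rw [hu, h.add_right, hb, hb]
      by_cases h1 : p = (i0, 0)
      · subst h1; simp [hpq]
      · by_cases h2 : p = (i1, 0)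
        · subst h2; simp [hpq.symm]
        · simp [h1, h2]
    have hT : ∀ p, (hermTransvection hq u huu : Matrix (Fin n) (Fin n) F) *ᵥ b p =
        b (Equiv.swap (i0, (0 : Fin 2)) (i1, 0) p) := fun p => by
      rw [hermTransvection_mulVec, ← hBdef, hbu]
      by_cases h1 : p = (i0, 0)
      · subst h1
        rw [if_pos (Or.inl rfl), Equiv.swap_apply_left, one_smul, hu, ← add_assoc, ← two_smul F (b (i0, 0)), h.two,
          zero_smul, zero_add]
      · by_cases h2 : p = (i1, 0)
        · subst h2
          rw [if_pos (Or.inr rfl), Equiv.swap_apply_right, one_smul, hu, add_left_comm, ← two_smul F (b (i1, 0)), h.two,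
            zero_smul, add_zero]
        · rw [if_neg (by tauto), Equiv.swap_apply_of_ne_of_ne h1 h2, zero_smul, add_zero]
    have hstab : hermTransvection hq u huu ∈ Cfsg.Geo.decompositionStabilizer D' := by
      refine ⟨finProdFinEquiv.symm.trans ((Equiv.swap (i0, (0 : Fin 2)) (i1, 0)).trans finProdFinEquiv), fun k => ?_⟩
      show (Submodule.span F {b (finProdFinEquiv.symm k)}).map
        (Matrix.toLin' (hermTransvection hq u huu : Matrix (Fin n) (Fin n) F)) = Submodule.span F _
      rw [Submodule.map_span, Set.image_singleton, Matrix.toLin'_apply, hT]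
      simp
    obtain ⟨σ, hσ⟩ := (heq.ge ⟨hstab, hermTransvection_mem hq u huu⟩).1
    have hmem : ∀ j, b (Equiv.swap (i0, (0 : Fin 2)) (i1, 0) (i0, j)) ∈ D (σ i0) := fun j => by
      rw [← hT, ← hσ i0]
      exact ⟨_, hbD (i0, j), Matrix.toLin'_apply _ _⟩
    have e1 := hmem 0
    have e2 := hmem 1
    rw [Equiv.swap_apply_left] at e1
    rw [Equiv.swap_apply_of_ne_of_ne (by simp) (by simp)] at e2
    have key : ∀ p, b p ∈ D (σ i0) → p.1 = σ i0 := fun p hp => by
      by_contra hne
      have := hD.orthogonal _ _ hne _ (hbD p) _ hp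
      rw [hb, if_pos rfl] at this
      exact one_ne_zero this
    exact h01 ((key _ e2).trans (key _ e1).symm)
  · set u := b (i0, 0) + b (i0, 1) + b (i1, 0) + b (i1, 1) with hu
    have huu : B u u = 0 := by
      simp [hu, h.add_left, h.add_right, hb, h01, h01.symm]
      linear_combination (2 : F) * h.two
    obtain ⟨τ, hτ⟩ := (heq.ge (hermTransvection_mem hq u huu)).1
    have hBu : B (b (i0, 0)) u = 1 := by simp [hu, h.add_right, hb, h01]
    have hmem : b (i0, 0) + u ∈ D' (τ (finProdFinEquiv (i0, 0))) := by
      rw [← hτ]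
      refine ⟨b (i0, 0), ?_, ?_⟩
      · show b (i0, 0) ∈ Submodule.span F {b (finProdFinEquiv.symm (finProdFinEquiv (i0, 0)))}
        rw [Equiv.symm_apply_apply]
        exact Submodule.mem_span_singleton_self _
      · rw [Matrix.toLin'_apply, hermTransvection_mulVec, ← hBdef, hBu, one_smul]
    obtain ⟨c, hc⟩ := Submodule.mem_span_singleton.1 hmem
    generalize finProdFinEquiv.symm (τ (finProdFinEquiv (i0, 0))) = r at hc
    have e1 := congrArg (fun x => B x (b (i0, 1))) hc
    have e2 := congrArg (fun x => B x (b (i1, 0))) hc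
    simp [hu, h.add_left, h.smul_left, hb, h01, h01.symm] at e1 e2
    split_ifs at e1 e2 with h1 h2
    · exact h01 (congrArg Prod.fst (h1.symm.trans h2))
    all_goals first | exact zero_ne_one e1 | exact zero_ne_one e2

end CfsgLib.Geo
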