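/-
Elements of order two modulo scalars of the special linear group normalising some quadratic field of matrices.
-/
import Mathlib
import Cfsg.Prelude.Def_GeometricClasses
import Cfsg.Agent.Lib.Geo.InvolutionClasses

namespace CfsgLib.Geo.InvClass

open Module Matrix Polynomial

variable {F V : Type*} [Field F] [AddCommGroup V] [Module F V] [FiniteDimensional F V]

/-- A root-free quadratic map gives a structure over a quadratic extension, seen through a basis. -/
theorem exists_quad_basis (J : V →ₗ[F] V) (α β : F) (hirr : ∀ t : F, t * t ≠ α * t + β)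
    (hJ : ∀ v, J (J v) = α • J v + β • v) :
    ∃ (m : ℕ) (b : Basis (Fin m × Fin 2) F V), ∀ i, b (i, 1) = J (b (i, 0)) := by
  classical
  let g : F[X] := X ^ 2 - C α * X - C β
  have hgm : g.Monic := by
    simp only [g]
    monicity!
  have hgd : g.natDegree = 2 := by
    simp only [g]
    compute_degree!
  have hg : Irreducible g := by
    refine (hgm.irreducible_iff_roots_eq_zero_of_degree_le_three (by omega) (by omega)).2 ?_
    refine Multiset.eq_zero_of_forall_notMem fun t ht => ?_
    rw [Polynomial.mem_roots hgm.ne_zero] at ht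
    simp [g] at ht
    exact hirr t (by linear_combination ht)
  haveI := Fact.mk hg
  have hg0 : aeval J g = 0 := by
    refine LinearMap.ext fun v => ?_
    simp [g, hJ, pow_two, Module.algebraMap_end_apply, Module.End.mul_apply]
  let φ : AdjoinRoot g →+* Module.End F V :=
    Ideal.Quotient.lift (Ideal.span {g}) (aeval J).toRingHom fun p hp => by
      obtain ⟨k, rfl⟩ := Ideal.mem_span_singleton.1 hp
      show aeval J (g * k) = 0
      rw [map_mul, hg0, zero_mul]
  have hφ : ∀ p, φ (AdjoinRoot.mk g p) = aeval J p := fun p => rfl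
  letI : Module (AdjoinRoot g) V := Module.compHom V φ
  haveI : IsScalarTower F (AdjoinRoot g) V := IsScalarTower.of_algebraMap_smul fun a v => by
    show φ (algebraMap F (AdjoinRoot g) a) v = a • v
    rw [AdjoinRoot.algebraMap_eq, ← AdjoinRoot.mk_C, hφ, aeval_C]
    rfl
  haveI : Module.Finite (AdjoinRoot g) V := Module.Finite.of_restrictScalars_finite F (AdjoinRoot g) V
  let pb := AdjoinRoot.powerBasis hg.ne_zero
  have hdim : pb.dim = 2 := (AdjoinRoot.powerBasis_dim hg.ne_zero).trans hgd
  let bK := Module.finBasis (AdjoinRoot g) V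
  let b := (pb.basis.smulTower bK).reindex ((Equiv.prodComm _ _).trans ((Equiv.refl _).prodCongr (finCongr hdim)))
  refine ⟨_, b, fun i => ?_⟩
  have hb : ∀ s, b (i, s) = pb.gen ^ (s : ℕ) • bK i := fun s => by
    simp [b, Basis.smulTower_apply, PowerBasis.coe_basis]
  rw [hb, hb]
  simp only [Fin.val_one, pow_one, Fin.val_zero, pow_zero, one_smul]
  show φ pb.gen (bK i) = J (bK i)
  rw [show pb.gen = AdjoinRoot.root g from AdjoinRoot.powerBasis_gen hg.ne_zero, ← AdjoinRoot.mk_X, hφ, aeval_X]

/-- The companion structure on a basis of planes. -/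
theorem exists_companion (α β : F) {m : ℕ} (b : Basis (Fin m × Fin 2) F V) :
    ∃ J : V →ₗ[F] V, (∀ i, J (b (i, 0)) = b (i, 1)) ∧ (∀ i, J (b (i, 1)) = α • b (i, 1) + β • b (i, 0)) ∧
      ∀ v, J (J v) = α • J v + β • v := by
  let J : V →ₗ[F] V := b.constr F fun p => if p.2 = 0 then b (p.1, 1) else α • b (p.1, 1) + β • b (p.1, 0)
  have h0 : ∀ i, J (b (i, 0)) = b (i, 1) := fun i => by rw [b.constr_basis]; simp
  have h1 : ∀ i, J (b (i, 1)) = α • b (i, 1) + β • b (i, 0) := fun i => by rw [b.constr_basis]; simp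
  refine ⟨J, h0, h1, fun v => ?_⟩
  have : J ∘ₗ J = α • J + β • LinearMap.id := b.ext fun p => by
    obtain ⟨i, s⟩ := p
    fin_cases s <;> simp [h0, h1] <;> module
  exact LinearMap.congr_fun this v

/-- Two root-free quadratic maps with the same equation are conjugate. -/
theorem exists_conj_quad {n : ℕ} (J₁ J₂ : Matrix (Fin n) (Fin n) F) (α β : F)
    (hirr : ∀ t : F, t * t ≠ α * t + β) (h₁ : J₁ * J₁ = α • J₁ + β • 1) (h₂ : J₂ * J₂ = α • J₂ + β • 1) :
    ∃ P : GL (Fin n) F, (P : Matrix (Fin n) (Fin n) F) * J₁ = J₂ * (P : Matrix (Fin n) (Fin n) F) := by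
  classical
  have aux : ∀ J : Matrix (Fin n) (Fin n) F, J * J = α • J + β • 1 → ∀ v,
      Matrix.toLin' J (Matrix.toLin' J v) = α • Matrix.toLin' J v + β • v := fun J hJ v => by
    simp only [Matrix.toLin'_apply, Matrix.mulVec_mulVec, hJ, Matrix.add_mulVec, Matrix.smul_mulVec,
      Matrix.one_mulVec]
  obtain ⟨m, b₁, hb₁⟩ := exists_quad_basis _ α β hirr (aux J₁ h₁)
  obtain ⟨m', b₂, hb₂⟩ := exists_quad_basis _ α β hirr (aux J₂ h₂)
  obtain rfl : m = m' := by
    have h := finrank_eq_card_basis b₂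
    rw [finrank_eq_card_basis b₁] at h
    simpa using h
  obtain ⟨P, hP⟩ := exists_basis_change b₁ b₂
  refine ⟨P, Matrix.toLin'.injective (b₁.ext fun p => ?_)⟩
  obtain ⟨i, s⟩ := p
  simp only [Matrix.toLin'_mul, LinearMap.comp_apply]
  fin_cases s
  · simp only [Fin.zero_eta, Matrix.toLin'_apply, hP]
    rw [← Matrix.toLin'_apply J₁, ← hb₁, hP, hb₂, Matrix.toLin'_apply]
  · simp only [Fin.mk_one]
    rw [hb₁ i, aux J₁ h₁, ← hb₁ i]
    simp only [Matrix.toLin'_apply, Matrix.mulVec_add, Matrix.mulVec_smul, hP]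
    rw [hb₂ i, Matrix.toLin'_apply]
    exact (aux J₂ h₂ (b₂ (i, 0))).symm

/-- The data of a quadratic field of matrices. -/
theorem exists_quad_gen {n : ℕ} (hn : 0 < n) {K : Subalgebra F (Matrix (Fin n) (Fin n) F)}
    (hK : Cfsg.Geo.IsFieldSubalgebra 2 K) :
    ∃ J ∈ K, ∃ α β : F, J * J = α • J + β • 1 ∧ (∀ t : F, t * t ≠ α * t + β) ∧
      ∀ k ∈ K, ∃ a b : F, k = a • 1 + b • J := by
  classical
  haveI : Nonempty (Fin n) := ⟨⟨0, hn⟩⟩
  obtain ⟨J, hJ, hJs⟩ : ∃ J ∈ K, ∀ a : F, J ≠ a • 1 := by
    by_contra h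
    push Not at h
    have hle : Subalgebra.toSubmodule K ≤ F ∙ (1 : Matrix (Fin n) (Fin n) F) := fun k hk => by
      obtain ⟨a, ha⟩ := h k hk
      exact Submodule.mem_span_singleton.2 ⟨a, ha.symm⟩
    have h1 := (Submodule.finrank_mono hle).trans (finrank_span_le_card _)
    rw [Subalgebra.finrank_toSubmodule, hK.finrank_eq] at h1
    simp at h1
  have hspan : ∀ k ∈ K, ∃ a b : F, k = a • 1 + b • J := by
    have hle : Submodule.span F {(1 : Matrix (Fin n) (Fin n) F), J} ≤ Subalgebra.toSubmodule K := by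
      rw [Submodule.span_le, Set.insert_subset_iff, Set.singleton_subset_iff]
      exact ⟨K.one_mem, hJ⟩
    have hli : LinearIndependent F ![(1 : Matrix (Fin n) (Fin n) F), J] := by
      rw [LinearIndependent.pair_iff]
      intro s t hst
      rcases eq_or_ne t 0 with rfl | ht
      · rw [zero_smul, add_zero, smul_eq_zero] at hst
        exact ⟨hst.resolve_right one_ne_zero, rfl⟩
      · refine absurd ?_ (hJs (-(t⁻¹ * s)))
        rw [← inv_smul_smul₀ ht J, eq_neg_of_add_eq_zero_right hst, smul_neg, smul_smul, neg_smul]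
    have h2 := finrank_span_eq_card hli
    rw [Matrix.range_cons_cons_empty, Fintype.card_fin] at h2
    have heq := Submodule.eq_of_le_of_finrank_eq hle (by rw [h2, Subalgebra.finrank_toSubmodule, hK.finrank_eq])
    intro k hk
    have hk' : k ∈ Submodule.span F {(1 : Matrix (Fin n) (Fin n) F), J} := heq ▸ hk
    obtain ⟨a, b, h⟩ := Submodule.mem_span_pair.1 hk'
    exact ⟨a, b, h.symm⟩
  obtain ⟨β, α, h⟩ := hspan _ (K.mul_mem hJ hJ)
  refine ⟨J, hJ, α, β, h.trans (add_comm _ _), fun t ht => ?_, hspan⟩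
  have e : (J - t • 1) * (J + (t - α) • 1) = 0 := by
    have hb : β = t * t - α * t := by linear_combination -ht
    simp only [sub_mul, mul_add, smul_mul_assoc, one_mul, mul_smul_comm, mul_one, h, hb]
    module
  obtain ⟨y, -, hy⟩ := hK.inv _ (K.sub_mem hJ (K.smul_mem K.one_mem t)) (sub_ne_zero.2 (hJs t))
  have e2 : J + (t - α) • 1 = 0 := by
    have h' := congrArg (y * ·) e
    simp only [← mul_assoc, mul_eq_one_comm.1 hy, one_mul, mul_zero] at h'
    exact h'
  exact hJs (α - t) (by rw [eq_neg_of_add_eq_zero_left e2, ← neg_smul, neg_sub])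

variable [Fintype F]

/-- The structures compatible with an element with scalar square. -/
theorem exists_compatible {n : ℕ} (T : (Fin n → F) →ₗ[F] (Fin n → F)) (z : F) (hz : z ≠ 0)
    (hTT : ∀ v, T (T v) = z • v) (he : Even n) (hdet : LinearMap.det T = 1)
    (hns : ∀ a : F, T ≠ a • LinearMap.id) (α β : F) (hirr : ∀ t : F, t * t ≠ α * t + β)
    (hcond : n = 2 ∨ ((2 : F) ≠ 0 ∧ padicValNat 2 (Fintype.card F - 1) ≤ padicValNat 2 n)) :
    ∃ J : (Fin n → F) →ₗ[F] (Fin n → F), (∀ v, J (J v) = α • J v + β • v) ∧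
      ((∀ v, T (J v) = J (T v)) ∨ ∀ v, T (J v) = α • T v - J (T v)) := by
  classical
  by_cases h2 : (2 : F) = 0
  · obtain rfl : n = 2 := hcond.resolve_right fun h => h.1 h2
    have hα : α ≠ 0 := fun h => by
      obtain ⟨t, ht⟩ := FiniteField.isSquare_of_char_two
        (ringChar.eq_iff.2 (CharTwo.of_one_ne_zero_of_two_eq_zero one_ne_zero h2)) β
      exact hirr t (by rw [h, ht]; ring)
    obtain ⟨c, hc⟩ := FiniteField.isSquare_of_char_two
      (ringChar.eq_iff.2 (CharTwo.of_one_ne_zero_of_two_eq_zero one_ne_zero h2)) z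
    obtain ⟨k, r, b, h0, h1, hr⟩ := exists_pair_basis_norm T z hz hTT
    have hk : 0 < k := by
      by_contra hk0
      obtain rfl : k = 0 := by omega
      refine hns c (b.ext fun p => ?_)
      rcases p with ⟨i, -⟩ | i
      · exact i.elim0
      · obtain ⟨d, hd, hdb⟩ := hr i
        rw [hdb]
        congr 1
        rcases mul_self_eq_mul_self_iff.1 (hd.trans hc) with h | h
        · exact h
        · linear_combination h - c * h2
    have hc0 : c ≠ 0 := fun h => hz (by rw [hc, h, mul_zero])
    set w := b (Sum.inl (⟨0, hk⟩, 0)) with hw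
    set w' := b (Sum.inl (⟨0, hk⟩, 1)) with hw'
    set u := w + c⁻¹ • w' with hu
    have hTu : T u = c • u := by
      rw [hu, map_add, map_smul, h0, ← hw', h1, ← hw, hc]
      match_scalars <;> field_simp
    let v : Fin 1 × Fin 2 → (Fin 2 → F) := fun p => if p.2 = 0 then u else α • w
    have hli : LinearIndependent F v := by
      rw [Fintype.linearIndependent_iff]
      intro g hg
      rw [Fintype.sum_prod_type, Fin.sum_univ_one, Fin.sum_univ_two] at hg
      have hne : (Sum.inl (⟨0, hk⟩, 0) : (Fin k × Fin 2) ⊕ Fin r) ≠ Sum.inl (⟨0, hk⟩, 1) := by simp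
      have hg' : (g (0, 0) + g (0, 1) * α) • w + (g (0, 0) * c⁻¹) • w' = 0 := by
        rw [← hg]
        simp only [v, hu, if_true, Fin.one_eq_zero_iff, if_false]
        norm_num
        module
      have hp : LinearIndependent F ![w, w'] := by
        have hl := b.linearIndependent.comp ![Sum.inl (⟨0, hk⟩, 0), Sum.inl (⟨0, hk⟩, 1)] (by
          intro x y; fin_cases x <;> fin_cases y <;> simp)
        have e : b ∘ ![Sum.inl (⟨0, hk⟩, 0), Sum.inl (⟨0, hk⟩, 1)] = ![w, w'] := by
          funext x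
          fin_cases x <;> rfl
        rw [e] at hl
        exact hl
      obtain ⟨e1, e2⟩ := LinearIndependent.pair_iff.1 hp _ _ hg'
      have e3 : g (0, 0) = 0 := by simpa [hc0] using e2
      rw [e3, zero_add, mul_eq_zero, or_iff_left hα] at e1
      rintro ⟨i, s⟩
      rw [Subsingleton.elim i 0]
      fin_cases s
      · exact e3
      · exact e1
    let bb := basisOfLinearIndependentOfCardEqFinrank hli (by simp)
    obtain ⟨J, hJ0, hJ1, hJ⟩ := exists_companion α β bb
    refine ⟨J, hJ, Or.inr fun y => ?_⟩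
    have hb0 : bb (0, 0) = u := by simp [bb, v]
    have hb1 : bb (0, 1) = α • w := by simp [bb, v]
    have hTw : T (bb (0, 1)) = c • bb (0, 1) + (c * α) • bb (0, 0) := by
      rw [hb0, hb1, hu, map_smul, h0, ← hw']
      match_scalars <;> field_simp
      all_goals first | ring1 | linear_combination h2 | linear_combination -h2 | linear_combination c * h2 | linear_combination -c * h2 | linear_combination (c * α) * h2 | linear_combination -(c * α) * h2 | simp [h2]
    have : T ∘ₗ J = α • T - J ∘ₗ T := bb.ext fun p => by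
      obtain ⟨i, s⟩ := p
      rw [Subsingleton.elim i 0]
      fin_cases s <;> simp only [Fin.zero_eta, Fin.mk_one, LinearMap.comp_apply, LinearMap.sub_apply,
        LinearMap.smul_apply]
      · rw [hJ0, hTw, hb0, hTu, map_smul, ← hb0, hJ0]
        match_scalars
        · linear_combination c * h2
        · ring
      · rw [hJ1, map_add, map_smul, map_smul, hTw, hb0, hTu, ← hb0, map_add, map_smul, map_smul, hJ1, hJ0]
        match_scalars
        all_goals first | ring1 | linear_combination (c * α) * h2 | linear_combination -(c * α) * h2 | linear_combination (c * β) * h2 | linear_combination -(c * β) * h2 | linear_combination (c * α * α) * h2 | linear_combination -(c * α * α) * h2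
    exact LinearMap.congr_fun this y
  by_cases hsq : ∃ c : F, c * c = z
  · obtain ⟨c, hc⟩ := hsq
    have hc0 : c ≠ 0 := fun h => hz (by rw [← hc, h, mul_zero])
    have hcomp := InvPairs.eigen_compl T hc0 h2 (by rw [hc]; exact hTT)
    set Ep := LinearMap.ker (T - c • LinearMap.id)
    set Em := LinearMap.ker (T + c • LinearMap.id)
    have hEp : ∀ v ∈ Ep, T v = c • v := fun v hv => by
      simpa [Ep, sub_eq_zero] using hv
    have hEm : ∀ v ∈ Em, T v = (-c) • v := fun v hv => by
      simpa [Em, neg_smul, add_eq_zero_iff_eq_neg] using hv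
    let bp := ((Module.finBasis F Ep).prod (Module.finBasis F Em)).map (Submodule.prodEquivOfIsCompl _ _ hcomp)
    have hbp : ∀ q, T (bp q) = Sum.elim (fun _ => c) (fun _ => -c) q • bp q := by
      rintro (q | q)
      · exact hEp _ (by simp [bp])
      · exact hEm _ (by simp [bp])
    rw [det_of_diag bp T _ hbp, Fintype.prod_sum_type] at hdet
    simp only [Sum.elim_inl, Sum.elim_inr, Finset.prod_const, Finset.card_univ, Fintype.card_fin] at hdet
    have hsum := finrank_eq_card_basis bp
    rw [finrank_pi, Fintype.card_fin, Fintype.card_sum, Fintype.card_fin, Fintype.card_fin] at hsum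
    by_cases hb : Even (finrank F Em)
    · have ha : Even (finrank F Ep) := (Nat.even_add.1 (hsum ▸ he)).2 hb
      obtain ⟨a', ha'⟩ := ha
      obtain ⟨b', hb'⟩ := hb
      let ea : Fin (finrank F Ep) ≃ Fin a' × Fin 2 := (finCongr (by omega)).trans finProdFinEquiv.symm
      let eb : Fin (finrank F Em) ≃ Fin b' × Fin 2 := (finCongr (by omega)).trans finProdFinEquiv.symm
      let φ : Fin (finrank F Ep) ⊕ Fin (finrank F Em) ≃ Fin (a' + b') × Fin 2 :=
        ((ea.sumCongr eb).trans (Equiv.sumProdDistrib _ _ _).symm).trans (finSumFinEquiv.prodCongr (Equiv.refl _))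
      have hl : ∀ j s, φ.symm (finSumFinEquiv (Sum.inl j), s) = Sum.inl (ea.symm (j, s)) := fun j s => by
        rw [Equiv.symm_apply_eq]
        simp only [φ, Equiv.trans_apply, Equiv.sumCongr_apply, Sum.map_inl, Equiv.apply_symm_apply,
          Equiv.sumProdDistrib_symm_apply_left, Equiv.prodCongr_apply, Prod.map, Equiv.refl_apply]
      have hr' : ∀ j s, φ.symm (finSumFinEquiv (Sum.inr j), s) = Sum.inr (eb.symm (j, s)) := fun j s => by
        rw [Equiv.symm_apply_eq]
        simp only [φ, Equiv.trans_apply, Equiv.sumCongr_apply, Sum.map_inr, Equiv.apply_symm_apply,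
          Equiv.sumProdDistrib_symm_apply_right, Equiv.prodCongr_apply, Prod.map, Equiv.refl_apply]
      obtain ⟨J, hJ0, hJ1, hJ⟩ := exists_companion α β (bp.reindex φ)
      refine ⟨J, hJ, Or.inl fun v => ?_⟩
      have hT' : ∀ i, ∃ e : F, ∀ s, T (bp.reindex φ (i, s)) = e • bp.reindex φ (i, s) := fun i => by
        obtain ⟨j, rfl⟩ := finSumFinEquiv.surjective i
        rcases j with j | j
        · exact ⟨c, fun s => by rw [Basis.reindex_apply, hl]; exact hbp (Sum.inl (ea.symm (j, s)))⟩
        · exact ⟨-c, fun s => by rw [Basis.reindex_apply, hr']; exact hbp (Sum.inr (eb.symm (j, s)))⟩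
      have : T ∘ₗ J = J ∘ₗ T := (bp.reindex φ).ext fun p => by
        obtain ⟨i, s⟩ := p
        obtain ⟨e, he'⟩ := hT' i
        simp only [LinearMap.comp_apply]
        fin_cases s <;> simp only [Fin.zero_eta, Fin.mk_one]
        · rw [hJ0, he', he', map_smul, hJ0]
        · rw [hJ1, map_add, map_smul, map_smul, he', he', map_smul, hJ1]
          module
      exact LinearMap.congr_fun this v
    · have ho := Nat.not_even_iff_odd.1 hb
      obtain rfl : n = 2 := hcond.resolve_right fun h => by
        refine not_pow_eq_neg_one h.1 h.2 c ?_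
        rw [ho.neg_pow, mul_neg, ← pow_add, ← hsum] at hdet
        rw [← neg_neg (c ^ n), hdet]
      have hm1 : finrank F Em = 1 := by rcases ho with ⟨j, hj⟩; omega
      have hp1 : finrank F Ep = 1 := by omega
      set u := bp (Sum.inl ⟨0, by omega⟩) with hu
      set w := bp (Sum.inr ⟨0, by omega⟩) with hw
      let φ : Fin (finrank F Ep) ⊕ Fin (finrank F Em) ≃ Fin 1 × Fin 2 :=
        (((finCongr hp1).sumCongr (finCongr hm1)).trans finSumFinEquiv).trans (Equiv.uniqueProd (Fin 2) (Fin 1)).symm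
      let v : Fin 1 × Fin 2 → (Fin 2 → F) := fun p => if p.2 = 0 then u else (α / 2) • u + w
      have hli : LinearIndependent F v := by
        rw [Fintype.linearIndependent_iff]
        intro g hg
        rw [Fintype.sum_prod_type, Fin.sum_univ_one, Fin.sum_univ_two] at hg
        have hg' : (g (0, 0) + g (0, 1) * (α / 2)) • u + g (0, 1) • w = 0 := by
          rw [← hg]
          simp only [v, if_true, Fin.one_eq_zero_iff, if_false]
          norm_num
          module
        have hp : LinearIndependent F ![u, w] := by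
          have hl := bp.linearIndependent.comp ![Sum.inl ⟨0, by omega⟩, Sum.inr ⟨0, by omega⟩] (by
            intro x y; fin_cases x <;> fin_cases y <;> simp)
          have e : bp ∘ ![Sum.inl ⟨0, by omega⟩, Sum.inr ⟨0, by omega⟩] = ![u, w] := by
            funext x
            fin_cases x <;> rfl
          rw [e] at hl
          exact hl
        obtain ⟨e1, e2⟩ := LinearIndependent.pair_iff.1 hp _ _ hg'
        rw [e2, zero_mul, add_zero] at e1
        rintro ⟨i, s⟩
        rw [Subsingleton.elim i 0]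
        fin_cases s
        · exact e1
        · exact e2
      let bb := basisOfLinearIndependentOfCardEqFinrank hli (by simp)
      obtain ⟨J, hJ0, hJ1, hJ⟩ := exists_companion α β bb
      refine ⟨J, hJ, Or.inr fun y => ?_⟩
      have hTu : T u = c • u := hbp _
      have hTw' : T w = (-c) • w := hbp _
      have hb0 : bb (0, 0) = u := by simp [bb, v]
      have hb1 : bb (0, 1) = (α / 2) • u + w := by simp [bb, v]
      have hTb : T (bb (0, 1)) = (c * α) • bb (0, 0) - c • bb (0, 1) := by
        rw [hb0, hb1, map_add, map_smul, hTu, hTw']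
        match_scalars
        · field_simp; ring
        · ring
      have : T ∘ₗ J = α • T - J ∘ₗ T := bb.ext fun p => by
        obtain ⟨i, s⟩ := p
        rw [Subsingleton.elim i 0]
        fin_cases s <;> simp only [Fin.zero_eta, Fin.mk_one, LinearMap.comp_apply, LinearMap.sub_apply,
          LinearMap.smul_apply]
        · rw [hJ0, hTb, hb0, hTu, map_smul, ← hb0, hJ0]
          module
        · rw [hJ1, map_add, map_smul, map_smul, hTb, hb0, hTu, ← hb0, map_sub, map_smul, map_smul, hJ1, hJ0]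
          module
      exact LinearMap.congr_fun this y
  · obtain ⟨s, hs⟩ : IsSquare ((β + α * α / 4) / z) := by
      have h4 : (4 : F) ≠ 0 := by rw [show (4 : F) = 2 * 2 by ring]; exact mul_ne_zero h2 h2
      have hd : ¬ IsSquare (β + α * α / 4) := fun ⟨e, he'⟩ => hirr (α / 2 + e) (by
        field_simp at he' ⊢
        linear_combination (-1 : F) * he')
      have hzn : ¬ IsSquare z := fun ⟨e, he'⟩ => hsq ⟨e, he'.symm⟩
      have hd0 : β + α * α / 4 ≠ 0 := fun h => hd (h ▸ IsSquare.zero)
      have hR : ringChar F ≠ 2 := fun h => h2 (by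
        haveI : CharP F 2 := h ▸ ringChar.charP F
        exact CharTwo.two_eq_zero)
      rcases FiniteField.pow_dichotomy hR (div_ne_zero hd0 hz) with h | h
      · exact (FiniteField.isSquare_iff hR (div_ne_zero hd0 hz)).2 h
      · exfalso
        have k1 := (FiniteField.pow_dichotomy hR hd0).resolve_left fun h' => hd ((FiniteField.isSquare_iff hR hd0).2 h')
        have k2 := (FiniteField.pow_dichotomy hR hz).resolve_left fun h' => hzn ((FiniteField.isSquare_iff hR hz).2 h')
        rw [div_pow, k1, k2, div_self (neg_ne_zero.2 one_ne_zero)] at h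
        exact h2 (by linear_combination h)
    refine ⟨(α / 2) • LinearMap.id + s • T, fun v => ?_, Or.inl fun v => ?_⟩
    · simp only [LinearMap.add_apply, LinearMap.smul_apply, LinearMap.id_apply, map_add, map_smul, hTT]
      match_scalars
      · have hs' : z * (s * s) = β + α * α / 4 := by rw [← hs]; field_simp
        have h4 : α * α / 4 = (α / 2) * (α / 2) := by
          rw [div_mul_div_comm, show (2 : F) * 2 = 4 by norm_num]
        have h5 : α / 2 + α / 2 = α := by field_simp; ring
        linear_combination hs' + h4 + (α / 2) * h5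
      · field_simp; ring
    · simp only [LinearMap.add_apply, LinearMap.smul_apply, LinearMap.id_apply, map_add, map_smul]

theorem involution_normalizes {n : ℕ} (hn : 0 < n) (he : Even n) (K : Subalgebra F (Matrix (Fin n) (Fin n) F))
    (hK : Cfsg.Geo.IsFieldSubalgebra 2 K) (x : Matrix.SpecialLinearGroup (Fin n) F) {z : F}
    (hx : ((x ^ 2 : Matrix.SpecialLinearGroup (Fin n) F) : Matrix (Fin n) (Fin n) F) = z • 1)
    (hns : ∀ a : F, (x : Matrix (Fin n) (Fin n) F) ≠ a • 1)
    (hcond : n = 2 ∨ ((2 : F) ≠ 0 ∧ padicValNat 2 (Fintype.card F - 1) ≤ padicValNat 2 n)) :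
    ∃ P : GL (Fin n) F, P⁻¹ * Matrix.SpecialLinearGroup.toGL x * P ∈ Cfsg.Geo.subalgebraNormalizer K := by
  classical
  haveI : Nonempty (Fin n) := ⟨⟨0, hn⟩⟩
  set A : Matrix (Fin n) (Fin n) F := x.1 with hA
  have hAA : A * A = z • 1 := by rw [← hx, pow_two]; rfl
  have hz : z ≠ 0 := by
    rintro rfl
    have := congrArg Matrix.det hAA
    rw [Matrix.det_mul, zero_smul, Matrix.det_zero, x.2, one_mul] at this
    exact one_ne_zero this
  obtain ⟨J₀, hJ₀, α, β, hJq, hirr, hspan⟩ := exists_quad_gen hn hK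
  obtain ⟨J, hJ, hTJ⟩ := exists_compatible (Matrix.toLin' A) z hz (fun v => by
    rw [Matrix.toLin'_apply, Matrix.toLin'_apply, Matrix.mulVec_mulVec, hAA, Matrix.smul_mulVec, Matrix.one_mulVec])
    he (by rw [LinearMap.det_toLin']; exact x.2) (fun a h => hns a (Matrix.toLin'.injective (by
      rw [map_smul, Matrix.toLin'_one]; exact h))) α β hirr hcond
  set M := LinearMap.toMatrix' J
  have hM : M * M = α • M + β • 1 := Matrix.toLin'.injective (LinearMap.ext fun v => by
    simp [M, Matrix.toLin'_mul, hJ, ← Matrix.toLin'_apply])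
  obtain ⟨P, hP⟩ := exists_conj_quad J₀ M α β hirr hJq hM
  refine ⟨P, ?_⟩
  set y : GL (Fin n) F := P⁻¹ * Matrix.SpecialLinearGroup.toGL x * P with hy
  set Pi' : Matrix (Fin n) (Fin n) F := ((P⁻¹ : GL (Fin n) F) : Matrix (Fin n) (Fin n) F)
  set Pm : Matrix (Fin n) (Fin n) F := (P : Matrix (Fin n) (Fin n) F)
  have hPP : Pi' * Pm = 1 := by rw [← Units.val_mul, inv_mul_cancel, Units.val_one]
  have hPP' : Pm * Pi' = 1 := by rw [← Units.val_mul, mul_inv_cancel, Units.val_one]
  have hyv : (y : Matrix (Fin n) (Fin n) F) = Pi' * A * Pm := by rw [hy, Units.val_mul, Units.val_mul]; rfl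
  have hy2 : (y : Matrix (Fin n) (Fin n) F) * y = z • 1 := by
    rw [hyv, show Pi' * A * Pm * (Pi' * A * Pm) = Pi' * A * (Pm * Pi') * (A * Pm) by simp only [mul_assoc],
      hPP', mul_one, show Pi' * A * (A * Pm) = Pi' * (A * A) * Pm by simp only [mul_assoc], hAA, mul_smul_comm,
      mul_one, smul_mul_assoc, hPP]
  have hc : ∃ j ∈ K, (y : Matrix (Fin n) (Fin n) F) * J₀ = j * y := by
    have hMJ : Pi' * M * Pm = J₀ := by rw [mul_assoc, ← hP, ← mul_assoc, hPP, one_mul]
    rcases hTJ with h | h
    · refine ⟨J₀, hJ₀, ?_⟩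
      have e : A * M = M * A := Matrix.toLin'.injective (LinearMap.ext fun v => by
        simpa [M, Matrix.toLin'_mul, ← Matrix.toLin'_apply] using h v)
      rw [hyv, mul_assoc _ Pm, hP, ← mul_assoc, mul_assoc Pi', e, ← hMJ]
      simp only [mul_assoc]
      rw [← mul_assoc Pm Pi', hPP', one_mul]
    · refine ⟨α • 1 - J₀, K.sub_mem (K.smul_mem K.one_mem α) hJ₀, ?_⟩
      have e : A * M = α • A - M * A := Matrix.toLin'.injective (LinearMap.ext fun v => by
        simpa [M, Matrix.toLin'_mul, ← Matrix.toLin'_apply] using h v)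
      rw [hyv, mul_assoc _ Pm, hP, ← mul_assoc, mul_assoc Pi', e, sub_mul (α • 1), smul_mul_assoc, one_mul, ← hMJ]
      simp only [mul_sub, sub_mul, mul_smul_comm, smul_mul_assoc, mul_assoc]
      rw [← mul_assoc Pm Pi', hPP', one_mul]
  obtain ⟨j, hj, hjy⟩ := hc
  have hinto : ∀ k ∈ K, (y : Matrix (Fin n) (Fin n) F) * k * ((y⁻¹ : GL (Fin n) F) : Matrix (Fin n) (Fin n) F) ∈ K := by
    intro k hk
    obtain ⟨a, b, rfl⟩ := hspan k hk
    rw [mul_add, add_mul, mul_smul_comm, mul_one, smul_mul_assoc, ← Units.val_mul, mul_inv_cancel, Units.val_one,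
      mul_smul_comm, hjy, smul_mul_assoc, mul_assoc, ← Units.val_mul, mul_inv_cancel, Units.val_one, mul_one]
    exact K.add_mem (K.smul_mem K.one_mem a) (K.smul_mem hj b)
  intro k
  refine ⟨hinto k, fun h => ?_⟩
  have e : ((y⁻¹ : GL (Fin n) F) : Matrix (Fin n) (Fin n) F) * ((y⁻¹ : GL (Fin n) F) : Matrix (Fin n) (Fin n) F) =
      z⁻¹ • 1 := by
    refine (inv_smul_smul₀ hz _).symm.trans (congrArg (z⁻¹ • ·) ?_)
    calc z • (((y⁻¹ : GL (Fin n) F) : Matrix (Fin n) (Fin n) F) * ((y⁻¹ : GL (Fin n) F) : Matrix (Fin n) (Fin n) F))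
        = (z • 1) * (((y⁻¹ * y⁻¹ : GL (Fin n) F)) : Matrix (Fin n) (Fin n) F) := by
          rw [smul_mul_assoc, one_mul, Units.val_mul]
      _ = 1 := by rw [← hy2, ← Units.val_mul, ← Units.val_mul]; simp [mul_assoc]
  have h' := hinto _ h
  rw [show (y : Matrix (Fin n) (Fin n) F) * ((y : Matrix (Fin n) (Fin n) F) * k *
      ((y⁻¹ : GL (Fin n) F) : Matrix (Fin n) (Fin n) F)) * ((y⁻¹ : GL (Fin n) F) : Matrix (Fin n) (Fin n) F) =
      ((y : Matrix (Fin n) (Fin n) F) * y) * k * (((y⁻¹ : GL (Fin n) F) : Matrix (Fin n) (Fin n) F) *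
      ((y⁻¹ : GL (Fin n) F) : Matrix (Fin n) (Fin n) F)) by simp only [mul_assoc], hy2, e, smul_mul_assoc, one_mul,
    mul_smul_comm, mul_one, smul_smul, inv_mul_cancel₀ hz, one_smul] at h'
  exact h'

/-- A map fixing a hyperplane pointwise up to a scalar does not normalise a quadratic field. -/
theorem not_normalizes {n : ℕ} (hn : 4 ≤ n) (he : Even n) (K : Subalgebra F (Matrix (Fin n) (Fin n) F))
    (hK : Cfsg.Geo.IsFieldSubalgebra 2 K) (x : Matrix.SpecialLinearGroup (Fin n) F) (c : F) (i₀ : Fin n)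
    (hfix : ∀ v : Fin n → F, v i₀ = 0 → (x : Matrix (Fin n) (Fin n) F) *ᵥ v = c • v)
    (hns : ∀ a : F, (x : Matrix (Fin n) (Fin n) F) ≠ a • 1) (P : GL (Fin n) F) :
    P⁻¹ * Matrix.SpecialLinearGroup.toGL x * P ∉ Cfsg.Geo.subalgebraNormalizer K := by
  classical
  intro hy
  obtain ⟨J₀, hJ₀, α, β, hJq, hirr, hspan⟩ := exists_quad_gen (by omega) hK
  set y : GL (Fin n) F := P⁻¹ * Matrix.SpecialLinearGroup.toGL x * P with hyd
  set A : Matrix (Fin n) (Fin n) F := x.1
  set Pm : Matrix (Fin n) (Fin n) F := (P : Matrix (Fin n) (Fin n) F)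
  set Pi' : Matrix (Fin n) (Fin n) F := ((P⁻¹ : GL (Fin n) F) : Matrix (Fin n) (Fin n) F)
  set j := (y : Matrix (Fin n) (Fin n) F) * J₀ * ((y⁻¹ : GL (Fin n) F) : Matrix (Fin n) (Fin n) F)
  have hj : j ∈ K := (hy J₀).1 hJ₀
  have hjy : (y : Matrix (Fin n) (Fin n) F) * J₀ = j * y := by
    simp only [j, mul_assoc, ← Units.val_mul, inv_mul_cancel, Units.val_one, mul_one]
  have hyv : (y : Matrix (Fin n) (Fin n) F) = Pi' * A * Pm := by rw [hyd, Units.val_mul, Units.val_mul]; rfl
  let φ : (Fin n → F) →ₗ[F] F := LinearMap.proj i₀ ∘ₗ Matrix.toLin' Pm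
  have hyfix : ∀ v, φ v = 0 → (y : Matrix (Fin n) (Fin n) F) *ᵥ v = c • v := fun v hv => by
    rw [hyv, ← Matrix.mulVec_mulVec, ← Matrix.mulVec_mulVec, hfix _ hv, Matrix.mulVec_smul, Matrix.mulVec_mulVec,
      ← Units.val_mul, inv_mul_cancel, Units.val_one, Matrix.one_mulVec]
  obtain ⟨v, hv, hv0⟩ := (Submodule.ne_bot_iff _).1 (LinearMap.ker_ne_bot_of_finrank_lt
    (f := φ.prod (φ ∘ₗ Matrix.toLin' J₀)) (by simp [finrank_pi]; omega))
  simp only [LinearMap.mem_ker, LinearMap.prod_apply, Function.prod, Prod.mk_eq_zero, LinearMap.comp_apply,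
    Matrix.toLin'_apply] at hv
  have hJj : j = J₀ := by
    by_contra hne
    have h1 : (j - J₀) *ᵥ (c • v) = 0 := by
      have h3 := congrArg (· *ᵥ v) hjy
      simp only [← Matrix.mulVec_mulVec, hyfix v hv.1, hyfix _ hv.2] at h3
      rw [Matrix.sub_mulVec, ← h3, Matrix.mulVec_smul, sub_self]
    obtain ⟨w, -, hw⟩ := hK.inv _ (K.sub_mem hj hJ₀) (sub_ne_zero.2 hne)
    have h2 := congrArg (w *ᵥ ·) h1
    simp only [Matrix.mulVec_mulVec, mul_eq_one_comm.1 hw, Matrix.one_mulVec, Matrix.mulVec_zero, smul_eq_zero] at h2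
    rcases h2 with h2 | h2
    · have h4 := hyfix v hv.1
      rw [h2, zero_smul] at h4
      have h5 := congrArg (((y⁻¹ : GL (Fin n) F) : Matrix (Fin n) (Fin n) F) *ᵥ ·) h4
      simp only [Matrix.mulVec_mulVec, ← Units.val_mul, inv_mul_cancel, Units.val_one, Matrix.one_mulVec,
        Matrix.mulVec_zero] at h5
      exact hv0 h5
    · exact hv0 h2
  rw [hJj] at hjy
  have hcomm : ∀ v, (y : Matrix (Fin n) (Fin n) F) *ᵥ (J₀ *ᵥ v) = J₀ *ᵥ ((y : Matrix (Fin n) (Fin n) F) *ᵥ v) :=
    fun v => by rw [Matrix.mulVec_mulVec, hjy, Matrix.mulVec_mulVec]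
  set E := LinearMap.ker φ
  have hsurj : Function.Surjective φ := fun a => ⟨Pi' *ᵥ Pi.single i₀ a, by
    show (Pm *ᵥ (Pi' *ᵥ Pi.single i₀ a)) i₀ = a
    rw [Matrix.mulVec_mulVec, ← Units.val_mul, mul_inv_cancel, Units.val_one, Matrix.one_mulVec, Pi.single_eq_same]⟩
  have hE : finrank F E + 1 = n := by
    have := LinearMap.finrank_range_add_finrank_ker φ
    rw [LinearMap.range_eq_top.2 hsurj, finrank_top, finrank_self, finrank_pi, Fintype.card_fin] at this
    rw [add_comm]; exact this
  have hst : ∀ v ∈ E, Matrix.toLin' J₀ v ∈ E := by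
    intro v hv
    by_contra hne
    rw [LinearMap.mem_ker, Matrix.toLin'_apply] at hne
    have h1 : (y : Matrix (Fin n) (Fin n) F) *ᵥ (J₀ *ᵥ v) = c • (J₀ *ᵥ v) := by
      rw [hcomm, hyfix v hv, Matrix.mulVec_smul]
    refine hns c ?_
    have key : ∀ w, (y : Matrix (Fin n) (Fin n) F) *ᵥ w = c • w := fun w => by
      have h0 : φ (w - (φ w / φ (J₀ *ᵥ v)) • (J₀ *ᵥ v)) = 0 := by
        rw [map_sub, map_smul, smul_eq_mul, div_mul_cancel₀ _ hne, sub_self]
      have := hyfix _ h0
      rw [Matrix.mulVec_sub, Matrix.mulVec_smul, h1, smul_sub, smul_comm] at this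
      exact sub_left_injective this
    have hy1 : (y : Matrix (Fin n) (Fin n) F) = c • 1 := Matrix.toLin'.injective (LinearMap.ext fun w => by
      rw [map_smul, Matrix.toLin'_one, Matrix.toLin'_apply, key, LinearMap.smul_apply, LinearMap.id_apply])
    have hPP' : Pm * Pi' = 1 := by rw [← Units.val_mul, mul_inv_cancel, Units.val_one]
    calc A = Pm * Pi' * A * (Pm * Pi') := by rw [hPP', one_mul, mul_one]
      _ = Pm * (y : Matrix (Fin n) (Fin n) F) * Pi' := by rw [hyv]; simp only [mul_assoc]
      _ = c • 1 := by rw [hy1, mul_smul_comm, mul_one, smul_mul_assoc, hPP']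
  obtain ⟨m, b, -⟩ := exists_quad_basis ((Matrix.toLin' J₀).restrict hst) α β hirr (fun v => Subtype.ext (by
    simp only [LinearMap.restrict_apply, Submodule.coe_add, Submodule.coe_smul, Matrix.toLin'_apply,
      Matrix.mulVec_mulVec, hJq, Matrix.add_mulVec, Matrix.smul_mulVec, Matrix.one_mulVec]))
  have := finrank_eq_card_basis b
  rw [Fintype.card_prod, Fintype.card_fin, Fintype.card_fin] at this
  obtain ⟨n', hn'⟩ := he
  omega

end CfsgLib.Geo.InvClass

namespace CfsgLib.Geo.InvClass

open Module Matrix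

variable {F : Type*} [Field F] [Fintype F]

theorem two_ne_zero_iff_odd_card : (2 : F) ≠ 0 ↔ Odd (Fintype.card F) := by
  constructor
  · intro h
    rw [Nat.odd_iff]
    refine FiniteField.odd_card_of_char_ne_two fun h' => h ?_
    haveI : CharP F 2 := h' ▸ ringChar.charP F
    exact CharTwo.two_eq_zero
  · intro ho h
    have hev := FiniteField.even_card_of_char_two
      (ringChar.eq_iff.2 (CharTwo.of_one_ne_zero_of_two_eq_zero one_ne_zero h) : ringChar F = 2)
    rw [Nat.odd_iff] at ho
    omega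

/-- A special linear element with scalar square fixing a hyperplane, when one of the two conditions holds. -/
theorem exists_near_scalar {n : ℕ} (hn : 4 ≤ n)
    (hv : (2 : F) ≠ 0 → padicValNat 2 n < padicValNat 2 (Fintype.card F - 1)) :
    ∃ (x : Matrix.SpecialLinearGroup (Fin n) F) (z c : F) (i₀ : Fin n),
      ((x ^ 2 : Matrix.SpecialLinearGroup (Fin n) F) : Matrix (Fin n) (Fin n) F) = z • 1 ∧
      (∀ a : F, (x : Matrix (Fin n) (Fin n) F) ≠ a • 1) ∧
      ∀ v : Fin n → F, v i₀ = 0 → (x : Matrix (Fin n) (Fin n) F) *ᵥ v = c • v := by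
  classical
  let i0 : Fin n := ⟨0, by omega⟩
  let i1 : Fin n := ⟨1, by omega⟩
  have h01 : i1 ≠ i0 := by simp [i0, i1]
  by_cases h2 : (2 : F) = 0
  · let x : Matrix.SpecialLinearGroup (Fin n) F :=
      ⟨Matrix.transvection i1 i0 1, Matrix.det_transvection_of_ne _ _ h01 _⟩
    refine ⟨x, 1, 1, i0, ?_, fun a ha => ?_, fun v hv => ?_⟩
    · rw [pow_two, one_smul]
      show Matrix.transvection i1 i0 (1 : F) * Matrix.transvection i1 i0 1 = 1
      rw [Matrix.transvection_mul_transvection_same _ _ h01, show (1 : F) + 1 = 0 by linear_combination h2,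
        Matrix.transvection_zero]
    · have := congrFun (congrFun ha i1) i0
      simp [x, Matrix.transvection, h01] at this
    · rw [one_smul]
      show Matrix.transvection i1 i0 (1 : F) *ᵥ v = v
      rw [Matrix.transvection, Matrix.add_mulVec, Matrix.one_mulVec, Matrix.single_mulVec, hv]
      simp
  · obtain ⟨c, hc⟩ := exists_pow_eq_neg_one (F := F) h2 (n := n) (by omega) (hv h2)
    have hc0 : c ≠ 0 := fun h => by
      rw [h, zero_pow (by omega)] at hc
      simp at hc
    let d : Fin n → F := fun i => if i = i0 then -c else c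
    have hdet : (Matrix.diagonal d).det = 1 := by
      rw [Matrix.det_diagonal, ← Finset.mul_prod_erase _ _ (Finset.mem_univ i0)]
      rw [Finset.prod_congr rfl (fun i hi => show d i = c by simp [d, Finset.ne_of_mem_erase hi]),
        Finset.prod_const, Finset.card_erase_of_mem (Finset.mem_univ _), Finset.card_univ, Fintype.card_fin,
        show d i0 = -c by simp [d], neg_mul, ← pow_succ', Nat.sub_add_cancel (by omega), hc, neg_neg]
    let x : Matrix.SpecialLinearGroup (Fin n) F := ⟨_, hdet⟩
    refine ⟨x, c * c, c, i0, ?_, fun z hz => ?_, fun v hv => ?_⟩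
    · rw [pow_two]
      show Matrix.diagonal d * Matrix.diagonal d = _
      rw [Matrix.diagonal_mul_diagonal, ← Matrix.diagonal_one, ← Matrix.diagonal_smul]
      congr 1
      funext i
      simp only [d, Pi.smul_apply, smul_eq_mul, mul_one]
      split_ifs <;> ring
    · have e0 := congrFun (congrFun hz i0) i0
      have e1 := congrFun (congrFun hz i1) i1
      simp [x, d, h01] at e0 e1
      exact mul_ne_zero h2 hc0 (by linear_combination e1 - e0)
    · funext i
      show (Matrix.diagonal d *ᵥ v) i = c * v i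
      rw [Matrix.mulVec_diagonal]
      by_cases hi : i = i0
      · simp [hi, hv]
      · simp [d, hi]

end CfsgLib.Geo.InvClass
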