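/-
An element of order two modulo scalars of a symplectic group permutes the planes of some orthogonal
decomposition into hyperbolic planes, hence stabilises coarser decompositions as well.
-/
import Mathlib
import Cfsg.Agent.Lib.Geo.SympInvolutionPairs
import Cfsg.Agent.Lib.Geo.InvolutionDecomp

namespace CfsgLib.Geo.InvPairs

open Module Matrix

variable {F V : Type*} [Field F] [AddCommGroup V] [Module F V]

/-- The permutation of the plane indices. -/
def flip {k r : ℕ} : (Fin k × Fin 2) ⊕ Fin r → (Fin k × Fin 2) ⊕ Fin r :=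
  Sum.map (fun p => (p.1, 1 - p.2)) id

/-- A family of orthogonal hyperbolic planes permuted by `T`. -/
structure Planes (f : V →ₗ[F] V →ₗ[F] F) (T : V →ₗ[F] V) (W : Submodule F V) (k r : ℕ)
    (A B : (Fin k × Fin 2) ⊕ Fin r → V) : Prop where
  ne : ∀ i, f (A i) (B i) ≠ 0
  orth : ∀ i j, i ≠ j → f (A i) (A j) = 0 ∧ f (A i) (B j) = 0 ∧ f (B i) (A j) = 0 ∧ f (B i) (B j) = 0
  span : Submodule.span F (Set.range A ∪ Set.range B) = W
  mapA : ∀ i, T (A i) ∈ Submodule.span F {A (flip i), B (flip i)}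
  mapB : ∀ i, T (B i) ∈ Submodule.span F {A (flip i), B (flip i)}

theorem Planes.memA {f : V →ₗ[F] V →ₗ[F] F} {T : V →ₗ[F] V} {W : Submodule F V} {k r : ℕ}
    {A B : (Fin k × Fin 2) ⊕ Fin r → V} (h : Planes f T W k r A B) (i) : A i ∈ W :=
  h.span ▸ Submodule.subset_span (Or.inl ⟨i, rfl⟩)

theorem Planes.memB {f : V →ₗ[F] V →ₗ[F] F} {T : V →ₗ[F] V} {W : Submodule F V} {k r : ℕ}
    {A B : (Fin k × Fin 2) ⊕ Fin r → V} (h : Planes f T W k r A B) (i) : B i ∈ W :=
  h.span ▸ Submodule.subset_span (Or.inr ⟨i, rfl⟩)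

theorem perp_decomp_le {f : V →ₗ[F] V →ₗ[F] F} (hf : f.IsAlt) {W : Submodule F V} {a b : V}
    (ha : a ∈ W) (hb : b ∈ W) (hab : f a b ≠ 0) {S : Submodule F V} (hSa : a ∈ S) (hSb : b ∈ S)
    (hS : perp f W a b ≤ S) : W ≤ S := fun v hv => by
  obtain ⟨s, t, hst⟩ := decomp hf ha hb hab hv
  have := S.add_mem (S.add_mem (hS hst) (S.smul_mem s hSa)) (S.smul_mem t hSb)
  rwa [show v - s • a - t • b + s • a + t • b = v by abel] at this

/-- Adding a fixed plane. -/
theorem Planes.addOne {f : V →ₗ[F] V →ₗ[F] F} (hf : f.IsAlt) {T : V →ₗ[F] V} {W : Submodule F V} {a b : V}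
    (ha : a ∈ W) (hb : b ∈ W) (hab : f a b ≠ 0) (hTa : T a ∈ Submodule.span F {a, b})
    (hTb : T b ∈ Submodule.span F {a, b}) {k r : ℕ} {A B : (Fin k × Fin 2) ⊕ Fin r → V}
    (h : Planes f T (perp f W a b) k r A B) :
    ∃ k' r' A' B', Planes f T W k' r' A' B' := by
  let A' : (Fin k × Fin 2) ⊕ Fin (r + 1) → V := Sum.elim (A ∘ Sum.inl) (Fin.cases a (A ∘ Sum.inr))
  let B' : (Fin k × Fin 2) ⊕ Fin (r + 1) → V := Sum.elim (B ∘ Sum.inl) (Fin.cases b (B ∘ Sum.inr))
  let ι : (Fin k × Fin 2) ⊕ Fin r → (Fin k × Fin 2) ⊕ Fin (r + 1) := Sum.map id Fin.succ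
  have hA : ∀ i, A' (ι i) = A i := by rintro (i | i) <;> simp [A', ι]
  have hB : ∀ i, B' (ι i) = B i := by rintro (i | i) <;> simp [B', ι]
  have hfl : ∀ i, flip (ι i) = ι (flip i) := by rintro (i | i) <;> simp [flip, ι]
  have hcases : ∀ i, i = Sum.inr 0 ∨ ∃ j, i = ι j := by
    rintro (i | i)
    · exact Or.inr ⟨Sum.inl i, rfl⟩
    · rcases Fin.eq_zero_or_eq_succ i with rfl | ⟨j, rfl⟩
      · exact Or.inl rfl
      · exact Or.inr ⟨Sum.inr j, rfl⟩
  refine ⟨k, r + 1, A', B', fun i => ?_, fun i j hij => ?_, ?_, fun i => ?_, fun i => ?_⟩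
  · rcases hcases i with rfl | ⟨j, rfl⟩
    · simpa [A', B'] using hab
    · rw [hA, hB]; exact h.ne j
  · rcases hcases i with rfl | ⟨i, rfl⟩ <;> rcases hcases j with rfl | ⟨j, rfl⟩
    · exact absurd rfl hij
    · obtain ⟨-, h1, h2⟩ := mem_perp.1 (h.memA j)
      obtain ⟨-, h3, h4⟩ := mem_perp.1 (h.memB j)
      rw [hA, hB]
      exact ⟨h1, h3, h2, h4⟩
    · obtain ⟨-, h1, h2⟩ := mem_perp.1 (h.memA i)
      obtain ⟨-, h3, h4⟩ := mem_perp.1 (h.memB i)
      rw [hA, hB]
      simp only [A', B', Sum.elim_inr, Fin.cases_zero]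
      rw [swap hf a (A i), swap hf b (A i), swap hf a (B i), swap hf b (B i), h1, h2, h3, h4]
      simp
    · rw [hA, hA, hB, hB]; exact h.orth i j fun e => hij (by rw [e])
  · refine le_antisymm (Submodule.span_le.2 ?_) (perp_decomp_le hf ha hb hab ?_ ?_ ?_)
    · rintro _ (⟨i, rfl⟩ | ⟨i, rfl⟩) <;> rcases hcases i with rfl | ⟨j, rfl⟩
      · simpa [A'] using ha
      · rw [hA]; exact (mem_perp.1 (h.memA j)).1
      · simpa [B'] using hb
      · rw [hB]; exact (mem_perp.1 (h.memB j)).1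
    · exact Submodule.subset_span (Or.inl ⟨Sum.inr 0, by simp [A']⟩)
    · exact Submodule.subset_span (Or.inr ⟨Sum.inr 0, by simp [B']⟩)
    · rw [← h.span]
      refine Submodule.span_mono ?_
      rintro _ (⟨i, rfl⟩ | ⟨i, rfl⟩)
      · exact Or.inl ⟨ι i, hA i⟩
      · exact Or.inr ⟨ι i, hB i⟩
  · rcases hcases i with rfl | ⟨j, rfl⟩
    · simpa [A', B', flip] using hTa
    · rw [hfl, hA, hA, hB]; exact h.mapA j
  · rcases hcases i with rfl | ⟨j, rfl⟩
    · simpa [A', B', flip] using hTb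
    · rw [hfl, hB, hA, hB]; exact h.mapB j

/-- Adding two planes exchanged by `T`. -/
theorem Planes.addTwo {f : V →ₗ[F] V →ₗ[F] F} (hf : f.IsAlt) {T : V →ₗ[F] V} {W : Submodule F V} {a b a' b' : V}
    (ha : a ∈ W) (hb : b ∈ W) (hab : f a b ≠ 0) (ha' : a' ∈ perp f W a b) (hb' : b' ∈ perp f W a b)
    (hab' : f a' b' ≠ 0) (hTa : T a ∈ Submodule.span F {a', b'}) (hTb : T b ∈ Submodule.span F {a', b'})
    (hTa' : T a' ∈ Submodule.span F {a, b}) (hTb' : T b' ∈ Submodule.span F {a, b})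
    {k r : ℕ} {A B : (Fin k × Fin 2) ⊕ Fin r → V} (h : Planes f T (perp f (perp f W a b) a' b') k r A B) :
    ∃ k' r' A' B', Planes f T W k' r' A' B' := by
  let A' : (Fin (k + 1) × Fin 2) ⊕ Fin r → V :=
    Sum.elim (fun p => Fin.cases (if p.2 = 0 then a else a') (fun i => A (Sum.inl (i, p.2))) p.1) (A ∘ Sum.inr)
  let B' : (Fin (k + 1) × Fin 2) ⊕ Fin r → V :=
    Sum.elim (fun p => Fin.cases (if p.2 = 0 then b else b') (fun i => B (Sum.inl (i, p.2))) p.1) (B ∘ Sum.inr)
  let ι : (Fin k × Fin 2) ⊕ Fin r → (Fin (k + 1) × Fin 2) ⊕ Fin r := Sum.map (fun p => (p.1.succ, p.2)) id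
  have hA : ∀ i, A' (ι i) = A i := by rintro (i | i) <;> simp [A', ι]
  have hB : ∀ i, B' (ι i) = B i := by rintro (i | i) <;> simp [B', ι]
  have hfl : ∀ i, flip (ι i) = ι (flip i) := by rintro (i | i) <;> simp [flip, ι]
  have hcases : ∀ i, i = Sum.inl (0, 0) ∨ i = Sum.inl (0, 1) ∨ ∃ j, i = ι j := by
    rintro (⟨i, s⟩ | i)
    · rcases Fin.eq_zero_or_eq_succ i with rfl | ⟨j, rfl⟩
      · fin_cases s <;> simp
      · exact Or.inr (Or.inr ⟨Sum.inl (j, s), rfl⟩)
    · exact Or.inr (Or.inr ⟨Sum.inr i, rfl⟩)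
  obtain ⟨ha'W, k1, k2⟩ := mem_perp.1 ha'
  obtain ⟨hb'W, k3, k4⟩ := mem_perp.1 hb'
  have hmemA := fun i => mem_perp.1 (h.memA i)
  have hmemB := fun i => mem_perp.1 (h.memB i)
  refine ⟨k + 1, r, A', B', fun i => ?_, fun i j hij => ?_, ?_, fun i => ?_, fun i => ?_⟩
  · rcases hcases i with rfl | rfl | ⟨j, rfl⟩
    · simpa [A', B'] using hab
    · simpa [A', B'] using hab'
    · rw [hA, hB]; exact h.ne j
  · rcases hcases i with rfl | rfl | ⟨i, rfl⟩ <;> rcases hcases j with rfl | rfl | ⟨j, rfl⟩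
    · exact absurd rfl hij
    · simp only [A', B', Sum.elim_inl, Fin.cases_zero, Fin.one_eq_zero_iff, if_true, if_false]
      norm_num [k1, k2, k3, k4]
    · obtain ⟨hjA, -, -⟩ := hmemA j
      obtain ⟨hjB, -, -⟩ := hmemB j
      rw [hA, hB]
      exact ⟨(mem_perp.1 hjA).2.1, (mem_perp.1 hjB).2.1, (mem_perp.1 hjA).2.2, (mem_perp.1 hjB).2.2⟩
    · simp only [A', B', Sum.elim_inl, Fin.cases_zero, Fin.one_eq_zero_iff, if_true, if_false]
      norm_num [swap hf a a', swap hf b a', swap hf a b', swap hf b b', k1, k2, k3, k4]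
    · exact absurd rfl hij
    · rw [hA, hB]
      simp only [A', B', Sum.elim_inl, Fin.cases_zero, Fin.one_eq_zero_iff, if_false]
      norm_num [(hmemA j).2.1, (hmemA j).2.2, (hmemB j).2.1, (hmemB j).2.2]
    · obtain ⟨hiA, -, -⟩ := hmemA i
      obtain ⟨hiB, -, -⟩ := hmemB i
      rw [hA, hB]
      simp only [A', B', Sum.elim_inl, Fin.cases_zero, if_true]
      norm_num [swap hf a (A i), swap hf b (A i), swap hf a (B i), swap hf b (B i), (mem_perp.1 hiA).2.1,
        (mem_perp.1 hiB).2.1, (mem_perp.1 hiA).2.2, (mem_perp.1 hiB).2.2]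
    · rw [hA, hB]
      simp only [A', B', Sum.elim_inl, Fin.cases_zero, Fin.one_eq_zero_iff, if_false]
      norm_num [swap hf a' (A i), swap hf b' (A i), swap hf a' (B i), swap hf b' (B i), (hmemA i).2.1,
        (hmemA i).2.2, (hmemB i).2.1, (hmemB i).2.2]
    · rw [hA, hA, hB, hB]; exact h.orth i j fun e => hij (by rw [e])
  · refine le_antisymm (Submodule.span_le.2 ?_)
      (perp_decomp_le hf ha hb hab ?_ ?_ (perp_decomp_le hf ha' hb' hab' ?_ ?_ ?_))
    · rintro _ (⟨i, rfl⟩ | ⟨i, rfl⟩) <;> rcases hcases i with rfl | rfl | ⟨j, rfl⟩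
      · simpa [A'] using ha
      · simpa [A'] using ha'W
      · rw [hA]; exact (mem_perp.1 (hmemA j).1).1
      · simpa [B'] using hb
      · simpa [B'] using hb'W
      · rw [hB]; exact (mem_perp.1 (hmemB j).1).1
    · exact Submodule.subset_span (Or.inl ⟨Sum.inl (0, 0), by simp [A']⟩)
    · exact Submodule.subset_span (Or.inr ⟨Sum.inl (0, 0), by simp [B']⟩)
    · exact Submodule.subset_span (Or.inl ⟨Sum.inl (0, 1), by simp [A']⟩)
    · exact Submodule.subset_span (Or.inr ⟨Sum.inl (0, 1), by simp [B']⟩)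
    · rw [← h.span]
      refine Submodule.span_mono ?_
      rintro _ (⟨i, rfl⟩ | ⟨i, rfl⟩)
      · exact Or.inl ⟨ι i, hA i⟩
      · exact Or.inr ⟨ι i, hB i⟩
  · rcases hcases i with rfl | rfl | ⟨j, rfl⟩
    · simpa [A', B', flip] using hTa
    · simpa [A', B', flip] using hTa'
    · rw [hfl, hA, hA, hB]; exact h.mapA j
  · rcases hcases i with rfl | rfl | ⟨j, rfl⟩
    · simpa [A', B', flip] using hTb
    · simpa [A', B', flip] using hTb'
    · rw [hfl, hB, hA, hB]; exact h.mapB j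

variable [FiniteDimensional F V]

theorem exists_planes {f : V →ₗ[F] V →ₗ[F] F} (hf : f.IsAlt) (T : V →ₗ[F] V) (z : F) (hz : z = 1 ∨ z = -1)
    (hTT : ∀ v, T (T v) = z • v) (hfT : ∀ u v, f (T u) (T v) = f u v) (W : Submodule F V) (hW : Nondeg f W)
    (hWT : ∀ v ∈ W, T v ∈ W) : ∃ k r A B, Planes f T W k r A B := by
  induction hn : finrank F W using Nat.strong_induction_on generalizing W with
  | _ n ih =>
    subst hn
    rcases eq_or_ne W ⊥ with rfl | h0
    · exact ⟨0, 0, fun _ => 0, fun _ => 0, fun i => isEmptyElim i, fun i => isEmptyElim i,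
        le_antisymm (Submodule.span_le.2 (by rintro _ (⟨i, rfl⟩ | ⟨i, rfl⟩) <;> exact isEmptyElim i)) bot_le,
        fun i => isEmptyElim i, fun i => isEmptyElim i⟩
    have hmove : ∀ u v, f u (T v) = z * f (T u) v := fun u v => by
      rw [← hfT u (T v), hTT, map_smul, smul_eq_mul]
    have plane : ∀ a ∈ W, ∀ b ∈ W, f a b ≠ 0 → T a ∈ Submodule.span F {a, b} →
        T b ∈ Submodule.span F {a, b} → ∃ k r A B, Planes f T W k r A B := by
      intro a ha b hb hab hTa hTb
      have hst : ∀ v ∈ perp f W a b, T v ∈ perp f W a b := fun v hv => by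
        obtain ⟨h1, h2, h3⟩ := mem_perp.1 hv
        have hk : ∀ w ∈ Submodule.span F {a, b}, f w v = 0 := by
          intro w hw
          obtain ⟨s, t, rfl⟩ := Submodule.mem_span_pair.1 hw
          simp [h2, h3]
        exact mem_perp.2 ⟨hWT v h1, by rw [hmove, hk _ hTa, mul_zero], by rw [hmove, hk _ hTb, mul_zero]⟩
      obtain ⟨k, r, A, B, h⟩ := ih _ (perp_lt hb hab) _ (perp_nondeg hf hW ha hb hab) hst rfl
      exact h.addOne hf ha hb hab hTa hTb
    by_cases hg : ∃ e ∈ W, f e (T e) ≠ 0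
    · obtain ⟨e, he, hee⟩ := hg
      exact plane e he (T e) (hWT e he) hee (Submodule.subset_span (by simp))
        (by rw [hTT]; exact Submodule.smul_mem _ _ (Submodule.subset_span (by simp)))
    push Not at hg
    have hanti : ∀ u ∈ W, ∀ v ∈ W, f v (T u) = - f u (T v) := fun u hu v hv => by
      have := hg (u + v) (W.add_mem hu hv)
      simp only [map_add, LinearMap.add_apply, hg u hu, hg v hv] at this
      linear_combination this
    obtain ⟨w, hw, hw0⟩ := W.ne_bot_iff.1 h0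
    by_cases hz1 : z = 1
    swap
    · exfalso
      have hz' : z = -1 := hz.resolve_left hz1
      have h2 : (2 : F) ≠ 0 := fun h => hz1 (by rw [hz']; linear_combination (-1) * h)
      refine hw0 (hW w hw fun v hv => ?_)
      have e1 : f w (T v) = z * f w (T v) := by
        conv_lhs => rw [hmove, swap hf v (T w), hanti w hw v hv, neg_neg]
      have e2 : f w (T (T v)) = z * f w (T (T v)) := by
        conv_lhs => rw [hmove, swap hf (T v) (T w), hanti w hw (T v) (hWT v hv), neg_neg]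
      rw [hTT, map_smul, hz', smul_eq_mul] at e2
      have : (2 : F) * f w v = 0 := by linear_combination (-1) * e2
      exact (mul_eq_zero.1 this).resolve_left h2
    subst hz1
    have hTT' : ∀ v, T (T v) = v := fun v => by rw [hTT, one_smul]
    by_cases h2 : (2 : F) = 0
    swap
    · obtain ⟨ε, a, ha, ha0, hε, hTa⟩ : ∃ ε : F, ∃ a ∈ W, a ≠ 0 ∧ ε * ε = 1 ∧ T a = ε • a := by
        by_cases hp : w + T w = 0
        · exact ⟨-1, w, hw, hw0, by ring, by
            rw [neg_one_smul]; exact eq_neg_of_add_eq_zero_right hp⟩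
        · exact ⟨1, w + T w, W.add_mem hw (hWT w hw), hp, by ring, by
            rw [map_add, hTT', one_smul, add_comm]⟩
      obtain ⟨b, hb, hab⟩ : ∃ b ∈ W, f a b ≠ 0 := by
        by_contra h
        push Not at h
        exact ha0 (hW a ha h)
      refine plane a ha (b + ε • T b) (W.add_mem hb (W.smul_mem _ (hWT b hb))) ?_
        (by rw [hTa]; exact Submodule.smul_mem _ _ (Submodule.subset_span (by simp))) ?_
      · rw [map_add, map_smul, hmove, one_mul, hTa, map_smul, LinearMap.smul_apply, smul_eq_mul, smul_eq_mul,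
          ← mul_assoc, hε, one_mul, ← two_mul]
        exact mul_ne_zero h2 hab
      · have : T (b + ε • T b) = ε • (b + ε • T b) := by
          rw [map_add, map_smul, hTT', smul_add, smul_smul, hε, one_smul, add_comm]
        rw [this]
        exact Submodule.smul_mem _ _ (Submodule.subset_span (by simp))
    by_cases hid : ∀ v ∈ W, T v = v
    · obtain ⟨b, hb, hab⟩ : ∃ b ∈ W, f w b ≠ 0 := by
        by_contra h
        push Not at h
        exact hw0 (hW w hw h)
      exact plane w hw b hb hab (by rw [hid w hw]; exact Submodule.subset_span (by simp))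
        (by rw [hid b hb]; exact Submodule.subset_span (by simp))
    push Not at hid
    obtain ⟨b₀, hb₀, hb₀T⟩ := hid
    obtain ⟨a, ha, hne⟩ : ∃ a ∈ W, f a (T b₀) ≠ f a b₀ := by
      by_contra h
      push Not at h
      refine hb₀T (sub_eq_zero.1 (hW _ (W.sub_mem (hWT _ hb₀) hb₀) fun v hv => ?_))
      rw [swap hf v (T b₀ - b₀), map_sub, h v hv, sub_self, neg_zero]
    have hne' : f a (T b₀) + f a b₀ ≠ 0 := fun h => hne (by linear_combination h - f a b₀ * h2)
    obtain ⟨b, hb, hab, haTb⟩ : ∃ b ∈ W, f a b ≠ 0 ∧ f a (T b) = 0 := by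
      by_cases hs : f a b₀ = 0
      · exact ⟨T b₀, hWT _ hb₀, fun h => hne (h.trans hs.symm), by rw [hTT', hs]⟩
      · refine ⟨b₀ + (f a (T b₀) / f a b₀) • T b₀, W.add_mem hb₀ (W.smul_mem _ (hWT _ hb₀)), ?_, ?_⟩
        · rw [map_add, map_smul, smul_eq_mul]
          intro h
          apply hne'
          have h' : (f a (T b₀) + f a b₀) * (f a (T b₀) + f a b₀) = 0 := by
            field_simp at h
            linear_combination h + f a (T b₀) * f a b₀ * h2
          exact mul_self_eq_zero.1 h'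
        · rw [map_add, map_smul, hTT', map_add, map_smul, smul_eq_mul, div_mul_cancel₀ _ hs, ← two_mul, h2,
            zero_mul]
    have hbTa : f b (T a) = 0 := by rw [hanti a ha b hb, haTb, neg_zero]
    have hTaW : T a ∈ perp f W a b := mem_perp.2 ⟨hWT a ha, hg a ha, hbTa⟩
    have hTbW : T b ∈ perp f W a b := mem_perp.2 ⟨hWT b hb, haTb, hg b hb⟩
    have hab' : f (T a) (T b) ≠ 0 := by rwa [hfT]
    have hst : ∀ v ∈ perp f (perp f W a b) (T a) (T b), T v ∈ perp f (perp f W a b) (T a) (T b) := fun v hv => by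
      obtain ⟨hv1, h3, h4⟩ := mem_perp.1 hv
      obtain ⟨h1, h5, h6⟩ := mem_perp.1 hv1
      exact mem_perp.2 ⟨mem_perp.2 ⟨hWT v h1, by rw [hmove, h3, mul_zero], by rw [hmove, h4, mul_zero]⟩,
        by rw [hfT]; exact h5, by rw [hfT]; exact h6⟩
    obtain ⟨k, r, A, B, h⟩ := ih _ ((perp_lt hTbW hab').trans (perp_lt hb hab)) _
      (perp_nondeg hf (perp_nondeg hf hW ha hb hab) hTaW hTbW hab') hst rfl
    exact h.addTwo hf ha hb hab hTaW hTbW hab' (Submodule.subset_span (by simp)) (Submodule.subset_span (by simp))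
      (by rw [hTT']; exact Submodule.subset_span (by simp)) (by rw [hTT']; exact Submodule.subset_span (by simp))

theorem exists_orth_decomposition {f : V →ₗ[F] V →ₗ[F] F} (hf : f.IsAlt) (hn : Nondeg f ⊤) (T : V →ₗ[F] V)
    (z : F) (hz : z = 1 ∨ z = -1) (hTT : ∀ v, T (T v) = z • v) (hfT : ∀ u v, f (T u) (T v) = f u v)
    (a t : ℕ) (hat : finrank F V = a * t) (hae : Even a) :
    ∃ D : Fin t → Submodule F V, (∀ i, finrank F (D i) = a) ∧ iSupIndep D ∧ iSup D = ⊤ ∧
      (∀ j, ∀ u ∈ D j, u ≠ 0 → ∃ v ∈ D j, f u v ≠ 0) ∧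
      (∀ j j', j ≠ j' → ∀ u ∈ D j, ∀ v ∈ D j', f u v = 0) ∧
      ∃ σ : Equiv.Perm (Fin t), ∀ i, (D i).map T = D (σ i) := by
  classical
  obtain ⟨k, r, A, B, h⟩ := exists_planes hf T z hz hTT hfT ⊤ hn fun v _ => trivial
  let ι := (Fin k × Fin 2) ⊕ Fin r
  let v : ι × Fin 2 → V := fun p => if p.2 = 0 then A p.1 else B p.1
  have hv : ∀ i j, i ≠ j → ∀ s s', f (v (i, s)) (v (j, s')) = 0 := fun i j hij s s' => by
    obtain ⟨h1, h2, h3, h4⟩ := h.orth i j hij
    simp only [v]
    split_ifs <;> assumption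
  have hli : LinearIndependent F v := by
    rw [Fintype.linearIndependent_iff]
    intro g hg
    have key : ∀ j s', (∑ p : ι × Fin 2, g p * f (v p) (v (j, s'))) = 0 := fun j s' => by
      have := congrArg (fun w => f w (v (j, s'))) hg
      simpa [map_sum, LinearMap.sum_apply] using this
    rintro ⟨j, s⟩
    have hj : ∀ s', g (j, 0) * f (A j) (v (j, s')) + g (j, 1) * f (B j) (v (j, s')) = 0 := fun s' => by
      have := key j s'
      rw [Fintype.sum_prod_type, Finset.sum_eq_single j (fun i _ hi => by simp [hv i j hi])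
        (fun h => absurd (Finset.mem_univ _) h), Fin.sum_univ_two] at this
      simpa [v] using this
    fin_cases s
    · have := hj 1
      simpa [v, hf (B j), h.ne j] using this
    · have := hj 0
      simpa [v, hf (A j), swap hf (A j) (B j), h.ne j] using this
  have hspan : ⊤ ≤ Submodule.span F (Set.range v) := by
    rw [← h.span]
    refine Submodule.span_mono ?_
    rintro _ (⟨i, rfl⟩ | ⟨i, rfl⟩)
    · exact ⟨(i, 0), by simp [v]⟩
    · exact ⟨(i, 1), by simp [v]⟩
  let bv := Basis.mk hli hspan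
  have hbv : ∀ p, bv p = v p := fun p => Basis.mk_apply hli hspan p
  obtain ⟨c, hc⟩ := hae
  have hcard : 2 * k + r = t * c := by
    have := finrank_eq_card_basis bv
    rw [hat, hc] at this
    simp only [ι, Fintype.card_prod, Fintype.card_sum, Fintype.card_fin] at this
    nlinarith
  obtain ⟨ψ, σ, hψ, hσσ, hσ, hσfix⟩ := exists_pair_pattern t c k (by omega)
  have hcompl : Nat.card {p : Fin t × Fin c // ¬ p ∈ Set.range ψ} = r := by
    rw [Nat.card_eq_fintype_card, Fintype.card_subtype_compl, Set.card_range_of_injective hψ]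
    simp only [Fintype.card_prod, Fintype.card_fin]
    omega
  let er : Fin r ≃ {p : Fin t × Fin c // ¬ p ∈ Set.range ψ} := (Finite.equivFinOfCardEq hcompl).symm
  let φ : ι ≃ Fin t × Fin c :=
    ((Equiv.ofInjective ψ hψ).sumCongr er).trans (Equiv.sumCompl (· ∈ Set.range ψ))
  let D : Fin t → Submodule F V := fun j =>
    Submodule.span F (Set.range fun q : Fin c × Fin 2 => v (φ.symm (j, q.1), q.2))
  have hrank : ∀ j, finrank F (D j) = a := fun j =>
    (finrank_span_eq_card (hli.comp (fun q : Fin c × Fin 2 => (φ.symm (j, q.1), q.2)) (fun x y e => by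
      simp only [Prod.mk.injEq, EmbeddingLike.apply_eq_iff_eq] at e
      exact Prod.ext e.1.2 e.2))).trans (by simp [hc]; omega)
  have hvD : ∀ i s, v (i, s) ∈ D (φ i).1 := fun i s =>
    Submodule.subset_span ⟨((φ i).2, s), by simp [show ((φ i).1, (φ i).2) = φ i from rfl]⟩
  have htop : iSup D = ⊤ := by
    rw [eq_top_iff]
    refine hspan.trans (Submodule.span_le.2 ?_)
    rintro _ ⟨⟨i, s⟩, rfl⟩
    exact le_iSup D _ (hvD i s)
  have horth : ∀ j j', j ≠ j' → ∀ u ∈ D j, ∀ w ∈ D j', f u w = 0 := by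
    intro j j' hne u hu w hw
    have h1 : D j ≤ LinearMap.ker (f.flip w) := Submodule.span_le.2 (by
      rintro _ ⟨q, rfl⟩
      have h2 : D j' ≤ LinearMap.ker (f (v (φ.symm (j, q.1), q.2))) := Submodule.span_le.2 (by
        rintro _ ⟨q', rfl⟩
        exact hv _ _ (fun e => hne (congrArg Prod.fst (φ.symm.injective e))) _ _)
      exact h2 hw)
    exact h1 hu
  have hzero : ∀ u, (∀ j, ∀ w ∈ D j, f u w = 0) → u = 0 := fun u hu => by
    refine hn u trivial fun w _ => ?_
    have : iSup D ≤ LinearMap.ker (f u) := iSup_le hu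
    exact this (htop ▸ trivial)
  have hindep : iSupIndep D := fun j => by
    rw [disjoint_iff, Submodule.eq_bot_iff]
    intro u hu
    obtain ⟨hu1, hu2⟩ := Submodule.mem_inf.1 hu
    refine hzero u fun i w hw => ?_
    rcases eq_or_ne i j with rfl | hij
    · have : ⨆ l ≠ i, D l ≤ LinearMap.ker (f.flip w) :=
        iSup₂_le fun l hl x hx => horth l i hl x hx w hw
      exact this hu2
    · exact horth j i hij.symm u hu1 w hw
  have hφ : ∀ i, (φ (flip i)).1 = σ (φ i).1 := by
    rintro (⟨i, s⟩ | i)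
    · fin_cases s
      · exact (hσ i).symm
      · show (ψ (i, 1 - 1)).1 = σ (ψ (i, 1)).1
        rw [sub_self, ← hσ i, hσσ]
    · show (er i).1.1 = σ (er i).1.1
      rw [hσfix _ (fun q hq => (er i).2 ⟨q, hq⟩)]
  have hinj : Function.Injective T := fun x y e => by
    have hz0 : z ≠ 0 := by rcases hz with rfl | rfl <;> simp
    have := congrArg T e
    rw [hTT, hTT] at this
    exact smul_right_injective V hz0 this
  refine ⟨D, hrank, hindep, htop, fun j u hu hu0 => ?_, horth, σ, fun j => ?_⟩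
  · by_contra hall
    push Not at hall
    refine hu0 (hzero u fun i w hw => ?_)
    rcases eq_or_ne i j with rfl | hij
    · exact hall w hw
    · exact horth j i hij.symm u hu w hw
  · refine Submodule.eq_of_le_of_finrank_eq ?_
      (((Submodule.equivMapOfInjective T hinj (D j)).symm.finrank_eq).trans (by rw [hrank, hrank]))
    rw [Submodule.map_span_le]
    rintro _ ⟨⟨o, s⟩, rfl⟩
    have hm : Submodule.span F {A (flip (φ.symm (j, o))), B (flip (φ.symm (j, o)))} ≤ D (σ j) := by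
      have := hφ (φ.symm (j, o))
      rw [Equiv.apply_symm_apply] at this
      rw [← this, Submodule.span_le, Set.insert_subset_iff, Set.singleton_subset_iff]
      exact ⟨hvD (flip (φ.symm (j, o))) 0, hvD (flip (φ.symm (j, o))) 1⟩
    refine hm ?_
    show T (v (φ.symm (j, o), s)) ∈ _
    simp only [v]
    split_ifs
    · exact h.mapA _
    · exact h.mapB _


theorem symp_setup {F : Type*} [Field F] (d : ℕ) (hd : d ≠ 0)
    (x : ↥(Matrix.symplecticGroup (Fin d) F)) (z : F)
    (hx : ((x ^ 2 : ↥(Matrix.symplecticGroup (Fin d) F)) : Matrix (Fin d ⊕ Fin d) (Fin d ⊕ Fin d) F) =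
      z • (1 : Matrix (Fin d ⊕ Fin d) (Fin d ⊕ Fin d) F)) :
    ∃ f : (Fin d ⊕ Fin d → F) →ₗ[F] (Fin d ⊕ Fin d → F) →ₗ[F] F, f.IsAlt ∧ Nondeg f ⊤ ∧
      (∀ u v, f u v = Cfsg.sympForm d F u v) ∧
      (∀ u v, f (Matrix.toLin' x.1 u) (Matrix.toLin' x.1 v) = f u v) ∧ (z = 1 ∨ z = -1) ∧
      ∀ v, Matrix.toLin' x.1 (Matrix.toLin' x.1 v) = z • v := by
  classical
  let f : (Fin d ⊕ Fin d → F) →ₗ[F] (Fin d ⊕ Fin d → F) →ₗ[F] F :=
    Matrix.toLinearMap₂' F (Matrix.J (Fin d) F)
  have happ : ∀ u v, f u v = Cfsg.sympForm d F u v := fun u v => by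
    simp [f, Cfsg.sympForm, Matrix.toLinearMap₂'_apply']
  have hf : f.IsAlt := fun u => by
    rw [happ, Cfsg.sympForm, dotProduct, Fintype.sum_sum_type]
    simp [Matrix.mulVec, dotProduct, Matrix.J, Matrix.one_apply, mul_comm]
  have hn : Nondeg f ⊤ := fun u _ h => by
    funext i
    have := h (Matrix.J (Fin d) F *ᵥ Pi.single i 1) trivial
    rw [happ, Cfsg.sympForm, Matrix.mulVec_mulVec, Matrix.J_squared, Matrix.neg_mulVec, Matrix.one_mulVec] at this
    simpa using this
  obtain ⟨A, hA⟩ := x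
  have hfx : ∀ u v, f (Matrix.toLin' A u) (Matrix.toLin' A v) = f u v := fun u v => by
    have hT := SymplecticGroup.mem_iff'.1 hA
    simp only [happ, Cfsg.sympForm, Matrix.toLin'_apply, Matrix.mulVec_mulVec]
    rw [← Matrix.vecMul_transpose, ← Matrix.dotProduct_mulVec, Matrix.mulVec_mulVec, ← Matrix.mul_assoc, hT]
  have hxx : ∀ v, Matrix.toLin' A (Matrix.toLin' A v) = z • v := fun v => by
    simp only [Matrix.toLin'_apply, Matrix.mulVec_mulVec]
    rw [pow_two] at hx
    rw [show A * A = z • (1 : Matrix _ _ F) from hx, Matrix.smul_mulVec, Matrix.one_mulVec]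
  let i : Fin d ⊕ Fin d := Sum.inl ⟨0, Nat.pos_of_ne_zero hd⟩
  obtain ⟨w, hw⟩ : ∃ w, f (Pi.single i 1) w ≠ 0 := by
    by_contra h
    push Not at h
    simpa using congrFun (hn _ trivial fun v _ => h v) i
  have := hfx (Matrix.toLin' A (Pi.single i 1)) (Matrix.toLin' A w)
  rw [hxx, hxx, hfx] at this
  simp only [map_smul, LinearMap.smul_apply, smul_eq_mul, ← mul_assoc] at this
  exact ⟨f, hf, hn, happ, hfx, mul_self_eq_one_iff.1 (mul_right_cancel₀ hw (this.trans (one_mul _).symm)), hxx⟩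

end CfsgLib.Geo.InvPairs
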