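/-
Elements of order two modulo scalars of the special linear group preserving some alternating form up to a scalar.
-/
import Mathlib
import Cfsg.Prelude.Def_GeometricClasses
import Cfsg.Agent.Lib.Geo.InvolutionClasses
import Cfsg.Agent.Lib.Geo.SympInvolutionPlanes

namespace CfsgLib.Geo.InvClass

open Module Matrix

variable {F : Type*} [Field F]

/-- A symplectic form has a hyperbolic basis. -/
theorem exists_symp_basis {n : ℕ} {f : (Fin n → F) → (Fin n → F) → F} (hf : Cfsg.Geo.IsSymplecticForm f) :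
    ∃ (B : (Fin n → F) →ₗ[F] (Fin n → F) →ₗ[F] F) (m : ℕ) (e : Basis (Fin m × Fin 2) F (Fin n → F)),
      (∀ u v, B u v = f u v) ∧ B.IsAlt ∧ (∀ i, B (e (i, 0)) (e (i, 1)) = 1) ∧
      ∀ i j, i ≠ j → ∀ s s', B (e (i, s)) (e (j, s')) = 0 := by
  classical
  let B : (Fin n → F) →ₗ[F] (Fin n → F) →ₗ[F] F :=
    LinearMap.mk₂ F f hf.bilinear.add_left (fun c x v => by rw [hf.bilinear.smul_left, smul_eq_mul])
      hf.bilinear.add_right (fun c v x => by rw [hf.bilinear.smul_right, smul_eq_mul])
  have hB : B.IsAlt := fun v => hf.alternating v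
  have hn : InvPairs.Nondeg B ⊤ := fun u _ h => by
    by_contra hu
    obtain ⟨x, hx⟩ := (hf.nondegenerate u hu).2
    exact hx (h x trivial)
  obtain ⟨k, r, A, A', h⟩ := InvPairs.exists_planes hB LinearMap.id 1 (Or.inl rfl) (fun v => by simp)
    (fun u v => rfl) ⊤ hn fun v _ => trivial
  let ι := (Fin k × Fin 2) ⊕ Fin r
  let v : ι × Fin 2 → (Fin n → F) := fun p => if p.2 = 0 then A p.1 else (B (A p.1) (A' p.1))⁻¹ • A' p.1
  have hv : ∀ i j, i ≠ j → ∀ s s', B (v (i, s)) (v (j, s')) = 0 := fun i j hij s s' => by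
    obtain ⟨h1, h2, h3, h4⟩ := h.orth i j hij
    simp only [v]
    split_ifs <;> simp [h1, h2, h3, h4]
  have h01 : ∀ i, B (v (i, 0)) (v (i, 1)) = 1 := fun i => by simp [v, h.ne i]
  have h10 : ∀ i, B (v (i, 1)) (v (i, 0)) = -1 := fun i => by rw [InvPairs.swap hB, h01]
  have hli : LinearIndependent F v := by
    rw [Fintype.linearIndependent_iff]
    intro g hg
    have key : ∀ j s', (∑ p : ι × Fin 2, g p * B (v p) (v (j, s'))) = 0 := fun j s' => by
      have := congrArg (fun w => B w (v (j, s'))) hg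
      simpa [map_sum, LinearMap.sum_apply] using this
    rintro ⟨j, s⟩
    have hj : ∀ s', g (j, 0) * B (v (j, 0)) (v (j, s')) + g (j, 1) * B (v (j, 1)) (v (j, s')) = 0 := fun s' => by
      have := key j s'
      rwa [Fintype.sum_prod_type, Finset.sum_eq_single j (fun i _ hi => by simp [hv i j hi])
        (fun h => absurd (Finset.mem_univ _) h), Fin.sum_univ_two] at this
    fin_cases s
    · have := hj 1
      rw [h01, hB (v (j, 1))] at this
      simpa using this
    · have := hj 0
      rw [h10, hB (v (j, 0))] at this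
      simpa using this
  have hspan : ⊤ ≤ Submodule.span F (Set.range v) := by
    rw [← h.span, Submodule.span_le]
    rintro _ (⟨i, rfl⟩ | ⟨i, rfl⟩)
    · exact Submodule.subset_span ⟨(i, 0), by simp [v]⟩
    · have : A' i = B (A i) (A' i) • v (i, 1) := by simp [v, smul_smul, h.ne i]
      rw [this]
      exact Submodule.smul_mem _ _ (Submodule.subset_span ⟨(i, 1), rfl⟩)
  let w := (Basis.mk hli hspan).reindex ((Fintype.equivFin ι).prodCongr (Equiv.refl (Fin 2)))
  refine ⟨B, Fintype.card ι, w, fun u v => rfl, hB, fun i => ?_, fun i j hij s s' => ?_⟩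
  · simp [w, h01]
  · simp only [w, Basis.reindex_apply, Basis.mk_apply]
    exact hv _ _ (fun e => hij ((Fintype.equivFin ι).symm.injective e)) s s'

/-- A map acting plane-wise with constant determinant is conjugate to a similitude. -/
theorem exists_conj_similitude {n : ℕ} {f : (Fin n → F) → (Fin n → F) → F} (hf : Cfsg.Geo.IsSymplecticForm f)
    {m : ℕ} (X : GL (Fin n) F) (b : Basis (Fin m × Fin 2) F (Fin n → F)) (μ : Fˣ)
    (h : ∀ i, ∃ α β γ δ : F, (X : Matrix (Fin n) (Fin n) F) *ᵥ b (i, 0) = α • b (i, 0) + γ • b (i, 1) ∧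
      (X : Matrix (Fin n) (Fin n) F) *ᵥ b (i, 1) = β • b (i, 0) + δ • b (i, 1) ∧ α * δ - β * γ = μ) :
    ∃ P : GL (Fin n) F, P⁻¹ * X * P ∈ Cfsg.Geo.similarityGroup f := by
  classical
  obtain ⟨B, m', e, hBf, hB, h01, horth⟩ := exists_symp_basis hf
  obtain rfl : m = m' := by
    have h1 := finrank_eq_card_basis e
    rw [finrank_eq_card_basis b] at h1
    simpa using h1
  obtain ⟨P, hP⟩ := exists_basis_change e b
  refine ⟨P, μ, fun u v => ?_⟩
  set S := Matrix.toLin' ((P⁻¹ * X * P : GL (Fin n) F) : Matrix (Fin n) (Fin n) F) with hS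
  have hSe : ∀ (p : Fin m × Fin 2) (a c : F),
      (X : Matrix (Fin n) (Fin n) F) *ᵥ b p = a • b (p.1, 0) + c • b (p.1, 1) →
      S (e p) = a • e (p.1, 0) + c • e (p.1, 1) := by
    intro p a c hp
    rw [hS, Matrix.toLin'_apply, Units.val_mul, Units.val_mul, ← Matrix.mulVec_mulVec, hP, ← Matrix.mulVec_mulVec, hp,
      ← hP, ← hP, ← Matrix.mulVec_smul, ← Matrix.mulVec_smul, ← Matrix.mulVec_add, Matrix.mulVec_mulVec,
      ← Units.val_mul, inv_mul_cancel, Units.val_one, Matrix.one_mulVec]
  have key : B.compl₁₂ S S = (μ : F) • B := by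
    refine LinearMap.ext_basis e e fun p p' => ?_
    obtain ⟨α, β, γ, δ, ha, hb, hdet⟩ := h p.1
    obtain ⟨α', β', γ', δ', ha', hb', hdet'⟩ := h p'.1
    obtain ⟨i, s⟩ := p
    obtain ⟨j, s'⟩ := p'
    simp only [LinearMap.compl₁₂_apply, LinearMap.smul_apply]
    have e0 := hSe (i, 0) α γ ha
    have e1 := hSe (i, 1) β δ hb
    have e0' := hSe (j, 0) α' γ' ha'
    have e1' := hSe (j, 1) β' δ' hb'
    by_cases hij : i = j
    · subst hij
      have h10 : B (e (i, 1)) (e (i, 0)) = -1 := by rw [InvPairs.swap hB, h01]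
      have hd : α * δ - β * γ = μ := hdet
      fin_cases s <;> fin_cases s' <;>
        simp [e0, e1, map_add, map_smul, hB (e (i, 0)), hB (e (i, 1)), h01, h10]
      all_goals first | linear_combination hd | linear_combination -hd | ring
    · have := horth i j hij
      fin_cases s <;> fin_cases s' <;> simp [e0, e1, e0', e1', map_add, map_smul, this]
  have := LinearMap.congr_fun (LinearMap.congr_fun key u) v
  simp only [LinearMap.compl₁₂_apply, LinearMap.smul_apply, smul_eq_mul, hBf, hS, Matrix.toLin'_apply] at this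
  exact this

variable [Fintype F]

theorem involution_similitude {n : ℕ} (hn : 0 < n) (he : Even n) {f : (Fin n → F) → (Fin n → F) → F}
    (hf : Cfsg.Geo.IsSymplecticForm f) (x : Matrix.SpecialLinearGroup (Fin n) F) {z : F}
    (hx : ((x ^ 2 : Matrix.SpecialLinearGroup (Fin n) F) : Matrix (Fin n) (Fin n) F) = z • 1)
    (hv : padicValNat 2 (Fintype.card F - 1) ≤ padicValNat 2 n) :
    ∃ P : GL (Fin n) F, P⁻¹ * Matrix.SpecialLinearGroup.toGL x * P ∈ Cfsg.Geo.similarityGroup f := by
  classical
  haveI : Nonempty (Fin n) := ⟨⟨0, hn⟩⟩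
  set A : Matrix (Fin n) (Fin n) F := x.1 with hA
  have hAA : A * A = z • 1 := by rw [← hx, pow_two]; rfl
  have hz : z ≠ 0 := by
    rintro rfl
    have := congrArg Matrix.det hAA
    rw [Matrix.det_mul, zero_smul, Matrix.det_zero, x.2, one_mul] at this
    exact one_ne_zero this
  set T := Matrix.toLin' A with hT
  have hTT : ∀ v, T (T v) = z • v := fun v => by
    rw [hT, Matrix.toLin'_apply, Matrix.toLin'_apply, Matrix.mulVec_mulVec, hAA, Matrix.smul_mulVec, Matrix.one_mulVec]
  by_cases hS : (2 : F) ≠ 0 ∧ ∃ c : F, c * c = z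
  · -- two eigenspaces
    obtain ⟨h2, c, hc⟩ := hS
    have hc0 : c ≠ 0 := fun h => hz (by rw [← hc, h, mul_zero])
    have hcomp := InvPairs.eigen_compl T hc0 h2 (by rw [hc]; exact hTT)
    set Ep := LinearMap.ker (T - c • LinearMap.id)
    set Em := LinearMap.ker (T + c • LinearMap.id)
    have hEp : ∀ v ∈ Ep, T v = c • v := fun v hv => by
      simpa [Ep, sub_eq_zero] using hv
    have hEm : ∀ v ∈ Em, T v = (-c) • v := fun v hv => by
      simpa [Em, neg_smul, add_eq_zero_iff_eq_neg] using hv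
    let bp := ((Module.finBasis F Ep).prod (Module.finBasis F Em)).map (Submodule.prodEquivOfIsCompl _ _ hcomp)
    have hbp : ∀ q, T (bp q) = Sum.elim (fun _ => c) (fun _ => -c) q • bp q := by
      rintro (q | q)
      · exact hEp _ (by simp [bp])
      · exact hEm _ (by simp [bp])
    have hdet : LinearMap.det T = 1 := by rw [hT, LinearMap.det_toLin']; exact x.2
    rw [det_of_diag bp T _ hbp, Fintype.prod_sum_type] at hdet
    simp only [Sum.elim_inl, Sum.elim_inr, Finset.prod_const, Finset.card_univ, Fintype.card_fin] at hdet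
    have hsum := finrank_eq_card_basis bp
    rw [finrank_pi, Fintype.card_fin, Fintype.card_sum, Fintype.card_fin, Fintype.card_fin] at hsum
    have hb : Even (finrank F Em) := by
      refine Nat.not_odd_iff_even.1 fun ho => not_pow_eq_neg_one h2 hv c ?_
      rw [ho.neg_pow, mul_neg, ← pow_add, ← hsum] at hdet
      rw [← neg_neg (c ^ n), hdet]
    have ha : Even (finrank F Ep) := (Nat.even_add.1 (hsum ▸ he)).2 hb
    obtain ⟨a', ha'⟩ := ha
    obtain ⟨b', hb'⟩ := hb
    let ea : Fin (finrank F Ep) ≃ Fin a' × Fin 2 := (finCongr (by omega)).trans finProdFinEquiv.symm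
    let eb : Fin (finrank F Em) ≃ Fin b' × Fin 2 := (finCongr (by omega)).trans finProdFinEquiv.symm
    let φ : Fin (finrank F Ep) ⊕ Fin (finrank F Em) ≃ Fin (a' + b') × Fin 2 :=
      ((ea.sumCongr eb).trans (Equiv.sumProdDistrib _ _ _).symm).trans (finSumFinEquiv.prodCongr (Equiv.refl _))
    have hl : ∀ j s, φ.symm (finSumFinEquiv (Sum.inl j), s) = Sum.inl (ea.symm (j, s)) := fun j s => by
      rw [Equiv.symm_apply_eq]
      simp only [φ, Equiv.trans_apply, Equiv.sumCongr_apply, Sum.map_inl, Equiv.apply_symm_apply,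
        Equiv.sumProdDistrib_symm_apply_left, Equiv.prodCongr_apply, Prod.map, Equiv.refl_apply]
    have hr' : ∀ j s, φ.symm (finSumFinEquiv (Sum.inr j), s) = Sum.inr (eb.symm (j, s)) := fun j s => by
      rw [Equiv.symm_apply_eq]
      simp only [φ, Equiv.trans_apply, Equiv.sumCongr_apply, Sum.map_inr, Equiv.apply_symm_apply,
        Equiv.sumProdDistrib_symm_apply_right, Equiv.prodCongr_apply, Prod.map, Equiv.refl_apply]
    refine exists_conj_similitude hf _ (bp.reindex φ) (Units.mk0 z hz) fun i => ?_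
    obtain ⟨j, rfl⟩ := finSumFinEquiv.surjective i
    rcases j with j | j
    · refine ⟨c, 0, 0, c, ?_, ?_, by rw [Units.val_mk0, ← hc]; ring⟩ <;>
        rw [Basis.reindex_apply, Basis.reindex_apply, hl, hl, zero_smul]
      · rw [add_zero]; exact hbp (Sum.inl (ea.symm (j, 0)))
      · rw [zero_add]; exact hbp (Sum.inl (ea.symm (j, 1)))
    · refine ⟨-c, 0, 0, -c, ?_, ?_, by rw [Units.val_mk0, ← hc]; ring⟩ <;>
        rw [Basis.reindex_apply, Basis.reindex_apply, hr', hr', zero_smul]
      · rw [add_zero]; exact hbp (Sum.inr (eb.symm (j, 0)))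
      · rw [zero_add]; exact hbp (Sum.inr (eb.symm (j, 1)))
  · -- swapped pairs and single lines in characteristic two
    obtain ⟨k, r, b, h0, h1, hr⟩ := exists_pair_basis_norm T z hz hTT
    have hsum := finrank_eq_card_basis b
    rw [finrank_pi, Fintype.card_fin, Fintype.card_sum, Fintype.card_prod, Fintype.card_fin, Fintype.card_fin,
      Fintype.card_fin] at hsum
    obtain ⟨n', hn'⟩ := he
    obtain ⟨r', hr'⟩ : ∃ r', r = r' * 2 := ⟨n' - k, by omega⟩
    let φ : (Fin k × Fin 2) ⊕ Fin r ≃ Fin (k + r') × Fin 2 :=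
      (((Equiv.refl _).sumCongr ((finCongr hr').trans finProdFinEquiv.symm)).trans
        (Equiv.sumProdDistrib _ _ _).symm).trans (finSumFinEquiv.prodCongr (Equiv.refl _))
    have hl : ∀ j s, φ.symm (finSumFinEquiv (Sum.inl j), s) = Sum.inl (j, s) := fun j s => by
      rw [Equiv.symm_apply_eq]
      simp only [φ, Equiv.trans_apply, Equiv.sumCongr_apply, Sum.map_inl, Equiv.refl_apply,
        Equiv.sumProdDistrib_symm_apply_left, Equiv.prodCongr_apply, Prod.map]
    have hr'' : ∀ j s, φ.symm (finSumFinEquiv (Sum.inr j), s) =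
        Sum.inr (((finCongr hr').trans finProdFinEquiv.symm).symm (j, s)) := fun j s => by
      rw [Equiv.symm_apply_eq]
      simp only [φ, Equiv.trans_apply, Equiv.sumCongr_apply, Sum.map_inr, Equiv.apply_symm_apply,
        Equiv.sumProdDistrib_symm_apply_right, Equiv.prodCongr_apply, Prod.map, Equiv.refl_apply]
    refine exists_conj_similitude hf _ (b.reindex φ) (Units.mk0 (-z) (neg_ne_zero.2 hz)) fun i => ?_
    obtain ⟨j, rfl⟩ := finSumFinEquiv.surjective i
    rcases j with j | j
    · refine ⟨0, z, 1, 0, ?_, ?_, by rw [Units.val_mk0]; ring⟩ <;>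
        rw [Basis.reindex_apply, Basis.reindex_apply, hl, hl, zero_smul]
      · rw [one_smul, zero_add]; exact h0 j
      · rw [add_zero]; exact h1 j
    · obtain ⟨c, hc, hcb⟩ := hr (((finCongr hr').trans finProdFinEquiv.symm).symm (j, 0))
      obtain ⟨c', hc', hcb'⟩ := hr (((finCongr hr').trans finProdFinEquiv.symm).symm (j, 1))
      have h2 : (2 : F) = 0 := by
        by_contra h2
        exact hS ⟨h2, c, hc⟩
      have hcc : c = c' := by
        rcases mul_self_eq_mul_self_iff.1 (hc.trans hc'.symm) with h | h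
        · exact h
        · linear_combination h - c' * h2
      refine ⟨c, 0, 0, c', ?_, ?_, by rw [Units.val_mk0, ← hcc]; linear_combination hc + z * h2⟩ <;>
        rw [Basis.reindex_apply, Basis.reindex_apply, hr'', hr'', zero_smul]
      · rw [add_zero]; exact hcb
      · rw [zero_add]; exact hcb'

theorem exists_no_similitude {n : ℕ} (hn : 4 ≤ n) {f : (Fin n → F) → (Fin n → F) → F}
    (hf : Cfsg.Geo.IsSymplecticForm f) (hv : padicValNat 2 n < padicValNat 2 (Fintype.card F - 1)) :
    ∃ (x : Matrix.SpecialLinearGroup (Fin n) F) (z : F),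
      ((x ^ 2 : Matrix.SpecialLinearGroup (Fin n) F) : Matrix (Fin n) (Fin n) F) = z • 1 ∧
      (∀ z : F, (x : Matrix (Fin n) (Fin n) F) ≠ z • 1) ∧
      ∀ P : GL (Fin n) F, P⁻¹ * Matrix.SpecialLinearGroup.toGL x * P ∉ Cfsg.Geo.similarityGroup f := by
  classical
  haveI := Fact.mk Nat.prime_two
  have h2 : (2 : F) ≠ 0 := fun h => by
    have : CharP F 2 := CharTwo.of_one_ne_zero_of_two_eq_zero one_ne_zero h
    obtain ⟨k, -, hk⟩ := FiniteField.card F 2
    have h1 : ¬ 2 ∣ 2 ^ (k : ℕ) - 1 := by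
      have h3 := dvd_pow_self 2 k.ne_zero
      have h4 : 0 < 2 ^ (k : ℕ) := by positivity
      omega
    rw [hk, padicValNat.eq_zero_of_not_dvd h1] at hv
    omega
  obtain ⟨c, hc⟩ := exists_pow_eq_neg_one (F := F) h2 (n := n) (by omega) hv
  have hc0 : c ≠ 0 := fun h => by
    rw [h, zero_pow (by omega)] at hc
    simp at hc
  let i0 : Fin n := ⟨0, by omega⟩
  let d : Fin n → F := fun i => if i = i0 then -c else c
  have hdet : (Matrix.diagonal d).det = 1 := by
    rw [Matrix.det_diagonal, ← Finset.mul_prod_erase _ _ (Finset.mem_univ i0)]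
    rw [Finset.prod_congr rfl (fun i hi => show d i = c by simp [d, Finset.ne_of_mem_erase hi]),
      Finset.prod_const, Finset.card_erase_of_mem (Finset.mem_univ _), Finset.card_univ, Fintype.card_fin,
      show d i0 = -c by simp [d], neg_mul, ← pow_succ', Nat.sub_add_cancel (by omega), hc, neg_neg]
  let x : Matrix.SpecialLinearGroup (Fin n) F := ⟨_, hdet⟩
  refine ⟨x, c * c, ?_, fun z hz => ?_, fun P hP => ?_⟩
  · rw [pow_two]
    show Matrix.diagonal d * Matrix.diagonal d = _
    rw [Matrix.diagonal_mul_diagonal, ← Matrix.diagonal_one, ← Matrix.diagonal_smul]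
    congr 1
    funext i
    simp only [d, Pi.smul_apply, smul_eq_mul, mul_one]
    split_ifs <;> ring
  · have e0 := congrFun (congrFun hz i0) i0
    have e1 := congrFun (congrFun hz ⟨1, by omega⟩) ⟨1, by omega⟩
    simp [x, d, i0] at e0 e1
    exact mul_ne_zero h2 hc0 (by linear_combination e1 - e0)
  · obtain ⟨μ, hμ⟩ := hP
    let e : Fin n → (Fin n → F) := fun i => ((P⁻¹ : GL (Fin n) F) : Matrix (Fin n) (Fin n) F) *ᵥ Pi.single i 1
    have he : ∀ i, ((P⁻¹ * Matrix.SpecialLinearGroup.toGL x * P : GL (Fin n) F) : Matrix (Fin n) (Fin n) F) *ᵥ e i =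
        d i • e i := fun i => by
      show _ *ᵥ _ = d i • (_ *ᵥ _)
      rw [Matrix.mulVec_mulVec, ← Units.val_mul, mul_inv_cancel_right, Units.val_mul, ← Matrix.mulVec_mulVec,
        ← Matrix.mulVec_smul]
      congr 1
      show Matrix.diagonal d *ᵥ Pi.single i 1 = _
      rw [Matrix.diagonal_mulVec_single, ← Pi.single_smul', smul_eq_mul]
    have hrel : ∀ i j, d i * d j * f (e i) (e j) = μ * f (e i) (e j) := fun i j => by
      rw [← hμ, he, he, hf.bilinear.smul_left, hf.bilinear.smul_right, mul_assoc]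
    have hPe : ∀ i, (P : Matrix (Fin n) (Fin n) F) *ᵥ e i = Pi.single i 1 := fun i => by
      show _ *ᵥ (_ *ᵥ _) = _
      rw [Matrix.mulVec_mulVec, ← Units.val_mul, mul_inv_cancel, Units.val_one, Matrix.one_mulVec]
    have hne : ∀ i, e i ≠ 0 := fun i h => by
      have := congrFun (hPe i) i
      rw [h, Matrix.mulVec_zero, Pi.single_eq_same, Pi.zero_apply] at this
      exact zero_ne_one this
    have hspan : ∀ v, v ∈ Submodule.span F (Set.range e) := fun v => by
      have : v = ∑ i, ((P : Matrix (Fin n) (Fin n) F) *ᵥ v) i • e i := by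
        simp only [e, ← Matrix.mulVec_smul, ← Matrix.mulVec_sum]
        rw [show (∑ i, ((P : Matrix (Fin n) (Fin n) F) *ᵥ v) i • Pi.single i (1 : F)) =
            (P : Matrix (Fin n) (Fin n) F) *ᵥ v from (pi_eq_sum_univ' _).symm,
          Matrix.mulVec_mulVec, ← Units.val_mul, inv_mul_cancel, Units.val_one, Matrix.one_mulVec]
      rw [this]
      exact Submodule.sum_mem _ fun i _ => Submodule.smul_mem _ _ (Submodule.subset_span ⟨i, rfl⟩)
    let B : (Fin n → F) →ₗ[F] (Fin n → F) →ₗ[F] F :=
      LinearMap.mk₂ F f hf.bilinear.add_left (fun c x v => by rw [hf.bilinear.smul_left, smul_eq_mul])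
        hf.bilinear.add_right (fun c v x => by rw [hf.bilinear.smul_right, smul_eq_mul])
    have hrad : ∀ u, (∀ i, f u (e i) = 0) → u = 0 := fun u hu => by
      by_contra h
      obtain ⟨w, hw⟩ := (hf.nondegenerate u h).2
      exact hw ((Submodule.span_le.2 (by rintro _ ⟨i, rfl⟩; exact hu i) :
        Submodule.span F (Set.range e) ≤ LinearMap.ker (B u)) (hspan w))
    obtain ⟨j, hj0, hj⟩ : ∃ j, j ≠ i0 ∧ f (e i0) (e j) ≠ 0 := by
      by_contra h
      push Not at h
      refine hne i0 (hrad _ fun i => ?_)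
      rcases eq_or_ne i i0 with rfl | hi
      · exact hf.alternating _
      · exact h i hi
    have hμ' : (μ : F) = -c * c := by
      have := mul_right_cancel₀ hj (hrel i0 j)
      simpa [d, hj0] using this.symm
    have hE : ∀ i k, i ≠ i0 → k ≠ i0 → f (e i) (e k) = 0 := fun i k hi hk => by
      by_contra h
      have := mul_right_cancel₀ h (hrel i k)
      rw [hμ', show d i = c by simp [d, hi], show d k = c by simp [d, hk]] at this
      exact mul_ne_zero h2 (mul_ne_zero hc0 hc0) (by linear_combination this)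
    obtain ⟨l, hl0, hlj⟩ : ∃ l, l ≠ i0 ∧ l ≠ j := by
      by_cases h1 : j = ⟨1, by omega⟩
      · exact ⟨⟨2, by omega⟩, by simp [i0], by simp [h1]⟩
      · exact ⟨⟨1, by omega⟩, by simp [i0], fun h => h1 h.symm⟩
    have hu := hrad (f (e i0) (e l) • e j + (-f (e i0) (e j)) • e l) fun i => by
      rw [hf.bilinear.add_left, hf.bilinear.smul_left, hf.bilinear.smul_left]
      rcases eq_or_ne i i0 with rfl | hi
      · rw [hf.skew (e j), hf.skew (e l)]
        ring
      · rw [hE j i hj0 hi, hE l i hl0 hi]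
        ring
    have := congrArg (fun v => ((P : Matrix (Fin n) (Fin n) F) *ᵥ v) l) hu
    simp only [Matrix.mulVec_add, Matrix.mulVec_smul, hPe, Matrix.mulVec_zero] at this
    simp [Pi.single_apply, hlj] at this
    exact hj this

end CfsgLib.Geo.InvClass
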