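/-
Stabilisers of totally isotropic and of nondegenerate subspaces are maximal in the symplectic groups.
-/
import Cfsg.Agent.Lib.Classical.Symplectic.Geometry
import Cfsg.Prelude.Def_GeometricClasses

set_option autoImplicit false

namespace CfsgLib.Geo.SympMax

open LinearMap (BilinForm)
open CfsgLib.Classical CfsgLib.Classical.Symp

variable {F : Type*} [Field F] {V : Type*} [AddCommGroup V] [Module F V] {B : BilinForm F V}

/-- The stabiliser in `Sp B` of a subspace. -/
abbrev stab (B : BilinForm F V) (W : Submodule F V) : Subgroup (Sp B) := isoStab (fun u v => B u v) W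

theorem mem_stab_of_maps [FiniteDimensional F V] {W : Submodule F V} {g : Sp B}
    (h : ∀ x ∈ W, (g : V ≃ₗ[F] V) x ∈ W) : g ∈ stab B W := by
  intro x
  refine ⟨h x, fun hx => ?_⟩
  obtain ⟨⟨w, hw⟩, hw'⟩ := LinearMap.injective_iff_surjective.1
    (show Function.Injective (((g : V ≃ₗ[F] V) : V →ₗ[F] V).restrict h) from fun a b hab =>
      Subtype.ext ((g : V ≃ₗ[F] V).injective (congrArg Subtype.val hab))) ⟨_, hx⟩
  rwa [← (g : V ≃ₗ[F] V).injective (congrArg Subtype.val hw')]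

theorem tr_mem_stab [FiniteDimensional F V] (hA : B.IsAlt) {W : Submodule F V} {v : V}
    (hv : v ∈ W ∨ v ∈ B.orthogonal W) (c : F) : tr hA v c ∈ stab B W := by
  refine mem_stab_of_maps fun x hx => ?_
  rw [tr_apply]
  rcases hv with hv | hv
  · exact W.add_mem hx (W.smul_mem _ hv)
  · rw [mem_orthogonal.1 hv x hx, mul_zero, zero_smul, add_zero]
    exact hx

theorem trGroup_le_stab [FiniteDimensional F V] (hA : B.IsAlt) {W U : Submodule F V}
    (hU : ∀ v ∈ U, v ∈ W ∨ v ∈ B.orthogonal W) : trGroup hA U ≤ stab B W := by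
  refine (Subgroup.closure_le _).2 ?_
  rintro _ ⟨v, hv, c, rfl⟩
  exact tr_mem_stab hA (hU v hv) c

theorem eq_top_of_tr [FiniteDimensional F V] (hA : B.IsAlt) (hB : B.Nondegenerate) {K : Subgroup (Sp B)}
    (h : ∀ v c, tr hA v c ∈ K) : K = ⊤ := by
  rw [eq_top_iff, ← trGroup_eq_top hA hB]
  refine (Subgroup.closure_le K).2 ?_
  rintro _ ⟨v, -, c, rfl⟩
  exact h v c

theorem tr_mem_of_conj (hA : B.IsAlt) {K : Subgroup (Sp B)} {g : Sp B} (hg : g ∈ K) {v : V}
    (h : ∀ c, tr hA v c ∈ K) (c : F) : tr hA ((g : V ≃ₗ[F] V) v) c ∈ K := by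
  rw [← conj_tr]
  exact K.mul_mem (K.mul_mem hg (h c)) (K.inv_mem hg)

theorem stab_ne_top [FiniteDimensional F V] (hA : B.IsAlt) (hB : B.Nondegenerate) {W : Submodule F V}
    (h0 : W ≠ ⊥) (h1 : W ≠ ⊤) : stab B W ≠ ⊤ := by
  intro h
  obtain ⟨w, hw, hw0⟩ := Submodule.exists_mem_ne_zero_of_ne_bot h0
  obtain ⟨y, hy⟩ : ∃ y, y ∉ W := by
    by_contra! hc
    exact h1 (Submodule.eq_top_iff'.2 hc)
  obtain ⟨t, -, ht⟩ := sp_transitive_ne_zero hA hB hw0 (show y ≠ 0 from fun e => hy (e ▸ W.zero_mem))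
  have ht' : t ∈ stab B W := h ▸ Subgroup.mem_top t
  exact hy (ht ▸ (ht' w).1 hw)

theorem exists_orth_moved [FiniteDimensional F V] (hA : B.IsAlt) (hB : B.Nondegenerate) {W : Submodule F V}
    {g : Sp B} (hg : g ∉ stab B W) :
    ∃ u ∈ B.orthogonal W, (g : V ≃ₗ[F] V) u ∉ B.orthogonal W := by
  by_contra! h
  refine hg (mem_stab_of_maps fun w hw => ?_)
  have hgo : g ∈ stab B (B.orthogonal W) := mem_stab_of_maps h
  rw [← LinearMap.BilinForm.orthogonal_orthogonal hB hA.isRefl W, mem_orthogonal]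
  intro y hy
  obtain ⟨x, rfl⟩ := (g : V ≃ₗ[F] V).surjective y
  have hx : x ∈ B.orthogonal W := (hgo x).2 hy
  refine (g.2 x w).trans ?_
  show B x w = 0
  rw [swap hA w x, mem_orthogonal.1 hx w hw, neg_zero]

theorem transitive_outside [FiniteDimensional F V] (hA : B.IsAlt) (hB : B.Nondegenerate) {W : Submodule F V}
    (hW : ∀ u ∈ W, ∀ v ∈ W, B u v = 0) {v v' : V} (hv : v ∉ B.orthogonal W) (hv' : v' ∉ B.orthogonal W) :
    ∃ g ∈ stab B W, (g : V ≃ₗ[F] V) v = v' := by
  classical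
  have same : ∀ v v', v ∉ B.orthogonal W → (∀ w ∈ W, B v w = B v' w) →
      ∃ g ∈ stab B W, (g : V ≃ₗ[F] V) v = v' := by
    intro v v' hv heq
    have hsub : v' - v ∈ B.orthogonal W := mem_orthogonal.2 fun w hw => by
      rw [map_sub, swap hA v w, swap hA v' w, heq w hw, sub_self]
    have key : ∀ a b, b - a ∈ B.orthogonal W → B a b ≠ 0 → ∃ g ∈ stab B W, (g : V ≃ₗ[F] V) a = b := by
      intro a b hab hne
      refine ⟨tr hA (b - a) (B a b)⁻¹, tr_mem_stab hA (Or.inr hab) _, ?_⟩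
      simp [tr_apply, map_sub, hA a, hne]
    by_cases hne : B v v' = 0
    · obtain ⟨w, hw, hvw⟩ : ∃ w ∈ W, B v w ≠ 0 := by
        by_contra! hc
        exact hv (mem_orthogonal.2 fun w hw => by rw [swap hA v w, hc w hw, neg_zero])
      have hwo : w ∈ B.orthogonal W := mem_orthogonal.2 fun u hu => hW u hu w hw
      obtain ⟨g, hg, hgv⟩ := key v (v + w) (by rwa [add_sub_cancel_left])
        (by rw [map_add, hA v, zero_add]; exact hvw)
      obtain ⟨g', hg', hgv'⟩ := key (v + w) v' (by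
          rw [sub_add_eq_sub_sub]; exact Submodule.sub_mem _ hsub hwo)
        (by rw [map_add, LinearMap.add_apply, hne, zero_add, swap hA v' w, ← heq w hw, neg_ne_zero]; exact hvw)
      exact ⟨g' * g, mul_mem hg' hg, by simp [hgv, hgv']⟩
    · exact key v v' hsub hne
  let φ : Module.Dual F W := (B v).comp W.subtype
  let φ' : Module.Dual F W := (B v').comp W.subtype
  have hne : ∀ a, a ∉ B.orthogonal W → ∃ w : W, B a w = 1 := by
    intro a ha
    obtain ⟨w, hw, haw⟩ : ∃ w ∈ W, B a w ≠ 0 := by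
      by_contra! hc
      exact ha (mem_orthogonal.2 fun w hw => by rw [swap hA a w, hc w hw, neg_zero])
    exact ⟨⟨(B a w)⁻¹ • w, W.smul_mem _ hw⟩, by simp [haw]⟩
  obtain ⟨w0, hw0⟩ := hne v hv
  obtain ⟨w1, hw1⟩ := hne v' hv'
  have hφ0 : φ w0 = 1 := hw0
  have hφ1 : φ' w1 = 1 := hw1
  have hker : Module.finrank F (LinearMap.ker φ) = Module.finrank F (LinearMap.ker φ') := by
    have h1 := LinearMap.finrank_range_add_finrank_ker φ
    have h2 := LinearMap.finrank_range_add_finrank_ker φ'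
    rw [LinearMap.range_eq_top.2 (show Function.Surjective φ from fun c => ⟨c • w0, by simp [hφ0]⟩), finrank_top] at h1
    rw [LinearMap.range_eq_top.2 (show Function.Surjective φ' from fun c => ⟨c • w1, by simp [hφ1]⟩), finrank_top] at h2
    omega
  let e := LinearEquiv.ofFinrankEq (LinearMap.ker φ) (LinearMap.ker φ') hker
  let π : W →ₗ[F] LinearMap.ker φ := (LinearMap.id - φ.smulRight w0).codRestrict _ fun x => by
    simp [hφ0]
  let A : W →ₗ[F] W := (LinearMap.ker φ').subtype ∘ₗ e.toLinearMap ∘ₗ π + φ.smulRight w1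
  have hA1 : ∀ x, φ' (A x) = φ x := fun x => by
    have h : φ' (e (π x) : W) = 0 := (e (π x)).2
    simp [A, hφ1, h]
  have hAinj : Function.Injective A := by
    rw [injective_iff_map_eq_zero]
    intro x hx
    have h0 : φ x = 0 := by rw [← hA1, hx, map_zero]
    have h1 : (e (π x) : W) = 0 := by
      have := hx
      simpa [A, h0] using this
    have h2 : π x = 0 := e.map_eq_zero_iff.1 (Subtype.ext h1)
    have h3 : x - φ x • w0 = 0 := congrArg Subtype.val h2
    simpa [h0] using h3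
  let b := Module.finBasis F W
  have hb : (fun i => (b i : V)) ∈ isoTuples B (Module.finrank F W) :=
    ⟨b.linearIndependent.map' W.subtype W.ker_subtype, fun i j => hW _ (b i).2 _ (b j).2⟩
  have hb' : (fun i => (A (b i) : V)) ∈ isoTuples B (Module.finrank F W) :=
    ⟨(b.linearIndependent.map' A (LinearMap.ker_eq_bot.2 hAinj)).map' W.subtype W.ker_subtype,
      fun i j => hW _ (A (b i)).2 _ (A (b j)).2⟩
  obtain ⟨g, hg⟩ := exists_map_isoTuples hA hB hb hb'
  have hgA : ∀ w : W, (g : V ≃ₗ[F] V) w = A w := by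
    have : ((g : V ≃ₗ[F] V) : V →ₗ[F] V) ∘ₗ W.subtype = W.subtype ∘ₗ A := b.ext hg
    exact fun w => LinearMap.congr_fun this w
  have hgs : g ∈ stab B W := mem_stab_of_maps fun x hx => by rw [hgA ⟨x, hx⟩]; exact (A _).2
  have hsurj := LinearMap.injective_iff_surjective.1 hAinj
  have hgv : ∀ w ∈ W, B ((g : V ≃ₗ[F] V) v) w = B v' w := by
    intro w hw
    obtain ⟨x, hx⟩ := hsurj ⟨w, hw⟩
    have h1 : (A x : V) = w := congrArg Subtype.val hx
    rw [← h1]
    conv_lhs => rw [← hgA x]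
    exact (g.2 v x).trans (hA1 x).symm
  have hgo : (g : V ≃ₗ[F] V) v ∉ B.orthogonal W := by
    intro h
    refine hv' (mem_orthogonal.2 fun w hw => ?_)
    rw [swap hA v' w, ← hgv w hw, swap hA w ((g : V ≃ₗ[F] V) v), neg_neg, mem_orthogonal.1 h w hw]
  obtain ⟨g', hg', hg'v⟩ := same _ v' hgo hgv
  exact ⟨g' * g, mul_mem hg' hgs, by simpa using hg'v⟩

theorem isCoatom_stab_singular [FiniteDimensional F V] (hA : B.IsAlt) (hB : B.Nondegenerate) {W : Submodule F V}
    (h0 : W ≠ ⊥) (hW : ∀ u ∈ W, ∀ v ∈ W, B u v = 0) : IsCoatom (stab B W) := by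
  refine ⟨stab_ne_top hA hB h0 ?_, fun K hK => ?_⟩
  · rintro rfl
    obtain ⟨w, -, hw⟩ := Submodule.exists_mem_ne_zero_of_ne_bot h0
    exact hw (hB.1 w fun y => hW w trivial y trivial)
  · obtain ⟨g, hgK, hg⟩ := SetLike.exists_of_lt hK
    obtain ⟨u, hu, hgu⟩ := exists_orth_moved hA hB hg
    refine eq_top_of_tr hA hB fun v c => ?_
    by_cases hv : v ∈ B.orthogonal W
    · exact hK.le (tr_mem_stab hA (Or.inr hv) c)
    · obtain ⟨s, hs, hsv⟩ := transitive_outside hA hB hW hgu hv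
      rw [← hsv]
      exact tr_mem_of_conj hA (hK.le hs)
        (tr_mem_of_conj hA hgK fun c => hK.le (tr_mem_stab hA (Or.inr hu) c)) c

theorem isCoatom_stab_nondeg [FiniteDimensional F V] (hA : B.IsAlt) (hB : B.Nondegenerate) {W : Submodule F V}
    (h0 : W ≠ ⊥) (hW : ∀ x ∈ W, (∀ y ∈ W, B x y = 0) → x = 0)
    (hdim : 2 * Module.finrank F W < Module.finrank F V) : IsCoatom (stab B W) := by
  refine ⟨stab_ne_top hA hB h0 ?_, fun K hK => ?_⟩
  · rintro rfl
    rw [finrank_top] at hdim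
    omega
  · obtain ⟨hc, hU⟩ := nondeg_orthogonal hA hB hW
    set U := B.orthogonal W
    have hfin := Submodule.finrank_add_eq_of_isCompl hc
    obtain ⟨g, hgK, hg⟩ := SetLike.exists_of_lt hK
    obtain ⟨u₀, hu₀, hgu₀⟩ := exists_orth_moved hA hB hg
    obtain ⟨u, hu, hguW, hguU⟩ : ∃ u ∈ U, (g : V ≃ₗ[F] V) u ∉ W ∧ (g : V ≃ₗ[F] V) u ∉ U := by
      by_contra! hcon
      have hu₀W : (g : V ≃ₗ[F] V) u₀ ∈ W := by
        by_contra h
        exact hgu₀ (hcon u₀ hu₀ h)
      have hall : ∀ x ∈ U, (g : V ≃ₗ[F] V) x ∈ W := by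
        intro x hx
        by_contra h
        by_cases h' : (g : V ≃ₗ[F] V) (x + u₀) ∈ W
        · rw [map_add] at h'
          exact h ((W.add_mem_iff_left hu₀W).1 h')
        · have h'' := hcon _ (U.add_mem hx hu₀) h'
          rw [map_add] at h''
          exact hgu₀ ((U.add_mem_iff_right (hcon x hx h)).1 h'')
      have hle : U.map ((g : V ≃ₗ[F] V) : V →ₗ[F] V) ≤ W := by
        rintro _ ⟨x, hx, rfl⟩
        exact hall x hx
      have := Submodule.finrank_mono hle
      rw [LinearEquiv.finrank_map_eq] at this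
      omega
    set z := (g : V ≃ₗ[F] V) u
    have hz : ∀ c, tr hA z c ∈ K := fun c =>
      tr_mem_of_conj hA hgK (fun c => hK.le (tr_mem_stab hA (Or.inr hu) c)) c
    obtain ⟨a, b, ha, hb, hab⟩ := Submodule.codisjoint_iff_exists_add_eq.1 hc.codisjoint z
    have ha0 : a ≠ 0 := by
      rintro rfl
      exact hguU (by rw [← hab, zero_add]; exact hb)
    have hb0 : b ≠ 0 := by
      rintro rfl
      exact hguW (by rw [← hab, add_zero]; exact ha)
    refine eq_top_of_tr hA hB fun v c => ?_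
    obtain ⟨a', b', ha', hb', rfl⟩ := Submodule.codisjoint_iff_exists_add_eq.1 hc.codisjoint v
    rcases eq_or_ne a' 0 with rfl | ha'0
    · exact hK.le (tr_mem_stab hA (Or.inr (by rwa [zero_add])) c)
    rcases eq_or_ne b' 0 with rfl | hb'0
    · exact hK.le (tr_mem_stab hA (Or.inl (by rwa [add_zero])) c)
    obtain ⟨s, hs, hsa⟩ := transitive_ne_zero hA hW ha ha' ha0 ha'0
    obtain ⟨t, ht, htb⟩ := transitive_ne_zero hA hU hb hb' hb0 hb'0
    have hsb : (s : V ≃ₗ[F] V) b = b := trGroup_fix hA hs fun w hw => by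
      rw [swap hA w b, mem_orthogonal.1 hb w hw, neg_zero]
    have hta : (t : V ≃ₗ[F] V) a' = a' := trGroup_fix hA ht fun w hw => mem_orthogonal.1 hw a' ha'
    have hst : ((t * s : Sp B) : V ≃ₗ[F] V) z = a' + b' := by
      rw [← hab]
      simp [hsa, hsb, htb, hta]
    rw [← hst]
    refine tr_mem_of_conj hA (K.mul_mem (hK.le ?_) (hK.le ?_)) hz c
    · exact trGroup_le_stab hA (fun w hw => Or.inr hw) ht
    · exact trGroup_le_stab hA (fun w hw => Or.inl hw) hs

theorem isMaximalIn_of_isCoatom {G : Type*} [Group G] {S H : Subgroup G}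
    (h : IsCoatom ((H ⊓ S).subgroupOf S)) : Cfsg.Geo.IsMaximalIn S (H ⊓ S) := by
  refine ⟨lt_of_le_of_ne inf_le_right fun e => h.1 (by rw [e, Subgroup.subgroupOf_self]), fun M hM hMS => ?_⟩
  rcases eq_or_lt_of_le (Subgroup.comap_mono hM : (H ⊓ S).subgroupOf S ≤ M.subgroupOf S) with e | e
  · refine Or.inl (le_antisymm (fun x hx => ?_) hM)
    have hx' : (⟨x, hMS hx⟩ : S) ∈ (H ⊓ S).subgroupOf S := by
      rw [show (H ⊓ S).subgroupOf S = M.subgroupOf S from e]
      exact hx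
    exact hx'
  · exact Or.inr (le_antisymm hMS (Subgroup.subgroupOf_eq_top.1 (h.2 _ e)))

variable {m : ℕ}

theorem isMaximalIn_spGL (W : Submodule F (Fin m ⊕ Fin m → F))
    (h : IsCoatom (stab (sympBil m F) W)) :
    Cfsg.Geo.IsMaximalIn (Cfsg.spGL m F) (Cfsg.Geo.subspaceStabilizer W ⊓ Cfsg.spGL m F) := by
  refine isMaximalIn_of_isCoatom ?_
  let e : Cfsg.spGL m F ≃* Sp (sympBil m F) :=
    (preservingEquivIso (Cfsg.sympForm m F)).trans (MulEquiv.subgroupCongr (iso_sympForm_eq m F))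
  have he : ((Cfsg.Geo.subspaceStabilizer W ⊓ Cfsg.spGL m F).subgroupOf (Cfsg.spGL m F)) =
      e.mapSubgroup.symm (stab (sympBil m F) W) := by
    ext g
    rw [MulEquiv.symm_mapSubgroup, MulEquiv.mapSubgroup_apply, Subgroup.mem_subgroupOf, Subgroup.mem_map]
    exact ⟨fun hg => ⟨e g, hg.1, e.symm_apply_apply g⟩,
      fun ⟨u, hu, hug⟩ => ⟨by rw [← hug]; intro v; exact (hu v).trans (by
        conv_lhs => rw [← e.apply_symm_apply u]
        rfl), g.2⟩⟩
  rw [he]
  exact (OrderIso.isCoatom_iff e.mapSubgroup.symm _).2 h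

end CfsgLib.Geo.SympMax
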