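/-
Two-groups of symplectic type in four dimensions: frames and elements of odd order in their normalisers.
-/
import Cfsg.Agent.Lib.Techniques.SymplecticExponentFour
import Cfsg.Agent.Lib.Core.FixedHalf.Symplectic
import Cfsg.Agent.Lib.Geo.Asch.Irred
import Cfsg.Agent.Lib.Geo.Asch.SpCoords

set_option autoImplicit false

namespace CfsgLib.Geo.Pauli

open Matrix Cfsg.Geo
open scoped commutatorElement

variable {ι : Type} [Fintype ι] [DecidableEq ι] {F : Type*} [Field F]

/-- A group of matrices commuting up to sign with squares `±1`, of index 16 over its scalars, in dimension four. -/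
structure IsPauli (R : Subgroup (GL ι F)) : Prop where
  card4 : Fintype.card ι = 4
  two : (2 : F) ≠ 0
  abs : ActsAbsolutelyIrreducibly (matrixSet R)
  fin : Finite R
  sign : ∀ a ∈ R, ∀ b ∈ R, a * b = b * a ∨ a * b = -(b * a)
  sq : ∀ a ∈ R, a * a = 1 ∨ a * a = -1
  index : Nat.card (↥R ⧸ Subgroup.center R) = 16

variable {R : Subgroup (GL ι F)}

theorem scalar_comm {c : GL ι F} (hc : c ∈ scalars ι F) (u : GL ι F) : c * u = u * c := by
  obtain ⟨d, hd⟩ := (mem_scalars_iff c).1 hc
  exact Units.ext (by simp [hd])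

theorem scalars_le_normalizer (R : Subgroup (GL ι F)) : scalars ι F ≤ subgroupNormalizer R := fun c hc =>
  Subgroup.mem_normalizer_iff.2 fun u => by rw [scalar_comm hc u, mul_inv_cancel_right]

theorem trace_zero_of_anticommute (h2 : (2 : F) ≠ 0) (c : GL ι F) {M : Matrix ι ι F}
    (h : (c : Matrix ι ι F) * M = -(M * c)) : M.trace = 0 := by
  have e : M = -(((c⁻¹ : GL ι F) : Matrix ι ι F) * M * c) := by
    rw [mul_assoc, ← mul_neg, ← h, ← mul_assoc, Units.inv_mul, one_mul]
  have h1 := congrArg Matrix.trace e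
  rw [trace_neg, trace_mul_cycle, Units.mul_inv, one_mul] at h1
  exact (mul_eq_zero.1 (show (2 : F) * M.trace = 0 by linear_combination h1)).resolve_left h2

namespace IsPauli

variable (h : IsPauli R)

include h in
theorem nonempty : Nonempty ι := Fintype.card_pos_iff.1 (by rw [h.card4]; norm_num)

include h in
theorem neg_one_ne : (-1 : GL ι F) ≠ 1 := by
  haveI := h.nonempty
  intro e
  obtain ⟨i⟩ := h.nonempty
  have := congrArg (fun w : GL ι F => (w : Matrix ι ι F) i i) e
  simp at this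
  exact h.two (by linear_combination (-1 : F) * this)

include h in
theorem ne_neg (a : GL ι F) : a ≠ -a := fun e => h.neg_one_ne (by
  have h1 : a * (-1) = a * 1 := by rw [mul_neg, mul_one]; exact e.symm
  exact mul_left_cancel h1)

include h in
theorem not_both {a b : GL ι F} (h1 : a * b = b * a) (h2 : a * b = -(b * a)) : False :=
  h.ne_neg (b * a) (h1.symm.trans h2)

include h in
theorem scalar_of_comm {g : GL ι F} (hg : ∀ n ∈ R, g * n = n * g) : g ∈ scalars ι F := by
  haveI := h.nonempty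
  exact CfsgLib.Geo.Asch.mem_scalars_of_commute h.abs hg

include h in
theorem exists_ac {a : GL ι F} (ha : a ∈ R) (hns : a ∉ scalars ι F) : ∃ b ∈ R, a * b = -(b * a) := by
  by_contra! hc
  exact hns (h.scalar_of_comm fun n hn => (h.sign a ha n hn).resolve_right (hc n hn))

include h in
theorem not_scalar_of_ac {a b : GL ι F} (hab : a * b = -(b * a)) : a ∉ scalars ι F := fun ha =>
  h.not_both (scalar_comm ha b) hab

include h in
theorem mem_center (z : R) : z ∈ Subgroup.center R ↔ (z : GL ι F) ∈ scalars ι F := by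
  constructor
  · exact fun hz => h.scalar_of_comm fun n hn => (congrArg Subtype.val (Subgroup.mem_center_iff.1 hz ⟨n, hn⟩)).symm
  · exact fun hz => Subgroup.mem_center_iff.2 fun g => Subtype.ext (scalar_comm hz (g : GL ι F)).symm

include h in
theorem trace_zero {a : GL ι F} (ha : a ∈ R) (hns : a ∉ scalars ι F) : (a : Matrix ι ι F).trace = 0 := by
  obtain ⟨b, -, hab⟩ := h.exists_ac ha hns
  refine trace_zero_of_anticommute h.two b ?_
  have := congrArg (fun u : GL ι F => -(u : Matrix ι ι F)) hab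
  simpa using this.symm

include h in
theorem neg_one_mem : (-1 : GL ι F) ∈ R := by
  haveI := h.nonempty
  haveI : Nontrivial ι := Fintype.one_lt_card_iff_nontrivial.1 (by rw [h.card4]; norm_num)
  obtain ⟨a, ha, b, hb, hab⟩ := CfsgLib.Geo.Asch.not_abelian_of_absIrred h.abs
  have hab' := (h.sign a ha b hb).resolve_left hab
  have e : a * b * (b * a)⁻¹ = -1 := by rw [hab', neg_mul, mul_inv_cancel]
  exact e ▸ mul_mem (mul_mem ha hb) (inv_mem (mul_mem hb ha))

include h in
theorem neg_mem {a : GL ι F} (ha : a ∈ R) : -a ∈ R := by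
  rw [← neg_one_mul]; exact mul_mem h.neg_one_mem ha

include h in
/-- Outside a given anticommuting pair there is a non-scalar element commuting with both. -/
theorem exists_second {a b : GL ι F} (ha : a ∈ R) (hb : b ∈ R) (hab : a * b = -(b * a)) :
    ∃ c ∈ R, ∃ d ∈ R, c * d = -(d * c) ∧ a * c = c * a ∧ b * c = c * b ∧ a * d = d * a ∧ b * d = d * b := by
  have hba : b * a = -(a * b) := by rw [hab, neg_neg]
  have proj : ∀ g ∈ R, ∃ g' ∈ R, a * g' = g' * a ∧ b * g' = g' * b ∧
      (g' = g ∨ g' = g * a ∨ g' = g * b ∨ g' = g * a * b) := by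
    intro g hg
    rcases h.sign a ha g hg with e1 | e1 <;> rcases h.sign b hb g hg with e2 | e2
    · exact ⟨g, hg, e1, e2, Or.inl rfl⟩
    · refine ⟨g * a, mul_mem hg ha, ?_, ?_, Or.inr (Or.inl rfl)⟩
      · rw [← mul_assoc, e1]
      · rw [← mul_assoc, e2, neg_mul, mul_assoc, hba, mul_neg, neg_neg, mul_assoc]
    · refine ⟨g * b, mul_mem hg hb, ?_, ?_, Or.inr (Or.inr (Or.inl rfl))⟩
      · rw [← mul_assoc, e1, neg_mul, mul_assoc, hab, mul_neg, neg_neg, mul_assoc]
      · rw [← mul_assoc, e2]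
    · refine ⟨g * a * b, mul_mem (mul_mem hg ha) hb, ?_, ?_, Or.inr (Or.inr (Or.inr rfl))⟩
      · calc a * (g * a * b) = a * g * a * b := by group
          _ = -(g * a * a * b) := by rw [e1, neg_mul, neg_mul]
          _ = -(g * a * (a * b)) := by simp only [mul_assoc]
          _ = _ := by rw [hab, mul_neg, neg_neg]; group
      · calc b * (g * a * b) = b * g * a * b := by group
          _ = -(g * (b * a) * b) := by rw [e2, neg_mul, neg_mul, mul_assoc g b a]
          _ = g * a * b * b := by rw [hba, mul_neg, neg_mul, neg_neg]; group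
  obtain ⟨c, hc, hac, hbc, hcns⟩ : ∃ c ∈ R, a * c = c * a ∧ b * c = c * b ∧ c ∉ scalars ι F := by
    by_contra! hc
    have hcov : ∀ g ∈ R, g ∈ scalars ι F ∨ g * a ∈ scalars ι F ∨ g * b ∈ scalars ι F ∨ g * a * b ∈ scalars ι F := by
      intro g hg
      obtain ⟨g', hg', e1, e2, e⟩ := proj g hg
      have := hc g' hg' e1 e2
      rcases e with rfl | rfl | rfl | rfl
      · exact Or.inl this
      · exact Or.inr (Or.inl this)
      · exact Or.inr (Or.inr (Or.inl this))
      · exact Or.inr (Or.inr (Or.inr this))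
    let ψ : Fin 4 → ↥R ⧸ Subgroup.center R := fun i => QuotientGroup.mk
      (![1, (⟨a, ha⟩ : R)⁻¹, (⟨b, hb⟩ : R)⁻¹, ((⟨a, ha⟩ : R) * ⟨b, hb⟩)⁻¹] i)
    have hψ : Function.Surjective ψ := by
      intro q
      induction q using QuotientGroup.induction_on with | H g => ?_
      have key : ∀ u : R, ((g * u : R) : GL ι F) ∈ scalars ι F →
          ((u⁻¹ : R) : ↥R ⧸ Subgroup.center R) = (g : ↥R ⧸ Subgroup.center R) := fun u hu => by
        rw [QuotientGroup.eq, inv_inv]
        have hc := (h.mem_center (g * u)).2 hu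
        rw [show u * g = g⁻¹ * (g * u) * g by group, Subgroup.mem_center_iff.1 hc g⁻¹, mul_assoc, inv_mul_cancel,
          mul_one]
        exact hc
      rcases hcov g g.2 with e | e | e | e
      · exact ⟨0, by simpa [ψ] using key 1 (by simpa using e)⟩
      · exact ⟨1, key ⟨a, ha⟩ e⟩
      · exact ⟨2, key ⟨b, hb⟩ e⟩
      · exact ⟨3, key (⟨a, ha⟩ * ⟨b, hb⟩) (by simpa [mul_assoc] using e)⟩
    have := Nat.card_le_card_of_surjective ψ hψ
    rw [h.index, Nat.card_eq_fintype_card, Fintype.card_fin] at this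
    omega
  obtain ⟨d₀, hd₀, hcd₀⟩ := h.exists_ac hc hcns
  obtain ⟨d, hd, had, hbd, e⟩ := proj d₀ hd₀
  refine ⟨c, hc, d, hd, ?_, hac, hbc, had, hbd⟩
  rcases e with rfl | rfl | rfl | rfl
  · exact hcd₀
  · rw [← mul_assoc, hcd₀, neg_mul, mul_assoc, ← hac, mul_assoc]
  · rw [← mul_assoc, hcd₀, neg_mul, mul_assoc, ← hbc, mul_assoc]
  · calc c * (d₀ * a * b) = c * d₀ * a * b := by group
      _ = -(d₀ * (c * a) * b) := by rw [hcd₀, neg_mul, neg_mul, mul_assoc d₀ c a]
      _ = -(d₀ * a * (c * b)) := by rw [← hac]; simp only [mul_assoc]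
      _ = _ := by rw [← hbc]; simp only [mul_assoc]

end IsPauli

/-- A frame of two commuting anticommuting pairs with prescribed squares. -/
structure Frame (R : Subgroup (GL ι F)) where
  a₁ : GL ι F
  b₁ : GL ι F
  a₂ : GL ι F
  b₂ : GL ι F
  a₁R : a₁ ∈ R
  b₁R : b₁ ∈ R
  a₂R : a₂ ∈ R
  b₂R : b₂ ∈ R
  a₁s : a₁ * a₁ = -1
  b₁s : b₁ * b₁ = -1
  a₂s : a₂ * a₂ = 1
  b₂s : b₂ * b₂ = 1
  ab₁ : a₁ * b₁ = -(b₁ * a₁)
  ab₂ : a₂ * b₂ = -(b₂ * a₂)
  aa : a₁ * a₂ = a₂ * a₁
  ab : a₁ * b₂ = b₂ * a₁
  ba : b₁ * a₂ = a₂ * b₁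
  bb : b₁ * b₂ = b₂ * b₁

namespace IsPauli

variable (h : IsPauli R)

include h in
/-- With a scalar square root of minus one. -/
theorem exists_frame_scalar {i : GL ι F} (hi : i ∈ R) (his : i ∈ scalars ι F) (hii : i * i = -1) :
    Nonempty (Frame R) := by
  haveI := h.nonempty
  haveI : Nontrivial ι := Fintype.one_lt_card_iff_nontrivial.1 (by rw [h.card4]; norm_num)
  obtain ⟨a, ha, b, hb, hab⟩ := CfsgLib.Geo.Asch.not_abelian_of_absIrred h.abs
  have hab' := (h.sign a ha b hb).resolve_left hab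
  obtain ⟨c, hc, d, hd, hcd, hac, hbc, had, hbd⟩ := h.exists_second ha hb hab'
  have hm : ∀ x ∈ R, ∀ ε : GL ι F, (ε = 1 ∨ ε = -1) → ∃ x' ∈ R, x' * x' = ε ∧ (x' = x ∨ x' = i * x) := by
    intro x hx ε hε
    have hix : (i * x) * (i * x) = -(x * x) := by
      calc (i * x) * (i * x) = i * (x * i) * x := by group
        _ = (i * i) * (x * x) := by rw [← scalar_comm his x]; group
        _ = _ := by rw [hii, neg_one_mul]
    rcases h.sq x hx with e | e <;> rcases hε with rfl | rfl
    · exact ⟨x, hx, e, Or.inl rfl⟩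
    · exact ⟨i * x, mul_mem hi hx, by rw [hix, e], Or.inr rfl⟩
    · exact ⟨i * x, mul_mem hi hx, by rw [hix, e, neg_neg], Or.inr rfl⟩
    · exact ⟨x, hx, e, Or.inl rfl⟩
  have hc1 : ∀ x x' y : GL ι F, x * y = -(y * x) → (x' = x ∨ x' = i * x) → x' * y = -(y * x') := by
    rintro x x' y e (rfl | rfl)
    · exact e
    · rw [mul_assoc, e, mul_neg, ← mul_assoc, scalar_comm his y, mul_assoc]
  have hc2 : ∀ x x' y : GL ι F, x * y = y * x → (x' = x ∨ x' = i * x) → x' * y = y * x' := by
    rintro x x' y e (rfl | rfl)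
    · exact e
    · rw [mul_assoc, e, ← mul_assoc, scalar_comm his y, mul_assoc]
  obtain ⟨a', haR, has, hae⟩ := hm a ha (-1) (Or.inr rfl)
  obtain ⟨b', hbR, hbs, hbe⟩ := hm b hb (-1) (Or.inr rfl)
  obtain ⟨c', hcR, hcs, hce⟩ := hm c hc 1 (Or.inl rfl)
  obtain ⟨d', hdR, hds, hde⟩ := hm d hd 1 (Or.inl rfl)
  refine ⟨⟨a', b', c', d', haR, hbR, hcR, hdR, has, hbs, hcs, hds, ?_, ?_, ?_, ?_, ?_, ?_⟩⟩
  · have e := hc1 b b' a' (by rw [hc1 a a' b hab' hae, neg_neg]) hbe
    rw [e, neg_neg]
  · have e := hc1 d d' c' (by rw [hc1 c c' d hcd hce, neg_neg]) hde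
    rw [e, neg_neg]
  · exact (hc2 c c' a' (hc2 a a' c hac hae).symm hce).symm
  · exact (hc2 d d' a' (hc2 a a' d had hae).symm hde).symm
  · exact (hc2 c c' b' (hc2 b b' c hbc hbe).symm hce).symm
  · exact (hc2 d d' b' (hc2 b b' d hbd hbe).symm hde).symm

include h in
/-- No three independent commuting involutions in the minus case. -/
theorem minus_no_triple (hm : IsOfMinusType 2 R) {u v : GL ι F} (hu : u ∈ R) (hv : v ∈ R)
    (huu : u * u = 1) (hvv : v * v = 1) (huv : u * v = v * u)
    (hu1 : u ∉ scalars ι F) (hv1 : v ∉ scalars ι F) (huv1 : u * v ∉ scalars ι F) : False := by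
  haveI := h.fin
  have hn : (-1 : GL ι F) ∈ R := h.neg_one_mem
  let A : Subgroup R := Subgroup.closure ({⟨-1, hn⟩, ⟨u, hu⟩, ⟨v, hv⟩} : Set R)
  have hgen : ∀ x ∈ ({⟨-1, hn⟩, ⟨u, hu⟩, ⟨v, hv⟩} : Set R), ∀ y ∈ ({⟨-1, hn⟩, ⟨u, hu⟩, ⟨v, hv⟩} : Set R),
      x * y = y * x := by
    simp only [Set.mem_insert_iff, Set.mem_singleton_iff]
    rintro x (rfl | rfl | rfl) y (rfl | rfl | rfl) <;> apply Subtype.ext <;> simp [huv]
  have hcomm : IsMulCommutative A := Subgroup.isMulCommutative_closure hgen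
  have hsq : ∀ x ∈ A, x * x = 1 := by
    intro x hx
    induction hx using Subgroup.closure_induction with
    | mem x hx =>
      simp only [Set.mem_insert_iff, Set.mem_singleton_iff] at hx
      rcases hx with rfl | rfl | rfl <;> apply Subtype.ext <;> simp [huu, hvv]
    | one => simp
    | mul x y hx hy ex ey =>
      have e : x * y = y * x := congrArg Subtype.val (hcomm.is_comm.comm ⟨x, hx⟩ ⟨y, hy⟩)
      calc x * y * (x * y) = x * (y * x) * y := by group
        _ = (x * x) * (y * y) := by rw [← e]; group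
        _ = 1 := by rw [ex, ey, one_mul]
    | inv x _ ex => rw [← _root_.mul_inv_rev, ex, inv_one]
  have hlt := hm A hcomm hsq
  have hstep : ∀ K L : Subgroup R, K < L → 2 * Nat.card K ≤ Nat.card L := by
    intro K L hlt
    obtain ⟨c, hc⟩ := Subgroup.card_dvd_of_le hlt.le
    have h1 : c ≠ 1 := fun e => hlt.ne (Subgroup.eq_of_le_of_card_ge hlt.le (by rw [hc, e, mul_one]))
    have h0 : c ≠ 0 := fun e => by rw [e, mul_zero] at hc; exact Nat.card_pos.ne' hc
    rw [hc, mul_comm 2]
    exact Nat.mul_le_mul_left _ (by omega)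
  let Sc : Subgroup R := (scalars ι F).comap R.subtype
  have hneg : (-1 : GL ι F) ∈ scalars ι F := (mem_scalars_iff _).2 ⟨-1, by simp⟩
  let nR : R := ⟨-1, hn⟩
  let uR : R := ⟨u, hu⟩
  let vR : R := ⟨v, hv⟩
  let L₁ : Subgroup R := Subgroup.zpowers nR
  let L₂ : Subgroup R := Subgroup.closure {nR, uR}
  have hL₁ : L₁ ≤ Sc := Subgroup.zpowers_le.2 hneg
  have hnot : vR ∉ L₂ := by
    intro hmem
    let q := QuotientGroup.mk' (scalars ι F)
    let B : Subgroup R := ((Subgroup.zpowers (q u)).comap q).comap R.subtype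
    have hB : L₂ ≤ B := by
      rw [Subgroup.closure_le]
      rintro x (rfl | rfl)
      · show q (-1) ∈ Subgroup.zpowers (q u)
        rw [show q (-1) = 1 from (QuotientGroup.eq_one_iff _).2 hneg]
        exact one_mem _
      · exact Subgroup.mem_zpowers _
    obtain ⟨k, hk⟩ := Subgroup.mem_zpowers_iff.1 (show q v ∈ Subgroup.zpowers (q u) from hB hmem)
    have hq2 : q u ^ (2 : ℤ) = 1 := by rw [zpow_two, ← map_mul, huu, map_one]
    rcases Int.even_or_odd' k with ⟨j, rfl | rfl⟩
    · rw [_root_.zpow_mul, hq2, _root_.one_zpow] at hk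
      exact hv1 ((QuotientGroup.eq_one_iff _).1 hk.symm)
    · rw [_root_.zpow_add, _root_.zpow_mul, hq2, _root_.one_zpow, one_mul, zpow_one] at hk
      refine huv1 ((QuotientGroup.eq_one_iff _).1 (show q (u * v) = 1 from ?_))
      rw [map_mul, ← hk, ← map_mul, huu, map_one]
  have h1 : 2 * 1 ≤ Nat.card L₁ := by
    have h := hstep ⊥ L₁ (bot_lt_iff_ne_bot.2 (Subgroup.zpowers_ne_bot.2 fun e => h.neg_one_ne (congrArg Subtype.val e)))
    rwa [Subgroup.card_bot] at h
  have h2 := hstep L₁ L₂ (lt_of_le_of_ne (Subgroup.zpowers_le.2 (Subgroup.subset_closure (by simp)))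
    fun e => hu1 (hL₁ (e ▸ Subgroup.subset_closure (by simp) : uR ∈ L₁)))
  have h3 := hstep L₂ A (lt_of_le_of_ne (Subgroup.closure_mono (by intro x hx; simp [nR, uR] at hx ⊢; tauto))
    fun e => hnot (e ▸ Subgroup.subset_closure (by simp [vR])))
  have h8 : (2 : ℕ) ^ (2 + 1) = 8 := by norm_num
  omega

include h in
/-- In the minus case with centre of order two. -/
theorem exists_frame_minus (hm : IsOfMinusType 2 R) (hZ : ∀ c ∈ R, c ∈ scalars ι F → c = 1 ∨ c = -1) :
    Nonempty (Frame R) := by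
  haveI := h.nonempty
  haveI : Nontrivial ι := Fintype.one_lt_card_iff_nontrivial.1 (by rw [h.card4]; norm_num)
  obtain ⟨a, ha, haa, hans⟩ : ∃ a ∈ R, a * a = 1 ∧ a ∉ scalars ι F := by
    obtain ⟨a, ha, b, hb, hab⟩ := CfsgLib.Geo.Asch.not_abelian_of_absIrred h.abs
    have hab' := (h.sign a ha b hb).resolve_left hab
    obtain ⟨c, hc, d, hd, hcd, hac, hbc, had, hbd⟩ := h.exists_second ha hb hab'
    rcases h.sq a ha with ea | ea
    · exact ⟨a, ha, ea, h.not_scalar_of_ac hab'⟩
    rcases h.sq c hc with ec | ec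
    · exact ⟨c, hc, ec, h.not_scalar_of_ac hcd⟩
    refine ⟨a * c, mul_mem ha hc, ?_, fun hs => ?_⟩
    · calc a * c * (a * c) = a * (c * a) * c := by group
        _ = (a * a) * (c * c) := by rw [← hac]; group
        _ = 1 := by rw [ea, ec, neg_one_mul, neg_neg]
    · have e : a * c * b = b * (a * c) := scalar_comm hs b
      rw [mul_assoc, ← hbc, ← mul_assoc, ← mul_assoc] at e
      exact h.not_both (mul_right_cancel e) hab'
  obtain ⟨b₀, hb₀, hab₀⟩ := h.exists_ac ha hans
  obtain ⟨b, hb, hbb, hab⟩ : ∃ b ∈ R, b * b = 1 ∧ a * b = -(b * a) := by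
    rcases h.sq b₀ hb₀ with e | e
    · exact ⟨b₀, hb₀, e, hab₀⟩
    refine ⟨a * b₀, mul_mem ha hb₀, ?_, ?_⟩
    · calc a * b₀ * (a * b₀) = a * (b₀ * a) * b₀ := by group
        _ = -((a * a) * (b₀ * b₀)) := by
          rw [show b₀ * a = -(a * b₀) by rw [hab₀, neg_neg], mul_neg, neg_mul]; group
        _ = 1 := by rw [haa, e, one_mul, neg_neg]
    · calc a * (a * b₀) = a * -(b₀ * a) := by rw [← hab₀]
        _ = -(a * b₀ * a) := by rw [mul_neg, ← mul_assoc]
  obtain ⟨c, hc, d, hd, hcd, hac, hbc, had, hbd⟩ := h.exists_second ha hb hab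
  have hsq : ∀ x ∈ R, a * x = x * a → b * x = x * b → x ∉ scalars ι F → x * x = -1 := by
    intro x hx e1 e2 hxs
    rcases h.sq x hx with e | e
    · exfalso
      refine h.minus_no_triple hm ha hx haa e e1 hans hxs fun hs => ?_
      have e3 : a * x * b = b * (a * x) := scalar_comm hs b
      rw [mul_assoc, ← e2, ← mul_assoc, ← mul_assoc] at e3
      exact h.not_both (mul_right_cancel e3) hab
    · exact e
  exact ⟨⟨c, d, a, b, hc, hd, ha, hb, hsq c hc hac hbc (h.not_scalar_of_ac hcd),
    hsq d hd had hbd (h.not_scalar_of_ac (by rw [hcd, neg_neg] : d * c = -(c * d))), haa, hbb, hcd, hab,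
    hac.symm, hbc.symm, had.symm, hbd.symm⟩⟩

include h in
theorem one_add_mem {x : GL ι F} (hx : x ∈ R) (hxx : x * x = -1) :
    ∃ u ∈ subgroupNormalizer R, (u : Matrix ι ι F) = 1 + x := by
  have hxx' : (x : Matrix ι ι F) * x = -1 := by rw [← Units.val_mul, hxx]; simp
  obtain ⟨u, hu⟩ := CfsgLib.Geo.Asch.exists_one_add h.two hxx'
  refine ⟨u, CfsgLib.Geo.Asch.one_add_mem_normalizer hx hxx' hu fun r hr => ?_, hu⟩
  rcases h.sign x hx r hr with e | e
  · exact Or.inl (by simpa using congrArg Units.val e)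
  · exact Or.inr (by simpa using congrArg Units.val e)

include h in
/-- An element of odd order fixing a class commutes. -/
theorem commute_of_class {y a : GL ι F} {r : ℕ} (hr : Odd r) (hyr : y ^ r = 1)
    (he : y * a * y⁻¹ = a ∨ y * a * y⁻¹ = -a) : y * a = a * y := by
  rcases he with e | e
  · exact mul_inv_eq_iff_eq_mul.1 e
  · exfalso
    have hk : ∀ k : ℕ, y ^ k * a * (y ^ k)⁻¹ = (-1) ^ k * a := by
      intro k
      induction k with
      | zero => simp
      | succ k ih =>
        rw [pow_succ' y, show y * y ^ k * a * (y * y ^ k)⁻¹ = y * (y ^ k * a * (y ^ k)⁻¹) * y⁻¹ by group, ih,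
          show y * ((-1) ^ k * a) * y⁻¹ = (-1) ^ k * (y * a * y⁻¹) by
            rw [← mul_assoc y, show y * (-1) ^ k = (-1) ^ k * y from ((Commute.neg_one_right y).pow_right k).eq]
            group, e, pow_succ, mul_neg, mul_neg, mul_one, neg_mul]
    have := hk r
    rw [hyr, hr.neg_one_pow] at this
    simp at this
    exact h.ne_neg a this

include h in
/-- A fixed non-scalar element has a fixed anticommuting partner. -/
theorem exists_fixed_partner {y a : GL ι F} {r : ℕ} (hr : Odd r) (hy : y ∈ subgroupNormalizer R) (hyr : y ^ r = 1)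
    (ha : a ∈ R) (hya : y * a = a * y) (hns : a ∉ scalars ι F) :
    ∃ b ∈ R, y * b = b * y ∧ a * b = -(b * a) := by
  obtain ⟨g, hg, hag⟩ := h.exists_ac ha hns
  let G : ℕ → GL ι F := fun k => y ^ k * g * (y ^ k)⁻¹
  let P : ℕ → GL ι F := fun k => Nat.rec 1 (fun j Pj => Pj * G j) k
  have hP : ∀ k, P (k + 1) = P k * G k := fun k => rfl
  have hP' : ∀ k, P (k + 1) = g * (y * P k * y⁻¹) := by
    intro k
    induction k with
    | zero => simp [hP, P, G]
    | succ k ih =>
      rw [hP (k + 1)]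
      nth_rewrite 1 [ih]
      rw [hP k]
      simp only [G, pow_succ']
      group
  have hconj : ∀ k, ∀ u ∈ R, y ^ k * u * (y ^ k)⁻¹ ∈ R := fun k u hu =>
    (Subgroup.mem_normalizer_iff.1 (pow_mem hy k) u).1 hu
  have hPR : ∀ k, P k ∈ R := by
    intro k
    induction k with
    | zero => exact one_mem _
    | succ k ih => rw [hP]; exact mul_mem ih (hconj k g hg)
  have hPa : ∀ k, a * P k = (-1) ^ k * (P k * a) := by
    intro k
    induction k with
    | zero => simp [P]
    | succ k ih =>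
      have hyk : y ^ k * a = a * y ^ k := ((show Commute a y from hya.symm).pow_right k).eq.symm
      have e : a * G k = -(G k * a) := by
        simp only [G]
        calc a * (y ^ k * g * (y ^ k)⁻¹) = y ^ k * (a * g) * (y ^ k)⁻¹ := by
              rw [← mul_assoc, ← mul_assoc, ← hyk]; group
          _ = -(y ^ k * g * (a * (y ^ k)⁻¹)) := by rw [hag, mul_neg, neg_mul]; group
          _ = _ := by
            rw [show a * (y ^ k)⁻¹ = (y ^ k)⁻¹ * a from (((show Commute a y from hya.symm).pow_right k).inv_right).eq]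
            group
      rw [hP, ← mul_assoc, ih, mul_assoc, mul_assoc, e, pow_succ]
      simp [mul_assoc]
  have hfix : y * P r = P r * y := by
    refine h.commute_of_class hr hyr ?_
    have e : g * (y * P r * y⁻¹) = P r * g := by
      rw [← hP', hP]; simp [G, hyr]
    rcases h.sign g hg (P r) (hPR r) with e1 | e1
    · exact Or.inl (mul_left_cancel (e.trans e1.symm))
    · exact Or.inr (mul_left_cancel (a := g) (by rw [e, mul_neg, e1, neg_neg]))
  refine ⟨P r, hPR r, hfix, ?_⟩
  rw [hPa, hr.neg_one_pow, neg_one_mul]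

include h in
/-- Elements of odd prime order: fixed classes. -/
theorem fixed_cases {y : GL ι F} {r : ℕ} [Fact r.Prime] (hr : Odd r) (hy : y ∈ subgroupNormalizer R)
    (hyr : y ^ r = 1) (hns : y ∉ scalars ι F) :
    (r = 3 ∨ r = 5) ∧ (r = 5 → ∀ a ∈ R, y * a = a * y → a ∈ scalars ι F) := by
  haveI := h.fin
  haveI : Fintype R := Fintype.ofFinite R
  classical
  have hy' := Subgroup.mem_normalizer_iff.1 hy
  let σ : Equiv.Perm R := Equiv.Perm.subtypePerm ((MulAut.conj y).toEquiv : Equiv.Perm (GL ι F)) fun u => (hy' u).symm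
  have hσ : ∀ (k : ℕ) (u : R), ((σ ^ k) u : GL ι F) = y ^ k * u * (y ^ k)⁻¹ := by
    intro k u
    induction k with
    | zero => simp
    | succ k ih =>
      rw [pow_succ', Equiv.Perm.mul_apply]
      show y * ((σ ^ k) u : GL ι F) * y⁻¹ = _
      rw [ih, pow_succ']
      group
  have hσr : σ ^ r ^ 1 = 1 := by
    rw [pow_one]
    ext1 u
    apply Subtype.ext
    rw [hσ, hyr]
    simp
  have hmod := Equiv.Perm.card_compl_support_modEq hσr
  let C : Subgroup R := (Subgroup.centralizer {y}).subgroupOf R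
  have hCmem : ∀ u : R, u ∈ C ↔ y * (u : GL ι F) = (u : GL ι F) * y := fun u => by
    show (u : GL ι F) ∈ Subgroup.centralizer {y} ↔ _
    rw [Subgroup.mem_centralizer_singleton_iff, eq_comm]
  have hC : Nat.card C = σ.supportᶜ.card := by
    refine Nat.subtype_card _ fun u => ?_
    rw [Finset.mem_compl, Equiv.Perm.notMem_support, hCmem]
    show σ u = u ↔ _
    rw [Subtype.ext_iff]
    exact mul_inv_eq_iff_eq_mul
  rw [← hC, ← Nat.card_eq_fintype_card] at hmod
  set Z := Subgroup.center R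
  have hZC : Z ≤ C := fun u hu => (hCmem u).2 (scalar_comm ((h.mem_center u).1 hu) y).symm
  have hR := Subgroup.card_eq_card_quotient_mul_card_subgroup Z
  rw [h.index] at hR
  set z := Nat.card Z with hz
  have hzpos : 0 < z := Nat.card_pos
  obtain ⟨f, hCf⟩ : z ∣ Nat.card C := Subgroup.card_dvd_of_le hZC
  have hf16 : f ∣ 16 := by
    have := Subgroup.card_subgroup_dvd_card C
    rw [hCf, hR, mul_comm 16] at this
    exact Nat.dvd_of_mul_dvd_mul_left hzpos this
  have hrz : Nat.Coprime r z := by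
    -- squares of scalars in the group are `±1`, so the centre is a two-group
    have h2 : IsPGroup 2 Z := fun u => ⟨2, by
      have e : (((u : R) : GL ι F)) ^ 4 = 1 := by
        rw [show (4 : ℕ) = 2 * 2 from rfl, pow_mul, pow_two, pow_two]
        rcases h.sq _ (u : R).2 with e | e <;> simp [e]
      exact Subtype.ext (Subtype.ext e)⟩
    obtain ⟨k, hk⟩ := IsPGroup.iff_card.1 h2
    rw [hz, hk]
    exact Nat.Coprime.pow_right _ (Nat.coprime_two_right.2 hr)
  have hd : r ∣ 16 - f := by
    have hfle : f ≤ 16 := Nat.le_of_dvd (by norm_num) hf16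
    have hd := (Nat.modEq_iff_dvd' (Subgroup.card_le_card_group C)).1 hmod
    rw [hCf, hR, mul_comm 16, ← Nat.mul_sub] at hd
    exact hrz.dvd_of_dvd_mul_left hd
  have hf0 : f ≠ 0 := fun e => by rw [e, mul_zero] at hCf; exact Nat.card_pos.ne' hCf
  by_cases hfix : ∀ a ∈ R, y * a = a * y → a ∈ scalars ι F
  · have hCZ : C = Z := le_antisymm (fun u hu => (h.mem_center u).2 (hfix _ u.2 ((hCmem u).1 hu))) hZC
    have hf1 : f = 1 := by
      rw [hCZ, ← hz] at hCf
      exact (Nat.mul_eq_left hzpos.ne').1 hCf.symm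
    subst hf1
    have := Nat.le_of_dvd (by norm_num) hd
    refine ⟨?_, fun _ => hfix⟩
    have := (Fact.out : r.Prime).two_le
    interval_cases r <;> first | omega | exact absurd hr (by decide) | (exfalso; norm_num at hd; done) | exact absurd (Fact.out : Nat.Prime 4) (by norm_num) | exact absurd (Fact.out : Nat.Prime 6) (by norm_num) | exact absurd (Fact.out : Nat.Prime 8) (by norm_num) | exact absurd (Fact.out : Nat.Prime 12) (by norm_num) | exact absurd (Fact.out : Nat.Prime 15) (by norm_num)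
  · push Not at hfix
    obtain ⟨a, ha, hya, hans⟩ := hfix
    obtain ⟨b, hb, hyb, hab⟩ := h.exists_fixed_partner hr hy hyr ha hya hans
    have hf3 : 3 ≤ f := by
      let ψ : Fin 3 × Z → C := fun t => ⟨(![1, ⟨a, ha⟩, ⟨b, hb⟩] t.1 : R) * (t.2 : R), mul_mem (by
        obtain ⟨i, -⟩ := t
        fin_cases i
        · exact one_mem _
        · exact (hCmem _).2 hya
        · exact (hCmem _).2 hyb) (hZC t.2.2)⟩
      have hψ : Function.Injective ψ := by
        rintro ⟨i, u⟩ ⟨j, v⟩ e
        have e' : (![1, ⟨a, ha⟩, ⟨b, hb⟩] i : R) * (u : R) = (![1, ⟨a, ha⟩, ⟨b, hb⟩] j : R) * (v : R) :=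
          congrArg Subtype.val e
        have hij : ((((![1, ⟨a, ha⟩, ⟨b, hb⟩] j : R))⁻¹ * (![1, ⟨a, ha⟩, ⟨b, hb⟩] i : R) : R) : GL ι F) ∈ scalars ι F := by
          refine (h.mem_center _).1 ?_
          rw [show (![1, ⟨a, ha⟩, ⟨b, hb⟩] j : R)⁻¹ * (![1, ⟨a, ha⟩, ⟨b, hb⟩] i : R) = (v : R) * (u : R)⁻¹ by
            rw [eq_mul_inv_iff_mul_eq, mul_assoc, e', inv_mul_cancel_left]]
          exact mul_mem v.2 (inv_mem u.2)
        have hnsa := hans
        have hnsb : b ∉ scalars ι F := h.not_scalar_of_ac (by rw [hab, neg_neg] : b * a = -(a * b))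
        have hij' : i = j := by
          fin_cases i <;> fin_cases j <;> simp at hij ⊢
          · exact hnsa hij
          · exact hnsb hij
          · exact hnsa hij
          · exact h.not_both (by
              have e := scalar_comm hij b
              rw [mul_inv_cancel_left, mul_assoc, inv_mul_eq_iff_eq_mul] at e
              exact e) hab
          · exact hnsb hij
          · exact h.not_both (by
              have e := scalar_comm hij a
              rw [mul_inv_cancel_left, mul_assoc, inv_mul_eq_iff_eq_mul] at e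
              exact e.symm) hab
        subst hij'
        exact Prod.ext rfl (Subtype.ext (mul_left_cancel e'))
      have := Nat.card_le_card_of_injective ψ hψ
      rw [Nat.card_prod, Nat.card_eq_fintype_card, Fintype.card_fin, hCf, ← hz] at this
      exact Nat.le_of_mul_le_mul_right (by linarith) hzpos
    have hne16 : f ≠ 16 := by
      rintro rfl
      apply hns
      refine h.scalar_of_comm fun n hn => (hCmem ⟨n, hn⟩).1 ?_
      rw [Subgroup.eq_top_of_card_eq C (by rw [hCf, hR, mul_comm])]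
      exact Subgroup.mem_top _
    have hfle : f ≤ 16 := Nat.le_of_dvd (by norm_num) hf16
    have hcases : f = 4 ∨ f = 8 := by
      interval_cases f <;> first | omega | norm_num at hf16
    have hr3 : r = 3 := by
      have := Nat.le_of_dvd (by rcases hcases with rfl | rfl <;> norm_num) hd
      have := (Fact.out : r.Prime).two_le
      rcases hcases with rfl | rfl <;> norm_num at this hd <;> interval_cases r <;>
        first | rfl | omega | exact absurd hr (by decide) | (exfalso; norm_num at hd; done) | exact absurd (Fact.out : Nat.Prime 4) (by norm_num) | exact absurd (Fact.out : Nat.Prime 6) (by norm_num) | exact absurd (Fact.out : Nat.Prime 8) (by norm_num) | exact absurd (Fact.out : Nat.Prime 12) (by norm_num) | exact absurd (Fact.out : Nat.Prime 15) (by norm_num)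
    exact ⟨Or.inl hr3, fun e => absurd (hr3.symm.trans e) (by norm_num)⟩

end IsPauli

end CfsgLib.Geo.Pauli
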