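/-
Elements in the normaliser of a two-group of symplectic type in dimension four.
-/
import Cfsg.Agent.Lib.Geo.PauliFour

set_option autoImplicit false

namespace CfsgLib.Geo.Pauli

open Matrix Cfsg.Geo
open scoped commutatorElement

variable {ι : Type} [Fintype ι] [DecidableEq ι] {F : Type*} [Field F] {R : Subgroup (GL ι F)}

namespace IsPauli

variable (h : IsPauli R)

include h in
/-- No non-trivial pseudo-reflection of odd order normalises. -/
theorem no_pseudo_reflection {y : GL ι F} {r : ℕ} (hr : Odd r) (hy : y ∈ subgroupNormalizer R) (hyr : y ^ r = 1)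
    {n φ : ι → F} (hy1 : (y : Matrix ι ι F) = 1 + vecMulVec n φ) : y = 1 := by
  haveI := h.nonempty
  haveI : Nontrivial ι := Fintype.one_lt_card_iff_nontrivial.1 (by rw [h.card4]; norm_num)
  by_contra hne
  have hn0 : n ≠ 0 := fun e => hne (Units.ext (by rw [hy1, e]; simp))
  obtain ⟨P, hP, hPy⟩ : ∃ P ∈ R, y * P ≠ P * y := by
    by_contra! hc
    obtain ⟨c, hc⟩ := (mem_scalars_iff y).1 (h.scalar_of_comm hc)
    rw [hy1] at hc
    obtain ⟨i, hi⟩ := Function.ne_iff.1 hn0
    have hφ : φ ≠ 0 := fun e => hne (Units.ext (by rw [hy1, e]; simp))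
    obtain ⟨j, hj⟩ := Function.ne_iff.1 hφ
    obtain ⟨k, hk⟩ := exists_ne i
    have e1 := congrFun₂ hc i j
    by_cases hij : i = j
    · subst hij
      have e2 := congrFun₂ hc k k
      have e3 := congrFun₂ hc i k
      simp [vecMulVec_apply, Ne.symm hk] at e1 e2 e3
      rcases e3 with e3 | e3
      · exact hi e3
      · rw [e3, mul_zero, add_zero] at e2
        rw [← e2, add_eq_left] at e1
        rcases mul_eq_zero.1 e1 with e | e
        · exact hi e
        · exact hj e
    · simp [vecMulVec_apply, hij] at e1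
      rcases e1 with e | e
      · exact hi e
      · exact hj e
  have hPc : y * P * y⁻¹ ∈ R := (Subgroup.mem_normalizer_iff.1 hy P).1 hP
  set u := y * P * y⁻¹ * P⁻¹ with hu
  have huR : u ∈ R := mul_mem hPc (inv_mem hP)
  have huns : u ∉ scalars ι F := by
    intro hs
    have e : y * P * y⁻¹ = u * P := by rw [hu, inv_mul_cancel_right]
    have hsq : y * P * y⁻¹ * (y * P * y⁻¹) = P * P := by
      rw [show y * P * y⁻¹ * (y * P * y⁻¹) = y * (P * P) * y⁻¹ by group]
      rcases h.sq P hP with e | e <;> rw [e] <;> simp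
    rw [e] at hsq
    have hu2 : u * u = 1 := by
      have e2 : u * P * (u * P) = u * u * (P * P) := by
        rw [show u * P * (u * P) = u * (P * u) * P by group, ← scalar_comm hs P]; group
      rw [e2] at hsq
      exact mul_eq_right.1 hsq
    obtain ⟨c, hc⟩ := (mem_scalars_iff u).1 hs
    have hc2 := congrArg Units.val hu2
    rw [Units.val_mul, hc, smul_mul_smul_comm, one_mul, Units.val_one] at hc2
    obtain ⟨i⟩ := h.nonempty
    have hc3 := congrFun₂ hc2 i i
    simp at hc3
    refine hPy (h.commute_of_class hr hyr ?_)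
    rcases mul_self_eq_one_iff.1 hc3 with e1 | e1
    · left; rw [e, show u = 1 from Units.ext (by rw [hc, e1, one_smul, Units.val_one]), one_mul]
    · right; rw [e, show u = -1 from Units.ext (by rw [hc, e1, neg_smul, one_smul]; simp), neg_one_mul]
  have htr := h.trace_zero huR huns
  set Y := (y : Matrix ι ι F)
  set Pm := (P : Matrix ι ι F)
  set U := (u : Matrix ι ι F)
  set c := φ ⬝ᵥ n with hc
  have hYv : ∀ w, Y *ᵥ w = w + (φ ⬝ᵥ w) • n := fun w => by
    rw [hy1, add_mulVec, one_mulVec, vecMulVec_mulVec, op_smul_eq_smul]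
  have hc1 : 1 + c ≠ 0 := by
    intro e
    apply hn0
    have : Y *ᵥ n = 0 := by rw [hYv, ← hc]; nth_rewrite 1 [← one_smul F n]; rw [← add_smul, e, zero_smul]
    have := congrArg (((y⁻¹ : GL ι F) : Matrix ι ι F) *ᵥ ·) this
    simpa [mulVec_mulVec, Y] using this
  have hYi : ∀ w, ((y⁻¹ : GL ι F) : Matrix ι ι F) *ᵥ w = w - ((φ ⬝ᵥ w) / (1 + c)) • n := fun w => by
    have e : Y *ᵥ (w - ((φ ⬝ᵥ w) / (1 + c)) • n) = w := by
      rw [hYv, dotProduct_sub, dotProduct_smul, ← hc, smul_eq_mul]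
      match_scalars <;> field_simp <;> ring
    nth_rewrite 1 [← e]
    rw [mulVec_mulVec, ← Units.val_mul, inv_mul_cancel, Units.val_one, one_mulVec]
  let k : (ι → F) → F := fun w => (φ ⬝ᵥ (((P⁻¹ : GL ι F) : Matrix ι ι F) *ᵥ w)) / (1 + c)
  have hU : ∀ w, U *ᵥ w = w + (φ ⬝ᵥ w - k w * (φ ⬝ᵥ (Pm *ᵥ n))) • n - k w • (Pm *ᵥ n) := fun w => by
    have e : U *ᵥ w = Y *ᵥ (Pm *ᵥ (((y⁻¹ : GL ι F) : Matrix ι ι F) *ᵥ (((P⁻¹ : GL ι F) : Matrix ι ι F) *ᵥ w))) := by
      simp only [mulVec_mulVec, U, Y, Pm, hu, Units.val_mul, Matrix.mul_assoc]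
    rw [e, hYi, mulVec_sub, mulVec_smul, mulVec_mulVec (M := Pm), ← Units.val_mul, mul_inv_cancel, Units.val_one,
      one_mulVec, hYv, dotProduct_sub, dotProduct_smul, smul_eq_mul]
    simp only [k]
    module
  let S : Submodule F (ι → F) := Submodule.span F {n, Pm *ᵥ n}
  let E : Module.End F (ι → F) := (2 : F)⁻¹ • (1 - Matrix.toLin' U)
  have hES : LinearMap.range E ≤ S := by
    rintro _ ⟨w, rfl⟩
    simp only [E, LinearMap.smul_apply, LinearMap.sub_apply, Module.End.one_apply, Matrix.toLin'_apply, hU]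
    refine S.smul_mem _ ?_
    rw [show ∀ (a b : F), w - (w + a • n - b • (Pm *ᵥ n)) = b • (Pm *ᵥ n) - a • n from fun a b => by abel]
    exact S.sub_mem (S.smul_mem _ (Submodule.subset_span (by simp))) (S.smul_mem _ (Submodule.subset_span (by simp)))
  have hS2 : Module.finrank F S ≤ 2 := by
    classical
    have e : S = Submodule.span F (({n, Pm *ᵥ n} : Finset (ι → F)) : Set (ι → F)) := by simp [S]
    rw [e]
    exact le_trans (finrank_span_finset_le_card _) (le_trans (Finset.card_insert_le _ _) (by simp))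
  rcases h.sq u huR with hu2 | hu2
  swap
  · -- square minus one
    have hinj : Function.Injective E := by
      rw [injective_iff_map_eq_zero]
      intro w hw
      simp only [E, LinearMap.smul_apply, LinearMap.sub_apply, Module.End.one_apply, Matrix.toLin'_apply,
        smul_eq_zero, inv_eq_zero, h.two, false_or, sub_eq_zero] at hw
      have e : U *ᵥ (U *ᵥ w) = -w := by
        rw [mulVec_mulVec, ← Units.val_mul, hu2]; simp [neg_mulVec]
      rw [← hw, ← hw] at e
      have h2w : (2 : F) • w = 0 := by rw [two_smul]; exact add_eq_zero_iff_eq_neg.2 e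
      exact (smul_eq_zero.1 h2w).resolve_left h.two
    have := LinearMap.finrank_range_of_inj hinj
    have h1 := Submodule.finrank_mono hES
    rw [this, Module.finrank_pi, h.card4] at h1
    omega
  -- square one: `E` is a projection of rank two
  have hE : E * E = E := by
    have e : Matrix.toLin' U * Matrix.toLin' U = 1 := by
      rw [Module.End.mul_eq_comp, ← Matrix.toLin'_mul, ← Units.val_mul, hu2, Units.val_one, Matrix.toLin'_one]
      rfl
    simp only [E, smul_mul_smul_comm, sub_mul, mul_sub, one_mul, mul_one, e]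
    have h2 := h.two
    match_scalars <;> field_simp <;> ring
  have hproj : LinearMap.IsProj (LinearMap.range E) E := ⟨fun w => LinearMap.mem_range_self E w, by
    rintro _ ⟨w, rfl⟩
    exact LinearMap.congr_fun hE w⟩
  have htrE : LinearMap.trace F (ι → F) E = 2 := by
    simp only [E, map_smul, map_sub, LinearMap.trace_one, Matrix.trace_toLin'_eq, htr, Module.finrank_pi, h.card4,
      U, smul_eq_mul, sub_zero]
    have h2 := h.two
    field_simp
    norm_num
  have hrk := hproj.trace.symm.trans htrE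
  have hle := le_trans (Submodule.finrank_mono hES) hS2
  have hrk2 : Module.finrank F (LinearMap.range E) = 2 := by
    obtain e | e | e : Module.finrank F (LinearMap.range E) = 0 ∨ Module.finrank F (LinearMap.range E) = 1 ∨
        Module.finrank F (LinearMap.range E) = 2 := by omega
    · rw [e] at hrk; exact absurd hrk.symm (by simpa using h.two)
    · rw [e] at hrk; exact absurd (by linear_combination hrk : (-1 : F) = 0) (by simp)
    · exact e
  have heq : LinearMap.range E = S := Submodule.eq_of_le_of_finrank_le hES (by omega)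
  have hnE : n ∈ LinearMap.range E := heq ▸ Submodule.subset_span (by simp)
  obtain ⟨w, hw⟩ := hnE
  have hun : U *ᵥ n = -n := by
    have e := LinearMap.congr_fun hE w
    rw [Module.End.mul_apply, hw] at e
    simp only [E, LinearMap.smul_apply, LinearMap.sub_apply, Module.End.one_apply, Matrix.toLin'_apply] at e
    rw [inv_smul_eq_iff₀ h.two, two_smul] at e
    rw [sub_eq_iff_eq_add] at e
    have : U *ᵥ n + n = 0 := by
      rw [add_comm]
      exact add_left_cancel (a := n) (by rw [add_zero, ← add_assoc]; exact e.symm)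
    exact eq_neg_of_add_eq_zero_left this
  rw [hU, ← hc] at hun
  have hli : LinearIndependent F ![n, Pm *ᵥ n] := by
    rw [linearIndependent_iff_card_le_finrank_span]
    have e : Set.range ![n, Pm *ᵥ n] = {n, Pm *ᵥ n} := by
      ext x; simp [Fin.exists_fin_two, eq_comm, or_comm]
    rw [Set.finrank, e, Fintype.card_fin]
    show 2 ≤ Module.finrank F S
    rw [← heq, hrk2]
  have hcoef := LinearIndependent.pair_iff.1 hli (2 + (c - k n * (φ ⬝ᵥ (Pm *ᵥ n)))) (-k n) (by
    rw [add_smul, two_smul, neg_smul, ← sub_eq_add_neg]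
    have := congrArg (· + n) hun
    simp only [neg_add_cancel] at this
    rw [← this]; abel)
  obtain ⟨e1, e2⟩ := hcoef
  rw [neg_eq_zero] at e2
  rw [e2, zero_mul, sub_zero] at e1
  have hyn : Y *ᵥ n = -n := by
    rw [hYv, ← hc, show c = -2 by linear_combination e1, neg_smul, two_smul]; abel
  have hpow : ∀ j : ℕ, ((y ^ j : GL ι F) : Matrix ι ι F) *ᵥ n = (-1 : F) ^ j • n := fun j => by
    induction j with
    | zero => simp
    | succ j ih =>
      rw [pow_succ' y, Units.val_mul, ← mulVec_mulVec, ih, mulVec_smul, hyn, pow_succ, mul_neg_one, neg_smul, smul_neg]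
  have hfin := hpow r
  rw [hyr, hr.neg_one_pow, Units.val_one, one_mulVec, neg_smul, one_smul] at hfin
  apply hn0
  have h2n : (2 : F) • n = 0 := by rw [two_smul]; exact add_eq_zero_iff_eq_neg.2 hfin
  exact (smul_eq_zero.1 h2n).resolve_left h.two

include h in
/-- An element of order five fixes less than half. -/
theorem fix_bound [Fintype F] {y : GL ι F} (hy : y ∈ subgroupNormalizer R) (hy5 : y ^ 5 = 1)
    (hns : y ∉ scalars ι F) : Module.finrank F (LinearMap.ker (Matrix.toLin' (y : Matrix ι ι F) - 1)) < 2 := by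
  classical
  haveI : Fact (Nat.Prime 5) := ⟨by norm_num⟩
  set N := subgroupNormalizer R
  let ρ : N →* Module.End F (ι → F) :=
    ((Matrix.toLinAlgEquiv' : Matrix ι ι F ≃ₐ[F] Module.End F (ι → F)).toMonoidHom).comp
      ((Units.coeHom _).comp N.subtype)
  have hρ : Function.Injective ρ := fun a b e => Subtype.ext (Units.ext (Matrix.toLinAlgEquiv'.injective e))
  let Q : Subgroup N := R.subgroupOf N
  haveI : Q.Normal := ⟨fun a ha g => (Subgroup.mem_normalizer_iff.1 g.2 a).1 ha⟩
  have hRN : R ≤ N := Subgroup.le_normalizer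
  have hsc : ∀ z ∈ Subgroup.center N, ∃ c : F, ρ z = c • 1 := fun z hz => by
    obtain ⟨c, hc⟩ := (mem_scalars_iff _).1 (h.scalar_of_comm fun n hn =>
      (congrArg Subtype.val (Subgroup.mem_center_iff.1 hz ⟨n, hRN hn⟩)).symm)
    exact ⟨c, by show Matrix.toLinAlgEquiv' ((z : GL ι F) : Matrix ι ι F) = _; rw [hc, map_smul, map_one]⟩
  have hcen : ∀ a ∈ Q, (∀ b ∈ Q, a * b = b * a) → a ∈ Subgroup.center N := fun a _ hb =>
    Subgroup.mem_center_iff.2 fun g => Subtype.ext (scalar_comm (h.scalar_of_comm fun n hn =>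
      congrArg Subtype.val (hb ⟨n, hRN hn⟩ hn)) (g : GL ι F)).symm
  have hcom : ∀ a ∈ Q, ∀ b ∈ Q, ⁅a, b⁆ ∈ Subgroup.center N := fun a ha b hb => by
    refine Subgroup.mem_center_iff.2 fun g => Subtype.ext (scalar_comm ?_ (g : GL ι F)).symm
    show (a : GL ι F) * b * (a : GL ι F)⁻¹ * (b : GL ι F)⁻¹ ∈ _
    rcases h.sign (a : GL ι F) ha (b : GL ι F) hb with e | e
    · rw [e]; simp
    · rw [e, neg_mul, neg_mul]
      simp only [mul_inv_cancel_right, mul_inv_cancel]
      exact (mem_scalars_iff _).2 ⟨-1, by simp⟩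
  let eQ : Q ≃* R := Subgroup.subgroupOfEquivOfLe hRN
  have hcard : Nat.card (Q ⧸ Subgroup.center Q) = 16 := by
    rw [← h.index]
    refine Nat.card_congr (QuotientGroup.congr (Subgroup.center Q) (Subgroup.center R) eQ ?_).toEquiv
    ext x
    rw [Subgroup.mem_map]
    constructor
    · rintro ⟨z, hz, rfl⟩
      exact Subgroup.mem_center_iff.2 fun g => by
        obtain ⟨g', rfl⟩ := eQ.surjective g
        exact (map_mul eQ _ _).symm.trans ((congrArg eQ (Subgroup.mem_center_iff.1 hz g')).trans (map_mul eQ _ _))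
    · intro hx
      refine ⟨eQ.symm x, Subgroup.mem_center_iff.2 fun g => eQ.injective ?_, eQ.apply_symm_apply x⟩
      rw [map_mul, map_mul, eQ.apply_symm_apply, Subgroup.mem_center_iff.1 hx]
  haveI : Fintype (Q ⧸ Subgroup.center Q) := Fintype.ofFinite _
  let x : N := ⟨y, hy⟩
  let τ : MulAut (Q ⧸ Subgroup.center Q) := CfsgLib.Core.FixedHalf.conjBar Q x
  have hτ5 : τ ^ 5 = 1 := by
    refine MulEquiv.ext fun v => ?_
    rw [CfsgLib.Core.FixedHalf.conjBar_pow, show x ^ 5 = 1 from Subtype.ext hy5]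
    induction v using QuotientGroup.induction_on with | H a => ?_
    rw [CfsgLib.Core.FixedHalf.conjBar_mk, map_one]
    rfl
  have hfix : ∀ v, τ v = v → v = 1 := by
    intro v
    induction v using QuotientGroup.induction_on with | H a => ?_
    intro hv
    rw [CfsgLib.Core.FixedHalf.conjBar_mk, QuotientGroup.eq] at hv
    set w : GL ι F := ((a : N) : GL ι F)
    have haR : w ∈ R := a.2
    have hcR : y * w * y⁻¹ ∈ R := (Subgroup.mem_normalizer_iff.1 hy w).1 haR
    have hsc' : (y * w * y⁻¹)⁻¹ * w ∈ scalars ι F := h.scalar_of_comm fun n hn =>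
      (congrArg (fun t : Q => ((t : N) : GL ι F)) (Subgroup.mem_center_iff.1 hv ⟨⟨n, hRN hn⟩, hn⟩)).symm
    have hcom : y * w = w * y := by
      refine h.commute_of_class (r := 5) (by decide) hy5 ?_
      set s := (y * w * y⁻¹)⁻¹ * w with hs
      have e : w = y * w * y⁻¹ * s := by rw [hs, mul_inv_cancel_left]
      obtain ⟨c, hc⟩ := (mem_scalars_iff s).1 hsc'
      have hsq : w * w = (y * w * y⁻¹) * (y * w * y⁻¹) * (s * s) := by
        conv_lhs => rw [e]
        rw [show y * w * y⁻¹ * s * (y * w * y⁻¹ * s) = y * w * y⁻¹ * (s * (y * w * y⁻¹)) * s by group,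
          scalar_comm hsc' (y * w * y⁻¹)]
        group
      rw [show y * w * y⁻¹ * (y * w * y⁻¹) = y * (w * w) * y⁻¹ by group] at hsq
      have hs2 : s * s = 1 := by
        rcases h.sq w haR with e' | e' <;> rw [e'] at hsq <;> simp at hsq <;> exact hsq.symm
      have hc2 := congrArg Units.val hs2
      rw [Units.val_mul, hc, smul_mul_smul_comm, one_mul, Units.val_one] at hc2
      obtain ⟨i⟩ := h.nonempty
      have hc3 := congrFun₂ hc2 i i
      simp at hc3
      rcases mul_self_eq_one_iff.1 hc3 with e1 | e1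
      · left
        rw [show s = 1 from Units.ext (by rw [hc, e1, one_smul, Units.val_one]), mul_one] at e
        exact e.symm
      · right
        rw [show s = -1 from Units.ext (by rw [hc, e1, neg_smul, one_smul]; simp), mul_neg, mul_one] at e
        exact neg_eq_iff_eq_neg.1 e.symm
    have hs := (h.fixed_cases (r := 5) (by decide) hy hy5 hns).2 rfl w haR hcom
    rw [QuotientGroup.eq_one_iff]
    exact Subgroup.mem_center_iff.2 fun g => Subtype.ext (Subtype.ext (scalar_comm hs ((g : N) : GL ι F)).symm)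
  let st : Setoid (Q ⧸ Subgroup.center Q) := Equiv.Perm.SameCycle.setoid (τ.toEquiv : Equiv.Perm (Q ⧸ Subgroup.center Q))
  let rep : (Q ⧸ Subgroup.center Q) → Q ⧸ Subgroup.center Q := fun v => (Quotient.mk st v).out
  let Rs := Finset.univ.image rep
  have hτperm : ∀ (i : ℕ) v, ((τ.toEquiv : Equiv.Perm (Q ⧸ Subgroup.center Q)) ^ i) v = (τ ^ i) v := fun i v => by
    induction i with
    | zero => simp
    | succ i ih => rw [pow_succ', pow_succ', Equiv.Perm.mul_apply, ih]; rfl
  have hrep : ∀ v, Equiv.Perm.SameCycle τ.toEquiv (rep v) v := fun v => Quotient.mk_out (s := st) v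
  have hcov : ∀ v, ∃ i : ℕ, (τ ^ i) v ∈ Rs := fun v => by
    obtain ⟨i, hi⟩ := ((hrep v).symm).exists_pow_eq'
    exact ⟨i, by rw [← hτperm, hi.2]; exact Finset.mem_image_of_mem _ (Finset.mem_univ v)⟩
  have hsum := Finset.card_eq_sum_card_image rep (Finset.univ : Finset (Q ⧸ Subgroup.center Q))
  rw [Finset.card_univ, ← Nat.card_eq_fintype_card, hcard] at hsum
  have hbig : ∀ u ∈ Rs, u ≠ 1 → 5 ≤ (Finset.univ.filter fun v => rep v = u).card := by
    intro u hu hu1
    obtain ⟨v, -, rfl⟩ := Finset.mem_image.1 hu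
    have hinj : ∀ i j : Fin 5, (τ ^ (i : ℕ)) (rep v) = (τ ^ (j : ℕ)) (rep v) → i = j := by
      intro i j e
      by_contra hij
      have key : ∀ i j : ℕ, i < j → j < 5 → (τ ^ i) (rep v) = (τ ^ j) (rep v) → False := by
        intro i j hij hj e
        have e1 : (τ ^ (j - i)) (rep v) = rep v := by
          apply (τ ^ i).injective
          rw [← MulAut.mul_apply, ← pow_add, Nat.add_sub_cancel' hij.le, e]
        obtain ⟨m, hm⟩ := Nat.exists_mul_mod_eq_one_of_coprime (k := 5) (n := j - i)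
          (((Nat.Prime.coprime_iff_not_dvd (by norm_num)).2 fun hd => absurd (Nat.le_of_dvd (by omega) hd) (by omega)).symm)
          (by norm_num)
        have hk : ∀ t : ℕ, ((τ ^ (j - i)) ^ t) (rep v) = rep v := fun t => by
          induction t with
          | zero => simp
          | succ t ih => rw [pow_succ, MulAut.mul_apply, e1, ih]
        have h1 := hk m
        rw [← pow_mul, ← Nat.mod_add_div ((j - i) * m) 5, hm.2, pow_add, pow_mul, hτ5, one_pow, mul_one, pow_one] at h1
        exact hu1 (hfix _ h1)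
      rcases lt_or_gt_of_ne (Fin.val_ne_of_ne hij) with hlt | hlt
      · exact key _ _ hlt j.2 e
      · exact key _ _ hlt i.2 e.symm
    let e : Fin 5 ↪ Q ⧸ Subgroup.center Q := ⟨fun i => (τ ^ (i : ℕ)) (rep v), fun i j => hinj i j⟩
    have hsub : Finset.univ.map e ⊆ Finset.univ.filter fun w => rep w = rep v := by
      intro w hw
      obtain ⟨i, -, rfl⟩ := Finset.mem_map.1 hw
      refine Finset.mem_filter.2 ⟨Finset.mem_univ _, ?_⟩
      show (Quotient.mk st _).out = (Quotient.mk st v).out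
      refine congrArg Quotient.out (Quotient.sound ?_)
      refine Equiv.Perm.SameCycle.trans ?_ (hrep v)
      show Equiv.Perm.SameCycle τ.toEquiv ((τ ^ (i : ℕ)) (rep v)) (rep v)
      rw [← hτperm]
      exact Equiv.Perm.sameCycle_pow_left.2 (Equiv.Perm.SameCycle.refl _ _)
    simpa using Finset.card_le_card hsub
  have hRs : Rs.card ≤ 4 := by
    have h1 : (Rs.erase 1).card • 5 ≤ 16 := hsum ▸ le_trans
      (Finset.card_nsmul_le_sum _ _ 5 fun u hu => hbig u (Finset.mem_of_mem_erase hu) (Finset.ne_of_mem_erase hu))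
      (Finset.sum_le_sum_of_subset (Finset.erase_subset _ _))
    have h2 := Finset.pred_card_le_card_erase (s := Rs) (a := 1)
    rw [smul_eq_mul] at h1
    omega
  have := CfsgLib.Core.FixedHalf.two_mul_fixed_lt_of_orbit_reps ρ hρ hsc Q hcen hcom
    (by rw [hcard, show ((16 : ℕ) : F) = 2 * 2 * 2 * 2 by norm_num]
        exact mul_ne_zero (mul_ne_zero (mul_ne_zero h.two h.two) h.two) h.two)
    (x := x) (fun e => hns (by rw [show y = 1 from congrArg Subtype.val e]; exact one_mem _)) Rs hcov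
    (by rw [hcard]; omega)
  rw [Module.finrank_pi, h.card4] at this
  have e : ρ x = Matrix.toLin' (y : Matrix ι ι F) := rfl
  rw [e] at this
  omega

end IsPauli

namespace Frame

variable (f : Frame R)

include f in
theorem one_add_conj {x u : GL ι F} (hxx : x * x = -1) (hu : (u : Matrix ι ι F) = 1 + x) (r : GL ι F) :
    (x * r = r * x → u * r * u⁻¹ = r) ∧ (x * r = -(r * x) → u * r * u⁻¹ = x * r) := by
  constructor
  · intro e
    rw [mul_inv_eq_iff_eq_mul]
    have e' : (x : Matrix ι ι F) * r = r * x := by simpa using congrArg Units.val e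
    exact Units.ext (by rw [Units.val_mul, Units.val_mul, hu, add_mul, one_mul, mul_add, mul_one, e'])
  · intro e
    rw [mul_inv_eq_iff_eq_mul]
    have e' : (x : Matrix ι ι F) * r = -((r : Matrix ι ι F) * x) := by simpa using congrArg Units.val e
    have hxx' : (x : Matrix ι ι F) * x = -1 := by simpa using congrArg Units.val hxx
    refine Units.ext ?_
    rw [Units.val_mul, Units.val_mul, Units.val_mul, hu, add_mul, one_mul, mul_add, mul_one, mul_assoc,
      show (r : Matrix ι ι F) * x = -((x : Matrix ι ι F) * r) by rw [e', neg_neg], mul_neg, ← mul_assoc, hxx']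
    simp [add_comm]

include f in
/-- An element of order five. -/
theorem exists_five (h : IsPauli R) [Finite (GL ι F)] (hno : ∀ c ∈ scalars ι F, c ^ 5 = 1 → c = 1) :
    ∃ y ∈ subgroupNormalizer R, y ^ 5 = 1 ∧ y ∉ scalars ι F := by
  haveI : Fact (Nat.Prime 5) := ⟨by norm_num⟩
  set J₁ := f.a₁
  set J₂ := f.b₁
  set J₃ := f.a₁ * f.a₂ with hJ₃
  set J₄ := f.a₂ * f.b₂ with hJ₄
  have rel : ∀ {a b c : GL ι F}, a * b = -(b * a) → b * a = -(a * b) := fun {a b _} e => by rw [e, neg_neg]
  have h12 : J₁ * J₂ = -(J₂ * J₁) := f.ab₁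
  have h13 : J₁ * J₃ = J₃ * J₁ := by rw [hJ₃, mul_assoc f.a₁ f.a₂, ← f.aa]
  have h14 : J₁ * J₄ = J₄ * J₁ := by rw [hJ₄, ← mul_assoc, f.aa, mul_assoc, f.ab, ← mul_assoc]
  have h23 : J₂ * J₃ = -(J₃ * J₂) := by
    rw [hJ₃, ← mul_assoc, show J₂ * f.a₁ = -(f.a₁ * J₂) by rw [f.ab₁, neg_neg], neg_mul, mul_assoc, f.ba, mul_assoc]
  have h24 : J₂ * J₄ = J₄ * J₂ := by rw [hJ₄, ← mul_assoc, f.ba, mul_assoc, f.bb, ← mul_assoc]
  have h34 : J₃ * J₄ = -(J₄ * J₃) := by
    have e1 : f.a₁ * J₄ = J₄ * f.a₁ := h14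
    have e2 : f.a₂ * J₄ = -(J₄ * f.a₂) := by
      rw [hJ₄, mul_assoc f.a₂ f.b₂, show f.b₂ * f.a₂ = -(f.a₂ * f.b₂) by rw [f.ab₂, neg_neg], mul_neg, neg_neg]
    rw [hJ₃, mul_assoc, e2, mul_neg, ← mul_assoc, e1, mul_assoc]
  have s1 : J₁ * J₁ = -1 := f.a₁s
  have s2 : J₂ * J₂ = -1 := f.b₁s
  have s3 : J₃ * J₃ = -1 := by
    rw [hJ₃, show f.a₁ * f.a₂ * (f.a₁ * f.a₂) = f.a₁ * (f.a₂ * f.a₁) * f.a₂ by group, ← f.aa,
      show f.a₁ * (f.a₁ * f.a₂) * f.a₂ = f.a₁ * f.a₁ * (f.a₂ * f.a₂) by group, f.a₁s, f.a₂s, mul_one]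
  have s4 : J₄ * J₄ = -1 := by
    rw [hJ₄, show f.a₂ * f.b₂ * (f.a₂ * f.b₂) = f.a₂ * (f.b₂ * f.a₂) * f.b₂ by group,
      show f.b₂ * f.a₂ = -(f.a₂ * f.b₂) by rw [f.ab₂, neg_neg], mul_neg, neg_mul,
      show f.a₂ * (f.a₂ * f.b₂) * f.b₂ = f.a₂ * f.a₂ * (f.b₂ * f.b₂) by group, f.a₂s, f.b₂s, one_mul]
  have m3 : J₃ ∈ R := mul_mem f.a₁R f.a₂R
  have m4 : J₄ ∈ R := mul_mem f.a₂R f.b₂R
  obtain ⟨U₁, n1, u1⟩ := h.one_add_mem f.a₁R s1
  obtain ⟨U₂, n2, u2⟩ := h.one_add_mem f.b₁R s2
  obtain ⟨U₃, n3, u3⟩ := h.one_add_mem m3 s3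
  obtain ⟨U₄, n4, u4⟩ := h.one_add_mem m4 s4
  let c : GL ι F → GL ι F → GL ι F := fun U r => U * r * U⁻¹
  have cm : ∀ U a b, c U (a * b) = c U a * c U b := fun U a b => by simp only [c]; group
  have C1 := fun r => f.one_add_conj s1 u1 r
  have C2 := fun r => f.one_add_conj s2 u2 r
  have C3 := fun r => f.one_add_conj s3 u3 r
  have C4 := fun r => f.one_add_conj s4 u4 r
  set T := U₁ * U₂ * U₃ * U₄ with hT
  have hTc : ∀ r, T * r * T⁻¹ = c U₁ (c U₂ (c U₃ (c U₄ r))) := fun r => by simp only [c, hT]; group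
  have i1 : T * J₁ * T⁻¹ = J₂ := by
    rw [hTc]; simp only [c]
    rw [(C4 J₁).1 h14.symm, (C3 J₁).1 h13.symm, (C2 J₁).2 (rel (c := J₁) h12)]
    show c U₁ (J₂ * J₁) = J₂
    rw [cm]; simp only [c]
    rw [(C1 J₂).2 h12, (C1 J₁).1 rfl, h12, neg_mul, mul_assoc, s1, mul_neg, neg_neg, mul_one]
  have i2 : T * J₂ * T⁻¹ = J₃ := by
    rw [hTc]; simp only [c]
    rw [(C4 J₂).1 h24.symm, (C3 J₂).2 (rel (c := J₁) h23)]
    show c U₁ (c U₂ (J₃ * J₂)) = J₃
    rw [cm U₂]
    have e : c U₂ J₃ * c U₂ J₂ = J₃ := by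
      simp only [c]
      rw [(C2 J₃).2 h23, (C2 J₂).1 rfl, h23, neg_mul, mul_assoc, s2, mul_neg, neg_neg, mul_one]
    rw [e]; exact (C1 J₃).1 h13
  have i3 : T * J₃ * T⁻¹ = J₄ := by
    rw [hTc]; simp only [c]
    rw [(C4 J₃).2 (rel (c := J₁) h34)]
    show c U₁ (c U₂ (c U₃ (J₄ * J₃))) = J₄
    rw [cm U₃]
    have e : c U₃ J₄ * c U₃ J₃ = J₄ := by
      simp only [c]
      rw [(C3 J₄).2 h34, (C3 J₃).1 rfl, h34, neg_mul, mul_assoc, s3, mul_neg, neg_neg, mul_one]
    rw [e]; simp only [c]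
    rw [(C2 J₄).1 h24, (C1 J₄).1 h14]
  have i4 : T * J₄ * T⁻¹ = J₁ * J₂ * J₃ * J₄ := by
    rw [hTc]; simp only [c]
    rw [(C4 J₄).1 rfl, (C3 J₄).2 h34]
    show c U₁ (c U₂ (J₃ * J₄)) = _
    rw [cm U₂]
    simp only [c]
    rw [(C2 J₃).2 h23, (C2 J₄).1 h24]
    show c U₁ (J₂ * J₃ * J₄) = _
    rw [cm, cm]; simp only [c]
    rw [(C1 J₂).2 h12, (C1 J₃).1 h13, (C1 J₄).1 h14]
  have i5 : T * (J₁ * J₂ * J₃ * J₄) * T⁻¹ = J₁ := by
    have cT : ∀ a b, T * (a * b) * T⁻¹ = (T * a * T⁻¹) * (T * b * T⁻¹) := fun a b => by group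
    rw [cT, cT, cT, i1, i2, i3, i4]
    have e1 : J₄ * (J₁ * J₂) = J₁ * J₂ * J₄ := by
      rw [← mul_assoc, ← h14, mul_assoc, ← h24, ← mul_assoc]
    calc J₂ * J₃ * J₄ * (J₁ * J₂ * J₃ * J₄)
        = J₂ * J₃ * (J₄ * (J₁ * J₂)) * J₃ * J₄ := by group
      _ = J₂ * (J₃ * J₁) * J₂ * (J₄ * J₃) * J₄ := by rw [e1]; group
      _ = (J₂ * J₁) * (J₃ * J₂) * -(J₃ * J₄) * J₄ := by rw [← h13, rel (c := J₁) h34]; group
      _ = -((J₂ * J₁) * (J₃ * J₂) * J₃ * (J₄ * J₄)) := by simp only [mul_neg, neg_mul]; group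
      _ = (J₂ * J₁) * (J₃ * J₂) * J₃ := by rw [s4, mul_neg, mul_one, neg_neg]
      _ = -((J₂ * J₁) * J₂ * (J₃ * J₃)) := by rw [rel (c := J₁) h23]; simp only [mul_neg, neg_mul]; group
      _ = J₂ * J₁ * J₂ := by rw [s3, mul_neg, mul_one, neg_neg]
      _ = -(J₁ * (J₂ * J₂)) := by rw [rel (c := J₁) h12, neg_mul]; group
      _ = J₁ := by rw [s2, mul_neg, mul_one, neg_neg]
  have hT5 : T ^ 5 * J₁ = J₁ * T ^ 5 := by
    rw [← mul_inv_eq_iff_eq_mul]
    calc T ^ 5 * J₁ * (T ^ 5)⁻¹
        = T * (T * (T * (T * (T * J₁ * T⁻¹) * T⁻¹) * T⁻¹) * T⁻¹) * T⁻¹ := by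
          simp only [pow_succ, pow_zero, one_mul, _root_.mul_inv_rev, mul_assoc]
      _ = J₁ := by rw [i1, i2, i3, i4, i5]
  have hTn : T ∈ subgroupNormalizer R := mul_mem (mul_mem (mul_mem n1 n2) n3) n4
  have hdvd : 5 ∣ orderOf T := by
    by_contra hd
    have hcop : Nat.Coprime (orderOf T) 5 := ((Nat.Prime.coprime_iff_not_dvd (by norm_num)).2 hd).symm
    have hmem : T ∈ Subgroup.zpowers (T ^ 5) := by
      obtain ⟨m, hm⟩ := exists_pow_eq_self_of_coprime hcop.symm
      exact Subgroup.mem_zpowers_iff.2 ⟨m, by rw [zpow_natCast, hm]⟩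
    have hc : T * J₁ = J₁ * T := by
      obtain ⟨m, hm⟩ := Subgroup.mem_zpowers_iff.1 hmem
      rw [← hm]
      exact ((show Commute (T ^ 5) J₁ from hT5).zpow_left m).eq
    rw [hc, mul_inv_cancel_right] at i1
    rw [← i1] at h12
    exact h.ne_neg _ h12
  refine ⟨T ^ (orderOf T / 5), pow_mem hTn _, ?_, fun hs => ?_⟩
  · rw [← pow_mul, Nat.div_mul_cancel hdvd, pow_orderOf_eq_one]
  · have h1 := hno _ hs (by rw [← pow_mul, Nat.div_mul_cancel hdvd, pow_orderOf_eq_one])
    have h2 := Nat.le_of_dvd (by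
      have := orderOf_pos T
      exact Nat.div_pos (Nat.le_of_dvd this hdvd) (by norm_num)) (orderOf_dvd_of_pow_eq_one h1)
    have := orderOf_pos T
    omega

/-- The order three combination of an anticommuting pair of square roots of minus one. -/
theorem exists_three_pair (h : IsPauli R) {a b : GL ι F} (ha : a ∈ R) (hb : b ∈ R) (has : a * a = -1)
    (hbs : b * b = -1) (hab : a * b = -(b * a)) :
    ∃ y ∈ subgroupNormalizer R, y ^ 3 = 1 ∧
      (y : Matrix ι ι F) = (-(2 : F)⁻¹) • (1 + (a : Matrix ι ι F) + b + (a : Matrix ι ι F) * b) ∧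
      (y : Matrix ι ι F) * y = (-(2 : F)⁻¹) • (1 - (a : Matrix ι ι F) - b - (a : Matrix ι ι F) * b) := by
  obtain ⟨U, hU, u⟩ := h.one_add_mem ha has
  obtain ⟨V, hV, v⟩ := h.one_add_mem hb hbs
  have h2 : (-(2 : F)⁻¹) ≠ 0 := neg_ne_zero.2 (inv_ne_zero h.two)
  let S : GL ι F := Units.map (Matrix.scalar ι : F →+* Matrix ι ι F).toMonoidHom (Units.mk0 _ h2)
  have hval : ((S * (U * V) : GL ι F) : Matrix ι ι F) =
      (-(2 : F)⁻¹) • (1 + (a : Matrix ι ι F) + b + (a : Matrix ι ι F) * b) := by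
    rw [Units.val_mul, Units.val_mul, u, v]
    show Matrix.scalar ι (-(2 : F)⁻¹) * _ = _
    rw [Matrix.scalar_apply, ← Matrix.smul_one_eq_diagonal, smul_mul_assoc, one_mul, add_mul, mul_add, mul_add,
      one_mul, one_mul, mul_one]
    abel_nf
  set A := (a : Matrix ι ι F)
  set B := (b : Matrix ι ι F)
  have eA : A * A = -1 := by simpa [A] using congrArg Units.val has
  have eB : B * B = -1 := by simpa [B] using congrArg Units.val hbs
  have eBA : B * A = -(A * B) := by
    have := congrArg Units.val hab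
    simp only [Units.val_mul, Units.val_neg] at this
    rw [this, neg_neg]
  have eBAB : B * (A * B) = A := by rw [← mul_assoc, eBA, neg_mul, mul_assoc, eB, mul_neg, mul_one, neg_neg]
  have eABA : A * B * A = B := by rw [mul_assoc, eBA, mul_neg, ← mul_assoc, eA, neg_one_mul, neg_neg]
  have eAAB : A * (A * B) = -B := by rw [← mul_assoc, eA, neg_one_mul]
  have eABB : A * B * B = -A := by rw [mul_assoc, eB, mul_neg, mul_one]
  have eABAB : A * B * (A * B) = -1 := by rw [← mul_assoc, eABA, eB]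
  have hS2 : (A + B + A * B) * (A + B + A * B) = (-3 : F) • (1 : Matrix ι ι F) := by
    simp only [add_mul, mul_add, eA, eB, eBA, eBAB, eABA, eAAB, eABB, eABAB]
    rw [neg_smul, show (3 : F) = 1 + 1 + 1 by norm_num, add_smul, add_smul, one_smul]
    abel
  rw [show 1 + A + B + A * B = 1 + (A + B + A * B) by abel] at hval
  rw [show 1 + A + B + A * B = 1 + (A + B + A * B) by abel, show 1 - A - B - A * B = 1 - (A + B + A * B) by abel]
  generalize A + B + A * B = s at hS2 hval ⊢
  have e2 : (1 + s) * (1 + s) = (-2 : F) • 1 + (2 : F) • s := by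
    rw [add_mul, mul_add, mul_add, hS2]
    simp only [one_mul, mul_one]
    module
  have h2' := h.two
  refine ⟨S * (U * V), mul_mem (scalars_le_normalizer R ⟨_, rfl⟩) (mul_mem hU hV), ?_, hval, ?_⟩
  · refine Units.ext ?_
    rw [Units.val_pow_eq_pow_val, hval, Units.val_one, _root_.smul_pow, pow_succ (1 + s) 2, pow_two (1 + s), e2, add_mul,
      smul_mul_assoc, one_mul, smul_mul_assoc, mul_add, mul_one, hS2]
    match_scalars <;> field_simp <;> norm_num
  · rw [hval, smul_mul_smul_comm, e2]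
    match_scalars <;> field_simp <;> norm_num

include f in
theorem trace_sum₁ (h : IsPauli R) :
    ((f.a₁ : Matrix ι ι F)).trace = 0 ∧ ((f.b₁ : Matrix ι ι F)).trace = 0 ∧
      ((f.a₁ : Matrix ι ι F) * f.b₁).trace = 0 := by
  refine ⟨h.trace_zero f.a₁R (h.not_scalar_of_ac f.ab₁),
    h.trace_zero f.b₁R (h.not_scalar_of_ac (by rw [f.ab₁, neg_neg] : f.b₁ * f.a₁ = -(f.a₁ * f.b₁))), ?_⟩
  rw [← Units.val_mul]
  refine h.trace_zero (mul_mem f.a₁R f.b₁R) (h.not_scalar_of_ac (b := f.a₁) ?_)
  rw [← mul_assoc f.a₁ f.a₁, mul_assoc f.a₁ f.b₁, show f.b₁ * f.a₁ = -(f.a₁ * f.b₁) by rw [f.ab₁, neg_neg],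
    mul_neg, ← mul_assoc]

include f in
theorem exists_three_two (h : IsPauli R) :
    ∃ y ∈ subgroupNormalizer R, y ^ 3 = 1 ∧ (y : Matrix ι ι F).trace = -2 ∧
      ((y : Matrix ι ι F) * y).trace = -2 := by
  obtain ⟨y, hy, hy3, hyv, hyy⟩ := exists_three_pair h f.a₁R f.b₁R f.a₁s f.b₁s f.ab₁
  obtain ⟨t1, t2, t3⟩ := f.trace_sum₁ h
  have := h.two
  refine ⟨y, hy, hy3, ?_, ?_⟩
  · rw [hyv, trace_smul, trace_add, trace_add, trace_add, trace_one, h.card4, t1, t2, t3, smul_eq_mul]
    field_simp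
    norm_num
  · rw [hyy, trace_smul, trace_sub, trace_sub, trace_sub, trace_one, h.card4, t1, t2, t3, smul_eq_mul]
    field_simp
    norm_num

include f in
theorem exists_three_one (h : IsPauli R) {i : GL ι F} (hi : i ∈ R) (his : i ∈ scalars ι F) (hii : i * i = -1) :
    ∃ y ∈ subgroupNormalizer R, y ^ 3 = 1 ∧ (y : Matrix ι ι F).trace = 1 ∧
      ((y : Matrix ι ι F) * y).trace = 1 := by
  obtain ⟨y, hy, hy3, hyv, hyy⟩ := exists_three_pair h f.a₁R f.b₁R f.a₁s f.b₁s f.ab₁
  have sq2 : ∀ x : GL ι F, x * x = 1 → i * x * (i * x) = -1 := fun x e => by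
    rw [show i * x * (i * x) = i * (x * i) * x by group, ← scalar_comm his x,
      show i * (i * x) * x = i * i * (x * x) by group, hii, e, mul_one]
  have hcomm : ∀ x y : GL ι F, x * y = y * x → i * x * y = y * (i * x) := fun x y e => by
    rw [mul_assoc, e, ← mul_assoc, scalar_comm his y, mul_assoc]
  have h2ab : i * f.a₂ * (i * f.b₂) = -(i * f.b₂ * (i * f.a₂)) := by
    have e : ∀ a b : GL ι F, i * a * (i * b) = i * i * (a * b) := fun a b => by
      rw [show i * a * (i * b) = i * (a * i) * b by group, ← scalar_comm his a]; group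
    rw [e, e, f.ab₂, mul_neg]
  obtain ⟨z, hz, hz3, hzv, hzz⟩ := exists_three_pair h (mul_mem hi f.a₂R) (mul_mem hi f.b₂R) (sq2 _ f.a₂s) (sq2 _ f.b₂s) h2ab
  set A := (f.a₁ : Matrix ι ι F)
  set B := (f.b₁ : Matrix ι ι F)
  set C := ((i * f.a₂ : GL ι F) : Matrix ι ι F)
  set D := ((i * f.b₂ : GL ι F) : Matrix ι ι F)
  have cAC : Commute A C := show _ = _ from by simpa [A, C] using congrArg Units.val (hcomm _ _ f.aa.symm).symm
  have cAD : Commute A D := show _ = _ from by simpa [A, D] using congrArg Units.val (hcomm _ _ f.ab.symm).symm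
  have cBC : Commute B C := show _ = _ from by simpa [B, C] using congrArg Units.val (hcomm _ _ f.ba.symm).symm
  have cBD : Commute B D := show _ = _ from by simpa [B, D] using congrArg Units.val (hcomm _ _ f.bb.symm).symm
  have hX : ∀ X, Commute A X → Commute B X → Commute (1 + A + B + A * B) X := fun X h1 h2 =>
    (((Commute.one_left X).add_left h1).add_left h2).add_left (h1.mul_left h2)
  have hc : Commute (y : Matrix ι ι F) z := by
    rw [hyv, hzv]
    exact (((hX 1 (Commute.one_right _) (Commute.one_right _)).add_right (hX C cAC cBC)).add_right (hX D cAD cBD)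
      |>.add_right (hX _ (cAC.mul_right cAD) (cBC.mul_right cBD))).smul_left _ |>.smul_right _
  refine ⟨y * z, mul_mem hy hz, ?_, ?_⟩
  · refine Units.ext ?_
    rw [Units.val_pow_eq_pow_val, Units.val_mul, hc.mul_pow, ← Units.val_pow_eq_pow_val, ← Units.val_pow_eq_pow_val,
      hy3, hz3, Units.val_one, one_mul]
  · have eAB : B * A = -(A * B) := by
      have := congrArg Units.val f.ab₁
      simp only [Units.val_mul, Units.val_neg] at this
      rw [show A * B = -(B * A) from this, neg_neg]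
    have eCD : D * C = -(C * D) := by
      have := congrArg Units.val h2ab
      simp only [Units.val_mul, Units.val_neg] at this
      rw [show C * D = -(D * C) from by simpa [C, D] using this, neg_neg]
    have tA : ∀ X, Commute B X → (A * X).trace = 0 := fun X hX =>
      trace_zero_of_anticommute h.two f.b₁ (by
        show B * (A * X) = -(A * X * B)
        rw [← mul_assoc, eAB, neg_mul, mul_assoc, hX.eq, mul_assoc])
    have tB : ∀ X, Commute A X → (B * X).trace = 0 := fun X hX =>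
      trace_zero_of_anticommute h.two f.a₁ (by
        show A * (B * X) = -(B * X * A)
        rw [← mul_assoc, show A * B = -(B * A) by rw [eAB, neg_neg], neg_mul, mul_assoc, hX.eq, mul_assoc])
    have tAB : ∀ X, Commute A X → (A * B * X).trace = 0 := fun X hX =>
      trace_zero_of_anticommute h.two f.a₁ (by
        show A * (A * B * X) = -(A * B * X * A)
        rw [mul_assoc (A * B) X A, ← hX.eq, ← mul_assoc (A * B) A X, mul_assoc A B A, eAB, mul_neg, neg_mul, neg_neg]
        simp only [mul_assoc])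
    have tC : C.trace = 0 := trace_zero_of_anticommute h.two (i * f.b₂) (by show D * C = -(C * D); exact eCD)
    have tD : D.trace = 0 := trace_zero_of_anticommute h.two (i * f.a₂) (by
      show C * D = -(D * C); rw [eCD, neg_neg])
    have tCD : (C * D).trace = 0 := trace_zero_of_anticommute h.two (i * f.a₂) (by
      show C * (C * D) = -(C * D * C); rw [mul_assoc C D C, eCD, mul_neg, neg_neg])
    have a0 := tA 1 (Commute.one_right _)
    have b0 := tB 1 (Commute.one_right _)
    have ab0 := tAB 1 (Commute.one_right _)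
    rw [mul_one] at a0 b0 ab0
    have hyz : ((y : Matrix ι ι F) * z) * ((y : Matrix ι ι F) * z) = ((y : Matrix ι ι F) * y) * ((z : Matrix ι ι F) * z) :=
      hc.symm.mul_mul_mul_comm _ _
    have := h.two
    rw [Units.val_mul]
    refine ⟨?_, ?_⟩
    · rw [hyv, hzv, smul_mul_smul_comm, trace_smul]
      simp only [add_mul, mul_add, one_mul, mul_one, trace_add, trace_one, h.card4, tC, tD, tCD, a0, b0, ab0,
        tA C cBC, tA D cBD, tA _ (cBC.mul_right cBD), tB C cAC, tB D cAD, tB _ (cAC.mul_right cAD),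
        tAB C cAC, tAB D cAD, tAB _ (cAC.mul_right cAD), smul_eq_mul]
      field_simp
      norm_num
    · rw [hyz, hyy, hzz, smul_mul_smul_comm, trace_smul]
      simp only [sub_mul, mul_sub, one_mul, mul_one, trace_sub, trace_one, h.card4, tC, tD, tCD, a0, b0, ab0,
        tA C cBC, tA D cBD, tA _ (cBC.mul_right cBD), tB C cAC, tB D cAD, tB _ (cAC.mul_right cAD),
        tAB C cAC, tAB D cAD, tAB _ (cAC.mul_right cAD), smul_eq_mul]
      field_simp
      norm_num

include f in
/-- A reflection. -/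
theorem exists_reflection (h : IsPauli R) {i : GL ι F} (hi : i ∈ R) (his : i ∈ scalars ι F) (hii : i * i = -1) :
    ∃ y ∈ subgroupNormalizer R, (y : Matrix ι ι F) ^ 2 = 1 ∧ (y : Matrix ι ι F).trace = 2 ∧
      ∀ d : F, (y : Matrix ι ι F) ≠ d • 1 := by
  obtain ⟨c, hc⟩ := (mem_scalars_iff i).1 his
  have hc2 : (c : F) * c = -1 := by
    have e := congrArg Units.val hii
    rw [Units.val_mul, hc, smul_mul_smul_comm, one_mul] at e
    obtain ⟨j⟩ := h.nonempty
    have := congrFun₂ e j j
    simpa using this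
  set a := f.a₂
  set b := i * f.a₁ with hb
  have hbR : b ∈ R := mul_mem hi f.a₁R
  have has : a * a = 1 := f.a₂s
  have hbs : b * b = 1 := by
    rw [hb, show i * f.a₁ * (i * f.a₁) = i * (f.a₁ * i) * f.a₁ by group, ← scalar_comm his f.a₁,
      show i * (i * f.a₁) * f.a₁ = i * i * (f.a₁ * f.a₁) by group, hii, f.a₁s]
    simp
  have hab : a * b = b * a := by rw [hb, ← mul_assoc, ← scalar_comm his a, mul_assoc, ← f.aa, mul_assoc]
  have mk : ∀ x ∈ R, x * x = 1 → ∃ J ∈ R, J * J = -1 ∧ (J : Matrix ι ι F) = (c : F) • (x : Matrix ι ι F) := fun x hx e =>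
    ⟨i * x, mul_mem hi hx, by
      rw [show i * x * (i * x) = i * (x * i) * x by group, ← scalar_comm his x,
        show i * (i * x) * x = i * i * (x * x) by group, hii, e, mul_one], by simp [hc]⟩
  obtain ⟨J, hJ, hJs, hJv⟩ := mk a f.a₂R has
  obtain ⟨K, hK, hKs, hKv⟩ := mk b hbR hbs
  have habs : (-(a * b)) * (-(a * b)) = 1 := by
    rw [neg_mul_neg, show a * b * (a * b) = a * (b * a) * b by group, ← hab,
      show a * (a * b) * b = a * a * (b * b) by group, has, hbs, one_mul]
  obtain ⟨L, hL, hLs, hLv⟩ := mk (-(a * b)) (h.neg_mem (mul_mem f.a₂R hbR)) habs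
  obtain ⟨U, nU, eU⟩ := h.one_add_mem hJ hJs
  obtain ⟨V, nV, eV⟩ := h.one_add_mem hK hKs
  obtain ⟨W, nW, eW⟩ := h.one_add_mem hL hLs
  have h1c : (1 + (c : F)) ≠ 0 := fun e => h.two (by linear_combination hc2 + (1 - (c : F)) * e)
  have hcoef : ((2 : F) * (1 + (c : F)))⁻¹ ≠ 0 := inv_ne_zero (mul_ne_zero h.two h1c)
  let S : GL ι F := Units.map (Matrix.scalar ι : F →+* Matrix ι ι F).toMonoidHom (Units.mk0 _ hcoef)
  set A := (a : Matrix ι ι F)
  set B := (b : Matrix ι ι F)
  have eA : A * A = 1 := by simpa [A] using congrArg Units.val has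
  have eB : B * B = 1 := by simpa [B] using congrArg Units.val hbs
  have eAB : B * A = A * B := by simpa [A, B] using congrArg Units.val hab.symm
  have eABA : A * B * A = B := by rw [mul_assoc, eAB, ← mul_assoc, eA, one_mul]
  have eABB : A * B * B = A := by rw [mul_assoc, eB, mul_one]
  have eAAB : A * (A * B) = B := by rw [← mul_assoc, eA, one_mul]
  have eBAB : B * (A * B) = A := by rw [← mul_assoc, eAB, eABB]
  have eABAB : A * B * (A * B) = 1 := by rw [← mul_assoc, eABA, eB]
  have hy : ((S * (U * V * W) : GL ι F) : Matrix ι ι F) = (2 : F)⁻¹ • (1 + A + B - A * B) := by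
    rw [Units.val_mul, Units.val_mul, Units.val_mul, eU, eV, eW, hJv, hKv, hLv]
    show Matrix.scalar ι ((2 : F) * (1 + (c : F)))⁻¹ * _ = _
    rw [Matrix.scalar_apply, ← Matrix.smul_one_eq_diagonal, smul_mul_assoc, one_mul, Units.val_neg, Units.val_mul,
      smul_neg]
    have e : (1 + (c : F) • A) * (1 + (c : F) • B) * (1 + -((c : F) • (A * B))) =
        (1 + (c : F)) • (1 + A + B - A * B) := by
      simp only [add_mul, mul_add, one_mul, mul_one, mul_neg, smul_mul_smul_comm, smul_mul_assoc, mul_smul_comm,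
        eA, eB, eABA, eABB, eAAB, eBAB, eABAB, hc2, neg_smul, one_smul, smul_neg, neg_mul]
      match_scalars <;>
        first
          | ring1
          | linear_combination (c : F) * hc2
          | linear_combination -(c : F) * hc2
          | linear_combination hc2
          | linear_combination -hc2
    rw [e, smul_smul]
    congr 1
    field_simp
  have ta : A.trace = 0 := h.trace_zero f.a₂R (h.not_scalar_of_ac f.ab₂)
  refine ⟨S * (U * V * W), mul_mem (scalars_le_normalizer R ⟨_, rfl⟩) (mul_mem (mul_mem nU nV) nW), ?_, ?_⟩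
  · rw [hy, sq, smul_mul_smul_comm]
    simp only [add_mul, mul_add, sub_mul, mul_sub, one_mul, mul_one, eA, eB, eAB, eABA, eABB, eAAB, eBAB, eABAB]
    have := h.two
    match_scalars <;> field_simp <;> ring
  · have tb : B.trace = 0 := h.trace_zero hbR (h.not_scalar_of_ac (b := f.b₁) (by
      rw [hb, mul_assoc, f.ab₁, mul_neg, ← mul_assoc, scalar_comm his f.b₁, mul_assoc]))
    have tab : (A * B).trace = 0 := trace_zero_of_anticommute h.two f.b₂ (by
      have e1 : (f.b₂ : Matrix ι ι F) * A = -(A * f.b₂) := by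
        have := congrArg Units.val (show f.b₂ * a = -(a * f.b₂) by rw [f.ab₂, neg_neg])
        simpa [A] using this
      have e2 : (f.b₂ : Matrix ι ι F) * B = B * f.b₂ := by
        have := congrArg Units.val (show f.b₂ * b = b * f.b₂ by
          rw [hb, ← mul_assoc, ← scalar_comm his f.b₂, mul_assoc, ← f.ab, mul_assoc])
        simpa [B] using this
      rw [← mul_assoc, e1, neg_mul, mul_assoc, e2, mul_assoc])
    have := h.two
    refine ⟨?_, fun d e => ?_⟩
    · rw [hy, trace_smul, trace_sub, trace_add, trace_add, trace_one, h.card4, ta, tb, tab, smul_eq_mul]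
      field_simp
      norm_num
    · have e' := congrArg (fun M => (A * M).trace) (hy.symm.trans e)
      simp only [mul_smul_comm, mul_one, trace_smul, mul_sub, mul_add, eA, eAAB, trace_sub, trace_add, trace_one,
        h.card4, ta, tb, tab, smul_eq_mul] at e'
      field_simp at e'
      exact h.two (mul_self_eq_zero.1 (by linear_combination e'))

end Frame

end CfsgLib.Geo.Pauli
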