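/-
Characteristic polynomials of four-dimensional matrices of small prime order modulo scalars.
-/
import Cfsg.Agent.Lib.Classical.EigenOrbit.Diag

set_option autoImplicit false

open scoped Classical

namespace CfsgLib.Geo.PauliRoots

open Matrix Polynomial

variable {ι : Type} [Fintype ι] [DecidableEq ι] {F : Type*} [Field F]

local notation "K" => AlgebraicClosure F

/-- The matrix over the algebraic closure. -/
noncomputable def up (x : Matrix ι ι F) : Matrix ι ι K := (algebraMap F K).mapMatrix x

/-- The eigenvalues. -/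
noncomputable def spec (x : Matrix ι ι F) : Multiset K := (up x).charpoly.roots

theorem card_spec (x : Matrix ι ι F) : Multiset.card (spec x) = Fintype.card ι :=
  CfsgLib.Classical.EigenOrbit.card_roots _

theorem trace_eq (x : Matrix ι ι F) : algebraMap F K x.trace = (spec x).sum := by
  rw [spec, ← Matrix.trace_eq_sum_roots_charpoly]
  simp [up, trace, map_sum]

theorem det_eq (x : Matrix ι ι F) : algebraMap F K x.det = (spec x).prod := by
  rw [spec, ← Matrix.det_eq_prod_roots_charpoly, up, RingHom.map_det]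

theorem charpoly_eq {x y : Matrix ι ι F} (h : spec x = spec y) : x.charpoly = y.charpoly := by
  apply Polynomial.map_injective _ (algebraMap F K).injective
  rw [← Matrix.charpoly_map, ← Matrix.charpoly_map]
  show (up x).charpoly = (up y).charpoly
  rw [(IsAlgClosed.splits (up x).charpoly).eq_prod_roots_of_monic (charpoly_monic _),
    (IsAlgClosed.splits (up y).charpoly).eq_prod_roots_of_monic (charpoly_monic _)]
  exact congrArg (fun M : Multiset K => (M.map (X - C ·)).prod) h

theorem spec_of_charpoly {x y : Matrix ι ι F} (h : x.charpoly = y.charpoly) : spec x = spec y := by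
  unfold spec up
  rw [RingHom.mapMatrix_apply, RingHom.mapMatrix_apply, Matrix.charpoly_map, Matrix.charpoly_map, h]

variable [Nonempty ι]

theorem spec_scalar (c : F) : spec (c • (1 : Matrix ι ι F)) = Multiset.replicate (Fintype.card ι) (algebraMap F K c) := by
  have e : up (c • (1 : Matrix ι ι F)) = Matrix.diagonal fun _ => algebraMap F K c := by
    simp [up, Matrix.smul_one_eq_diagonal, Matrix.diagonal_map]
  rw [spec, e, charpoly_diagonal, Finset.prod_const, Finset.card_univ, roots_pow, roots_X_sub_C,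
    Multiset.nsmul_singleton]

theorem spec_pow (x : Matrix ι ι F) {N : ℕ} (hN : (N : F) ≠ 0) (hx : x ^ N = 1) (j : ℕ) :
    spec (x ^ j) = (spec x).map (· ^ j) := by
  have hN' : (N : K) ≠ 0 := by
    rw [← map_natCast (algebraMap F K)]
    exact (_root_.map_ne_zero _).2 hN
  have hx' : up x ^ N = 1 := by rw [up, ← map_pow, hx, map_one]
  rw [spec, up, map_pow]
  exact CfsgLib.Classical.EigenOrbit.roots_charpoly_pow _ hN' hx' j

theorem scalar_of_spec (x : Matrix ι ι F) {N : ℕ} (hN : (N : F) ≠ 0) (hx : x ^ N = 1) {a : K}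
    (h : ∀ b ∈ spec x, b = a) : ∃ c : F, x = c • (1 : Matrix ι ι F) := by
  have hN' : (N : K) ≠ 0 := by
    rw [← map_natCast (algebraMap F K)]
    exact (_root_.map_ne_zero _).2 hN
  have hx' : up x ^ N = 1 := by rw [up, ← map_pow, hx, map_one]
  have e := CfsgLib.Classical.EigenOrbit.eq_scalar_of_roots (up x) hN' hx' h
  obtain ⟨i⟩ := ‹Nonempty ι›
  refine ⟨x i i, ?_⟩
  ext a b
  have hab := congrFun₂ e a b
  have hii := congrFun₂ e i i
  rw [Matrix.diagonal_apply_eq] at hii
  rw [Matrix.smul_apply, Matrix.one_apply]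
  rw [Matrix.diagonal_apply] at hab
  split_ifs with hh
  · subst hh
    rw [if_pos rfl, ← hii] at hab
    simpa using (algebraMap F K).injective hab
  · rw [if_neg hh, ← map_zero (algebraMap F K)] at hab
    simpa using (algebraMap F K).injective hab

theorem spec_map_fix {p : ℕ} [Fact p.Prime] [CharP F p] (x : Matrix ι ι F) (hfix : ∀ a : F, a ^ p = a) :
    (spec x).map (· ^ p) = spec x := by
  haveI : CharP K p := (Algebra.charP_iff F K p).1 inferInstance
  have h : (up x).charpoly.map (frobenius K p) = (up x).charpoly := by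
    unfold up
    rw [RingHom.mapMatrix_apply, Matrix.charpoly_map, Polynomial.map_map]
    congr 1
    ext a
    show algebraMap F K a ^ p = algebraMap F K a
    rw [← map_pow, hfix]
  have e := (IsAlgClosed.splits (up x).charpoly).roots_map (frobenius K p)
  rw [h] at e
  exact e.symm

theorem spec_map_conj {p : ℕ} [Fact p.Prime] [CharP F p] (σ : F ≃+* F) (hσ : ∀ a, σ a = a ^ p) (x y : Matrix ι ι F)
    (h : x.charpoly.map σ.toRingHom = y.charpoly) : spec y = (spec x).map (· ^ p) := by
  haveI : CharP K p := (Algebra.charP_iff F K p).1 inferInstance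
  have h' : (up y).charpoly = (up x).charpoly.map (frobenius K p) := by
    unfold up
    rw [RingHom.mapMatrix_apply, RingHom.mapMatrix_apply, Matrix.charpoly_map, Matrix.charpoly_map, ← h,
      Polynomial.map_map, Polynomial.map_map]
    congr 1
    ext a
    show algebraMap F K (σ a) = algebraMap F K a ^ p
    rw [hσ, map_pow]
  rw [spec, h', (IsAlgClosed.splits (up x).charpoly).roots_map (frobenius K p)]
  rfl

theorem root_pow (x : Matrix ι ι F) {N : ℕ} (hN : (N : F) ≠ 0) (hx : x ^ N = 1) {b : K} (hb : b ∈ spec x) :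
    b ^ N = 1 := by
  have hmem : b ^ N ∈ (spec x).map (· ^ N) := Multiset.mem_map_of_mem (fun a : K => a ^ N) hb
  rw [← spec_pow x hN hx, hx, ← one_smul F (1 : Matrix ι ι F), spec_scalar] at hmem
  rw [Multiset.eq_of_mem_replicate hmem, map_one]

theorem count_le_of_map {s : Multiset K} {f : K → K} (hs : s.map f = s) (a : K) : s.count a ≤ s.count (f a) := by
  classical
  conv_rhs => rw [← hs]
  rw [Multiset.count_map, Multiset.count_eq_card_filter_eq]
  refine Multiset.card_le_card (Multiset.monotone_filter_right _ fun b hb => ?_)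
  rw [hb]

theorem eq_sum_of_subset [DecidableEq K] {s : Multiset K} {S : Finset K} (h : ∀ b ∈ s, b ∈ S) :
    s = ∑ a ∈ S, Multiset.replicate (s.count a) a := by
  ext b
  rw [Multiset.count_sum']
  by_cases hb : b ∈ S
  · rw [Finset.sum_eq_single b (fun c _ hc => by rw [Multiset.count_replicate, if_neg hc]) (fun h' => absurd hb h'),
      Multiset.count_replicate_self]
  · rw [Multiset.count_eq_zero.2 fun h' => hb (h b h'), Finset.sum_eq_zero fun c hc => ?_]
    rw [Multiset.count_replicate, if_neg]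
    rintro rfl
    exact hb hc

theorem card_eq_sum [DecidableEq K] {s : Multiset K} {S : Finset K} (h : ∀ b ∈ s, b ∈ S) :
    Multiset.card s = ∑ a ∈ S, s.count a :=
  ((Multiset.toFinset_sum_count_eq s).symm.trans (Finset.sum_subset (fun b hb => h b (Multiset.mem_toFinset.1 hb))
    fun b _ hb => Multiset.count_eq_zero.2 fun h' => hb (Multiset.mem_toFinset.2 h')))

/-- The classification in order three. -/
theorem order_three (h3 : (3 : F) ≠ 0) (x : Matrix ι ι F) (h4 : Fintype.card ι = 4) (hx : x ^ 3 = 1) (hx1 : x ≠ 1)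
    (hinv : (spec x).map (· ^ 2) = spec x) :
    ∃ (w : K) (m : ℕ), w ^ 3 = 1 ∧ w ≠ 1 ∧ (m = 1 ∨ m = 2) ∧ x.trace = 4 - 3 * (m : F) ∧
      spec x = Multiset.replicate (4 - 2 * m) 1 + (Multiset.replicate m w + Multiset.replicate m (w ^ 2)) := by
  classical
  have h3K : (3 : K) ≠ 0 := by
    rw [← map_ofNat (algebraMap F K) 3]
    exact (_root_.map_ne_zero _).2 h3
  haveI : NeZero ((3 : ℕ) : K) := ⟨by exact_mod_cast h3K⟩
  obtain ⟨w, hw⟩ := HasEnoughRootsOfUnity.exists_primitiveRoot K 3
  have hw3 := hw.pow_eq_one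
  have hw1 : w ≠ 1 := hw.ne_one (by norm_num)
  have hw2 : w ^ 2 ≠ 1 := hw.pow_ne_one_of_pos_of_lt two_ne_zero (by norm_num)
  have hw12 : w ≠ w ^ 2 := fun e => hw1 (mul_left_cancel₀ (hw.ne_zero (by norm_num)) (by rw [mul_one, ← sq, ← e]))
  have hN : ((3 : ℕ) : F) ≠ 0 := by exact_mod_cast h3
  have hmem : ∀ b ∈ spec x, b ∈ ({1, w, w ^ 2} : Finset K) := fun b hb => by
    obtain ⟨i, hi, rfl⟩ := hw.eq_pow_of_pow_eq_one (root_pow x hN hx hb)
    interval_cases i <;> simp
  have hcard := card_eq_sum hmem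
  rw [card_spec, h4, Finset.sum_insert (by simp [Ne.symm hw1, Ne.symm hw2]), Finset.sum_pair hw12] at hcard
  have e1 : (spec x).count w ≤ (spec x).count (w ^ 2) := count_le_of_map hinv w
  have e2 : (spec x).count (w ^ 2) ≤ (spec x).count ((w ^ 2) ^ 2) := count_le_of_map hinv (w ^ 2)
  rw [show (w ^ 2) ^ 2 = w by rw [← pow_mul, show 2 * 2 = 3 + 1 from rfl, pow_succ w 3, hw3, one_mul]] at e2
  set m := (spec x).count w
  have hm2 : (spec x).count (w ^ 2) = m := le_antisymm e2 e1
  rw [hm2] at hcard
  have hm0 : m ≠ 0 := by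
    intro e
    obtain ⟨c, hc⟩ := scalar_of_spec x hN hx (a := 1) fun b hb => by
      have := hmem b hb
      simp only [Finset.mem_insert, Finset.mem_singleton] at this
      rcases this with rfl | rfl | rfl
      · rfl
      · exact absurd (Multiset.count_pos.2 hb) (by rw [show (spec x).count b = 0 from e]; exact lt_irrefl _)
      · exact absurd (Multiset.count_pos.2 hb) (by rw [hm2, e]; exact lt_irrefl _)
    have hs := spec_scalar (ι := ι) (c : F)
    rw [← hc] at hs
    have hc1 : algebraMap F K c = 1 := by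
      have h1 : (1 : K) ∈ spec x := Multiset.count_pos.1 (by omega)
      rw [hs] at h1
      exact (Multiset.eq_of_mem_replicate h1).symm
    rw [← map_one (algebraMap F K)] at hc1
    rw [hc, (algebraMap F K).injective hc1, one_smul] at hx1
    exact hx1 rfl
  have hspec : spec x = Multiset.replicate (4 - 2 * m) 1 + (Multiset.replicate m w + Multiset.replicate m (w ^ 2)) := by
    conv_lhs => rw [eq_sum_of_subset hmem]
    rw [Finset.sum_insert (by simp [Ne.symm hw1, Ne.symm hw2]), Finset.sum_pair hw12, hm2,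
      show (spec x).count 1 = 4 - 2 * m by omega]
  refine ⟨w, m, hw3, hw1, by omega, (algebraMap F K).injective ?_, hspec⟩
  have hg : w ^ 2 + w + 1 = 0 := by
    have h := hw.geom_sum_eq_zero (by norm_num)
    simp [Finset.sum_range_succ] at h
    linear_combination h
  rw [trace_eq, hspec]
  simp only [Multiset.sum_add, Multiset.sum_replicate, nsmul_eq_mul, mul_one]
  rw [Nat.cast_sub (show 2 * m ≤ 4 by omega)]
  simp only [map_sub, map_mul, map_ofNat, map_natCast]
  push_cast
  linear_combination (m : K) * hg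

theorem order_three_eq {p : ℕ} [Fact p.Prime] [CharP F p] (hp2 : p ≠ 2) (h3 : (3 : F) ≠ 0) (x y : Matrix ι ι F)
    (h4 : Fintype.card ι = 4) (hx : x ^ 3 = 1) (hx1 : x ≠ 1) (hxi : (spec x).map (· ^ 2) = spec x)
    (hy : y ^ 3 = 1) (hy1 : y ≠ 1) (hyi : (spec y).map (· ^ 2) = spec y) (htr : x.trace = y.trace) :
    x.charpoly = y.charpoly := by
  obtain ⟨w, m, hw, hw1, hm, ht, hs⟩ := order_three h3 x h4 hx hx1 hxi
  obtain ⟨w', m', hw', hw1', hm', ht', hs'⟩ := order_three h3 y h4 hy hy1 hyi
  have hmm : m = m' := by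
    have e : (3 : F) * (m : F) = 3 * (m' : F) := by linear_combination ht - ht' - htr
    have e' := mul_left_cancel₀ h3 e
    rcases hm with rfl | rfl <;> rcases hm' with rfl | rfl <;> first | rfl | exact absurd (show (1 : F) = 0 by push_cast at e'; linear_combination e') one_ne_zero | exact absurd (show (1 : F) = 0 by push_cast at e'; linear_combination -e') one_ne_zero
  subst hmm
  refine charpoly_eq ?_
  rw [hs, hs']
  have hp := IsPrimitiveRoot.iff_orderOf.2 (orderOf_eq_prime (p := 3) hw hw1)
  obtain ⟨i, hi, rfl⟩ := hp.eq_pow_of_pow_eq_one hw'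
  interval_cases i
  · simp at hw1'
  · rw [pow_one]
  · rw [← pow_mul, show 2 * 2 = 3 + 1 from rfl, pow_succ w 3, hw, one_mul, add_comm (Multiset.replicate m w)]

/-- The classification in order five. -/
theorem order_five (h5 : (5 : F) ≠ 0) (x : Matrix ι ι F) (h4 : Fintype.card ι = 4) (hx : x ^ 5 = 1) (hx1 : x ≠ 1)
    {k : ℕ} (hk : k % 5 = 2 ∨ k % 5 = 3) (hinv : (spec x).map (· ^ k) = spec x) :
    ∃ w : K, IsPrimitiveRoot w 5 ∧ (spec x).toFinset = {w, w ^ 2, w ^ 3, w ^ 4} ∧ (spec x).Nodup := by
  classical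
  have h5K : (5 : K) ≠ 0 := by
    rw [← map_ofNat (algebraMap F K) 5]
    exact (_root_.map_ne_zero _).2 h5
  haveI : NeZero ((5 : ℕ) : K) := ⟨by exact_mod_cast h5K⟩
  obtain ⟨w, hw⟩ := HasEnoughRootsOfUnity.exists_primitiveRoot K 5
  have hN : ((5 : ℕ) : F) ≠ 0 := by exact_mod_cast h5
  have hmem : ∀ b ∈ spec x, b ∈ (Finset.range 5).image (w ^ ·) := fun b hb => by
    obtain ⟨i, hi, rfl⟩ := hw.eq_pow_of_pow_eq_one (root_pow x hN hx hb)
    exact Finset.mem_image_of_mem _ (Finset.mem_range.2 hi)
  have hcard := card_eq_sum hmem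
  rw [card_spec, h4, Finset.sum_image (fun a ha b hb e => hw.pow_inj (Finset.mem_range.1 ha) (Finset.mem_range.1 hb) e)]
    at hcard
  simp only [Finset.sum_range_succ, Finset.sum_range_zero, zero_add, pow_zero, pow_one] at hcard
  have step : ∀ i : ℕ, (spec x).count (w ^ i) ≤ (spec x).count (w ^ (i * k % 5)) := fun i => by
    have : (spec x).count (w ^ i) ≤ (spec x).count ((w ^ i) ^ k) := count_le_of_map hinv (w ^ i)
    rwa [← pow_mul, pow_eq_pow_mod (i * k) hw.pow_eq_one] at this
  have s1 := step 1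
  have s2 := step 2
  have s3 := step 3
  have s4 := step 4
  rw [pow_one, one_mul] at s1
  rw [Nat.mul_mod] at s2 s3 s4
  have heq : (spec x).count (w ^ 2) = (spec x).count w ∧ (spec x).count (w ^ 3) = (spec x).count w ∧
      (spec x).count (w ^ 4) = (spec x).count w := by
    rcases hk with hk | hk <;> rw [hk] at s1 s2 s3 s4 <;> norm_num at s1 s2 s3 s4 <;> omega
  have hpos : (spec x).count w ≠ 0 := by
    intro e
    obtain ⟨c, hc⟩ := scalar_of_spec x hN hx (a := 1) fun b hb => by
      obtain ⟨i, hi, rfl⟩ := Finset.mem_image.1 (hmem b hb)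
      have hb' := Multiset.count_pos.2 hb
      rw [Finset.mem_range] at hi
      interval_cases i
      · simp
      · rw [pow_one, e] at hb'; exact absurd hb' (lt_irrefl _)
      · rw [heq.1, e] at hb'; exact absurd hb' (lt_irrefl _)
      · rw [heq.2.1, e] at hb'; exact absurd hb' (lt_irrefl _)
      · rw [heq.2.2, e] at hb'; exact absurd hb' (lt_irrefl _)
    have hs := spec_scalar (ι := ι) (c : F)
    rw [← hc] at hs
    have hc1 : algebraMap F K c = 1 := by
      have h1 : (1 : K) ∈ spec x := Multiset.count_pos.1 (by omega)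
      rw [hs] at h1
      exact (Multiset.eq_of_mem_replicate h1).symm
    rw [← map_one (algebraMap F K)] at hc1
    rw [hc, (algebraMap F K).injective hc1, one_smul] at hx1
    exact hx1 rfl
  refine ⟨w, hw, ?_, ?_⟩
  · ext b
    simp only [Multiset.mem_toFinset, Finset.mem_insert, Finset.mem_singleton]
    constructor
    · intro hb
      obtain ⟨i, hi, rfl⟩ := Finset.mem_image.1 (hmem b hb)
      have hb' := Multiset.count_pos.2 hb
      rw [Finset.mem_range] at hi
      interval_cases i
      · rw [pow_zero] at hb'; omega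
      · simp
      · simp
      · simp
      · simp
    · rintro (rfl | rfl | rfl | rfl) <;> refine Multiset.count_pos.1 ?_ <;> omega
  · rw [Multiset.nodup_iff_count_le_one]
    intro b
    by_cases hb : b ∈ spec x
    · obtain ⟨i, hi, rfl⟩ := Finset.mem_image.1 (hmem b hb)
      rw [Finset.mem_range] at hi
      interval_cases i <;> first | omega | (rw [pow_zero]; omega) | (rw [pow_one]; omega)
    · rw [Multiset.count_eq_zero.2 hb]; norm_num

theorem order_five_eq (h5 : (5 : F) ≠ 0) (x y : Matrix ι ι F)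
    (h4 : Fintype.card ι = 4) (hx : x ^ 5 = 1) (hx1 : x ≠ 1) (hy : y ^ 5 = 1) (hy1 : y ≠ 1) {k : ℕ}
    (hk : k % 5 = 2 ∨ k % 5 = 3) (hxi : (spec x).map (· ^ k) = spec x) (hyi : (spec y).map (· ^ k) = spec y) :
    x.charpoly = y.charpoly := by
  classical
  obtain ⟨w, hw, hs, hn⟩ := order_five h5 x h4 hx hx1 hk hxi
  obtain ⟨w', hw', hs', hn'⟩ := order_five h5 y h4 hy hy1 hk hyi
  refine charpoly_eq ((Multiset.Nodup.ext hn hn').2 fun b => ?_)
  rw [← Multiset.mem_toFinset, ← Multiset.mem_toFinset, hs, hs']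
  have key : ∀ w : K, IsPrimitiveRoot w 5 → ∀ b : K,
      b ∈ ({w, w ^ 2, w ^ 3, w ^ 4} : Finset K) ↔ b ^ 5 = 1 ∧ b ≠ 1 := by
    intro w hw b
    simp only [Finset.mem_insert, Finset.mem_singleton]
    constructor
    · have p : ∀ i : ℕ, (w ^ i) ^ 5 = 1 := fun i => by rw [← pow_mul, mul_comm, pow_mul, hw.pow_eq_one, one_pow]
      have q : ∀ i : ℕ, 0 < i → i < 5 → w ^ i ≠ 1 := fun i hi h5 => hw.pow_ne_one_of_pos_of_lt (by omega) h5
      rintro (rfl | rfl | rfl | rfl)
      · exact ⟨hw.pow_eq_one, hw.ne_one (by norm_num)⟩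
      · exact ⟨p 2, q 2 (by norm_num) (by norm_num)⟩
      · exact ⟨p 3, q 3 (by norm_num) (by norm_num)⟩
      · exact ⟨p 4, q 4 (by norm_num) (by norm_num)⟩
    · rintro ⟨h1, h2⟩
      obtain ⟨i, hi, rfl⟩ := hw.eq_pow_of_pow_eq_one h1
      interval_cases i <;> simp_all
  rw [key w hw, key w' hw']

/-- Square roots of a scalar. -/
theorem square_roots {p : ℕ} [Fact p.Prime] [CharP F p] (hp2 : p ≠ 2) (x : Matrix ι ι F) (h4 : Fintype.card ι = 4)
    {z : F} (hx : x ^ 2 = z • (1 : Matrix ι ι F)) {N : ℕ} (hN : (N : F) ≠ 0) (hxN : x ^ N = 1)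
    (hns : ∀ c : F, x ≠ c • (1 : Matrix ι ι F)) {s : K} (hs : s ^ 2 = algebraMap F K z) :
    ∃ a : ℕ, (a = 1 ∨ a = 2 ∨ a = 3) ∧
      spec x = Multiset.replicate a s + Multiset.replicate (4 - a) (-s) ∧
      algebraMap F K x.trace = (2 * (a : K) - 4) * s ∧ algebraMap F K x.det = (-1) ^ (4 - a) * s ^ 4 := by
  classical
  haveI : CharP K p := (Algebra.charP_iff F K p).1 inferInstance
  have h2K : (2 : K) ≠ 0 := Ring.two_ne_zero (by rw [ringChar.eq K p]; exact hp2)
  have hz : z ≠ 0 := by
    rintro rfl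
    rw [zero_smul] at hx
    have hu : IsUnit x := IsUnit.of_pow_eq_one hxN (by rintro rfl; simp at hN)
    exact (hu.pow 2).ne_zero hx
  have hs0 : s ≠ 0 := fun e => hz ((algebraMap F K).injective (by rw [← hs, e, map_zero]; simp))
  have hne : s ≠ -s := fun e => mul_ne_zero h2K hs0 (by linear_combination e)
  have hmem : ∀ b ∈ spec x, b ∈ ({s, -s} : Finset K) := fun b hb => by
    have e : b ^ 2 ∈ (spec x).map (· ^ 2) := Multiset.mem_map_of_mem (fun a : K => a ^ 2) hb
    rw [← spec_pow x hN hxN, hx, spec_scalar] at e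
    have := Multiset.eq_of_mem_replicate e
    rw [← hs] at this
    simpa using sq_eq_sq_iff_eq_or_eq_neg.1 this
  have hcard := card_eq_sum hmem
  rw [card_spec, h4, Finset.sum_pair hne] at hcard
  set a := (spec x).count s
  have hspec : spec x = Multiset.replicate a s + Multiset.replicate (4 - a) (-s) := by
    conv_lhs => rw [eq_sum_of_subset hmem]
    rw [Finset.sum_pair hne, show (spec x).count (-s) = 4 - a by omega]
  have ha0 : a ≠ 0 := fun e => by
    obtain ⟨c, hc⟩ := scalar_of_spec x hN hxN (a := -s) fun b hb => by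
      rw [hspec, e] at hb
      simpa using hb
    exact hns c hc
  have ha4 : a ≠ 4 := fun e => by
    obtain ⟨c, hc⟩ := scalar_of_spec x hN hxN (a := s) fun b hb => by
      rw [hspec, e] at hb
      simpa using hb
    exact hns c hc
  refine ⟨a, by omega, hspec, ?_, ?_⟩
  · rw [trace_eq, hspec]
    simp only [Multiset.sum_add, Multiset.sum_replicate, nsmul_eq_mul]
    rw [Nat.cast_sub (show a ≤ 4 by omega)]
    push_cast
    ring
  · rw [det_eq, hspec, Multiset.prod_add, Multiset.prod_replicate, Multiset.prod_replicate, neg_pow,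
      show (4 : ℕ) = a + (4 - a) by omega, Nat.add_sub_cancel_left, pow_add]
    ring

theorem square_eq {p : ℕ} [Fact p.Prime] [CharP F p] (hp2 : p ≠ 2) (x y : Matrix ι ι F) (h4 : Fintype.card ι = 4)
    {z : F} (hx : x ^ 2 = z • (1 : Matrix ι ι F)) (hy : y ^ 2 = z • (1 : Matrix ι ι F)) {N : ℕ} (hN : (N : F) ≠ 0)
    (hxN : x ^ N = 1) (hyN : y ^ N = 1) (hnx : ∀ c : F, x ≠ c • (1 : Matrix ι ι F))
    (hny : ∀ c : F, y ≠ c • (1 : Matrix ι ι F)) (htr : x.trace = y.trace) : x.charpoly = y.charpoly := by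
  obtain ⟨s, hs⟩ := IsAlgClosed.exists_pow_nat_eq (algebraMap F K z) (n := 2) (by norm_num)
  obtain ⟨a, ha, hax, htx, -⟩ := square_roots hp2 x h4 hx hN hxN hnx hs
  obtain ⟨b, hb, hby, hty, -⟩ := square_roots hp2 y h4 hy hN hyN hny hs
  haveI : CharP K p := (Algebra.charP_iff F K p).1 inferInstance
  have h2K : (2 : K) ≠ 0 := Ring.two_ne_zero (by rw [ringChar.eq K p]; exact hp2)
  have hs0 : s ≠ 0 := by
    intro e
    rw [e] at hs
    have hz : z = 0 := (algebraMap F K).injective (by rw [← hs, map_zero]; simp)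
    rw [hz, zero_smul] at hx
    have hu : IsUnit x := IsUnit.of_pow_eq_one hxN (by rintro rfl; simp at hN)
    exact (hu.pow 2).ne_zero hx
  have hab : a = b := by
    rw [htr, hty] at htx
    have e : (2 : K) * (b : K) = 2 * (a : K) := by linear_combination mul_right_cancel₀ hs0 htx
    have e' := mul_left_cancel₀ h2K e
    by_contra hne
    rcases ha with rfl | rfl | rfl <;> rcases hb with rfl | rfl | rfl <;>
      first
        | exact hne rfl
        | (norm_num at e'; done)
        | exact h2K (by push_cast at e'; linear_combination e')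
        | exact h2K (by push_cast at e'; linear_combination -e')
        | exact one_ne_zero (α := K) (by push_cast at e'; linear_combination e')
        | exact one_ne_zero (α := K) (by push_cast at e'; linear_combination -e')
  subst hab
  exact charpoly_eq (hax.trans hby.symm)

end CfsgLib.Geo.PauliRoots
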