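/-
Normalisers of quaternion subgroups of `GL₂(F)` and elements of small prime order of `SL₂(F)`.
-/
import Mathlib
import Cfsg.Prelude.Def_GeometricClasses

namespace CfsgLib.Geo.QuatNormalizer

open Matrix

variable {F : Type*} [Field F]

local notation "M2" => Matrix (Fin 2) (Fin 2) F

/-- Not a scalar matrix. -/
def NonScalar (x : M2) : Prop := ∀ z : F, x ≠ z • (1 : M2)

theorem nonScalar_iff (x : M2) : NonScalar x ↔ x 0 1 ≠ 0 ∨ x 1 0 ≠ 0 ∨ x 0 0 ≠ x 1 1 := by
  constructor
  · intro h
    by_contra! hc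
    obtain ⟨h1, h2, h3⟩ := hc
    refine h (x 0 0) ?_
    ext i j
    fin_cases i <;> fin_cases j <;> simp [h1, h2, h3]
  · rintro h z rfl
    simp at h

theorem exists_cyclic {x : M2} (h : NonScalar x) :
    ∃ P : M2, P.det ≠ 0 ∧ x * P = P * !![0, -x.det; 1, x.trace] := by
  rcases (nonScalar_iff x).1 h with h | h | h
  · refine ⟨!![0, x 0 1; 1, x 1 1], by simpa [det_fin_two] using h, ?_⟩
    ext i j
    fin_cases i <;> fin_cases j <;> simp [det_fin_two, trace_fin_two, Matrix.mul_apply, Fin.sum_univ_two] <;> ring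
  · refine ⟨!![1, x 0 0; 0, x 1 0], by simpa [det_fin_two] using h, ?_⟩
    ext i j
    fin_cases i <;> fin_cases j <;> simp [det_fin_two, trace_fin_two, Matrix.mul_apply, Fin.sum_univ_two] <;> ring
  · by_cases h1 : x 0 1 = 0
    · by_cases h2 : x 1 0 = 0
      · refine ⟨!![1, x 0 0; 1, x 1 1], by simpa [det_fin_two, sub_eq_zero] using Ne.symm h, ?_⟩
        ext i j
        fin_cases i <;> fin_cases j <;>
          simp [det_fin_two, trace_fin_two, Matrix.mul_apply, Fin.sum_univ_two, h1, h2] <;> ring
      · refine ⟨!![1, x 0 0; 0, x 1 0], by simpa [det_fin_two] using h2, ?_⟩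
        ext i j
        fin_cases i <;> fin_cases j <;> simp [det_fin_two, trace_fin_two, Matrix.mul_apply, Fin.sum_univ_two] <;> ring
    · refine ⟨!![0, x 0 1; 1, x 1 1], by simpa [det_fin_two] using h1, ?_⟩
      ext i j
      fin_cases i <;> fin_cases j <;> simp [det_fin_two, trace_fin_two, Matrix.mul_apply, Fin.sum_univ_two] <;> ring

/-- Commutants of non-scalar matrices are abelian. -/
theorem commute_of_commute {z x y : M2} (hz : NonScalar z) (hx : x * z = z * x) (hy : y * z = z * y) :
    x * y = y * x := by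
  have key : ∀ w : M2, w * z = z * w → ∃ a b : F, w = a • (1 : M2) + b • z := by
    intro w hw
    have e00 := congrFun₂ hw 0 0
    have e01 := congrFun₂ hw 0 1
    have e10 := congrFun₂ hw 1 0
    simp [Matrix.mul_apply, Fin.sum_univ_two] at e00 e01 e10
    rcases (nonScalar_iff z).1 hz with h | h | h
    · refine ⟨w 0 0 - w 0 1 / z 0 1 * z 0 0, w 0 1 / z 0 1, ?_⟩
      ext i j
      fin_cases i <;> fin_cases j <;> simp <;> field_simp <;>
        first | ring1 | linear_combination e00 | linear_combination (-1 : F) * e00 | linear_combination e01 |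
          linear_combination (-1 : F) * e01
    · refine ⟨w 0 0 - w 1 0 / z 1 0 * z 0 0, w 1 0 / z 1 0, ?_⟩
      ext i j
      fin_cases i <;> fin_cases j <;> simp <;> field_simp <;>
        first | ring1 | linear_combination e00 | linear_combination (-1 : F) * e00 | linear_combination e10 |
          linear_combination (-1 : F) * e10
    · have hd : z 0 0 - z 1 1 ≠ 0 := sub_ne_zero.2 h
      refine ⟨w 0 0 - (w 0 0 - w 1 1) / (z 0 0 - z 1 1) * z 0 0, (w 0 0 - w 1 1) / (z 0 0 - z 1 1), ?_⟩
      ext i j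
      fin_cases i <;> fin_cases j <;> simp <;> field_simp <;>
        first | ring1 | linear_combination e01 | linear_combination (-1 : F) * e01 | linear_combination e10 |
          linear_combination (-1 : F) * e10
  obtain ⟨a, b, rfl⟩ := key x hx
  obtain ⟨c, d, rfl⟩ := key y hy
  simp only [add_mul, mul_add, smul_mul_assoc, mul_smul_comm, one_mul, mul_one, smul_add, smul_smul]
  match_scalars <;> ring

theorem cayley (x : M2) : x * x = x.trace • x - x.det • (1 : M2) := by
  ext i j
  fin_cases i <;> fin_cases j <;> simp [det_fin_two, trace_fin_two, Matrix.mul_apply, Fin.sum_univ_two] <;> ring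

theorem smul_eq_scalar {x : M2} (hx : NonScalar x) {a b : F} (h : a • x = b • (1 : M2)) : a = 0 ∧ b = 0 := by
  have ha : a = 0 := by
    by_contra ha
    exact hx (a⁻¹ * b) (by rw [mul_smul, ← h, inv_smul_smul₀ ha])
  refine ⟨ha, ?_⟩
  have := congrFun₂ h 0 0
  simp [ha] at this
  exact this.symm

theorem det_of_mem {x : GL (Fin 2) F} (hx : x ∈ Cfsg.Geo.specialLinear (Fin 2) F) : (x : M2).det = 1 := by
  have h := congrArg Units.val (MonoidHom.mem_ker.1 hx)
  simpa [Matrix.GeneralLinearGroup.val_det_apply] using h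

/-- Semisimple elements of `SL₂` with the same trace are conjugate in `SL₂`. -/
theorem exists_conj [Fintype F] (h2 : (2 : F) ≠ 0) (x y : GL (Fin 2) F)
    (hx : x ∈ Cfsg.Geo.specialLinear (Fin 2) F) (hdy : (y : M2).det = 1)
    (hxn : NonScalar (x : M2)) (hyn : NonScalar (y : M2)) (ht : (x : M2).trace = (y : M2).trace)
    (ht4 : (x : M2).trace ^ 2 ≠ 4) :
    ∃ g ∈ Cfsg.Geo.specialLinear (Fin 2) F, g⁻¹ * x * g = y := by
  have hdx := det_of_mem hx
  obtain ⟨P, hP, hxP⟩ := exists_cyclic hxn
  obtain ⟨Q, hQ, hyQ⟩ := exists_cyclic hyn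
  rw [hdx] at hxP
  rw [hdy, ← ht] at hyQ
  set t := (x : M2).trace
  obtain ⟨a, b, hab⟩ : ∃ a b : F, a ^ 2 + t * a * b + b ^ 2 = Q.det / P.det := by
    set d := Q.det / P.det
    have hk : 1 - t ^ 2 / 4 ≠ 0 := by
      have h4 : (4 : F) ≠ 0 := by
        rw [show (4 : F) = 2 * 2 by norm_num]
        exact mul_ne_zero h2 h2
      rw [sub_ne_zero]
      intro h
      exact ht4 (by rw [eq_div_iff h4] at h; linear_combination -h)
    obtain ⟨u, v, huv⟩ := FiniteField.exists_root_sum_quadratic (f := Polynomial.X ^ 2)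
      (g := Polynomial.C (1 - t ^ 2 / 4) * Polynomial.X ^ 2 - Polynomial.C d)
      (Polynomial.degree_X_pow 2) (by
        have hdeg := Polynomial.degree_C_mul_X_pow 2 hk
        rw [Polynomial.degree_sub_eq_left_of_degree_lt
          (lt_of_le_of_lt Polynomial.degree_C_le (by rw [hdeg]; norm_num)), hdeg]
        rfl)
      (FiniteField.odd_card_of_char_ne_two fun hc => h2 (by
        rw [← Nat.cast_two, ← hc]
        exact ringChar.Nat.cast_ringChar))
    refine ⟨u - t * v / 2, v, ?_⟩
    simp at huv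
    have h4 : (4 : F) = 2 * 2 := by norm_num
    rw [h4] at huv
    field_simp at huv ⊢
    linear_combination huv
  let h : M2 := a • (1 : M2) + b • (x : M2)
  have hhdet : h.det = Q.det / P.det := by
    have hd := hdx
    rw [det_fin_two] at hd
    rw [← hab]
    simp only [h, det_fin_two, Matrix.add_apply, Matrix.smul_apply, smul_eq_mul, Matrix.one_apply_eq,
      Matrix.one_apply_ne (show (0 : Fin 2) ≠ 1 by decide), Matrix.one_apply_ne (show (1 : Fin 2) ≠ 0 by decide),
      t, trace_fin_two]
    linear_combination b ^ 2 * hd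
  let g : M2 := h * P * Q⁻¹
  have hgdet : g.det = 1 := by
    rw [show g = h * P * Q⁻¹ from rfl, det_mul, det_mul, hhdet, det_nonsing_inv, Ring.inverse_eq_inv']
    field_simp
  have hxg : (x : M2) * g = g * (y : M2) := by
    have hQu : IsUnit Q.det := isUnit_iff_ne_zero.2 hQ
    have h1 : (x : M2) * h = h * x := by simp only [h, mul_add, add_mul, mul_smul_comm, smul_mul_assoc, mul_one, one_mul]
    have h3 : Q⁻¹ * (y : M2) = !![0, -1; 1, t] * Q⁻¹ := by
      calc Q⁻¹ * (y : M2) = Q⁻¹ * ((y : M2) * Q) * Q⁻¹ := by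
            rw [mul_assoc Q⁻¹, mul_assoc (y : M2), mul_nonsing_inv _ hQu, mul_one]
        _ = !![0, -1; 1, t] * Q⁻¹ := by rw [hyQ, ← mul_assoc Q⁻¹, nonsing_inv_mul _ hQu, one_mul]
    calc (x : M2) * g = h * ((x : M2) * P) * Q⁻¹ := by
          simp only [g, ← mul_assoc, h1]
      _ = h * P * (!![0, -1; 1, t] * Q⁻¹) := by rw [hxP]; simp only [mul_assoc]
      _ = g * (y : M2) := by rw [← h3]; simp only [g, mul_assoc]
  let G : GL (Fin 2) F := GeneralLinearGroup.mkOfDetNeZero g (by rw [hgdet]; exact one_ne_zero)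
  have hG : G ∈ Cfsg.Geo.specialLinear (Fin 2) F := MonoidHom.mem_ker.2 (Units.ext hgdet)
  refine ⟨G, hG, ?_⟩
  rw [mul_assoc, inv_mul_eq_iff_eq_mul]
  exact Units.ext hxg

/-- The generators of a quaternion subgroup. -/
theorem exists_units [Fintype F] (h2 : (2 : F) ≠ 0) (R : Subgroup (GL (Fin 2) F))
    (hR : Nonempty (↥R ≃* QuaternionGroup 2)) :
    ∃ i j : GL (Fin 2) F, i ∈ R ∧ j ∈ R ∧ (i : M2) * i = -1 ∧ (j : M2) * j = -1 ∧
      (j : M2) * i = -((i : M2) * j) ∧ R = Subgroup.closure {i, j} := by
  obtain ⟨e⟩ := hR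
  let f : QuaternionGroup 2 →* GL (Fin 2) F := R.subtype.comp e.symm.toMonoidHom
  have hf : Function.Injective f := Subtype.coe_injective.comp e.symm.injective
  have hfR : ∀ g, f g ∈ R := fun g => (e.symm g).2
  let i := f (.a 1)
  let j := f (.xa 0)
  let z := f (.a 2)
  have hii : i * i = z := by rw [← map_mul]; rfl
  have hjj : j * j = z := by rw [← map_mul]; rfl
  have hji : j * i = z * (i * j) := by
    rw [← map_mul, ← map_mul, ← map_mul]; exact congrArg f (by decide)
  have hzi : i * z = z * i := by rw [← map_mul, ← map_mul]; exact congrArg f (by decide)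
  have hzj : j * z = z * j := by rw [← map_mul, ← map_mul]; exact congrArg f (by decide)
  have hz2 : (z : M2) * z = 1 := by
    rw [← Units.val_mul, ← map_mul]
    exact congrArg Units.val (show f (.a 2 * .a 2) = 1 by rw [show (QuaternionGroup.a 2 * .a 2 : QuaternionGroup 2) = 1 by decide, map_one])
  have hz1 : z ≠ 1 := fun h => absurd (hf (h.trans (map_one f).symm)) (by decide)
  have hzs : (z : M2) = -1 := by
    by_cases hn : NonScalar (z : M2)
    · have hc := commute_of_commute (x := (i : M2)) (y := (j : M2)) hn (congrArg Units.val hzi) (congrArg Units.val hzj)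
      have : f (.a 1 * .xa 0) = f (.xa 0 * .a 1) := by
        rw [map_mul, map_mul]; exact Units.ext hc
      exact absurd (hf this) (by decide)
    · simp only [NonScalar, not_forall, not_not] at hn
      obtain ⟨c, hc⟩ := hn
      have : c * c = 1 := by
        have := congrFun₂ hz2 0 0
        rw [hc] at this
        simpa [Matrix.mul_apply, Fin.sum_univ_two] using this
      rcases mul_self_eq_one_iff.1 this with rfl | rfl
      · exact absurd (Units.ext (by rw [hc, one_smul]; rfl)) hz1
      · rw [hc, neg_smul, one_smul]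
  refine ⟨i, j, hfR _, hfR _, ?_, ?_, ?_, le_antisymm ?_ ((Subgroup.closure_le R).2 ?_)⟩
  · rw [← Units.val_mul, hii, hzs]
  · rw [← Units.val_mul, hjj, hzs]
  · rw [← Units.val_mul, hji, Units.val_mul, hzs, neg_one_mul, Units.val_mul]
  · intro g hg
    have key : ∀ u : QuaternionGroup 2, ∃ (v : Fin 2) (w : Fin 4),
        u = (.xa 0) ^ (v : ℕ) * (.a 1) ^ (w : ℕ) := by decide
    obtain ⟨v, w, hvw⟩ := key (e ⟨g, hg⟩)
    have hg' : g = f (e ⟨g, hg⟩) := by simp [f]
    rw [hg', hvw, map_mul, map_pow, map_pow]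
    exact mul_mem (pow_mem (Subgroup.subset_closure (by simp [j])) _) (pow_mem (Subgroup.subset_closure (by simp [i])) _)
  · rintro g (rfl | rfl) <;> exact hfR _

theorem mem_normalizer_of_gen (R : Subgroup (GL (Fin 2) F)) [Finite R] {i j w : GL (Fin 2) F}
    (hR : R = Subgroup.closure {i, j}) (hi : w * i * w⁻¹ ∈ R) (hj : w * j * w⁻¹ ∈ R) :
    w ∈ Subgroup.normalizer (R : Set (GL (Fin 2) F)) := by
  have hle : R.map (MulAut.conj w).toMonoidHom ≤ R := by
    conv_lhs => rw [hR]
    rw [MonoidHom.map_closure, Subgroup.closure_le]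
    rintro _ ⟨g, rfl | rfl, rfl⟩
    · exact hi
    · exact hj
  have heq : R.map (MulAut.conj w).toMonoidHom = R := Subgroup.eq_of_le_of_card_ge hle
    (le_of_eq (Nat.card_congr ((R.equivMapOfInjective _ (MulAut.conj w).injective).toEquiv)))
  refine Subgroup.mem_normalizer_iff.2 fun g => ?_
  constructor
  · intro hg
    exact hle ⟨g, hg, rfl⟩
  · intro hg
    rw [← heq] at hg
    obtain ⟨u, hu, hu'⟩ := hg
    rwa [← (MulAut.conj w).injective hu']

theorem main [Fintype F] {p : ℕ} [Fact p.Prime] [CharP F p] (hp : 5 ≤ p)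
    (R : Subgroup (GL (Fin 2) F)) (hR : Nonempty (↥R ≃* QuaternionGroup 2))
    (r : ℕ) [Fact r.Prime]
    (hΩ : r ∣ (Cfsg.Geo.subgroupNormalizer R).relIndex (Cfsg.Geo.specialLinear (Fin 2) F)) :
    (∀ x ∈ Cfsg.Geo.specialLinear (Fin 2) F, (∃ z : F, ((x ^ r : GL (Fin 2) F) : M2) = z • (1 : M2)) →
      (∀ z : F, (x : M2) ≠ z • (1 : M2)) →
      ∃ g ∈ Cfsg.Geo.specialLinear (Fin 2) F, g⁻¹ * x * g ∈ Cfsg.Geo.subgroupNormalizer R) ↔ (r = 2 ∨ r = 3) := by
  classical
  have hnat : ∀ k : ℕ, 0 < k → k < p → (k : F) ≠ 0 := fun k hk hkp h =>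
    absurd (Nat.le_of_dvd hk ((CharP.cast_eq_zero_iff F p k).1 h)) (not_le.2 hkp)
  have h2 : (2 : F) ≠ 0 := by exact_mod_cast hnat 2 (by norm_num) (by omega)
  have h3 : (3 : F) ≠ 0 := by exact_mod_cast hnat 3 (by norm_num) (by omega)
  have h4 : (4 : F) ≠ 0 := by exact_mod_cast hnat 4 (by norm_num) (by omega)
  obtain ⟨i, j, hiR, hjR, hii, hjj, hji, hgen⟩ := exists_units h2 R hR
  set I := (i : M2)
  set J := (j : M2)
  have hcardR : Nat.card R = 8 := by
    rw [Nat.card_congr hR.some.toEquiv, Nat.card_eq_fintype_card, QuaternionGroup.card]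
  haveI : Finite R := Nat.finite_of_card_ne_zero (by omega)
  set N := Cfsg.Geo.subgroupNormalizer R
  have hIJ : I * J ≠ J * I := by
    intro h
    rw [hji] at h
    have h' : (2 : F) • (I * J) = 0 := by rw [two_smul]; exact add_eq_zero_iff_eq_neg.2 h
    have h'' : I * J = 0 := (smul_eq_zero.1 h').resolve_left h2
    have := congrArg Matrix.det h''
    rw [det_mul, Matrix.det_zero] at this
    rcases mul_eq_zero.1 this with h5 | h5
    · exact (GeneralLinearGroup.det_ne_zero i) h5
    · exact (GeneralLinearGroup.det_ne_zero j) h5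
  have hIn : NonScalar I := fun z hz => hIJ (by rw [hz, smul_mul_assoc, mul_smul_comm, one_mul, mul_one])
  have hJn : NonScalar J := fun z hz => hIJ (by rw [hz, smul_mul_assoc, mul_smul_comm, one_mul, mul_one])
  have inv0 : ∀ X : M2, NonScalar X → X * X = -1 → X.trace = 0 ∧ X.det = 1 := by
    intro X hX hXX
    have h := cayley X
    rw [hXX] at h
    have h' : X.trace • X = (X.det - 1) • (1 : M2) := by
      rw [sub_smul, one_smul, eq_sub_iff_add_eq]
      rw [eq_sub_iff_add_eq, neg_add_eq_sub] at h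
      rw [← h]
      abel
    obtain ⟨ha, hb⟩ := smul_eq_scalar hX h'
    exact ⟨ha, sub_eq_zero.1 hb⟩
  obtain ⟨hIt, hId⟩ := inv0 I hIn hii
  obtain ⟨hJt, -⟩ := inv0 J hJn hjj
  have hKt : (I * J).trace = 0 := by
    have h := Matrix.trace_mul_comm I J
    rw [hji, Matrix.trace_neg] at h
    have : (2 : F) * (I * J).trace = 0 := by linear_combination h
    exact (mul_eq_zero.1 this).resolve_left h2
  -- the element of order three
  let W : M2 := (2 : F)⁻¹ • (-1 + I + J + I * J)
  have a1 : I * (I * J) = -J := by rw [← mul_assoc, hii, neg_one_mul]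
  have a2 : I * J * I = J := by rw [mul_assoc, hji, mul_neg, a1, neg_neg]
  have a3 : J * (I * J) = I := by rw [← mul_assoc, hji, neg_mul, mul_assoc, hjj, mul_neg, mul_one, neg_neg]
  have a4 : I * J * J = -I := by rw [mul_assoc, hjj, mul_neg, mul_one]
  have a5 : I * J * (I * J) = -1 := by rw [mul_assoc, a3, hii]
  have hWW : W * W + W + 1 = 0 := by
    have hs : (I + J + I * J) * (I + J + I * J) = (-3 : F) • (1 : M2) := by
      simp only [add_mul, mul_add, hii, hjj, hji, a1, a2, a3, a4, a5]
      rw [neg_smul, show (3 : F) = 1 + 1 + 1 by norm_num, add_smul, add_smul, one_smul]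
      abel
    set S := I + J + I * J
    have hW' : W = (2 : F)⁻¹ • (S - 1) := by simp only [W, S]; congr 1; abel
    rw [hW', smul_mul_smul_comm, sub_mul, mul_sub, hs, one_mul, mul_one]
    match_scalars <;> field_simp <;> ring
  have hWt : W.trace = -1 := by
    simp only [W, Matrix.trace_smul, Matrix.trace_add, Matrix.trace_neg, Matrix.trace_one, hIt, hJt, hKt,
      Fintype.card_fin, Nat.cast_ofNat, smul_eq_mul]
    field_simp
    ring
  have hWd : W.det = 1 := by
    have h := cayley W
    rw [hWt] at h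
    have h' : (W.det - 1) • (1 : M2) = 0 := by
      rw [sub_smul, one_smul, ← neg_eq_zero, ← hWW, h]
      rw [neg_smul, one_smul]
      abel
    exact sub_eq_zero.1 ((smul_eq_zero.1 h').resolve_right one_ne_zero)
  let w : GL (Fin 2) F := GeneralLinearGroup.mkOfDetNeZero W (by rw [hWd]; exact one_ne_zero)
  have hWI : W * I = I * J * W := by
    simp only [W, smul_mul_assoc, mul_smul_comm, add_mul, mul_add, neg_mul, mul_neg, one_mul, mul_one, hii, hji, a2, a4, a5]
    congr 1
    abel
  have hWJ : W * J = I * W := by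
    simp only [W, smul_mul_assoc, mul_smul_comm, add_mul, mul_add, neg_mul, mul_neg, one_mul, mul_one, hii, hjj, a1, a4]
    congr 1
    abel
  have hwN : w ∈ N := by
    refine mem_normalizer_of_gen R hgen ?_ ?_
    · have : w * i * w⁻¹ = i * j := mul_inv_eq_iff_eq_mul.2 (Units.ext hWI)
      rw [this]; exact mul_mem hiR hjR
    · have : w * j * w⁻¹ = i := mul_inv_eq_iff_eq_mul.2 (Units.ext hWJ)
      rw [this]; exact hiR
  constructor
  · intro hall
    by_contra hr
    rw [not_or] at hr
    have hr5 : 5 ≤ r := by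
      have := (Fact.out : r.Prime).two_le
      have : r ≠ 4 := fun h => by subst h; exact absurd (Fact.out : Nat.Prime 4) (by decide)
      omega
    have hdvd : r ∣ Nat.card (Cfsg.Geo.specialLinear (Fin 2) F) := hΩ.trans (Subgroup.index_dvd_card _)
    obtain ⟨x, hx⟩ := exists_prime_orderOf_dvd_card' r hdvd
    have hxn : NonScalar ((x : GL (Fin 2) F) : M2) := by
      intro z hz
      have hd := det_of_mem x.2
      rw [hz, det_smul, det_one, Fintype.card_fin, mul_one] at hd
      have : x ^ 2 = 1 := Subtype.ext (Units.ext (by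
        show ((x : GL (Fin 2) F) : M2) ^ 2 = 1
        rw [hz, smul_pow, hd, one_smul, one_pow]))
      have := Nat.le_of_dvd (by norm_num) (hx ▸ orderOf_dvd_of_pow_eq_one this)
      omega
    have hxr : (x : GL (Fin 2) F) ^ r = 1 := by
      rw [← SubgroupClass.coe_pow, ← hx, pow_orderOf_eq_one, OneMemClass.coe_one]
    obtain ⟨g, -, hy⟩ := hall x x.2 ⟨1, by rw [hxr, one_smul]; rfl⟩ hxn
    set y := g⁻¹ * (x : GL (Fin 2) F) * g with hydef
    have hyr : y ^ r = 1 := by
      rw [hydef, show g⁻¹ * (x : GL (Fin 2) F) * g = g⁻¹ * (x : GL (Fin 2) F) * (g⁻¹)⁻¹ by rw [inv_inv], conj_pow, hxr]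
      simp
    have hyn : NonScalar (y : M2) := by
      intro z hz
      refine hxn z ?_
      have hx' : (x : GL (Fin 2) F) = g * y * g⁻¹ := by rw [hydef]; group
      rw [hx', Units.val_mul, Units.val_mul, hz, mul_smul_comm, mul_one, smul_mul_assoc, ← Units.val_mul,
        mul_inv_cancel, Units.val_one]
    haveI : Fintype R := Fintype.ofFinite R
    have hy' := Subgroup.mem_normalizer_iff.1 hy
    let σ : Equiv.Perm R := Equiv.Perm.subtypePerm ((MulAut.conj y).toEquiv : Equiv.Perm (GL (Fin 2) F)) fun u => (hy' u).symm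
    have hσ : ∀ (k : ℕ) (u : R), ((σ ^ k) u : GL (Fin 2) F) = y ^ k * u * (y ^ k)⁻¹ := by
      intro k u
      induction k with
      | zero => simp
      | succ k ih =>
        rw [pow_succ', Equiv.Perm.mul_apply]
        show y * ((σ ^ k) u : GL (Fin 2) F) * y⁻¹ = _
        rw [ih, pow_succ']
        group
    have hσr : σ ^ r ^ 1 = 1 := by
      rw [pow_one]
      ext1 u
      apply Subtype.ext
      rw [hσ, hyr]
      simp
    have hmod := Equiv.Perm.card_compl_support_modEq hσr
    let C : Subgroup R := (Subgroup.centralizer {y}).subgroupOf R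
    have hC : Nat.card C = σ.supportᶜ.card := by
      refine Nat.subtype_card _ fun u => ?_
      rw [Finset.mem_compl, Equiv.Perm.notMem_support]
      show σ u = u ↔ (u : GL (Fin 2) F) ∈ Subgroup.centralizer {y}
      rw [Subtype.ext_iff, Subgroup.mem_centralizer_singleton_iff]
      show y * (u : GL (Fin 2) F) * y⁻¹ = u ↔ _
      rw [mul_inv_eq_iff_eq_mul, eq_comm]
    rw [← hC, ← Nat.card_eq_fintype_card, hcardR] at hmod
    have hC8 : Nat.card C ∣ 8 := hcardR ▸ Subgroup.card_subgroup_dvd_card C
    have hzC : (⟨i * i, mul_mem hiR hiR⟩ : R) ∈ C := by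
      show i * i ∈ Subgroup.centralizer {y}
      rw [Subgroup.mem_centralizer_singleton_iff]
      apply Units.ext
      simp only [Units.val_mul]
      rw [hii]
      simp
    have hC1 : Nat.card C ≠ 1 := fun h => by
      have := (Subgroup.card_eq_one.1 h) ▸ hzC
      have h' : i * i = 1 := congrArg Subtype.val (Subgroup.mem_bot.1 this)
      have h'' := congrArg Units.val h'
      rw [Units.val_mul, hii, Units.val_one] at h''
      have := congrFun₂ h'' 0 0
      simp at this
      exact h2 (by linear_combination -this)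
    have hCtop : Nat.card C = 8 := by
      have hr6 : r ≠ 6 := fun h => by subst h; exact absurd (Fact.out : Nat.Prime 6) (by decide)
      have hle := Nat.le_of_dvd (by norm_num) hC8
      have hd := (Nat.modEq_iff_dvd' hle).1 hmod
      generalize Nat.card C = c at hle hd hC8 hC1
      interval_cases c <;> first | rfl | omega | (have := Nat.le_of_dvd (by norm_num) hd; interval_cases r <;> omega)
    have hall' : C = ⊤ := Subgroup.eq_top_of_card_eq C (hCtop.trans hcardR.symm)
    have hci : (⟨i, hiR⟩ : R) ∈ C := hall' ▸ Subgroup.mem_top _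
    have hcj : (⟨j, hjR⟩ : R) ∈ C := hall' ▸ Subgroup.mem_top _
    exact hIJ (commute_of_commute hyn (congrArg Units.val (Subgroup.mem_centralizer_singleton_iff.1 hci))
      (congrArg Units.val (Subgroup.mem_centralizer_singleton_iff.1 hcj)))
  · intro hr x hx hxr hxn
    obtain ⟨z, hz⟩ := hxr
    have hd := det_of_mem hx
    set t := (x : M2).trace with ht
    have hc : (x : M2) * (x : M2) = t • (x : M2) - (1 : M2) := by rw [cayley, hd, one_smul]
    rcases hr with rfl | rfl
    · have ht0 : t = 0 := by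
        refine (smul_eq_scalar hxn (b := z + 1) ?_).1
        rw [add_smul, one_smul, ← hz, Units.val_pow_eq_pow_val, pow_two, hc, sub_add_cancel]
      obtain ⟨g, hg, hgx⟩ := exists_conj h2 x i hx hId hxn hIn (by rw [← ht, ht0, hIt])
        (by rw [← ht, ht0]; simpa using Ne.symm h4)
      exact ⟨g, hg, hgx ▸ (Subgroup.le_normalizer hiR : i ∈ N)⟩
    · have ht1 : t * t - 1 = 0 := by
        refine (smul_eq_scalar hxn (b := z + t) ?_).1
        rw [add_smul, ← hz, Units.val_pow_eq_pow_val, pow_succ, pow_two, hc, sub_mul, one_mul, smul_mul_assoc, hc,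
          smul_sub, smul_smul, sub_smul, one_smul]
        abel
      have hWn : NonScalar W := by
        intro c hcW
        apply hIJ
        have e1 := hWJ
        rw [hcW, smul_mul_assoc, one_mul, mul_smul_comm, mul_one] at e1
        have hc0 : c ≠ 0 := by
          rintro rfl
          rw [hcW, zero_smul, Matrix.det_zero] at hWd
          exact zero_ne_one hWd
        rw [smul_right_injective M2 hc0 e1]
      rcases mul_self_eq_one_iff.1 (sub_eq_zero.1 ht1) with ht' | ht'
      · have hnegd : ((-w : GL (Fin 2) F) : M2).det = 1 := by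
          show (-W).det = 1
          rw [det_neg, hWd, Fintype.card_fin]; ring
        obtain ⟨g, hg, hgx⟩ := exists_conj h2 x (-w) hx hnegd hxn
          (fun c hc' => hWn (-c) (by rw [neg_smul, ← hc']; show W = -(-W); rw [neg_neg]))
          (by show t = (-W).trace; rw [Matrix.trace_neg, hWt, neg_neg, ht'])
          (by show t ^ 2 ≠ 4; rw [ht', one_pow]; intro h; exact h3 (by linear_combination -h))
        refine ⟨g, hg, hgx ▸ ?_⟩
        refine mem_normalizer_of_gen R hgen ?_ ?_
        · have : (-w) * i * (-w)⁻¹ = w * i * w⁻¹ := by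
            refine mul_inv_eq_iff_eq_mul.2 ?_
            group
            simp
          rw [this]; exact (Subgroup.mem_normalizer_iff.1 hwN i).1 hiR
        · have : (-w) * j * (-w)⁻¹ = w * j * w⁻¹ := by
            refine mul_inv_eq_iff_eq_mul.2 ?_
            group
            simp
          rw [this]; exact (Subgroup.mem_normalizer_iff.1 hwN j).1 hjR
      · obtain ⟨g, hg, hgx⟩ := exists_conj h2 x w hx hWd hxn hWn
          (by show t = W.trace; rw [hWt, ht'])
          (by show t ^ 2 ≠ 4; rw [ht']; intro h; exact h3 (by linear_combination -h))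
        exact ⟨g, hg, hgx ▸ hwN⟩

end CfsgLib.Geo.QuatNormalizer
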