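/-
Prime order elements and normalisers of two-groups of symplectic type in dimension four: common part.
-/
import Cfsg.Agent.Lib.Geo.PauliElements
import Cfsg.Agent.Lib.Geo.PauliRoots
import Cfsg.Agent.Lib.Geo.ExtraspecialConj
import Cfsg.Agent.Lib.Geo.QuatNormalizer

set_option autoImplicit false

namespace CfsgLib.Geo.Pauli

open Matrix Cfsg.Geo

variable {ι : Type} [Fintype ι] [DecidableEq ι] {F : Type*} [Field F] {R : Subgroup (GL ι F)}

/-- A two-group of symplectic type with squares `±1` and index 16 over the scalars. -/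
theorem isPauli_of [Fintype F] {p : ℕ} [CharP F p] (hp2 : p ≠ 2) (h4 : Fintype.card ι = 4) {z : ℕ}
    (hs : IsSymplecticTypeGroup 2 R) (hi : ActsAbsolutelyIrreducibly (matrixSet R)) (hR : Nat.card R = 16 * z)
    (hZ : Nat.card (Subgroup.center R) = z) : IsPauli R := by
  haveI : Nonempty ι := Fintype.card_pos_iff.1 (by omega)
  haveI : Finite R := inferInstance
  have h2 : (2 : F) ≠ 0 := Ring.two_ne_zero (by rw [ringChar.eq F p]; exact hp2)
  haveI : Nontrivial ι := Fintype.one_lt_card_iff_nontrivial.1 (by rw [h4]; norm_num)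
  obtain ⟨a, ha, b, hb, hab⟩ := CfsgLib.Geo.Asch.not_abelian_of_absIrred hi
  haveI : Nontrivial R := ⟨⟨a, ha⟩, ⟨b, hb⟩, fun e => hab (by obtain rfl : a = b := congrArg Subtype.val e; rfl)⟩
  haveI := hs.pGroup.center_nontrivial
  haveI : Fact (Nat.Prime 2) := ⟨Nat.prime_two⟩
  obtain ⟨c, hc⟩ := exists_prime_orderOf_dvd_card' (G := Subgroup.center R) 2 (by
    obtain ⟨k, hk⟩ := IsPGroup.iff_card.1 (hs.pGroup.to_subgroup (Subgroup.center R))
    have h1 : 1 < Nat.card (Subgroup.center R) := Finite.one_lt_card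
    rw [hk] at h1 ⊢
    exact dvd_pow_self 2 (by rintro rfl; simp at h1))
  have hc2 : (c : R) * (c : R) = 1 := by
    rw [← Subgroup.coe_mul, ← pow_two, ← hc, pow_orderOf_eq_one, Subgroup.coe_one]
  have hc1 : (c : R) ≠ 1 := fun e => by
    rw [show c = 1 from Subtype.ext e, orderOf_one] at hc
    norm_num at hc
  have h4' : ∀ x : R, x ^ 4 = 1 := fun x => by
    have e := hs.exponent_eq
    rw [show 2 * Nat.gcd 2 2 = 4 by decide] at e
    rw [← e, Monoid.pow_exponent_eq_one]
  obtain ⟨hcomm, hsq⟩ := CfsgLib.Techniques.symplectic_exponent_four (Q := R) ⟨hs.pGroup, hs.cyclic_of_characteristic⟩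
    h4' c.2 hc2 hc1
  have hcv : ((c : R) : GL ι F) = -1 := by
    obtain ⟨d, hd⟩ := (mem_scalars_iff _).1 (CfsgLib.Geo.Asch.mem_scalars_of_commute hi (g := ((c : R) : GL ι F))
      fun n hn => (congrArg Subtype.val (Subgroup.mem_center_iff.1 c.2 ⟨n, hn⟩)).symm)
    have e := congrArg (fun u : R => ((u : GL ι F) : Matrix ι ι F)) hc2
    simp only [Subgroup.coe_mul, Units.val_mul, hd, smul_mul_smul_comm, one_mul, Subgroup.coe_one, Units.val_one] at e
    obtain ⟨i⟩ := ‹Nonempty ι›
    have e' := congrFun₂ e i i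
    simp at e'
    rcases mul_self_eq_one_iff.1 e' with h | h
    · exact absurd (Subtype.ext (Units.ext (by rw [hd, h, one_smul]; rfl))) hc1
    · exact Units.ext (by rw [hd, h, neg_smul, one_smul]; simp)
  refine ⟨h4, h2, hi, inferInstance, fun a ha b hb => ?_, fun a ha => ?_, ?_⟩
  · rcases hcomm ⟨a, ha⟩ ⟨b, hb⟩ with e | e
    · left
      exact congrArg Subtype.val (commutatorElement_eq_one_iff_mul_comm.1 e)
    · right
      have e' : a * b * a⁻¹ * b⁻¹ = -1 := by
        have := congrArg Subtype.val e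
        rw [hcv] at this
        exact this
      rw [mul_inv_eq_iff_eq_mul, mul_inv_eq_iff_eq_mul, neg_one_mul, neg_mul] at e'
      exact e'
  · rcases hsq ⟨a, ha⟩ with e | e
    · exact Or.inl (congrArg Subtype.val e)
    · exact Or.inr ((congrArg Subtype.val e).trans hcv)
  · have := Subgroup.card_eq_card_quotient_mul_card_subgroup (Subgroup.center R)
    rw [hR, hZ] at this
    exact (mul_right_cancel₀ (by rintro rfl; exact Nat.card_pos.ne' hZ) this).symm

namespace IsPauli

variable (h : IsPauli R)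

include h in
theorem scalar_pow_four {c : GL ι F} (hc : c ∈ R) : c ^ 4 = 1 := by
  rw [show (4 : ℕ) = 2 * 2 from rfl, pow_mul, pow_two, pow_two]
  rcases h.sq c hc with e | e <;> simp [e]

include h in
theorem exists_i (hZ : Nat.card (Subgroup.center R) = 4) : ∃ i ∈ R, i ∈ scalars ι F ∧ i * i = -1 := by
  haveI := h.fin
  by_contra! hc
  have hval : ∀ u : Subgroup.center R, ((u : R) : GL ι F) = 1 ∨ ((u : R) : GL ι F) = -1 := by
    intro u
    have hs := (h.mem_center (u : R)).1 u.2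
    have e := (h.sq _ (u : R).2).resolve_right (hc _ (u : R).2 hs)
    obtain ⟨d, hd⟩ := (mem_scalars_iff _).1 hs
    have e' := congrArg Units.val e
    rw [Units.val_mul, hd, smul_mul_smul_comm, one_mul, Units.val_one] at e'
    obtain ⟨i⟩ := h.nonempty
    have e'' := congrFun₂ e' i i
    simp at e''
    rcases mul_self_eq_one_iff.1 e'' with h' | h'
    · exact Or.inl (Units.ext (by rw [hd, h', one_smul]; rfl))
    · exact Or.inr (Units.ext (by rw [hd, h', neg_smul, one_smul]; simp))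
  classical
  let ψ : Subgroup.center R → Bool := fun u => decide (((u : R) : GL ι F) = 1)
  have hψ : Function.Injective ψ := by
    intro u v e
    simp only [ψ, decide_eq_decide] at e
    refine Subtype.ext (Subtype.ext ?_)
    rcases hval u with a | a <;> rcases hval v with b | b
    · rw [a, b]
    · exact absurd ((e.1 a).symm.trans b).symm h.neg_one_ne
    · exact absurd ((e.2 b).symm.trans a).symm h.neg_one_ne
    · rw [a, b]
  have := Nat.card_le_card_of_injective ψ hψ
  rw [hZ, Nat.card_eq_fintype_card, Fintype.card_bool] at this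
  omega

include h in
theorem scalar_minus (hZ : Nat.card (Subgroup.center R) = 2) : ∀ c ∈ R, c ∈ scalars ι F → c = 1 ∨ c = -1 := by
  haveI := h.fin
  intro c hc hs
  by_contra! hne
  have hn1 : (⟨-1, h.neg_one_mem⟩ : R) ∈ Subgroup.center R :=
    (h.mem_center _).2 ((mem_scalars_iff _).2 ⟨-1, by simp⟩)
  let ψ : Fin 3 → Subgroup.center R :=
    ![1, ⟨⟨-1, h.neg_one_mem⟩, hn1⟩, ⟨⟨c, hc⟩, (h.mem_center _).2 hs⟩]
  have hψ : Function.Injective ψ := by
    intro i j e
    have e' := congrArg (fun u : Subgroup.center R => ((u : R) : GL ι F)) e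
    fin_cases i <;> fin_cases j <;>
      simp [ψ, h.neg_one_ne, Ne.symm h.neg_one_ne, hne.1, Ne.symm hne.1, hne.2, Ne.symm hne.2] at e' ⊢
  have := Nat.card_le_card_of_injective ψ hψ
  rw [hZ, Nat.card_eq_fintype_card, Fintype.card_fin] at this
  omega

include h in
/-- Large primes give elements moving every point. -/
theorem exists_large (T : Subgroup (GL ι F)) [Finite (GL ι F)]
    (hT : ∀ z : F, ∀ x ∈ T, (x : Matrix ι ι F) = z • 1 → x ^ 4 = 1)
    {r : ℕ} [Fact r.Prime] (hr : 7 ≤ r) (hdvd : r ∣ Nat.card T) :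
    ∃ x ∈ T, x ^ r = 1 ∧ (∀ z : F, (x : Matrix ι ι F) ≠ z • 1) ∧ ∀ g : GL ι F, g⁻¹ * x * g ∉ subgroupNormalizer R := by
  obtain ⟨x, hx⟩ := exists_prime_orderOf_dvd_card' r hdvd
  have hxr : (x : GL ι F) ^ r = 1 := by
    rw [← SubgroupClass.coe_pow, ← hx, pow_orderOf_eq_one, OneMemClass.coe_one]
  refine ⟨x, x.2, hxr, fun z hz => ?_, fun g hg => ?_⟩
  · have e : x ^ 4 = 1 := Subtype.ext (hT z x x.2 hz)
    have := Nat.le_of_dvd (by norm_num) (hx ▸ orderOf_dvd_of_pow_eq_one e)
    omega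
  · have hyr : (g⁻¹ * (x : GL ι F) * g) ^ r = 1 := by
      rw [show g⁻¹ * (x : GL ι F) * g = MulAut.conj g⁻¹ (x : GL ι F) by simp, ← map_pow, hxr, map_one]
    have hns : g⁻¹ * (x : GL ι F) * g ∉ scalars ι F := by
      intro hs
      have e : (x : GL ι F) = g * (g⁻¹ * x * g) * g⁻¹ := by group
      rw [← scalar_comm hs g, mul_inv_cancel_right] at e
      obtain ⟨d, hd⟩ := (mem_scalars_iff _).1 (e.symm ▸ hs : (x : GL ι F) ∈ scalars ι F)
      have e4 : x ^ 4 = 1 := Subtype.ext (hT d x x.2 hd)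
      have := Nat.le_of_dvd (by norm_num) (hx ▸ orderOf_dvd_of_pow_eq_one e4)
      omega
    have hodd : Odd r := (Fact.out : r.Prime).odd_of_ne_two (by omega)
    rcases (h.fixed_cases hodd hg hyr hns).1 with e | e <;> omega

include h in
/-- A pseudo-reflection of odd order moves every point. -/
theorem pseudo_moves {x : GL ι F} {r : ℕ} (hr : Odd r) (hxr : x ^ r = 1) {n φ : ι → F}
    (hx : (x : Matrix ι ι F) = 1 + vecMulVec n φ) (hx1 : x ≠ 1) (g : GL ι F) :
    g⁻¹ * x * g ∉ subgroupNormalizer R := by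
  intro hg
  have hyr : (g⁻¹ * x * g) ^ r = 1 := by
    rw [show g⁻¹ * x * g = MulAut.conj g⁻¹ x by simp, ← map_pow, hxr, map_one]
  have e := h.no_pseudo_reflection hr hg hyr (n := ((g⁻¹ : GL ι F) : Matrix ι ι F) *ᵥ n)
    (φ := φ ᵥ* (g : Matrix ι ι F)) (by
      rw [Units.val_mul, Units.val_mul, hx, mul_add, add_mul, mul_one, Units.inv_mul, mul_vecMulVec, vecMulVec_mul])
  exact hx1 (by rw [show x = g * (g⁻¹ * x * g) * g⁻¹ by group, e]; group)

include h in
/-- An element of order five fixing a plane moves every point. -/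
theorem five_moves [Fintype F] {x : GL ι F} (hx5 : x ^ 5 = 1) (hns : x ∉ scalars ι F) {v w : ι → F}
    (hvw : LinearIndependent F ![v, w]) (hv : (x : Matrix ι ι F) *ᵥ v = v) (hw : (x : Matrix ι ι F) *ᵥ w = w)
    (g : GL ι F) : g⁻¹ * x * g ∉ subgroupNormalizer R := by
  intro hg
  have hyr : (g⁻¹ * x * g) ^ 5 = 1 := by
    rw [show g⁻¹ * x * g = MulAut.conj g⁻¹ x by simp, ← map_pow, hx5, map_one]
  have hyns : g⁻¹ * x * g ∉ scalars ι F := fun hs => hns (by
    have e : x = g * (g⁻¹ * x * g) * g⁻¹ := by group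
    rw [← scalar_comm hs g, mul_inv_cancel_right] at e
    exact e.symm ▸ hs)
  have hlt := h.fix_bound hg hyr hyns
  set W := LinearMap.ker (Matrix.toLin' ((g⁻¹ * x * g : GL ι F) : Matrix ι ι F) - 1)
  have hmem : ∀ u, (x : Matrix ι ι F) *ᵥ u = u → ((g⁻¹ : GL ι F) : Matrix ι ι F) *ᵥ u ∈ W := fun u hu => by
    simp only [W, LinearMap.mem_ker, LinearMap.sub_apply, Module.End.one_apply, Matrix.toLin'_apply, sub_eq_zero,
      mulVec_mulVec, Units.val_mul, mul_assoc, Units.mul_inv, mul_one]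
    rw [← mulVec_mulVec, hu]
  have hli : LinearIndependent F ![(⟨_, hmem v hv⟩ : W), ⟨_, hmem w hw⟩] := by
    refine LinearIndependent.of_comp W.subtype ?_
    have e : W.subtype ∘ ![(⟨_, hmem v hv⟩ : W), ⟨_, hmem w hw⟩] =
        (Matrix.toLin' ((g⁻¹ : GL ι F) : Matrix ι ι F)) ∘ ![v, w] := by
      funext i; fin_cases i <;> simp
    rw [e]
    refine hvw.map' _ (LinearMap.ker_eq_bot.2 ?_)
    intro a b e'
    have := congrArg ((g : Matrix ι ι F) *ᵥ ·) e'
    simpa [mulVec_mulVec] using this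
  have := hli.fintype_card_le_finrank
  rw [Fintype.card_fin] at this
  omega

include h in
/-- In the minus case elements of order three fix a class. -/
theorem exists_fixed_minus (hm : IsOfMinusType 2 R) (hZ : ∀ c ∈ R, c ∈ scalars ι F → c = 1 ∨ c = -1)
    (f : Frame R) {y : GL ι F} (hy : y ∈ subgroupNormalizer R) (hy3 : y ^ 3 = 1) :
    ∃ a ∈ R, a ∉ scalars ι F ∧ y * a = a * y := by
  by_contra! hc
  have hu : f.a₂ ∉ scalars ι F := h.not_scalar_of_ac f.ab₂
  set u := f.a₂
  set v := y * u * y⁻¹ with hv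
  set w := y * v * y⁻¹ with hw
  have hconj : ∀ a ∈ R, y * a * y⁻¹ ∈ R := fun a ha => (Subgroup.mem_normalizer_iff.1 hy a).1 ha
  have hns : ∀ a, a ∉ scalars ι F → y * a * y⁻¹ ∉ scalars ι F := fun a ha hs => ha (by
    have e : a = y⁻¹ * (y * a * y⁻¹) * y := by group
    rw [mul_assoc, scalar_comm hs y, inv_mul_cancel_left] at e
    exact e.symm ▸ hs)
  have huR : u ∈ R := f.a₂R
  have hvR : v ∈ R := hconj u huR
  have hwR : w ∈ R := hconj v hvR
  have hv1 : v ∉ scalars ι F := hns u hu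
  have hvv : v * v = 1 := by rw [hv, show y * u * y⁻¹ * (y * u * y⁻¹) = y * (u * u) * y⁻¹ by group, f.a₂s]; simp
  have hww : w * w = 1 := by rw [hw, show y * v * y⁻¹ * (y * v * y⁻¹) = y * (v * v) * y⁻¹ by group, hvv]; simp
  have hwy : y * w * y⁻¹ = u := by
    rw [hw, hv, show y * (y * (y * u * y⁻¹) * y⁻¹) * y⁻¹ = y ^ 3 * u * (y ^ 3)⁻¹ by
      simp only [pow_succ, pow_zero, one_mul, _root_.mul_inv_rev, mul_assoc], hy3]
    group
  have hP : u * v * w ∈ scalars ι F := by
    by_contra hP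
    have e : y * (u * v * w) * y⁻¹ = v * w * u := by
      rw [show y * (u * v * w) * y⁻¹ = (y * u * y⁻¹) * (y * v * y⁻¹) * (y * w * y⁻¹) by group, ← hv, ← hw, hwy]
    refine hc _ (mul_mem (mul_mem huR hvR) hwR) hP (h.commute_of_class (by decide : Odd 3) hy3 ?_)
    rw [e, mul_assoc u v w]
    rcases h.sign u huR (v * w) (mul_mem hvR hwR) with e1 | e1
    · exact Or.inl e1.symm
    · exact Or.inr (by rw [e1, neg_neg])
  have huvw : u * v = u * v * w * w := by rw [mul_assoc _ w w, hww, mul_one]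
  have huv1 : u * v ∉ scalars ι F := fun hs => hns v hv1 (by
    have e : w = (u * v)⁻¹ * (u * v * w) := by group
    rw [← hw, e]
    exact mul_mem (inv_mem hs) hP)
  refine h.minus_no_triple hm huR hvR f.a₂s hvv ?_ hu hv1 huv1
  rcases hZ _ (mul_mem (mul_mem huR hvR) hwR) hP with e | e
  · have e1 : u * v = w := by rw [huvw, e, one_mul]
    have e2 : u * v * (u * v) = 1 := by rw [e1, hww]
    rcases h.sign u huR v hvR with e3 | e3
    · exact e3
    · exfalso
      rw [show u * v * (u * v) = u * (v * u) * v by group, show v * u = -(u * v) by rw [e3, neg_neg], mul_neg, neg_mul,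
        show u * (u * v) * v = (u * u) * (v * v) by group, f.a₂s, hvv, one_mul] at e2
      exact h.neg_one_ne e2
  · have e1 : u * v = -w := by rw [huvw, e, neg_one_mul]
    have e2 : u * v * (u * v) = 1 := by rw [e1, neg_mul_neg, hww]
    rcases h.sign u huR v hvR with e3 | e3
    · exact e3
    · exfalso
      rw [show u * v * (u * v) = u * (v * u) * v by group, show v * u = -(u * v) by rw [e3, neg_neg], mul_neg, neg_mul,
        show u * (u * v) * v = (u * u) * (v * v) by group, f.a₂s, hvv, one_mul] at e2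
      exact h.neg_one_ne e2

end IsPauli

/-- Commutants of non-scalar two by two matrices are abelian. -/
theorem commute_of_nonscalar {u x y : Matrix (Fin 2) (Fin 2) F} (hu : ∀ z : F, u ≠ z • 1) (hx : x * u = u * x)
    (hy : y * u = u * y) : x * y = y * x :=
  CfsgLib.Geo.QuatNormalizer.commute_of_commute hu hx hy

/-- Two anticommuting invertible matrices do not commute with a block matrix `u ⊕ 1`, `u - 1` invertible. -/
theorem block_contra (e : Fin 2 ⊕ Fin 2 ≃ ι) {u : Matrix (Fin 2) (Fin 2) F} (hu : IsUnit (u - 1))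
    (hus : ∀ z : F, u ≠ z • (1 : Matrix (Fin 2) (Fin 2) F)) (h2 : (2 : F) ≠ 0) {a b : GL ι F}
    (ha : (a : Matrix ι ι F) * Matrix.reindexAlgEquiv F F e (fromBlocks u 0 0 1) =
      Matrix.reindexAlgEquiv F F e (fromBlocks u 0 0 1) * (a : Matrix ι ι F))
    (hb : (b : Matrix ι ι F) * Matrix.reindexAlgEquiv F F e (fromBlocks u 0 0 1) =
      Matrix.reindexAlgEquiv F F e (fromBlocks u 0 0 1) * (b : Matrix ι ι F))
    (hab : a * b = -(b * a)) : False := by
  set E := Matrix.reindexAlgEquiv F F e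
  have hblock : ∀ X : GL ι F, (X : Matrix ι ι F) * E (fromBlocks u 0 0 1) = E (fromBlocks u 0 0 1) * (X : Matrix ι ι F) →
      ∃ A D, E.symm (X : Matrix ι ι F) = fromBlocks A 0 0 D ∧ A * u = u * A ∧ IsUnit A.det := by
    intro X hX
    obtain ⟨A, B, C, D, hbl⟩ : ∃ A B C D, E.symm (X : Matrix ι ι F) = fromBlocks A B C D :=
      ⟨_, _, _, _, (fromBlocks_toBlocks _).symm⟩
    have h' := congrArg E.symm hX
    rw [map_mul, map_mul, E.symm_apply_apply, hbl, fromBlocks_multiply, fromBlocks_multiply] at h'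
    simp only [Matrix.mul_zero, Matrix.zero_mul, add_zero, zero_add, Matrix.mul_one, Matrix.one_mul,
      fromBlocks_inj] at h'
    obtain ⟨h11, h12, h21, -⟩ := h'
    have hB : B = 0 := by
      have e0 : (u - 1) * B = 0 := by rw [Matrix.sub_mul, Matrix.one_mul, ← h12, sub_self]
      exact (hu.mul_right_eq_zero).1 e0
    have hC : C = 0 := by
      have e0 : C * (u - 1) = 0 := by rw [Matrix.mul_sub, Matrix.mul_one, h21, sub_self]
      exact (hu.mul_left_eq_zero).1 e0
    subst hB hC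
    refine ⟨A, D, hbl, h11, ?_⟩
    have hd : IsUnit (E.symm (X : Matrix ι ι F)).det :=
      ((Matrix.isUnit_iff_isUnit_det _).1 ((X.isUnit).map E.symm))
    rw [hbl, det_fromBlocks_zero₂₁] at hd
    exact isUnit_of_mul_isUnit_left hd
  obtain ⟨A, A', hA, hAu, hAd⟩ := hblock a ha
  obtain ⟨B, B', hB, hBu, hBd⟩ := hblock b hb
  have hAB : A * B = -(B * A) := by
    have h' := congrArg (fun X : GL ι F => E.symm (X : Matrix ι ι F)) hab
    simp only [Units.val_mul, Units.val_neg, map_mul, map_neg, hA, hB, fromBlocks_multiply, fromBlocks_neg] at h'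
    simp only [Matrix.mul_zero, Matrix.zero_mul, add_zero, zero_add, fromBlocks_inj] at h'
    exact h'.1
  have hcomm := CfsgLib.Geo.Pauli.commute_of_nonscalar hus hAu hBu
  rw [hcomm] at hAB
  have h0 : B * A = 0 := by
    have : (2 : F) • (B * A) = 0 := by rw [two_smul]; exact add_eq_zero_iff_eq_neg.2 hAB
    exact (smul_eq_zero.1 this).resolve_left h2
  have := congrArg Matrix.det h0
  rw [det_mul, Matrix.det_zero] at this
  exact (hBd.mul hAd).ne_zero this

section Common

variable [Fintype F] {p : ℕ} [Fact p.Prime] [CharP F p]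

theorem natCast_ne_zero_of_coprime {n : ℕ} (h : n.Coprime p) : (n : F) ≠ 0 := by
  rw [Ne, CharP.cast_eq_zero_iff F p]
  intro hd
  exact (Fact.out : p.Prime).ne_one (Nat.eq_one_of_dvd_coprimes h hd dvd_rfl)

/-- Elements with scalar `r`-th power are scalar multiples of elements of order `r`. -/
theorem split_scalar {x : GL ι F} {r a b : ℕ} (hab : a = b + 1) (hS : x ^ a ∈ scalars ι F)
    (hb : (x⁻¹ ^ b) ^ r = 1) (hns : x ∉ scalars ι F) :
    x = x ^ a * x⁻¹ ^ b ∧ (x⁻¹ ^ b) ^ r = 1 ∧ x⁻¹ ^ b ≠ 1 ∧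
      ∀ y ∈ subgroupNormalizer R, IsConj (x⁻¹ ^ b) y → x ^ a * y ∈ subgroupNormalizer R ∧ IsConj x (x ^ a * y) := by
  have e : x = x ^ a * x⁻¹ ^ b := by rw [hab, pow_succ', inv_pow, mul_inv_cancel_right]
  refine ⟨e, hb, fun h1 => hns (by rw [e, h1, mul_one]; exact hS), fun y hy hc => ?_⟩
  refine ⟨mul_mem (scalars_le_normalizer R hS) hy, ?_⟩
  obtain ⟨c, hc⟩ := isConj_iff.1 hc
  refine isConj_iff.2 ⟨c, ?_⟩
  calc c * x * c⁻¹ = c * (x ^ a * x⁻¹ ^ b) * c⁻¹ := by rw [← e]
    _ = x ^ a * (c * x⁻¹ ^ b * c⁻¹) := by rw [← mul_assoc c, ← scalar_comm hS c]; group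
    _ = _ := by rw [hc]

end Common

end CfsgLib.Geo.Pauli
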