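/-
A classification-free lower bound for the minimal degree of a primitive group (Babai): points with different
colours of pairs distinguish, and each colour needs at least `√(n-1)/2` distinguishing points.
-/
import Mathlib
import Cfsg.Agent.S3681

set_option autoImplicit false

namespace CfsgLib.Geo.MinDeg

open Finset
open scoped Pointwise

variable (G : Type*) {Ω : Type*} [Group G] [MulAction G Ω]

/-- The colour of an ordered pair. -/
def col (x z : Ω) : Set (Ω × Ω) := MulAction.orbit G (x, z)

variable {G}

theorem col_eq_iff {x z y w : Ω} : col G x z = col G y w ↔ ∃ h : G, h • x = y ∧ h • z = w := by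
  rw [col, col, eq_comm, MulAction.orbit_eq_iff, MulAction.mem_orbit_iff]
  simp [Prod.ext_iff]

theorem col_smul (h : G) (x z : Ω) : col G (h • x) (h • z) = col G x z :=
  (col_eq_iff.2 ⟨h, rfl, rfl⟩).symm

theorem col_swap {x z y w : Ω} (h : col G x z = col G y w) : col G z x = col G w y := by
  obtain ⟨k, h1, h2⟩ := col_eq_iff.1 h
  exact col_eq_iff.2 ⟨k, h2, h1⟩

variable (G) [Fintype Ω]

open Classical in
/-- The points distinguishing `x` from `y`. -/
noncomputable def dist (x y : Ω) : ℕ := #{z | col G x z ≠ col G y z}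

open Classical in
/-- The points `z` with `(x, z)` of colour `i`. -/
noncomputable def nb (i : Set (Ω × Ω)) (x : Ω) : Finset Ω := {z | col G x z = i}

variable {G}

theorem dist_triangle (x y z : Ω) : dist G x z ≤ dist G x y + dist G y z := by
  classical
  refine le_trans (card_le_card ?_) (card_union_le _ _)
  intro w hw
  simp only [mem_filter, mem_univ, true_and, mem_union] at hw ⊢
  by_contra! h
  exact hw (h.1.trans h.2)

theorem dist_comm (x y : Ω) : dist G x y = dist G y x := by
  simp [dist, ne_comm]

theorem dist_smul (h : G) (x y : Ω) : dist G (h • x) (h • y) = dist G x y := by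
  classical
  refine card_bij' (fun z _ => h⁻¹ • z) (fun z _ => h • z) ?_ ?_ ?_ ?_ <;> intro z hz
  · simp only [mem_filter, mem_univ, true_and] at hz ⊢
    rwa [← col_smul h x, ← col_smul h y, smul_inv_smul]
  · simp only [mem_filter, mem_univ, true_and] at hz ⊢
    rwa [col_smul, col_smul]
  · exact smul_inv_smul h z
  · exact inv_smul_smul h z

theorem dist_eq_of_col {x z y w : Ω} (h : col G x z = col G y w) : dist G x z = dist G y w := by
  obtain ⟨k, rfl, rfl⟩ := col_eq_iff.1 h
  exact (dist_smul k x z).symm

theorem closed_eq_univ [MulAction.IsPreprimitive G Ω] {E : Ω → Ω → Prop}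
    (hinv : ∀ (h : G) a b, E a b → E (h • a) (h • b)) (hs : ∀ a b, E a b → E b a)
    (hirr : ∀ a, ¬ E a a) {a₀ b₀ : Ω} (h₀ : E a₀ b₀) {B : Set Ω} (hne : B.Nonempty)
    (hcl : ∀ w ∈ B, ∀ y, E w y → y ∈ B) (z : Ω) : z ∈ B := by
  set Bl : Set Ω := {y | Relation.ReflTransGen E a₀ y}
  have hsymm : ∀ a b, Relation.ReflTransGen E a b → Relation.ReflTransGen E b a := by
    intro a b h
    induction h with
    | refl => exact Relation.ReflTransGen.refl
    | tail _ h2 ih => exact (Relation.ReflTransGen.single (hs _ _ h2)).trans ih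
  have hmap : ∀ (h : G) a b, Relation.ReflTransGen E a b → Relation.ReflTransGen E (h • a) (h • b) :=
    fun h a b hab => hab.lift (h • ·) (hinv h)
  have hblock : MulAction.IsBlock G Bl := by
    rw [MulAction.isBlock_iff_smul_eq_of_nonempty]
    rintro h ⟨w, ⟨u, hu, rfl⟩, hw⟩
    have hha : Relation.ReflTransGen E a₀ (h • a₀) := hw.trans (hsymm _ _ (hmap h _ _ hu))
    ext y
    constructor
    · rintro ⟨v, hv, rfl⟩
      exact hha.trans (hmap h _ _ hv)
    · intro hy
      refine ⟨h⁻¹ • y, ?_, smul_inv_smul h y⟩
      show Relation.ReflTransGen E a₀ (h⁻¹ • y)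
      simpa using hmap h⁻¹ _ _ ((hsymm _ _ hha).trans hy)
  rcases hblock.subsingleton_or_eq_univ with hsub | huniv
  · exact absurd (hsub (Relation.ReflTransGen.refl : a₀ ∈ Bl) (Relation.ReflTransGen.single h₀ : b₀ ∈ Bl))
      (fun e => hirr a₀ (e ▸ h₀ : E a₀ a₀))
  · have hall : ∀ y, Relation.ReflTransGen E a₀ y := fun y => (huniv.symm ▸ Set.mem_univ y : y ∈ Bl)
    obtain ⟨w, hw⟩ := hne
    have hwz : Relation.ReflTransGen E w z := (hsymm _ _ (hall w)).trans (hall z)
    induction hwz with
    | refl => exact hw
    | tail _ h2 ih => exact hcl _ ih _ h2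

/-- The distinguishing sets of the neighbours cover all points. -/
theorem sub_one_le_mul [MulAction.IsPreprimitive G Ω] {E : Ω → Ω → Prop}
    (hinv : ∀ (h : G) a b, E a b → E (h • a) (h • b)) (hs : ∀ a b, E a b → E b a)
    (hirr : ∀ a, ¬ E a a) {a₀ b₀ : Ω} (h₀ : E a₀ b₀) (x : Ω) (T : Finset Ω) (hT : ∀ y, E x y → y ∈ T)
    {c : ℕ} (hc : ∀ y, E x y → dist G x y ≤ c) : Fintype.card Ω - 1 ≤ T.card * c := by
  classical
  have hcover : (univ : Finset Ω).erase x ⊆ (T.filter (E x)).biUnion fun y => {z | col G x z ≠ col G y z} := by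
    intro z hz
    by_contra hnot
    simp only [mem_biUnion, mem_filter, mem_univ, true_and, not_exists, not_and, ne_eq, not_not] at hnot
    have hcl : ∀ w ∈ ({w | col G w z = col G x z} : Set Ω), ∀ y, E w y → y ∈ ({w | col G w z = col G x z} : Set Ω) := by
      intro w hw y hy
      obtain ⟨h, h1, h2⟩ := col_eq_iff.1 (show col G w z = col G x z from hw)
      have hy' : E x (h • y) := h1 ▸ hinv h _ _ hy
      have := hnot (h • y) ⟨hT _ hy', hy'⟩
      show col G y z = col G x z
      rw [this, ← col_smul h y z, h2]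
    have hzz : col G z z = col G x z :=
      closed_eq_univ hinv hs hirr h₀ (B := {w | col G w z = col G x z}) ⟨x, rfl⟩ hcl z
    obtain ⟨h, h1, h2⟩ := col_eq_iff.1 hzz
    exact (mem_erase.1 hz).1 (h2.symm.trans h1)
  have h1 := (card_le_card hcover).trans (card_biUnion_le)
  rw [card_erase_of_mem (mem_univ x), card_univ] at h1
  refine h1.trans ((sum_le_card_nsmul _ _ c fun y hy => hc y (mem_filter.1 hy).2).trans ?_)
  rw [smul_eq_mul]
  exact Nat.mul_le_mul_right c (card_le_card (filter_subset _ _))

theorem nb_card_eq [MulAction.IsPretransitive G Ω] (i : Set (Ω × Ω)) (x y : Ω) :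
    (nb G i x).card = (nb G i y).card := by
  classical
  obtain ⟨h, rfl⟩ := MulAction.exists_smul_eq G x y
  refine card_bij' (fun z _ => h • z) (fun z _ => h⁻¹ • z) ?_ ?_ ?_ ?_ <;> intro z hz
  · simp only [nb, mem_filter, mem_univ, true_and] at hz ⊢
    rwa [col_smul]
  · simp only [nb, mem_filter, mem_univ, true_and] at hz ⊢
    rwa [← col_smul h, smul_inv_smul]
  · exact inv_smul_smul h z
  · exact smul_inv_smul h z

theorem nb_in_card [MulAction.IsPretransitive G Ω] (i : Set (Ω × Ω)) (x : Ω) [DecidablePred fun y => col G y x = i] :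
    (univ.filter fun y => col G y x = i).card = (nb G i x).card := by
  classical
  have hconst : ∀ z, (univ.filter fun y => col G y z = i).card = (univ.filter fun y => col G y x = i).card := by
    intro z
    obtain ⟨h, rfl⟩ := MulAction.exists_smul_eq G x z
    refine card_bij' (fun y _ => h⁻¹ • y) (fun y _ => h • y) ?_ ?_ ?_ ?_ <;> intro y hy
    · simp only [mem_filter, mem_univ, true_and] at hy ⊢
      rwa [← col_smul h, smul_inv_smul]
    · simp only [mem_filter, mem_univ, true_and] at hy ⊢
      rwa [col_smul]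
    · exact smul_inv_smul h y
    · exact inv_smul_smul h y
  have hd : ∑ y, (nb G i y).card = ∑ z, (univ.filter fun y => col G y z = i).card := by
    simp only [nb, card_filter]
    exact sum_comm
  rw [sum_congr rfl fun y _ => nb_card_eq i y x, sum_congr rfl fun z _ => hconst z, sum_const, sum_const,
    smul_eq_mul, smul_eq_mul] at hd
  haveI : Nonempty Ω := ⟨x⟩
  exact (Nat.eq_of_mul_eq_mul_left (card_pos.2 univ_nonempty) hd).symm

/-- Some pair of points is distinguished by many out-neighbours. -/
theorem exists_large_dist [MulAction.IsPretransitive G Ω] (i : Set (Ω × Ω)) (u : Ω) :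
    ∃ y, 2 * ((nb G i u).card * (Fintype.card Ω - (nb G i u).card)) ≤ dist G u y * Fintype.card Ω := by
  classical
  haveI : Nonempty Ω := ⟨u⟩
  set k := (nb G i u).card with hk
  have hsum : ∑ y, (nb G i u \ nb G i y).card = k * (Fintype.card Ω - k) := by
    have h : ∀ y, (nb G i u \ nb G i y).card = ∑ z ∈ nb G i u, if col G y z = i then 0 else 1 := by
      intro y
      rw [show nb G i u \ nb G i y = (nb G i u).filter fun z => ¬ col G y z = i by
        ext z; simp [nb], card_filter]
      simp only [ite_not]
    simp only [h]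
    rw [sum_comm, sum_congr rfl (fun z _ => (?_ : _ = Fintype.card Ω - k)), sum_const, smul_eq_mul]
    have hz : ∑ y, (if col G y z = i then 0 else 1) = (univ.filter fun y => ¬ col G y z = i).card := by
      rw [card_filter]; simp only [ite_not]
    rw [hz, filter_not, card_sdiff_of_subset (subset_univ _), card_univ, nb_in_card, nb_card_eq i z u]
  obtain ⟨y, -, hy⟩ := exists_max_image univ (fun y => (nb G i u \ nb G i y).card) univ_nonempty
  refine ⟨y, ?_⟩
  have h1 : k * (Fintype.card Ω - k) ≤ Fintype.card Ω * (nb G i u \ nb G i y).card := by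
    rw [← hsum]
    refine (sum_le_card_nsmul univ _ _ fun w hw => hy w hw).trans ?_
    rw [smul_eq_mul, card_univ]
  have h2 : (nb G i u \ nb G i y).card + (nb G i y \ nb G i u).card ≤ dist G u y := by
    rw [← card_union_of_disjoint disjoint_sdiff_sdiff]
    refine card_le_card fun z hz => ?_
    simp only [nb, mem_union, mem_sdiff, mem_filter, mem_univ, true_and] at hz ⊢
    rcases hz with ⟨h1, h2⟩ | ⟨h1, h2⟩
    · exact fun e => h2 (e ▸ h1)
    · exact fun e => h2 (e.symm ▸ h1)
  have h3 : (nb G i y \ nb G i u).card = (nb G i u \ nb G i y).card := by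
    have a := card_sdiff_add_card_inter (nb G i y) (nb G i u)
    have b := card_sdiff_add_card_inter (nb G i u) (nb G i y)
    rw [inter_comm] at a
    have := nb_card_eq (G := G) i y u
    omega
  nlinarith

/-- A colour of a primitive group which is not doubly transitive distinguishes at least `√(n-1)/2` points. -/
theorem colour_bound [MulAction.IsPreprimitive G Ω] {x₀ y₀ : Ω} (hne : x₀ ≠ y₀) {s : ℕ}
    (hd : dist G x₀ y₀ ≤ s) (hnot : ¬ ∀ a b : Ω, a ≠ b → col G a b = col G x₀ y₀) :
    Fintype.card Ω - 1 ≤ 4 * s * s := by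
  classical
  set n := Fintype.card Ω with hn
  set i := col G x₀ y₀ with hi
  have hirr : ∀ a, col G a a ≠ i := fun a e => by
    obtain ⟨h, h1, h2⟩ := col_eq_iff.1 (e.trans hi)
    exact hne (h1.symm.trans h2)
  let E : Ω → Ω → Prop := fun a b => col G a b = i ∨ col G b a = i
  have hEd : ∀ a b, E a b → dist G a b ≤ s := by
    rintro a b (e | e)
    · rw [dist_eq_of_col (e.trans hi)]; exact hd
    · rw [dist_comm, dist_eq_of_col (e.trans hi)]; exact hd
  have hEinv : ∀ (h : G) a b, E a b → E (h • a) (h • b) := fun h a b e => by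
    simpa only [E, col_smul] using e
  have hEs : ∀ a b, E a b → E b a := fun a b => Or.symm
  have hEirr : ∀ a, ¬ E a a := fun a => by simp [E, hirr]
  have hk : ∀ x, (nb G i x).card = (nb G i x₀).card := fun x => nb_card_eq i x x₀
  set k := (nb G i x₀).card with hk'
  have hkn : k ≤ n := card_le_univ _
  by_cases hhalf : 2 * k ≤ n
  · have h1 := sub_one_le_mul hEinv hEs hEirr (Or.inl rfl : E x₀ y₀) x₀
      (nb G i x₀ ∪ univ.filter fun y => col G y x₀ = i) (fun y hy => by
        rcases hy with e | e <;> simp [nb, e]) (fun y => hEd x₀ y)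
    have hT : (nb G i x₀ ∪ univ.filter fun y => col G y x₀ = i).card ≤ 2 * k :=
      (card_union_le _ _).trans (by rw [nb_in_card]; omega)
    have h1' : n - 1 ≤ 2 * k * s := h1.trans (Nat.mul_le_mul_right s hT)
    suffices k ≤ 2 * s by nlinarith
    set T2 : Set Ω := {v | v = x₀ ∨ E x₀ v ∨ ∃ w, E x₀ w ∧ E w v}
    by_cases hT2 : ∀ v, v ∈ T2
    · obtain ⟨y, hy⟩ := exists_large_dist (G := G) i x₀
      have hy2 : dist G x₀ y ≤ 2 * s := by
        rcases hT2 y with rfl | e | ⟨w, e1, e2⟩
        · simp [dist]
        · have := hEd _ _ e; omega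
        · have := dist_triangle (G := G) x₀ w y
          have := hEd _ _ e1
          have := hEd _ _ e2
          omega
      rw [← hk', ← hn] at hy
      by_contra hks
      have e1 : k + (n - k) = n := by omega
      nlinarith
    · push Not at hT2
      obtain ⟨v₀, hv₀⟩ := hT2
      obtain ⟨v, hv, w, hvw, hw⟩ : ∃ v ∈ T2, ∃ w, E v w ∧ w ∉ T2 := by
        by_contra! hc
        exact hv₀ (closed_eq_univ hEinv hEs hEirr (Or.inl rfl : E x₀ y₀) ⟨x₀, Or.inl rfl⟩ hc v₀)
      have hdv : dist G x₀ w ≤ 3 * s := by
        have := dist_triangle (G := G) x₀ v w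
        have := hEd _ _ hvw
        rcases hv with rfl | e | ⟨u, e1, e2⟩
        · omega
        · have := hEd _ _ e; omega
        · have := dist_triangle (G := G) x₀ u v
          have := hEd _ _ e1
          have := hEd _ _ e2
          omega
      have hdis : Disjoint (nb G i x₀) (nb G i w) := by
        rw [disjoint_left]
        intro z hz hz'
        simp only [nb, mem_filter, mem_univ, true_and] at hz hz'
        exact hw (Or.inr (Or.inr ⟨z, Or.inl hz, Or.inr hz'⟩))
      have h2 : (nb G i x₀ ∪ nb G i w).card ≤ dist G x₀ w := by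
        refine card_le_card fun z hz => ?_
        simp only [mem_union] at hz
        simp only [mem_filter, mem_univ, true_and]
        intro e
        rcases hz with hz | hz
        · refine disjoint_left.1 hdis hz ?_
          simp only [nb, mem_filter, mem_univ, true_and] at hz ⊢
          rw [← e, hz]
        · refine disjoint_right.1 hdis hz ?_
          simp only [nb, mem_filter, mem_univ, true_and] at hz ⊢
          rw [e, hz]
      rw [card_union_of_disjoint hdis, hk w] at h2
      omega
  · push Not at hhalf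
    have hall : ∀ a b : Ω, dist G a b ≤ 2 * s := by
      intro a b
      obtain ⟨z, hz⟩ := inter_nonempty_of_card_lt_card_add_card (t := nb G i a) (u := nb G i b)
        (subset_univ _) (subset_univ _) (by rw [card_univ, ← hn, hk a, hk b]; omega)
      simp only [nb, mem_inter, mem_filter, mem_univ, true_and] at hz
      have := dist_triangle (G := G) a z b
      have := hEd a z (Or.inl hz.1)
      have := hEd z b (Or.inr hz.2)
      omega
    have hself : ∀ a b, col G a b = i → col G b a = i := by
      obtain ⟨z, hz⟩ := inter_nonempty_of_card_lt_card_add_card (t := nb G i x₀)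
        (u := univ.filter fun y => col G y x₀ = i) (subset_univ _) (subset_univ _)
        (by rw [card_univ, ← hn, nb_in_card, ← hk']; omega)
      simp only [nb, mem_inter, mem_filter, mem_univ, true_and] at hz
      intro a b e
      rw [col_swap (e.trans hz.1.symm)]
      exact hz.2
    push Not at hnot
    obtain ⟨a, b, hab, hj⟩ := hnot
    let E' : Ω → Ω → Prop := fun u v => col G u v = col G a b ∨ col G v u = col G a b
    have hE'irr : ∀ u, ¬ E' u u := by
      intro u e
      have e' : col G u u = col G a b := e.elim id id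
      obtain ⟨h, h1, h2⟩ := col_eq_iff.1 e'
      exact hab (h1.symm.trans h2)
    have h1 := sub_one_le_mul (E := E') (fun h u v e => by simpa only [E', col_smul] using e)
      (fun u v => Or.symm) hE'irr (Or.inl rfl : E' a b) x₀ (univ \ nb G i x₀) (fun y hy => by
        simp only [nb, mem_sdiff, mem_univ, true_and, mem_filter]
        intro e
        rcases hy with e' | e'
        · exact hj (e'.symm.trans e)
        · exact hj (e'.symm.trans (hself _ _ e))) (fun y _ => hall x₀ y)
    rw [card_univ_sdiff, ← hn, ← hk'] at h1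
    obtain ⟨y, hy⟩ := exists_large_dist (G := G) i x₀
    rw [← hk', ← hn] at hy
    have hy2 := hall x₀ y
    suffices n - k ≤ 2 * s by nlinarith
    by_contra hks
    have e1 : k + (n - k) = n := by omega
    nlinarith

/-- The minimal degree of a primitive group not containing the alternating group. -/
theorem sub_one_le_four_mul_sq [Finite G] [DecidableEq Ω] [FaithfulSMul G Ω] [MulAction.IsPreprimitive G Ω]
    (hA : ¬ alternatingGroup Ω ≤ (MulAction.toPermHom G Ω).range) {g : G} (hg : g ≠ 1) :
    Fintype.card Ω - 1 ≤ 4 * (univ.filter fun x : Ω => g • x ≠ x).card * (univ.filter fun x : Ω => g • x ≠ x).card := by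
  classical
  set S : Finset Ω := univ.filter fun x => g • x ≠ x with hS
  obtain ⟨x₀, hx₀⟩ : ∃ x, g • x ≠ x := by
    by_contra! hc
    exact hg (eq_of_smul_eq_smul fun z : Ω => by rw [hc z, one_smul])
  have hd : dist G x₀ (g • x₀) ≤ S.card := by
    refine card_le_card fun z hz => ?_
    simp only [hS, mem_filter, mem_univ, true_and] at hz ⊢
    intro e
    exact hz (by conv_rhs => rw [← e, col_smul])
  by_cases h2t : ∀ a b : Ω, a ≠ b → col G a b = col G x₀ (g • x₀)
  swap
  · exact colour_bound (Ne.symm hx₀) hd h2t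
  -- doubly transitive case
  haveI := Fintype.ofFinite G
  have hpair : ∀ a b c d : Ω, a ≠ b → c ≠ d → ∃ h : G, h • a = c ∧ h • b = d := fun a b c d hab hcd =>
    col_eq_iff.1 ((h2t a b hab).trans (h2t c d hcd).symm)
  set T : Ω → Ω → ℕ := fun a b => #{h : G | h • a = b}
  set T2 : Ω × Ω → Ω × Ω → ℕ := fun p q => #{h : G | h • p = q}
  have hT : ∀ a b, Fintype.card Ω * T a b = Fintype.card G := by
    intro a b
    have hconst : ∀ c, T a c = T a b := by
      intro c
      obtain ⟨k, hk⟩ := MulAction.exists_smul_eq G b c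
      refine card_bij' (fun h _ => k⁻¹ * h) (fun h _ => k * h) ?_ ?_ ?_ ?_ <;> intro h hh
      · simp only [mem_filter, mem_univ, true_and] at hh ⊢
        rw [mul_smul, hh, ← hk, inv_smul_smul]
      · simp only [mem_filter, mem_univ, true_and] at hh ⊢
        rw [mul_smul, hh, hk]
      · exact mul_inv_cancel_left k h
      · exact inv_mul_cancel_left k h
    rw [← card_univ (α := G), card_eq_sum_card_fiberwise (f := fun h : G => h • a) (t := univ) (fun _ _ => mem_univ _)]
    rw [sum_congr rfl (fun c _ => hconst c), sum_const, smul_eq_mul, card_univ]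
  have hT2 : ∀ p q : Ω × Ω, p.1 ≠ p.2 → q.1 ≠ q.2 →
      (Fintype.card Ω * (Fintype.card Ω - 1)) * T2 p q = Fintype.card G := by
    intro p q hp hq
    have hconst : ∀ r : Ω × Ω, r.1 ≠ r.2 → T2 p r = T2 p q := by
      intro r hr
      obtain ⟨k, hk1, hk2⟩ := hpair q.1 q.2 r.1 r.2 hq hr
      have hk : k • q = r := Prod.ext hk1 hk2
      refine card_bij' (fun h _ => k⁻¹ * h) (fun h _ => k * h) ?_ ?_ ?_ ?_ <;> intro h hh
      · simp only [mem_filter, mem_univ, true_and] at hh ⊢
        rw [mul_smul, hh, ← hk, inv_smul_smul]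
      · simp only [mem_filter, mem_univ, true_and] at hh ⊢
        rw [mul_smul, hh, hk]
      · exact mul_inv_cancel_left k h
      · exact inv_mul_cancel_left k h
    rw [← card_univ (α := G), card_eq_sum_card_fiberwise (f := fun h : G => h • p)
      (t := (univ : Finset Ω).offDiag) (fun h _ => by
        simp only [mem_coe, mem_offDiag, mem_univ, true_and, Prod.smul_fst, Prod.smul_snd]
        exact fun e => hp (MulAction.injective h e))]
    rw [sum_congr rfl (fun r hr => hconst r (mem_offDiag.1 hr).2.2), sum_const, smul_eq_mul, offDiag_card,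
      card_univ, Nat.mul_sub_one]
  set X : G → ℕ := fun h => #{a ∈ S | h • a ∈ S}
  have hX1 : Fintype.card Ω * ∑ h, X h = S.card * S.card * Fintype.card G := by
    have h : ∀ h : G, X h = ∑ a ∈ S, ∑ b ∈ S, if h • a = b then 1 else 0 := by
      intro h
      simp only [X, card_filter, sum_ite_eq]
    simp only [h]
    rw [sum_comm, mul_sum]
    rw [sum_congr rfl (fun a _ => (?_ : _ = S.card * Fintype.card G)), sum_const, smul_eq_mul, mul_assoc]
    rw [sum_comm, mul_sum, sum_congr rfl (fun b _ => (?_ : _ = Fintype.card G)), sum_const, smul_eq_mul]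
    rw [← hT a b]
    simp only [T, card_filter]
  have hX2 : (Fintype.card Ω * (Fintype.card Ω - 1)) * ∑ h, X h * (X h - 1) =
      (S.card * (S.card - 1)) * (S.card * (S.card - 1)) * Fintype.card G := by
    have h : ∀ h : G, X h * (X h - 1) = ∑ p ∈ S.offDiag, ∑ q ∈ S.offDiag, if h • p = q then 1 else 0 := by
      intro h
      simp only [sum_ite_eq]
      rw [← card_filter, Nat.mul_sub_one]
      show _ = #{p ∈ S.offDiag | h • p ∈ S.offDiag}
      rw [← offDiag_card]
      refine congrArg card ?_
      ext p
      simp only [mem_offDiag, mem_filter, Prod.smul_fst, Prod.smul_snd, ne_eq, smul_left_cancel_iff]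
      tauto
    simp only [h]
    have hoff : S.offDiag.card = S.card * (S.card - 1) := by rw [offDiag_card, Nat.mul_sub_one]
    rw [sum_comm, mul_sum]
    rw [sum_congr rfl (fun p hp => (?_ : _ = S.offDiag.card * Fintype.card G)), sum_const, smul_eq_mul, hoff]
    · ring
    rw [sum_comm, mul_sum, sum_congr rfl (fun q hq => (?_ : _ = Fintype.card G)), sum_const, smul_eq_mul]
    rw [← hT2 p q (mem_offDiag.1 hp).2.2 (mem_offDiag.1 hq).2.2]
    simp only [T2, card_filter]
  have hnone : ∀ h : G, X h ≠ 1 := by
    intro h hh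
    obtain ⟨a, ha⟩ := card_eq_one.1 hh
    have ha' : a ∈ S ∧ h • a ∈ S := by
      have : a ∈ ({a} : Finset Ω) := mem_singleton_self a
      rw [← ha] at this
      simpa using this
    simp only [hS, mem_filter, mem_univ, true_and] at ha'
    haveI : MulAction.IsPreprimitive (MulAction.toPermHom G Ω).range Ω := by
      let f : Ω →ₑ[(MulAction.toPermHom G Ω).rangeRestrict] Ω :=
        { toFun := id, map_smul' := fun g x => rfl }
      exact MulAction.IsPreprimitive.of_surjective (f := f) Function.surjective_id
    refine hA (Equiv.Perm.alternatingGroup_le_of_isPreprimitive_of_isThreeCycle_mem inferInstance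
      (Cfsg.Agent.S3681.isThreeCycle_commutator (MulAction.toPermHom G Ω g)
        (MulAction.toPermHom G Ω (h⁻¹ * g * h)) a ha'.1 ?_ ?_)
      ⟨g * (h⁻¹ * g * h) * g⁻¹ * (h⁻¹ * g * h)⁻¹, by simp only [map_mul, map_inv]⟩)
    · show (h⁻¹ * g * h) • a ≠ a
      rw [mul_smul, mul_smul, ne_eq, inv_smul_eq_iff]
      exact ha'.2
    · intro z hz hz'
      have hz'' : (h⁻¹ * g * h) • z ≠ z := hz'
      rw [mul_smul, mul_smul, ne_eq, inv_smul_eq_iff] at hz''
      have : z ∈ ({a} : Finset Ω) := by
        rw [← ha]
        simp only [hS, mem_filter, mem_univ, true_and]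
        exact ⟨hz, hz''⟩
      exact mem_singleton.1 this
  have hsum : ∑ h, X h ≤ ∑ h, X h * (X h - 1) := by
    refine sum_le_sum fun h _ => ?_
    rcases Nat.eq_zero_or_pos (X h) with h0 | h0
    · simp [h0]
    · exact Nat.le_mul_of_pos_right _ (by have := hnone h; omega)
  have hs0 : 0 < S.card := card_pos.2 ⟨x₀, by simp [hS, hx₀]⟩
  have hG : 0 < Fintype.card G := Fintype.card_pos
  have hfin : Fintype.card Ω - 1 ≤ (S.card - 1) * (S.card - 1) := by
    have h := Nat.mul_le_mul_left (Fintype.card Ω * (Fintype.card Ω - 1)) hsum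
    rw [hX2, mul_comm (Fintype.card Ω) (Fintype.card Ω - 1), mul_assoc, hX1] at h
    refine Nat.le_of_mul_le_mul_left ?_ (Nat.mul_pos (Nat.mul_pos hs0 hs0) hG)
    calc S.card * S.card * Fintype.card G * (Fintype.card Ω - 1)
        = (Fintype.card Ω - 1) * (S.card * S.card * Fintype.card G) := mul_comm _ _
      _ ≤ _ := h.trans (le_of_eq (by ring))
  have h2 : S.card - 1 ≤ S.card := Nat.sub_le _ _
  nlinarith

end CfsgLib.Geo.MinDeg
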