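/-
Stabilisers in `Ω` of small orthogonal decompositions which are not maximal.
-/
import Cfsg.Agent.Lib.Geo.OrthParity
import Cfsg.Agent.Lib.Classical.Quad.NegOne

set_option autoImplicit false

namespace CfsgLib.Geo.OrthMax

open CfsgLib.Classical CfsgLib.Classical.Quad
open QuadraticMap (polar polarBilin)

variable {F : Type*} [Field F] [Finite F] {ι : Type} [Fintype ι] [DecidableEq ι]
  {Q : QuadraticForm F (ι → F)}

/-- An intermediate subgroup from an invariant set. -/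
theorem exists_between_set (hQ : (polarBilin Q).Nondegenerate) (hn : 5 ≤ Fintype.card ι)
    (A : Subgroup (Matrix.GeneralLinearGroup ι F)) (X : Set (ι → F))
    (hle : ∀ g : Cfsg.isometryGroup F (⇑Q), (g : Matrix.GeneralLinearGroup ι F) ∈ A →
      ∀ v ∈ X, (oEquiv Q g : (ι → F) ≃ₗ[F] (ι → F)) v ∈ X)
    (h : OQ Q) (hh : h ∈ eichGroup hQ) (hhX : ∀ v ∈ X, (h : (ι → F) ≃ₗ[F] (ι → F)) v ∈ X)
    (hhA : ((oEquiv Q).symm h : Matrix.GeneralLinearGroup ι F) ∉ A)
    (htop : ∃ x ∈ X, ∃ y, y ∉ X ∧ Q x ≠ 0 ∧ Q y = Q x) :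
    ∃ K : Subgroup (Matrix.GeneralLinearGroup ι F),
      A ⊓ Cfsg.Geo.omegaGL (⇑Q) < K ∧ K < Cfsg.Geo.omegaGL (⇑Q) := by
  have hn' : 5 ≤ Module.finrank F (ι → F) := by rwa [Module.finrank_pi]
  have : Finite (ι → F) := Pi.finite
  let e := oEquiv Q
  have hΩ : ∀ g : Cfsg.isometryGroup F (⇑Q),
      (g : Matrix.GeneralLinearGroup ι F) ∈ Cfsg.Geo.omegaGL (⇑Q) ↔ e g ∈ eichGroup hQ := by
    intro g
    have hmap : (commutator ↥(Cfsg.isometryGroup F (⇑Q))).map e.toMonoidHom = commutator (OQ Q) := by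
      rw [commutator_def, commutator_def, Subgroup.map_commutator,
        Subgroup.map_top_of_surjective _ e.surjective]
    rw [eichGroup_eq_commutator hQ hn', ← hmap, Subgroup.mem_map_equiv, MulEquiv.symm_apply_apply]
    exact ⟨fun ⟨g', hg', hgg⟩ => by rw [← Subtype.ext hgg]; exact hg', fun h => ⟨g, h, rfl⟩⟩
  let S := Cfsg.stabilizing (Cfsg.glToMat ι F) X
  have hS : ∀ g : Cfsg.isometryGroup F (⇑Q),
      (∀ v ∈ X, (e g : (ι → F) ≃ₗ[F] (ι → F)) v ∈ X) → (g : Matrix.GeneralLinearGroup ι F) ∈ S := by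
    intro g hg v
    refine ⟨hg v, fun hv => ?_⟩
    obtain ⟨⟨w, hw⟩, hw'⟩ := Finite.surjective_of_injective
      (f := fun x : X => (⟨(e g : (ι → F) ≃ₗ[F] (ι → F)) x, hg x x.2⟩ : X))
      (fun a b hab => Subtype.ext ((e g : (ι → F) ≃ₗ[F] (ι → F)).injective (congrArg Subtype.val hab)))
      ⟨_, hv⟩
    have hwv : w = v := (e g : (ι → F) ≃ₗ[F] (ι → F)).injective (congrArg Subtype.val hw')
    exact hwv ▸ hw
  refine ⟨S ⊓ Cfsg.Geo.omegaGL (⇑Q), lt_of_le_of_ne ?_ ?_, lt_of_le_of_ne inf_le_right ?_⟩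
  · rintro _ ⟨hA, g, hg, rfl⟩
    exact ⟨hS g (hle g hA), g, hg, rfl⟩
  · intro he
    exact hhA (he.ge ⟨hS _ (by rw [MulEquiv.apply_symm_apply]; exact hhX),
      (hΩ _).2 (by rw [MulEquiv.apply_symm_apply]; exact hh)⟩).1
  · intro he
    obtain ⟨x, hx, y, hy, hqx, hq⟩ := htop
    obtain ⟨s, hs, hsx⟩ := exists_move_vector hQ hn' hqx hq
    obtain ⟨g, rfl⟩ := e.surjective s
    refine hy ?_
    rw [← hsx]
    exact ((he.ge ((hΩ g).2 hs)).1 x).1 hx

/-- Orthogonal decompositions into isometric members, with nondegenerate members. -/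
structure Members (Q : QuadraticForm F (ι → F)) {t : ℕ} (k : ℕ)
    (D : Fin t → Submodule F (ι → F)) : Prop where
  nondeg : ∀ i, Nondeg Q (D i)
  finrank : ∀ i, Module.finrank F (D i) = k
  orth : ∀ i j, i ≠ j → ∀ x ∈ D i, ∀ y ∈ D j, polar Q x y = 0
  iso : ∀ i j, ∃ e : D i ≃ₗ[F] D j, ∀ x : D i, Q (e x : ι → F) = Q (x : ι → F)
  card : Fintype.card ι ≤ t * k

theorem members_of {t k : ℕ} {D : Fin t → Submodule F (ι → F)}
    (h : Cfsg.Geo.IsOrthogonalMDecomposition (⇑Q) k D) : Members Q k D where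
  nondeg i x hx hy := by
    by_contra h0
    obtain ⟨-, y, hy', hne⟩ := h.decomp.nondegenerate i x hx h0
    exact hne (hy y hy')
  finrank := h.decomp.decomp.finrank_eq
  orth := h.decomp.orthogonal
  iso := h.isometric
  card := by
    classical
    let φ : (∀ i, D i) →ₗ[F] (ι → F) := ∑ i, (D i).subtype ∘ₗ LinearMap.proj i
    have hφ : LinearMap.range φ = ⊤ := by
      refine top_le_iff.1 (h.decomp.decomp.iSup_eq_top.ge.trans (iSup_le fun i x hx => ?_))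
      refine ⟨Pi.single i ⟨x, hx⟩, ?_⟩
      simp only [φ, LinearMap.sum_apply, LinearMap.comp_apply, LinearMap.proj_apply,
        Submodule.subtype_apply]
      rw [Finset.sum_eq_single i (fun j _ hj => by rw [Pi.single_eq_of_ne hj]; rfl) (by simp),
        Pi.single_eq_same]
    have h1 := LinearMap.finrank_range_le φ
    rw [hφ, finrank_top, Module.finrank_pi, Module.finrank_pi_fintype] at h1
    simp only [h.decomp.decomp.finrank_eq, Finset.sum_const, Finset.card_univ, Fintype.card_fin,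
      smul_eq_mul] at h1
    exact h1

variable {t k : ℕ} {D : Fin t → Submodule F (ι → F)}

theorem Members.map_mem {g : Cfsg.isometryGroup F (⇑Q)}
    (hg : (g : Matrix.GeneralLinearGroup ι F) ∈ Cfsg.Geo.decompositionStabilizer D) :
    ∃ π : Equiv.Perm (Fin t), ∀ i, ∀ x ∈ D i,
      (oEquiv Q g : (ι → F) ≃ₗ[F] (ι → F)) x ∈ D (π i) := by
  obtain ⟨π, hπ⟩ := hg
  exact ⟨π, fun i x hx => (hπ i).le ⟨x, hx, rfl⟩⟩

theorem Members.eq_of_polar (hM : Members Q k D) {i j : Fin t} {z x : ι → F} (hz : z ∈ D j)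
    (hx : x ∈ D i) (h : polar Q z x ≠ 0) : j = i := by
  by_contra hne
  exact h (hM.orth j i hne z hz x hx)

theorem Members.four_le (hM : Members Q k D) (hn : 13 ≤ Fintype.card ι) (hk : k ≤ 4) : 4 ≤ t := by
  have := hM.card
  by_contra h
  have : t * k ≤ 3 * 4 := Nat.mul_le_mul (by omega) hk
  omega

/-- The vectors of a given value inside the members. -/
def levelSet (Q : QuadraticForm F (ι → F)) (D : Fin t → Submodule F (ι → F)) (c : F) :
    Set (ι → F) :=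
  {v | (∃ i, v ∈ D i) ∧ Q v = c}

theorem levelSet_top (hQ : (polarBilin Q).Nondegenerate) (hM : Members Q k D)
    (hn : 13 ≤ Fintype.card ι) (hk : k ≤ 4) {c : F} (hc : c ≠ 0) {i : Fin t} {x : ι → F}
    (hx : x ∈ D i) (hxc : Q x = c) :
    ∃ x ∈ levelSet Q D c, ∃ y, y ∉ levelSet Q D c ∧ Q x ≠ 0 ∧ Q y = Q x := by
  have hU := (hM.nondeg i).perp hQ
  have hd := finrank_perp hQ (D i)
  rw [hM.finrank, Module.finrank_pi] at hd
  obtain ⟨p, hp, hp0, hqp⟩ := hU.exists_singular (by omega)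
  have hxp : polar Q x p = 0 := mem_perp.1 hp x hx
  refine ⟨x, ⟨⟨i, hx⟩, hxc⟩, x + p, ?_, by rw [hxc]; exact hc,
    by rw [apply_add, hqp, hxp, add_zero, add_zero]⟩
  rintro ⟨⟨j, hj⟩, -⟩
  have hx0 : x ≠ 0 := fun e => hc (by rw [← hxc, e, QuadraticMap.map_zero])
  obtain ⟨y, hy, hxy⟩ := (hM.nondeg i).exists_polar_one hx hx0
  have hji : j = i := hM.eq_of_polar hj hy (by
    rw [polar_add_left', hxy, perp_left hp hy, add_zero]; exact one_ne_zero)
  rw [hji, (D i).add_mem_iff_right hx] at hj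
  exact hp0 (Submodule.disjoint_def.1 ((hM.nondeg i).isCompl hQ).disjoint p hj hp)

theorem levelSet_le {c : F} {g : Cfsg.isometryGroup F (⇑Q)}
    (hg : (g : Matrix.GeneralLinearGroup ι F) ∈ Cfsg.Geo.decompositionStabilizer D) :
    ∀ v ∈ levelSet Q D c, (oEquiv Q g : (ι → F) ≃ₗ[F] (ι → F)) v ∈ levelSet Q D c := by
  obtain ⟨π, hπ⟩ := Members.map_mem hg
  rintro v ⟨⟨i, hi⟩, hv⟩
  exact ⟨⟨π i, hπ i v hi⟩, by rw [OQ.map_apply, hv]⟩

/-- The case of odd characteristic: two swaps of frame vectors. -/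
theorem exists_between_frame (hQ : (polarBilin Q).Nondegenerate) (h2 : (2 : F) ≠ 0)
    (hn : 13 ≤ Fintype.card ι) (hk2 : 2 ≤ k) (hk : k ≤ 4) (hM : Members Q k D) {i₀ : Fin t}
    {a x₀ : ι → F} {c : F} (ha : a ∈ D i₀) (hqa : Q a ≠ 0) (hx₀ : x₀ ∈ D i₀) (hc : c ≠ 0)
    (hx₀c : Q x₀ = c)
    (hcond : ∀ x ∈ D i₀, Q x = c → polar Q x a = 0 ∨ ∃ ε : F, x = ε • a) :
    ∃ K : Subgroup (Matrix.GeneralLinearGroup ι F),
      Cfsg.Geo.decompositionStabilizer D ⊓ Cfsg.Geo.omegaGL (⇑Q) < K ∧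
        K < Cfsg.Geo.omegaGL (⇑Q) := by
  have hn' : Module.finrank F (ι → F) = Fintype.card ι := Module.finrank_pi F
  have ht := hM.four_le hn hk
  choose e he using fun i => hM.iso i₀ i
  let A : Fin t → ι → F := fun i => (e i ⟨a, ha⟩ : ι → F)
  have hA : ∀ i, A i ∈ D i := fun i => Subtype.coe_prop _
  have hqA : ∀ i, Q (A i) = Q a := fun i => he i ⟨a, ha⟩
  have hepol : ∀ i (x y : D i₀), polar Q (e i x : ι → F) (e i y) = polar Q (x : ι → F) y := by
    intro i x y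
    simp only [polar, ← Submodule.coe_add, ← map_add, he]
  have hcondi : ∀ i, ∀ x ∈ D i, Q x = c → polar Q x (A i) = 0 ∨ ∃ ε : F, x = ε • A i := by
    intro i x hx hxc
    obtain ⟨x', hx'⟩ := (e i).surjective ⟨x, hx⟩
    have hxe : (e i x' : ι → F) = x := congrArg Subtype.val hx'
    rcases hcond x' x'.2 (by rw [← he i, hxe, hxc]) with h | ⟨ε, hε⟩
    · exact Or.inl (by rw [← hxe, hepol]; exact h)
    · refine Or.inr ⟨ε, ?_⟩
      rw [← hxe, show x' = ε • (⟨a, ha⟩ : D i₀) from Subtype.ext hε, map_smul]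
      rfl
  let j0 : Fin t := ⟨0, by omega⟩
  let j1 : Fin t := ⟨1, by omega⟩
  let j2 : Fin t := ⟨2, by omega⟩
  let j3 : Fin t := ⟨3, by omega⟩
  have h01 : j0 ≠ j1 := by simp [j0, j1]
  have h23 : j2 ≠ j3 := by simp [j2, j3]
  have hq : ∀ i j, i ≠ j → Q (A i - A j) = Q a + Q a := by
    intro i j hij
    rw [sub_eq_add_neg, apply_add, QuadraticMap.map_neg, hqA, hqA, QuadraticMap.polar_neg_right,
      hM.orth i j hij _ (hA i) _ (hA j)]
    ring
  have h2a : Q a + Q a ≠ 0 := by rw [← two_mul]; exact mul_ne_zero h2 hqa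
  have hv1 : Q (A j0 - A j1) ≠ 0 := by rw [hq _ _ h01]; exact h2a
  have hv2 : Q (A j2 - A j3) ≠ 0 := by rw [hq _ _ h23]; exact h2a
  have hswap : ∀ i j, ∀ hij : i ≠ j, ∀ hv : Q (A i - A j) ≠ 0,
      (Quad.refl hv : (ι → F) ≃ₗ[F] (ι → F)) (A i) = A j ∧
      (Quad.refl hv : (ι → F) ≃ₗ[F] (ι → F)) (A j) = A i ∧
      ∀ z, polar Q z (A i) = 0 → polar Q z (A j) = 0 →
        (Quad.refl hv : (ι → F) ≃ₗ[F] (ι → F)) z = z := by
    intro i j hij hv
    have hji := hM.orth j i (Ne.symm hij) _ (hA j) _ (hA i)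
    have hij' := hM.orth i j hij _ (hA i) _ (hA j)
    refine ⟨?_, ?_, fun z h1 h3 => ?_⟩
    · rw [refl_apply, QuadraticMap.polar_sub_right, polar_self', hqA, hij', sub_zero, hq i j hij,
        two_mul, inv_mul_cancel₀ h2a, one_smul, sub_sub_cancel]
    · rw [refl_apply, QuadraticMap.polar_sub_right, polar_self', hqA, hji, zero_sub, hq i j hij,
        two_mul, mul_neg, inv_mul_cancel₀ h2a, neg_smul, one_smul, sub_neg_eq_add, add_sub_cancel]
    · rw [refl_apply, QuadraticMap.polar_sub_right, h1, h3, sub_zero, mul_zero, zero_smul, sub_zero]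
  have hsw : ∀ i j, ∀ hij : i ≠ j, ∀ hv : Q (A i - A j) ≠ 0, ∀ v ∈ levelSet Q D c,
      (Quad.refl hv : (ι → F) ≃ₗ[F] (ι → F)) v ∈ levelSet Q D c := by
    intro i j hij hv v hvX
    obtain ⟨⟨l, hl⟩, hvc⟩ := hvX
    refine ⟨?_, by rw [OQ.map_apply, hvc]⟩
    obtain ⟨e1, e2, e3⟩ := hswap i j hij hv
    rcases hcondi l v hl hvc with h | ⟨ε, rfl⟩
    · have hperp : ∀ m, polar Q v (A m) = 0 := fun m => by
        by_cases hm : l = m
        · rw [← hm]; exact h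
        · exact hM.orth l m hm v hl _ (hA m)
      exact ⟨l, by rw [e3 v (hperp i) (hperp j)]; exact hl⟩
    · rw [map_smul]
      by_cases hli : l = i
      · exact ⟨j, by rw [hli, e1]; exact (D j).smul_mem _ (hA j)⟩
      by_cases hlj : l = j
      · exact ⟨i, by rw [hlj, e2]; exact (D i).smul_mem _ (hA i)⟩
      exact ⟨l, by
        rw [e3 _ (hM.orth l i hli _ (hA l) _ (hA i)) (hM.orth l j hlj _ (hA l) _ (hA j))]
        exact hl⟩
  refine exists_between_set hQ (by omega) _ (levelSet Q D c) (fun g => levelSet_le)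
    (Quad.refl hv1 * Quad.refl hv2)
    (refl_mul_refl_mem hQ (by omega) hv1 hv2 (by rw [hq _ _ h01, hq _ _ h23]))
    (fun v hv => hsw _ _ h01 hv1 _ (hsw _ _ h23 hv2 v hv)) ?_ (levelSet_top hQ hM hn hk hc hx₀ hx₀c)
  intro hmem
  obtain ⟨π, hπ⟩ := Members.map_mem hmem
  have happ : ∀ z, ((oEquiv Q) ((oEquiv Q).symm (Quad.refl hv1 * Quad.refl hv2)) :
      (ι → F) ≃ₗ[F] (ι → F)) z = (Quad.refl hv1 : (ι → F) ≃ₗ[F] (ι → F))
        ((Quad.refl hv2 : (ι → F) ≃ₗ[F] (ι → F)) z) := fun z => by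
    rw [MulEquiv.apply_symm_apply]
    rfl
  have h02 : j0 ≠ j2 := by simp [j0, j2]
  have h03 : j0 ≠ j3 := by simp [j0, j3]
  obtain ⟨f1, -, f3⟩ := hswap _ _ h01 hv1
  obtain ⟨-, -, g3⟩ := hswap _ _ h23 hv2
  have h1 := hπ j0 (A j0) (hA j0)
  rw [happ, g3 _ (hM.orth _ _ h02 _ (hA _) _ (hA _)) (hM.orth _ _ h03 _ (hA _) _ (hA _)), f1] at h1
  obtain ⟨y, hy, hy0, hya⟩ : ∃ y ∈ D j0, y ≠ 0 ∧ polar Q y (A j0) = 0 := by
    by_contra! hcy
    let ψ : D j0 →ₗ[F] F := ((polarBilin Q) (A j0)).comp (D j0).subtype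
    have hψ : Function.Injective ψ := by
      rw [injective_iff_map_eq_zero]
      intro z hz
      by_contra hz0
      exact hcy z z.2 (fun e => hz0 (Subtype.ext e)) ((QuadraticMap.polar_comm _ _ _).trans hz)
    have h := LinearMap.finrank_le_finrank_of_injective hψ
    rw [hM.finrank, Module.finrank_self] at h
    omega
  have h3 := hπ j0 y hy
  rw [happ, g3 _ (hM.orth _ _ h02 _ hy _ (hA _)) (hM.orth _ _ h03 _ hy _ (hA _)),
    f3 y hya (hM.orth _ _ h01 _ hy _ (hA _))] at h3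
  obtain ⟨y', hy', hyy'⟩ := (hM.nondeg j0).exists_polar_one hy hy0
  have hπ0 : π j0 = j0 := hM.eq_of_polar h3 hy' (by rw [hyy']; exact one_ne_zero)
  rw [hπ0] at h1
  have hA0 : A j1 ≠ 0 := fun e => hqa (by rw [← hqA j1, e, QuadraticMap.map_zero])
  obtain ⟨z, hz, hz1⟩ := (hM.nondeg j1).exists_polar_one (hA j1) hA0
  exact h01 (hM.eq_of_polar h1 hz (by rw [hz1]; exact one_ne_zero))

end CfsgLib.Geo.OrthMax
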