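/-
Frames inside small nondegenerate quadratic spaces over the fields with at most five elements.
-/
import Cfsg.Agent.Lib.Geo.OrthDecompNotMaximal

set_option autoImplicit false

namespace CfsgLib.Geo.OrthMax

open CfsgLib.Classical CfsgLib.Classical.Quad
open QuadraticMap (polar polarBilin)

variable {F : Type*} [Field F] [Finite F] {ι : Type} [Fintype ι] [DecidableEq ι]
  {Q : QuadraticForm F (ι → F)} {t k : ℕ} {D : Fin t → Submodule F (ι → F)}

omit [Finite F] in
theorem exists_orth_basis (h2 : (2 : F) ≠ 0) {W : Submodule F (ι → F)} (hW : Nondeg Q W) {k : ℕ}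
    (hk : Module.finrank F W = k) :
    ∃ e : Module.Basis (Fin k) F W, (∀ i j, i ≠ j → polar Q (e i : ι → F) (e j) = 0) ∧
      ∀ i, Q (e i : ι → F) ≠ 0 := by
  subst hk
  have : Invertible (2 : F) := invertibleOfNonzero h2
  obtain ⟨v, hv⟩ := LinearMap.BilinForm.exists_orthogonal_basis
    (B := polarBilin (Q.comp W.subtype))
    (LinearMap.BilinForm.isSymm_iff.1 ⟨fun x y => QuadraticMap.polar_comm _ x y⟩)
  have hne := LinearMap.IsOrthoᵢ.not_isOrtho_basis_self_of_separatingLeft hv hW.comp.1
  refine ⟨v, fun i j hij => ?_, fun i h => hne i ?_⟩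
  · rw [← polar_comp]
    exact hv hij
  · show polar (Q.comp W.subtype) (v i) (v i) = 0
    rw [polar_comp, polar_self', h, mul_zero]

omit [Finite F] in
theorem apply_three {p e₁ e₂ e₃ : ι → F} (h12 : polar Q e₁ e₂ = 0) (h13 : polar Q e₁ e₃ = 0)
    (h23 : polar Q e₂ e₃ = 0) {a b c : F} (hp : p = a • e₁ + b • e₂ + c • e₃) :
    Q p = a * a * Q e₁ + b * b * Q e₂ + c * c * Q e₃ := by
  rw [hp, apply_add, apply_add, apply_smul, apply_smul, apply_smul, polar_add_left', polar_smul_left',
    polar_smul_left', polar_smul_left', polar_smul_right', polar_smul_right', polar_smul_right',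
    h12, h13, h23]
  ring

/-- Over the field with three elements: dimensions two and three. -/
theorem exists_frame_three (h2 : (2 : F) ≠ 0) (hq : ∀ a : F, a ≠ 0 → a * a = 1)
    (h3 : (3 : F) = 0) {W : Submodule F (ι → F)} (hW : Nondeg Q W)
    (hk : Module.finrank F W = 2 ∨ Module.finrank F W = 3) :
    ∃ a x₀ : ι → F, ∃ c : F, a ∈ W ∧ Q a ≠ 0 ∧ x₀ ∈ W ∧ c ≠ 0 ∧ Q x₀ = c ∧
      ∀ x ∈ W, Q x = c → polar Q x a = 0 ∨ ∃ ε : F, x = ε • a := by
  have hpm : ∀ a : F, a ≠ 0 → a = 1 ∨ a = -1 := fun a ha => mul_self_eq_one_iff.1 (hq a ha)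
  have hsq : ∀ a : F, a * a = 0 ∧ a = 0 ∨ a * a = 1 ∧ a ≠ 0 := fun a => by
    by_cases h : a = 0
    · exact Or.inl ⟨by rw [h, mul_zero], h⟩
    · exact Or.inr ⟨hq a h, h⟩
  rcases hk with hk | hk
  · obtain ⟨e, he, hne⟩ := exists_orth_basis h2 hW hk
    have key : ∀ x ∈ W, ∃ α β : F, x = α • (e 0 : ι → F) + β • (e 1 : ι → F) ∧
        Q x = α * α * Q (e 0 : ι → F) + β * β * Q (e 1 : ι → F) := by
      intro x hx
      have h : x = e.repr ⟨x, hx⟩ 0 • (e 0 : ι → F) + e.repr ⟨x, hx⟩ 1 • (e 1 : ι → F) := by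
        have := congrArg Subtype.val (e.sum_repr ⟨x, hx⟩)
        rw [Submodule.coe_sum, Fin.sum_univ_two] at this
        exact this.symm
      refine ⟨_, _, h, ?_⟩
      conv_lhs => rw [h]
      rw [apply_add, apply_smul, apply_smul, polar_smul_left', polar_smul_right',
        he 0 1 (by decide)]
      ring
    by_cases hd : Q (e 0 : ι → F) = Q (e 1 : ι → F)
    · refine ⟨e 0, e 0, _, (e 0).2, hne 0, (e 0).2, hne 0, rfl, fun x hx hxc => ?_⟩
      obtain ⟨α, β, hx', hqx⟩ := key x hx
      rw [hxc, ← hd] at hqx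
      have h1 : α * α + β * β = 1 := mul_right_cancel₀ (hne 0) (by linear_combination -hqx)
      rcases hsq α with ⟨-, rfl⟩ | ⟨ha, -⟩
      · left
        rw [hx', zero_smul, zero_add, polar_smul_left', he 1 0 (by decide), mul_zero]
      · rcases hsq β with ⟨-, rfl⟩ | ⟨hb, -⟩
        · exact Or.inr ⟨α, by rw [hx', zero_smul, add_zero]⟩
        · rw [ha, hb] at h1
          exact absurd (add_eq_left.1 h1) one_ne_zero
    · refine ⟨e 1, e 0, _, (e 1).2, hne 1, (e 0).2, hne 0, rfl, fun x hx hxc => ?_⟩
      obtain ⟨α, β, hx', hqx⟩ := key x hx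
      have hd' : Q (e 1 : ι → F) = -Q (e 0 : ι → F) := by
        rcases hpm _ (hne 0) with h | h <;> rcases hpm _ (hne 1) with h' | h' <;>
          rw [h, h'] at hd ⊢ <;> first | exact absurd rfl hd | simp
      rw [hxc, hd'] at hqx
      have h1 : α * α - β * β = 1 := mul_right_cancel₀ (hne 0) (by linear_combination -hqx)
      left
      rcases hsq β with ⟨-, rfl⟩ | ⟨hb, -⟩
      · rw [hx', zero_smul, add_zero, polar_smul_left', he 0 1 (by decide), mul_zero]
      · exfalso
        rw [hb] at h1
        rcases hsq α with ⟨ha, -⟩ | ⟨ha, -⟩ <;> rw [ha] at h1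
        · exact h2 (by linear_combination -h1)
        · exact one_ne_zero (α := F) (by linear_combination -h1)
  · obtain ⟨e, he, hne⟩ := exists_orth_basis h2 hW hk
    obtain ⟨i, j, l, hij, hil, hjl, heq⟩ : ∃ i j l : Fin 3, i ≠ j ∧ i ≠ l ∧ j ≠ l ∧
        Q (e i : ι → F) = Q (e j : ι → F) := by
      by_cases h01 : Q (e 0 : ι → F) = Q (e 1 : ι → F)
      · exact ⟨0, 1, 2, by decide, by decide, by decide, h01⟩
      by_cases h02 : Q (e 0 : ι → F) = Q (e 2 : ι → F)
      · exact ⟨0, 2, 1, by decide, by decide, by decide, h02⟩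
      refine ⟨1, 2, 0, by decide, by decide, by decide, ?_⟩
      rcases hpm _ (hne 0) with h | h <;> rcases hpm _ (hne 1) with h' | h' <;>
        rcases hpm _ (hne 2) with h'' | h'' <;> rw [h, h'] at h01 <;> rw [h, h''] at h02 <;>
        rw [h', h''] <;> first | rfl | exact absurd rfl h01 | exact absurd rfl h02
    refine ⟨e l, e l, _, (e l).2, hne l, (e l).2, hne l, rfl, fun x hx hxc => ?_⟩
    set a := e.repr ⟨x, hx⟩
    have hs : x = a i • (e i : ι → F) + a j • (e j : ι → F) + a l • (e l : ι → F) := by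
      have h := congrArg Subtype.val (e.sum_repr ⟨x, hx⟩)
      rw [Submodule.coe_sum] at h
      refine h.symm.trans ?_
      rw [show (Finset.univ : Finset (Fin 3)) = {i, j, l} from by
        symm
        apply Finset.eq_univ_of_card
        rw [Finset.card_insert_of_notMem (by simp [hij, hil]),
          Finset.card_insert_of_notMem (by simp [hjl]), Finset.card_singleton, Fintype.card_fin],
        Finset.sum_insert (by simp [hij, hil]), Finset.sum_insert (by simp [hjl]),
        Finset.sum_singleton, ← add_assoc]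
      rfl
    have hqx := apply_three (he i j hij) (he i l hil) (he j l hjl) hs
    rw [hxc, ← heq] at hqx
    rcases hsq (a l) with ⟨-, hl⟩ | ⟨hl, -⟩
    · left
      rw [hs, hl, zero_smul, add_zero, polar_add_left', polar_smul_left', polar_smul_left',
        he i l hil, he j l hjl, mul_zero, mul_zero, add_zero]
    · right
      rw [hl] at hqx
      have h1 : a i * a i + a j * a j = 0 := mul_right_cancel₀ (hne i) (by linear_combination -hqx)
      rcases hsq (a i) with ⟨-, hi⟩ | ⟨hi, -⟩ <;> rcases hsq (a j) with ⟨-, hj⟩ | ⟨hj, -⟩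
      · exact ⟨a l, by conv_lhs => rw [hs, hi, hj, zero_smul, zero_smul, zero_add, zero_add]⟩
      · rw [hi, hj, mul_zero, zero_add] at h1
        exact absurd h1 one_ne_zero
      · rw [hi, hj, mul_zero, add_zero] at h1
        exact absurd h1 one_ne_zero
      · rw [hi, hj] at h1
        exact absurd (by linear_combination h1) h2

omit [Finite F] in
/-- Plus planes over the field with five elements. -/
theorem exists_frame_five (h2 : (2 : F) ≠ 0) (hq : ∀ a : F, a ≠ 0 → a ^ 4 = 1)
    {W : Submodule F (ι → F)} {u f : ι → F} (hu : u ∈ W) (hf : f ∈ W) (hqu : Q u = 0)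
    (hqf : Q f = 0) (huf : polar Q u f = 1) (hspan : W ≤ Submodule.span F {u, f}) :
    ∃ a x₀ : ι → F, ∃ c : F, a ∈ W ∧ Q a ≠ 0 ∧ x₀ ∈ W ∧ c ≠ 0 ∧ Q x₀ = c ∧
      ∀ x ∈ W, Q x = c → polar Q x a = 0 ∨ ∃ ε : F, x = ε • a := by
  have hfu : polar Q f u = 1 := by rw [QuadraticMap.polar_comm, huf]
  have hqa : Q (u + f) = 1 := by rw [apply_add, hqu, hqf, huf]; ring
  refine ⟨u + f, u + f, 1, W.add_mem hu hf, by rw [hqa]; exact one_ne_zero, W.add_mem hu hf,
    one_ne_zero, hqa, fun x hx hxc => ?_⟩
  obtain ⟨s, r, rfl⟩ := Submodule.mem_span_pair.1 (hspan hx)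
  have hsr : s * r = 1 := by
    rw [apply_add, apply_smul, apply_smul, hqu, hqf, polar_smul_left', polar_smul_right', huf] at hxc
    linear_combination hxc
  have h4 := hq s (left_ne_zero_of_mul (by rw [hsr]; exact one_ne_zero))
  rcases mul_self_eq_one_iff.1 (show (s * s) * (s * s) = 1 by linear_combination h4) with h | h
  · refine Or.inr ⟨s, ?_⟩
    have : r = s := by linear_combination s * hsr - r * h
    rw [this, smul_add]
  · left
    have : r = -s := by linear_combination -s * hsr + r * h
    rw [this]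
    simp only [polar_add_left', polar_smul_left', polar_add_right', polar_self', hqu, hqf, huf, hfu]
    ring

/-- Plus planes in characteristic two: a product of two reflections in sums of level vectors. -/
theorem exists_between_planes_two (hQ : (polarBilin Q).Nondegenerate) (h2 : (2 : F) = 0)
    (hq : ∀ a : F, a ≠ 0 → a * a * a = 1) (hn : 13 ≤ Fintype.card ι) (hM : Members Q 2 D)
    (hplus : ∀ i, ∃ u ∈ D i, u ≠ 0 ∧ Q u = 0) :
    ∃ K : Subgroup (Matrix.GeneralLinearGroup ι F),
      Cfsg.Geo.decompositionStabilizer D ⊓ Cfsg.Geo.omegaGL (⇑Q) < K ∧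
        K < Cfsg.Geo.omegaGL (⇑Q) := by
  have hn' : Module.finrank F (ι → F) = Fintype.card ι := Module.finrank_pi F
  have ht := hM.four_le hn (by omega)
  have := charP_two_of_eq_zero h2
  have hpair : ∀ i, ∃ u f : ι → F, u ∈ D i ∧ f ∈ D i ∧ Q u = 0 ∧ Q f = 0 ∧ polar Q u f = 1 ∧
      D i ≤ Submodule.span F {u, f} := by
    intro i
    obtain ⟨u, hu, hu0, hqu⟩ := hplus i
    obtain ⟨f, hf, hqf, huf⟩ := (hM.nondeg i).exists_pair hu hqu hu0
    refine ⟨u, f, hu, hf, hqu, hqf, huf, le_of_eq (Submodule.eq_of_le_of_finrank_le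
      (Submodule.span_le.2 (by simp [Set.insert_subset_iff, hu, hf])) ?_).symm⟩
    have h := finrank_span_eq_card (linearIndependent_of_polar hQ hqu (by rw [huf]; exact one_ne_zero))
    rw [Matrix.range_cons, Matrix.range_cons, Matrix.range_empty, Set.union_empty,
      Set.singleton_union, Fintype.card_fin] at h
    rw [h, hM.finrank]
  choose u f hu hf hqu hqf huf hspan using hpair
  let A : Fin t → ι → F := fun i => u i + f i
  have hA : ∀ i, A i ∈ D i := fun i => (D i).add_mem (hu i) (hf i)
  have hqA : ∀ i, Q (A i) = 1 := fun i => by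
    show Q (u i + f i) = 1
    rw [apply_add, hqu, hqf, huf]; ring
  have hAA : ∀ i j, polar Q (A i) (A j) = 0 := fun i j => by
    by_cases h : i = j
    · rw [h, polar_self', h2, zero_mul]
    · exact hM.orth i j h _ (hA i) _ (hA j)
  -- idempotent values of the polar form on the level set
  have hidem : ∀ i, ∀ x ∈ D i, Q x = 1 → ∀ j, IsIdempotentElem (polar Q x (A j)) := by
    intro i x hx hxc j
    by_cases hij : i = j
    · subst hij
      obtain ⟨s, r, rfl⟩ := Submodule.mem_span_pair.1 (hspan i hx)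
      have hsr : s * r = 1 := by
        rw [apply_add, apply_smul, apply_smul, hqu, hqf, polar_smul_left', polar_smul_right', huf] at hxc
        linear_combination hxc
      have hs := hq s (left_ne_zero_of_mul (by rw [hsr]; exact one_ne_zero))
      have hr := hq r (right_ne_zero_of_mul (by rw [hsr]; exact one_ne_zero))
      have e : polar Q (s • u i + r • f i) (A i) = s + r := by
        show polar Q (s • u i + r • f i) (u i + f i) = s + r
        simp only [polar_add_left', polar_smul_left', polar_add_right', polar_self', hqu, hqf, huf,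
          QuadraticMap.polar_comm (⇑Q) (f i) (u i)]
        ring
      rw [e, IsIdempotentElem]
      linear_combination r * hs - s * s * hsr + s * hr - r * r * hsr + s * r * h2
    · rw [hM.orth i j hij _ hx _ (hA j)]
      exact IsIdempotentElem.zero
  let X : Set (ι → F) := {v | Q v = 1 ∧ ∀ i, ∀ x ∈ D i, Q x = 1 → IsIdempotentElem (polar Q v x)}
  have hidem_add : ∀ a b : F, IsIdempotentElem a → IsIdempotentElem b → IsIdempotentElem (a + b) := by
    intro a b ha hb
    rw [IsIdempotentElem] at ha hb ⊢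
    linear_combination ha + hb + a * b * h2
  have hidem_neg : ∀ a : F, IsIdempotentElem a → IsIdempotentElem (-a) := by
    intro a ha
    rw [show -a = a by linear_combination -a * h2]
    exact ha
  let j0 : Fin t := ⟨0, by omega⟩
  let j1 : Fin t := ⟨1, by omega⟩
  let j2 : Fin t := ⟨2, by omega⟩
  have h01 : j0 ≠ j1 := by simp [j0, j1]
  have h02 : j0 ≠ j2 := by simp [j0, j2]
  have h12 : j1 ≠ j2 := by simp [j1, j2]
  set r := A j0 + A j1 + A j2 with hr
  have hqr : Q r = 1 := by
    rw [hr, apply_add, apply_add, polar_add_left' (A j0) (A j1) (A j2), hqA, hqA, hqA, hAA, hAA, hAA]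
    linear_combination h2
  have hv0 : Q (A j0) ≠ 0 := by rw [hqA]; exact one_ne_zero
  have hvr : Q r ≠ 0 := by rw [hqr]; exact one_ne_zero
  have hrx : ∀ i, ∀ x ∈ D i, Q x = 1 → IsIdempotentElem (polar Q x r) := by
    intro i x hx hxc
    rw [hr, polar_add_right', polar_add_right']
    exact hidem_add _ _ (hidem_add _ _ (hidem i x hx hxc j0) (hidem i x hx hxc j1)) (hidem i x hx hxc j2)
  have hrv : ∀ v ∈ X, ∀ w : ι → F, ∀ hw : Q w ≠ 0, Q w = 1 →
      (∀ i, ∀ x ∈ D i, Q x = 1 → IsIdempotentElem (polar Q x w)) →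
      IsIdempotentElem (polar Q v w) → (Quad.refl hw : (ι → F) ≃ₗ[F] (ι → F)) v ∈ X := by
    intro v hv w hw hw1 hwx hvw
    refine ⟨by rw [OQ.map_apply, hv.1], fun i x hx hxc => ?_⟩
    rw [refl_apply, hw1, inv_one, one_mul, QuadraticMap.polar_sub_left, polar_smul_left',
      sub_eq_add_neg]
    refine hidem_add _ _ (hv.2 i x hx hxc) (hidem_neg _ (hvw.mul ?_))
    rw [QuadraticMap.polar_comm]
    exact hwx i x hx hxc
  have hstab : ∀ v ∈ X, ((Quad.refl hv0 * Quad.refl hvr : OQ Q) : (ι → F) ≃ₗ[F] (ι → F)) v ∈ X := by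
    intro v hv
    have h1 : (Quad.refl hvr : (ι → F) ≃ₗ[F] (ι → F)) v ∈ X := hrv v hv r hvr hqr hrx (by
      rw [hr, polar_add_right', polar_add_right']
      exact hidem_add _ _ (hidem_add _ _ (hv.2 j0 _ (hA j0) (hqA j0)) (hv.2 j1 _ (hA j1) (hqA j1)))
        (hv.2 j2 _ (hA j2) (hqA j2)))
    exact hrv _ h1 _ hv0 (hqA j0) (fun i x hx hxc => hidem i x hx hxc j0) (h1.2 j0 _ (hA j0) (hqA j0))
  have hmove : ∀ y ∈ D j0, polar Q y (A j0) = 1 →
      ((Quad.refl hv0 * Quad.refl hvr : OQ Q) : (ι → F) ≃ₗ[F] (ι → F)) y = y - A j1 - A j2 := by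
    intro y hy hya
    show (Quad.refl hv0 : (ι → F) ≃ₗ[F] (ι → F)) ((Quad.refl hvr : (ι → F) ≃ₗ[F] (ι → F)) y) = _
    have e : polar Q y r = 1 := by
      rw [hr, polar_add_right', polar_add_right', hya, hM.orth _ _ h01 y hy _ (hA j1),
        hM.orth _ _ h02 y hy _ (hA j2), add_zero, add_zero]
    rw [refl_apply hvr, hqr, inv_one, e, one_mul, one_smul, refl_apply, hqA, inv_one,
      QuadraticMap.polar_sub_left, hya, hr, polar_add_left', polar_add_left', hAA, hAA, hAA]
    match_scalars <;> first | ring1 | linear_combination -h2 | linear_combination h2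
  let w : ι → F := u j0
  have hw : w ∈ D j0 := hu j0
  have hwA : polar Q w (A j0) = 1 := by
    show polar Q (u j0) (u j0 + f j0) = 1
    rw [polar_add_right', polar_self', hqu, huf, mul_zero, zero_add]
  -- every vector of the level set is in the set `X`
  have hself : ∀ i, ∀ x ∈ D i, Q x = 1 → ∀ j, ∀ x' ∈ D j, Q x' = 1 →
      IsIdempotentElem (polar Q x x') := by
    intro i x hx hxc j x' hx' hxc'
    by_cases hij : i = j
    · subst hij
      obtain ⟨s, p, rfl⟩ := Submodule.mem_span_pair.1 (hspan i hx)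
      obtain ⟨s', p', rfl⟩ := Submodule.mem_span_pair.1 (hspan i hx')
      have h1 : s * p = 1 := by
        rw [apply_add, apply_smul, apply_smul, hqu, hqf, polar_smul_left', polar_smul_right', huf] at hxc
        linear_combination hxc
      have h1' : s' * p' = 1 := by
        rw [apply_add, apply_smul, apply_smul, hqu, hqf, polar_smul_left', polar_smul_right', huf] at hxc'
        linear_combination hxc'
      have e : polar Q (s • u i + p • f i) (s' • u i + p' • f i) = s * p' + p * s' := by
        simp only [polar_add_left', polar_smul_left', polar_add_right', polar_smul_right', polar_self',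
          hqu, hqf, huf, QuadraticMap.polar_comm (⇑Q) (f i) (u i)]
        ring
      have hprod : (s * p') * (p * s') = 1 := by linear_combination s' * p' * h1 + h1'
      have ha := hq _ (left_ne_zero_of_mul (a := s * p') (b := p * s') (by rw [hprod]; exact one_ne_zero))
      have hb := hq _ (right_ne_zero_of_mul (a := s * p') (b := p * s') (by rw [hprod]; exact one_ne_zero))
      rw [e, IsIdempotentElem]
      linear_combination (p * s') * ha - (s * p') * (s * p') * hprod + (s * p') * hb -
        (p * s') * (p * s') * hprod + (s * p') * (p * s') * h2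
    · rw [hM.orth i j hij _ hx _ hx']
      exact IsIdempotentElem.zero
  by_cases hcard : ∀ a : F, a = 0 ∨ a = 1
  · -- the field with two elements: the level set itself
    have hlev : ∀ v ∈ levelSet Q D 1, ∃ i, v = A i := by
      rintro v ⟨⟨i, hi⟩, hv⟩
      obtain ⟨s, p, rfl⟩ := Submodule.mem_span_pair.1 (hspan i hi)
      rw [apply_add, apply_smul, apply_smul, hqu, hqf, polar_smul_left', polar_smul_right', huf] at hv
      refine ⟨i, ?_⟩
      rcases hcard s with rfl | rfl
      · simp at hv
      rcases hcard p with rfl | rfl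
      · simp at hv
      show (1 : F) • u i + (1 : F) • f i = u i + f i
      rw [one_smul, one_smul]
    refine exists_between_set hQ (by omega) _ (levelSet Q D 1) (fun g => levelSet_le)
      (Quad.refl hv0 * Quad.refl hvr) (refl_mul_refl_mem hQ (by omega) hv0 hvr (by rw [hqA, hqr]))
      (fun v hv => ?_) ?_ (levelSet_top hQ hM hn (by omega) one_ne_zero (hA j0) (hqA j0))
    · obtain ⟨i, rfl⟩ := hlev v hv
      show (Quad.refl hv0 : (ι → F) ≃ₗ[F] (ι → F)) ((Quad.refl hvr : (ι → F) ≃ₗ[F] (ι → F)) (A i)) ∈ _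
      have e : polar Q (A i) r = 0 := by
        rw [hr, polar_add_right', polar_add_right', hAA, hAA, hAA, add_zero, add_zero]
      rw [refl_apply hvr, e, mul_zero, zero_smul, sub_zero, refl_apply hv0, hAA, mul_zero, zero_smul,
        sub_zero]
      exact ⟨⟨i, hA i⟩, hqA i⟩
    · intro hmem
      obtain ⟨π, hπ⟩ := Members.map_mem hmem
      have h := hπ j0 w hw
      rw [MulEquiv.apply_symm_apply, hmove w hw hwA] at h
      obtain ⟨y, hy, hy1⟩ := (hM.nondeg j1).exists_polar_one (hA j1) (fun e => by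
        have := hqA j1
        rw [e, QuadraticMap.map_zero] at this
        exact zero_ne_one this)
      have h1 : π j0 = j0 := hM.eq_of_polar h (hA j0) (by
        rw [QuadraticMap.polar_sub_left, QuadraticMap.polar_sub_left, hwA, hAA, hAA, sub_zero,
          sub_zero]
        exact one_ne_zero)
      have h1' : π j0 = j1 := hM.eq_of_polar h hy (by
        rw [QuadraticMap.polar_sub_left, QuadraticMap.polar_sub_left, hM.orth _ _ h01 _ hw _ hy, hy1,
          hM.orth _ _ (Ne.symm h12) _ (hA j2) _ hy, zero_sub, sub_zero]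
        exact neg_ne_zero.2 one_ne_zero)
      exact h01 (h1.symm.trans h1')
  · push Not at hcard
    obtain ⟨ω, hω0, hω1⟩ := hcard
    refine exists_between_set hQ (by omega) _ X (fun g hg => ?_)
      (Quad.refl hv0 * Quad.refl hvr) (refl_mul_refl_mem hQ (by omega) hv0 hvr (by rw [hqA, hqr]))
      hstab ?_ ?_
    · obtain ⟨π, hπ⟩ := Members.map_mem (g := g⁻¹) (show ((g⁻¹ : Cfsg.isometryGroup F (⇑Q)) : Matrix.GeneralLinearGroup ι F) ∈ _ from
        (Cfsg.Geo.decompositionStabilizer D).inv_mem hg)
      intro v hv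
      refine ⟨by rw [OQ.map_apply, hv.1], fun i x hx hxc => ?_⟩
      have hx' := hπ i x hx
      have hgx : (oEquiv Q g : (ι → F) ≃ₗ[F] (ι → F))
          ((oEquiv Q g⁻¹ : (ι → F) ≃ₗ[F] (ι → F)) x) = x := by
        rw [map_inv]
        exact (oEquiv Q g : (ι → F) ≃ₗ[F] (ι → F)).apply_symm_apply x
      rw [← hgx, OQ.map_polar]
      exact hv.2 _ _ hx' (by rw [OQ.map_apply, hxc])
    · intro hmem
      obtain ⟨π, hπ⟩ := Members.map_mem hmem
      have h := hπ j0 w hw
      rw [MulEquiv.apply_symm_apply, hmove w hw hwA] at h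
      have h1 : π j0 = j0 := hM.eq_of_polar h (hA j0) (by
        rw [QuadraticMap.polar_sub_left, QuadraticMap.polar_sub_left, hwA, hAA, hAA, sub_zero,
          sub_zero]
        exact one_ne_zero)
      have h1' : π j0 = j1 := hM.eq_of_polar h (hu j1) (by
        rw [QuadraticMap.polar_sub_left, QuadraticMap.polar_sub_left, hM.orth _ _ h01 _ hw _ (hu j1),
          hM.orth _ _ (Ne.symm h12) _ (hA j2) _ (hu j1), zero_sub, sub_zero,
          show polar Q (A j1) (u j1) = 1 by
            show polar Q (u j1 + f j1) (u j1) = 1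
            rw [polar_add_left', polar_self', hqu, QuadraticMap.polar_comm, huf, mul_zero, zero_add]]
        exact neg_ne_zero.2 one_ne_zero)
      exact h01 (h1.symm.trans h1')
    · refine ⟨A j0, ⟨hqA j0, fun i x hx hxc => ?_⟩, A j0 + ω • u j1, fun hy => ?_,
        by rw [hqA]; exact one_ne_zero, ?_⟩
      · rw [QuadraticMap.polar_comm]
        exact hidem i x hx hxc j0
      · have h := hy.2 j1 (A j1) (hA j1) (hqA j1)
        rw [polar_add_left', hAA, polar_smul_left', show polar Q (u j1) (A j1) = 1 by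
          show polar Q (u j1) (u j1 + f j1) = 1
          rw [polar_add_right', polar_self', hqu, huf, mul_zero, zero_add], mul_one, zero_add,
          IsIdempotentElem.iff_eq_zero_or_one] at h
        rcases h with h | h
        · exact hω0 h
        · exact hω1 h
      · rw [apply_add, apply_smul, hqu, polar_smul_right', hM.orth _ _ h01 _ (hA j0) _ (hu j1)]
        ring

/-- Plus spaces of dimension four over the field with two elements. -/
theorem exists_between_four (hQ : (polarBilin Q).Nondegenerate) (hF : ∀ a : F, a = 0 ∨ a = 1)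
    (h2 : (2 : F) = 0) (hn : 13 ≤ Fintype.card ι) (hM : Members Q 4 D)
    (hplus : ∀ i, ∃ U : Submodule F (ι → F), U ≤ D i ∧ (∀ u ∈ U, Q u = 0) ∧ Module.finrank F U = 2) :
    ∃ K : Subgroup (Matrix.GeneralLinearGroup ι F),
      Cfsg.Geo.decompositionStabilizer D ⊓ Cfsg.Geo.omegaGL (⇑Q) < K ∧
        K < Cfsg.Geo.omegaGL (⇑Q) := by
  have hn' : Module.finrank F (ι → F) = Fintype.card ι := Module.finrank_pi F
  have ht := hM.four_le hn le_rfl
  have hpairs : ∀ i, ∃ u f u' f' : ι → F, u ∈ D i ∧ f ∈ D i ∧ u' ∈ D i ∧ f' ∈ D i ∧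
      Q u = 0 ∧ Q f = 0 ∧ Q u' = 0 ∧ Q f' = 0 ∧ polar Q u f = 1 ∧ polar Q u' f' = 1 ∧
      polar Q u u' = 0 ∧ polar Q u f' = 0 ∧ polar Q f u' = 0 ∧ polar Q f f' = 0 := by
    intro i
    obtain ⟨U, hUD, hU, hU2⟩ := hplus i
    obtain ⟨u, hu, hu0⟩ := Submodule.exists_mem_ne_zero_of_ne_bot (show U ≠ ⊥ from fun e => by
      rw [e, finrank_bot] at hU2; omega)
    obtain ⟨f, hf, hqf, huf⟩ := (hM.nondeg i).exists_pair (hUD hu) (hU u hu) hu0
    obtain ⟨w, hw, hwu⟩ : ∃ w ∈ U, w ∉ Submodule.span F {u} := by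
      by_contra! hc
      have h := Submodule.finrank_mono (show U ≤ Submodule.span F {u} from hc)
      rw [finrank_span_singleton hu0] at h
      omega
    set u' := w + (-polar Q w f) • u with hu'
    have hu'U : u' ∈ U := U.add_mem hw (U.smul_mem _ hu)
    have hu'f : polar Q u' f = 0 := by rw [hu', polar_add_left', polar_smul_left', huf]; ring
    have hu'0 : u' ∉ Submodule.span F {u, f} := fun h => by
      obtain ⟨a, b, hab⟩ := Submodule.mem_span_pair.1 h
      have h1 := congrArg (fun z => polar Q u z) hab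
      simp only [polar_add_right', polar_smul_right', polar_self', hU u hu, huf,
        polar_eq_zero_of_singular hU hu hu'U, mul_zero, mul_one, zero_add] at h1
      refine hwu (Submodule.mem_span_singleton.2 ⟨a + polar Q w f, ?_⟩)
      rw [h1, zero_smul, add_zero, hu'] at hab
      rw [add_smul, hab, neg_smul, add_assoc, neg_add_cancel, add_zero]
    obtain ⟨y, hy, hu'y, hy'⟩ := (hM.nondeg i).exists_sep (P := Submodule.span F {u, f})
      (Submodule.span_le.2 (by simp [Set.insert_subset_iff, hUD hu, hf])) (hUD hu'U) hu'0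
    refine ⟨u, f, u', y + (-Q y) • u', hUD hu, hf, hUD hu'U,
      (D i).add_mem hy ((D i).smul_mem _ (hUD hu'U)), hU u hu, hqf, hU _ hu'U, ?_, huf, ?_,
      polar_eq_zero_of_singular hU hu hu'U, ?_, by rw [QuadraticMap.polar_comm, hu'f], ?_⟩
    · rw [apply_add, apply_smul, hU _ hu'U, polar_smul_right', QuadraticMap.polar_comm (⇑Q) y u', hu'y]
      ring
    · rw [polar_add_right', polar_smul_right', hu'y, polar_self', hU _ hu'U]; ring
    · rw [polar_add_right', polar_smul_right', hy' u (Submodule.subset_span (Set.mem_insert _ _)),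
        polar_eq_zero_of_singular hU hu hu'U]
      ring
    · rw [polar_add_right', polar_smul_right',
        hy' f (Submodule.subset_span (Set.mem_insert_of_mem _ rfl)),
        QuadraticMap.polar_comm (⇑Q) f u', hu'f]
      ring
  choose u f u' f' hu hf hu' hf' qu qf qu' qf' huf huf' huu huf2 hfu hff using hpairs
  obtain ⟨A, hAdef⟩ : ∃ A : Fin t → ι → F, ∀ i, A i = u i + f i := ⟨_, fun _ => rfl⟩
  obtain ⟨B, hBdef⟩ : ∃ B : Fin t → ι → F, ∀ i, B i = u i + u' i + f' i := ⟨_, fun _ => rfl⟩
  have hA : ∀ i, A i ∈ D i := fun i => hAdef i ▸ (D i).add_mem (hu i) (hf i)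
  have hB : ∀ i, B i ∈ D i := fun i =>
    hBdef i ▸ (D i).add_mem ((D i).add_mem (hu i) (hu' i)) (hf' i)
  have hAB : ∀ i, Q (A i) = 1 ∧ Q (B i) = 1 ∧ polar Q (A i) (B i) = 1 := fun i => by
    refine ⟨?_, ?_, ?_⟩
    · rw [hAdef]
      rw [apply_add, qu, qf, huf]; ring
    · rw [hBdef]
      rw [apply_add, apply_add, polar_add_left', qu, qu', qf', huu, huf2, huf']; ring
    · rw [hAdef, hBdef]
      simp only [polar_add_left', polar_add_right', polar_self', qu, huu, huf2, hfu, hff,
        QuadraticMap.polar_comm (⇑Q) (f i) (u i), huf]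
      ring
  let j0 : Fin t := ⟨0, by omega⟩
  let j1 : Fin t := ⟨1, by omega⟩
  have h01 : j0 ≠ j1 := by simp [j0, j1]
  have hcoord : ∀ i, ∀ x ∈ D i, ∃ a b a' b' : F, x = a • u i + b • f i + a' • u' i + b' • f' i := by
    intro i x hx
    refine ⟨polar Q x (f i), polar Q x (u i), polar Q x (f' i), polar Q x (u' i), ?_⟩
    set r := x - (polar Q x (f i) • u i + polar Q x (u i) • f i + polar Q x (f' i) • u' i +
      polar Q x (u' i) • f' i) with hr
    suffices r = 0 by rwa [hr, sub_eq_zero] at this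
    have hrD : r ∈ D i := (D i).sub_mem hx ((D i).add_mem ((D i).add_mem ((D i).add_mem
      ((D i).smul_mem _ (hu i)) ((D i).smul_mem _ (hf i))) ((D i).smul_mem _ (hu' i)))
      ((D i).smul_mem _ (hf' i)))
    let v : Fin 4 → ι → F := ![u i, f i, u' i, f' i]
    have hperp : ∀ j, polar Q r (v j) = 0 := by
      intro j
      fin_cases j <;>
      · simp only [v, hr, QuadraticMap.polar_sub_left, polar_add_left', polar_smul_left', Fin.zero_eta,
          Fin.mk_one, Fin.reduceFinMk, Matrix.cons_val, Matrix.cons_val_zero, Matrix.cons_val_one,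
          polar_self', qu, qf, qu', qf', huf, huf', huu, huf2, hfu, hff,
          QuadraticMap.polar_comm (⇑Q) (f i) (u i), QuadraticMap.polar_comm (⇑Q) (f' i) (u' i),
          QuadraticMap.polar_comm (⇑Q) (u' i) (u i), QuadraticMap.polar_comm (⇑Q) (f' i) (u i),
          QuadraticMap.polar_comm (⇑Q) (u' i) (f i), QuadraticMap.polar_comm (⇑Q) (f' i) (f i)]
        ring
    have hli : LinearIndependent F v := by
      rw [Fintype.linearIndependent_iff]
      intro g hg
      rw [Fin.sum_univ_four] at hg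
      have c : ∀ w, polar Q (g 0 • v 0 + g 1 • v 1 + g 2 • v 2 + g 3 • v 3) w = 0 := fun w => by
        rw [hg, QuadraticMap.polar_zero_left]
      have c0 := c (f i)
      have c1 := c (u i)
      have c2 := c (f' i)
      have c3 := c (u' i)
      simp [v, polar_add_left', polar_smul_left', polar_self', qu, qf, qu', qf', huf, huf', huu, huf2,
        hfu, hff, QuadraticMap.polar_comm (⇑Q) (f i) (u i), QuadraticMap.polar_comm (⇑Q) (f' i) (u' i),
        QuadraticMap.polar_comm (⇑Q) (u' i) (u i), QuadraticMap.polar_comm (⇑Q) (f' i) (u i),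
        QuadraticMap.polar_comm (⇑Q) (u' i) (f i), QuadraticMap.polar_comm (⇑Q) (f' i) (f i)] at c0 c1 c2 c3
      intro j
      fin_cases j <;> simp [c0, c1, c2, c3]
    have hspan : Submodule.span F (Set.range v) = D i := by
      refine Submodule.eq_of_le_of_finrank_le (Submodule.span_le.2 ?_) ?_
      · rintro _ ⟨j, rfl⟩
        fin_cases j <;> simp [v, hu, hf, hu', hf']
      · rw [finrank_span_eq_card hli, hM.finrank, Fintype.card_fin]
    refine hM.nondeg i r hrD fun y hy => ?_
    rw [← hspan, Submodule.mem_span_range_iff_exists_fun] at hy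
    obtain ⟨g, rfl⟩ := hy
    rw [← QuadraticMap.polarBilin_apply_apply, map_sum]
    exact Finset.sum_eq_zero fun j _ => by
      rw [map_smul, QuadraticMap.polarBilin_apply_apply, hperp, smul_zero]
  have hpolar : ∀ i, ∀ x ∈ D i, Q x = 1 →
      (polar Q x (A i) = 0 ∧ polar Q x (B i) = 0) ∨ x = A i ∨ x = B i ∨ x = A i + B i := by
    intro i x hx hxc
    obtain ⟨a, b, a', b', rfl⟩ := hcoord i x hx
    have e : a * b + a' * b' = 1 := by
      simp only [apply_add, apply_smul, polar_add_left', polar_smul_left', polar_smul_right', qu, qf,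
        qu', qf', huf, huf', huu, huf2, hfu, hff] at hxc
      linear_combination hxc
    have e1 : polar Q (a • u i + b • f i + a' • u' i + b' • f' i) (A i) = a + b := by
      rw [hAdef]
      simp only [polar_add_left', polar_add_right', polar_smul_left', polar_self', qu, qf, huf,
        QuadraticMap.polar_comm (⇑Q) (f i) (u i), QuadraticMap.polar_comm (⇑Q) (u' i) (u i),
        QuadraticMap.polar_comm (⇑Q) (f' i) (u i), QuadraticMap.polar_comm (⇑Q) (u' i) (f i),
        QuadraticMap.polar_comm (⇑Q) (f' i) (f i), huu, huf2, hfu, hff]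
      ring
    have e2 : polar Q (a • u i + b • f i + a' • u' i + b' • f' i) (B i) = b + a' + b' := by
      rw [hBdef]
      simp only [polar_add_left', polar_add_right', polar_smul_left', polar_self', qu, qu', qf', huf,
        huf', QuadraticMap.polar_comm (⇑Q) (f i) (u i), QuadraticMap.polar_comm (⇑Q) (u' i) (u i),
        QuadraticMap.polar_comm (⇑Q) (f' i) (u i), QuadraticMap.polar_comm (⇑Q) (f' i) (u' i),
        huu, huf2, hfu, hff]
      ring
    rcases hF a with ha | ha <;> rcases hF b with hb | hb <;> rcases hF a' with ha' | ha' <;>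
      rcases hF b' with hb' | hb' <;> subst ha hb ha' hb' <;> simp at e <;>
      first
        | (refine Or.inl ⟨?_, ?_⟩ <;> simp only [e1, e2] <;> first | ring1 | linear_combination h2)
        | (refine Or.inr (Or.inl ?_); rw [hAdef]; module)
        | (refine Or.inr (Or.inr (Or.inl ?_)); rw [hBdef]; module)
        | (refine Or.inr (Or.inr (Or.inr ?_))
           rw [hAdef, hBdef]
           match_scalars <;> first | ring1 | linear_combination -h2 | linear_combination h2)
        | exact absurd h2 (by linear_combination (norm := simp) e)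
        | exact absurd (show (1 : F) = 0 by linear_combination h2 - e) one_ne_zero
  set w := A j0 + A j1 with hw
  set v := B j0 + B j1 with hv
  have hqw : Q w = 0 := by
    rw [hw, apply_add, (hAB j0).1, (hAB j1).1, hM.orth _ _ h01 _ (hA _) _ (hA _)]
    linear_combination h2
  have hwv : polar Q w v = 0 := by
    rw [hw, hv, polar_add_left', polar_add_right', polar_add_right', (hAB j0).2.2, (hAB j1).2.2,
      hM.orth _ _ h01 _ (hA _) _ (hB _), hM.orth _ _ (Ne.symm h01) _ (hA _) _ (hB _)]
    linear_combination h2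
  have hqv : Q v = 0 := by
    rw [hv, apply_add, (hAB j0).2.1, (hAB j1).2.1, hM.orth _ _ h01 _ (hB _) _ (hB _)]
    linear_combination h2
  set g := eich hQ hqw hwv with hg
  have happ : ∀ z, (g : (ι → F) ≃ₗ[F] (ι → F)) z = z + polar Q z v • w + (-polar Q z w) • v := fun z => by
    rw [hg, eich_apply, hqv, zero_mul, sub_zero]
  have hAA : ∀ i, polar Q (A i) (A i) = 0 ∧ polar Q (B i) (B i) = 0 ∧ polar Q (B i) (A i) = 1 :=
    fun i => ⟨by rw [polar_self', h2, zero_mul], by rw [polar_self', h2, zero_mul],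
      by rw [QuadraticMap.polar_comm]; exact (hAB i).2.2⟩
  have gA0 : (g : (ι → F) ≃ₗ[F] (ι → F)) (A j0) = A j1 := by
    rw [happ, hw, hv, polar_add_right', polar_add_right', (hAB j0).2.2, (hAA j0).1,
      hM.orth _ _ h01 _ (hA _) _ (hB _), hM.orth _ _ h01 _ (hA _) _ (hA _)]
    match_scalars <;> first | ring1 | linear_combination -h2 | linear_combination h2
  have gA1 : (g : (ι → F) ≃ₗ[F] (ι → F)) (A j1) = A j0 := by
    rw [happ, hw, hv, polar_add_right', polar_add_right', (hAB j1).2.2, (hAA j1).1,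
      hM.orth _ _ (Ne.symm h01) _ (hA _) _ (hB _), hM.orth _ _ (Ne.symm h01) _ (hA _) _ (hA _)]
    match_scalars <;> first | ring1 | linear_combination -h2 | linear_combination h2
  have gB0 : (g : (ι → F) ≃ₗ[F] (ι → F)) (B j0) = B j1 := by
    rw [happ, hw, hv, polar_add_right', polar_add_right', (hAA j0).2.1, (hAA j0).2.2,
      hM.orth _ _ h01 _ (hB _) _ (hB _), hM.orth _ _ h01 _ (hB _) _ (hA _)]
    match_scalars <;> first | ring1 | linear_combination -h2 | linear_combination h2
  have gB1 : (g : (ι → F) ≃ₗ[F] (ι → F)) (B j1) = B j0 := by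
    rw [happ, hw, hv, polar_add_right', polar_add_right', (hAA j1).2.1, (hAA j1).2.2,
      hM.orth _ _ (Ne.symm h01) _ (hB _) _ (hB _), hM.orth _ _ (Ne.symm h01) _ (hB _) _ (hA _)]
    match_scalars <;> first | ring1 | linear_combination -h2 | linear_combination h2
  have gfix : ∀ z, polar Q z w = 0 → polar Q z v = 0 → (g : (ι → F) ≃ₗ[F] (ι → F)) z = z := fun z h h' => by
    rw [happ, h, h', neg_zero, zero_smul, zero_smul, add_zero, add_zero]
  refine exists_between_set hQ (by omega) _ (levelSet Q D 1) (fun g => levelSet_le) g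
    (eich_mem hQ (by omega) hqw hwv) (fun z hz => ?_) ?_
    (levelSet_top hQ hM hn le_rfl one_ne_zero (hA j0) (hAB j0).1)
  · obtain ⟨⟨i, hi⟩, hzc⟩ := hz
    refine ⟨?_, by rw [OQ.map_apply, hzc]⟩
    by_cases hi0 : i = j0
    · subst hi0
      rcases hpolar _ z hi hzc with ⟨hza, hzb⟩ | rfl | rfl | rfl
      · refine ⟨j0, ?_⟩
        rw [gfix z (by rw [hw, polar_add_right', hza, hM.orth _ _ h01 _ hi _ (hA _), add_zero])
          (by rw [hv, polar_add_right', hzb, hM.orth _ _ h01 _ hi _ (hB _), add_zero])]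
        exact hi
      · exact ⟨j1, by rw [gA0]; exact hA _⟩
      · exact ⟨j1, by rw [gB0]; exact hB _⟩
      · exact ⟨j1, by rw [map_add, gA0, gB0]; exact (D _).add_mem (hA _) (hB _)⟩
    by_cases hi1 : i = j1
    · subst hi1
      rcases hpolar _ z hi hzc with ⟨hza, hzb⟩ | rfl | rfl | rfl
      · refine ⟨j1, ?_⟩
        rw [gfix z (by rw [hw, polar_add_right', hza, hM.orth _ _ (Ne.symm h01) _ hi _ (hA _), zero_add])
          (by rw [hv, polar_add_right', hzb, hM.orth _ _ (Ne.symm h01) _ hi _ (hB _), zero_add])]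
        exact hi
      · exact ⟨j0, by rw [gA1]; exact hA _⟩
      · exact ⟨j0, by rw [gB1]; exact hB _⟩
      · exact ⟨j0, by rw [map_add, gA1, gB1]; exact (D _).add_mem (hA _) (hB _)⟩
    refine ⟨i, ?_⟩
    rw [gfix z (by rw [hw, polar_add_right', hM.orth _ _ hi0 _ hi _ (hA _),
        hM.orth _ _ hi1 _ hi _ (hA _), add_zero])
      (by rw [hv, polar_add_right', hM.orth _ _ hi0 _ hi _ (hB _),
        hM.orth _ _ hi1 _ hi _ (hB _), add_zero])]
    exact hi
  · intro hmem
    obtain ⟨π, hπ⟩ := Members.map_mem hmem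
    have h1 := hπ j0 _ (hA j0)
    rw [MulEquiv.apply_symm_apply, gA0] at h1
    set y := u j0 + f j0 + u' j0 with hy
    have hyD : y ∈ D j0 := (D _).add_mem ((D _).add_mem (hu _) (hf _)) (hu' _)
    have hyA : polar Q y (A j0) = 0 := by
      rw [hAdef]
      simp only [hy, polar_add_left', polar_add_right', polar_self', qu, qf, huf,
        QuadraticMap.polar_comm (⇑Q) (f j0) (u j0), QuadraticMap.polar_comm (⇑Q) (u' j0) (u j0),
        QuadraticMap.polar_comm (⇑Q) (u' j0) (f j0), huu, hfu]
      linear_combination h2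
    have hyB : polar Q y (B j0) = 0 := by
      rw [hBdef]
      simp only [hy, polar_add_left', polar_add_right', polar_self', qu, qu', huf, huf',
        QuadraticMap.polar_comm (⇑Q) (f j0) (u j0), QuadraticMap.polar_comm (⇑Q) (u' j0) (u j0),
        huu, huf2, hfu, hff]
      linear_combination h2
    have h3 := hπ j0 _ hyD
    rw [MulEquiv.apply_symm_apply, gfix y
      (by rw [hw, polar_add_right', hyA, hM.orth _ _ h01 _ hyD _ (hA _), add_zero])
      (by rw [hv, polar_add_right', hyB, hM.orth _ _ h01 _ hyD _ (hB _), add_zero])] at h3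
    have hy1 : polar Q y (f' j0) = 1 := by
      rw [hy, polar_add_left', polar_add_left', huf2, hff, huf', zero_add, zero_add]
    have h4 : π j0 = j0 := hM.eq_of_polar h3 (hf' j0) (by rw [hy1]; exact one_ne_zero)
    rw [h4] at h1
    exact h01 (hM.eq_of_polar h1 (hB j1) (by rw [(hAB j1).2.2]; exact one_ne_zero))

end CfsgLib.Geo.OrthMax
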