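/-
The cases of non-maximal decomposition stabilisers, in the form of the statements.
-/
import Cfsg.Agent.Lib.Geo.OrthDecompCases

set_option autoImplicit false

namespace CfsgLib.Geo.OrthMax

open CfsgLib.Classical CfsgLib.Classical.Quad
open QuadraticMap (polar polarBilin)

variable {F : Type*} [Field F] [Fintype F] {ι : Type} [Fintype ι] [DecidableEq ι]
  {Q : QuadraticForm F (ι → F)} {t k : ℕ} {D : Fin t → Submodule F (ι → F)}

omit [Fintype F] in
theorem exists_singular_of_plus {W : Submodule F (ι → F)} (hW : Cfsg.Geo.IsPlusTypeOn (⇑Q) W)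
    (h0 : 0 < Module.finrank F W) : ∃ u ∈ W, u ≠ 0 ∧ Q u = 0 := by
  obtain ⟨U, hUW, hU, hU2⟩ := hW
  obtain ⟨u, hu, hu0⟩ := Submodule.exists_mem_ne_zero_of_ne_bot (show U ≠ ⊥ from fun e => by
    rw [e, finrank_bot] at hU2
    omega)
  exact ⟨u, hUW hu, hu0, hU u hu⟩

theorem exists_between_three (hQ : (polarBilin Q).Nondegenerate) (hn : 13 ≤ Fintype.card ι)
    (hF : Fintype.card F = 3) (hk : k = 2 ∨ k = 3)
    (hD : Cfsg.Geo.IsOrthogonalMDecomposition (⇑Q) k D) :
    ∃ K : Subgroup (Matrix.GeneralLinearGroup ι F),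
      Cfsg.Geo.decompositionStabilizer D ⊓ Cfsg.Geo.omegaGL (⇑Q) < K ∧
        K < Cfsg.Geo.omegaGL (⇑Q) := by
  have hM := members_of hD
  have ht := hM.four_le hn (by omega)
  have h2 : (2 : F) ≠ 0 := two_ne_zero_of_odd hF (by decide)
  have hsq : ∀ a : F, a ≠ 0 → a * a = 1 := fun a ha => by
    have h := FiniteField.pow_card_sub_one_eq_one a ha
    rwa [hF, show 3 - 1 = 2 from rfl, sq] at h
  have h3 : (3 : F) = 0 := by
    have h := FiniteField.cast_card_eq_zero F
    rw [hF] at h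
    simpa using h
  obtain ⟨a, x₀, c, ha, hqa, hx₀, hc, hxc, hcond⟩ := exists_frame_three h2 hsq h3
    (hM.nondeg ⟨0, by omega⟩) (by rw [hM.finrank]; exact hk)
  exact exists_between_frame hQ h2 hn (by omega) (by omega) hM ha hqa hx₀ hc hxc hcond

theorem exists_between_five (hQ : (polarBilin Q).Nondegenerate) (hn : 13 ≤ Fintype.card ι)
    (hF : Fintype.card F = 5) (hD : Cfsg.Geo.IsOrthogonalMDecomposition (⇑Q) 2 D)
    (hp : ∀ i, Cfsg.Geo.IsPlusTypeOn (⇑Q) (D i)) :
    ∃ K : Subgroup (Matrix.GeneralLinearGroup ι F),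
      Cfsg.Geo.decompositionStabilizer D ⊓ Cfsg.Geo.omegaGL (⇑Q) < K ∧
        K < Cfsg.Geo.omegaGL (⇑Q) := by
  have hM := members_of hD
  have ht := hM.four_le hn (by omega)
  let i₀ : Fin t := ⟨0, by omega⟩
  have h2 : (2 : F) ≠ 0 := two_ne_zero_of_odd hF (by decide)
  have h4 : ∀ a : F, a ≠ 0 → a ^ 4 = 1 := fun a ha => by
    have h := FiniteField.pow_card_sub_one_eq_one a ha
    rwa [hF] at h
  obtain ⟨u, hu, hu0, hqu⟩ := exists_singular_of_plus (hp i₀) (by rw [hM.finrank]; omega)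
  obtain ⟨f, hf, hqf, huf⟩ := (hM.nondeg i₀).exists_pair hu hqu hu0
  have hspan : D i₀ ≤ Submodule.span F {u, f} := by
    refine le_of_eq (Submodule.eq_of_le_of_finrank_le
      (Submodule.span_le.2 (by simp [Set.insert_subset_iff, hu, hf])) ?_).symm
    have h := finrank_span_eq_card (linearIndependent_of_polar hQ hqu (by rw [huf]; exact one_ne_zero))
    rw [Matrix.range_cons, Matrix.range_cons, Matrix.range_empty, Set.union_empty,
      Set.singleton_union, Fintype.card_fin] at h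
    rw [h, hM.finrank]
  obtain ⟨a, x₀, c, ha, hqa, hx₀, hc, hxc, hcond⟩ :=
    exists_frame_five h2 h4 hu hf hqu hqf huf hspan
  exact exists_between_frame hQ h2 hn le_rfl (by omega) hM ha hqa hx₀ hc hxc hcond

theorem exists_between_even (hQ : (polarBilin Q).Nondegenerate) (hn : 13 ≤ Fintype.card ι)
    (hF : Fintype.card F = 2 ∧ (k = 2 ∨ k = 4) ∨ Fintype.card F = 4 ∧ k = 2)
    (hD : Cfsg.Geo.IsOrthogonalMDecomposition (⇑Q) k D)
    (hp : ∀ i, Cfsg.Geo.IsPlusTypeOn (⇑Q) (D i)) :
    ∃ K : Subgroup (Matrix.GeneralLinearGroup ι F),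
      Cfsg.Geo.decompositionStabilizer D ⊓ Cfsg.Geo.omegaGL (⇑Q) < K ∧
        K < Cfsg.Geo.omegaGL (⇑Q) := by
  have hM := members_of hD
  have h2 : (2 : F) = 0 := by
    by_contra h
    have := FiniteField.odd_card_of_char_ne_two (F := F) (fun hc => by
      have := ringChar.eq_iff.1 hc
      exact h CharTwo.two_eq_zero)
    omega
  by_cases hk : k = 2
  · subst hk
    refine exists_between_planes_two hQ h2 (fun a ha => ?_) hn hM fun i =>
      exists_singular_of_plus (hp i) (by rw [hM.finrank]; omega)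
    have h := FiniteField.pow_card_sub_one_eq_one a ha
    rcases hF with ⟨hc, -⟩ | ⟨hc, -⟩ <;> rw [hc] at h
    · rw [pow_one] at h
      rw [h, one_mul, one_mul]
    · linear_combination h
  · obtain ⟨hc, hk4⟩ : Fintype.card F = 2 ∧ k = 4 := by omega
    subst hk4
    refine exists_between_four hQ (fun a => ?_) h2 hn hM fun i => ?_
    · by_cases ha : a = 0
      · exact Or.inl ha
      · have h := FiniteField.pow_card_sub_one_eq_one a ha
        rw [hc, pow_one] at h
        exact Or.inr h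
    · obtain ⟨U, hUW, hU, hU2⟩ := hp i
      rw [hM.finrank] at hU2
      exact ⟨U, hUW, hU, by omega⟩

end CfsgLib.Geo.OrthMax
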