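/-
`O₃(3) ⊗ O_n(3)` lies in the stabiliser of a frame decomposition.
-/
import Cfsg.Agent.Lib.Geo.OrthDecompFinal

set_option autoImplicit false

namespace CfsgLib.Geo.OrthMax

open CfsgLib.Classical CfsgLib.Classical.Quad
open QuadraticMap (polar polarBilin)
open scoped Kronecker
open Matrix

section Tensor

variable {F : Type*} [Field F] {ι : Type} [Fintype ι] [DecidableEq ι] {n₁ n₂ : ℕ}

/-- The image of a pure tensor. -/
def pureTensor (e : ι ≃ Fin n₁ × Fin n₂) (P : Matrix.GeneralLinearGroup ι F) (x : Fin n₁ → F)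
    (y : Fin n₂ → F) : ι → F :=
  (P : Matrix ι ι F) *ᵥ ((fun p : Fin n₁ × Fin n₂ => x p.1 * y p.2) ∘ e)

variable (e : ι ≃ Fin n₁ × Fin n₂) (P : Matrix.GeneralLinearGroup ι F)

theorem pureTensor_add_right (x : Fin n₁ → F) (y y' : Fin n₂ → F) :
    pureTensor e P x (y + y') = pureTensor e P x y + pureTensor e P x y' := by
  rw [pureTensor, pureTensor, pureTensor, ← Matrix.mulVec_add]
  congr 1
  funext i
  simp [mul_add]

theorem pureTensor_smul_right (c : F) (x : Fin n₁ → F) (y : Fin n₂ → F) :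
    pureTensor e P x (c • y) = c • pureTensor e P x y := by
  rw [pureTensor, pureTensor, ← Matrix.mulVec_smul]
  congr 1
  funext i
  simp [mul_left_comm]

theorem pureTensor_smul_left (c : F) (x : Fin n₁ → F) (y : Fin n₂ → F) :
    pureTensor e P (c • x) y = pureTensor e P x (c • y) := by
  rw [pureTensor, pureTensor]
  congr 1
  funext i
  simp [mul_assoc, mul_left_comm]

theorem exists_of_mem_tensor {g : Matrix.GeneralLinearGroup ι F}
    (hg : g ∈ Cfsg.Geo.tensorProductSubgroup n₁ n₂ e P) :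
    ∃ (a : Matrix.GeneralLinearGroup (Fin n₁) F) (b : Matrix.GeneralLinearGroup (Fin n₂) F),
      ∀ x y, (g : Matrix ι ι F) *ᵥ pureTensor e P x y =
        pureTensor e P ((a : Matrix (Fin n₁) (Fin n₁) F) *ᵥ x) ((b : Matrix (Fin n₂) (Fin n₂) F) *ᵥ y) := by
  obtain ⟨K, ⟨K₀, ⟨a, b, hab⟩, rfl⟩, rfl⟩ := hg
  refine ⟨a, b, fun x y => ?_⟩
  show ((P * Cfsg.Geo.glReindex e.symm K₀ * P⁻¹ : Matrix.GeneralLinearGroup ι F) : Matrix ι ι F) *ᵥ _ = _
  rw [pureTensor, pureTensor, Units.val_mul, Matrix.mulVec_mulVec, Matrix.mul_assoc, Units.inv_mul,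
    Matrix.mul_one, Units.val_mul, ← Matrix.mulVec_mulVec]
  congr 1
  show Matrix.reindex e.symm e.symm (K₀ : Matrix (Fin n₁ × Fin n₂) (Fin n₁ × Fin n₂) F) *ᵥ _ = _
  rw [hab]
  funext i
  simp only [Matrix.mulVec, dotProduct, Matrix.reindex_apply, Matrix.submatrix_apply, Equiv.symm_symm,
    Function.comp_apply]
  rw [e.sum_comp (fun q => ((a : Matrix (Fin n₁) (Fin n₁) F) ⊗ₖ (b : Matrix (Fin n₂) (Fin n₂) F))
    (e i) q * (x q.1 * y q.2)), Fintype.sum_prod_type, Finset.sum_mul_sum]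
  refine Finset.sum_congr rfl fun p _ => Finset.sum_congr rfl fun q _ => ?_
  rw [Matrix.kroneckerMap_apply]
  ring

theorem form_eq_gram {n : ℕ} {f : (Fin n → F) → (Fin n → F) → F}
    (hf : Cfsg.Geo.IsBilinearForm f) (x y : Fin n → F) :
    f x y = ∑ a, ∑ b, x a * Cfsg.Geo.gramMatrix f a b * y b := by
  let B : LinearMap.BilinForm F (Fin n → F) :=
    LinearMap.mk₂ F f hf.add_left hf.smul_left hf.add_right hf.smul_right
  have h : B x y = ∑ a, ∑ b, x a * Cfsg.Geo.gramMatrix f a b * y b := by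
    conv_lhs => rw [← (Pi.basisFun F (Fin n)).sum_repr x, ← (Pi.basisFun F (Fin n)).sum_repr y]
    simp only [map_sum, map_smul, LinearMap.sum_apply, LinearMap.smul_apply, smul_eq_mul,
      Pi.basisFun_repr, Pi.basisFun_apply, Finset.mul_sum]
    rw [Finset.sum_comm]
    refine Finset.sum_congr rfl fun a _ => Finset.sum_congr rfl fun b _ => ?_
    show _ = x a * f (Pi.single a 1) (Pi.single b 1) * y b
    simp only [B, LinearMap.mk₂_apply]
    ring
  exact h

theorem polar_pureTensor {f : (ι → F) → (ι → F) → F} {f₁ : (Fin n₁ → F) → (Fin n₁ → F) → F}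
    {f₂ : (Fin n₂ → F) → (Fin n₂ → F) → F} (h₁ : Cfsg.Geo.IsBilinearForm f₁)
    (h₂ : Cfsg.Geo.IsBilinearForm f₂) {c : F}
    (hT : ∀ x y : Fin n₁ × Fin n₂ → F,
      f ((P : Matrix ι ι F) *ᵥ (x ∘ e)) ((P : Matrix ι ι F) *ᵥ (y ∘ e)) =
        c * Cfsg.Geo.formOfGram id (Cfsg.Geo.gramMatrix f₁ ⊗ₖ Cfsg.Geo.gramMatrix f₂) x y)
    (x x' : Fin n₁ → F) (y y' : Fin n₂ → F) :
    f (pureTensor e P x y) (pureTensor e P x' y') = c * (f₁ x x' * f₂ y y') := by
  rw [pureTensor, pureTensor, hT, form_eq_gram h₁, form_eq_gram h₂, Cfsg.Geo.formOfGram]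
  congr 1
  simp only [id, Fintype.sum_prod_type, Matrix.kroneckerMap_apply]
  rw [Finset.sum_mul_sum]
  refine Finset.sum_congr rfl fun a _ => Finset.sum_congr rfl fun b _ => ?_
  rw [Finset.sum_mul_sum]
  refine Finset.sum_congr rfl fun a' _ => Finset.sum_congr rfl fun b' _ => ?_
  ring

end Tensor

variable {F : Type*} [Field F] [Fintype F] {ι : Type} [Fintype ι] [DecidableEq ι]

theorem exists_between_tensor_three {Q : QuadraticForm F (ι → F)} (hQ : (polarBilin Q).Nondegenerate)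
    (hn : 13 ≤ Fintype.card ι) (hF : Fintype.card F = 3) {n₂ : ℕ} (hn₂ : 4 ≤ n₂)
    (e : ι ≃ Fin 3 × Fin n₂) (P : Matrix.GeneralLinearGroup ι F)
    {f₁ : (Fin 3 → F) → (Fin 3 → F) → F} {f₂ : (Fin n₂ → F) → (Fin n₂ → F) → F}
    (hf₁ : Cfsg.Geo.IsSymmetricForm f₁) (hf₂ : Cfsg.Geo.IsSymmetricForm f₂)
    (hT : Cfsg.Geo.IsTensorFormStructure id (polar ⇑Q) f₁ f₂ e P) :
    ∃ K : Subgroup (Matrix.GeneralLinearGroup ι F),
      Cfsg.Geo.tensorProductSubgroup 3 n₂ e P ⊓ Cfsg.Geo.omegaGL (⇑Q) < K ∧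
        K < Cfsg.Geo.omegaGL (⇑Q) := by
  obtain ⟨c, hc, hT⟩ := hT
  have h2 : (2 : F) ≠ 0 := two_ne_zero_of_odd hF (by decide)
  have hsq : ∀ a : F, a ≠ 0 → a * a = 1 := fun a ha => by
    have h := FiniteField.pow_card_sub_one_eq_one a ha
    rwa [hF, show 3 - 1 = 2 from rfl, sq] at h
  have h3 : (3 : F) = 0 := by
    have h := FiniteField.cast_card_eq_zero F
    rw [hF] at h
    simpa using h
  let B₁ : LinearMap.BilinForm F (Fin 3 → F) :=
    LinearMap.mk₂ F f₁ hf₁.bilinear.add_left hf₁.bilinear.smul_left hf₁.bilinear.add_right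
      hf₁.bilinear.smul_right
  let B₂ : LinearMap.BilinForm F (Fin n₂ → F) :=
    LinearMap.mk₂ F f₂ hf₂.bilinear.add_left hf₂.bilinear.smul_left hf₂.bilinear.add_right
      hf₂.bilinear.smul_right
  let Q₁ := B₁.toQuadraticMap
  let Q₂ := B₂.toQuadraticMap
  have hq₁ : ∀ x, Q₁ x = f₁ x x := fun x => rfl
  have hq₂ : ∀ y, Q₂ y = f₂ y y := fun y => rfl
  have hp₁ : ∀ x y, polar Q₁ x y = 2 * f₁ x y := fun x y => by
    rw [LinearMap.BilinMap.polar_toQuadraticMap]
    show f₁ x y + f₁ y x = _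
    rw [hf₁.symm y x, two_mul]
  have hp₂ : ∀ x y, polar Q₂ x y = 2 * f₂ x y := fun x y => by
    rw [LinearMap.BilinMap.polar_toQuadraticMap]
    show f₂ x y + f₂ y x = _
    rw [hf₂.symm y x, two_mul]
  have hnd₂ : ∀ y, (∀ r, f₂ y r = 0) → y = 0 := fun y hy => by
    by_contra h0
    obtain ⟨r, hr⟩ := (hf₂.nondegenerate y h0).2
    exact hr (hy r)
  have hQ₁ : (polarBilin Q₁).Nondegenerate := nondegenerate_of_left fun x hx => by
    by_contra h0
    obtain ⟨r, hr⟩ := (hf₁.nondegenerate x h0).2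
    have := hx r
    rw [hp₁] at this
    exact hr ((mul_eq_zero.1 this).resolve_left h2)
  have hQ₂ : (polarBilin Q₂).Nondegenerate := nondegenerate_of_left fun x hx => hnd₂ x fun r => by
    have := hx r
    rw [hp₂] at this
    exact (mul_eq_zero.1 this).resolve_left h2
  obtain ⟨a, a', cc, -, hqa, -, hcc, hac, hcond⟩ := exists_frame_three h2 hsq h3
    (Q := Q₁) (W := ⊤) (fun x _ hx => hQ₁.1 x fun y => hx y trivial)
    (by rw [finrank_top, Module.finrank_fin_fun]; exact Or.inr rfl)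
  set T := pureTensor e P with hTdef
  have hpol : ∀ x x' y y', polar ⇑Q (T x y) (T x' y') = c * (f₁ x x' * f₂ y y') :=
    fun x x' y y' => polar_pureTensor e P hf₁.bilinear hf₂.bilinear hT x x' y y'
  have hQT : ∀ x y, 2 * Q (T x y) = c * (f₁ x x * f₂ y y) := fun x y => by
    rw [← polar_self' (Q := Q), hpol]
  -- a tensor isometry preserves the first form
  have hfirst : ∀ g : Cfsg.isometryGroup F (⇑Q),
      (g : Matrix.GeneralLinearGroup ι F) ∈ Cfsg.Geo.tensorProductSubgroup 3 n₂ e P →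
      ∃ (A : Matrix.GeneralLinearGroup (Fin 3) F) (B : Matrix.GeneralLinearGroup (Fin n₂) F),
        (∀ x y, (oEquiv Q g : (ι → F) ≃ₗ[F] (ι → F)) (T x y) =
          T ((A : Matrix (Fin 3) (Fin 3) F) *ᵥ x) ((B : Matrix (Fin n₂) (Fin n₂) F) *ᵥ y)) ∧
        ∀ x, f₁ ((A : Matrix (Fin 3) (Fin 3) F) *ᵥ x) ((A : Matrix (Fin 3) (Fin 3) F) *ᵥ x) = f₁ x x := by
    intro g hg
    obtain ⟨A, B, hAB⟩ := exists_of_mem_tensor e P hg
    refine ⟨A, B, hAB, ?_⟩
    obtain ⟨y, hy⟩ := exists_apply_eq hQ₂ (by rw [Module.finrank_fin_fun]; omega) one_ne_zero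
    rw [hq₂] at hy
    set By := (B : Matrix (Fin n₂) (Fin n₂) F) *ᵥ y
    have hrel : ∀ x x', f₁ ((A : Matrix (Fin 3) (Fin 3) F) *ᵥ x) ((A : Matrix (Fin 3) (Fin 3) F) *ᵥ x') *
        f₂ By By = f₁ x x' := by
      intro x x'
      have h := OQ.map_polar (oEquiv Q g) (T x y) (T x' y)
      have e1 : ∀ z, (oEquiv Q g : (ι → F) ≃ₗ[F] (ι → F)) (T z y) =
          T ((A : Matrix (Fin 3) (Fin 3) F) *ᵥ z) By := fun z => hAB z y
      rw [e1, e1, hpol, hpol, hy, mul_one] at h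
      exact mul_left_cancel₀ hc h
    set μ := f₂ By By
    suffices μ = 1 by
      intro x
      have h := hrel x x
      rwa [this, mul_one] at h
    let b := Pi.basisFun F (Fin 3)
    have hμ : μ ≠ 0 := by
      intro h0
      have h := hrel a a
      rw [h0, mul_zero, ← hq₁] at h
      exact hqa h.symm
    let L : (Fin 3 → F) ≃ₗ[F] (Fin 3 → F) :=
      LinearEquiv.ofBijective (Matrix.toLin' (A : Matrix (Fin 3) (Fin 3) F))
        ⟨Matrix.mulVec_injective_iff_isUnit.2 A.isUnit, Matrix.mulVec_surjective_iff_isUnit.2 A.isUnit⟩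
    have h5 := det_gram_of_isometry b b B₁ (μ • B₁) L (fun u v => by
      show μ * f₁ ((A : Matrix (Fin 3) (Fin 3) F) *ᵥ u) ((A : Matrix (Fin 3) (Fin 3) F) *ᵥ v) = f₁ u v
      rw [mul_comm, hrel])
    rw [map_smul, Matrix.det_smul, Fintype.card_fin] at h5
    have hdet : (LinearMap.BilinForm.toMatrix b B₁).det ≠ 0 :=
      (LinearMap.BilinForm.nondegenerate_iff_det_ne_zero b).1
        ⟨fun x hx => by
          by_contra h0
          obtain ⟨r, hr⟩ := (hf₁.nondegenerate x h0).2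
          exact hr (hx r), fun x hx => by
          by_contra h0
          obtain ⟨r, hr⟩ := (hf₁.nondegenerate x h0).1
          exact hr (hx r)⟩
    set d := (LinearMap.toMatrix b b (L : (Fin 3 → F) →ₗ[F] (Fin 3 → F))).det
    have h6 : d ^ 2 * μ ^ 3 = 1 := mul_right_cancel₀ hdet (by linear_combination -h5)
    have hd : d ≠ 0 := fun e0 => by rw [e0] at h6; simp at h6
    rw [sq, hsq d hd, one_mul, pow_succ, pow_two, hsq μ hμ, one_mul] at h6
    exact h6
  -- vectors of the second space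
  obtain ⟨y₁, hy₁0, hy₁⟩ := exists_singular hQ₂ (by rw [Module.finrank_fin_fun]; omega)
  obtain ⟨y₂, hy₁₂, hy₂⟩ : ∃ y₂, f₂ y₁ y₂ = 0 ∧ y₂ ∉ Submodule.span F {y₁} := by
    by_contra! hcy
    have h1 := LinearMap.finrank_range_add_finrank_ker (B₂ y₁)
    have h2 := Submodule.finrank_le (LinearMap.range (B₂ y₁))
    have h3 := Submodule.finrank_mono (show LinearMap.ker (B₂ y₁) ≤ Submodule.span F {y₁} from hcy)
    rw [Module.finrank_self] at h2
    rw [finrank_span_singleton hy₁0] at h3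
    rw [Module.finrank_fin_fun] at h1
    omega
  obtain ⟨y₃, hy₂₃, hy₁₃⟩ := exists_sep_polar hQ₂ hy₂
  have hy₁₃' : f₂ y₁ y₃ = 0 := by
    have h := hy₁₃ y₁ (Submodule.mem_span_singleton_self y₁)
    rw [hp₂] at h
    exact (mul_eq_zero.1 h).resolve_left h2
  have hy₂₃' : f₂ y₂ y₃ ≠ 0 := fun h => by
    rw [hp₂, h, mul_zero] at hy₂₃
    exact zero_ne_one hy₂₃
  set w := T a y₁
  set v := T a y₂
  have hqw : Q w = 0 := by
    have h := hQT a y₁
    rw [← hq₂, hy₁, mul_zero, mul_zero] at h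
    exact (mul_eq_zero.1 h).resolve_left h2
  have hwv : polar Q w v = 0 := by rw [hpol, hy₁₂, mul_zero, mul_zero]
  have hn5 : 5 ≤ Module.finrank F (ι → F) := by rw [Module.finrank_pi]; omega
  have hfix : ∀ x y, f₁ x a = 0 → (eich hQ hqw hwv : (ι → F) ≃ₗ[F] (ι → F)) (T x y) = T x y := by
    intro x y hx
    rw [eich_apply, hpol, hpol, hx]
    simp
  obtain ⟨z, hz, hza⟩ : ∃ z, z ≠ 0 ∧ f₁ z a = 0 := by
    by_contra! hcz
    have hinj : Function.Injective (B₁.flip a) := by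
      rw [injective_iff_map_eq_zero]
      intro z hz
      by_contra h0
      exact hcz z h0 hz
    have h := LinearMap.finrank_le_finrank_of_injective hinj
    rw [Module.finrank_fin_fun, Module.finrank_self] at h
    omega
  have hfaa : f₁ a a ≠ 0 := hqa
  obtain ⟨z', hzz', haz'⟩ : ∃ z', f₁ z z' ≠ 0 ∧ f₁ a z' = 0 := by
    obtain ⟨r, hr⟩ := (hf₁.nondegenerate z hz).2
    refine ⟨r - (f₁ a r / f₁ a a) • a, ?_, ?_⟩
    · show B₁ z (r - (f₁ a r / f₁ a a) • a) ≠ 0
      rw [map_sub, map_smul, smul_eq_mul, show B₁ z a = 0 from hza, mul_zero, sub_zero]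
      exact hr
    · show B₁ a (r - (f₁ a r / f₁ a a) • a) = 0
      rw [map_sub, map_smul, smul_eq_mul]
      show f₁ a r - f₁ a r / f₁ a a * f₁ a a = 0
      rw [div_mul_cancel₀ _ hfaa, sub_self]
  have hextract : ∀ (α β : F) (y y' : Fin n₂ → F), (∀ r, α * f₂ y r = β * f₂ y' r) → α • y = β • y' :=
    fun α β y y' h => sub_eq_zero.1 (hnd₂ _ fun r => by
      show B₂ (α • y - β • y') r = 0
      rw [map_sub, LinearMap.sub_apply, map_smul, map_smul, LinearMap.smul_apply, LinearMap.smul_apply]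
      exact sub_eq_zero.2 (h r))
  refine exists_between_set hQ (by omega) _ {p | ∃ x y, f₁ x x = cc ∧ p = T x y} (fun g hg => ?_)
    (eich hQ hqw hwv) (eich_mem hQ hn5 hqw hwv) ?_ ?_ ?_
  · obtain ⟨A, B, hAB, hA⟩ := hfirst g hg
    rintro _ ⟨x, y, hx, rfl⟩
    exact ⟨_, _, by rw [hA, hx], hAB x y⟩
  · rintro _ ⟨x, y, hx, rfl⟩
    rcases hcond x trivial (by rw [hq₁, hx]) with h | ⟨ε, rfl⟩
    · rw [hp₁] at h
      exact ⟨x, y, hx, hfix x y ((mul_eq_zero.1 h).resolve_left h2)⟩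
    · refine ⟨ε • a, y + (ε⁻¹ * (polar Q (T (ε • a) y) v - Q v * polar Q (T (ε • a) y) w)) • y₁ +
        (ε⁻¹ * -polar Q (T (ε • a) y) w) • y₂, hx, ?_⟩
      have hε : ε ≠ 0 := fun h0 => hcc (by
        rw [← hx, h0, zero_smul]
        show B₁ 0 0 = 0
        simp)
      rw [eich_apply, hTdef, pureTensor_add_right, pureTensor_add_right, pureTensor_smul_left e P ε a
        (_ • y₁), pureTensor_smul_left e P ε a (_ • y₂), smul_smul, smul_smul,
        mul_inv_cancel_left₀ hε, mul_inv_cancel_left₀ hε, pureTensor_smul_right, pureTensor_smul_right]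
  · intro hmem
    obtain ⟨A, B, hAB, -⟩ := hfirst _ hmem
    simp only [MulEquiv.apply_symm_apply] at hAB
    have hscal : ∀ y, ∃ l : F, (B : Matrix (Fin n₂) (Fin n₂) F) *ᵥ y = l • y := by
      intro y
      have h := hAB z y
      rw [hfix z y hza] at h
      have hl := hextract (f₁ z z') (f₁ ((A : Matrix (Fin 3) (Fin 3) F) *ᵥ z) z') y
        ((B : Matrix (Fin n₂) (Fin n₂) F) *ᵥ y) (fun r => mul_left_cancel₀ hc (by
          rw [← hpol, ← hpol, h]))
      by_cases h0 : f₁ ((A : Matrix (Fin 3) (Fin 3) F) *ᵥ z) z' = 0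
      · rw [h0, zero_smul, smul_eq_zero] at hl
        have hy0 : y = 0 := hl.resolve_left hzz'
        exact ⟨0, by rw [hy0, Matrix.mulVec_zero, smul_zero]⟩
      · exact ⟨(f₁ ((A : Matrix (Fin 3) (Fin 3) F) *ᵥ z) z')⁻¹ * f₁ z z', by
          rw [← smul_smul, hl, inv_smul_smul₀ h0]⟩
    obtain ⟨l, hl⟩ := hscal y₃
    have h := hAB a y₃
    rw [hl, eich_apply, hpol a a y₃ y₂, hpol a a y₃ y₁, hf₂.symm y₃ y₁, hy₁₃', hf₂.symm y₃ y₂] at h
    simp only [mul_zero, sub_zero, neg_zero, zero_smul, add_zero] at h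
    have h' : T a (y₃ + (c * (f₁ a a * f₂ y₂ y₃)) • y₁) =
        T ((A : Matrix (Fin 3) (Fin 3) F) *ᵥ a) (l • y₃) := by
      rw [← h, hTdef, pureTensor_add_right, pureTensor_smul_right]
    have hl2 := hextract (f₁ a a) (l * f₁ ((A : Matrix (Fin 3) (Fin 3) F) *ᵥ a) a)
      (y₃ + (c * (f₁ a a * f₂ y₂ y₃)) • y₁) y₃ (fun r => mul_left_cancel₀ hc (by
        rw [← hpol, h', hpol]
        show c * (_ * B₂ (l • y₃) r) = c * (l * _ * B₂ y₃ r)
        rw [map_smul, LinearMap.smul_apply, smul_eq_mul]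
        ring))
    have h9 := congrArg (fun t => B₂ t y₂) hl2
    simp only [map_smul, map_add, LinearMap.add_apply, LinearMap.smul_apply, smul_eq_mul] at h9
    have e9 : B₂ y₁ y₂ = 0 := hy₁₂
    rw [e9, mul_zero, add_zero] at h9
    have h8 : f₁ a a = l * f₁ ((A : Matrix (Fin 3) (Fin 3) F) *ᵥ a) a :=
      mul_right_cancel₀ (b := B₂ y₃ y₂) (show f₂ y₃ y₂ ≠ 0 by rwa [hf₂.symm]) h9
    rw [← h8, smul_add, add_eq_left, smul_smul, smul_eq_zero] at hl2
    exact mul_ne_zero hfaa (mul_ne_zero hc (mul_ne_zero hfaa hy₂₃')) (hl2.resolve_right hy₁0)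
  · obtain ⟨y, hy⟩ := exists_apply_eq hQ₂ (by rw [Module.finrank_fin_fun]; omega) one_ne_zero
    rw [hq₂] at hy
    rw [hq₁] at hac
    have hqa' : Q (T a' y) ≠ 0 := fun h => by
      have h' := hQT a' y
      rw [h, mul_zero, hy, mul_one, hac] at h'
      exact mul_ne_zero hc hcc h'.symm
    obtain ⟨u, hu, hua⟩ : ∃ u, u ≠ 0 ∧ f₁ u a' = 0 := by
      by_contra! hcz
      have hinj : Function.Injective (B₁.flip a') := by
        rw [injective_iff_map_eq_zero]
        intro z hz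
        by_contra h0
        exact hcz z h0 hz
      have h := LinearMap.finrank_le_finrank_of_injective hinj
      rw [Module.finrank_fin_fun, Module.finrank_self] at h
      omega
    refine ⟨T a' y, ⟨a', y, hac, rfl⟩, T a' y + T u y₁, ?_, hqa', ?_⟩
    · rintro ⟨x, y', hx, h⟩
      have key : ∀ s, ∀ r, f₁ a' s * f₂ y r + f₁ u s * f₂ y₁ r = f₁ x s * f₂ y' r := fun s r =>
        mul_left_cancel₀ hc (by
          rw [mul_add, ← hpol, ← hpol, ← hpol, ← h, polar_add_left'])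
      have k1 := hextract (f₁ a' a') (f₁ x a') y y' (fun r => by
        have := key a' r
        rwa [hua, zero_mul, add_zero] at this)
      obtain ⟨s, hs, hs'⟩ : ∃ s, f₁ u s ≠ 0 ∧ f₁ a' s = 0 := by
        obtain ⟨r, hr⟩ := (hf₁.nondegenerate u hu).2
        refine ⟨r - (f₁ a' r / f₁ a' a') • a', ?_, ?_⟩
        · show B₁ u (r - (f₁ a' r / f₁ a' a') • a') ≠ 0
          rw [map_sub, map_smul, smul_eq_mul, show B₁ u a' = 0 from hua, mul_zero, sub_zero]
          exact hr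
        · show B₁ a' (r - (f₁ a' r / f₁ a' a') • a') = 0
          rw [map_sub, map_smul, smul_eq_mul]
          show f₁ a' r - f₁ a' r / f₁ a' a' * f₁ a' a' = 0
          rw [div_mul_cancel₀ _ (by rw [hac]; exact hcc), sub_self]
      have k2 := hextract (f₁ u s) (f₁ x s) y₁ y' (fun r => by
        have := key s r
        rwa [hs', zero_mul, zero_add] at this)
      have hxa : f₁ x a' ≠ 0 := by
        intro h0
        rw [h0, zero_smul, hac, smul_eq_zero] at k1
        rw [k1.resolve_left hcc] at hy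
        exact zero_ne_one ((show B₂ 0 0 = 0 by simp).symm.trans hy)
      have hy' : y' = ((f₁ x a')⁻¹ * f₁ a' a') • y := by
        rw [← smul_smul, k1, inv_smul_smul₀ hxa]
      rw [hy', smul_smul] at k2
      have h7 := congrArg (fun p => Q₂ p) k2
      simp only [apply_smul, hy₁, mul_zero, hq₂ y, hy, mul_one] at h7
      have h6 := mul_self_eq_zero.1 h7.symm
      rw [h6, zero_smul, smul_eq_zero] at k2
      exact hy₁0 (k2.resolve_left hs)
    · have hqu : Q (T u y₁) = 0 := by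
        have h := hQT u y₁
        rw [← hq₂, hy₁, mul_zero, mul_zero] at h
        exact (mul_eq_zero.1 h).resolve_left h2
      rw [apply_add, hqu, hpol, hf₁.symm a' u, hua, zero_mul, mul_zero, add_zero, add_zero]

end CfsgLib.Geo.OrthMax
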