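/-
Orthogonal similitude groups are maximal in SL in odd characteristic.
-/
import Cfsg.Agent.Lib.Geo.Roots
import Cfsg.Agent.Lib.Geo.OrthNondegTools

set_option autoImplicit false

namespace CfsgLib.Geo.QuadSim

open Matrix CfsgLib.Classical CfsgLib.Classical.Quad CfsgLib.Geo.Roots CfsgLib.Geo.OrthMax
open QuadraticMap (polar polarBilin)

variable {ι : Type} [Fintype ι] [DecidableEq ι] {F : Type*} [Field F] {Q : QuadraticForm F (ι → F)}

theorem isBilinearForm_polar (Q : QuadraticForm F (ι → F)) : Cfsg.Geo.IsBilinearForm (polar ⇑Q) :=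
  ⟨fun x y v => QuadraticMap.polar_add_left Q x y v,
    fun a x v => (QuadraticMap.polar_smul_left Q a x v).trans (smul_eq_mul _ _),
    fun v x y => QuadraticMap.polar_add_right Q v x y,
    fun a v x => (QuadraticMap.polar_smul_right Q a v x).trans (smul_eq_mul _ _)⟩

/-- The functional of a vector. -/
def vec (Q : QuadraticForm F (ι → F)) (y : ι → F) : ι → F := fvec (polar ⇑Q) y

theorem vec_dot (y x : ι → F) : vec Q y ⬝ᵥ x = polar ⇑Q y x := fvec_dot (isBilinearForm_polar Q) y x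

theorem vec_add (x y : ι → F) : vec Q (x + y) = vec Q x + vec Q y :=
  funext fun j => QuadraticMap.polar_add_left Q x y _

theorem vec_smul (c : F) (x : ι → F) : vec Q (c • x) = c • vec Q x :=
  funext fun j => (QuadraticMap.polar_smul_left Q c x _).trans (smul_eq_mul _ _)

variable (hQ : (polarBilin Q).Nondegenerate)
include hQ

theorem eq_of_vec {x y : ι → F} (h : ∀ z, polar ⇑Q x z = polar ⇑Q y z) : x = y := by
  rw [← sub_eq_zero]
  exact hQ.1 _ fun z => by
    rw [QuadraticMap.polarBilin_apply_apply, QuadraticMap.polar_sub_left, h, sub_self]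

theorem vec_surjective [Finite F] (φ : ι → F) : ∃ y, vec Q y = φ :=
  Finite.injective_iff_surjective.1 (fun x y h => eq_of_vec hQ fun z => by rw [← vec_dot, ← vec_dot, h]) φ

/-! ### Hyperbolic pairs in large subspaces -/

omit hQ in
/-- The part of a subspace orthogonal to a vector. -/
def cut (L : Submodule F (ι → F)) (Q : QuadraticForm F (ι → F)) (x : ι → F) : Submodule F (ι → F) :=
  L ⊓ LinearMap.ker (polarBilin Q x)

omit hQ in
theorem finrank_cut (L : Submodule F (ι → F)) (x : ι → F) :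
    Module.finrank F L ≤ Module.finrank F (cut L Q x) + 1 := by
  have h1 := Submodule.finrank_sup_add_finrank_inf_eq L (LinearMap.ker (polarBilin Q x))
  have h2 := LinearMap.finrank_range_add_finrank_ker (polarBilin Q x)
  have h3 := Submodule.finrank_le (LinearMap.range (polarBilin Q x))
  have h4 := Submodule.finrank_le (L ⊔ LinearMap.ker (polarBilin Q x))
  rw [Module.finrank_self] at h3
  show _ ≤ Module.finrank F ↥(L ⊓ LinearMap.ker (polarBilin Q x)) + 1
  omega

omit hQ in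
theorem mem_cut {L : Submodule F (ι → F)} {x y : ι → F} : y ∈ cut L Q x ↔ y ∈ L ∧ polar ⇑Q x y = 0 := Iff.rfl

theorem exists_nondeg_part (L : Submodule F (ι → F)) :
    ∃ L₁ ≤ L, Nondeg Q L₁ ∧ L₁ ⊔ (L ⊓ perp Q L) = L ∧
      2 * Module.finrank F L ≤ Fintype.card ι + Module.finrank F L₁ := by
  obtain ⟨C, hC⟩ := (L ⊓ perp Q L).exists_isCompl
  set L₁ := C ⊓ L with hL₁
  have hsum : L₁ ⊔ (L ⊓ perp Q L) = L := by
    rw [hL₁, sup_comm, ← sup_inf_assoc_of_le C inf_le_left, hC.sup_eq_top, top_inf_eq]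
  have hnd : Nondeg Q L₁ := by
    intro x hx hy
    have hall : ∀ y ∈ L, polar ⇑Q x y = 0 := by
      intro y hy'
      rw [← hsum] at hy'
      obtain ⟨r, hr, s, hs, rfl⟩ := Submodule.mem_sup.1 hy'
      rw [QuadraticMap.polar_add_right, hy r hr, zero_add]
      exact hs.2 x hx.2
    exact Submodule.disjoint_def.1 hC.disjoint x
      ⟨hx.2, mem_perp.2 fun w hw => (QuadraticMap.polar_comm _ _ _).trans (hall w hw)⟩ hx.1
  refine ⟨L₁, inf_le_right, hnd, hsum, ?_⟩
  have h1 := Submodule.finrank_add_le_finrank_add_finrank L₁ (L ⊓ perp Q L)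
  rw [hsum] at h1
  have h2 := Submodule.finrank_mono (inf_le_right : L ⊓ perp Q L ≤ perp Q L)
  have h3 := finrank_perp hQ L
  have h4 := Submodule.finrank_le L
  rw [Module.finrank_pi] at h3 h4
  omega

theorem exists_hyp [Finite F] {L : Submodule F (ι → F)} (hL : Fintype.card ι + 3 ≤ 2 * Module.finrank F L) :
    ∃ e ∈ L, ∃ f ∈ L, Q e = 0 ∧ Q f = 0 ∧ polar ⇑Q e f = 1 := by
  obtain ⟨L₁, hle, hnd, -, h⟩ := exists_nondeg_part hQ L
  obtain ⟨u, hu, hu0, hqu⟩ := hnd.exists_singular (by omega)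
  obtain ⟨f, hf, hqf, huf⟩ := hnd.exists_pair hu hqu hu0
  exact ⟨u, hle hu, f, hle hf, hqu, hqf, huf⟩

omit hQ in
theorem apply_eq_zero_of_polar (h2 : (2 : F) ≠ 0) {L : Submodule F (ι → F)} {x : ι → F} (hx : x ∈ L ⊓ perp Q L) :
    Q x = 0 := by
  refine (mul_eq_zero.1 ?_).resolve_left h2
  rw [← mem_perp.1 hx.2 x hx.1, QuadraticMap.polar_self, nsmul_eq_mul, Nat.cast_ofNat]

/-- A large subspace contains an anisotropic vector. -/
theorem exists_aniso [Finite F] {L : Submodule F (ι → F)} (hL : Fintype.card ι < 2 * Module.finrank F L) :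
    ∃ z ∈ L, Q z ≠ 0 := by
  obtain ⟨L₁, hle, hnd, -, h⟩ := exists_nondeg_part hQ L
  haveI : Nontrivial L₁ := Module.nontrivial_of_finrank_pos (R := F) (by omega)
  obtain ⟨z, hz⟩ := CfsgLib.Classical.Quad.exists_apply_ne_zero hnd.comp
  exact ⟨z, hle z.2, hz⟩

/-- A singular vector with the same values. -/
theorem exists_singular_like [Finite F] {L : Submodule F (ι → F)} {p d : ι → F} (hp : p ∈ L)
    (hL : Fintype.card ι + 4 ≤ 2 * Module.finrank F L) :
    ∃ a ∈ L, Q a = 0 ∧ polar ⇑Q d a = polar ⇑Q d p := by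
  obtain ⟨L₁, hle, hnd, -, h⟩ := exists_nondeg_part hQ (cut L Q d)
  have := finrank_cut (Q := Q) L d
  obtain ⟨m, hm, p', hp', hmp⟩ := hnd.exists_add hQ p
  obtain ⟨y, hy, hqy⟩ : ∃ y ∈ L₁, Q y = -Q p' := by
    by_cases hq : Q p' = 0
    · exact ⟨0, L₁.zero_mem, by simp [hq]⟩
    · obtain ⟨x, hx⟩ := CfsgLib.Classical.Quad.exists_apply_eq hnd.comp (by omega) (neg_ne_zero.2 hq)
      exact ⟨x, x.2, hx⟩
  refine ⟨p' + y, L.add_mem ?_ (hle hy).1, ?_, ?_⟩
  · rw [show p' = p - m from eq_sub_of_add_eq (by rw [add_comm, hmp])]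
    exact L.sub_mem hp (hle hm).1
  · rw [apply_add, hqy, (QuadraticMap.polar_comm _ _ _).trans (mem_perp.1 hp' y hy)]
    ring
  · rw [← hmp, QuadraticMap.polar_add_right, QuadraticMap.polar_add_right,
      show polar ⇑Q d y = 0 from (hle hy).2, show polar ⇑Q d m = 0 from (hle hm).2, zero_add, add_zero]

theorem le_of_singular [Finite F] {L P : Submodule F (ι → F)}
    (hL : Fintype.card ι + 5 ≤ 2 * Module.finrank F L) (hP : ∀ x ∈ L, Q x = 0 → x ∈ P) : L ≤ P := by
  intro x hx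
  obtain ⟨e, he, f, hf, hqe, hqf, hef⟩ := exists_hyp hQ (L := cut L Q x) (by
    have := finrank_cut (Q := Q) L x
    omega)
  have h1 : x + e - Q x • f ∈ P := by
    refine hP _ (L.sub_mem (L.add_mem hx he.1) (L.smul_mem _ hf.1)) ?_
    have hxe : polar ⇑Q x e = 0 := he.2
    have hxf : polar ⇑Q x f = 0 := hf.2
    rw [sub_eq_add_neg, ← neg_smul, apply_add, apply_add, apply_smul, hqe, hqf, polar_smul_right',
      QuadraticMap.polar_add_left, hxe, hxf, hef]
    ring
  have := P.sub_mem (P.add_mem h1 (P.smul_mem (Q x) (hP f hf.1 hqf))) (hP e he.1 hqe)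
  simpa using this

theorem le_of_singular_odd [Finite F] (h2 : (2 : F) ≠ 0) {L P : Submodule F (ι → F)}
    (hL : Fintype.card ι + 3 ≤ 2 * Module.finrank F L) (hP : ∀ x ∈ L, Q x = 0 → x ∈ P) : L ≤ P := by
  obtain ⟨L₁, hle, hnd, hsum, h⟩ := exists_nondeg_part hQ L
  rw [← hsum]
  exact sup_le (hnd.le_of_singular (by omega) fun x hx => hP x (hle hx))
    fun x hx => hP x hx.1 (apply_eq_zero_of_polar h2 hx)

/-- Without singular vectors off a hyperplane the radical is the whole orthogonal space. -/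
theorem perp_le_of_singular [Finite F] (h2 : (2 : F) ≠ 0) {L : Submodule F (ι → F)} {d y : ι → F}
    (hL : Fintype.card ι + 2 ≤ 2 * Module.finrank F L) (hy : y ∈ L) (hdy : polar ⇑Q d y ≠ 0)
    (hs : ∀ x ∈ L, Q x = 0 → polar ⇑Q d x = 0) : perp Q L ≤ L := by
  obtain ⟨L₁, hle, hnd, hsum, h⟩ := exists_nondeg_part hQ L
  have h2' : Module.finrank F L₁ ≤ 2 := by
    by_contra hc
    refine hdy ?_
    have : L ≤ LinearMap.ker (polarBilin Q d) := by
      rw [← hsum]
      exact sup_le (hnd.le_of_singular (by omega) fun x hx => hs x (hle hx))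
        fun x hx => hs x hx.1 (apply_eq_zero_of_polar h2 hx)
    exact this hy
  have h1 := Submodule.finrank_add_le_finrank_add_finrank L₁ (L ⊓ perp Q L)
  rw [hsum] at h1
  have h3 := finrank_perp hQ L
  have h4 := Submodule.finrank_le L
  rw [Module.finrank_pi] at h3 h4
  have h5 := Submodule.eq_of_le_of_finrank_le (inf_le_right : L ⊓ perp Q L ≤ perp Q L) (by omega)
  exact fun x hx => (h5.ge hx).1

/-- A singular vector with two prescribed values. -/
theorem exists_singular_two [Finite F] (hn : 6 ≤ Fintype.card ι) (u w p : ι → F) :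
    ∃ z, Q z = 0 ∧ polar ⇑Q u z = polar ⇑Q u p ∧ polar ⇑Q w z = polar ⇑Q w p := by
  obtain ⟨L₁, hle, hnd, -, h⟩ := exists_nondeg_part hQ (cut (cut ⊤ Q u) Q w)
  have h1 := finrank_cut (Q := Q) (⊤ : Submodule F (ι → F)) u
  have := finrank_cut (Q := Q) (cut ⊤ Q u) w
  rw [finrank_top, Module.finrank_pi] at h1
  obtain ⟨m, hm, p', hp', hmp⟩ := hnd.exists_add hQ p
  obtain ⟨y, hy, hqy⟩ : ∃ y ∈ L₁, Q y = -Q p' := by
    by_cases hq : Q p' = 0
    · exact ⟨0, L₁.zero_mem, by simp [hq]⟩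
    · obtain ⟨x, hx⟩ := CfsgLib.Classical.Quad.exists_apply_eq hnd.comp (by omega) (neg_ne_zero.2 hq)
      exact ⟨x, x.2, hx⟩
  refine ⟨p' + y, ?_, ?_, ?_⟩
  · rw [apply_add, hqy, (QuadraticMap.polar_comm _ _ _).trans (mem_perp.1 hp' y hy)]
    ring
  · rw [← hmp, QuadraticMap.polar_add_right, QuadraticMap.polar_add_right, show polar ⇑Q u y = 0 from (hle hy).1.2,
      show polar ⇑Q u m = 0 from (hle hm).1.2, zero_add, add_zero]
  · rw [← hmp, QuadraticMap.polar_add_right, QuadraticMap.polar_add_right, show polar ⇑Q w y = 0 from (hle hy).2,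
      show polar ⇑Q w m = 0 from (hle hm).2, zero_add, add_zero]

/-! ### Siegel elements as matrices -/

/-- The Siegel element as a matrix. -/
noncomputable def eg {w a : ι → F} (hw : Q w = 0) (ha : polar ⇑Q w a = 0) : Matrix.GeneralLinearGroup ι F :=
  ((oEquiv Q).symm (eich hQ hw ha) : Cfsg.isometryGroup F (⇑Q))

theorem eg_mulVec {w a : ι → F} (hw : Q w = 0) (ha : polar ⇑Q w a = 0) (z : ι → F) :
    (eg hQ hw ha : Matrix ι ι F) *ᵥ z =
      z + (polar ⇑Q z a - Q a * polar ⇑Q z w) • w + (-polar ⇑Q z w) • a := by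
  rw [← eich_apply hQ hw ha, eg, ← oEquiv_apply, MulEquiv.apply_symm_apply]

theorem eg_isometry {w a : ι → F} (hw : Q w = 0) (ha : polar ⇑Q w a = 0) (z : ι → F) :
    Q ((eg hQ hw ha : Matrix ι ι F) *ᵥ z) = Q z := by
  rw [eg_mulVec hQ hw ha, ← eich_apply hQ hw ha]
  exact (eich hQ hw ha).2 z z

theorem eg_mem (h2 : (2 : F) ≠ 0) {w a : ι → F} (hw : Q w = 0) (ha : polar ⇑Q w a = 0) :
    eg hQ hw ha ∈ Cfsg.Geo.quadSimilarityGroup (⇑Q) ⊓ Cfsg.Geo.specialLinear ι F := by
  refine ⟨⟨1, fun v => by rw [eg_isometry hQ hw ha, Units.val_one, one_mul]⟩, ?_⟩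
  have ha' : polar ⇑Q w ((2 : F)⁻¹ • a) = 0 := by rw [polar_smul_right', ha, mul_zero]
  have hsq : eg hQ hw ha' * eg hQ hw ha' = eg hQ hw ha := by
    refine ext_mulVec fun z => ?_
    rw [Units.val_mul, ← Matrix.mulVec_mulVec]
    have hww : polar ⇑Q w w = 0 := by rw [QuadraticMap.polar_self, hw, smul_zero]
    simp only [eg_mulVec, QuadraticMap.polar_add_left, QuadraticMap.polar_smul_left, QuadraticMap.polar_smul_right,
      QuadraticMap.polar_self, QuadraticMap.map_smul, smul_eq_mul, hww, ha, QuadraticMap.polar_comm (⇑Q) a w,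
      two_smul, mul_zero, add_zero]
    match_scalars <;> field_simp <;> ring
  have hdet : ((eg hQ hw ha : Matrix.GeneralLinearGroup ι F) : Matrix ι ι F).det = 1 := by
    rw [← hsq, Units.val_mul, Matrix.det_mul]
    rcases det_eq_one_or_neg_one Q hQ ((oEquiv Q).symm (eich hQ hw ha')) with h | h <;>
      rw [eg, h] <;> ring
  exact MonoidHom.mem_ker.2 (Units.ext hdet)

theorem vec_conj {g : Matrix.GeneralLinearGroup ι F} (hg : ∀ v, Q ((g : Matrix ι ι F) *ᵥ v) = Q v) (y : ι → F) :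
    vec Q y ᵥ* ((g⁻¹ : Matrix.GeneralLinearGroup ι F) : Matrix ι ι F) = vec Q ((g : Matrix ι ι F) *ᵥ y) := by
  refine eq_of_dot fun z => ?_
  rw [← Matrix.dotProduct_mulVec, vec_dot, vec_dot]
  conv_rhs => rw [show z = (g : Matrix ι ι F) *ᵥ (((g⁻¹ : Matrix.GeneralLinearGroup ι F) : Matrix ι ι F) *ᵥ z) by
    rw [Matrix.mulVec_mulVec, Units.mul_inv, Matrix.one_mulVec]]
  simp only [polar, ← Matrix.mulVec_add, hg]

variable {M : Subgroup (Matrix.GeneralLinearGroup ι F)}

omit hQ in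
theorem root_add_right {φ u v : ι → F} (h₁ : Root M φ u) (h₂ : Root M φ v) : Root M φ (u + v) := by
  obtain ⟨e₁, m₁⟩ := h₁
  obtain ⟨e₂, m₂⟩ := h₂
  refine ⟨by rw [dotProduct_add, e₁, e₂, add_zero], ?_⟩
  convert M.mul_mem m₁ m₂ using 1
  refine ext_mulVec fun x => ?_
  rw [Units.val_mul, ← Matrix.mulVec_mulVec, transvectionGL_mulVec, transvectionGL_mulVec, transvectionGL_mulVec,
    dotProduct_add, dotProduct_smul, e₂, smul_zero, add_zero]
  module

omit hQ in
theorem root_smul_right {φ u : ι → F} {c : F} (h : Root M φ (c • u)) : Root M (c • φ) u := by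
  rcases eq_or_ne c 0 with rfl | hc
  · rw [zero_smul]
    exact Root.zero u
  · exact (root_smul_iff hc).1 h

omit hQ in
theorem root_neg_right {φ u : ι → F} (h : Root M φ u) : Root M φ (-u) := by
  have : Root M φ ((-1 : F) • u) := by
    rw [root_smul_iff (neg_ne_zero.2 one_ne_zero), neg_one_smul]
    exact h.neg
  rwa [neg_one_smul] at this

/-- All Siegel elements lie in the subgroup. -/
def HasSiegel (M : Subgroup (Matrix.GeneralLinearGroup ι F)) : Prop :=
  ∀ {w a : ι → F} (hw : Q w = 0) (ha : polar ⇑Q w a = 0), eg hQ hw ha ∈ M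

theorem root_eg (hS : HasSiegel hQ M) {y v : ι → F} (h : Root M (vec Q y) v) {w a : ι → F} (hw : Q w = 0)
    (ha : polar ⇑Q w a = 0) :
    Root M (vec Q ((eg hQ hw ha : Matrix ι ι F) *ᵥ y)) ((eg hQ hw ha : Matrix ι ι F) *ᵥ v) := by
  have := h.conj (hS hw ha)
  rwa [vec_conj hQ (eg_isometry hQ hw ha)] at this

/-! ### A transvection -/

theorem exists_root_of_not_preserve [Finite F] (hn : 6 ≤ Fintype.card ι) (hS : HasSiegel hQ M)
    {g : Matrix.GeneralLinearGroup ι F} (hg : g ∈ M) {w a a₁ : ι → F} (hw : Q w = 0) (ha : Q a = 0)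
    (hwa : polar ⇑Q w a = 0) (hind : ∀ c : F, a ≠ c • w)
    (hwa₁ : polar ⇑Q w (((g⁻¹ : Matrix.GeneralLinearGroup ι F) : Matrix ι ι F) *ᵥ a₁) = 0)
    (haa₁ : polar ⇑Q a (((g⁻¹ : Matrix.GeneralLinearGroup ι F) : Matrix ι ι F) *ᵥ a₁) = 0) (hqa₁ : Q a₁ = 0)
    (hne : polar ⇑Q ((g : Matrix ι ι F) *ᵥ w) a₁ ≠ 0) :
    ∃ y v, y ≠ 0 ∧ v ≠ 0 ∧ Root M (vec Q y) v := by
  set G := (g : Matrix ι ι F) with hG
  set gi := ((g⁻¹ : Matrix.GeneralLinearGroup ι F) : Matrix ι ι F) with hgi
  have hgig : ∀ z, gi *ᵥ (G *ᵥ z) = z := fun z => by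
    rw [hgi, hG, Matrix.mulVec_mulVec, Units.inv_mul, Matrix.one_mulVec]
  let L₀ : Submodule F (ι → F) := (cut (cut ⊤ Q w) Q a).comap (Matrix.toLin' gi)
  have hL₀ : ∀ z ∈ L₀, polar ⇑Q w (gi *ᵥ z) = 0 ∧ polar ⇑Q a (gi *ᵥ z) = 0 := by
    intro z hz
    exact ⟨hz.1.2, hz.2⟩
  have hdim : Fintype.card ι ≤ Module.finrank F L₀ + 2 := by
    have h1 := finrank_cut (Q := Q) (⊤ : Submodule F (ι → F)) w
    have h2 := finrank_cut (Q := Q) (cut ⊤ Q w) a
    rw [finrank_top, Module.finrank_pi] at h1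
    have h3 : Function.Injective (Matrix.toLin' G) := fun p q hpq => by
      have := congrArg (gi *ᵥ ·) hpq
      simpa [hgig] using this
    have h4 : Module.finrank F (cut (cut ⊤ Q w) Q a) ≤ Module.finrank F L₀ := by
      rw [(Submodule.equivMapOfInjective _ h3 _).finrank_eq]
      refine Submodule.finrank_mono ?_
      rintro _ ⟨z, hz, rfl⟩
      show Matrix.toLin' gi (Matrix.toLin' G z) ∈ cut (cut ⊤ Q w) Q a
      rw [Matrix.toLin'_apply, Matrix.toLin'_apply, hgig]
      exact hz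
    omega
  have ha₁ : a₁ ∈ L₀ := ⟨⟨trivial, hwa₁⟩, haa₁⟩
  set d := G *ᵥ w with hd
  set r := polar ⇑Q (G *ᵥ a) a₁ / polar ⇑Q d a₁ with hr
  set c := G *ᵥ a - r • d with hc
  have hca : polar ⇑Q c a₁ = 0 := by
    rw [hc, QuadraticMap.polar_sub_left, polar_smul_left', hr, div_mul_cancel₀ _ hne, sub_self]
  obtain ⟨e, he, hespan⟩ : ∃ e ∈ cut (cut L₀ Q c) Q a₁, e ∉ Submodule.span F {a₁} := by
    by_contra! hall
    have h1 := Submodule.finrank_mono (show cut (cut L₀ Q c) Q a₁ ≤ Submodule.span F {a₁} from hall)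
    have h0 : a₁ ≠ 0 := fun h0 => hne (by rw [h0, QuadraticMap.polar_zero_right])
    rw [finrank_span_singleton h0] at h1
    have := finrank_cut (Q := Q) L₀ c
    have := finrank_cut (Q := Q) (cut L₀ Q c) a₁
    omega
  have he₁ : polar ⇑Q a₁ e = 0 := he.2
  have hce : polar ⇑Q c e = 0 := he.1.2
  set s := g * eg hQ hw hwa * g⁻¹ with hs
  set t := eg hQ hqa₁ he₁ with ht
  have hsM : s ∈ M := M.mul_mem (M.mul_mem hg (hS hw hwa)) (M.inv_mem hg)
  have htM : t ∈ M := hS hqa₁ he₁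
  set v := (polar ⇑Q d e - Q e * polar ⇑Q d a₁) • a₁ + (-polar ⇑Q d a₁) • e with hv
  have hv0 : v ≠ 0 := fun h0 => hespan (by
    have h1 := eq_neg_of_add_eq_zero_right h0
    exact ((Submodule.span F {a₁}).smul_mem_iff (neg_ne_zero.2 hne)).1
      (h1 ▸ neg_mem (Submodule.smul_mem _ _ (Submodule.mem_span_singleton_self _))))
  have hvL : v ∈ L₀ := L₀.add_mem (L₀.smul_mem _ ha₁) (L₀.smul_mem _ he.1.1)
  have hs_apply : ∀ z, (s : Matrix ι ι F) *ᵥ z =
      z + polar ⇑Q (gi *ᵥ z) a • d + (-polar ⇑Q (gi *ᵥ z) w) • (G *ᵥ a) := fun z => by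
    rw [hs, Units.val_mul, Units.val_mul, ← Matrix.mulVec_mulVec, ← Matrix.mulVec_mulVec, eg_mulVec hQ hw hwa,
      ha, zero_mul, sub_zero, Matrix.mulVec_add, Matrix.mulVec_add, Matrix.mulVec_smul, Matrix.mulVec_smul,
      ← hgi, ← hG, hgi, hG, Matrix.mulVec_mulVec, Units.mul_inv, Matrix.one_mulVec]
  have ht_apply : ∀ z, (t : Matrix ι ι F) *ᵥ z =
      z + (polar ⇑Q z e - Q e * polar ⇑Q z a₁) • a₁ + (-polar ⇑Q z a₁) • e := fun z => by
    rw [ht, eg_mulVec hQ hqa₁ he₁]
  have hfix : ∀ z ∈ L₀, (s : Matrix ι ι F) *ᵥ z = z := fun z hz => by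
    rw [hs_apply, QuadraticMap.polar_comm _ _ a, QuadraticMap.polar_comm _ _ w, (hL₀ z hz).1, (hL₀ z hz).2]
    module
  have htc : (t : Matrix ι ι F) *ᵥ c = c := by
    rw [ht_apply, hce, hca]
    module
  have htd : (t : Matrix ι ι F) *ᵥ d = d + v := by
    rw [ht_apply, hv, add_assoc]
  have hga : G *ᵥ a = c + r • d := by rw [hc, sub_add_cancel]
  set φ := vec Q (a - r • w) ᵥ* gi with hφ
  have hφdot : ∀ z, φ ⬝ᵥ z = polar ⇑Q (gi *ᵥ z) a - r * polar ⇑Q (gi *ᵥ z) w := fun z => by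
    rw [hφ, ← Matrix.dotProduct_mulVec, vec_dot, QuadraticMap.polar_comm _ _ (gi *ᵥ z),
      QuadraticMap.polar_sub_right, polar_smul_right']
  have hφv : φ ⬝ᵥ v = 0 := by
    rw [hφdot, QuadraticMap.polar_comm _ _ a, QuadraticMap.polar_comm _ _ w, (hL₀ v hvL).1, (hL₀ v hvL).2]
    ring
  have hsv := hfix v hvL
  have hsa₁ := hfix a₁ ha₁
  have hse := hfix e he.1.1
  clear_value s t v
  have hT : transvectionGL φ v hφv = t * s * (s * t)⁻¹ := by
    rw [eq_mul_inv_iff_mul_eq]
    refine ext_mulVec fun z => ?_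
    rw [Units.val_mul, Units.val_mul, ← Matrix.mulVec_mulVec, ← Matrix.mulVec_mulVec, Units.val_mul,
      ← Matrix.mulVec_mulVec, transvectionGL_mulVec, hs_apply z, Matrix.mulVec_add, Matrix.mulVec_add,
      Matrix.mulVec_smul, Matrix.mulVec_smul, hga, Matrix.mulVec_add, Matrix.mulVec_smul, htd, htc, ht_apply z,
      Matrix.mulVec_add, Matrix.mulVec_add, Matrix.mulVec_smul, Matrix.mulVec_smul, hsa₁, hse, hs_apply z, hga]
    have h0 : ∀ x ∈ L₀, φ ⬝ᵥ x = 0 := fun x hx => by
      rw [hφdot, QuadraticMap.polar_comm _ _ a, QuadraticMap.polar_comm _ _ w, (hL₀ x hx).1, (hL₀ x hx).2]; ring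
    simp only [dotProduct_add, dotProduct_smul, h0 a₁ ha₁, h0 e he.1.1, smul_eq_mul, mul_zero, add_zero]
    have hd0 : φ ⬝ᵥ d = 0 := by
      rw [hφdot, hd, hgig, hwa, QuadraticMap.polar_self, hw, smul_zero]; ring
    have hc0 : φ ⬝ᵥ c = 0 := by
      rw [hφdot, hc, Matrix.mulVec_sub, Matrix.mulVec_smul, hd, hgig, hgig, QuadraticMap.polar_sub_left,
        QuadraticMap.polar_sub_left, polar_smul_left', polar_smul_left', QuadraticMap.polar_self,
        QuadraticMap.polar_self, ha, hw, QuadraticMap.polar_comm _ a w, hwa]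
      simp
    simp only [dotProduct_add, dotProduct_smul, hd0, hc0, smul_eq_mul, mul_zero, add_zero, hφdot z]
    module
  obtain ⟨y, hy⟩ := vec_surjective hQ φ
  refine ⟨y, v, fun h0 => ?_, hv0, hy ▸ ⟨hφv, hT ▸ M.mul_mem (M.mul_mem htM hsM) (M.inv_mem (M.mul_mem hsM htM))⟩⟩
  have haw : a - r • w ≠ 0 := fun h => hind r (sub_eq_zero.1 h)
  refine haw (eq_of_vec hQ fun z => ?_)
  have h1 := congrArg (· ⬝ᵥ (G *ᵥ z)) hy
  rw [h0] at h1
  simp only [vec_dot, hφdot, hgig, QuadraticMap.polar_zero_left] at h1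
  rw [QuadraticMap.polar_zero_left, QuadraticMap.polar_comm _ _ z, QuadraticMap.polar_sub_right, polar_smul_right']
  exact h1.symm

theorem preserves_of_no_root [Finite F] (h2 : (2 : F) ≠ 0) (hn : 6 ≤ Fintype.card ι) (hS : HasSiegel hQ M)
    {g : Matrix.GeneralLinearGroup ι F} (hg : g ∈ M)
    (hno : ¬ ∃ y v, y ≠ 0 ∧ v ≠ 0 ∧ Root M (vec Q y) v) {u x : ι → F} (hu : Q u = 0)
    (hux : polar ⇑Q u x = 0) : polar ⇑Q ((g : Matrix ι ι F) *ᵥ u) ((g : Matrix ι ι F) *ᵥ x) = 0 := by
  by_contra hne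
  set G := (g : Matrix ι ι F) with hG
  set gi := ((g⁻¹ : Matrix.GeneralLinearGroup ι F) : Matrix ι ι F) with hgi
  have hgig : ∀ z, gi *ᵥ (G *ᵥ z) = z := fun z => by
    rw [hgi, hG, Matrix.mulVec_mulVec, Units.inv_mul, Matrix.one_mulVec]
  set d := G *ᵥ u with hd
  have hu0 : u ≠ 0 := fun h0 => hne (by simp [hd, h0])
  choose H hH using fun z => vec_surjective hQ (vec Q z ᵥ* gi)
  have hpH : ∀ z y, polar ⇑Q (H z) y = polar ⇑Q z (gi *ᵥ y) := fun z y => by
    rw [← vec_dot, hH, ← Matrix.dotProduct_mulVec, vec_dot]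
  let HL : (ι → F) →ₗ[F] (ι → F) :=
    { toFun := H
      map_add' := fun p q => eq_of_vec hQ fun y => by
        rw [hpH, QuadraticMap.polar_add_left, QuadraticMap.polar_add_left, hpH, hpH]
      map_smul' := fun k p => eq_of_vec hQ fun y => by
        rw [hpH, polar_smul_left', RingHom.id_apply, polar_smul_left', hpH] }
  have hinj : Function.Injective HL := fun p q hpq => eq_of_vec hQ fun y => by
    rw [← hgig y, ← hpH, ← hpH]
    exact congrArg (fun t => polar ⇑Q t (G *ᵥ y)) hpq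
  have hud : polar ⇑Q (H u) d = 0 := by rw [hpH, hd, hgig, QuadraticMap.polar_self, hu, smul_zero]
  -- each singular vector orthogonal to `u`
  have key : ∀ a, Q a = 0 → polar ⇑Q u a = 0 → a ∉ Submodule.span F {u} →
      H a ∈ Submodule.span F {H u, d} ∨ (polar ⇑Q (H u) (H u) = 0 ∧ polar ⇑Q (H u) (H a) = 0) := by
    intro a ha hua hau
    let S : Submodule F (ι → F) := Submodule.span F {H u, H a}
    let L₀ := perp Q S
    by_cases hd0 : ∀ y ∈ L₀, polar ⇑Q d y = 0
    · left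
      have hdS : d ∈ S := by
        rw [← perp_perp hQ S]
        exact mem_perp.2 fun y hy => (QuadraticMap.polar_comm _ _ _).trans (hd0 y hy)
      obtain ⟨α, β, hαβ⟩ := Submodule.mem_span_pair.1 hdS
      have hβ : β ≠ 0 := fun h0 => hne (by
        rw [← hαβ, h0, zero_smul, add_zero, polar_smul_left', hpH, hgig, hux, mul_zero])
      refine Submodule.mem_span_pair.2 ⟨-(β⁻¹ * α), β⁻¹, ?_⟩
      rw [← hαβ, smul_add, smul_smul, smul_smul, inv_mul_cancel₀ hβ, one_smul, neg_smul, neg_add_cancel_left]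
    · right
      push Not at hd0
      obtain ⟨y, hy, hdy⟩ := hd0
      have hmem : ∀ z ∈ L₀, polar ⇑Q u (gi *ᵥ z) = 0 ∧ polar ⇑Q a (gi *ᵥ z) = 0 := fun z hz => by
        rw [← hpH, ← hpH]
        exact ⟨mem_perp.1 hz _ (Submodule.subset_span (by simp)), mem_perp.1 hz _ (Submodule.subset_span (by simp))⟩
      have hdim : Module.finrank F S ≤ 2 := by
        classical
        refine (finrank_span_le_card ({H u, H a} : Set (ι → F))).trans ?_
        rw [Set.toFinset_insert, Set.toFinset_singleton]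
        exact Finset.card_le_two
      have hle : perp Q L₀ ≤ L₀ := perp_le_of_singular hQ h2 (d := d) (by
          have h3 := finrank_perp hQ S
          rw [Module.finrank_pi] at h3
          show _ ≤ 2 * Module.finrank F (perp Q S)
          omega) hy hdy fun a₁ ha₁ hqa₁ => by
        by_contra h1
        exact hno (exists_root_of_not_preserve hQ hn hS hg hu ha hua
          (fun c hc => hau (Submodule.mem_span_singleton.2 ⟨c, hc.symm⟩))
          (hmem a₁ ha₁).1 (hmem a₁ ha₁).2 hqa₁ h1)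
      rw [show perp Q L₀ = S from perp_perp hQ S] at hle
      have hi := hle (show H u ∈ S from Submodule.subset_span (by simp))
      have hi' := hle (show H a ∈ S from Submodule.subset_span (by simp))
      exact ⟨mem_perp.1 hi _ (Submodule.subset_span (by simp)), mem_perp.1 hi' _ (Submodule.subset_span (by simp))⟩
  have h5 : Fintype.card ι + 3 ≤ 2 * Module.finrank F (cut ⊤ Q u) := by
    have := finrank_cut (Q := Q) (⊤ : Submodule F (ι → F)) u
    rw [finrank_top, Module.finrank_pi] at this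
    omega
  have huu : polar ⇑Q (H u) (H u) = 0 := by
    by_contra huu
    let T : Submodule F (ι → F) := (Submodule.span F {H u, d}).comap HL
    have hle : cut ⊤ Q u ≤ T := le_of_singular_odd hQ h2 h5 fun a ha hqa => by
      by_cases hau : a ∈ Submodule.span F {u}
      · obtain ⟨k, rfl⟩ := Submodule.mem_span_singleton.1 hau
        show HL (k • u) ∈ Submodule.span F {H u, d}
        rw [map_smul]
        exact Submodule.smul_mem _ _ (Submodule.subset_span (show H u ∈ _ by simp))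
      · exact (key a hqa ha.2 hau).resolve_right fun h => huu h.1
    have h1 := Submodule.finrank_mono hle
    have h3 : Module.finrank F T ≤ Module.finrank F (Submodule.span F ({H u, d} : Set (ι → F))) := by
      rw [(Submodule.equivMapOfInjective HL hinj T).finrank_eq]
      exact Submodule.finrank_mono (Submodule.map_comap_le _ _)
    have h4 : Module.finrank F (Submodule.span F ({H u, d} : Set (ι → F))) ≤ 2 := by
      classical
      refine (finrank_span_le_card ({H u, d} : Set (ι → F))).trans ?_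
      rw [Set.toFinset_insert, Set.toFinset_singleton]
      exact Finset.card_le_two
    omega
  have hperp : cut ⊤ Q u ≤ LinearMap.ker ((polarBilin Q (H u)).comp HL) := le_of_singular_odd hQ h2 h5 fun a ha hqa => by
    show polar ⇑Q (H u) (H a) = 0
    by_cases hau : a ∈ Submodule.span F {u}
    · obtain ⟨k, rfl⟩ := Submodule.mem_span_singleton.1 hau
      show polar ⇑Q (H u) (HL (k • u)) = 0
      rw [map_smul, polar_smul_right', show HL u = H u from rfl, huu, mul_zero]
    · rcases key a hqa ha.2 hau with h | h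
      · obtain ⟨α, β, hαβ⟩ := Submodule.mem_span_pair.1 h
        rw [← hαβ, QuadraticMap.polar_add_right, polar_smul_right', polar_smul_right', huu, hud]
        ring
      · exact h.2
  obtain ⟨p, hp⟩ : ∃ p, polar ⇑Q u p ≠ 0 := by
    by_contra! hp
    exact hu0 (hQ.1 u hp)
  have hHud : H u = (polar ⇑Q (H u) (H p) / polar ⇑Q u p) • d := by
    refine eq_of_vec hQ fun z => ?_
    obtain ⟨z', rfl⟩ := (LinearMap.injective_iff_surjective (f := HL)).1 hinj z
    have hk : z' - (polar ⇑Q u z' / polar ⇑Q u p) • p ∈ cut ⊤ Q u := mem_cut.2 ⟨trivial, by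
      rw [QuadraticMap.polar_sub_right, polar_smul_right', div_mul_cancel₀ _ hp, sub_self]⟩
    have h1 : polar ⇑Q (H u) (HL (z' - (polar ⇑Q u z' / polar ⇑Q u p) • p)) = 0 := hperp hk
    rw [map_sub, map_smul, QuadraticMap.polar_sub_right, polar_smul_right', sub_eq_zero] at h1
    rw [h1, polar_smul_left', show HL p = H p from rfl,
      show polar ⇑Q d (HL z') = polar ⇑Q u z' by
        rw [QuadraticMap.polar_comm, show HL z' = H z' from rfl, hpH, hd, hgig, QuadraticMap.polar_comm]]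
    ring
  have h1 : polar ⇑Q (H u) (G *ᵥ x) = 0 := by rw [hpH, hgig, hux]
  rw [hHud, polar_smul_left'] at h1
  refine hne ((mul_eq_zero.1 h1).resolve_left fun h0 => hu0 ?_)
  rw [h0, zero_smul] at hHud
  exact hinj (hHud.trans (map_zero HL).symm)

/-! ### From one transvection to SL -/

omit hQ in
theorem all_of_squares (h2 : (2 : F) ≠ 0) {P : F → Prop} (hadd : ∀ a b, P a → P b → P (a + b))
    (hneg : ∀ a, P a → P (-a)) {k : F} (hk : k ≠ 0) (hsq : ∀ s : F, P (k * s ^ 2)) (c : F) : P c := by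
  have h4 : (4 : F) ≠ 0 := by
    rw [show (4 : F) = 2 * 2 by norm_num]
    exact mul_ne_zero h2 h2
  have := hadd _ _ (hsq ((c / k + 1) / 2)) (hneg _ (hsq ((c / k - 1) / 2)))
  convert this using 1
  field_simp
  ring

/-- Symmetrised Siegel move. -/
theorem exists_move [Finite F] (hS : HasSiegel hQ M) {y v : ι → F} (h : Root M (vec Q y) v)
    {u z : ι → F} (hu : Q u = 0) (hz : polar ⇑Q u z = 0) (hyu : polar ⇑Q y u = 0) (hyz : polar ⇑Q y z = 0) :
    Root M (vec Q y) ((-2 * Q z * polar ⇑Q v u) • u) := by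
  have hfix : ∀ {z} (hz : polar ⇑Q u z = 0), polar ⇑Q y z = 0 →
      (eg hQ hu hz : Matrix ι ι F) *ᵥ y = y := fun {z} hz hyz => by
    rw [eg_mulVec hQ hu hz, hyu, hyz]
    module
  have hz' : polar ⇑Q u (-z) = 0 := by rw [QuadraticMap.polar_neg_right, hz, neg_zero]
  have h1 := root_eg hQ hS h hu hz
  have h2 := root_eg hQ hS h hu hz'
  rw [hfix hz hyz] at h1
  rw [hfix hz' (by rw [QuadraticMap.polar_neg_right, hyz, neg_zero])] at h2
  have h3 := root_add_right (root_add_right h1 h2) (root_neg_right (root_add_right h h))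
  convert h3 using 1
  rw [eg_mulVec hQ hu hz, eg_mulVec hQ hu hz', QuadraticMap.polar_neg_right, QuadraticMap.map_neg]
  module

theorem exists_full [Finite F] (h2 : (2 : F) ≠ 0) (hn : 6 ≤ Fintype.card ι) (hS : HasSiegel hQ M) {y v : ι → F}
    (h : Root M (vec Q y) v) (hy0 : y ≠ 0) (hne : ∀ c : F, v ≠ c • y) :
    ∃ u, Q u = 0 ∧ u ≠ 0 ∧ (∀ k : F, Root M (vec Q (k • y)) u) ∧ polar ⇑Q y u = 0 ∧ ∀ c : F, y ≠ c • u := by
  have hyv : polar ⇑Q y v = 0 := by rw [← vec_dot]; exact h.dot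
  obtain ⟨u, hu, hyu, hvu⟩ : ∃ u, Q u = 0 ∧ polar ⇑Q y u = 0 ∧ polar ⇑Q v u ≠ 0 := by
    by_contra! hc
    have hle : cut ⊤ Q y ≤ LinearMap.ker (polarBilin Q v) := le_of_singular_odd hQ h2 (by
      have := finrank_cut (Q := Q) (⊤ : Submodule F (ι → F)) y
      rw [finrank_top, Module.finrank_pi] at this
      omega) fun u hu hqu => hc u hqu hu.2
    by_cases hy : y = 0
    · refine hne 0 (eq_of_vec hQ fun z => ?_)
      have := hle (show z ∈ cut ⊤ Q y from ⟨trivial, by simp [hy]⟩)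
      simpa using this
    obtain ⟨q, hq⟩ : ∃ q, polar ⇑Q y q ≠ 0 := by
      by_contra! hq
      exact hy (hQ.1 y hq)
    refine hne (polar ⇑Q v q / polar ⇑Q y q) (eq_of_vec hQ fun z => ?_)
    have h1 := hle (show z - (polar ⇑Q y z / polar ⇑Q y q) • q ∈ cut ⊤ Q y from mem_cut.2 ⟨trivial, by
      rw [QuadraticMap.polar_sub_right, polar_smul_right', div_mul_cancel₀ _ hq, sub_self]⟩)
    rw [LinearMap.mem_ker, QuadraticMap.polarBilin_apply_apply, QuadraticMap.polar_sub_right,
      polar_smul_right', sub_eq_zero] at h1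
    rw [polar_smul_left', h1]
    ring
  refine ⟨u, hu, fun h0 => hvu (by simp [h0]), fun k => ?_, hyu, fun c hc => hvu ?_⟩
  · have hall : ∀ c : F, Root M (vec Q y) (c • u) := by
      obtain ⟨z, hz, hqz⟩ := exists_aniso hQ (L := cut (cut ⊤ Q u) Q y) (by
        have := finrank_cut (Q := Q) (⊤ : Submodule F (ι → F)) u
        have := finrank_cut (Q := Q) (cut ⊤ Q u) y
        rw [finrank_top, Module.finrank_pi] at *
        omega)
      refine all_of_squares h2 (fun a b ha hb => by rw [add_smul]; exact root_add_right ha hb)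
        (fun a ha => by rw [neg_smul]; exact root_neg_right ha)
        (k := -2 * Q z * polar ⇑Q v u) (mul_ne_zero (mul_ne_zero (neg_ne_zero.2 h2) hqz) hvu) fun s => ?_
      have := exists_move hQ hS h hu (z := s • z)
        (by rw [polar_smul_right', show polar ⇑Q u z = 0 from hz.1.2, mul_zero]) hyu
        (by rw [polar_smul_right', show polar ⇑Q y z = 0 from hz.2, mul_zero])
      convert this using 2
      rw [apply_smul]
      ring
    rw [vec_smul]
    exact root_smul_right (hall k)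
  · have hc0 : c ≠ 0 := fun h0 => by
      exact hy0 (by rw [hc, h0, zero_smul])
    rw [hc, polar_smul_left'] at hyv
    rw [QuadraticMap.polar_comm]
    exact (mul_eq_zero.1 hyv).resolve_left hc0

theorem isCentre_of_full [Finite F] (h2 : (2 : F) ≠ 0) (hn : 6 ≤ Fintype.card ι) (hS : HasSiegel hQ M)
    {u y : ι → F} (hu : Q u = 0) (hy : ∀ k : F, Root M (vec Q (k • y)) u) (hyu : polar ⇑Q y u = 0)
    (hne : ∀ c : F, y ≠ c • u) : IsCentre M u := by
  let A : Submodule F (ι → F) :=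
    { carrier := {x | ∀ k : F, Root M (vec Q (k • x)) u}
      add_mem' := fun {p q} hp hq k => by rw [smul_add, vec_add]; exact (hp k).add (hq k)
      zero_mem' := fun k => by
        rw [smul_zero, show vec Q (0 : ι → F) = 0 from funext fun j => QuadraticMap.polar_zero_left Q _]
        exact Root.zero u
      smul_mem' := fun c p hp k => by rw [smul_smul]; exact hp _ }
  have hyA : y ∈ A := hy
  have hmove : ∀ {w z : ι → F} (hw : Q w = 0) (hz : polar ⇑Q w z = 0), polar ⇑Q u w = 0 → polar ⇑Q u z = 0 →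
      ∀ x ∈ A, (eg hQ hw hz : Matrix ι ι F) *ᵥ x ∈ A := by
    intro w z hw hz huw huz x hx k
    have := root_eg hQ hS (hx k) hw hz
    rw [Matrix.mulVec_smul] at this
    rwa [show (eg hQ hw hz : Matrix ι ι F) *ᵥ u = u by
      rw [eg_mulVec hQ hw hz, huw, huz]; module] at this
  obtain ⟨q, hqu, hyq⟩ : ∃ q, polar ⇑Q u q = 0 ∧ polar ⇑Q y q ≠ 0 := by
    by_contra! hc
    by_cases hu0 : u = 0
    · exact hne 0 ((hQ.1 y fun z => hc z (by simp [hu0])).trans (zero_smul F u).symm)
    obtain ⟨p, hp⟩ : ∃ p, polar ⇑Q u p ≠ 0 := by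
      by_contra! hp
      exact hu0 (hQ.1 u hp)
    refine hne (polar ⇑Q y p / polar ⇑Q u p) (eq_of_vec hQ fun z => ?_)
    have h1 := hc (z - (polar ⇑Q u z / polar ⇑Q u p) • p)
      (by rw [QuadraticMap.polar_sub_right, polar_smul_right', div_mul_cancel₀ _ hp, sub_self])
    rw [QuadraticMap.polar_sub_right, polar_smul_right', sub_eq_zero] at h1
    rw [polar_smul_left', h1]
    ring
  have huA : u ∈ A := by
    have h1 := A.sub_mem (hmove hu hqu (by rw [QuadraticMap.polar_self, hu, smul_zero]) hqu y hyA) hyA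
    rw [eg_mulVec hQ hu hqu, QuadraticMap.polar_comm _ y u, (QuadraticMap.polar_comm _ u y).trans hyu] at h1
    have e : y + (polar ⇑Q y q - Q q * 0) • u + (-(0 : F)) • q - y = polar ⇑Q y q • u := by module
    rw [e] at h1
    exact (A.smul_mem_iff hyq).1 h1
  obtain ⟨w, hwu, hqw, hyw⟩ : ∃ w, polar ⇑Q u w = 0 ∧ Q w = 0 ∧ polar ⇑Q y w ≠ 0 := by
    obtain ⟨w, hw, hqw, hyw⟩ := exists_singular_like hQ (L := cut ⊤ Q u) (p := q) (d := y) ⟨trivial, hqu⟩ (by
      have := finrank_cut (Q := Q) (⊤ : Submodule F (ι → F)) u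
      rw [finrank_top, Module.finrank_pi] at this
      omega)
    exact ⟨w, hw.2, hqw, hyw ▸ hyq⟩
  have hpm : ∀ z, polar ⇑Q u z = 0 → polar ⇑Q w z = 0 →
      (-2 * Q z * polar ⇑Q y w) • w ∈ A ∧
      (2 * polar ⇑Q y z) • w + (-2 * polar ⇑Q y w) • z ∈ A := by
    intro z huz hwz
    have hz' : polar ⇑Q w (-z) = 0 := by rw [QuadraticMap.polar_neg_right, hwz, neg_zero]
    have h1 := hmove hqw hwz hwu huz y hyA
    have h2 := hmove hqw hz' hwu (by rw [QuadraticMap.polar_neg_right, huz, neg_zero]) y hyA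
    rw [eg_mulVec hQ hqw hwz] at h1
    rw [eg_mulVec hQ hqw hz', QuadraticMap.polar_neg_right, QuadraticMap.map_neg] at h2
    refine ⟨?_, ?_⟩
    · convert A.sub_mem (A.sub_mem (A.add_mem h1 h2) hyA) hyA using 1
      module
    · convert A.sub_mem h1 h2 using 1
      module
  have hwA : w ∈ A := by
    obtain ⟨z, hz, hqz⟩ := exists_aniso hQ (L := cut (cut ⊤ Q u) Q w) (by
      have := finrank_cut (Q := Q) (⊤ : Submodule F (ι → F)) u
      have := finrank_cut (Q := Q) (cut ⊤ Q u) w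
      rw [finrank_top, Module.finrank_pi] at *
      omega)
    have h1 := (hpm z hz.1.2 hz.2).1
    exact (A.smul_mem_iff (mul_ne_zero (mul_ne_zero (neg_ne_zero.2 h2) hqz) hyw)).1 h1
  have hall : ∀ x, polar ⇑Q u x = 0 → x ∈ A := by
    intro x hx
    set k := polar ⇑Q w x / polar ⇑Q w y
    have hwy : polar ⇑Q w y ≠ 0 := by rwa [QuadraticMap.polar_comm]
    have h1 := (hpm (x - k • y)
      (by rw [QuadraticMap.polar_sub_right, polar_smul_right', hx, QuadraticMap.polar_comm _ u y, hyu]; ring)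
      (by rw [QuadraticMap.polar_sub_right, polar_smul_right', div_mul_cancel₀ _ hwy, sub_self])).2
    have h2 := (A.smul_mem_iff (mul_ne_zero (neg_ne_zero.2 h2) hyw)).1
      ((A.add_mem_iff_right (A.smul_mem _ hwA)).1 h1)
    simpa using A.add_mem h2 (A.smul_mem k hyA)
  intro φ hφ
  obtain ⟨x, rfl⟩ := vec_surjective hQ φ
  have := hall x (by rw [QuadraticMap.polar_comm, ← vec_dot]; exact hφ) 1
  rw [one_smul] at this
  exact this.2

theorem specialLinear_le_of_centre [Finite F] (h2 : (2 : F) ≠ 0) (hn : 6 ≤ Fintype.card ι) (hS : HasSiegel hQ M)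
    {u : ι → F} (hu0 : u ≠ 0) (hcen : IsCentre M u) : Cfsg.Geo.specialLinear ι F ≤ M := by
  haveI : Nontrivial ι := Fintype.one_lt_card_iff_nontrivial.1 (by omega)
  have hzero : IsCentre M (0 : ι → F) := fun φ hφ => by
    convert M.one_mem using 1
    refine ext_mulVec fun z => ?_
    rw [transvectionGL_mulVec, smul_zero, add_zero, Units.val_one, Matrix.one_mulVec]
  let S : Submodule F (ι → F) :=
    { carrier := {u | IsCentre M u}
      add_mem' := fun {a b} ha hb => by
        by_cases hab : a ∈ Submodule.span F {b}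
        · obtain ⟨k, rfl⟩ := Submodule.mem_span_singleton.1 hab
          rcases eq_or_ne (k + 1) 0 with h0 | h0
          · show IsCentre M (k • b + b)
            rw [show k • b + b = (k + 1) • b from by rw [add_smul, one_smul], h0, zero_smul]
            exact hzero
          · show IsCentre M (k • b + b)
            rw [show k • b + b = (k + 1) • b from by rw [add_smul, one_smul]]
            exact IsCentre.smul hb _ h0
        · obtain ⟨φ, h0, h1⟩ := exists_functional b a hab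
          have := IsCentre.map ha (hb φ h0)
          rw [transvectionGL_mulVec, h1, one_smul] at this
          exact this
      zero_mem' := hzero
      smul_mem' := fun k a ha => by
        rcases eq_or_ne k 0 with rfl | hk
        · show IsCentre M ((0 : F) • a)
          rw [zero_smul]
          exact hzero
        · exact IsCentre.smul ha k hk }
  have hstep : ∀ a w, a ∈ S → Q w = 0 → polar ⇑Q a w ≠ 0 → w ∈ S := by
    intro a w ha hw hne
    obtain ⟨z, hz₀, hqz⟩ := exists_aniso hQ (L := cut ⊤ Q w) (by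
      have := finrank_cut (Q := Q) (⊤ : Submodule F (ι → F)) w
      rw [finrank_top, Module.finrank_pi] at *
      omega)
    have hz : polar ⇑Q w z = 0 := hz₀.2
    have hz' : polar ⇑Q w (-z) = 0 := by rw [QuadraticMap.polar_neg_right, hz, neg_zero]
    have h1 : (eg hQ hw hz : Matrix ι ι F) *ᵥ a ∈ S := IsCentre.map ha (hS hw hz)
    have h1' : (eg hQ hw hz' : Matrix ι ι F) *ᵥ a ∈ S := IsCentre.map ha (hS hw hz')
    rw [eg_mulVec hQ hw hz] at h1
    rw [eg_mulVec hQ hw hz', QuadraticMap.polar_neg_right, QuadraticMap.map_neg] at h1'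
    refine (S.smul_mem_iff (mul_ne_zero (mul_ne_zero (neg_ne_zero.2 h2) hqz) hne)).1 ?_
    convert S.sub_mem (S.sub_mem (S.add_mem h1 h1') ha) ha using 1
    module
  have hStop : (⊤ : Submodule F (ι → F)) ≤ S :=
    le_of_singular_odd hQ h2 (by rw [finrank_top, Module.finrank_pi]; omega) fun w _ hw => by
      rcases eq_or_ne w 0 with rfl | hw0
      · exact S.zero_mem
      obtain ⟨p, hup, hwp⟩ : ∃ p, polar ⇑Q u p ≠ 0 ∧ polar ⇑Q w p ≠ 0 := by
        obtain ⟨a, ha⟩ : ∃ a, polar ⇑Q u a ≠ 0 := by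
          by_contra! hc
          exact hu0 (hQ.1 u hc)
        obtain ⟨b, hb⟩ : ∃ b, polar ⇑Q w b ≠ 0 := by
          by_contra! hc
          exact hw0 (hQ.1 w hc)
        by_cases h₁ : polar ⇑Q w a = 0
        · by_cases h₂' : polar ⇑Q u b = 0
          · exact ⟨a + b, by rw [QuadraticMap.polar_add_right, h₂', add_zero]; exact ha,
              by rw [QuadraticMap.polar_add_right, h₁, zero_add]; exact hb⟩
          · exact ⟨b, h₂', hb⟩
        · exact ⟨a, ha, h₁⟩
      obtain ⟨z, hq, hzu, hzw⟩ := exists_singular_two hQ hn u w p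
      refine hstep _ w (hstep u _ hcen hq (by rwa [hzu])) hw ?_
      rw [QuadraticMap.polar_comm, hzw]
      exact hwp
  exact specialLinear_le_of_centres M fun u => hStop Submodule.mem_top

theorem exists_root_indep [Finite F] (h2 : (2 : F) ≠ 0) (hn : 6 ≤ Fintype.card ι) (hS : HasSiegel hQ M)
    {y v : ι → F} (hy : y ≠ 0) (hv : v ≠ 0) (h : Root M (vec Q y) v) :
    ∃ y' v', Root M (vec Q y') v' ∧ y' ≠ 0 ∧ ∀ c : F, v' ≠ c • y' := by
  by_cases hpar : ∀ c : F, v ≠ c • y
  · exact ⟨y, v, h, hy, hpar⟩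
  push Not at hpar
  obtain ⟨c, rfl⟩ := hpar
  have hc : c ≠ 0 := fun h0 => hv (by rw [h0, zero_smul])
  have hqy : Q y = 0 := by
    have := h.dot
    rw [vec_dot, polar_smul_right', QuadraticMap.polar_self, nsmul_eq_mul, Nat.cast_ofNat] at this
    exact ((mul_eq_zero.1 ((mul_eq_zero.1 this).resolve_left hc))).resolve_left h2
  obtain ⟨q, hq⟩ : ∃ q, polar ⇑Q y q ≠ 0 := by
    by_contra! hq
    exact hy (hQ.1 y hq)
  obtain ⟨u, -, hu, hyu⟩ := exists_singular_like hQ (L := ⊤) (p := q) (d := y) trivial (by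
    rw [finrank_top, Module.finrank_pi]; omega)
  obtain ⟨z, hz₀, hqz⟩ := exists_aniso hQ (L := cut (cut ⊤ Q u) Q y) (by
    have := finrank_cut (Q := Q) (⊤ : Submodule F (ι → F)) u
    have := finrank_cut (Q := Q) (cut ⊤ Q u) y
    rw [finrank_top, Module.finrank_pi] at *
    omega)
  have hz : polar ⇑Q u z = 0 := hz₀.1.2
  have hyz : polar ⇑Q y z = 0 := hz₀.2
  set E := eg hQ hu hz with hE
  set y₂ := (E : Matrix ι ι F) *ᵥ y with hy₂
  have hpair : polar ⇑Q y y₂ = -(Q z * polar ⇑Q y u ^ 2) := by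
    rw [hy₂, hE, eg_mulVec hQ hu hz]
    simp only [QuadraticMap.polar_add_right, QuadraticMap.polar_smul_right, smul_eq_mul, QuadraticMap.polar_self,
      hqy, hyz]
    ring
  have hq₂ : Q y₂ = 0 := by rw [hy₂, hE, eg_isometry hQ hu hz, hqy]
  have hp0 : polar ⇑Q y y₂ ≠ 0 := by
    rw [hpair, hyu]
    exact neg_ne_zero.2 (mul_ne_zero hqz (pow_ne_zero _ hq))
  have h₂ : Root M (vec Q y₂) (c • y₂) := by
    have := root_eg hQ hS h hu hz
    rwa [Matrix.mulVec_smul] at this
  have h₁' : Root M (c • vec Q y) y := root_smul_right h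
  obtain ⟨hd, hmem⟩ := root_smul_right h₂
  set g := transvectionGL (c • vec Q y₂) y₂ hd with hg
  set k := c * polar ⇑Q y₂ y with hk
  have hgy : (g : Matrix ι ι F) *ᵥ y = y + k • y₂ := by
    rw [hg, transvectionGL_mulVec, smul_dotProduct, vec_dot, smul_eq_mul]
  have hk0 : k ≠ 0 := by
    rw [hk, QuadraticMap.polar_comm]
    exact mul_ne_zero hc hp0
  have h3 := h₁'.conj hmem
  rw [hgy] at h3
  refine ⟨c • (y - k • y₂), y + k • y₂, ?_, smul_ne_zero hc fun h0 => hp0 ?_, fun d hd' => ?_⟩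
  · convert h3 using 1
    refine eq_of_dot fun z => ?_
    rw [← Matrix.dotProduct_mulVec, smul_dotProduct, vec_dot, vec_dot, polar_smul_left', smul_eq_mul]
    congr 1
    set z' := ((g⁻¹ : Matrix.GeneralLinearGroup ι F) : Matrix ι ι F) *ᵥ z with hz'
    have ez : z = (g : Matrix ι ι F) *ᵥ z' := by
      rw [hz', Matrix.mulVec_mulVec, Units.mul_inv, Matrix.one_mulVec]
    rw [ez, hg, transvectionGL_mulVec, smul_dotProduct, vec_dot]
    simp only [QuadraticMap.polar_add_right, QuadraticMap.polar_smul_right, QuadraticMap.polar_sub_left,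
      QuadraticMap.polar_smul_left, smul_eq_mul, QuadraticMap.polar_self, hq₂, hk,
      QuadraticMap.polar_comm (⇑Q) y₂ y]
    ring
  · have := congrArg (fun z => polar ⇑Q y z) h0
    simp [QuadraticMap.polar_sub_right, QuadraticMap.polar_self, hqy, hk0] at this
    exact this
  · have e1 := congrArg (fun z => polar ⇑Q y₂ z) hd'
    have e2 := congrArg (fun z => polar ⇑Q y z) hd'
    simp only [QuadraticMap.polar_add_right, QuadraticMap.polar_smul_right, QuadraticMap.polar_sub_right,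
      smul_eq_mul, QuadraticMap.polar_self, hq₂, hqy, QuadraticMap.polar_comm (⇑Q) y₂ y] at e1 e2
    have a1 : (1 - d * c) * polar ⇑Q y y₂ = 0 := by linear_combination e1
    have a2 : k * polar ⇑Q y y₂ * (1 + d * c) = 0 := by linear_combination e2
    have b1 := (mul_eq_zero.1 a1).resolve_right hp0
    have b2 := (mul_eq_zero.1 a2).resolve_left (mul_ne_zero hk0 hp0)
    exact h2 (by linear_combination b1 + b2)

/-- Orthogonal similitudes are maximal in SL. -/
theorem isMaximalIn_similitude [Finite F] (h2 : (2 : F) ≠ 0) (hn : 6 ≤ Fintype.card ι) :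
    Cfsg.Geo.IsMaximalIn (Cfsg.Geo.specialLinear ι F)
      (Cfsg.Geo.quadSimilarityGroup (⇑Q) ⊓ Cfsg.Geo.specialLinear ι F) := by
  refine ⟨lt_of_le_of_ne inf_le_right fun heq => ?_, fun M hM hMS => ?_⟩
  · obtain ⟨e, -, f, -, hqe, hqf, hef⟩ := exists_hyp hQ (L := ⊤) (by rw [finrank_top, Module.finrank_pi]; omega)
    obtain ⟨z, hz₀, hqz⟩ := exists_aniso hQ (L := cut (cut ⊤ Q e) Q f) (by
      have := finrank_cut (Q := Q) (⊤ : Submodule F (ι → F)) e
      have := finrank_cut (Q := Q) (cut ⊤ Q e) f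
      rw [finrank_top, Module.finrank_pi] at *
      omega)
    have hez : polar ⇑Q e z = 0 := hz₀.1.2
    have hfz : polar ⇑Q f z = 0 := hz₀.2
    have hd : vec Q z ⬝ᵥ e = 0 := by rw [vec_dot, QuadraticMap.polar_comm, hez]
    obtain ⟨c, hc⟩ := (heq.ge (transvectionGL_mem_specialLinear _ _ hd)).1
    have h1 := hc (e + f)
    have h3 := hc (f + z)
    simp only [transvectionGL_mulVec, vec_dot, QuadraticMap.polar_add_right, QuadraticMap.polar_comm (⇑Q) z e, hez,
      QuadraticMap.polar_comm (⇑Q) z f, hfz, zero_add, add_zero, zero_smul, apply_add, apply_smul, hqe, hqf, hef,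
      QuadraticMap.polar_self, QuadraticMap.polar_add_left, polar_smul_right', QuadraticMap.polar_comm (⇑Q) f e,
      nsmul_eq_mul, Nat.cast_ofNat, mul_zero, mul_one] at h1 h3
    rw [← h1, one_mul] at h3
    exact mul_ne_zero h2 hqz (by linear_combination h3)
  refine (eq_or_lt_of_le hM).imp Eq.symm fun hlt => le_antisymm hMS ?_
  have hS : HasSiegel hQ M := fun {w a} hw ha => hM (eg_mem hQ h2 hw ha)
  obtain ⟨g, hgM, hgn⟩ := SetLike.exists_of_lt hlt
  by_cases hroot : ∃ y v, y ≠ 0 ∧ v ≠ 0 ∧ Root M (vec Q y) v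
  · obtain ⟨y, v, hy, hv, h⟩ := hroot
    obtain ⟨y', v', h', hy', hne'⟩ := exists_root_indep hQ h2 hn hS hy hv h
    obtain ⟨u, hu, hu0, hfull, hyu, hne⟩ := exists_full hQ h2 hn hS h' hy' hne'
    refine specialLinear_le_of_centre hQ h2 hn hS hu0 (isCentre_of_full hQ h2 hn hS hu hfull hyu hne)
  exfalso
  apply hgn
  refine ⟨?_, hMS hgM⟩
  set G := (g : Matrix ι ι F) with hG
  set gi := ((g⁻¹ : Matrix.GeneralLinearGroup ι F) : Matrix ι ι F) with hgi
  have hgg : ∀ z, G *ᵥ (gi *ᵥ z) = z := fun z => by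
    rw [hG, hgi, Matrix.mulVec_mulVec, Units.mul_inv, Matrix.one_mulVec]
  have hpres : ∀ u x, Q u = 0 → polar ⇑Q u x = 0 → polar ⇑Q (G *ᵥ u) (G *ᵥ x) = 0 := fun u x =>
    preserves_of_no_root hQ h2 hn hS hgM hroot
  have hd : ∀ u, Q u = 0 → u ≠ 0 → ∃ d : F, ∀ x, polar ⇑Q (G *ᵥ u) (G *ᵥ x) = d * polar ⇑Q u x := by
    intro u hu hu0
    obtain ⟨p, hp⟩ : ∃ p, polar ⇑Q u p ≠ 0 := by
      by_contra! hp
      exact hu0 (hQ.1 u hp)
    refine ⟨polar ⇑Q (G *ᵥ u) (G *ᵥ p) / polar ⇑Q u p, fun x => ?_⟩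
    have h1 := hpres u (x - (polar ⇑Q u x / polar ⇑Q u p) • p) hu
      (by rw [QuadraticMap.polar_sub_right, polar_smul_right', div_mul_cancel₀ _ hp, sub_self])
    rw [Matrix.mulVec_sub, Matrix.mulVec_smul, QuadraticMap.polar_sub_right, polar_smul_right', sub_eq_zero] at h1
    rw [h1]
    ring
  choose d hd using hd
  obtain ⟨u₀, -, v₀, -, hu₀, -, huv₀⟩ := exists_hyp hQ (L := ⊤) (by rw [finrank_top, Module.finrank_pi]; omega)
  have hu₀0 : u₀ ≠ 0 := fun h0 => by simp [h0] at huv₀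
  set c := d u₀ hu₀ hu₀0 with hcdef
  have hedge : ∀ u w (hu : Q u = 0) (hu0 : u ≠ 0) (hw : Q w = 0) (hw0 : w ≠ 0), polar ⇑Q u w ≠ 0 →
      d u hu hu0 = d w hw hw0 := by
    intro u w hu hu0 hw hw0 hne
    have e1 := hd u hu hu0 w
    have e2 := hd w hw hw0 u
    rw [QuadraticMap.polar_comm, e1, QuadraticMap.polar_comm _ w u] at e2
    exact mul_right_cancel₀ hne e2
  let P : Submodule F (ι → F) :=
    { carrier := {u | ∀ x, polar ⇑Q (G *ᵥ u) (G *ᵥ x) = c * polar ⇑Q u x}
      add_mem' := fun {a b} ha hb x => by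
        rw [Matrix.mulVec_add, QuadraticMap.polar_add_left, ha x, hb x, QuadraticMap.polar_add_left, mul_add]
      zero_mem' := fun x => by simp
      smul_mem' := fun k a ha x => by
        rw [Matrix.mulVec_smul, polar_smul_left', ha x, polar_smul_left']
        ring }
  have hP : (⊤ : Submodule F (ι → F)) ≤ P :=
    le_of_singular_odd hQ h2 (by rw [finrank_top, Module.finrank_pi]; omega) fun u _ hu x => by
      rcases eq_or_ne u 0 with rfl | hu0
      · exact P.zero_mem x
      suffices e : d u hu hu0 = c by rw [hd u hu hu0 x, e]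
      obtain ⟨p, h1, h1'⟩ : ∃ p, polar ⇑Q u p ≠ 0 ∧ polar ⇑Q u₀ p ≠ 0 := by
        obtain ⟨a, ha⟩ : ∃ a, polar ⇑Q u a ≠ 0 := by
          by_contra! hc
          exact hu0 (hQ.1 u hc)
        by_cases h₁ : polar ⇑Q u₀ a = 0
        · by_cases h₂' : polar ⇑Q u v₀ = 0
          · exact ⟨a + v₀, by rw [QuadraticMap.polar_add_right, h₂', add_zero]; exact ha,
              by rw [QuadraticMap.polar_add_right, h₁, zero_add, huv₀]; exact one_ne_zero⟩
          · exact ⟨v₀, h₂', by rw [huv₀]; exact one_ne_zero⟩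
        · exact ⟨a, ha, h₁⟩
      obtain ⟨z, hqz, hzu, hzw⟩ := exists_singular_two hQ hn u u₀ p
      have hz0 : z ≠ 0 := fun h0 => h1 (by rw [← hzu, h0, QuadraticMap.polar_zero_right])
      rw [hcdef, hedge u z hu hu0 hqz hz0 (by rwa [hzu]),
        hedge u₀ z hu₀ hu₀0 hqz hz0 (by rwa [hzw])]
  have hc0 : c ≠ 0 := fun h0 => by
    have hGu : G *ᵥ u₀ ≠ 0 := fun h => hu₀0 (by
      have := congrArg (gi *ᵥ ·) h
      simpa [hgi, hG, Matrix.mulVec_mulVec] using this)
    refine hGu (hQ.1 _ fun z => ?_)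
    rw [QuadraticMap.polarBilin_apply_apply, ← hgg z, hP (Submodule.mem_top (x := u₀)), h0, zero_mul]
  refine ⟨Units.mk0 c hc0, fun v => ?_⟩
  have := hP (Submodule.mem_top (x := v)) v
  rw [QuadraticMap.polar_self, QuadraticMap.polar_self, ← Nat.cast_smul_eq_nsmul F, ← Nat.cast_smul_eq_nsmul F] at this
  simp only [Nat.cast_ofNat, smul_eq_mul] at this
  rw [Units.val_mk0]
  exact mul_left_cancel₀ h2 (by linear_combination this)

end CfsgLib.Geo.QuadSim
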