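/-
Symplectic groups over a subfield of prime degree are maximal in Sp.
-/
import Cfsg.Agent.Lib.Geo.SympMaximal
import Cfsg.Agent.Lib.Geo.SLTwoGenerate
import Cfsg.Agent.Lib.Classical.Dickson.MaxExist
import Cfsg.Agent.Lib.Classical.Symplectic.Matrix
import Cfsg.Prelude.Def_GeometricClasses

set_option autoImplicit false

namespace CfsgLib.Geo.SympSubfield

open LinearMap (BilinForm)
open CfsgLib.Classical CfsgLib.Classical.Symp

variable {F : Type*} [Field F]

/-! ### Finite fields -/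

theorem mem_all_of_closed [Fintype F] {F₀ : Subfield F} {r : ℕ} (hr : r.Prime)
    (hcard : Fintype.card F = Nat.card F₀ ^ r) {S : Set F} (h₀ : ∀ c ∈ F₀, c ∈ S)
    (hadd : ∀ c ∈ S, ∀ d ∈ S, c + d ∈ S) (hmul : ∀ c ∈ S, ∀ d ∈ S, c * d ∈ S)
    {σ : F} (hσS : σ ∈ S) (hσ : σ ∉ F₀) (c : F) : c ∈ S := by
  have hpow : ∀ {x}, x ∈ S → ∀ e : ℕ, x ^ e ∈ S := fun {x} hx e => by
    induction e with
    | zero => simpa using h₀ 1 (one_mem _)
    | succ e ih => rw [pow_succ]; exact hmul _ ih _ hx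
  let K : Subfield F :=
    { carrier := S
      one_mem' := h₀ 1 (one_mem _)
      zero_mem' := h₀ 0 (zero_mem _)
      add_mem' := fun hc hd => hadd _ hc _ hd
      mul_mem' := fun hc hd => hmul _ hc _ hd
      neg_mem' := fun {x} hx => by
        have := hmul _ (h₀ (-1) (neg_mem (one_mem _))) _ hx
        rwa [neg_one_mul] at this
      inv_mem' := fun x hx => by
        by_cases h0 : x = 0
        · simpa [h0] using h₀ 0 (zero_mem _)
        · have e : x⁻¹ = x ^ (Fintype.card F - 2) := by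
            refine inv_eq_of_mul_eq_one_right ?_
            have h2 : 2 ≤ Fintype.card F := Fintype.one_lt_card
            rw [← pow_succ', show Fintype.card F - 2 + 1 = Fintype.card F - 1 by omega]
            exact FiniteField.pow_card_sub_one_eq_one x h0
          rw [e]
          exact hpow hx _ }
  have hle : F₀ ≤ K := h₀
  have hKF : Nat.card K = Fintype.card F := by
    rcases CfsgLib.Classical.Dickson.subfield_card_cases hr Finite.one_lt_card hcard.symm rfl hle with h | h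
    · have : F₀ = K := SetLike.coe_injective (Set.eq_of_subset_of_ncard_le hle (by
        rw [← Nat.card_coe_set_eq, ← Nat.card_coe_set_eq, SetLike.coe_sort_coe, SetLike.coe_sort_coe, h]))
      exact absurd (this ▸ (hσS : σ ∈ K)) hσ
    · exact h
  obtain ⟨x, rfl⟩ := ((Nat.bijective_iff_injective_and_card (Subtype.val : K → F)).2
    ⟨Subtype.val_injective, by rw [hKF, Nat.card_eq_fintype_card]⟩).2 c
  exact x.2

theorem mem_of_sq_mem [Fintype F] {F₀ : Subfield F} {r : ℕ} (hr : r.Prime)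
    (hcard : Fintype.card F = Nat.card F₀ ^ r) (hr2 : 2 < r) {δ : F} (hδ : δ ^ 2 ∈ F₀) : δ ∈ F₀ := by
  by_contra hne
  let f : F₀ × F₀ → F := fun p => (p.1 : F) + (p.2 : F) * δ
  have hall : Function.Surjective f := fun c =>
    mem_all_of_closed hr hcard (S := Set.range f)
      (fun x hx => ⟨(⟨x, hx⟩, 0), by simp [f]⟩)
      (by
        rintro _ ⟨p, rfl⟩ _ ⟨q, rfl⟩
        exact ⟨p + q, by simp [f]; ring⟩)
      (by
        rintro _ ⟨p, rfl⟩ _ ⟨q, rfl⟩
        exact ⟨(p.1 * q.1 + p.2 * q.2 * ⟨δ ^ 2, hδ⟩, p.1 * q.2 + p.2 * q.1), by simp [f]; ring⟩)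
      ⟨(0, 1), by simp [f]⟩ hne c
  have h1 := Nat.card_le_card_of_surjective f hall
  rw [Nat.card_prod, Nat.card_eq_fintype_card (α := F), hcard, ← sq] at h1
  exact absurd ((Nat.pow_le_pow_iff_right (Finite.one_lt_card : 1 < Nat.card F₀)).1 h1) (by omega)

/-! ### The Siegel elements -/

variable {V : Type*} [AddCommGroup V] [Module F V] {B : BilinForm F V}

/-- The Siegel element of an orthogonal pair. -/
def sel (hA : B.IsAlt) (a b : V) (σ : F) : Sp B := tr hA (a + b) σ * tr hA a (-σ) * tr hA b (-σ)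

theorem sel_apply (hA : B.IsAlt) {a b : V} (h : B a b = 0) (σ : F) (v : V) :
    (sel hA a b σ : V ≃ₗ[F] V) v = v + σ • (B v a • b + B v b • a) := by
  have h' : B b a = 0 := by rw [swap hA a b, h, neg_zero]
  simp only [sel, Subgroup.coe_mul, LinearEquiv.mul_apply, tr_apply, map_add, map_neg, LinearMap.map_smul,
    LinearMap.add_apply, LinearMap.smul_apply, smul_eq_mul, hA a, hA b, h, h', mul_zero, add_zero,
    LinearEquiv.map_smul]
  module

theorem sp_ext {g h : Sp B} (hh : ∀ v, (g : V ≃ₗ[F] V) v = (h : V ≃ₗ[F] V) v) : g = h :=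
  Subtype.ext (LinearEquiv.ext hh)

theorem sel_symm (hA : B.IsAlt) {a b : V} (h : B a b = 0) (σ : F) : sel hA a b σ = sel hA b a σ :=
  sp_ext fun v => by rw [sel_apply hA h, sel_apply hA (by rw [swap hA a b, h, neg_zero]), add_comm (B v a • b)]

theorem sel_conj (hA : B.IsAlt) (g : Sp B) (a b : V) (σ : F) :
    g * sel hA a b σ * g⁻¹ = sel hA ((g : V ≃ₗ[F] V) a) ((g : V ≃ₗ[F] V) b) σ := by
  unfold sel
  rw [← map_add, ← conj_tr, ← conj_tr, ← conj_tr]
  group

theorem sel_mul (hA : B.IsAlt) {a b : V} (h : B a b = 0) (σ τ : F) :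
    sel hA a b σ * sel hA a b τ = sel hA a b (σ + τ) := by
  have h' : B b a = 0 := by rw [swap hA a b, h, neg_zero]
  refine sp_ext fun v => ?_
  simp only [Subgroup.coe_mul, LinearEquiv.mul_apply, sel_apply hA h, map_add, LinearMap.map_smul,
    LinearMap.add_apply, LinearMap.smul_apply, smul_eq_mul, hA a, hA b, h, h', mul_zero, add_zero]
  module

theorem sel_zero_scalar (hA : B.IsAlt) {a b : V} (h : B a b = 0) : sel hA a b 0 = 1 :=
  sp_ext fun v => by simp [sel_apply hA h]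

theorem sel_zero_left (hA : B.IsAlt) (b : V) (σ : F) : sel hA 0 b σ = 1 :=
  sp_ext fun v => by simp [sel_apply hA (show B 0 b = 0 by simp)]

theorem sel_comm_formula (hA : B.IsAlt) {x a y b : V} (μ ν : F) (hxa : B x a = 0) (hxy : B x y = 0)
    (hxb : B x b = 0) (hay : B a y = 0) (hyb : B y b = 0) (hab : B a b = 1) :
    sel hA x a μ * sel hA y b ν * (sel hA x a μ)⁻¹ = sel hA y b ν * sel hA x y (-(μ * ν)) := by
  have e1 : B y x = 0 := by rw [swap hA x y, hxy, neg_zero]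
  have e2 : B b x = 0 := by rw [swap hA x b, hxb, neg_zero]
  have e3 : B y a = 0 := by rw [swap hA a y, hay, neg_zero]
  have e4 : B b y = 0 := by rw [swap hA y b, hyb, neg_zero]
  have e5 : B b a = -1 := by rw [swap hA a b, hab]
  rw [sel_conj, sel_apply hA hxa, sel_apply hA hxa, e1, e2, e3, e5]
  have hy : y + μ • ((0 : F) • a + (0 : F) • x) = y := by module
  rw [hy]
  refine sp_ext fun v => ?_
  have hb' : B y (b + μ • ((0 : F) • a + (-1 : F) • x)) = 0 := by simp [hyb, e1]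
  simp only [Subgroup.coe_mul, LinearEquiv.mul_apply, sel_apply hA hyb, sel_apply hA hxy, sel_apply hA hb',
    map_add, LinearMap.map_smul, LinearMap.add_apply, LinearMap.smul_apply, smul_eq_mul, hA x, hA y, hA b, hxy,
    hyb, hxb, e1, e2, e4, mul_zero, add_zero, zero_mul]
  module

theorem tr_add_smul (hA : B.IsAlt) {u w : V} (h : B u w = 0) (t c : F) :
    tr hA (u + t • w) c = tr hA u c * (tr hA w (c * t ^ 2) * sel hA u w (c * t)) := by
  have h' : B w u = 0 := by rw [swap hA u w, h, neg_zero]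
  refine sp_ext fun v => ?_
  simp only [Subgroup.coe_mul, LinearEquiv.mul_apply, tr_apply, sel_apply hA h, map_add, LinearMap.map_smul,
    LinearMap.add_apply, LinearMap.smul_apply, smul_eq_mul, hA u, hA w, h, h', mul_zero, add_zero]
  module

/-! ### Vectors rational over the subfield -/

variable {ι : Type*} [Fintype ι]

/-- All coordinates in the subfield. -/
def Rat (b : Module.Basis ι F V) (F₀ : Subfield F) (x : V) : Prop := ∀ i, b.repr x i ∈ F₀

/-- The form takes values in the subfield on the basis. -/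
structure Struct (B : BilinForm F V) (b : Module.Basis ι F V) (F₀ : Subfield F) (m : ℕ) : Prop where
  alt : B.IsAlt
  nondeg : B.Nondegenerate
  val : ∀ i j, B (b i) (b j) ∈ F₀
  card : Fintype.card ι = 2 * m

variable {b : Module.Basis ι F V} {F₀ : Subfield F} {m : ℕ}

theorem Rat.zero : Rat b F₀ (0 : V) := fun i => by simp [zero_mem]

theorem Rat.add {x y : V} (hx : Rat b F₀ x) (hy : Rat b F₀ y) : Rat b F₀ (x + y) := fun i => by
  simpa using add_mem (hx i) (hy i)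

theorem Rat.smul {c : F} (hc : c ∈ F₀) {x : V} (hx : Rat b F₀ x) : Rat b F₀ (c • x) := fun i => by
  simpa using mul_mem hc (hx i)

theorem Rat.sub {x y : V} (hx : Rat b F₀ x) (hy : Rat b F₀ y) : Rat b F₀ (x - y) := fun i => by
  simpa using sub_mem (hx i) (hy i)

theorem rat_basis (i : ι) : Rat b F₀ (b i) := fun j => by
  classical
  rw [b.repr_self, Finsupp.single_apply]
  split_ifs
  · exact one_mem _
  · exact zero_mem _

theorem rat_sum {κ : Type*} (s : Finset κ) {f : κ → V} (hf : ∀ k ∈ s, Rat b F₀ (f k)) :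
    Rat b F₀ (∑ k ∈ s, f k) := fun i => by
  rw [map_sum, Finsupp.finset_sum_apply]
  exact sum_mem fun k hk => hf k hk i

/-- The rational vector with given coordinates. -/
noncomputable def emb (b : Module.Basis ι F V) (F₀ : Subfield F) (c : ι → F₀) : V := ∑ i, (c i : F) • b i

theorem rat_emb (c : ι → F₀) : Rat b F₀ (emb b F₀ c) :=
  rat_sum _ fun i _ => (rat_basis i).smul (c i).2

theorem emb_injective : Function.Injective (emb b F₀) := fun c d h => funext fun i => Subtype.ext (by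
  have := congrArg (fun x => b.repr x i) h
  simp only [emb, b.repr_sum_self] at this
  exact this)

theorem exists_emb {x : V} (hx : Rat b F₀ x) : ∃ c, emb b F₀ c = x :=
  ⟨fun i => ⟨b.repr x i, hx i⟩, b.sum_repr x⟩

theorem Struct.bil (hs : Struct B b F₀ m) {x y : V} (hx : Rat b F₀ x) (hy : Rat b F₀ y) : B x y ∈ F₀ := by
  rw [← b.sum_repr x, ← b.sum_repr y]
  simp only [map_sum, LinearMap.sum_apply, LinearMap.map_smul, LinearMap.smul_apply, smul_eq_mul]
  exact sum_mem fun i _ => sum_mem fun j _ => mul_mem (hx _) (mul_mem (hy _) (hs.val _ _))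

theorem Struct.ext (hs : Struct B b F₀ m) {x y : V} (h : ∀ i, B x (b i) = B y (b i)) : x = y := by
  have e : B x = B y := b.ext h
  rw [← sub_eq_zero]
  exact hs.nondeg.1 _ fun z => by rw [map_sub, LinearMap.sub_apply, e, sub_self]

theorem Struct.rat_of_bil [Finite F] (hs : Struct B b F₀ m) {x : V} (h : ∀ i, B x (b i) ∈ F₀) :
    Rat b F₀ x := by
  let θ : (ι → F₀) → (ι → F₀) := fun c i => ⟨B (emb b F₀ c) (b i), hs.bil (rat_emb c) (rat_basis i)⟩
  have hθ : Function.Injective θ := fun c d e =>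
    emb_injective (hs.ext fun i => congrArg Subtype.val (congrFun e i))
  obtain ⟨c, hc⟩ := Finite.injective_iff_surjective.1 hθ fun i => ⟨B x (b i), h i⟩
  rw [show x = emb b F₀ c from hs.ext fun i => (congrArg Subtype.val (congrFun hc i)).symm]
  exact rat_emb c

theorem Struct.partner (hs : Struct B b F₀ m) {x : V} (hx : Rat b F₀ x) (hx0 : x ≠ 0) :
    ∃ h, Rat b F₀ h ∧ B x h = 1 := by
  obtain ⟨i, hi⟩ : ∃ i, B x (b i) ≠ 0 := by
    by_contra! hc
    exact hx0 (hs.ext fun i => by simp [hc i])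
  exact ⟨(B x (b i))⁻¹ • b i, (rat_basis i).smul (inv_mem (hs.bil hx (rat_basis i))), by simp [hi]⟩

theorem Struct.dual (hs : Struct B b F₀ m) {x y : V} (hx : Rat b F₀ x) (hy : Rat b F₀ y)
    (hne : ∀ c : F, y ≠ c • x) : ∃ h, Rat b F₀ h ∧ B y h = 1 ∧ B x h = 0 := by
  suffices ∃ z, Rat b F₀ z ∧ B x z = 0 ∧ B y z ≠ 0 by
    obtain ⟨z, hz, h1, h2⟩ := this
    exact ⟨(B y z)⁻¹ • z, hz.smul (inv_mem (hs.bil hy hz)), by simp [h2], by simp [h1]⟩
  by_contra! hc
  by_cases hx0 : x = 0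
  · refine hne 0 (hs.ext fun i => ?_)
    simp [hc (b i) (rat_basis i) (by simp [hx0])]
  obtain ⟨h, hh, hxh⟩ := hs.partner hx hx0
  refine hne (B y h) (hs.ext fun i => ?_)
  have h1 := hc (b i - B x (b i) • h) ((rat_basis i).sub (hh.smul (hs.bil hx (rat_basis i)))) (by
    simp [hxh])
  rw [map_sub, LinearMap.map_smul, smul_eq_mul, sub_eq_zero] at h1
  rw [LinearMap.map_smul, LinearMap.smul_apply, smul_eq_mul, h1, mul_comm]

theorem Struct.pair [Finite F] (hs : Struct B b F₀ m) {k : ℕ} (hk : k < m) (xs : Fin k → V)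
    (hxs : ∀ j, Rat b F₀ (xs j)) :
    ∃ p q, Rat b F₀ p ∧ Rat b F₀ q ∧ B p q = 1 ∧ ∀ j, B (xs j) p = 0 ∧ B (xs j) q = 0 := by
  classical
  let B₀ : BilinForm F₀ (ι → F₀) :=
    Matrix.toBilin' (Matrix.of fun i j => (⟨B (b i) (b j), hs.val i j⟩ : F₀))
  have hB₀ : ∀ c d, ((B₀ c d : F₀) : F) = B (emb b F₀ c) (emb b F₀ d) := fun c d => by
    simp only [B₀, Matrix.toBilin'_apply, Matrix.of_apply, AddSubmonoidClass.coe_finset_sum, MulMemClass.coe_mul,
      emb, map_sum, LinearMap.sum_apply, LinearMap.map_smul, LinearMap.smul_apply, smul_eq_mul]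
    rw [Finset.sum_comm]
    exact Finset.sum_congr rfl fun i _ => by
      exact Finset.sum_congr rfl fun j _ => by ring
  have hA₀ : B₀.IsAlt := fun c => Subtype.ext (by rw [hB₀, hs.alt]; rfl)
  have hN₀ : B₀.Nondegenerate := by
    refine hA₀.isRefl.nondegenerate_iff_separatingLeft.2 fun c hc => ?_
    refine emb_injective (b := b) (F₀ := F₀) (hs.ext fun i => ?_)
    have h1 := congrArg Subtype.val (hc (Pi.single i 1))
    rw [hB₀] at h1
    have e : emb b F₀ (Pi.single i 1) = b i := by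
      rw [emb, Finset.sum_eq_single i (fun j _ hj => by simp [hj]) (by simp)]
      simp
    rw [e] at h1
    simpa [emb] using h1
  choose cs hcs using fun j => exists_emb (hxs j)
  let Φ : (ι → F₀) →ₗ[F₀] (Fin k → F₀) := LinearMap.pi fun j => B₀ (cs j)
  have hker : m < Module.finrank F₀ (LinearMap.ker Φ) := by
    have h1 := LinearMap.finrank_range_add_finrank_ker Φ
    have h2 := Submodule.finrank_le (LinearMap.range Φ)
    rw [Module.finrank_fintype_fun_eq_card] at h1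
    rw [Module.finrank_fintype_fun_eq_card, Fintype.card_fin] at h2
    rw [hs.card] at h1
    omega
  obtain ⟨c, hc, d, hd, hcd⟩ : ∃ c ∈ LinearMap.ker Φ, ∃ d ∈ LinearMap.ker Φ, B₀ c d ≠ 0 := by
    by_contra! hz
    have hle : LinearMap.ker Φ ≤ B₀.orthogonal (LinearMap.ker Φ) := fun c hc =>
      LinearMap.BilinForm.mem_orthogonal_iff.2 fun d hd => hz d hd c hc
    have h1 := Submodule.finrank_mono hle
    have h2 := LinearMap.BilinForm.finrank_orthogonal hN₀ (LinearMap.ker Φ)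
    rw [Module.finrank_fintype_fun_eq_card, hs.card] at h2
    omega
  have hz : ∀ e ∈ LinearMap.ker Φ, ∀ j, B (xs j) (emb b F₀ e) = 0 := fun e he j => by
    have := congrArg Subtype.val (congrFun (LinearMap.mem_ker.1 he) j)
    rw [← hcs j, ← hB₀]
    exact this
  have hne : B (emb b F₀ c) (emb b F₀ d) ≠ 0 := fun h0 => hcd (Subtype.ext (by rw [hB₀, h0]; rfl))
  exact ⟨emb b F₀ c, (B (emb b F₀ c) (emb b F₀ d))⁻¹ • emb b F₀ d, rat_emb c,
    (rat_emb d).smul (inv_mem (hs.bil (rat_emb c) (rat_emb d))), by simp [hne],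
    fun j => ⟨hz c hc j, by simp [hz d hd j]⟩⟩

/-! ### Spreading one Siegel element -/

variable {K : Subgroup (Sp B)}

theorem sel_mem_rat (hA : B.IsAlt) (hK : ∀ w, Rat b F₀ w → ∀ c ∈ F₀, tr hA w c ∈ K) {x y : V}
    (hx : Rat b F₀ x) (hy : Rat b F₀ y) {c : F} (hc : c ∈ F₀) : sel hA x y c ∈ K :=
  K.mul_mem (K.mul_mem (hK _ (hx.add hy) c hc) (hK _ hx _ (neg_mem hc))) (hK _ hy _ (neg_mem hc))

/-- Hyperbolic pairs can be extended while they do not exhaust the space. -/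
theorem Struct.extend_pairs [Finite F] (hs : Struct B b F₀ m) {n : ℕ} (hn : n < m) (a c : Fin n → V)
    (ha : ∀ i, Rat b F₀ (a i)) (hc : ∀ i, Rat b F₀ (c i)) (haa : ∀ i j, B (a i) (a j) = 0)
    (hcc : ∀ i j, B (c i) (c j) = 0) (hac : ∀ i j, B (a i) (c j) = if i = j then 1 else 0) :
    ∃ p q, Rat b F₀ p ∧ Rat b F₀ q ∧ B p q = 1 ∧ ∀ i, B (a i) p = 0 ∧ B (a i) q = 0 ∧ B (c i) p = 0 ∧ B (c i) q = 0 := by
  classical
  have hA := hs.alt
  let Φ : (ι → F₀) → (Fin n → F₀) × (Fin n → F₀) := fun d =>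
    (fun i => ⟨B (a i) (emb b F₀ d), hs.bil (ha i) (rat_emb d)⟩,
      fun i => ⟨B (c i) (emb b F₀ d), hs.bil (hc i) (rat_emb d)⟩)
  obtain ⟨d, d', hdd, hne⟩ : ∃ d d', Φ d = Φ d' ∧ d ≠ d' := by
    by_contra! h
    have h1 := Nat.card_le_card_of_injective Φ h
    rw [Nat.card_fun, Nat.card_prod, Nat.card_fun, Nat.card_fin, Nat.card_eq_fintype_card (α := ι), hs.card,
      ← pow_add] at h1
    have := (Nat.pow_le_pow_iff_right (Finite.one_lt_card : 1 < Nat.card F₀)).1 h1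
    omega
  set p := emb b F₀ d - emb b F₀ d' with hp
  have hpr : Rat b F₀ p := (rat_emb d).sub (rat_emb d')
  have hp0 : p ≠ 0 := fun h => hne (emb_injective (sub_eq_zero.1 h))
  have hpa : ∀ i, B (a i) p = 0 := fun i => by
    rw [hp, map_sub, sub_eq_zero]; exact congrArg Subtype.val (congrFun (congrArg Prod.fst hdd) i)
  have hpc : ∀ i, B (c i) p = 0 := fun i => by
    rw [hp, map_sub, sub_eq_zero]; exact congrArg Subtype.val (congrFun (congrArg Prod.snd hdd) i)
  obtain ⟨h, hh, hph⟩ := hs.partner hpr hp0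
  refine ⟨p, h - ∑ i, (B (a i) h • c i - B (c i) h • a i), hpr, hh.sub (rat_sum _ fun i _ =>
    ((hc i).smul (hs.bil (ha i) hh)).sub ((ha i).smul (hs.bil (hc i) hh))), ?_, fun i => ⟨hpa i, ?_, hpc i, ?_⟩⟩
  · simp [map_sum, hph, swap hA (c _) p, swap hA (a _) p, hpa, hpc]
  · simp [map_sum, haa, hac]
  · simp [map_sum, hcc, swap hA (a _) (c _), hac]

/-- A pair orthogonal to a hyperbolic pair and a vector orthogonal to it. -/
theorem Struct.pair_perp [Finite F] (hs : Struct B b F₀ m) (hm : 3 ≤ m) {x a h : V} (hx : Rat b F₀ x)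
    (ha : Rat b F₀ a) (hh : Rat b F₀ h) (hxa : B x a = 0) (hah : B a h = 1) (hxh : B x h = 0) (hx0 : x ≠ 0) :
    ∃ p q, Rat b F₀ p ∧ Rat b F₀ q ∧ B p q = 1 ∧
      ∀ j, B (![x, a, h] j) p = 0 ∧ B (![x, a, h] j) q = 0 := by
  have hA := hs.alt
  obtain ⟨h₀, hh₀, hxh₀⟩ := hs.partner hx hx0
  set x' := h₀ - B a h₀ • h + B h h₀ • a with hx'
  have hxr : Rat b F₀ x' := (hh₀.sub (hh.smul (hs.bil ha hh₀))).add (ha.smul (hs.bil hh hh₀))
  have hha : B h a = -1 := by rw [swap hA a h, hah]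
  have e1 : B x x' = 1 := by simp [hx', hxh₀, hxh, hxa]
  have e2 : B a x' = 0 := by simp [hx', hah, hA a]
  have e3 : B h x' = 0 := by simp [hx', hha, hA h]
  obtain ⟨p, q, hp, hq, hpq, hj⟩ := hs.extend_pairs (n := 2) (by omega) ![x, a] ![x', h]
    (by simp [Fin.forall_fin_succ, hx, ha]) (by simp [Fin.forall_fin_succ, hxr, hh])
    (by intro i j; fin_cases i <;> fin_cases j <;> simp [hA x, hA a, hxa, swap hA x a])
    (by intro i j; fin_cases i <;> fin_cases j <;> simp [hA x', hA h, e3, swap hA h x'])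
    (by intro i j; fin_cases i <;> fin_cases j <;> simp [e1, hah, hxh, e2])
  simp [Fin.forall_fin_succ] at hj
  exact ⟨p, q, hp, hq, hpq, by simp [Fin.forall_fin_succ, hj]⟩

/-- Spreading when a pair orthogonal to the three vectors is given. -/
theorem spread_of_pair [Finite F] (hs : Struct B b F₀ m)
    (hK : ∀ w, Rat b F₀ w → ∀ c ∈ F₀, tr hs.alt w c ∈ K) {x a h : V}
    (hh : Rat b F₀ h) (hxa : B x a = 0) (hah : B a h = 1) (hxh : B x h = 0) {μ : F}
    (hμ : sel hs.alt x a μ ∈ K) {y : V} (hy : Rat b F₀ y) (hxy : B x y = 0) {p q : V} (hp : Rat b F₀ p)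
    (hq : Rat b F₀ q) (hpq : B p q = 1) (hj : ∀ j, B (![x, a, y] j) p = 0 ∧ B (![x, a, y] j) q = 0) :
    sel hs.alt x y μ ∈ K := by
  have hA := hs.alt
  have step : ∀ {a h y : V}, Rat b F₀ h → Rat b F₀ y → B x a = 0 → B a h = 1 → B x h = 0 →
      sel hA x a μ ∈ K → B x y = 0 → B a y = 0 → B y h = 0 → sel hA x y μ ∈ K := by
    intro a h y hh hy hxa hah hxh hμ hxy hay hyh
    have h1 : sel hA y h (-1) ∈ K := sel_mem_rat hA hK hy hh (neg_mem (one_mem _))
    have h2 := K.mul_mem (K.inv_mem h1) (K.mul_mem (K.mul_mem hμ h1) (K.inv_mem hμ))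
    rwa [sel_comm_formula hA μ (-1) hxa hxy hxh hay hyh hah, inv_mul_cancel_left, mul_neg_one, neg_neg] at h2
  have hxp : B x p = 0 := (hj 0).1
  have hap : B a p = 0 := (hj 1).1
  have hyp : B y p = 0 := (hj 2).1
  have hxq : B x q = 0 := (hj 0).2
  have haq : B a q = 0 := (hj 1).2
  have hyq : B y q = 0 := (hj 2).2
  have h1 : sel hA x p μ ∈ K := by
    refine step (h := h - B p h • q) (hh.sub (hq.smul (hs.bil hp hh))) hp hxa ?_ ?_ hμ hxp hap ?_
    · simp [hah, haq]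
    · simp [hxh, hxq]
    · simp [hpq]
  exact step hq hy hxp hpq hxq h1 hxy (by rw [swap hA y p, hyp, neg_zero]) hyq

theorem spread [Finite F] (hs : Struct B b F₀ m) (hm : 3 ≤ m)
    (hK : ∀ w, Rat b F₀ w → ∀ c ∈ F₀, tr hs.alt w c ∈ K) {x a h : V} (hx : Rat b F₀ x) (ha : Rat b F₀ a)
    (hh : Rat b F₀ h) (hxa : B x a = 0) (hah : B a h = 1) (hxh : B x h = 0) {μ : F}
    (hμ : sel hs.alt x a μ ∈ K) {y : V} (hy : Rat b F₀ y) (hxy : B x y = 0) : sel hs.alt x y μ ∈ K := by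
  by_cases hx0 : x = 0
  · rw [hx0, sel_zero_left]
    exact K.one_mem
  have nd : ∀ {a h y : V}, Rat b F₀ a → Rat b F₀ h → Rat b F₀ y → B x a = 0 → B a h = 1 → B x h = 0 →
      B a y ≠ 0 → sel hs.alt x a μ ∈ K → B x y = 0 → sel hs.alt x y μ ∈ K := by
    intro a h y ha hh hy hxa hah hxh hay hμ hxy
    obtain ⟨p, q, hp, hq, hpq, hj⟩ := hs.pair_perp hm hx ha (hy.smul (inv_mem (hs.bil ha hy))) hxa
      (by simp [hay]) (by simp [hxy]) hx0
    simp [Fin.forall_fin_succ, hay] at hj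
    exact spread_of_pair hs hK hh hxa hah hxh hμ hy hxy hp hq hpq (by simp [Fin.forall_fin_succ, hj])
  by_cases hay : B a y = 0
  swap
  · exact nd ha hh hy hxa hah hxh hay hμ hxy
  by_cases hpar : ∃ c : F, y = c • x
  · obtain ⟨c, rfl⟩ := hpar
    obtain ⟨p, q, hp, hq, hpq, hj⟩ := hs.pair (k := 2) (by omega) ![x, a] (by simp [Fin.forall_fin_succ, hx, ha])
    simp [Fin.forall_fin_succ] at hj
    exact spread_of_pair hs hK hh hxa hah hxh hμ hy hxy hp hq hpq (by simp [Fin.forall_fin_succ, hj])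
  push Not at hpar
  obtain ⟨h', hh', hyh', hxh'⟩ := hs.dual hx hy hpar
  obtain ⟨a', ha', hxa', h1, h2⟩ : ∃ a', Rat b F₀ a' ∧ B x a' = 0 ∧ B a a' ≠ 0 ∧ B a' y ≠ 0 := by
    by_cases e1 : B h y = 0
    · by_cases e2 : B a h' = 0
      · refine ⟨h + h', hh.add hh', by simp [hxh, hxh'], by simp [hah, e2], ?_⟩
        rw [map_add, LinearMap.add_apply, e1, swap hs.alt y h', hyh', zero_add]
        exact neg_ne_zero.2 one_ne_zero
      · refine ⟨h', hh', hxh', e2, ?_⟩
        rw [swap hs.alt y h', hyh']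
        exact neg_ne_zero.2 one_ne_zero
    · exact ⟨h, hh, hxh, by simp [hah], e1⟩
  have h3 := nd ha hh ha' hxa hah hxh h1 hμ hxa'
  exact nd ha' (hy.smul (inv_mem (hs.bil ha' hy))) hy hxa' (by simp [h2]) (by simp [hxy]) h2 h3 hxy

/-- The scalar occurs in all rational Siegel elements. -/
def Sig (hA : B.IsAlt) (b : Module.Basis ι F V) (F₀ : Subfield F) (K : Subgroup (Sp B)) (σ : F) : Prop :=
  ∀ x y, Rat b F₀ x → Rat b F₀ y → B x y = 0 → sel hA x y σ ∈ K

theorem sig_of_seed [Finite F] (hs : Struct B b F₀ m) (hm : 3 ≤ m)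
    (hK : ∀ w, Rat b F₀ w → ∀ c ∈ F₀, tr hs.alt w c ∈ K) {x a h : V} (hx : Rat b F₀ x) (ha : Rat b F₀ a)
    (hh : Rat b F₀ h) (hxa : B x a = 0) (hah : B a h = 1) (hxh : B x h = 0) (hx0 : x ≠ 0) {μ : F}
    (hμ : sel hs.alt x a μ ∈ K) : Sig hs.alt b F₀ K μ := by
  intro p q hp hq hpq
  by_cases hp0 : p = 0
  · rw [hp0, sel_zero_left]
    exact K.one_mem
  obtain ⟨y, z, hy, hz, hyz, hj⟩ := hs.pair (k := 2) (by omega) ![x, p] (by simp [Fin.forall_fin_succ, hx, hp])
  have hxy : B x y = 0 := (hj 0).1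
  have hpy : B p y = 0 := (hj 1).1
  have hxz : B x z = 0 := (hj 0).2
  have hpz : B p z = 0 := (hj 1).2
  have hyp : B y p = 0 := by rw [swap hs.alt p y, hpy, neg_zero]
  have hyx : B y x = 0 := by rw [swap hs.alt x y, hxy, neg_zero]
  have h1 := spread hs hm hK hx ha hh hxa hah hxh hμ hy hxy
  rw [sel_symm hs.alt hxy] at h1
  obtain ⟨h₁, hh₁, hxh₁⟩ := hs.partner hx hx0
  have h2 : sel hs.alt y p μ ∈ K := by
    refine spread hs hm hK hy hx (hh₁.sub (hz.smul (hs.bil hy hh₁))) hyx ?_ ?_ h1 hp hyp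
    · simp [hxh₁, hxz]
    · simp [hyz]
  rw [sel_symm hs.alt hyp] at h2
  exact spread hs hm hK hp hy hz hpy hyz hpz h2 hq hpq

/-- A Siegel element with a scalar outside the subfield, up to a transvection. -/
theorem sig_of_twisted [Finite F] (hs : Struct B b F₀ m) (hm : 3 ≤ m)
    (hK : ∀ w, Rat b F₀ w → ∀ c ∈ F₀, tr hs.alt w c ∈ K) {x a h : V} (hx : Rat b F₀ x) (ha : Rat b F₀ a)
    (hh : Rat b F₀ h) (hxa : B x a = 0) (hah : B a h = 1) (hxh : B x h = 0) (hx0 : x ≠ 0) {μ γ : F}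
    (hμ : sel hs.alt x a μ * tr hs.alt x γ ∈ K) : Sig hs.alt b F₀ K (-μ) := by
  have hA := hs.alt
  obtain ⟨y, z, hy, hz, hyz, hj⟩ := hs.pair_perp hm hx ha hh hxa hah hxh hx0
  have hxy : B x y = 0 := (hj 0).1
  have hay : B a y = 0 := (hj 1).1
  have hhy : B h y = 0 := (hj 2).1
  have hxz : B x z = 0 := (hj 0).2
  have hyh : B y h = 0 := by rw [swap hA h y, hhy, neg_zero]
  have h1 : sel hA y h 1 ∈ K := sel_mem_rat hA hK hy hh (one_mem _)
  have hfix : tr hA x γ * sel hA y h 1 * (tr hA x γ)⁻¹ = sel hA y h 1 := by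
    rw [sel_conj, tr_fix hA γ (by rw [swap hA x y, hxy, neg_zero]), tr_fix hA γ (by rw [swap hA x h, hxh, neg_zero])]
  have h2 := K.mul_mem (K.inv_mem h1) (K.mul_mem (K.mul_mem hμ h1) (K.inv_mem hμ))
  have e : sel hA x a μ * tr hA x γ * sel hA y h 1 * (sel hA x a μ * tr hA x γ)⁻¹ =
      sel hA x a μ * (tr hA x γ * sel hA y h 1 * (tr hA x γ)⁻¹) * (sel hA x a μ)⁻¹ := by group
  rw [e, hfix, sel_comm_formula hA μ 1 hxa hxy hxh hay hyh hah, inv_mul_cancel_left, mul_one] at h2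
  exact sig_of_seed hs hm hK hx hy hz hxy hyz hxz hx0 h2

theorem sig_of_tr [Finite F] (hs : Struct B b F₀ m) (hm : 3 ≤ m)
    (hK : ∀ w, Rat b F₀ w → ∀ c ∈ F₀, tr hs.alt w c ∈ K) {w : V} (hw : Rat b F₀ w) (hw0 : w ≠ 0) {σ : F}
    (hσ : tr hs.alt w σ ∈ K) : Sig hs.alt b F₀ K (-σ) := by
  have hA := hs.alt
  obtain ⟨h, hh, hwh⟩ := hs.partner hw hw0
  obtain ⟨y, z, hy, hz, hyz, hj⟩ := hs.pair (k := 2) (by omega) ![w, h] (by simp [Fin.forall_fin_succ, hw, hh])
  have hwy : B w y = 0 := (hj 0).1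
  have hhy : B h y = 0 := (hj 1).1
  have hyw : B y w = 0 := by rw [swap hA w y, hwy, neg_zero]
  have hyh : B y h = 0 := by rw [swap hA h y, hhy, neg_zero]
  have h1 : sel hA y h 1 ∈ K := sel_mem_rat hA hK hy hh (one_mem _)
  have e : (sel hA y h 1 : V ≃ₗ[F] V) w = w + (1 : F) • y := by
    rw [sel_apply hA hyh, hwy, hwh]
    module
  have h2 : tr hA (w + (1 : F) • y) σ ∈ K := by
    rw [← e, ← conj_tr]
    exact K.mul_mem (K.mul_mem h1 hσ) (K.inv_mem h1)
  rw [tr_add_smul hA hwy] at h2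
  have h3 := K.mul_mem (K.inv_mem hσ) h2
  rw [inv_mul_cancel_left] at h3
  simp only [one_pow, mul_one] at h3
  have hy0 : y ≠ 0 := ne_zero_of_apply_ne_zero (B := B) (v := z) (by rw [hyz]; exact one_ne_zero)
  refine sig_of_twisted hs hm hK hy hw hh hyw hwh hyh hy0 (γ := σ) ?_
  have hc : tr hA y σ * sel hA w y σ = sel hA y w σ * tr hA y σ := by
    rw [sel_symm hA hwy]
    refine sp_ext fun v => ?_
    simp only [Subgroup.coe_mul, LinearEquiv.mul_apply, tr_apply, sel_apply hA hyw, map_add, LinearMap.map_smul,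
      LinearMap.add_apply, LinearMap.smul_apply, smul_eq_mul, hA y, hwy, hyw, mul_zero, add_zero]
    module
  rwa [← hc]

/-! ### All transvections -/

theorem tr_mem_of_sig_all [Fintype F] (hs : Struct B b F₀ m) (hm : 3 ≤ m)
    (hK : ∀ w, Rat b F₀ w → ∀ c ∈ F₀, tr hs.alt w c ∈ K) (hsig : ∀ σ, Sig hs.alt b F₀ K σ) :
    ∀ v c, tr hs.alt v c ∈ K := by
  have hA := hs.alt
  let Q : V → Prop := fun v => ∀ c, tr hA v c ∈ K
  have hsmul : ∀ {v}, Q v → ∀ k : F, Q (k • v) := fun {v} hv k c => by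
    rw [tr_smul_vec]
    exact hv _
  have hadd : ∀ {v w}, Q v → Q w → B v w ≠ 0 → Q (v + w) := fun {v w} hv hw hne c => by
    have h1 := SympMax.tr_mem_of_conj hA (hw (B v w)⁻¹) hv c
    rwa [tr_apply, inv_mul_cancel₀ hne, one_smul] at h1
  have hrat : ∀ w, Rat b F₀ w → Q w := by
    intro w hw
    obtain ⟨p, q, hp, hq, hpq, hj⟩ := hs.pair (k := 1) (by omega) ![w] (by simp [hw])
    have hwp : B w p = 0 := (hj 0).1
    have hwq : B w q = 0 := (hj 0).2
    have hqw : B q w = 0 := by rw [swap hA w q, hwq, neg_zero]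
    have hsq : ∀ k : F, ∀ d ∈ F₀, tr hA w (d * k ^ 2) ∈ K := by
      intro k d hd
      have hpw : B p w = 0 := by rw [swap hA w p, hwp, neg_zero]
      have h1 : sel hA q w (k : F) ∈ K := hsig k q w hq hw hqw
      have e : (sel hA q w k : V ≃ₗ[F] V) p = p + k • w := by
        rw [sel_apply hA hqw, hpq, hpw]
        module
      have h2 : tr hA (p + k • w) d ∈ K := by
        rw [← e, ← conj_tr]
        exact K.mul_mem (K.mul_mem h1 (hK p hp d hd)) (K.inv_mem h1)
      rw [tr_add_smul hA hpw] at h2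
      have h3 := K.mul_mem (K.mul_mem (K.inv_mem (hK p hp d hd)) h2) (K.inv_mem (hsig (d * k) p w hp hw hpw))
      rwa [inv_mul_cancel_left, mul_inv_cancel_right] at h3
    intro c
    by_cases h2 : (2 : F) = 0
    · have : CharP F 2 := CharTwo.of_one_ne_zero_of_two_eq_zero one_ne_zero h2
      obtain ⟨k, hk⟩ := (isSquare_iff_exists_mul_self _).1
        (FiniteField.isSquare_of_char_two (ringChar.eq F 2) c)
      have := hsq k 1 (one_mem _)
      rwa [one_mul, sq, ← hk] at this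
    · have h3 := K.mul_mem (K.mul_mem (hsq (c / 2 + 1) 1 (one_mem _)) (hsq (c / 2) (-1) (neg_mem (one_mem _))))
        (hsq 1 (-1) (neg_mem (one_mem _)))
      rw [tr_mul, tr_mul] at h3
      convert h3 using 2
      field_simp
      ring
  have hline : ∀ {p q}, Rat b F₀ p → Rat b F₀ q → ∀ k : F, Q (p + k • q) := by
    intro p q hp hq k
    by_cases hne : B p q = 0
    · by_cases hpar : ∃ c : F, p = c • q
      · obtain ⟨c, rfl⟩ := hpar
        rw [← add_smul]
        exact hsmul (hrat q hq) _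
      push Not at hpar
      obtain ⟨h, hh, hph, hqh⟩ := hs.dual hq hp hpar
      have hhq : B h q = 0 := by rw [swap hA q h, hqh, neg_zero]
      have h1 : sel hA h q k ∈ K := hsig k h q hh hq hhq
      have e : (sel hA h q k : V ≃ₗ[F] V) p = p + k • q := by
        rw [sel_apply hA hhq, hph, hne]
        module
      intro c
      rw [← e]
      exact SympMax.tr_mem_of_conj hA h1 (hrat p hp) c
    · by_cases hk : k = 0
      · rw [hk, zero_smul, add_zero]
        exact hrat p hp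
      · exact hadd (hrat p hp) (hsmul (hrat q hq) k) (by simp [hk, hne])
  intro v
  rw [← b.sum_repr v]
  classical
  induction (Finset.univ : Finset ι) using Finset.induction with
  | empty => intro c; simpa using hrat 0 Rat.zero c
  | insert j S hj ih =>
    rw [Finset.sum_insert hj, add_comm]
    set v' := ∑ i ∈ S, b.repr v i • b i
    set k := b.repr v j
    show Q _
    by_cases hv' : v' = 0
    · rw [hv', zero_add]
      exact hsmul (hrat _ (rat_basis j)) k
    by_cases hne : B v' (k • b j) = 0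
    · by_cases hsum : v' + k • b j = 0
      · rw [hsum]
        exact hrat 0 Rat.zero
      obtain ⟨z, hz, hz1, hz2⟩ : ∃ z, Rat b F₀ z ∧ B v' z ≠ 0 ∧ B (v' + k • b j) z ≠ 0 := by
        obtain ⟨i₁, h₁⟩ : ∃ i, B v' (b i) ≠ 0 := by
          by_contra! hc
          exact hv' (hs.ext fun i => by simp [hc i])
        obtain ⟨i₂, h₂⟩ : ∃ i, B (v' + k • b j) (b i) ≠ 0 := by
          by_contra! hc
          exact hsum (hs.ext fun i => by rw [hc i]; simp)
        by_cases e₁ : B (v' + k • b j) (b i₁) = 0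
        · by_cases e₂ : B v' (b i₂) = 0
          · exact ⟨b i₁ + b i₂, (rat_basis _).add (rat_basis _), by rw [map_add, e₂, add_zero]; exact h₁,
              by rw [map_add, e₁, zero_add]; exact h₂⟩
          · exact ⟨b i₂, rat_basis _, e₂, h₂⟩
        · exact ⟨b i₁, rat_basis _, h₁, e₁⟩
      have q1 : Q (v' + z) := hadd ih (hrat z hz) hz1
      have q2 : Q (k • b j - z) := by
        rw [show k • b j - z = (-1 : F) • (z + (-k) • b j) by module]
        exact hsmul (hline hz (rat_basis j) _) _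
      rw [show v' + k • b j = (v' + z) + (k • b j - z) by abel]
      refine hadd q1 q2 fun h0 => hz2 ?_
      have e := swap hA z (k • b j)
      rw [map_add, LinearMap.add_apply, map_sub, map_sub, hne, hA z] at h0
      rw [map_add, LinearMap.add_apply, e]
      linear_combination -h0
    · exact hadd ih (hsmul (hrat _ (rat_basis j)) k) hne

theorem tr_mem_of_sig [Fintype F] {r : ℕ} (hr : r.Prime) (hcard : Fintype.card F = Nat.card F₀ ^ r)
    (hs : Struct B b F₀ m) (hm : 3 ≤ m) (hK : ∀ w, Rat b F₀ w → ∀ c ∈ F₀, tr hs.alt w c ∈ K) {σ : F}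
    (hσ : σ ∉ F₀) (hsig : Sig hs.alt b F₀ K σ) : ∀ v c, tr hs.alt v c ∈ K := by
  refine tr_mem_of_sig_all hs hm hK fun τ => mem_all_of_closed hr hcard (S := {τ | Sig hs.alt b F₀ K τ})
    (fun c hc x y hx hy _ => sel_mem_rat hs.alt hK hx hy hc) ?_ ?_ hsig hσ τ
  · intro c hc d hd x y hx hy hxy
    rw [← sel_mul hs.alt hxy]
    exact K.mul_mem (hc x y hx hy hxy) (hd x y hx hy hxy)
  · intro c hc d hd x y hx hy hxy
    obtain ⟨p, q, hp, hq, hpq, hj⟩ := hs.pair (k := 2) (by omega) ![x, y] (by simp [Fin.forall_fin_succ, hx, hy])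
    have hxp : B x p = 0 := (hj 0).1
    have hyp : B y p = 0 := (hj 1).1
    have hxq : B x q = 0 := (hj 0).2
    have hyq : B y q = 0 := (hj 1).2
    have h1 := hc x p hx hp hxp
    have h2 := hd y q hy hq hyq
    have h3 := K.mul_mem (K.inv_mem h2) (K.mul_mem (K.mul_mem h1 h2) (K.inv_mem h1))
    rw [sel_comm_formula hs.alt c d hxp hxy hxq (by rw [swap hs.alt y p, hyp, neg_zero]) hyq hpq,
      inv_mul_cancel_left] at h3
    have h4 := K.inv_mem h3
    rwa [show (sel hs.alt x y (-(c * d)))⁻¹ = sel hs.alt x y (c * d) from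
      inv_eq_of_mul_eq_one_right (by rw [sel_mul hs.alt hxy, neg_add_cancel, sel_zero_scalar hs.alt hxy])] at h4

/-! ### A centre orthogonal to a rational vector -/

theorem tr_mem_of_perp [Fintype F] {r : ℕ} (hr : r.Prime) (hcard : Fintype.card F = Nat.card F₀ ^ r)
    (hs : Struct B b F₀ m) (hm : 3 ≤ m) (hK : ∀ w, Rat b F₀ w → ∀ c ∈ F₀, tr hs.alt w c ∈ K) {u : V}
    (hu : ∀ c ∈ F₀, tr hs.alt u c ∈ K) (hnr : ∀ (δ : F) w, Rat b F₀ w → δ ^ 2 ∈ F₀ → u ≠ δ • w)
    {w : V} (hw : Rat b F₀ w) (hw0 : w ≠ 0) (huw : B u w = 0) : ∀ v c, tr hs.alt v c ∈ K := by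
  have hA := hs.alt
  by_cases hline : ∃ (δ : F) (x : V), Rat b F₀ x ∧ u = δ • x
  · obtain ⟨δ, x, hx, rfl⟩ := hline
    have hδ : δ ^ 2 ∉ F₀ := fun h => hnr δ x hx h rfl
    have hx0 : x ≠ 0 := fun h0 => hnr 1 0 Rat.zero (by simp [one_mem]) (by simp [h0])
    have h1 := hu 1 (one_mem _)
    rw [tr_smul_vec, mul_one] at h1
    exact tr_mem_of_sig hr hcard hs hm hK (fun h => hδ (by simpa using neg_mem h)) (sig_of_tr hs hm hK hx hx0 h1)
  push Not at hline
  by_cases hpp : ∃ z y, Rat b F₀ z ∧ Rat b F₀ y ∧ B w z = 0 ∧ B w y = 0 ∧ B u z * B u y ∉ F₀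
  · obtain ⟨z, y, hz, hy, hwz, hwy, hbad⟩ := hpp
    have hyw : B y w = 0 := by rw [swap hA w y, hwy, neg_zero]
    have hzw : B z w = 0 := by rw [swap hA w z, hwz, neg_zero]
    have huy : B u y ≠ 0 := fun h0 => hbad (by rw [h0, mul_zero]; exact zero_mem _)
    have hne : ∀ c : F, y ≠ c • w := fun c hc => huy (by rw [hc, LinearMap.map_smul, huw, smul_zero])
    obtain ⟨h, hh, hyh, hwh⟩ := hs.dual hw hy hne
    -- first move along the rational vector
    have g1 : sel hA z w 1 ∈ K := sel_mem_rat hA hK hz hw (one_mem _)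
    have e1 : (sel hA z w 1 : V ≃ₗ[F] V) u = u + B u z • w := by
      rw [sel_apply hA hzw, huw]
      module
    have x1 : tr hA w (1 * B u z ^ 2) * sel hA u w (1 * B u z) ∈ K := by
      have h1 : tr hA (u + B u z • w) 1 ∈ K := by
        rw [← e1, ← conj_tr]
        exact K.mul_mem (K.mul_mem g1 (hu 1 (one_mem _))) (K.inv_mem g1)
      rw [tr_add_smul hA huw] at h1
      have := K.mul_mem (K.inv_mem (hu 1 (one_mem _))) h1
      rwa [inv_mul_cancel_left] at this
    have g2 : tr hA y 1 ∈ K := hK y hy 1 (one_mem _)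
    have x2 := K.mul_mem (K.inv_mem x1) (K.mul_mem (K.mul_mem g2 x1) (K.inv_mem g2))
    have ee : (tr hA w (1 * B u z ^ 2) * sel hA u w (1 * B u z))⁻¹ *
        (tr hA y 1 * (tr hA w (1 * B u z ^ 2) * sel hA u w (1 * B u z)) * (tr hA y 1)⁻¹) =
        sel hA w y (B u z * B u y) * tr hA w (B u z ^ 2 * B u y ^ 2) := by
      rw [inv_mul_eq_iff_eq_mul]
      have e2 : tr hA y 1 * (tr hA w (1 * B u z ^ 2) * sel hA u w (1 * B u z)) * (tr hA y 1)⁻¹ =
          tr hA w (1 * B u z ^ 2) * sel hA (u + B u y • y) w (1 * B u z) := by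
        have := congrArg₂ (· * ·) (conj_tr hA (tr hA y 1) w (1 * B u z ^ 2)) (sel_conj hA (tr hA y 1) u w (1 * B u z))
        rw [tr_fix hA 1 hwy, tr_apply] at this
        simp only [one_mul] at this ⊢
        rw [← this]
        group
      rw [e2]
      refine sp_ext fun v => ?_
      have e3 : B (u + B u y • y) w = 0 := by simp [huw, hyw]
      have hwu : B w u = 0 := by rw [swap hA u w, huw, neg_zero]
      simp only [Subgroup.coe_mul, LinearEquiv.mul_apply, tr_apply, sel_apply hA huw, sel_apply hA hwy,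
        sel_apply hA e3, map_add, LinearMap.map_smul, LinearMap.add_apply, LinearMap.smul_apply, smul_eq_mul, hA w,
        hA u, hA y, huw, hwu, hwy, hyw, swap hA u y, mul_zero, add_zero, zero_mul]
      module
    rw [ee] at x2
    exact tr_mem_of_sig hr hcard hs hm hK (fun h' => hbad (by simpa using neg_mem h'))
      (sig_of_twisted hs hm hK hw hy hh hwy hyh hwh hw0 x2)
  push Not at hpp
  obtain ⟨h, hh, hwh⟩ := hs.partner hw hw0
  set k := B u h with hk
  have hproj : ∀ i, Rat b F₀ (b i - B w (b i) • h) ∧ B w (b i - B w (b i) • h) = 0 := fun i =>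
    ⟨(rat_basis i).sub (hh.smul (hs.bil hw (rat_basis i))), by simp [hwh]⟩
  have hval : ∀ i, B (u - k • w) (b i) = B u (b i - B w (b i) • h) := fun i => by
    simp [hk]
    ring
  obtain ⟨i₀, hi₀⟩ : ∃ i, B (u - k • w) (b i) ≠ 0 := by
    by_contra! hc
    refine hline k w hw (hs.ext fun i => ?_)
    have := hc i
    rw [map_sub, LinearMap.sub_apply, sub_eq_zero] at this
    exact this
  set δ := B (u - k • w) (b i₀) with hδ
  have hδ2 : δ * δ ∈ F₀ := by
    rw [hδ, hval]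
    exact hpp _ _ (hproj i₀).1 (hproj i₀).1 (hproj i₀).2 (hproj i₀).2
  set u₀ := δ⁻¹ • (u - k • w) with hu₀
  have hu₀r : Rat b F₀ u₀ := hs.rat_of_bil fun i => by
    have e : B u₀ (b i) = (B (u - k • w) (b i) * δ) / (δ * δ) := by
      rw [hu₀, LinearMap.map_smul, LinearMap.smul_apply, smul_eq_mul]
      field_simp
    rw [e, hδ, hval, hval]
    refine div_mem (hpp _ _ (hproj i).1 (hproj i₀).1 (hproj i).2 (hproj i₀).2) ?_
    exact hpp _ _ (hproj i₀).1 (hproj i₀).1 (hproj i₀).2 (hproj i₀).2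
  have hu_eq : u = δ • u₀ + k • w := by
    rw [hu₀, smul_smul, mul_inv_cancel₀ hi₀, one_smul, sub_add_cancel]
  have hu₀w : B u₀ w = 0 := by
    rw [hu₀]
    simp [huw, hA w]
  have hwu₀ : B w u₀ = 0 := by rw [swap hA u₀ w, hu₀w, neg_zero]
  have hne : ∀ c : F, u₀ ≠ c • w := fun c hc =>
    hline (δ * c + k) w hw (by rw [hu_eq, hc]; module)
  obtain ⟨h', hh', huh', hwh'⟩ := hs.dual hw hu₀r hne
  have hkey : δ * k ∉ F₀ := fun hmem => by
    refine hline δ (u₀ + (k / δ) • w) (hu₀r.add (hw.smul ?_)) (by rw [hu_eq, smul_add, smul_smul δ (k / δ) w, mul_div_cancel₀ _ hi₀])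
    rw [← mul_div_mul_left k δ hi₀]
    exact div_mem hmem hδ2
  have h1 := hu 1 (one_mem _)
  rw [hu_eq, tr_add_smul hA (by simp [hu₀w]), tr_smul_vec] at h1
  have h2 := K.mul_mem (K.inv_mem (hK u₀ hu₀r (δ ^ 2 * 1) (by rw [mul_one, sq]; exact hδ2))) h1
  rw [inv_mul_cancel_left] at h2
  have h3 : sel hA w u₀ (δ * k) * tr hA w (k ^ 2) ∈ K := by
    convert h2 using 1
    refine sp_ext fun v => ?_
    have e3 : B (δ • u₀) w = 0 := by simp [hu₀w]
    simp only [Subgroup.coe_mul, LinearEquiv.mul_apply, tr_apply, sel_apply hA hwu₀,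
      sel_apply hA e3, map_add, LinearMap.map_smul, LinearMap.add_apply,
      LinearMap.smul_apply, smul_eq_mul, hA w, hA u₀, hwu₀, hu₀w, mul_zero, add_zero, one_mul]
    module
  exact tr_mem_of_sig hr hcard hs hm hK (fun h' => hkey (by simpa using neg_mem h'))
    (sig_of_twisted hs hm hK hw hu₀r hh' hwu₀ huh' hwh' hw0 h3)

/-! ### Making the centre orthogonal to a rational vector -/

theorem three_isotropic [Finite F] (hs : Struct B b F₀ m) (hm : 3 ≤ m) :
    ∃ Y H : Fin 3 → V, (∀ i, Rat b F₀ (Y i)) ∧ (∀ i, Rat b F₀ (H i)) ∧ (∀ i j, B (Y i) (Y j) = 0) ∧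
      ∀ i j, B (Y i) (H j) = if i = j then 1 else 0 := by
  have hA := hs.alt
  obtain ⟨a₀, c₀, ha₀, hc₀, e₀, -⟩ := hs.pair (k := 0) (by omega) ![] (by simp)
  obtain ⟨a₁, c₁, ha₁, hc₁, e₁, j₁⟩ := hs.pair (k := 2) (by omega) ![a₀, c₀] (by simp [Fin.forall_fin_succ, ha₀, hc₀])
  simp [Fin.forall_fin_succ] at j₁
  obtain ⟨⟨p₁, p₂⟩, p₃, p₄⟩ := j₁
  obtain ⟨a₂, c₂, ha₂, hc₂, e₂, j₂⟩ := hs.extend_pairs (n := 2) (by omega) ![a₀, a₁] ![c₀, c₁]
    (by simp [Fin.forall_fin_succ, ha₀, ha₁]) (by simp [Fin.forall_fin_succ, hc₀, hc₁])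
    (by intro i j; fin_cases i <;> fin_cases j <;> simp [hA _, p₁, swap hA a₀ a₁])
    (by intro i j; fin_cases i <;> fin_cases j <;> simp [hA _, p₄, swap hA c₀ c₁])
    (by intro i j; fin_cases i <;> fin_cases j <;> simp [e₀, e₁, p₂, p₃, swap hA c₀ a₁])
  simp [Fin.forall_fin_succ] at j₂
  obtain ⟨⟨t₁, t₂, t₃, t₄⟩, t₅, t₆, t₇, t₈⟩ := j₂
  refine ⟨![a₀, a₁, a₂], ![c₀, c₁, c₂], by simp [Fin.forall_fin_succ, ha₀, ha₁, ha₂],
    by simp [Fin.forall_fin_succ, hc₀, hc₁, hc₂], ?_, ?_⟩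
  · intro i j
    fin_cases i <;> fin_cases j <;>
      simp [hA _, p₁, t₁, t₅, swap hA a₀ a₁, swap hA a₀ a₂, swap hA a₁ a₂]
  · intro i j
    fin_cases i <;> fin_cases j <;>
      simp [e₀, e₁, e₂, p₂, p₃, t₂, t₃, t₆, t₇, swap hA c₀ a₁, swap hA c₀ a₂, swap hA c₁ a₂]

theorem exists_perp [Fintype F] [FiniteDimensional F V] {r : ℕ} (hr : r.Prime)
    (hcard : Fintype.card F = Nat.card F₀ ^ r)
    (hs : Struct B b F₀ m) (hm : 3 ≤ m) (hK : ∀ w, Rat b F₀ w → ∀ c ∈ F₀, tr hs.alt w c ∈ K) {u : V}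
    (hu : ∀ c ∈ F₀, tr hs.alt u c ∈ K) (hinj : ∀ w, Rat b F₀ w → B u w = 0 → w = 0) :
    ∃ g ∈ K, ∃ w, Rat b F₀ w ∧ w ≠ 0 ∧ B ((g : V ≃ₗ[F] V) u) w = 0 ∧
      ∀ (δ : F) x, Rat b F₀ x → δ ^ 2 ∈ F₀ → (g : V ≃ₗ[F] V) u ≠ δ • x := by
  classical
  have hA := hs.alt
  have hq : 1 < Nat.card F₀ := Finite.one_lt_card
  have hr14 : 2 * m ≤ r := by
    have h1 : Nat.card (ι → F₀) ≤ Nat.card F := Nat.card_le_card_of_injective (fun c => B u (emb b F₀ c))
      fun c d e => emb_injective (b := b) (sub_eq_zero.1 (hinj _ ((rat_emb c).sub (rat_emb d)) (by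
        rw [map_sub]; exact sub_eq_zero.2 e)))
    rw [Nat.card_fun, Nat.card_eq_fintype_card (α := ι), hs.card, Nat.card_eq_fintype_card (α := F), hcard] at h1
    exact (Nat.pow_le_pow_iff_right hq).1 h1
  obtain ⟨Y, H, hY, hH, hYY, hYH⟩ := three_isotropic hs hm
  let ψ : (Fin 3 → F₀) → V := fun c => ∑ i, (c i : F) • Y i
  have hψr : ∀ c, Rat b F₀ (ψ c) := fun c => rat_sum _ fun i _ => (hY i).smul (c i).2
  let φ : (Fin 3 → F₀) →+ F :=
    { toFun := fun c => B u (ψ c)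
      map_zero' := by simp [ψ]
      map_add' := fun c d => by simp [ψ, add_mul, Finset.sum_add_distrib] }
  have hψH : ∀ c j, B (ψ c) (H j) = (c j : F) := fun c j => by
    simp [ψ, map_sum, hYH]
  have hψ0 : ∀ c, ψ c = 0 → c = 0 := fun c h => funext fun j => Subtype.ext (by
    rw [← hψH c j, h]; simp)
  have hφ : Function.Injective φ := (injective_iff_map_eq_zero φ).2 fun c h => hψ0 c (hinj _ (hψr c) h)
  set YF : Submodule F V := Submodule.span F (Set.range Y) with hYF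
  have hψY : ∀ c, ψ c ∈ YF := fun c =>
    Submodule.sum_mem _ fun i _ => YF.smul_mem _ (Submodule.subset_span ⟨i, rfl⟩)
  have hiso : ∀ x ∈ YF, ∀ y ∈ YF, B x y = 0 := by
    intro x hx y hy
    obtain ⟨a, rfl⟩ := (Submodule.mem_span_range_iff_exists_fun F).1 hx
    obtain ⟨c, rfl⟩ := (Submodule.mem_span_range_iff_exists_fun F).1 hy
    simp [map_sum, hYY]
  have hY0 : Y 0 ≠ 0 := fun h => by have := hYH 0 0; simp [h] at this
  have ht : B u (Y 0) ≠ 0 := fun h => hY0 (hinj _ (hY 0) h)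
  set e := (B u (Y 0))⁻¹ • Y 0 with he
  have heY : e ∈ YF := YF.smul_mem _ (Submodule.subset_span ⟨0, rfl⟩)
  have hue : B u e = 1 := by simp [he, ht]
  have heu : B e u = -1 := by rw [swap hA u e, hue]
  set X : Submodule F V := Submodule.span F {u} ⊔ YF with hX
  set R : Submodule F V := YF ⊓ LinearMap.ker (B u) with hR
  have huX : u ∈ X := Submodule.mem_sup_left (Submodule.mem_span_singleton_self u)
  have hYX : ∀ y ∈ YF, y ∈ X := fun y hy => Submodule.mem_sup_right hy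
  have hRu : ∀ z ∈ R, B u z = 0 := fun z hz => LinearMap.mem_ker.1 hz.2
  have hRe : ∀ z ∈ R, B z e = 0 := fun z hz => hiso z hz.1 e heY
  have hdec : ∀ x ∈ X, x - B x e • u - B u x • e ∈ R := by
    intro x hx
    obtain ⟨a, ha, y, hy, rfl⟩ := Submodule.mem_sup.1 hx
    obtain ⟨t, rfl⟩ := Submodule.mem_span_singleton.1 ha
    have h1 : B (t • u + y) e = t := by simp [hue, hiso y hy e heY]
    have h2 : B u (t • u + y) = B u y := by simp [hA u]
    rw [h1, h2, add_sub_cancel_left]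
    exact ⟨YF.sub_mem hy (YF.smul_mem _ heY), by simp [hue]⟩
  let fixR : Subgroup (Sp B) :=
    { carrier := {g | ∀ z ∈ R, (g : V ≃ₗ[F] V) z = z}
      mul_mem' := fun {g g'} hg hg' z hz => by simp [hg' z hz, hg z hz]
      one_mem' := fun z _ => rfl
      inv_mem' := fun {g} hg z hz => by
        conv_lhs => rw [← hg z hz]
        simp [LinearEquiv.coe_inv] }
  let G : Subgroup (Sp B) := K ⊓ SympMax.stab B X ⊓ fixR
  have hGX : ∀ g : G, ∀ x ∈ X, ((g : Sp B) : V ≃ₗ[F] V) x ∈ X := fun g x hx => (g.2.1.2 x).1 hx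
  let pm : Sp B → Matrix (Fin 2) (Fin 2) F := fun g =>
    !![B ((g : V ≃ₗ[F] V) u) e, B ((g : V ≃ₗ[F] V) e) e; B u ((g : V ≃ₗ[F] V) u), B u ((g : V ≃ₗ[F] V) e)]
  have himg : ∀ g : G, ∀ x ∈ X, ∃ z ∈ R, ((g : Sp B) : V ≃ₗ[F] V) x =
      B x e • ((g : Sp B) : V ≃ₗ[F] V) u + B u x • ((g : Sp B) : V ≃ₗ[F] V) e + z := by
    intro g x hx
    refine ⟨_, hdec x hx, ?_⟩
    have hfix := g.2.2 _ (hdec x hx)
    simp only [map_sub, LinearEquiv.map_smul] at hfix
    rw [← hfix]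
    abel
  have hpm_mul : ∀ g g' : G, pm ((g : Sp B) * g') = pm g * pm g' := by
    intro g g'
    obtain ⟨z₁, hz₁, e₁⟩ := himg g _ (hGX g' u huX)
    obtain ⟨z₂, hz₂, e₂⟩ := himg g _ (hGX g' e (hYX e heY))
    ext i j
    fin_cases i <;> fin_cases j <;>
      simp [pm, Matrix.mul_apply, Fin.sum_univ_two, e₁, e₂, hRe _ hz₁, hRe _ hz₂, hRu _ hz₁, hRu _ hz₂] <;> ring
  have hpm_det : ∀ g : G, (pm g).det = 1 := by
    intro g
    have hdu := hdec _ (hGX g u huX)
    have hde := hdec _ (hGX g e (hYX e heY))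
    obtain ⟨z₁, hz₁, e₁⟩ : ∃ z ∈ R, ((g : Sp B) : V ≃ₗ[F] V) u = pm g 0 0 • u + pm g 1 0 • e + z :=
      ⟨_, hdu, by simp [pm]⟩
    obtain ⟨z₂, hz₂, e₂⟩ : ∃ z ∈ R, ((g : Sp B) : V ≃ₗ[F] V) e = pm g 0 1 • u + pm g 1 1 • e + z :=
      ⟨_, hde, by simp [pm]⟩
    have h1 : B (((g : Sp B) : V ≃ₗ[F] V) u) (((g : Sp B) : V ≃ₗ[F] V) e) = 1 := ((g : Sp B).2 u e).trans hue
    have hzu : ∀ z ∈ R, B z u = 0 := fun z hz => by rw [swap hA u z, hRu z hz, neg_zero]
    have hez : ∀ z ∈ R, B e z = 0 := fun z hz => hiso e heY z hz.1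
    rw [e₁, e₂] at h1
    simp [hue, heu, hA u, hA e, hRu _ hz₂, hez _ hz₂, hzu _ hz₁, hRe _ hz₁, hiso z₁ hz₁.1 z₂ hz₂.1] at h1
    rw [Matrix.det_fin_two]
    linear_combination h1
  let π : G →* Matrix.SpecialLinearGroup (Fin 2) F :=
    { toFun := fun g => ⟨pm g, hpm_det g⟩
      map_one' := Subtype.ext (by
        ext i j
        fin_cases i <;> fin_cases j <;> simp [pm, hue, hA u, hA e])
      map_mul' := fun g g' => Subtype.ext (hpm_mul g g') }
  have mkG : ∀ {v} c, (v = u ∨ v ∈ YF) → tr hA v c ∈ K → tr hA v c ∈ G := by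
    intro v c hv hvK
    refine ⟨⟨hvK, SympMax.mem_stab_of_maps fun x hx => ?_⟩, fun z hz => ?_⟩
    · rw [tr_apply]
      exact X.add_mem hx (X.smul_mem _ (hv.elim (fun h => h ▸ huX) (hYX v)))
    · refine tr_fix hA c ?_
      rcases hv with rfl | hv
      · rw [swap hA v z, hRu z hz, neg_zero]
      · exact hiso z hz.1 v hv
  have hup : SLTwoGen.up (-1 : F) ∈ π.range := by
    refine ⟨⟨_, mkG 1 (Or.inl rfl) (hu 1 (one_mem _))⟩, Subtype.ext ?_⟩
    show pm (tr hA u 1) = !![1, -1; 0, 1]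
    ext i j
    fin_cases i <;> fin_cases j <;> simp [pm, tr_apply, hue, heu, hA u, hA e]
  let B' : AddSubgroup F := AddSubgroup.closure {x | ∃ c ∈ F₀, ∃ a, x = c * φ a ^ 2}
  have hlo : ∀ x ∈ B', SLTwoGen.lo x ∈ π.range := by
    intro x hx
    induction hx using AddSubgroup.closure_induction with
    | mem y hy =>
      obtain ⟨c, hc, a, rfl⟩ := hy
      refine ⟨⟨_, mkG c (Or.inr (hψY a)) (hK _ (hψr a) c hc)⟩, Subtype.ext ?_⟩
      show pm (tr hA (ψ a) c) = !![1, 0; c * B u (ψ a) ^ 2, 1]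
      ext i j
      fin_cases i <;> fin_cases j <;>
        simp [pm, tr_apply, hue, hA u, hA e, hiso (ψ a) (hψY a) e heY, hiso e heY (ψ a) (hψY a)] <;> ring
    | zero =>
      rw [show SLTwoGen.lo (0 : F) = 1 from Subtype.ext (by
        ext i j
        fin_cases i <;> fin_cases j <;> simp [SLTwoGen.lo])]
      exact one_mem _
    | add y z _ _ hy hz => rw [← SLTwoGen.lo_mul]; exact mul_mem hy hz
    | neg y _ hy =>
      rw [show SLTwoGen.lo (-y) = (SLTwoGen.lo y)⁻¹ from (inv_eq_of_mul_eq_one_right (by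
        rw [SLTwoGen.lo_mul, add_neg_cancel]
        refine Subtype.ext ?_
        ext i j
        fin_cases i <;> fin_cases j <;> simp [SLTwoGen.lo])).symm]
      exact inv_mem hy
  have hB'₀ : ∀ c ∈ F₀, ∀ x ∈ B', c * x ∈ B' := by
    intro c hc x hx
    induction hx using AddSubgroup.closure_induction with
    | mem y hy =>
      obtain ⟨d, hd, a, rfl⟩ := hy
      exact AddSubgroup.subset_closure ⟨c * d, mul_mem hc hd, a, (mul_assoc _ _ _).symm⟩
    | zero => simp
    | add y z _ _ hy hz => rw [mul_add]; exact add_mem hy hz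
    | neg y _ hy => rw [mul_neg]; exact neg_mem hy
  have hB'c : Nat.card F₀ ^ 3 ≤ Nat.card B' := by
    have hsq : ∀ a, φ a ^ 2 ∈ B' := fun a =>
      AddSubgroup.subset_closure ⟨1, one_mem _, a, (one_mul _).symm⟩
    have e : Nat.card (Fin 3 → F₀) = Nat.card F₀ ^ 3 := by rw [Nat.card_fun, Nat.card_fin]
    rw [← e]
    by_cases h2 : (2 : F) = 0
    · refine Nat.card_le_card_of_injective (fun a => (⟨φ a ^ 2, hsq a⟩ : B')) fun a c h => hφ ?_
      rcases sq_eq_sq_iff_eq_or_eq_neg.1 (congrArg Subtype.val h) with h' | h'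
      · exact h'
      · rw [h']
        linear_combination (-(φ c)) * h2
    · let a₁ : Fin 3 → F₀ := Pi.single 0 1
      have ha₁ : φ a₁ ≠ 0 := fun h => by
        have := congrFun (hφ (h.trans φ.map_zero.symm)) 0
        simp [a₁] at this
      refine Nat.card_le_card_of_injective (fun a => (⟨2 * φ a₁ * φ a, ?_⟩ : B')) fun a c h => hφ ?_
      · have := sub_mem (sub_mem (hsq (a₁ + a)) (hsq a₁)) (hsq a)
        rw [map_add] at this
        convert this using 1
        ring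
      · exact mul_left_cancel₀ (mul_ne_zero h2 ha₁) (congrArg Subtype.val h)
  have htop := SLTwoGen.eq_top_of_root_groups3 F₀ hr hcard π.range (neg_ne_zero.2 one_ne_zero) hup B' hB'₀ hlo hB'c
  obtain ⟨lam, hlam⟩ : ∃ lam : F, lam ∉ Set.range φ := by
    by_contra! hc
    have h1 := Nat.card_le_card_of_surjective φ fun x => hc x
    rw [Nat.card_fun, Nat.card_fin, Nat.card_eq_fintype_card (α := F), hcard] at h1
    have := (Nat.pow_le_pow_iff_right hq).1 h1
    omega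
  have hl0 : lam ≠ 0 := fun h => hlam ⟨0, by rw [h, map_zero]⟩
  obtain ⟨S₀, hS₀⟩ : ∃ S : Matrix.SpecialLinearGroup (Fin 2) F, (S : Matrix (Fin 2) (Fin 2) F) = !![0, -lam⁻¹; lam, 0] :=
    ⟨⟨!![0, -lam⁻¹; lam, 0], by rw [Matrix.det_fin_two_of]; field_simp; ring⟩, rfl⟩
  have hmem : S₀ ∈ π.range := htop ▸ Subgroup.mem_top _
  obtain ⟨g, hg⟩ := hmem
  have hpg : pm g = !![0, -lam⁻¹; lam, 0] := (congrArg Subtype.val hg).trans hS₀
  have c0 : B (((g : Sp B) : V ≃ₗ[F] V) u) e = 0 := congrFun (congrFun hpg 0) 0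
  have c1 : B u (((g : Sp B) : V ≃ₗ[F] V) u) = lam := congrFun (congrFun hpg 1) 0
  have hgY : ((g : Sp B) : V ≃ₗ[F] V) u ∈ YF := by
    have := hdec _ (hGX g u huX)
    rw [c0, c1, zero_smul, sub_zero] at this
    simpa using YF.add_mem this.1 (YF.smul_mem lam heY)
  refine ⟨g, g.2.1.1, Y 0, hY 0, hY0, hiso _ hgY _ (Submodule.subset_span ⟨0, rfl⟩), fun δ x hx hδ heq => ?_⟩
  have hδ₀ : δ ∈ F₀ := mem_of_sq_mem hr hcard (by omega) hδ
  have hrat : Rat b F₀ (((g : Sp B) : V ≃ₗ[F] V) u) := heq ▸ hx.smul hδ₀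
  obtain ⟨a, ha⟩ := (Submodule.mem_span_range_iff_exists_fun F).1 hgY
  have hacoef : ∀ j, a j ∈ F₀ := fun j => by
    have e2 : B (((g : Sp B) : V ≃ₗ[F] V) u) (H j) = a j := by
      rw [← ha]
      simp [map_sum, hYH]
    exact e2 ▸ hs.bil hrat (hH j)
  refine hlam ⟨fun j => ⟨a j, hacoef j⟩, ?_⟩
  show B u (ψ _) = lam
  rw [← c1, ← ha]

/-! ### Maximality -/

/-- The element maps all basis vectors to one multiple of the rational vectors. -/
def Semi (b : Module.Basis ι F V) (F₀ : Subfield F) (g : Sp B) : Prop :=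
  ∃ δ : F, δ ≠ 0 ∧ ∀ i, ∃ x, Rat b F₀ x ∧ (g : V ≃ₗ[F] V) (b i) = δ • x

theorem exists_off_line (g : Sp B) (hg : ¬ Semi b F₀ g) (i₀ : ι) :
    ∃ w, Rat b F₀ w ∧ ∀ (δ : F) x, Rat b F₀ x → (g : V ≃ₗ[F] V) w ≠ δ • x := by
  classical
  by_contra! hall
  choose d x hx hgx using fun w : {w : V // Rat b F₀ w} => hall w.1 w.2
  let p : ι → {w : V // Rat b F₀ w} := fun i => ⟨b i, rat_basis i⟩
  have hd0 : ∀ i, d (p i) ≠ 0 := fun i h => b.ne_zero i ((g : V ≃ₗ[F] V).injective (by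
    rw [map_zero, hgx (p i), h, zero_smul]))
  refine hg ⟨d (p i₀), hd0 i₀, fun j => ?_⟩
  by_cases hj : j = i₀
  · subst hj; exact ⟨_, hx (p j), hgx (p j)⟩
  let s : {w : V // Rat b F₀ w} := ⟨b i₀ + b j, (rat_basis i₀).add (rat_basis j)⟩
  set xi := x (p i₀) with hxi
  set xj := x (p j) with hxj
  obtain ⟨k, hk⟩ : ∃ k, b.repr xj k ≠ 0 := by
    by_contra! hc
    have : xj = 0 := b.ext_elem fun i => by rw [hc i]; simp
    exact b.ne_zero j ((g : V ≃ₗ[F] V).injective (by rw [map_zero, hgx (p j), ← hxj, this, smul_zero]))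
  obtain ⟨l, hl⟩ : ∃ l, b.repr xi l - b.repr xi k / b.repr xj k * b.repr xj l ≠ 0 := by
    by_contra! hc
    set ρ := b.repr xi k / b.repr xj k
    have e : xi = ρ • xj := b.ext_elem fun i => by
      rw [LinearEquiv.map_smul, Finsupp.smul_apply, smul_eq_mul, ← sub_eq_zero]
      exact hc i
    have h1 : d (p j) • b i₀ = (d (p i₀) * ρ) • b j := (g : V ≃ₗ[F] V).injective (by
      rw [map_smul, map_smul, hgx (p i₀), hgx (p j), ← hxi, ← hxj, e, smul_smul, smul_smul, smul_smul]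
      congr 1
      ring)
    have h2 := congrArg (fun v => b.repr v i₀) h1
    simp [hj] at h2
    exact hd0 j h2
  have hsum : ∀ n, d s * b.repr (x s) n = d (p i₀) * b.repr xi n + d (p j) * b.repr xj n := fun n => by
    have h1 : d s • x s = d (p i₀) • xi + d (p j) • xj := by
      rw [← hgx s, hxi, hxj, ← hgx (p i₀), ← hgx (p j), ← map_add]
    simpa using congrArg (fun v => b.repr v n) h1
  have hi : ∃ c ∈ F₀, d (p i₀) = c * d s := by
    refine ⟨(b.repr (x s) l - b.repr xj l / b.repr xj k * b.repr (x s) k) /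
      (b.repr xi l - b.repr xi k / b.repr xj k * b.repr xj l), div_mem
      (sub_mem (hx s l) (mul_mem (div_mem (hx _ l) (hx _ k)) (hx s k)))
      (sub_mem (hx _ l) (mul_mem (div_mem (hx _ k) (hx _ k)) (hx _ l))), ?_⟩
    have h1 := hsum l
    have h2 := hsum k
    rw [div_mul_eq_mul_div, eq_div_iff hl]
    field_simp
    linear_combination -(b.repr xj k) * h1 + (b.repr xj l) * h2
  obtain ⟨c, hc, hci⟩ := hi
  have hc0 : c ≠ 0 := fun h => hd0 i₀ (by rw [hci, h, zero_mul])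
  refine ⟨(((b.repr (x s) k - c * b.repr xi k) / b.repr xj k) / c) • xj,
    (hx _).smul (div_mem (div_mem (sub_mem (hx s k) (mul_mem hc (hx _ k))) (hx _ k)) hc), ?_⟩
  rw [hgx (p j), ← hxj, smul_smul, hci]
  congr 1
  have h2 := hsum k
  rw [hci] at h2
  field_simp
  linear_combination -h2

theorem eq_top_of_not_semi [Fintype F] [FiniteDimensional F V] {r : ℕ} (hr : r.Prime)
    (hcard : Fintype.card F = Nat.card F₀ ^ r) (hs : Struct B b F₀ m) (hm : 3 ≤ m)
    (hK : ∀ w, Rat b F₀ w → ∀ c ∈ F₀, tr hs.alt w c ∈ K) {g : Sp B} (hgK : g ∈ K) (hg : ¬ Semi b F₀ g) :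
    K = ⊤ := by
  have hne : Nonempty ι := Fintype.card_pos_iff.1 (by rw [hs.card]; omega)
  obtain ⟨w₀, hw₀, hoff⟩ := exists_off_line g hg (Classical.arbitrary ι)
  set u := (g : V ≃ₗ[F] V) w₀ with hudef
  have hu : ∀ c ∈ F₀, tr hs.alt u c ∈ K := fun c hc => by
    rw [hudef, ← conj_tr]
    exact K.mul_mem (K.mul_mem hgK (hK _ hw₀ c hc)) (K.inv_mem hgK)
  refine SympMax.eq_top_of_tr hs.alt hs.nondeg ?_
  by_cases hperp : ∃ w, Rat b F₀ w ∧ w ≠ 0 ∧ B u w = 0
  · obtain ⟨w, hw, hw0, huw⟩ := hperp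
    exact tr_mem_of_perp hr hcard hs hm hK hu (fun δ x hx _ => hoff δ x hx) hw hw0 huw
  push Not at hperp
  obtain ⟨h, hhK, w, hw, hw0, huw, hnr⟩ := exists_perp hr hcard hs hm hK hu fun w hw h0 => by
    by_contra hw0
    exact hperp w hw hw0 h0
  refine tr_mem_of_perp hr hcard hs hm hK (fun c hc => ?_) hnr hw hw0 huw
  rw [← conj_tr]
  exact K.mul_mem (K.mul_mem hhK (hu c hc)) (K.inv_mem hhK)

end CfsgLib.Geo.SympSubfield

namespace CfsgLib.Geo.SympSubfield

open Matrix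
open CfsgLib.Classical CfsgLib.Classical.Symp

/-- Conjugates of rational matrices times scalars. -/
theorem mem_subfieldSubgroup_of_conj {ι : Type} {F : Type*} [Fintype ι] [DecidableEq ι] [Nonempty ι] [Field F]
    {F₀ : Subfield F} {P g : Matrix.GeneralLinearGroup ι F} {l : F} (hl : l ≠ 0)
    (hg : ∀ i j, ((P⁻¹ * g * P : Matrix.GeneralLinearGroup ι F) : Matrix ι ι F) i j / l ∈ F₀) :
    g ∈ Cfsg.Geo.subfieldSubgroup F₀ P := by
  set h := P⁻¹ * g * P with hh
  let A : Matrix ι ι F₀ := fun i j => ⟨(h : Matrix ι ι F) i j / l, hg i j⟩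
  have hA : A.map F₀.subtype = l⁻¹ • (h : Matrix ι ι F) := by
    ext i j
    show (h : Matrix ι ι F) i j / l = _
    rw [Matrix.smul_apply, div_eq_inv_mul, smul_eq_mul]
  have hdet : A.det ≠ 0 := fun h0 => by
    have e := RingHom.map_det F₀.subtype A
    rw [h0, map_zero, RingHom.mapMatrix_apply, hA, Matrix.det_smul, eq_comm, mul_eq_zero] at e
    rcases e with e | e
    · exact inv_ne_zero hl (pow_eq_zero_iff'.1 e).1
    · exact (Matrix.isUnit_iff_isUnit_det _).1 h.isUnit |>.ne_zero e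
  refine ⟨h, ?_, by simp [hh, mul_assoc]⟩
  have e : Matrix.GeneralLinearGroup.map (F₀.subtype : F₀ →+* F) (Matrix.GeneralLinearGroup.mkOfDetNeZero A hdet) *
      Units.map (Matrix.scalar ι : F →+* Matrix ι ι F).toMonoidHom (Units.mk0 l hl) = h := by
    refine Units.ext ?_
    show A.map F₀.subtype * Matrix.scalar ι l = _
    rw [hA, Matrix.scalar_apply, ← Matrix.smul_one_eq_diagonal, Matrix.mul_smul, Matrix.mul_one, smul_smul,
      mul_inv_cancel₀ hl, one_smul]
  rw [SetLike.mem_coe, ← e]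
  exact Subgroup.mul_mem_sup ⟨_, rfl⟩ ⟨Units.mk0 l hl, rfl⟩

/-- Symplectic subfield groups are maximal. -/
theorem isMaximalIn_subfield {F : Type*} [Field F] [Fintype F] {m : ℕ} (hm : 3 ≤ m) (F₀ : Subfield F) {r : ℕ}
    (hr : r.Prime) (hcard : Fintype.card F = Nat.card F₀ ^ r)
    (P : Matrix.GeneralLinearGroup (Fin m ⊕ Fin m) F) (ζ : F) (hζ : ζ ≠ 0)
    (hP : Cfsg.Geo.IsFormRationalStructure (Cfsg.sympForm m F) F₀ ζ P) :
    Cfsg.Geo.IsMaximalIn (Cfsg.spGL m F) (Cfsg.Geo.subfieldSubgroup F₀ P ⊓ Cfsg.spGL m F) := by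
  classical
  haveI : Nonempty (Fin m ⊕ Fin m) := ⟨Sum.inl ⟨0, by omega⟩⟩
  set B := ζ • sympBil m F with hBdef
  have hBv : ∀ u v, B u v = ζ * Cfsg.sympForm m F u v := fun u v => by
    simp [hBdef, sympBil_apply]
  have hIso : Sp (sympBil m F) = Sp B := by
    ext g
    simp [mem_Iso, hBdef, hζ]
  let eP : (Fin m ⊕ Fin m → F) ≃ₗ[F] (Fin m ⊕ Fin m → F) :=
    { toFun := fun x => ((P⁻¹ : Matrix.GeneralLinearGroup (Fin m ⊕ Fin m) F) : Matrix _ _ F) *ᵥ x
      map_add' := Matrix.mulVec_add _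
      map_smul' := fun c x => Matrix.mulVec_smul _ c x
      invFun := fun x => (P : Matrix (Fin m ⊕ Fin m) (Fin m ⊕ Fin m) F) *ᵥ x
      left_inv := fun x => by simp only; rw [Matrix.mulVec_mulVec, Units.mul_inv, Matrix.one_mulVec]
      right_inv := fun x => by simp only; rw [Matrix.mulVec_mulVec, Units.inv_mul, Matrix.one_mulVec] }
  set b := Module.Basis.ofEquivFun eP with hb
  have hbi : ∀ i, b i = (P : Matrix (Fin m ⊕ Fin m) (Fin m ⊕ Fin m) F) *ᵥ Pi.single i 1 := fun i => by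
    rw [hb, Module.Basis.coe_ofEquivFun]
    rfl
  have hrepr : ∀ x i, b.repr x i =
      (((P⁻¹ : Matrix.GeneralLinearGroup (Fin m ⊕ Fin m) F) : Matrix _ _ F) *ᵥ x) i := fun x i => by
    rw [hb, Module.Basis.ofEquivFun_repr_apply]
    rfl
  have hsingle : ∀ i j : Fin m ⊕ Fin m, (Pi.single i 1 : Fin m ⊕ Fin m → F) j ∈ F₀ := fun i j => by
    rw [Pi.single_apply]
    split_ifs
    · exact one_mem _
    · exact zero_mem _
  have hs : Struct B b F₀ m := by
    refine ⟨fun v => ?_, ⟨fun x hx => ?_, fun x hx => ?_⟩, fun i j => ?_, ?_⟩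
    · show B v v = 0
      simp [hBdef, sympBil_isAlt m F v]
    · refine (sympBil_nondegenerate m F).1 x fun y => ?_
      simpa [hBdef, hζ] using hx y
    · refine (sympBil_nondegenerate m F).2 x fun y => ?_
      simpa [hBdef, hζ] using hx y
    · rw [hBv, hbi, hbi]
      exact hP _ _ (hsingle i) (hsingle j)
    · rw [Fintype.card_sum, Fintype.card_fin, two_mul]
  let e : Cfsg.spGL m F ≃* Sp B :=
    ((preservingEquivIso (Cfsg.sympForm m F)).trans (MulEquiv.subgroupCongr (iso_sympForm_eq m F))).trans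
      (MulEquiv.subgroupCongr hIso)
  have hact : ∀ (g : Cfsg.spGL m F) x, ((g : Matrix.GeneralLinearGroup (Fin m ⊕ Fin m) F) :
      Matrix (Fin m ⊕ Fin m) (Fin m ⊕ Fin m) F) *ᵥ x = (e g : (Fin m ⊕ Fin m → F) ≃ₗ[F] (Fin m ⊕ Fin m → F)) x :=
    fun g x => rfl
  have hentry : ∀ (g : Cfsg.spGL m F) i j,
      ((P⁻¹ * g * P : Matrix.GeneralLinearGroup (Fin m ⊕ Fin m) F) : Matrix _ _ F) i j =
        b.repr ((e g : (Fin m ⊕ Fin m → F) ≃ₗ[F] (Fin m ⊕ Fin m → F)) (b j)) i := fun g i j => by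
    rw [hrepr, ← hact, hbi, Matrix.mulVec_mulVec, Matrix.mulVec_mulVec, Matrix.mulVec_single_one, Units.val_mul,
      Units.val_mul]
    first
      | rfl
      | (simp [Matrix.mul_assoc])
  have hin : ∀ g : Cfsg.spGL m F, (g : Matrix.GeneralLinearGroup (Fin m ⊕ Fin m) F) ∈
      Cfsg.Geo.subfieldSubgroup F₀ P ↔ Semi b F₀ (e g) := by
    intro g
    constructor
    · rintro ⟨h, hh, hhg⟩
      obtain ⟨_, ⟨A, rfl⟩, c, hc, rfl⟩ := Subgroup.mem_sup_of_normal_right.1 hh
      obtain ⟨s, hsc⟩ := (Cfsg.Geo.mem_scalars_iff c).1 hc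
      have hv : ∀ i j, ((P⁻¹ * g * P : Matrix.GeneralLinearGroup (Fin m ⊕ Fin m) F) : Matrix _ _ F) i j =
          (s : F) * ((A : Matrix (Fin m ⊕ Fin m) (Fin m ⊕ Fin m) F₀) i j : F) := by
        intro i j
        rw [← hhg]
        simp only [MulEquiv.toMonoidHom_eq_coe, MonoidHom.coe_coe, MulAut.conj_apply]
        rw [← mul_assoc, ← mul_assoc, inv_mul_cancel, one_mul, inv_mul_cancel_right, Units.val_mul, hsc,
          Matrix.mul_smul, Matrix.mul_one]
        rfl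
      refine ⟨s, s.ne_zero, fun j => ⟨(s : F)⁻¹ • (e g : (Fin m ⊕ Fin m → F) ≃ₗ[F] _) (b j), fun i => ?_, ?_⟩⟩
      · rw [LinearEquiv.map_smul, Finsupp.smul_apply, ← hentry, hv, smul_eq_mul, inv_mul_cancel_left₀ s.ne_zero]
        exact SetLike.coe_mem _
      · rw [smul_inv_smul₀ s.ne_zero]
    · rintro ⟨δ, hδ, hg⟩
      refine mem_subfieldSubgroup_of_conj hδ fun i j => ?_
      obtain ⟨x, hx, hgx⟩ := hg j
      rw [hentry, hgx, LinearEquiv.map_smul, Finsupp.smul_apply, smul_eq_mul, mul_div_cancel_left₀ _ hδ]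
      exact hx i
  refine ⟨lt_of_le_of_ne inf_le_right fun heq => ?_, fun M hM hMS => ?_⟩
  · obtain ⟨σ, hσ⟩ : ∃ σ : F, σ ∉ F₀ := by
      by_contra! hc
      have h1 : Nat.card F ≤ Nat.card F₀ := Nat.card_le_card_of_injective (fun x => (⟨x, hc x⟩ : F₀)) fun a b h =>
        congrArg Subtype.val h
      rw [Nat.card_eq_fintype_card, hcard] at h1
      have := Nat.pow_lt_pow_right (show 1 < Nat.card F₀ from Finite.one_lt_card) hr.one_lt
      rw [pow_one] at this
      omega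
    obtain ⟨i⟩ : Nonempty (Fin m ⊕ Fin m) := inferInstance
    obtain ⟨j, hj⟩ : ∃ j, B (b j) (b i) ≠ 0 := by
      by_contra! hc
      refine b.ne_zero i (hs.nondeg.2 _ fun y => ?_)
      rw [show B y (b i) = (B.flip (b i)) y from rfl, show B.flip (b i) = 0 from b.ext fun j => by simpa using hc j]
      rfl
    obtain ⟨δ, hδ, hg⟩ := (hin (e.symm (tr hs.alt (b i) σ))).1 (heq.ge (e.symm _).2).1
    rw [MulEquiv.apply_symm_apply] at hg
    have hδ₀ : δ ∈ F₀ := by
      obtain ⟨x, hx, hgx⟩ := hg i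
      rw [tr_fix hs.alt σ (hs.alt (b i))] at hgx
      have := congrArg (fun v => b.repr v i) hgx
      simp at this
      rw [show δ = (b.repr x i)⁻¹ from eq_inv_of_mul_eq_one_left this.symm]
      exact inv_mem (hx i)
    obtain ⟨x, hx, hgx⟩ := hg j
    have hji : j ≠ i := fun h => hj (by rw [h, hs.alt])
    rw [tr_apply] at hgx
    have := congrArg (fun v => b.repr v i) hgx
    simp [hji] at this
    refine hσ ?_
    rw [← mul_div_cancel_right₀ σ hj, this]
    exact div_mem (mul_mem hδ₀ (hx i)) (hs.val j i)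
  refine (eq_or_lt_of_le hM).imp Eq.symm fun hlt => le_antisymm hMS ?_
  obtain ⟨g, hgM, hgn⟩ := SetLike.exists_of_lt hlt
  have htop := eq_top_of_not_semi (K := (M.subgroupOf (Cfsg.spGL m F)).map e.toMonoidHom) hr hcard hs hm
    (fun w hw c hc => ⟨e.symm (tr hs.alt w c), hM ⟨(hin _).2 ?_, (e.symm (tr hs.alt w c)).2⟩,
      MulEquiv.apply_symm_apply e _⟩)
    (g := e ⟨g, hMS hgM⟩) ⟨⟨g, hMS hgM⟩, hgM, rfl⟩ (fun h => hgn ⟨(hin ⟨g, hMS hgM⟩).2 h, hMS hgM⟩)
  · intro x hx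
    obtain ⟨y, hy, hye⟩ := (htop.ge (Subgroup.mem_top (e ⟨x, hx⟩)) :)
    have : y = ⟨x, hx⟩ := e.injective hye
    subst this
    exact hy
  · rw [MulEquiv.apply_symm_apply]
    exact ⟨1, one_ne_zero, fun i => ⟨_, by
      rw [tr_apply]
      exact (rat_basis i).add (hw.smul (mul_mem hc (hs.bil (rat_basis i) hw))), (one_smul _ _).symm⟩⟩

end CfsgLib.Geo.SympSubfield
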