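/-
Orthogonal groups over a subfield of prime degree: root elements outside the subfield group produce `Ω`.
-/
import Cfsg.Agent.Lib.Geo.QuadSimilitude
import Cfsg.Agent.Lib.Geo.SympSubfieldMaximal

set_option autoImplicit false

namespace CfsgLib.Geo.OrthSub

open CfsgLib.Classical CfsgLib.Classical.Quad CfsgLib.Geo.OrthMax CfsgLib.Geo.QuadSim
open QuadraticMap (polar polarBilin)

variable {ι : Type} [Fintype ι] [DecidableEq ι] {F : Type*} [Field F]

/-- The semilinear action of a field endomorphism on vectors. -/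
def frv (fr : F →+* F) (x : ι → F) : ι → F := fun i => fr (x i)

variable {fr : F →+* F}

omit [Fintype ι] [DecidableEq ι] in
theorem frv_add (x y : ι → F) : frv fr (x + y) = frv fr x + frv fr y := funext fun i => map_add fr (x i) (y i)

omit [Fintype ι] [DecidableEq ι] in
theorem frv_sub (x y : ι → F) : frv fr (x - y) = frv fr x - frv fr y := funext fun i => map_sub fr (x i) (y i)

omit [Fintype ι] [DecidableEq ι] in
theorem frv_smul (c : F) (x : ι → F) : frv fr (c • x) = fr c • frv fr x := funext fun i => map_mul fr c (x i)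

omit [Fintype ι] [DecidableEq ι] in
theorem frv_zero : frv fr (0 : ι → F) = 0 := funext fun _ => map_zero fr

omit [Fintype ι] [DecidableEq ι] in
theorem frv_injective : Function.Injective (frv fr : (ι → F) → (ι → F)) := fun _ _ h =>
  funext fun i => fr.injective (congrFun h i)

omit [Fintype ι] [DecidableEq ι] in
theorem frv_sum {κ : Type*} (s : Finset κ) (f : κ → ι → F) :
    frv fr (∑ k ∈ s, f k) = ∑ k ∈ s, frv fr (f k) := by
  funext i
  simp only [frv, Finset.sum_apply, map_sum]

/-- A vector over the subfield, in the big space. -/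
def inc (F₀ : Subfield F) (c : ι → F₀) : ι → F := fun i => (c i : F)

variable {F₀ : Subfield F}

omit [Fintype ι] [DecidableEq ι] in
theorem inc_add (x y : ι → F₀) : inc F₀ (x + y) = inc F₀ x + inc F₀ y := funext fun _ => rfl

omit [Fintype ι] [DecidableEq ι] in
theorem inc_sub (x y : ι → F₀) : inc F₀ (x - y) = inc F₀ x - inc F₀ y := funext fun _ => rfl

omit [Fintype ι] [DecidableEq ι] in
theorem inc_neg (x : ι → F₀) : inc F₀ (-x) = -inc F₀ x := funext fun _ => rfl

omit [Fintype ι] [DecidableEq ι] in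
theorem inc_smul (c : F₀) (x : ι → F₀) : inc F₀ (c • x) = (c : F) • inc F₀ x := funext fun _ => rfl

omit [Fintype ι] [DecidableEq ι] in
theorem inc_zero : inc F₀ (0 : ι → F₀) = 0 := funext fun _ => rfl

omit [Fintype ι] [DecidableEq ι] in
theorem inc_injective : Function.Injective (inc F₀ : (ι → F₀) → (ι → F)) := fun _ _ h =>
  funext fun i => Subtype.ext (congrFun h i)

theorem inc_single (i : ι) : inc F₀ (Pi.single i (1 : F₀)) = Pi.single i 1 := by
  funext j
  by_cases h : j = i <;> simp [inc, Pi.single_apply, h]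

/-- The form is defined over the subfield. -/
structure Setup (fr : F →+* F) (F₀ : Subfield F) (Q : QuadraticForm F (ι → F))
    (Q₀ : QuadraticForm F₀ (ι → F₀)) : Prop where
  fix : ∀ c, c ∈ F₀ ↔ fr c = c
  comm : ∀ x, Q (frv fr x) = fr (Q x)
  val : ∀ c, Q (inc F₀ c) = ((Q₀ c : F₀) : F)
  nondeg : (polarBilin Q).Nondegenerate
  nondeg₀ : (polarBilin Q₀).Nondegenerate
  dim : 7 ≤ Fintype.card ι
  deg : ∃ r : ℕ, r.Prime ∧ Nat.card F = Nat.card F₀ ^ r

variable {Q : QuadraticForm F (ι → F)} {Q₀ : QuadraticForm F₀ (ι → F₀)} (s : Setup fr F₀ Q Q₀)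
include s

theorem Setup.pval (x y : ι → F₀) :
    polar (⇑Q) (inc F₀ x) (inc F₀ y) = ((polar (⇑Q₀) x y : F₀) : F) := by
  simp only [polar, ← inc_add, s.val, Subfield.coe_sub]

theorem Setup.pval_zero {x y : ι → F₀} (h : polar (⇑Q₀) x y = 0) :
    polar (⇑Q) (inc F₀ x) (inc F₀ y) = 0 := by
  rw [s.pval, h, ZeroMemClass.coe_zero]

theorem Setup.pval_one {x y : ι → F₀} (h : polar (⇑Q₀) x y = 1) :
    polar (⇑Q) (inc F₀ x) (inc F₀ y) = 1 := by
  rw [s.pval, h, OneMemClass.coe_one]

theorem Setup.val_zero {x : ι → F₀} (h : Q₀ x = 0) : Q (inc F₀ x) = 0 := by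
  rw [s.val, h, ZeroMemClass.coe_zero]

theorem Setup.comm_polar (x y : ι → F) : polar (⇑Q) (frv fr x) (frv fr y) = fr (polar (⇑Q) x y) := by
  simp only [polar, ← frv_add, s.comm, map_sub]

theorem Setup.frv_inc (x : ι → F₀) : frv fr (inc F₀ x) = inc F₀ x := funext fun i => (s.fix _).1 (x i).2

theorem Setup.frv_scaled {c : F} (hc : c ∈ F₀) {x : ι → F} (hx : frv fr x = x) : frv fr (c • x) = c • x := by
  rw [frv_smul, (s.fix c).1 hc, hx]

theorem Setup.exists_inc {x : ι → F} (hx : frv fr x = x) : ∃ c, inc F₀ c = x :=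
  ⟨fun i => ⟨x i, (s.fix _).2 (congrFun hx i)⟩, rfl⟩

theorem Setup.polar_mem {x : ι → F} (hx : frv fr x = x) (y : ι → F₀) : polar (⇑Q) x (inc F₀ y) ∈ F₀ := by
  rw [s.fix, ← s.comm_polar, hx, s.frv_inc]

theorem Setup.ext {x y : ι → F} (h : ∀ c, polar (⇑Q) x (inc F₀ c) = polar (⇑Q) y (inc F₀ c)) : x = y := by
  rw [← sub_eq_zero]
  refine s.nondeg.1 _ fun z => ?_
  rw [pi_eq_sum_univ' z, map_sum]
  refine Finset.sum_eq_zero fun i _ => ?_
  have hi := h (Pi.single i 1)
  rw [inc_single] at hi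
  rw [map_smul, QuadraticMap.polarBilin_apply_apply, QuadraticMap.polar_sub_left, hi, sub_self, smul_zero]

theorem Setup.rat_of_polar {x : ι → F} (h : ∀ c, polar (⇑Q) x (inc F₀ c) ∈ F₀) : frv fr x = x :=
  s.ext fun c => by
    conv_lhs => rw [← s.frv_inc c, s.comm_polar]
    exact (s.fix _).1 (h c)

theorem Setup.inc_ne_zero {x : ι → F₀} (hx : x ≠ 0) : inc F₀ x ≠ 0 := fun h =>
  hx (inc_injective (h.trans inc_zero.symm))

variable [Finite F]

/-- All rational Eichler transformations lie in the subgroup. -/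
def HasRat (K : Subgroup (OQ Q)) : Prop := ∀ w a : ι → F₀, Has s.nondeg K (inc F₀ w) (inc F₀ a)

variable {K : Subgroup (OQ Q)}

theorem exists_lift (hK : HasRat s K) {t : OQ Q₀} (ht : t ∈ eichGroup s.nondeg₀) :
    ∃ k ∈ K, ∀ z, (k : (ι → F) ≃ₗ[F] (ι → F)) (inc F₀ z) =
      inc F₀ ((t : (ι → F₀) ≃ₗ[F₀] (ι → F₀)) z) := by
  induction ht using Subgroup.closure_induction with
  | mem y hy =>
    obtain ⟨w, a, hw, ha, hqa, rfl⟩ := hy
    refine ⟨_, hK w a (s.val_zero hw) (s.pval_zero ha), fun z => ?_⟩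
    rw [eich_apply, eich_apply, s.pval, s.pval, s.val, inc_add, inc_add, inc_smul, inc_smul]
    simp only [Subfield.coe_sub, Subfield.coe_mul, Subfield.coe_neg]
  | one => exact ⟨1, one_mem _, fun x => rfl⟩
  | mul y z _ _ hy hz =>
    obtain ⟨k, hk, ek⟩ := hy
    obtain ⟨k', hk', ek'⟩ := hz
    exact ⟨k * k', mul_mem hk hk', fun x => by simp [ek, ek']⟩
  | inv y _ hy =>
    obtain ⟨k, hk, ek⟩ := hy
    refine ⟨k⁻¹, inv_mem hk, fun x => (k : (ι → F) ≃ₗ[F] (ι → F)).injective ?_⟩
    simp [ek]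

/-- A hyperbolic pair orthogonal to two given rational vectors. -/
theorem exists_pair_perp (x y : ι → F₀) :
    ∃ e f, Q₀ e = 0 ∧ Q₀ f = 0 ∧ polar (⇑Q₀) e f = 1 ∧ polar (⇑Q₀) x e = 0 ∧ polar (⇑Q₀) x f = 0 ∧
      polar (⇑Q₀) y e = 0 ∧ polar (⇑Q₀) y f = 0 := by
  obtain ⟨e, he, f, hf, hqe, hqf, hef⟩ := exists_hyp s.nondeg₀ (L := cut (cut ⊤ Q₀ x) Q₀ y) (by
    have := finrank_cut (Q := Q₀) (⊤ : Submodule F₀ (ι → F₀)) x
    have := finrank_cut (Q := Q₀) (cut ⊤ Q₀ x) y
    have := s.dim
    rw [finrank_top, Module.finrank_fintype_fun_eq_card] at *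
    omega)
  exact ⟨e, f, hqe, hqf, hef, he.1.2, hf.1.2, he.2, hf.2⟩

omit s in
theorem has_neg {hQ : (polarBilin Q).Nondegenerate} {w a : ι → F} (ha : Has hQ K w a) : Has hQ K w (-a) := by
  intro hw hna
  have ha' : polar (⇑Q) w a = 0 := by
    rwa [QuadraticMap.polar_neg_right, neg_eq_zero] at hna
  rw [← eich_inv hQ hw ha']
  exact K.inv_mem (ha hw ha')

theorem has_diff {z : ι → F} {δ : ι → F} (hδ : polar (⇑Q) z δ = 0) (h : Has s.nondeg K z δ)
    {g : OQ Q} (hg : g ∈ K) (hgz : (g : (ι → F) ≃ₗ[F] (ι → F)) z = z) :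
    Has s.nondeg K z ((g : (ι → F) ≃ₗ[F] (ι → F)) δ - δ) := by
  have h1 := h.conj s.nondeg hg
  rw [hgz] at h1
  rw [sub_eq_add_neg]
  refine h1.add s.nondeg (has_neg h) ?_
  conv_lhs => rw [← hgz]
  rw [OQ.map_polar, hδ]

theorem step (hK : HasRat s K) {z p : ι → F₀} (hp : Q₀ p = 0) (hzp : polar (⇑Q₀) z p = 0)
    {δ : ι → F} (hδ : polar (⇑Q) (inc F₀ z) δ = 0) (h : Has s.nondeg K (inc F₀ z) δ) (c : F₀) :
    Has s.nondeg K (inc F₀ z) ((c : F) • polar (⇑Q) δ (inc F₀ p) • inc F₀ p) := by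
  obtain ⟨x, y, hx, hy, hxy, hzx, hzy, hpx, hpy⟩ := exists_pair_perp s z p
  set μ := polar (⇑Q) δ (inc F₀ p) with hμ
  have hfix : ∀ {a : ι → F₀} (hqp : Q (inc F₀ p) = 0) (hpa : polar (⇑Q) (inc F₀ p) (inc F₀ a) = 0),
      polar (⇑Q₀) z a = 0 → (eich s.nondeg hqp hpa : (ι → F) ≃ₗ[F] (ι → F)) (inc F₀ z) = inc F₀ z := by
    intro a hqp hpa hza
    rw [eich_apply, s.pval_zero hza, s.pval_zero hzp]
    module
  have hqp := s.val_zero hp
  have hpx' : polar (⇑Q) (inc F₀ p) (inc F₀ x) = 0 := s.pval_zero hpx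
  have h1 := has_diff s hδ h (hK p x hqp hpx') (hfix hqp hpx' hzx)
  set δ₁ := (eich s.nondeg hqp hpx' : (ι → F) ≃ₗ[F] (ι → F)) δ - δ with hδ₁
  have hδ₁z : polar (⇑Q) (inc F₀ z) δ₁ = 0 := by
    rw [hδ₁, QuadraticMap.polar_sub_right, hδ, sub_zero]
    conv_lhs => rw [← hfix hqp hpx' hzx]
    rw [OQ.map_polar, hδ]
  have hcy : polar (⇑Q) (inc F₀ p) (inc F₀ (c • y)) = 0 :=
    s.pval_zero (by rw [polar_smul_right', hpy, mul_zero])
  have h2 := has_diff s hδ₁z h1 (hK p (c • y) hqp hcy)
    (hfix hqp hcy (by rw [polar_smul_right', hzy, mul_zero]))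
  have e : δ₁ = (polar (⇑Q) δ (inc F₀ x)) • inc F₀ p + (-μ) • inc F₀ x := by
    rw [hδ₁, eich_apply, s.val_zero hx, ← hμ]
    module
  have e2 : (eich s.nondeg hqp hcy : (ι → F) ≃ₗ[F] (ι → F)) δ₁ - δ₁ = -((c : F) • μ • inc F₀ p) := by
    have q1 : polar (⇑Q) δ₁ (inc F₀ p) = 0 := by
      rw [e, polar_add_left', polar_smul_left', polar_smul_left',
        s.pval_zero (show polar (⇑Q₀) x p = 0 by rw [QuadraticMap.polar_comm, hpx]),
        polar_self', hqp]
      ring
    have q2 : polar (⇑Q) δ₁ (inc F₀ (c • y)) = -((c : F) * μ) := by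
      rw [inc_smul, polar_smul_right', e, polar_add_left', polar_smul_left', polar_smul_left',
        s.pval_zero hpy, s.pval_one hxy]
      ring
    rw [eich_apply, q1, q2]
    module
  rw [e2] at h2
  simpa using has_neg h2

/-- The scalar occurs at every rational root. -/
def Sig (μ : F) (K : Subgroup (OQ Q)) : Prop :=
  ∀ w a : ι → F₀, Q₀ w = 0 → polar (⇑Q₀) w a = 0 → Has s.nondeg K (inc F₀ w) (μ • inc F₀ a)

theorem sig_of_seed (hK : HasRat s K) {z : ι → F₀} (hz : Q₀ z = 0) (hz0 : z ≠ 0) {δ : ι → F}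
    (hδ : polar (⇑Q) (inc F₀ z) δ = 0) (h : Has s.nondeg K (inc F₀ z) δ) {p : ι → F₀} (hp : Q₀ p = 0)
    (hzp : polar (⇑Q₀) z p = 0) (hμ : polar (⇑Q) δ (inc F₀ p) ≠ 0) :
    Sig s (polar (⇑Q) δ (inc F₀ p)) K := by
  have hn := s.dim
  set μ := polar (⇑Q) δ (inc F₀ p) with hμdef
  have hpz : ∀ k : F₀, p ≠ k • z := fun k hk => hμ (by
    rw [hμdef, hk, inc_smul, polar_smul_right', QuadraticMap.polar_comm, hδ, mul_zero])
  -- the same scalar on all singular vectors orthogonal to `z`
  have hall : ∀ q, Q₀ q = 0 → polar (⇑Q₀) z q = 0 → Has s.nondeg K (inc F₀ z) (μ • inc F₀ q) := by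
    intro q hq hzq
    by_cases hqz : ∃ k : F₀, q = k • z
    · obtain ⟨k, rfl⟩ := hqz
      intro hw hwa
      have e := eich_add_smul s.nondeg (a := (0 : ι → F)) hw (QuadraticMap.polar_zero_right _ _) (μ * k)
      have e' : (0 : ι → F) + (μ * (k : F)) • inc F₀ z = μ • inc F₀ (k • z) := by
        rw [inc_smul, zero_add, mul_smul]
      rw [← eich_congr s.nondeg (hw := hw) (ha := by rw [e']; exact hwa) rfl e', e, eich_zero_right]
      exact one_mem _
    push Not at hqz
    -- a common partner or a chain of two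
    have hsep : ∀ v : ι → F₀, (∀ k : F₀, v ≠ k • z) →
        ∃ a, Q₀ a = 0 ∧ polar (⇑Q₀) z a = 0 ∧ polar (⇑Q₀) v a ≠ 0 := by
      intro v hv
      obtain ⟨a, ha, ha'⟩ := exists_sep_polar s.nondeg₀ (U := Submodule.span F₀ {z}) (x := v) fun hm => by
        obtain ⟨k, hk⟩ := Submodule.mem_span_singleton.1 hm
        exact hv k hk.symm
      by_contra hne
      push Not at hne
      have hS : cut ⊤ Q₀ z ≤ cut ⊤ Q₀ v := QuadSim.le_of_singular s.nondeg₀ (by
        have := finrank_cut (Q := Q₀) (⊤ : Submodule F₀ (ι → F₀)) z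
        rw [finrank_top, Module.finrank_fintype_fun_eq_card] at *
        omega) fun x hx hxx => mem_cut.2 ⟨trivial, hne x hxx hx.2⟩
      have h0 := (mem_cut.1 (hS (mem_cut.2 ⟨trivial, ha' z (Submodule.mem_span_singleton_self z)⟩))).2
      rw [ha] at h0
      exact one_ne_zero h0
    have hz1 : ∀ {a : ι → F₀} (t : F), polar (⇑Q₀) z a = 0 → polar (⇑Q) (inc F₀ z) (t • inc F₀ a) = 0 :=
      fun t ha => by rw [polar_smul_right', s.pval_zero ha, mul_zero]
    have hchain : ∀ x y : ι → F₀, polar (⇑Q₀) z x = 0 → Q₀ y = 0 → polar (⇑Q₀) z y = 0 →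
        polar (⇑Q₀) x y ≠ 0 → Has s.nondeg K (inc F₀ z) (μ • inc F₀ x) →
        Has s.nondeg K (inc F₀ z) (μ • inc F₀ y) := by
      intro x y hzx hy hzy hxy hx
      have h2 := step s hK hy hzy (hz1 μ hzx) hx (polar (⇑Q₀) x y)⁻¹
      rwa [polar_smul_left', s.pval, smul_smul, mul_comm, mul_assoc, ← Subfield.coe_mul,
        mul_inv_cancel₀ hxy, OneMemClass.coe_one, mul_one] at h2
    have h1 : ∀ v, Q₀ v = 0 → polar (⇑Q₀) z v = 0 → polar (⇑Q₀) p v ≠ 0 →
        Has s.nondeg K (inc F₀ z) (μ • inc F₀ v) := by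
      intro v hv hzv hpv
      have h1 := step s hK hp hzp hδ h 1
      rw [OneMemClass.coe_one, one_smul, ← hμdef] at h1
      exact hchain p v hzp hv hzv hpv h1
    obtain ⟨a, haa, hza, hpa⟩ := hsep p hpz
    by_cases hqa : polar (⇑Q₀) a q = 0
    · obtain ⟨b, hbb, hzb, hqb⟩ := hsep q hqz
      rw [QuadraticMap.polar_comm] at hqb
      by_cases hpb : polar (⇑Q₀) p b = 0
      · by_cases hab : polar (⇑Q₀) a b = 0
        · exact hchain (a + b) q (by rw [polar_add_right', hza, hzb, add_zero]) hq hzq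
            (by rw [QuadraticMap.polar_add_left, hqa, zero_add]; exact hqb)
            (h1 (a + b) (by rw [apply_add, haa, hbb, hab, add_zero, add_zero])
              (by rw [polar_add_right', hza, hzb, add_zero])
              (by rw [polar_add_right', hpb, add_zero]; exact hpa))
        · exact hchain b q hzb hq hzq hqb (hchain a b hza hbb hzb hab (h1 a haa hza hpa))
      · exact hchain b q hzb hq hzq hqb (h1 b hbb hzb hpb)
    · exact hchain a q hza hq hzq hqa (h1 a haa hza hpa)
  have hzall : ∀ a, polar (⇑Q₀) z a = 0 → Has s.nondeg K (inc F₀ z) (μ • inc F₀ a) := by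
    let S : Submodule F₀ (ι → F₀) :=
      { carrier := {a | polar (⇑Q₀) z a = 0 ∧ ∀ k : F₀, Has s.nondeg K (inc F₀ z) (μ • inc F₀ (k • a))}
        add_mem' := fun {a b} ha hb => ⟨by rw [polar_add_right', ha.1, hb.1, add_zero], fun k => by
          rw [smul_add, inc_add, smul_add]
          exact (ha.2 k).add s.nondeg (hb.2 k) (by
            rw [polar_smul_right', s.pval_zero (by rw [polar_smul_right', ha.1, mul_zero]), mul_zero])⟩
        zero_mem' := ⟨QuadraticMap.polar_zero_right _ _, fun k => by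
          rw [smul_zero, inc_zero, smul_zero]
          intro hw hwa
          rw [eich_zero_right]
          exact one_mem _⟩
        smul_mem' := fun t a ha => ⟨by rw [polar_smul_right', ha.1, mul_zero], fun k => by
          rw [smul_smul]; exact ha.2 _⟩ }
    have hS : cut ⊤ Q₀ z ≤ S := QuadSim.le_of_singular s.nondeg₀ (by
      have := finrank_cut (Q := Q₀) (⊤ : Submodule F₀ (ι → F₀)) z
      rw [finrank_top, Module.finrank_fintype_fun_eq_card] at *
      omega) fun q hq hqq => ⟨hq.2, fun k => hall _ (by rw [apply_smul, hqq, mul_zero])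
        (by rw [polar_smul_right', show polar (⇑Q₀) z q = 0 from hq.2, mul_zero])⟩
    intro a ha
    have := (hS (mem_cut.2 ⟨trivial, ha⟩)).2 1
    rwa [one_smul] at this
  intro w a hw hwa
  by_cases hw0 : w = 0
  · intro h1 h2
    subst hw0
    rw [eich_congr s.nondeg (hw := h1) (ha := h2) inc_zero rfl, eich_zero_left]
    exact one_mem _
  obtain ⟨t, ht, htz⟩ := exists_move_singular s.nondeg₀ (by rw [Module.finrank_fintype_fun_eq_card]; omega)
    hz hz0 hw hw0
  obtain ⟨k, hk, hke⟩ := exists_lift s hK ht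
  obtain ⟨a', rfl⟩ := (t : (ι → F₀) ≃ₗ[F₀] (ι → F₀)).surjective a
  have hza' : polar (⇑Q₀) z a' = 0 := by rwa [← htz, OQ.map_polar] at hwa
  have := (hzall a' hza').conj s.nondeg hk
  rwa [map_smul, hke, hke, htz] at this

theorem le_of_sig (hK : HasRat s K) {σ : F} (hσ : σ ∉ F₀) (hsig : Sig s σ K) :
    eichGroup s.nondeg ≤ K := by
  have hn := s.dim
  obtain ⟨r, hr, hcard⟩ := s.deg
  haveI : Fintype F := Fintype.ofFinite F
  rw [Nat.card_eq_fintype_card] at hcard
  have hsum : ∀ τ, Sig s τ K := fun τ =>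
    SympSubfield.mem_all_of_closed hr hcard (S := {τ | Sig s τ K})
      (fun c hc w a _ hwa => by
        have := hK w ((⟨c, hc⟩ : F₀) • a)
        rwa [inc_smul] at this)
      (fun c hc d hd w a hw hwa => by
        rw [add_smul]
        exact (hc w a hw hwa).add s.nondeg (hd w a hw hwa)
          (by rw [polar_smul_right', s.pval_zero hwa, mul_zero]))
      (fun μ hμ ν hν w a hw hwa => by
        let S : Submodule F₀ (ι → F₀) :=
          { carrier := {a | polar (⇑Q₀) w a = 0 ∧
              ∀ k : F₀, Has s.nondeg K (inc F₀ w) ((μ * ν) • inc F₀ (k • a))}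
            add_mem' := fun {a b} ha hb => ⟨by rw [polar_add_right', ha.1, hb.1, add_zero], fun k => by
              rw [smul_add, inc_add, smul_add]
              exact (ha.2 k).add s.nondeg (hb.2 k) (by
                rw [polar_smul_right', s.pval_zero (by rw [polar_smul_right', ha.1, mul_zero]), mul_zero])⟩
            zero_mem' := ⟨QuadraticMap.polar_zero_right _ _, fun k => by
              rw [smul_zero, inc_zero, smul_zero]
              intro hw hwa
              rw [eich_zero_right]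
              exact one_mem _⟩
            smul_mem' := fun t a ha => ⟨by rw [polar_smul_right', ha.1, mul_zero], fun k => by
              rw [smul_smul]; exact ha.2 _⟩ }
        have key : ∀ c, Q₀ c = 0 → polar (⇑Q₀) w c = 0 →
            Has s.nondeg K (inc F₀ w) ((μ * ν) • inc F₀ c) := by
          intro c hqc hwc
          obtain ⟨p, b, hp, hb, hpb, hwp, hwb, hcp, hcb⟩ := exists_pair_perp s w c
          have hpν : polar (⇑Q) (inc F₀ p) (ν • inc F₀ c) = 0 := by
            rw [polar_smul_right', QuadraticMap.polar_comm, s.pval_zero hcp, mul_zero]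
          have hg := hν p c hp (by rw [QuadraticMap.polar_comm, hcp]) (s.val_zero hp) hpν
          set g := eich s.nondeg (s.val_zero hp) hpν
          have hgw : (g : (ι → F) ≃ₗ[F] (ι → F)) (inc F₀ w) = inc F₀ w := by
            rw [eich_apply, polar_smul_right', s.pval_zero hwc, s.pval_zero hwp]
            module
          have hgb : (g : (ι → F) ≃ₗ[F] (ι → F)) (inc F₀ b) = inc F₀ b - ν • inc F₀ c := by
            rw [eich_apply, polar_smul_right', apply_smul, s.val_zero hqc,
              s.pval_zero (show polar (⇑Q₀) b c = 0 by rw [QuadraticMap.polar_comm, hcb]),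
              s.pval_one (show polar (⇑Q₀) b p = 1 by rw [QuadraticMap.polar_comm, hpb])]
            module
          have h1 := hμ w b hw hwb
          have hz : polar (⇑Q) (inc F₀ w) (μ • inc F₀ b) = 0 := by
            rw [polar_smul_right', s.pval_zero hwb, mul_zero]
          have h2 := has_neg (has_diff s hz h1 hg hgw)
          rw [map_smul, hgb] at h2
          convert h2 using 1
          module
        have hS : cut ⊤ Q₀ w ≤ S := QuadSim.le_of_singular s.nondeg₀ (by
          have := finrank_cut (Q := Q₀) (⊤ : Submodule F₀ (ι → F₀)) w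
          rw [finrank_top, Module.finrank_fintype_fun_eq_card] at *
          omega) fun q hq hqq => ⟨hq.2, fun k => key _ (by rw [apply_smul, hqq, mul_zero])
            (by rw [polar_smul_right', show polar (⇑Q₀) w q = 0 from hq.2, mul_zero])⟩
        have := (hS (mem_cut.2 ⟨trivial, hwa⟩)).2 1
        rwa [one_smul] at this)
      hsig hσ τ
  -- full root groups at rational centres
  have hrat : ∀ w, Q₀ w = 0 → w ≠ 0 → HasRoot s.nondeg K (inc F₀ w) := by
    intro w hw hw0 v hqw hwv
    obtain ⟨w', -, hww'⟩ := exists_partner_of_singular s.nondeg₀ hw hw0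
    let t : ι → ι → F₀ := fun i => Pi.single i 1 - polar (⇑Q₀) w (Pi.single i 1) • w'
    have ht : ∀ i, polar (⇑Q₀) w (t i) = 0 := fun i => by
      simp only [t, QuadraticMap.polar_sub_right, polar_smul_right', hww', mul_one, sub_self]
    have hv : v = ∑ i, v i • inc F₀ (t i) := by
      have e : ∑ i, v i * ((polar (⇑Q₀) w (Pi.single i 1) : F₀) : F) = 0 := by
        conv_rhs => rw [← hwv, pi_eq_sum_univ' v, ← QuadraticMap.polarBilin_apply_apply, map_sum]
        refine Finset.sum_congr rfl fun i _ => ?_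
        rw [map_smul, QuadraticMap.polarBilin_apply_apply, ← inc_single (F₀ := F₀), s.pval, smul_eq_mul]
      conv_rhs =>
        simp only [t, inc_sub, inc_smul, inc_single, smul_sub, smul_smul, Finset.sum_sub_distrib]
      rw [← Finset.sum_smul, e, zero_smul, sub_zero]
      exact pi_eq_sum_univ' v
    have key : ∀ S : Finset ι, Has s.nondeg K (inc F₀ w) (∑ i ∈ S, v i • inc F₀ (t i)) ∧
        polar (⇑Q) (inc F₀ w) (∑ i ∈ S, v i • inc F₀ (t i)) = 0 := by
      intro S
      induction S using Finset.induction with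
      | empty =>
        refine ⟨fun h1 h2 => ?_, by simp⟩
        simp only [Finset.sum_empty, eich_zero_right]
        exact one_mem _
      | insert j S hj ih =>
        rw [Finset.sum_insert hj]
        have hj' : polar (⇑Q) (inc F₀ w) (v j • inc F₀ (t j)) = 0 := by
          rw [polar_smul_right', s.pval_zero (ht j), mul_zero]
        exact ⟨(hsum (v j) w (t j) hw (ht j)).add s.nondeg ih.1 hj',
          by rw [polar_add_right', hj', ih.2, add_zero]⟩
    have := (key Finset.univ).1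
    rw [← hv] at this
    exact this hqw hwv
  refine le_of_has s.nondeg (by rw [Module.finrank_fintype_fun_eq_card]; omega) fun u a hqu _ _ => ?_
  by_cases hu0 : u = 0
  · intro h1 h2
    subst hu0
    rw [eich_zero_left]
    exact one_mem _
  obtain ⟨w, hw, hwu⟩ : ∃ w, Q₀ w = 0 ∧ polar (⇑Q) (inc F₀ w) u ≠ 0 := by
    by_contra! hc
    let S : Submodule F₀ (ι → F₀) :=
      { carrier := {x | polar (⇑Q) (inc F₀ x) u = 0}
        add_mem' := fun {x y} hx hy => by
          show polar (⇑Q) (inc F₀ (x + y)) u = 0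
          rw [inc_add, polar_add_left', hx, hy, add_zero]
        zero_mem' := by
          show polar (⇑Q) (inc F₀ (0 : ι → F₀)) u = 0
          rw [inc_zero, QuadraticMap.polar_zero_left]
        smul_mem' := fun c x hx => by
          show polar (⇑Q) (inc F₀ (c • x)) u = 0
          rw [inc_smul, polar_smul_left', hx, mul_zero] }
    have hS : (⊤ : Submodule F₀ (ι → F₀)) ≤ S := QuadSim.le_of_singular s.nondeg₀
      (by rw [finrank_top, Module.finrank_fintype_fun_eq_card]; omega) fun x _ hx => hc x hx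
    refine hu0 (s.ext fun c => ?_)
    rw [QuadraticMap.polar_zero_left, QuadraticMap.polar_comm]
    exact hS (Submodule.mem_top (x := c))
  have hw0 : w ≠ 0 := fun h => hwu (by rw [h, inc_zero, QuadraticMap.polar_zero_left])
  obtain ⟨f, hqf, hwf⟩ := exists_partner_of_singular s.nondeg₀ hw hw0
  have hf0 : f ≠ 0 := fun h => one_ne_zero (α := F₀) (by rw [← hwf, h, QuadraticMap.polar_zero_right])
  set k := polar (⇑Q) (inc F₀ w) u with hk
  set u₁ := k⁻¹ • u with hu₁
  have hwu₁ : polar (⇑Q) (inc F₀ w) u₁ = 1 := by rw [hu₁, polar_smul_right', inv_mul_cancel₀ hwu]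
  have hqu₁ : Q u₁ = 0 := by rw [hu₁, apply_smul, hqu, mul_zero]
  have hwv : polar (⇑Q) (inc F₀ w) (inc F₀ f - u₁) = 0 := by
    rw [QuadraticMap.polar_sub_right, s.pval_one hwf, hwu₁, sub_self]
  have hg := hrat w hw hw0 _ (s.val_zero hw) hwv
  have e : (eich s.nondeg (s.val_zero hw) hwv : (ι → F) ≃ₗ[F] (ι → F)) (inc F₀ f) = u₁ := by
    rw [eich_apply, s.pval_one (show polar (⇑Q₀) f w = 1 by rw [QuadraticMap.polar_comm, hwf]),
      QuadraticMap.polar_sub_right, polar_self', s.val_zero hqf, sub_eq_add_neg (inc F₀ f) u₁, apply_add,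
      QuadraticMap.map_neg, hqu₁, s.val_zero hqf, QuadraticMap.polar_neg_right]
    module
  have h1 := (hrat f hqf hf0).conj s.nondeg hg
  rw [e, hu₁] at h1
  exact h1.of_smul s.nondeg (inv_ne_zero hwu) a

/-- A root at a rational centre whose vector is not rational modulo the centre. -/
theorem le_of_nonrational (hK : HasRat s K) {z : ι → F₀} (hz : Q₀ z = 0) (hz0 : z ≠ 0) {δ : ι → F}
    (hδ : polar (⇑Q) (inc F₀ z) δ = 0) (h : Has s.nondeg K (inc F₀ z) δ)
    (hnr : ∀ κ : F, frv fr (δ + κ • inc F₀ z) ≠ δ + κ • inc F₀ z) : eichGroup s.nondeg ≤ K := by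
  have hn := s.dim
  obtain ⟨p, hp, hzp, hμ⟩ : ∃ p, Q₀ p = 0 ∧ polar (⇑Q₀) z p = 0 ∧ polar (⇑Q) δ (inc F₀ p) ∉ F₀ := by
    by_contra! hc
    let S : Submodule F₀ (ι → F₀) :=
      { carrier := {x | polar (⇑Q) δ (inc F₀ x) ∈ F₀}
        add_mem' := fun {x y} hx hy => by
          show polar (⇑Q) δ (inc F₀ (x + y)) ∈ F₀
          rw [inc_add, polar_add_right']
          exact add_mem hx hy
        zero_mem' := by
          show polar (⇑Q) δ (inc F₀ (0 : ι → F₀)) ∈ F₀
          rw [inc_zero, QuadraticMap.polar_zero_right]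
          exact zero_mem _
        smul_mem' := fun c x hx => by
          show polar (⇑Q) δ (inc F₀ (c • x)) ∈ F₀
          rw [inc_smul, polar_smul_right']
          exact mul_mem c.2 hx }
    have hS : cut ⊤ Q₀ z ≤ S := QuadSim.le_of_singular s.nondeg₀ (by
      have := finrank_cut (Q := Q₀) (⊤ : Submodule F₀ (ι → F₀)) z
      rw [finrank_top, Module.finrank_fintype_fun_eq_card] at *
      omega) fun x hx hqx => hc x hqx hx.2
    obtain ⟨z', -, hzz'⟩ := exists_partner_of_singular s.nondeg₀ hz hz0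
    refine hnr (-polar (⇑Q) δ (inc F₀ z')) (s.rat_of_polar fun x => ?_)
    have h1 : polar (⇑Q) δ (inc F₀ (x - polar (⇑Q₀) z x • z')) ∈ F₀ :=
      hS (mem_cut.2 ⟨trivial, by rw [QuadraticMap.polar_sub_right, polar_smul_right', hzz', mul_one, sub_self]⟩)
    rw [inc_sub, QuadraticMap.polar_sub_right, inc_smul, polar_smul_right'] at h1
    rw [polar_add_left', polar_smul_left', s.pval]
    convert h1 using 1
    ring
  exact le_of_sig s hK hμ (sig_of_seed s hK hz hz0 hδ h hp hzp fun h0 => hμ (by rw [h0]; exact zero_mem _))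

/-! ### Planes -/

/-- The root element of a plane maps rational vectors to rational vectors. -/
def RatEl (_s : Setup fr F₀ Q Q₀) (c d : ι → F) : Prop :=
  ∀ v : ι → F₀, frv fr (polar (⇑Q) (inc F₀ v) d • c - polar (⇑Q) (inc F₀ v) c • d) =
    polar (⇑Q) (inc F₀ v) d • c - polar (⇑Q) (inc F₀ v) c • d

/-- Three singular vectors with duals. -/
structure Triple (_s : Setup fr F₀ Q Q₀) (Z H : Fin 3 → ι → F₀) : Prop where
  sing : ∀ i, Q₀ (Z i) = 0
  iso : ∀ i j, polar (⇑Q₀) (Z i) (Z j) = 0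
  dual : ∀ i j, polar (⇑Q₀) (Z i) (H j) = if i = j then 1 else 0

theorem Triple.ne_zero {Z H : Fin 3 → ι → F₀} (hT : Triple s Z H) (i : Fin 3) : Z i ≠ 0 := fun h0 => by
  have := hT.dual i i
  rw [h0, QuadraticMap.polar_zero_left, if_pos rfl] at this
  exact zero_ne_one this

/-- A plane orthogonal to three rational singular vectors. -/
theorem ratEl_of_perp (hK : HasRat s K) (hne : ¬ eichGroup s.nondeg ≤ K) {c d : ι → F} (hc : Q c = 0)
    (hd : Q d = 0) (hcd : polar (⇑Q) c d = 0) (hX : Has s.nondeg K c d) {Z H : Fin 3 → ι → F₀}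
    (hT : Triple s Z H) (hZc : ∀ i, polar (⇑Q) (inc F₀ (Z i)) c = 0)
    (hZd : ∀ i, polar (⇑Q) (inc F₀ (Z i)) d = 0) : RatEl s c d := by
  set δ : (ι → F₀) → (ι → F) := fun v => polar (⇑Q) (inc F₀ v) d • c - polar (⇑Q) (inc F₀ v) c • d with hδ
  have hg : ∀ v, (eich s.nondeg hc hcd : (ι → F) ≃ₗ[F] (ι → F)) (inc F₀ v) = inc F₀ v + δ v := by
    intro v
    rw [eich_apply, hd, hδ]
    module
  have hmod : ∀ i v, polar (⇑Q₀) (Z i) v = 0 → ∃ κ : F, frv fr (δ v + κ • inc F₀ (Z i)) = δ v + κ • inc F₀ (Z i) := by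
    intro i v hv
    have hfixZ : (eich s.nondeg hc hcd : (ι → F) ≃ₗ[F] (ι → F)) (inc F₀ (Z i)) = inc F₀ (Z i) := by
      rw [eich_apply, hZc, hZd]
      module
    have h1 := has_diff s (s.pval_zero hv) (hK (Z i) v) (hX hc hcd) hfixZ
    rw [hg, add_sub_cancel_left] at h1
    by_contra! hno
    refine hne (le_of_nonrational s hK (hT.sing i) (hT.ne_zero s i) ?_ h1 hno)
    rw [hδ, QuadraticMap.polar_sub_right, polar_smul_right', polar_smul_right', hZc, hZd]
    ring
  have hboth : ∀ i j, i ≠ j → ∀ v, polar (⇑Q₀) (Z i) v = 0 → polar (⇑Q₀) (Z j) v = 0 → frv fr (δ v) = δ v := by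
    intro i j hij v hi hj
    obtain ⟨κ, hκ⟩ := hmod i v hi
    obtain ⟨κ', hκ'⟩ := hmod j v hj
    have h2 : frv fr (κ • inc F₀ (Z i) - κ' • inc F₀ (Z j)) = κ • inc F₀ (Z i) - κ' • inc F₀ (Z j) := by
      have e : κ • inc F₀ (Z i) - κ' • inc F₀ (Z j) =
          (δ v + κ • inc F₀ (Z i)) - (δ v + κ' • inc F₀ (Z j)) := by abel
      rw [e, frv_sub, hκ, hκ']
    have hκ₀ : κ ∈ F₀ := by
      have := s.polar_mem h2 (H i)
      rw [QuadraticMap.polar_sub_left, polar_smul_left', polar_smul_left', s.pval, s.pval, hT.dual, hT.dual,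
        if_pos rfl, if_neg hij.symm, OneMemClass.coe_one, ZeroMemClass.coe_zero, mul_one, mul_zero, sub_zero] at this
      exact this
    have h3 : frv fr (κ • inc F₀ (Z i)) = κ • inc F₀ (Z i) := s.frv_scaled hκ₀ (s.frv_inc _)
    rw [frv_add, h3] at hκ
    exact add_right_cancel hκ
  have hlin : ∀ v w, δ (v + w) = δ v + δ w := fun v w => by
    simp only [hδ, inc_add, polar_add_left']
    module
  intro v
  set v₁ := polar (⇑Q₀) (Z 1) v • H 1 with hv₁
  set v₂ := polar (⇑Q₀) (Z 0) v • H 0 with hv₂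
  have hdec : v = v₁ + (v₂ + (v - v₁ - v₂)) := by abel
  show frv fr (δ v) = δ v
  rw [hdec, hlin, hlin, frv_add, frv_add,
    hboth 0 2 (by decide) v₁ (by simp [hv₁, polar_smul_right', hT.dual]) (by simp [hv₁, polar_smul_right', hT.dual]),
    hboth 1 2 (by decide) v₂ (by simp [hv₂, polar_smul_right', hT.dual]) (by simp [hv₂, polar_smul_right', hT.dual]),
    hboth 0 1 (by decide) (v - v₁ - v₂)
      (by simp [hv₁, hv₂, polar_smul_right', hT.dual, QuadraticMap.polar_sub_right])
      (by simp [hv₁, hv₂, polar_smul_right', hT.dual, QuadraticMap.polar_sub_right])]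

/-- A plane with one vector orthogonal to three rational singular vectors. -/
theorem ratEl_of_half_perp (hK : HasRat s K) (hne : ¬ eichGroup s.nondeg ≤ K) {c d : ι → F} (hc : Q c = 0)
    (hd : Q d = 0) (hcd : polar (⇑Q) c d = 0) (hX : Has s.nondeg K c d) {Z H : Fin 3 → ι → F₀}
    (hT : Triple s Z H) (hZc : ∀ i, polar (⇑Q) (inc F₀ (Z i)) c = 0) : RatEl s c d := by
  classical
  set k : Fin 3 → F := fun i => polar (⇑Q) (inc F₀ (Z i)) d with hk
  set γ : Fin 3 → F := fun i => polar (⇑Q) (inc F₀ (H i)) c with hγ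
  by_cases hk0 : ∀ i, k i = 0
  · exact ratEl_of_perp s hK hne hc hd hcd hX hT hZc hk0
  push Not at hk0
  obtain ⟨a, ha⟩ := hk0
  set g := eich s.nondeg hc hcd with hgdef
  have hgZ : ∀ i, (g : (ι → F) ≃ₗ[F] (ι → F)) (inc F₀ (Z i)) = inc F₀ (Z i) + k i • c := fun i => by
    rw [hgdef, eich_apply, hd, hZc, hk]
    module
  have hyel : ∀ i j, i ≠ j → RatEl s c (k i • inc F₀ (Z j) - k j • inc F₀ (Z i)) := by
    intro i j _
    set y := k i • inc F₀ (Z j) - k j • inc F₀ (Z i) with hy
    have hzz : ∀ l m, polar (⇑Q) (inc F₀ (Z l)) (inc F₀ (Z m)) = 0 := fun l m => s.pval_zero (hT.iso l m)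
    have hqy : Q y = 0 := by
      rw [hy, sub_eq_add_neg, ← neg_smul, apply_add, apply_smul, apply_smul, s.val_zero (hT.sing _),
        s.val_zero (hT.sing _), polar_smul_left', polar_smul_right', hzz]
      ring
    have hZy : ∀ l, polar (⇑Q) (inc F₀ (Z l)) y = 0 := fun l => by
      rw [hy, QuadraticMap.polar_sub_right, polar_smul_right', polar_smul_right', hzz, hzz]
      ring
    have hcy : polar (⇑Q) c y = 0 := by
      rw [hy, QuadraticMap.polar_sub_right, polar_smul_right', polar_smul_right', QuadraticMap.polar_comm _ c,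
        QuadraticMap.polar_comm _ c, hZc, hZc]
      ring
    have he := hK (Z i) (Z j) (s.val_zero (hT.sing i)) (hzz i j)
    have hY : Has s.nondeg K c y := by
      intro h1 h2
      have hm := K.mul_mem (K.inv_mem he) (K.mul_mem (K.mul_mem (hX hc hcd) he) (K.inv_mem (hX hc hcd)))
      convert hm using 1
      rw [eq_inv_mul_iff_mul_eq, eich_conj]
      refine Subtype.ext (LinearEquiv.ext fun z => ?_)
      have q1 : polar (⇑Q) y y = 0 := by rw [polar_self', hqy, mul_zero]
      have hqy' : Q (k i • inc F₀ (Z j) - k j • inc F₀ (Z i)) = 0 := hqy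
      simp only [Subgroup.coe_mul, LinearEquiv.mul_apply, eich_apply, hgZ, ← hgdef, apply_add, apply_smul,
        s.val_zero (hT.sing _), hqy', hqy, hc, hZy, polar_add_left', polar_smul_left', polar_add_right', polar_smul_right',
        hZc, hzz, hy, QuadraticMap.polar_sub_right, QuadraticMap.polar_sub_left, QuadraticMap.polar_comm (⇑Q) c (inc F₀ (Z i)),
        QuadraticMap.polar_comm (⇑Q) c (inc F₀ (Z j))]
      match_scalars <;> ring
    exact ratEl_of_perp s hK hne hc hqy hcy hY hT hZc hZy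
  have hHy : ∀ l i j, polar (⇑Q) (inc F₀ (H l)) (k i • inc F₀ (Z j) - k j • inc F₀ (Z i)) =
      k i * (if j = l then 1 else 0) - k j * (if i = l then 1 else 0) := by
    intro l i j
    rw [QuadraticMap.polar_sub_right, polar_smul_right', polar_smul_right', s.pval, s.pval,
      QuadraticMap.polar_comm _ (H l), QuadraticMap.polar_comm _ (H l), hT.dual, hT.dual]
    split_ifs <;> simp
  have hpair : ∀ i j l m, i ≠ j →
      (k i * (if j = l then 1 else 0) - k j * (if i = l then 1 else 0)) * γ m -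
        γ l * (k i * (if j = m then 1 else 0) - k j * (if i = m then 1 else 0)) ∈ F₀ := by
    intro i j l m hij
    have := s.polar_mem (hyel i j hij (H l)) (H m)
    rw [QuadraticMap.polar_sub_left, polar_smul_left', polar_smul_left', hHy l i j, QuadraticMap.polar_comm _ c,
      QuadraticMap.polar_comm _ (k i • inc F₀ (Z j) - k j • inc F₀ (Z i)), hHy m i j] at this
    exact this
  have hoff : ∀ l i, l ≠ i → γ l * k i ∈ F₀ := by
    intro l i hli
    obtain ⟨j, hji, hjl⟩ : ∃ j, j ≠ i ∧ j ≠ l := by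
      fin_cases l <;> fin_cases i <;> first | exact absurd rfl hli | decide
    have := neg_mem (hpair i j l j hji.symm)
    simpa [hji, hji.symm, hjl, hli.symm] using this
  have hsum : ∀ i j, i ≠ j → γ i * k i + γ j * k j ∈ F₀ := by
    intro i j hij
    have := hpair i j j i hij
    simp [hij, hij.symm] at this
    convert this using 1
    ring
  -- the diagonal
  have hdiag : ∀ i, γ i * k i ∈ F₀ := by
    have hfp : ∀ i j, i ≠ j → fr (γ i * k i) = γ i * k i ∨ fr (γ i * k i) = γ j * k j := by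
      intro i j hij
      have hp : γ i * k i * (γ j * k j) ∈ F₀ := by
        rw [show γ i * k i * (γ j * k j) = γ i * k j * (γ j * k i) by ring]
        exact mul_mem (hoff i j hij) (hoff j i hij.symm)
      have e1 := (s.fix _).1 (hsum i j hij)
      have e2 := (s.fix _).1 hp
      rw [map_add] at e1
      rw [map_mul] at e2
      have : (fr (γ i * k i) - γ i * k i) * (fr (γ i * k i) - γ j * k j) = 0 := by
        linear_combination (fr (γ i * k i)) * e1 - e2
      rcases mul_eq_zero.1 this with h | h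
      · exact Or.inl (sub_eq_zero.1 h)
      · exact Or.inr (sub_eq_zero.1 h)
    intro i
    rw [s.fix]
    obtain ⟨j, l, hij, hil, hjl⟩ : ∃ j l, i ≠ j ∧ i ≠ l ∧ j ≠ l := by fin_cases i <;> decide
    by_contra hne'
    have e1 := (hfp i j hij).resolve_left hne'
    have e2 := (hfp i l hil).resolve_left hne'
    have e3 : fr (γ j * k j) = γ j * k j := by
      rcases hfp j l hjl with h | h
      · exact h
      · rw [h, ← e2, e1]
    exact hne' (e1.trans (fr.injective (e1.trans e3.symm)).symm)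
  -- the first vector spans a rational line
  obtain ⟨b, hab⟩ : ∃ b : Fin 3, a ≠ b := by fin_cases a <;> decide
  have h1 : frv fr (k a • c) = k a • c := by
    have e0 := hyel a b hab (H b)
    rw [hHy b a b] at e0
    simp [hab] at e0
    have m1 : γ b * k a ∈ F₀ := hoff b a hab.symm
    have m2 : γ b * k b ∈ F₀ := hdiag b
    rw [frv_sub, frv_smul, frv_smul] at e0
    have e1 : γ b • (k a • inc F₀ (Z b) - k b • inc F₀ (Z a)) =
        (γ b * k a) • inc F₀ (Z b) - (γ b * k b) • inc F₀ (Z a) := by module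
    have e2 : frv fr (γ b • (k a • inc F₀ (Z b) - k b • inc F₀ (Z a))) =
        γ b • (k a • inc F₀ (Z b) - k b • inc F₀ (Z a)) := by
      rw [e1, frv_sub, s.frv_scaled m1 (s.frv_inc _), s.frv_scaled m2 (s.frv_inc _)]
    rw [frv_smul] at e2
    rw [e2, sub_left_inj, ← frv_smul] at e0
    exact e0
  obtain ⟨r, hr⟩ := s.exists_inc h1
  have hcr : c = (k a)⁻¹ • inc F₀ r := by rw [hr, inv_smul_smul₀ ha]
  have hr0 : Q₀ r = 0 := by
    have := s.val r
    rw [hr, apply_smul, hc, mul_zero] at this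
    exact (Subtype.ext this.symm)
  by_cases hrz : r = 0
  · intro v
    rw [hcr, hrz, inc_zero, smul_zero, QuadraticMap.polar_zero_right, smul_zero, zero_smul, sub_zero, frv_zero]
  have hrd : polar (⇑Q) (inc F₀ r) ((k a)⁻¹ • d) = 0 := by
    rw [hr, polar_smul_left', polar_smul_right', hcd, mul_zero, mul_zero]
  have hX' : Has s.nondeg K (inc F₀ r) ((k a)⁻¹ • d) := Has.smul_left s.nondeg (inv_ne_zero ha) (hcr ▸ hX)
  obtain ⟨κ, hκ⟩ : ∃ κ : F, frv fr ((k a)⁻¹ • d + κ • inc F₀ r) = (k a)⁻¹ • d + κ • inc F₀ r := by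
    by_contra! hno
    exact hne (le_of_nonrational s hK hr0 hrz hrd hX' hno)
  intro v
  set R := (k a)⁻¹ • d + κ • inc F₀ r with hR
  have e : polar (⇑Q) (inc F₀ v) d • c - polar (⇑Q) (inc F₀ v) c • d =
      polar (⇑Q) (inc F₀ v) R • inc F₀ r - polar (⇑Q) (inc F₀ v) (inc F₀ r) • R := by
    rw [hR, hcr]
    simp only [polar_add_right', polar_smul_right']
    module
  rw [e, frv_sub, s.frv_scaled (by rw [QuadraticMap.polar_comm]; exact s.polar_mem hκ v) (s.frv_inc r),
    s.frv_scaled (s.polar_mem (s.frv_inc v) r) hκ]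

end CfsgLib.Geo.OrthSub
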