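/-
A diagonal element acting on a totally singular subspace, produced from root elements.
-/
import Cfsg.Agent.Lib.Geo.QuadSimilitude
import Cfsg.Agent.Lib.Geo.SLTwoGenerate
import Cfsg.Agent.Lib.Lie.SpFourEven.SLTwo

set_option autoImplicit false

namespace CfsgLib.Geo.OrthSub

open CfsgLib.Classical CfsgLib.Classical.Quad CfsgLib.Geo.OrthMax CfsgLib.Geo.QuadSim CfsgLib.Geo.SLTwoGen
open QuadraticMap (polar polarBilin)
open scoped MatrixGroups

variable {ι : Type} [Fintype ι] [DecidableEq ι] {F : Type*} [Field F] {Q : QuadraticForm F (ι → F)}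

theorem diag_element [Fintype F] (hQ : (polarBilin Q).Nondegenerate) (F₀ : Subfield F) {r : ℕ} (hr : r.Prime)
    (hcard : Fintype.card F = Nat.card F₀ ^ r) {K : Subgroup (OQ Q)} {T : Submodule F (ι → F)}
    (hT : ∀ x ∈ T, Q x = 0) {c d e₁ e₂ : ι → F} (he₁ : e₁ ∈ T) (he₂ : e₂ ∈ T) (hc : Q c = 0) (hd : Q d = 0)
    (hcd : polar (⇑Q) c d = 0) (h₁ : polar (⇑Q) c e₁ = 1) (h₂ : polar (⇑Q) d e₁ = 0)
    (h₃ : polar (⇑Q) c e₂ = 0) (h₄ : polar (⇑Q) d e₂ = 1) (hX : Has hQ K c d) (B : AddSubgroup F)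
    (hB₀ : ∀ k ∈ F₀, ∀ b ∈ B, k * b ∈ B) (hBc : Nat.card F₀ ^ 2 ≤ Nat.card B) (S : Set F)
    (hBS : B ≤ AddSubgroup.closure S)
    (hB : ∀ b ∈ S, ∃ u ∈ T, ∃ v ∈ T, Has hQ K u v ∧
      b = polar (⇑Q) d u * polar (⇑Q) c v - polar (⇑Q) c u * polar (⇑Q) d v) {ν : F} (hν : ν ≠ 0) :
    ∃ g ∈ K, (∀ x ∈ cut (cut T Q c) Q d, (g : (ι → F) ≃ₗ[F] (ι → F)) x = x) ∧
      ∀ x ∈ T, (g : (ι → F) ≃ₗ[F] (ι → F)) x - ν⁻¹ • x ∈ cut (cut T Q c) Q d := by
  set R := cut (cut T Q c) Q d with hR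
  have hTT : ∀ x ∈ T, ∀ y ∈ T, polar (⇑Q) x y = 0 := fun x hx y hy => by
    simp only [polar, hT x hx, hT y hy, hT _ (T.add_mem hx hy), sub_self]
  have hRT : ∀ x ∈ R, x ∈ T := fun x hx => (mem_cut.1 (mem_cut.1 hx).1).1
  have hRc : ∀ x ∈ R, polar (⇑Q) c x = 0 := fun x hx => (mem_cut.1 (mem_cut.1 hx).1).2
  have hRd : ∀ x ∈ R, polar (⇑Q) d x = 0 := fun x hx => (mem_cut.1 hx).2
  have hmemR : ∀ {x}, x ∈ T → polar (⇑Q) c x = 0 → polar (⇑Q) d x = 0 → x ∈ R := fun h h' h'' =>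
    mem_cut.2 ⟨mem_cut.2 ⟨h, h'⟩, h''⟩
  let f₁ : (ι → F) →ₗ[F] (ι → F) :=
    LinearMap.id - ((polarBilin Q).flip e₁).smulRight c - ((polarBilin Q).flip d).smulRight e₂
  let f₂ : (ι → F) →ₗ[F] (ι → F) :=
    LinearMap.id - (polarBilin Q c).smulRight e₁ - (polarBilin Q e₂).smulRight d
  let X₁ := R.comap f₁
  let X₂ := R.comap f₂
  have hX₁ : ∀ x, x ∈ X₁ ↔ x - polar (⇑Q) x e₁ • c - polar (⇑Q) x d • e₂ ∈ R := fun x => Iff.rfl
  have hX₂ : ∀ x, x ∈ X₂ ↔ x - polar (⇑Q) c x • e₁ - polar (⇑Q) e₂ x • d ∈ R := fun x => Iff.rfl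
  set Good : OQ Q → Prop := fun g => g ∈ K ∧ (g : (ι → F) ≃ₗ[F] (ι → F)) c ∈ X₁ ∧
    (g : (ι → F) ≃ₗ[F] (ι → F)) e₂ ∈ X₁ ∧ (g : (ι → F) ≃ₗ[F] (ι → F)) d ∈ X₂ ∧
    (g : (ι → F) ≃ₗ[F] (ι → F)) e₁ ∈ X₂ ∧ ∀ x ∈ R, (g : (ι → F) ≃ₗ[F] (ι → F)) x = x with hGood
  set pm : OQ Q → Matrix (Fin 2) (Fin 2) F := fun g =>
    !![polar (⇑Q) ((g : (ι → F) ≃ₗ[F] (ι → F)) c) e₁, polar (⇑Q) ((g : (ι → F) ≃ₗ[F] (ι → F)) e₂) e₁;
      polar (⇑Q) ((g : (ι → F) ≃ₗ[F] (ι → F)) c) d, polar (⇑Q) ((g : (ι → F) ≃ₗ[F] (ι → F)) e₂) d] with hpm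
  have hcc : polar (⇑Q) c c = 0 := by rw [polar_self', hc, mul_zero]
  have hdd : polar (⇑Q) d d = 0 := by rw [polar_self', hd, mul_zero]
  have he12 : polar (⇑Q) e₂ e₁ = 0 := hTT _ he₂ _ he₁
  have he21 : polar (⇑Q) e₁ e₂ = 0 := hTT _ he₁ _ he₂
  have he11 : polar (⇑Q) e₁ e₁ = 0 := hTT _ he₁ _ he₁
  have he22 : polar (⇑Q) e₂ e₂ = 0 := hTT _ he₂ _ he₂
  have h4' : polar (⇑Q) e₂ d = 1 := by rw [QuadraticMap.polar_comm, h₄]
  have hdec₁ : ∀ x ∈ X₁, ∃ y ∈ R, x = polar (⇑Q) x e₁ • c + polar (⇑Q) x d • e₂ + y := fun x hx =>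
    ⟨_, (hX₁ x).1 hx, by abel⟩
  have hdec₂ : ∀ x ∈ X₂, ∃ y ∈ R, x = polar (⇑Q) c x • e₁ + polar (⇑Q) e₂ x • d + y := fun x hx =>
    ⟨_, (hX₂ x).1 hx, by abel⟩
  have hR₁ : ∀ y ∈ R, y ∈ X₁ := fun y hy => by
    rw [hX₁, hTT y (hRT y hy) e₁ he₁, QuadraticMap.polar_comm, hRd y hy, zero_smul, zero_smul, sub_zero, sub_zero]
    exact hy
  have hR₂ : ∀ y ∈ R, y ∈ X₂ := fun y hy => by
    rw [hX₂, hRc y hy, hTT e₂ he₂ y (hRT y hy), zero_smul, zero_smul, sub_zero, sub_zero]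
    exact hy
  have hmap₁ : ∀ g, Good g → ∀ x ∈ X₁, (g : (ι → F) ≃ₗ[F] (ι → F)) x ∈ X₁ := by
    intro g hg x hx
    obtain ⟨y, hy, e⟩ := hdec₁ x hx
    rw [e, map_add, map_add, map_smul, map_smul, hg.2.2.2.2.2 y hy]
    exact add_mem (add_mem (Submodule.smul_mem _ _ hg.2.1) (Submodule.smul_mem _ _ hg.2.2.1)) (hR₁ y hy)
  have hmap₂ : ∀ g, Good g → ∀ x ∈ X₂, (g : (ι → F) ≃ₗ[F] (ι → F)) x ∈ X₂ := by
    intro g hg x hx
    obtain ⟨y, hy, e⟩ := hdec₂ x hx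
    rw [e, map_add, map_add, map_smul, map_smul, hg.2.2.2.2.2 y hy]
    exact add_mem (add_mem (Submodule.smul_mem _ _ hg.2.2.2.2.1) (Submodule.smul_mem _ _ hg.2.2.2.1)) (hR₂ y hy)
  have hmul : ∀ g h, Good g → Good h → Good (g * h) ∧ pm (g * h) = pm g * pm h := by
    intro g h hg hh
    refine ⟨⟨K.mul_mem hg.1 hh.1, hmap₁ g hg _ hh.2.1, hmap₁ g hg _ hh.2.2.1, hmap₂ g hg _ hh.2.2.2.1,
      hmap₂ g hg _ hh.2.2.2.2.1, fun x hx => ?_⟩, ?_⟩
    · show (g : (ι → F) ≃ₗ[F] (ι → F)) ((h : (ι → F) ≃ₗ[F] (ι → F)) x) = x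
      rw [hh.2.2.2.2.2 x hx, hg.2.2.2.2.2 x hx]
    have hcol : ∀ x ∈ X₁, polar (⇑Q) ((g : (ι → F) ≃ₗ[F] (ι → F)) x) e₁ =
          polar (⇑Q) x e₁ * polar (⇑Q) ((g : (ι → F) ≃ₗ[F] (ι → F)) c) e₁ +
            polar (⇑Q) x d * polar (⇑Q) ((g : (ι → F) ≃ₗ[F] (ι → F)) e₂) e₁ ∧
        polar (⇑Q) ((g : (ι → F) ≃ₗ[F] (ι → F)) x) d =
          polar (⇑Q) x e₁ * polar (⇑Q) ((g : (ι → F) ≃ₗ[F] (ι → F)) c) d +
            polar (⇑Q) x d * polar (⇑Q) ((g : (ι → F) ≃ₗ[F] (ι → F)) e₂) d := by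
      intro x hx
      obtain ⟨y, hy, e⟩ := hdec₁ x hx
      have q1 : polar (⇑Q) y e₁ = 0 := hTT _ (hRT y hy) _ he₁
      have q2 : polar (⇑Q) y d = 0 := by rw [QuadraticMap.polar_comm, hRd y hy]
      constructor <;>
        · conv_lhs => rw [e, map_add, map_add, map_smul, map_smul, hg.2.2.2.2.2 y hy]
          rw [polar_add_left', polar_add_left', polar_smul_left', polar_smul_left']
          simp only [q1, q2, add_zero]
    obtain ⟨a1, a2⟩ := hcol _ hh.2.1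
    obtain ⟨a3, a4⟩ := hcol _ hh.2.2.1
    simp only [hpm, Subgroup.coe_mul, LinearEquiv.mul_apply, a1, a2, a3, a4]
    ext i j
    fin_cases i <;> fin_cases j <;> simp [Matrix.mul_apply, Fin.sum_univ_two] <;> ring
  have hone : Good 1 ∧ pm 1 = 1 := by
    refine ⟨⟨one_mem _, ?_, ?_, ?_, ?_, fun x _ => rfl⟩, ?_⟩
    · show c ∈ X₁
      rw [hX₁, h₁, hcd, one_smul, zero_smul, sub_zero, sub_self]
      exact zero_mem _
    · show e₂ ∈ X₁
      rw [hX₁, he12, h4', one_smul, zero_smul, sub_zero, sub_self]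
      exact zero_mem _
    · show d ∈ X₂
      rw [hX₂, hcd, h4', one_smul, zero_smul, sub_zero, sub_self]
      exact zero_mem _
    · show e₁ ∈ X₂
      rw [hX₂, h₁, he12, one_smul, zero_smul, sub_zero, sub_self]
      exact zero_mem _
    · simp only [hpm, OneMemClass.coe_one, LinearEquiv.coe_one, id_eq, h₁, hcd, he12, h4']
      exact (Matrix.one_fin_two).symm
  let M : Submonoid SL(2, F) :=
    { carrier := {A | ∃ g, Good g ∧ pm g = (A : Matrix (Fin 2) (Fin 2) F)}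
      one_mem' := ⟨1, hone.1, hone.2⟩
      mul_mem' := by
        rintro A A' ⟨g, hg, e⟩ ⟨g', hg', e'⟩
        exact ⟨g * g', (hmul g g' hg hg').1, by rw [(hmul g g' hg hg').2, e, e']; rfl⟩ }
  let L : Subgroup SL(2, F) :=
    { M with
      inv_mem' := fun {A} hA => by
        have hpos : 0 < orderOf A := orderOf_pos A
        have e : A ^ (orderOf A - 1) = A⁻¹ := eq_inv_of_mul_eq_one_left (by
          rw [← pow_succ, Nat.sub_add_cancel hpos, pow_orderOf_eq_one])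
        rw [← e]
        exact M.pow_mem hA _ }
  have hU : up (1 : F) ∈ L := by
    have hgx : ∀ z, (eich hQ hc hcd : (ι → F) ≃ₗ[F] (ι → F)) z =
        z + polar (⇑Q) z d • c + (-polar (⇑Q) z c) • d := fun z => by
      rw [eich_apply, hd, zero_mul, sub_zero]
    refine ⟨eich hQ hc hcd, ⟨hX hc hcd, ?_, ?_, ?_, ?_, fun x hx => ?_⟩, ?_⟩
    · rw [hgx, hcd, hcc, neg_zero, zero_smul, zero_smul, add_zero, add_zero]
      exact hone.1.2.1
    · rw [hgx, h4', QuadraticMap.polar_comm (⇑Q) e₂ c, h₃, neg_zero, one_smul, zero_smul, add_zero]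
      exact add_mem hone.1.2.2.1 hone.1.2.1
    · rw [hgx, hdd, QuadraticMap.polar_comm (⇑Q) d c, hcd, neg_zero, zero_smul, zero_smul, add_zero, add_zero]
      exact hone.1.2.2.2.1
    · rw [hgx, QuadraticMap.polar_comm (⇑Q) e₁ d, h₂, QuadraticMap.polar_comm (⇑Q) e₁ c, h₁, zero_smul, add_zero,
        neg_smul, one_smul, ← sub_eq_add_neg]
      exact sub_mem hone.1.2.2.2.2.1 hone.1.2.2.2.1
    · rw [hgx, QuadraticMap.polar_comm (⇑Q) x d, hRd x hx, QuadraticMap.polar_comm (⇑Q) x c, hRc x hx, neg_zero,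
        zero_smul, zero_smul, add_zero, add_zero]
    · simp only [hpm, hgx, QuadraticMap.polar_comm (⇑Q) e₂ c, h₃, h4', hcd, hcc, neg_zero, zero_smul, add_zero,
        one_smul, h₁, polar_add_left', he12, zero_add]
      rfl
  have hloS : ∀ b ∈ S, lo b ∈ L := by
    intro b hb
    obtain ⟨u, hu, v, hv, huv, rfl⟩ := hB b hb
    have huu : Q u = 0 := hT u hu
    have hgx : ∀ z, (eich hQ huu (hTT u hu v hv) : (ι → F) ≃ₗ[F] (ι → F)) z =
        z + polar (⇑Q) z v • u + (-polar (⇑Q) z u) • v := fun z => by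
      rw [eich_apply, hT v hv, zero_mul, sub_zero]
    have hfix : ∀ x ∈ T, (eich hQ huu (hTT u hu v hv) : (ι → F) ≃ₗ[F] (ι → F)) x = x := fun x hx => by
      rw [hgx, hTT x hx v hv, hTT x hx u hu, neg_zero, zero_smul, zero_smul, add_zero, add_zero]
    refine ⟨eich hQ huu (hTT u hu v hv), ⟨huv _ _, ?_, ?_, ?_, ?_, fun x hx => hfix x (hRT x hx)⟩, ?_⟩
    · rw [hX₁, hgx]
      simp only [polar_add_left', polar_smul_left', h₁, hcd, hTT u hu e₁ he₁, hTT v hv e₁ he₁]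
      refine hmemR ?_ ?_ ?_
      · have e : ∀ s t : ι → F, c + s + t - (1 + polar (⇑Q) c v * 0 + -polar (⇑Q) c u * 0) • c = s + t := by
          intro s t; module
        rw [e]
        exact sub_mem (add_mem (T.smul_mem _ hu) (T.smul_mem _ hv)) (T.smul_mem _ he₂)
      · simp only [QuadraticMap.polar_sub_right, polar_add_right', polar_smul_right', hcc, h₃]
        ring
      · simp only [QuadraticMap.polar_sub_right, polar_add_right', polar_smul_right',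
          QuadraticMap.polar_comm (⇑Q) d c, hcd, h₄, QuadraticMap.polar_comm (⇑Q) u d,
          QuadraticMap.polar_comm (⇑Q) v d]
        ring
    · rw [hfix e₂ he₂]
      exact hone.1.2.2.1
    · rw [hX₂, hgx]
      simp only [polar_add_right', polar_smul_right', h4', hcd, hTT e₂ he₂ u hu, hTT e₂ he₂ v hv]
      refine hmemR ?_ ?_ ?_
      · have e : ∀ s t : ι → F, d + s + t - (1 + polar (⇑Q) d v * 0 + -polar (⇑Q) d u * 0) • d = s + t := by
          intro s t; module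
        rw [sub_right_comm, e]
        exact sub_mem (add_mem (T.smul_mem _ hu) (T.smul_mem _ hv)) (T.smul_mem _ he₁)
      · simp only [QuadraticMap.polar_sub_right, polar_add_right', polar_smul_right', hcd, h₁]
        ring
      · simp only [QuadraticMap.polar_sub_right, polar_add_right', polar_smul_right', hdd, h₂]
        ring
    · rw [hfix e₁ he₁]
      exact hone.1.2.2.2.2.1
    · simp only [hpm, hfix e₂ he₂, hgx, polar_add_left', polar_smul_left', h₁, hcd, hTT u hu e₁ he₁,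
        hTT v hv e₁ he₁, he12, h4', mul_zero, add_zero, zero_add, QuadraticMap.polar_comm (⇑Q) u d,
        QuadraticMap.polar_comm (⇑Q) v d]
      ext i j
      fin_cases i <;> fin_cases j <;> simp [lo] <;> ring
  have hlo : ∀ b ∈ B, lo b ∈ L := by
    intro b hb
    let A : AddSubgroup F :=
      { carrier := {b | lo b ∈ L}
        add_mem' := fun {x y} hx hy => by
          show lo (x + y) ∈ L
          rw [← lo_mul]
          exact L.mul_mem hx hy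
        zero_mem' := by
          show lo (0 : F) ∈ L
          rw [show lo (0 : F) = 1 from Subtype.ext (by simp [lo, Matrix.one_fin_two])]
          exact L.one_mem
        neg_mem' := fun {x} hx => by
          show lo (-x) ∈ L
          have h : lo (-x) * lo x = 1 := by
            rw [lo_mul, neg_add_cancel]
            exact Subtype.ext (by simp [lo, Matrix.one_fin_two])
          rw [eq_inv_of_mul_eq_one_left h]
          exact L.inv_mem hx }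
    exact (AddSubgroup.closure_le A).2 hloS (hBS hb)
  have htop : L = ⊤ := by
    by_cases h20 : (2 : F) = 0
    · exact Lie.SpFourEven.eq_top_of_root_groups_two F₀ hr hcard L one_ne_zero hU B hB₀ hlo hBc h20
    · refine eq_top_of_root_groups_sq F₀ hr hcard L one_ne_zero hU B hB₀ hlo hBc ?_
      have h3 : 3 ≤ Nat.card F₀ := by
        have := Finite.one_lt_card (α := F₀)
        by_contra hlt
        have e : Nat.card F₀ = 2 := by omega
        haveI : Fintype F₀ := Fintype.ofFinite F₀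
        have h := Nat.cast_card_eq_zero F₀
        rw [← Nat.card_eq_fintype_card, e] at h
        have h' : ((2 : ℕ) : F) = 0 := by
          rw [← map_natCast (Subfield.subtype F₀), h, map_zero]
        exact h20 (by simpa using h')
      exact le_trans (by norm_num) ((Nat.pow_le_pow_left h3 2).trans hBc)
  let Dg : SL(2, F) := ⟨!![ν, 0; 0, ν⁻¹], by rw [Matrix.det_fin_two_of, mul_inv_cancel₀ hν]; ring⟩
  obtain ⟨g, hg, hgm⟩ := (htop.ge (Subgroup.mem_top Dg) :)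
  have q11 : polar (⇑Q) ((g : (ι → F) ≃ₗ[F] (ι → F)) c) e₁ = ν := congrFun (congrFun hgm 0) 0
  have q12 : polar (⇑Q) ((g : (ι → F) ≃ₗ[F] (ι → F)) e₂) e₁ = 0 := congrFun (congrFun hgm 0) 1
  have q21 : polar (⇑Q) ((g : (ι → F) ≃ₗ[F] (ι → F)) c) d = 0 := congrFun (congrFun hgm 1) 0
  have q22 : polar (⇑Q) ((g : (ι → F) ≃ₗ[F] (ι → F)) e₂) d = ν⁻¹ := congrFun (congrFun hgm 1) 1
  refine ⟨g, hg.1, hg.2.2.2.2.2, fun x hx => ?_⟩
  obtain ⟨y₁, hy₁, ec⟩ := hdec₁ _ hg.2.1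
  rw [q11, q21, zero_smul, add_zero] at ec
  obtain ⟨y₂, hy₂, ee₂⟩ := hdec₁ _ hg.2.2.1
  rw [q12, q22, zero_smul, zero_add] at ee₂
  obtain ⟨y₃, hy₃, ee₁⟩ := hdec₂ _ hg.2.2.2.2.1
  have hy : ∀ y ∈ R, polar (⇑Q) y ((g : (ι → F) ≃ₗ[F] (ι → F)) e₁) = 0 := fun y hy' => by
    rw [← hg.2.2.2.2.2 y hy', OQ.map_polar, hTT _ (hRT y hy') _ he₁]
  have k1 : polar (⇑Q) c ((g : (ι → F) ≃ₗ[F] (ι → F)) e₁) = ν⁻¹ := by
    have h := OQ.map_polar g c e₁
    rw [ec, polar_add_left', polar_smul_left', hy y₁ hy₁, add_zero, h₁] at h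
    exact eq_inv_of_mul_eq_one_right h
  have k2 : polar (⇑Q) e₂ ((g : (ι → F) ≃ₗ[F] (ι → F)) e₁) = 0 := by
    have h := OQ.map_polar g e₂ e₁
    rw [ee₂, polar_add_left', polar_smul_left', hy y₂ hy₂, add_zero, he12] at h
    exact (mul_eq_zero.1 h).resolve_left (inv_ne_zero hν)
  rw [k1, k2, zero_smul, add_zero] at ee₁
  set y := x - polar (⇑Q) c x • e₁ - polar (⇑Q) d x • e₂ with hy'
  have hyR : y ∈ R := by
    refine hmemR (sub_mem (sub_mem hx (T.smul_mem _ he₁)) (T.smul_mem _ he₂)) ?_ ?_ <;>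
      simp only [hy', QuadraticMap.polar_sub_right, polar_smul_right', h₁, h₂, h₃, h₄] <;> ring
  have ex : x = polar (⇑Q) c x • e₁ + polar (⇑Q) d x • e₂ + y := by rw [hy']; abel
  have e : (g : (ι → F) ≃ₗ[F] (ι → F)) x - ν⁻¹ • x =
      polar (⇑Q) c x • y₃ + polar (⇑Q) d x • y₂ + (1 - ν⁻¹) • y := by
    conv_lhs => rw [ex, map_add, map_add, map_smul, map_smul, ee₁, ee₂, hg.2.2.2.2.2 y hyR]
    module
  rw [e]
  exact add_mem (add_mem (R.smul_mem _ hy₃) (R.smul_mem _ hy₂)) (R.smul_mem _ hyR)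

end CfsgLib.Geo.OrthSub
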