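/-
Orthogonal groups over subfields of prime degree are maximal in `Ω`.
-/
import Cfsg.Agent.Lib.Geo.OrthSubfieldCore
import Cfsg.Agent.Lib.Geo.OrthSubfieldDiag

set_option autoImplicit false

namespace CfsgLib.Geo.OrthSub

open CfsgLib.Classical CfsgLib.Classical.Quad CfsgLib.Geo.OrthMax CfsgLib.Geo.QuadSim
open QuadraticMap (polar polarBilin)

/-! ### Stable subspaces are spanned by fixed vectors -/

theorem mem_span_fixed {κ : Type} [Fintype κ] [DecidableEq κ] {F : Type*} [Field F] {fr : F →+* F}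
    (W : Submodule F (κ → F)) (hW : ∀ x ∈ W, frv fr x ∈ W) {x : κ → F} (hx : x ∈ W) :
    x ∈ Submodule.span F {y | y ∈ W ∧ frv fr y = y} := by
  classical
  generalize hn : (Finset.univ.filter fun i => x i ≠ 0).card = n
  induction n using Nat.strong_induction_on generalizing x with
  | _ n ih =>
    by_cases hx0 : x = 0
    · rw [hx0]
      exact zero_mem _
    let S : Set (κ → F) := {y | y ∈ W ∧ y ≠ 0 ∧ ∀ i, x i = 0 → y i = 0}
    have hex : ∃ m, ∃ y ∈ S, (Finset.univ.filter fun i => y i ≠ 0).card = m := ⟨_, x, ⟨hx, hx0, fun i h => h⟩, rfl⟩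
    obtain ⟨y, ⟨hyW, hy0, hysupp⟩, hym⟩ := Nat.find_spec hex
    have hmin : ∀ z ∈ S, (Finset.univ.filter fun i => y i ≠ 0).card ≤ (Finset.univ.filter fun i => z i ≠ 0).card :=
      fun z hz => hym.le.trans (Nat.find_min' hex ⟨z, hz, rfl⟩)
    obtain ⟨i, hi⟩ := Function.ne_iff.1 hy0
    set u := (y i)⁻¹ • y with hu
    have hui : u i = 1 := by
      rw [hu, Pi.smul_apply, smul_eq_mul, inv_mul_cancel₀ hi]
    have hufix : frv fr u = u := by
      rw [← sub_eq_zero]
      by_contra hne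
      have h1 : frv fr u - u ∈ S := by
        refine ⟨W.sub_mem (hW u (W.smul_mem _ hyW)) (W.smul_mem _ hyW), hne, fun j hj => ?_⟩
        simp [frv, hu, hysupp j hj]
      refine absurd (hmin _ h1) (not_le.2 (Finset.card_lt_card ⟨fun j hj => ?_, fun hsub => ?_⟩))
      · simp only [Finset.mem_filter, Finset.mem_univ, true_and] at hj ⊢
        intro hyj
        exact hj (by simp [frv, hu, hyj])
      · have h2 := hsub (show i ∈ Finset.univ.filter fun i => y i ≠ 0 by simpa using hi)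
        simp only [Finset.mem_filter, Finset.mem_univ, true_and] at h2
        exact h2 (by simp [frv, hui])
    have hxi : x i ≠ 0 := fun h => hi (hysupp i h)
    have hrest : x - x i • u ∈ Submodule.span F {y | y ∈ W ∧ frv fr y = y} := by
      refine ih _ ?_ (W.sub_mem hx (W.smul_mem _ (W.smul_mem _ hyW))) rfl
      rw [← hn]
      refine Finset.card_lt_card ⟨fun j hj => ?_, fun hsub => ?_⟩
      · simp only [Finset.mem_filter, Finset.mem_univ, true_and] at hj ⊢
        intro hxj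
        exact hj (by simp [hu, hxj, hysupp j hxj])
      · have h2 := hsub (show i ∈ Finset.univ.filter fun i => x i ≠ 0 by simpa using hxi)
        simp only [Finset.mem_filter, Finset.mem_univ, true_and] at h2
        exact h2 (by simp [hui])
    have := add_mem hrest (Submodule.smul_mem _ (x i)
      (Submodule.subset_span (show u ∈ {y | y ∈ W ∧ frv fr y = y} from ⟨W.smul_mem _ hyW, hufix⟩)))
    rwa [sub_add_cancel] at this

variable {ι : Type} [Fintype ι] [DecidableEq ι] {F : Type*} [Field F] {fr : F →+* F} {F₀ : Subfield F}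
  {Q : QuadraticForm F (ι → F)} {Q₀ : QuadraticForm F₀ (ι → F₀)} (s : Setup fr F₀ Q Q₀)
include s

/-- Orthogonal pairs of singular vectors. -/
structure Frame {k : ℕ} (_s : Setup fr F₀ Q Q₀) (Z H : Fin k → ι → F₀) : Prop where
  qZ : ∀ i, Q₀ (Z i) = 0
  qH : ∀ i, Q₀ (H i) = 0
  zz : ∀ i j, polar (⇑Q₀) (Z i) (Z j) = 0
  hh : ∀ i j, polar (⇑Q₀) (H i) (H j) = 0
  zh : ∀ i j, polar (⇑Q₀) (Z i) (H j) = if i = j then 1 else 0

variable [Finite F]

theorem exists_frame (k : ℕ) (hk : k ≤ 3) : ∃ Z H : Fin k → ι → F₀, Frame s Z H := by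
  induction k with
  | zero => exact ⟨Fin.elim0, Fin.elim0, ⟨fun i => i.elim0, fun i => i.elim0, fun i => i.elim0, fun i => i.elim0,
      fun i => i.elim0⟩⟩
  | succ k ih =>
    obtain ⟨Z, H, hf⟩ := ih (by omega)
    let f : (Fin k ⊕ Fin k) → ι → F₀ := Sum.elim Z H
    set U := Submodule.span F₀ (Set.range f) with hU
    have hUnd : Nondeg Q₀ U := by
      intro x hx h
      obtain ⟨a, rfl⟩ := (Submodule.mem_span_range_iff_exists_fun F₀).1 hx
      have h1 : ∀ j, a (Sum.inl j) = 0 := fun j => by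
        have := h _ (Submodule.subset_span ⟨Sum.inr j, rfl⟩)
        rw [← QuadraticMap.polarBilin_apply_apply, map_sum] at this
        simpa [f, Fintype.sum_sum_type, QuadraticMap.polarBilin_apply_apply, polar_smul_left', hf.zh, hf.hh] using this
      have h2 : ∀ j, a (Sum.inr j) = 0 := fun j => by
        have := h _ (Submodule.subset_span ⟨Sum.inl j, rfl⟩)
        rw [← QuadraticMap.polarBilin_apply_apply, map_sum] at this
        simpa [f, Fintype.sum_sum_type, QuadraticMap.polarBilin_apply_apply, polar_smul_left', hf.zz,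
          QuadraticMap.polar_comm (⇑Q₀) (H _), hf.zh] using this
      simp [Fintype.sum_sum_type, h1, h2]
    have hdim : 3 ≤ Module.finrank F₀ (perp Q₀ U) := by
      rw [finrank_perp s.nondeg₀, Module.finrank_fintype_fun_eq_card]
      have h1 : Module.finrank F₀ U ≤ Fintype.card (Fin k ⊕ Fin k) := finrank_range_le_card f
      rw [Fintype.card_sum, Fintype.card_fin] at h1
      have := s.dim
      omega
    have hP := hUnd.perp s.nondeg₀
    obtain ⟨u, hu, hu0, hqu⟩ := hP.exists_singular hdim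
    obtain ⟨v, hv, hqv, huv⟩ := hP.exists_pair hu hqu hu0
    have hperp : ∀ w ∈ perp Q₀ U, ∀ i, polar (⇑Q₀) (Z i) w = 0 ∧ polar (⇑Q₀) (H i) w = 0 := fun w hw i =>
      ⟨mem_perp.1 hw _ (Submodule.subset_span ⟨Sum.inl i, rfl⟩), mem_perp.1 hw _ (Submodule.subset_span ⟨Sum.inr i, rfl⟩)⟩
    refine ⟨Fin.cons u Z, Fin.cons v H, ⟨?_, ?_, ?_, ?_, ?_⟩⟩
    · intro i; cases i using Fin.cases <;> simp [hqu, hf.qZ]
    · intro i; cases i using Fin.cases <;> simp [hqv, hf.qH]
    · intro i j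
      cases i using Fin.cases <;> cases j using Fin.cases <;>
        simp [polar_self', hqu, hf.zz, (hperp u hu _).1, QuadraticMap.polar_comm (⇑Q₀) u (Z _)]
    · intro i j
      cases i using Fin.cases <;> cases j using Fin.cases <;>
        simp [polar_self', hqv, hf.hh, (hperp v hv _).2, QuadraticMap.polar_comm (⇑Q₀) v (H _)]
    · intro i j
      cases i using Fin.cases <;> cases j using Fin.cases <;>
        simp [huv, hf.zh, (hperp v hv _).1, QuadraticMap.polar_comm (⇑Q₀) u (H _), (hperp u hu _).2,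
          Fin.succ_ne_zero, (Fin.succ_ne_zero _).symm]

variable {K : Subgroup (OQ Q)}

omit [Finite F] in
theorem sum_frame {Z H : Fin 3 → ι → F₀} (hf : Frame s Z H) (a b : Fin 3 → F₀) :
    polar (⇑Q₀) (∑ k, a k • Z k) (∑ k, b k • H k) = ∑ k, a k * b k := by
  rw [← QuadraticMap.polarBilin_apply_apply]
  simp [map_sum, QuadraticMap.polarBilin_apply_apply, polar_smul_left', polar_smul_right', hf.zh, mul_comm]

omit [Finite F] in
theorem sum_sing {Z H : Fin 3 → ι → F₀} (hf : Frame s Z H) (a b : Fin 3 → F₀) :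
    polar (⇑Q₀) (∑ k, a k • Z k) (∑ k, b k • Z k) = 0 := by
  rw [← QuadraticMap.polarBilin_apply_apply]
  simp [map_sum, QuadraticMap.polarBilin_apply_apply, polar_smul_left', polar_smul_right', hf.zz]

omit [Finite F] in
theorem q_sum {Z H : Fin 3 → ι → F₀} (hf : Frame s Z H) (a : Fin 3 → F₀) : Q₀ (∑ k, a k • Z k) = 0 := by
  suffices ∀ S : Finset (Fin 3), Q₀ (∑ k ∈ S, a k • Z k) = 0 from this _
  intro S
  induction S using Finset.induction with
  | empty => simp
  | insert j S hj ih =>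
    rw [Finset.sum_insert hj, apply_add, apply_smul, hf.qZ, ih, polar_smul_left', ← QuadraticMap.polarBilin_apply_apply,
      map_sum]
    simp [QuadraticMap.polarBilin_apply_apply, polar_smul_right', hf.zz]

omit [Finite F] in
/-- A triple inside a subspace of the span. -/
theorem exists_triple {Z H : Fin 3 → ι → F₀} (hf : Frame s Z H) {S : Submodule F₀ (Fin 3 → F₀)}
    (hS : 3 ≤ Module.finrank F₀ S) :
    ∃ a : Fin 3 → Fin 3 → F₀, (∀ i, a i ∈ S) ∧ ∃ H' : Fin 3 → ι → F₀, Triple s (fun i => ∑ k, a i k • Z k) H' := by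
  set bS := Module.finBasis F₀ S
  set a : Fin 3 → Fin 3 → F₀ := fun i => (bS (Fin.castLE hS i) : Fin 3 → F₀) with ha
  have hli : LinearIndependent F₀ a :=
    (bS.linearIndependent.map' S.subtype S.ker_subtype).comp _ (Fin.castLE_injective hS)
  obtain ⟨L, hL⟩ := (Fintype.linearCombination F₀ a).exists_leftInverse_of_injective
    (LinearMap.ker_eq_bot.2 hli.fintypeLinearCombination_injective)
  refine ⟨a, fun i => (bS _).2, fun j => ∑ k, L (Pi.single k 1) j • H k,
    ⟨fun i => q_sum s hf _, fun i j => sum_sing s hf _ _, fun i j => ?_⟩⟩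
  rw [sum_frame s hf]
  have h1 : L (a i) = Pi.single i 1 := by
    conv_lhs => rw [← one_smul F₀ (a i), ← Fintype.linearCombination_apply_single F₀ a i (1 : F₀)]
    exact LinearMap.congr_fun hL _
  have h2 := congrFun h1 j
  rw [pi_eq_sum_univ' (a i), map_sum, Finset.sum_apply] at h2
  simp only [map_smul, Pi.smul_apply, smul_eq_mul] at h2
  rw [h2, Pi.single_apply]
  simp only [eq_comm]

/-! ### Root elements of planes -/

omit [Finite F] in
theorem ratEl_congr {c d c' d' : ι → F}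
    (h : ∀ z, polar (⇑Q) z d' • c' - polar (⇑Q) z c' • d' = polar (⇑Q) z d • c - polar (⇑Q) z c • d)
    (h' : RatEl s c' d') : RatEl s c d := fun v => by
  have := h' v
  rwa [h] at this

omit [Finite F] in
theorem has_congr {c d c' d' : ι → F} (hd : Q d = 0) (hd' : Q d' = 0) (hc : Q c = 0) (hcd : polar (⇑Q) c d = 0)
    (h : ∀ z, polar (⇑Q) z d' • c' - polar (⇑Q) z c' • d' = polar (⇑Q) z d • c - polar (⇑Q) z c • d)
    (hX : Has s.nondeg K c d) : Has s.nondeg K c' d' := by
  intro hc' hcd'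
  convert hX hc hcd using 1
  refine Subtype.ext (LinearEquiv.ext fun z => ?_)
  rw [eich_apply, eich_apply, hd, hd', zero_mul, zero_mul, sub_zero, sub_zero, neg_smul, neg_smul,
    ← sub_eq_add_neg, ← sub_eq_add_neg, add_sub_assoc, add_sub_assoc, h]

omit [Finite F] in
theorem bivector {p q : ι → F} (h : RatEl s p q) (z : ι → F) :
    polar (⇑Q) z (frv fr q) • frv fr p - polar (⇑Q) z (frv fr p) • frv fr q =
      polar (⇑Q) z q • p - polar (⇑Q) z p • q := by
  let L₁ : (ι → F) →ₗ[F] (ι → F) :=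
    ((polarBilin Q).flip (frv fr q)).smulRight (frv fr p) - ((polarBilin Q).flip (frv fr p)).smulRight (frv fr q)
  let L₂ : (ι → F) →ₗ[F] (ι → F) :=
    ((polarBilin Q).flip q).smulRight p - ((polarBilin Q).flip p).smulRight q
  suffices L₁ = L₂ from LinearMap.congr_fun this z
  refine (Pi.basisFun F ι).ext fun i => ?_
  rw [Pi.basisFun_apply, ← inc_single (F₀ := F₀)]
  have := h (Pi.single i 1)
  rw [frv_sub, frv_smul, frv_smul, ← s.comm_polar, ← s.comm_polar, s.frv_inc] at this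
  exact this

theorem line {p q q' h₁ h₂ h₁' : ι → F} (hpq : RatEl s p q) (hpq' : RatEl s p q')
    (a1 : polar (⇑Q) h₁ q = 1) (a2 : polar (⇑Q) h₁ q' = 0) (a3 : polar (⇑Q) h₁ p = 0)
    (b1 : polar (⇑Q) h₂ p = 1) (b2 : polar (⇑Q) h₂ q = 0) (c1 : polar (⇑Q) h₁' q' = 1)
    (c3 : polar (⇑Q) h₁' p = 0) :
    ∃ κ : F, frv fr p = κ • p := by
  have key : ∀ {q h : ι → F}, RatEl s p q → polar (⇑Q) h q = 1 → polar (⇑Q) h p = 0 →
      ∃ a b : F, frv fr p = a • p + b • q := by
    intro q h hr e1 e2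
    have hnot : frv fr q ∉ Submodule.span F {frv fr p} := fun hm => by
      obtain ⟨t, ht⟩ := Submodule.mem_span_singleton.1 hm
      have e := congrArg (polar (⇑Q) (frv fr h)) ht
      rw [polar_smul_right', s.comm_polar, s.comm_polar, e1, e2, map_zero, mul_zero, map_one] at e
      exact zero_ne_one e
    obtain ⟨z, hz1, hz2⟩ := exists_sep_polar s.nondeg hnot
    have := bivector s hr z
    rw [QuadraticMap.polar_comm _ z (frv fr q), hz1, QuadraticMap.polar_comm _ z (frv fr p),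
      hz2 _ (Submodule.mem_span_singleton_self _), one_smul, zero_smul, sub_zero] at this
    exact ⟨polar (⇑Q) z q, -polar (⇑Q) z p, by rw [this, neg_smul, sub_eq_add_neg]⟩
  obtain ⟨a, b, e⟩ := key hpq a1 a3
  obtain ⟨a', b', e'⟩ := key hpq' c1 c3
  have := congrArg (polar (⇑Q) h₁) (e.symm.trans e')
  rw [polar_add_right', polar_add_right', polar_smul_right', polar_smul_right', polar_smul_right', polar_smul_right',
    a1, a2, a3] at this
  have hb : b = 0 := by linear_combination this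
  exact ⟨a, by rw [e, hb, zero_smul, add_zero]⟩

omit [Finite F] in
theorem mul_kappa {p q h₁ h₂ : ι → F} {κ κ' : F} (hpq : RatEl s p q) (hp : frv fr p = κ • p)
    (hq : frv fr q = κ' • q) (a1 : polar (⇑Q) h₁ q = 1) (a3 : polar (⇑Q) h₁ p = 0)
    (b1 : polar (⇑Q) h₂ p = 1) : κ * κ' = 1 := by
  have h := congrArg (polar (⇑Q) h₂) (bivector s hpq h₁)
  rw [hp, hq] at h
  simp only [QuadraticMap.polar_sub_right, polar_smul_right', a1, a3, b1] at h
  linear_combination h

/-- A plane with a rational vector. -/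
theorem ratEl_of_centre (hK : HasRat s K) (hne : ¬ eichGroup s.nondeg ≤ K) {z : ι → F₀} (hz : Q₀ z = 0)
    (hz0 : z ≠ 0) {d : ι → F} (hzd : polar (⇑Q) (inc F₀ z) d = 0) (hX : Has s.nondeg K (inc F₀ z) d) :
    RatEl s (inc F₀ z) d := by
  obtain ⟨κ, hκ⟩ : ∃ κ : F, frv fr (d + κ • inc F₀ z) = d + κ • inc F₀ z := by
    by_contra! hno
    exact hne (le_of_nonrational s hK hz hz0 hzd hX hno)
  intro v
  set R := d + κ • inc F₀ z with hR
  have e : polar (⇑Q) (inc F₀ v) d • inc F₀ z - polar (⇑Q) (inc F₀ v) (inc F₀ z) • d =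
      polar (⇑Q) (inc F₀ v) R • inc F₀ z - polar (⇑Q) (inc F₀ v) (inc F₀ z) • R := by
    rw [hR]
    simp only [polar_add_right', polar_smul_right']
    module
  rw [e, frv_sub, s.frv_scaled (by rw [QuadraticMap.polar_comm]; exact s.polar_mem hκ v) (s.frv_inc z),
    s.frv_scaled (s.polar_mem (s.frv_inc v) z) hκ]

/-- A plane orthogonal to one rational singular vector. -/
theorem ratEl_of_one_perp (hK : HasRat s K) (hne : ¬ eichGroup s.nondeg ≤ K) {c d : ι → F} (hc : Q c = 0)
    (hd : Q d = 0) (hcd : polar (⇑Q) c d = 0) (hX : Has s.nondeg K c d) {z : ι → F₀} (hz : Q₀ z = 0)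
    (hz0 : z ≠ 0) (hzc : polar (⇑Q) (inc F₀ z) c = 0) (hzd : polar (⇑Q) (inc F₀ z) d = 0) : RatEl s c d := by
  classical
  set Zf := inc F₀ z with hZf
  have hqZ : Q Zf = 0 := s.val_zero hz
  have hcc : polar (⇑Q) c c = 0 := by rw [polar_self', hc, mul_zero]
  have hdd : polar (⇑Q) d d = 0 := by rw [polar_self', hd, mul_zero]
  have hdc : polar (⇑Q) d c = 0 := by rw [QuadraticMap.polar_comm, hcd]
  by_cases hli : ∀ a b t : F, a • c + b • d + t • Zf = 0 → a = 0 ∧ b = 0
  swap
  · push Not at hli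
    obtain ⟨a, b, t, habt, hab⟩ := hli
    by_cases ht : t = 0
    · -- the pair is dependent
      rw [ht, zero_smul, add_zero] at habt
      intro v
      have e1 := congrArg (polar (⇑Q) (inc F₀ v)) habt
      rw [polar_add_right', polar_smul_right', polar_smul_right', QuadraticMap.polar_zero_right] at e1
      suffices polar (⇑Q) (inc F₀ v) d • c - polar (⇑Q) (inc F₀ v) c • d = 0 by rw [this, frv_zero]
      by_cases hb : b = 0
      · rw [hb, zero_smul, add_zero] at habt
        have hc0 : c = 0 := (smul_eq_zero.1 habt).resolve_left (fun ha => hab ha hb)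
        rw [hc0, QuadraticMap.polar_zero_right, smul_zero, zero_smul, sub_zero]
      · refine (smul_eq_zero.1 ?_).resolve_left hb
        have e : d = -(b⁻¹ • a • c) := by
          rw [eq_neg_iff_add_eq_zero]
          have := congrArg (fun w => b⁻¹ • w) habt
          simp only [smul_add, smul_zero, inv_smul_smul₀ hb] at this
          rw [add_comm]
          exact this
        rw [e, smul_smul, ← neg_smul, polar_smul_right']
        module
    -- the rational vector lies in the plane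
    obtain ⟨u, v', huv⟩ : ∃ u v' : F, (-a / t) * u - (-b / t) * v' = 1 := by
      by_cases ha : a = 0
      · refine ⟨0, t / b, ?_⟩
        field_simp [hab ha]
        ring
      · refine ⟨-(t / a), 0, ?_⟩
        field_simp
        ring
    set d' := v' • c + u • d with hd'
    have hZe : Zf = (-a / t) • c + (-b / t) • d := by
      refine smul_right_injective _ ht ?_
      show t • Zf = t • ((-a / t) • c + (-b / t) • d)
      rw [smul_add, smul_smul, smul_smul, mul_div_cancel₀ _ ht, mul_div_cancel₀ _ ht]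
      rw [← sub_eq_zero]
      rw [← habt]
      module
    have h : ∀ w, polar (⇑Q) w d' • Zf - polar (⇑Q) w Zf • d' = polar (⇑Q) w d • c - polar (⇑Q) w c • d := by
      intro w
      simp only [hd', hZe, polar_add_right', polar_smul_right']
      match_scalars
      · linear_combination polar (⇑Q) w d * huv
      · linear_combination -polar (⇑Q) w c * huv
    have hqd' : Q d' = 0 := by
      rw [hd', apply_add, apply_smul, apply_smul, hc, hd, polar_smul_left', polar_smul_right', hcd]; ring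
    have hzd' : polar (⇑Q) Zf d' = 0 := by
      rw [hd', polar_add_right', polar_smul_right', polar_smul_right', hzc, hzd]; ring
    exact ratEl_congr s h (ratEl_of_centre s hK hne hz hz0 hzd' (has_congr s hd hqd' hc hcd h hX))
  -- three independent vectors
  set δ : (ι → F₀) → (ι → F) := fun v => polar (⇑Q) (inc F₀ v) d • c - polar (⇑Q) (inc F₀ v) c • d with hδ
  have hg : ∀ v, (eich s.nondeg hc hcd : (ι → F) ≃ₗ[F] (ι → F)) (inc F₀ v) = inc F₀ v + δ v := by
    intro v
    rw [eich_apply, hd, hδ]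
    module
  have hmod : ∀ v, polar (⇑Q₀) z v = 0 → ∃ κ : F, frv fr (δ v + κ • Zf) = δ v + κ • Zf := by
    intro v hv
    have hfixZ : (eich s.nondeg hc hcd : (ι → F) ≃ₗ[F] (ι → F)) Zf = Zf := by
      rw [eich_apply, hzc, hzd]
      module
    have h1 := has_diff s (s.pval_zero hv) (hK z v) (hX hc hcd) hfixZ
    rw [hg, add_sub_cancel_left] at h1
    by_contra! hno
    refine hne (le_of_nonrational s hK hz hz0 ?_ h1 hno)
    rw [hδ, QuadraticMap.polar_sub_right, polar_smul_right', polar_smul_right', hzc, hzd]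
    ring
  obtain ⟨z', -, hzz'⟩ := exists_partner_of_singular s.nondeg₀ hz hz0
  -- a functional vanishing on the rational vectors orthogonal to `z`
  have key : ∀ a b : F, (∀ v, polar (⇑Q₀) z v = 0 →
      a * polar (⇑Q) (inc F₀ v) c + b * polar (⇑Q) (inc F₀ v) d = 0) → a = 0 ∧ b = 0 := by
    intro a b h
    set e := a • c + b • d with he
    refine hli a b (-polar (⇑Q) e (inc F₀ z')) ?_
    rw [neg_smul, add_neg_eq_zero]
    refine s.ext fun x => ?_
    have h1 := h (x - polar (⇑Q₀) z x • z')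
      (by rw [QuadraticMap.polar_sub_right, polar_smul_right', hzz', mul_one, sub_self])
    rw [inc_sub, inc_smul, QuadraticMap.polar_sub_left, QuadraticMap.polar_sub_left, polar_smul_left',
      polar_smul_left'] at h1
    rw [polar_smul_left', hZf, s.pval, he, polar_add_left', polar_add_left', polar_smul_left', polar_smul_left',
      polar_smul_left', polar_smul_left', QuadraticMap.polar_comm _ c (inc F₀ x),
      QuadraticMap.polar_comm _ d (inc F₀ x), QuadraticMap.polar_comm _ c (inc F₀ z'),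
      QuadraticMap.polar_comm _ d (inc F₀ z')]
    linear_combination h1
  obtain ⟨v₁, v₂, hv₁, hv₂, hD⟩ : ∃ v₁ v₂, polar (⇑Q₀) z v₁ = 0 ∧ polar (⇑Q₀) z v₂ = 0 ∧
      polar (⇑Q) (inc F₀ v₁) d * polar (⇑Q) (inc F₀ v₂) c -
        polar (⇑Q) (inc F₀ v₁) c * polar (⇑Q) (inc F₀ v₂) d ≠ 0 := by
    by_contra! hall
    obtain ⟨v₁, hv₁, hne1⟩ : ∃ v, polar (⇑Q₀) z v = 0 ∧
        ¬ (polar (⇑Q) (inc F₀ v) d = 0 ∧ -polar (⇑Q) (inc F₀ v) c = 0) := by
      by_contra! hh
      exact one_ne_zero (key 1 0 fun v hv => by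
        rw [neg_eq_zero.1 (hh v hv).2]
        ring).1
    exact hne1 (key _ _ fun v hv => by
      have := hall v₁ v hv₁ hv
      linear_combination this)
  obtain ⟨κ₁, hκ₁⟩ := hmod v₁ hv₁
  obtain ⟨κ₂, hκ₂⟩ := hmod v₂ hv₂
  obtain ⟨R₁, hR₁⟩ := s.exists_inc hκ₁
  obtain ⟨R₂, hR₂⟩ := s.exists_inc hκ₂
  set R : Fin 3 → ι → F₀ := ![z, R₁, R₂] with hR
  obtain ⟨C, hC⟩ : ∃ C : Fin 3 → F × F × F, ∀ i,
      inc F₀ (R i) = (C i).1 • c + (C i).2.1 • d + (C i).2.2 • Zf := by
    refine ⟨![(0, 0, 1), (polar (⇑Q) (inc F₀ v₁) d, -polar (⇑Q) (inc F₀ v₁) c, κ₁),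
      (polar (⇑Q) (inc F₀ v₂) d, -polar (⇑Q) (inc F₀ v₂) c, κ₂)], fun i => ?_⟩
    fin_cases i
    · show Zf = _
      simp
    · show inc F₀ R₁ = _
      rw [hR₁, hδ]
      simp
      module
    · show inc F₀ R₂ = _
      rw [hR₂, hδ]
      simp
      module
  have hperp : ∀ i, polar (⇑Q) (inc F₀ (R i)) c = 0 ∧ polar (⇑Q) (inc F₀ (R i)) d = 0 ∧
      polar (⇑Q) (inc F₀ (R i)) Zf = 0 := fun i => by
    rw [hC]
    refine ⟨?_, ?_, ?_⟩ <;>
      simp only [polar_add_left', polar_smul_left', hcc, hdd, hcd, hdc, hzc, hzd, polar_self', hqZ,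
        QuadraticMap.polar_comm (⇑Q) c Zf, QuadraticMap.polar_comm (⇑Q) d Zf] <;> ring
  have hiso : ∀ i j, polar (⇑Q₀) (R i) (R j) = 0 := fun i j => by
    apply Subtype.ext
    rw [← s.pval, hC j, polar_add_right', polar_add_right', polar_smul_right', polar_smul_right',
      polar_smul_right', (hperp i).1, (hperp i).2.1, (hperp i).2.2]
    simp
  have hsing : ∀ i, Q₀ (R i) = 0 := fun i => by
    apply Subtype.ext
    rw [← s.val, hC i]
    simp only [apply_add, apply_smul, polar_add_left', polar_smul_left', polar_smul_right', hc, hd, hqZ, hcd,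
      QuadraticMap.polar_comm (⇑Q) c Zf, QuadraticMap.polar_comm (⇑Q) d Zf, hzc, hzd]
    simp
  have hindep : LinearIndependent F₀ R := by
    rw [Fintype.linearIndependent_iff]
    intro g hg0
    have h0 : inc F₀ (g 0 • z + g 1 • R₁ + g 2 • R₂) = 0 := by
      rw [← inc_zero (F₀ := F₀), ← hg0, Fin.sum_univ_three]
      rfl
    rw [inc_add, inc_add, inc_smul, inc_smul, inc_smul, hR₁, hR₂, hδ] at h0
    obtain ⟨e1, e2⟩ := hli ((g 1 : F) * polar (⇑Q) (inc F₀ v₁) d + (g 2 : F) * polar (⇑Q) (inc F₀ v₂) d)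
      (-((g 1 : F) * polar (⇑Q) (inc F₀ v₁) c + (g 2 : F) * polar (⇑Q) (inc F₀ v₂) c))
      ((g 0 : F) + (g 1 : F) * κ₁ + (g 2 : F) * κ₂) (by rw [← h0, ← hZf]; module)
    rw [neg_eq_zero] at e2
    have g1 : (g 1 : F) = 0 := (mul_eq_zero.1 (show (g 1 : F) * (polar (⇑Q) (inc F₀ v₁) d *
      polar (⇑Q) (inc F₀ v₂) c - polar (⇑Q) (inc F₀ v₁) c * polar (⇑Q) (inc F₀ v₂) d) = 0 by
        linear_combination polar (⇑Q) (inc F₀ v₂) c * e1 - polar (⇑Q) (inc F₀ v₂) d * e2)).resolve_right hD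
    have g2 : (g 2 : F) = 0 := (mul_eq_zero.1 (show (g 2 : F) * (polar (⇑Q) (inc F₀ v₁) d *
      polar (⇑Q) (inc F₀ v₂) c - polar (⇑Q) (inc F₀ v₁) c * polar (⇑Q) (inc F₀ v₂) d) = 0 by
        linear_combination polar (⇑Q) (inc F₀ v₁) d * e2 - polar (⇑Q) (inc F₀ v₁) c * e1)).resolve_right hD
    rw [g1, g2] at h0
    simp only [zero_smul, add_zero] at h0
    have g0 : (g 0 : F) = 0 := (smul_eq_zero.1 h0).resolve_right (s.inc_ne_zero hz0)
    intro i
    fin_cases i
    · exact Subtype.ext g0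
    · exact Subtype.ext g1
    · exact Subtype.ext g2
  have hdual : ∀ i, ∃ H, polar (⇑Q₀) (R i) H = 1 ∧ ∀ j, j ≠ i → polar (⇑Q₀) (R j) H = 0 := fun i => by
    obtain ⟨H, hH, hH'⟩ := exists_sep_polar s.nondeg₀ (U := Submodule.span F₀ (R '' {i}ᶜ)) (x := R i)
      (hindep.notMem_span_image (by simp))
    exact ⟨H, hH, fun j hj => hH' _ (Submodule.subset_span ⟨j, hj, rfl⟩)⟩
  choose H hH hH' using hdual
  have hT : Triple s R H := ⟨hsing, hiso, fun i j => by
    by_cases hij : i = j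
    · subst hij
      rw [if_pos rfl, hH]
    · rw [if_neg hij, hH' j i hij]⟩
  exact ratEl_of_perp s hK hne hc hd hcd hX hT (fun i => (hperp i).1) (fun i => (hperp i).2.1)

/-- Every root element of a plane in the subgroup is rational. -/
theorem ratEl_of_has (hK : HasRat s K) (hne : ¬ eichGroup s.nondeg ≤ K) {c d : ι → F} (hc : Q c = 0)
    (hd : Q d = 0) (hcd : polar (⇑Q) c d = 0) (hX : Has s.nondeg K c d) : RatEl s c d := by
  obtain ⟨Z, H, hf⟩ := exists_frame s 3 le_rfl
  obtain ⟨r, hr, hcard⟩ := s.deg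
  haveI : Fintype F := Fintype.ofFinite F
  rw [Nat.card_eq_fintype_card] at hcard
  set Za : (Fin 3 → F₀) → ι → F₀ := fun a => ∑ k, a k • Z k with hZa
  let Λ : (Fin 3 → F) →ₗ[F] (ι → F) := Fintype.linearCombination F (fun k => inc F₀ (Z k))
  have hΛ : ∀ x, Λ x = ∑ k, x k • inc F₀ (Z k) := fun x => Fintype.linearCombination_apply _ _ x
  have hΛinc : ∀ a, Λ (inc F₀ a) = inc F₀ (Za a) := fun a => by
    rw [hΛ, hZa]
    funext i
    simp [inc, Finset.sum_apply]
  have hΛfr : ∀ x, Λ (frv fr x) = frv fr (Λ x) := fun x => by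
    rw [hΛ, hΛ, frv_sum]
    exact Finset.sum_congr rfl fun k _ => by rw [frv_smul, s.frv_inc]; rfl
  let α : (Fin 3 → F₀) →ₗ[F₀] F :=
    { toFun := fun a => polar (⇑Q) c (Λ (inc F₀ a))
      map_add' := fun a b => by rw [inc_add, map_add, polar_add_right']
      map_smul' := fun k a => by rw [inc_smul, map_smul, polar_smul_right']; rfl }
  let β : (Fin 3 → F₀) →ₗ[F₀] F :=
    { toFun := fun a => polar (⇑Q) d (Λ (inc F₀ a))
      map_add' := fun a b => by rw [inc_add, map_add, polar_add_right']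
      map_smul' := fun k a => by rw [inc_smul, map_smul, polar_smul_right']; rfl }
  have hα : ∀ a, α a = polar (⇑Q) c (Λ (inc F₀ a)) := fun a => rfl
  have hβ : ∀ a, β a = polar (⇑Q) d (Λ (inc F₀ a)) := fun a => rfl
  set N := LinearMap.ker α ⊓ LinearMap.ker β with hN
  by_cases hN1 : 1 ≤ Module.finrank F₀ N
  · obtain ⟨a, haN, ha0⟩ := Submodule.exists_mem_ne_zero_of_ne_bot (p := N) fun e => by
      rw [e, finrank_bot] at hN1
      omega
    have hz0 : Za a ≠ 0 := fun h0 => ha0 (funext fun l => by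
      have h1 : polar (⇑Q₀) (Za a) (H l) = a l := by
        simp only [hZa, ← QuadraticMap.polarBilin_apply_apply, map_sum]
        simp [QuadraticMap.polarBilin_apply_apply, polar_smul_left', hf.zh]
      rw [h0, QuadraticMap.polar_zero_left] at h1
      exact h1.symm)
    exact ratEl_of_one_perp s hK hne hc hd hcd hX (q_sum s hf a) hz0
      (by rw [QuadraticMap.polar_comm, ← hΛinc, ← hα]; exact LinearMap.mem_ker.1 haN.1)
      (by rw [QuadraticMap.polar_comm, ← hΛinc, ← hβ]; exact LinearMap.mem_ker.1 haN.2)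
  have hN0 : ∀ a, α a = 0 → β a = 0 → a = 0 := fun a h1 h2 => by
    by_contra ha
    refine hN1 (Nat.one_le_iff_ne_zero.2 fun h0 => ha ?_)
    have h3 : a ∈ N := ⟨h1, h2⟩
    rwa [Submodule.finrank_eq_zero.1 h0, Submodule.mem_bot] at h3
  obtain ⟨y₁, hy₁⟩ : ∃ y, α y ≠ 0 ∨ β y ≠ 0 := by
    by_contra! h
    refine hN1 ?_
    have : N = ⊤ := eq_top_iff.2 fun x _ => ⟨(h x).1, (h x).2⟩
    rw [this, finrank_top, Module.finrank_fintype_fun_eq_card, Fintype.card_fin]
    norm_num
  set α₁ := α y₁ with hα₁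
  set β₁ := β y₁ with hβ₁
  let Ψ : (Fin 3 → F₀) →ₗ[F₀] F :=
    { toFun := fun a => β₁ * α a - α₁ * β a
      map_add' := fun a b => by rw [map_add, map_add]; ring
      map_smul' := fun k a => by
        rw [map_smul, map_smul]
        show β₁ * ((k : F) * α a) - α₁ * ((k : F) * β a) = (k : F) * (β₁ * α a - α₁ * β a)
        ring }
  have hΨ : ∀ a, Ψ a = β₁ * α a - α₁ * β a := fun a => rfl
  by_cases hk3 : LinearMap.ker Ψ = ⊤
  · obtain ⟨a, haN, H', hT⟩ := exists_triple s hf (S := LinearMap.ker Ψ) (by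
      rw [hk3, finrank_top, Module.finrank_fintype_fun_eq_card, Fintype.card_fin])
    obtain ⟨u, v, huv⟩ : ∃ u v : F, β₁ * u + α₁ * v = 1 := by
      rcases hy₁ with h | h
      · exact ⟨0, α₁⁻¹, by rw [mul_zero, zero_add, mul_inv_cancel₀ h]⟩
      · exact ⟨β₁⁻¹, 0, by rw [mul_zero, add_zero, mul_inv_cancel₀ h]⟩
    set c' := β₁ • c + (-α₁) • d with hc'
    set d' := v • c + u • d with hd'
    have hdc : polar (⇑Q) d c = 0 := by rw [QuadraticMap.polar_comm, hcd]
    have hcc : polar (⇑Q) c c = 0 := by rw [polar_self', hc, mul_zero]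
    have hdd : polar (⇑Q) d d = 0 := by rw [polar_self', hd, mul_zero]
    have h : ∀ z, polar (⇑Q) z d' • c' - polar (⇑Q) z c' • d' = polar (⇑Q) z d • c - polar (⇑Q) z c • d := by
      intro z
      simp only [hc', hd', polar_add_right', polar_smul_right']
      match_scalars
      · linear_combination polar (⇑Q) z d * huv
      · linear_combination -polar (⇑Q) z c * huv
    have hqc' : Q c' = 0 := by rw [hc', apply_add, apply_smul, apply_smul, hc, hd, polar_smul_left', polar_smul_right', hcd]; ring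
    have hqd' : Q d' = 0 := by rw [hd', apply_add, apply_smul, apply_smul, hc, hd, polar_smul_left', polar_smul_right', hcd]; ring
    have hcd' : polar (⇑Q) c' d' = 0 := by
      simp only [hc', hd', polar_add_right', polar_add_left', polar_smul_left', polar_smul_right', hcd, hdc, hcc, hdd]
      ring
    refine ratEl_congr s h (ratEl_of_half_perp s hK hne hqc' hqd' hcd' (has_congr s hd hqd' hc hcd h hX) hT ?_)
    intro i
    have := LinearMap.mem_ker.1 (haN i)
    rw [hΨ, hα, hβ, hΛinc] at this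
    rw [QuadraticMap.polar_comm, hc', polar_add_left', polar_smul_left', polar_smul_left']
    linear_combination this
  exfalso
  set T := LinearMap.range Λ with hTdef
  have hT : ∀ x ∈ T, Q x = 0 := by
    rintro _ ⟨x, rfl⟩
    rw [hΛ]
    suffices ∀ S : Finset (Fin 3), Q (∑ k ∈ S, x k • inc F₀ (Z k)) = 0 from this _
    intro S
    induction S using Finset.induction with
    | empty => simp
    | insert j S hj ih =>
      rw [Finset.sum_insert hj, apply_add, apply_smul, s.val_zero (hf.qZ j), ih, polar_smul_left',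
        ← QuadraticMap.polarBilin_apply_apply, map_sum]
      simp [QuadraticMap.polarBilin_apply_apply, polar_smul_right', s.pval_zero (hf.zz j _)]
  have hTm : ∀ a, Λ (inc F₀ a) ∈ T := fun a => LinearMap.mem_range_self _ _
  obtain ⟨y₂, hy₂⟩ : ∃ y, Ψ y ≠ 0 := by
    by_contra! h
    exact hk3 (LinearMap.ker_eq_top.2 (LinearMap.ext h))
  set w := Ψ y₂ with hw
  set e₁ := w⁻¹ • (β₁ • Λ (inc F₀ y₂) - β y₂ • Λ (inc F₀ y₁)) with he₁
  set e₂ := w⁻¹ • (α y₂ • Λ (inc F₀ y₁) - α₁ • Λ (inc F₀ y₂)) with he₂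
  obtain ⟨ν, hν⟩ : ∃ ν : F, ν ∉ F₀ := by
    by_contra! hc
    have h1 : Nat.card F ≤ Nat.card F₀ := Nat.card_le_card_of_injective (fun x => (⟨x, hc x⟩ : F₀)) fun a b h =>
      congrArg Subtype.val h
    rw [Nat.card_eq_fintype_card, hcard] at h1
    have := Nat.pow_lt_pow_right (show 1 < Nat.card F₀ from Finite.one_lt_card) hr.one_lt
    rw [pow_one] at this
    omega
  have hν0 : ν ≠ 0 := fun h => hν (h ▸ zero_mem _)
  let bv : (Fin 3 → F₀) → (Fin 3 → F₀) → F := fun a a' => β a * α a' - α a * β a'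
  let SB : Submodule F₀ F := Submodule.span F₀ (Set.range fun p : (Fin 3 → F₀) × (Fin 3 → F₀) => bv p.1 p.2)
  have hSB2 : 2 ≤ Module.finrank F₀ SB := by
    obtain ⟨n, hn⟩ : ∃ n, n ∉ Submodule.span F₀ (Set.range ![y₁, y₂]) := by
      by_contra! hall
      have h1 : Module.finrank F₀ (Submodule.span F₀ (Set.range ![y₁, y₂])) ≤ Fintype.card (Fin 2) :=
        finrank_range_le_card (R := F₀) ![y₁, y₂]
      rw [(eq_top_iff.2 fun x _ => hall x : Submodule.span F₀ (Set.range ![y₁, y₂]) = ⊤), finrank_top, Module.finrank_fintype_fun_eq_card, Fintype.card_fin,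
        Fintype.card_fin] at h1
      omega
    have hw' : (⟨w, Submodule.subset_span ⟨(y₁, y₂), rfl⟩⟩ : SB) ≠ 0 := fun h => hy₂ (congrArg Subtype.val h)
    by_contra hlt
    have h1 : Module.finrank F₀ SB = 1 := by
      have : Module.finrank F₀ SB ≠ 0 := fun h0 => hw' (by
        haveI := Module.finrank_zero_iff.1 h0
        exact Subsingleton.elim _ _)
      omega
    have hprop : ∀ a a', ∃ k : F₀, (k : F) * w = bv a a' := fun a a' => by
      obtain ⟨k, hk⟩ := exists_smul_eq_of_finrank_eq_one h1 hw' ⟨bv a a', Submodule.subset_span ⟨(a, a'), rfl⟩⟩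
      exact ⟨k, congrArg Subtype.val hk⟩
    obtain ⟨k₁, hk₁⟩ := hprop n y₁
    obtain ⟨k₂, hk₂⟩ := hprop n y₂
    set n' := n + k₁ • y₂ + (-k₂) • y₁ with hn'
    have hlin : ∀ (γ : (Fin 3 → F₀) →ₗ[F₀] F), γ n' = γ n + (k₁ : F) * γ y₂ + -(k₂ : F) * γ y₁ := fun γ => by
      rw [hn', map_add, map_add, map_smul, map_smul]
      rfl
    have e1 : bv n' y₁ = 0 := by
      have hw1 : w = β y₁ * α y₂ - α y₁ * β y₂ := by rw [hw, hΨ]
      simp only [bv, hlin] at hk₁ ⊢
      linear_combination -hk₁ + (k₁ : F) * hw1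
    have e2 : bv n' y₂ = 0 := by
      have hw1 : w = β y₁ * α y₂ - α y₁ * β y₂ := by rw [hw, hΨ]
      simp only [bv, hlin] at hk₂ ⊢
      linear_combination -hk₂ + (k₂ : F) * hw1
    simp only [bv] at e1 e2
    have hwd : β y₁ * α y₂ - α y₁ * β y₂ ≠ 0 := hy₂
    have ha' : α n' = 0 := (mul_eq_zero.1 (show α n' * (β y₁ * α y₂ - α y₁ * β y₂) = 0 by
      linear_combination α y₁ * e2 - α y₂ * e1)).resolve_right hwd
    have hb' : β n' = 0 := (mul_eq_zero.1 (show β n' * (β y₁ * α y₂ - α y₁ * β y₂) = 0 by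
      linear_combination β y₁ * e2 - β y₂ * e1)).resolve_right hwd
    have h0 := hN0 n' ha' hb'
    refine hn ?_
    have hmem : ∀ i, (![y₁, y₂]) i ∈ Submodule.span F₀ (Set.range ![y₁, y₂]) := fun i =>
      Submodule.subset_span ⟨i, rfl⟩
    have : n = -(k₁ • y₂ + (-k₂) • y₁) := by
      rw [eq_neg_iff_add_eq_zero, ← add_assoc]
      exact h0
    rw [this]
    exact neg_mem (add_mem (Submodule.smul_mem _ _ (hmem 1)) (Submodule.smul_mem _ _ (hmem 0)))
  let B : AddSubgroup F := SB.toAddSubgroup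
  obtain ⟨g, hgK, hgR, hgT⟩ := diag_element s.nondeg F₀ hr hcard hT (e₁ := e₁) (e₂ := e₂)
    (T.smul_mem _ (T.sub_mem (T.smul_mem _ (hTm _)) (T.smul_mem _ (hTm _))))
    (T.smul_mem _ (T.sub_mem (T.smul_mem _ (hTm _)) (T.smul_mem _ (hTm _)))) hc hd hcd
    (by simp only [he₁, polar_smul_right', QuadraticMap.polar_sub_right, ← hα, ← hα₁]
        rw [mul_comm (β y₂) α₁, ← hΨ, ← hw, inv_mul_cancel₀ hy₂])
    (by simp only [he₁, polar_smul_right', QuadraticMap.polar_sub_right, ← hβ, ← hβ₁]; ring)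
    (by simp only [he₂, polar_smul_right', QuadraticMap.polar_sub_right, ← hα, ← hα₁]; ring)
    (by simp only [he₂, polar_smul_right', QuadraticMap.polar_sub_right, ← hβ, ← hβ₁]
        rw [mul_comm (α y₂) β₁, ← hΨ, ← hw, inv_mul_cancel₀ hy₂])
    hX B
    (fun k hk b hb => SB.smul_mem (⟨k, hk⟩ : F₀) hb)
    (by
      show Nat.card F₀ ^ 2 ≤ Nat.card SB
      rw [Module.natCard_eq_pow_finrank (K := F₀) (V := SB)]
      exact Nat.pow_le_pow_right (Finite.one_lt_card (α := F₀)).le hSB2)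
    (Set.range fun p : (Fin 3 → F₀) × (Fin 3 → F₀) => bv p.1 p.2)
    (fun b hb => by
      show b ∈ AddSubgroup.closure _
      have hb' : b ∈ SB := hb
      induction hb' using Submodule.span_induction with
      | mem x hx => exact AddSubgroup.subset_closure hx
      | zero => exact zero_mem _
      | add x y hx hy ihx ihy => exact add_mem (ihx hx) (ihy hy)
      | smul k x hx ihx =>
        refine AddSubgroup.closure_induction (p := fun x _ => k • x ∈ AddSubgroup.closure _)
          (fun y hy => ?_) (by simp) (fun y y' _ _ h h' => by rw [smul_add]; exact add_mem h h')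
          (fun y _ h => by rw [smul_neg]; exact neg_mem h) (ihx hx)
        obtain ⟨⟨a, a'⟩, rfl⟩ := hy
        refine AddSubgroup.subset_closure ⟨(k • a, a'), ?_⟩
        show bv (k • a) a' = (k : F) * bv a a'
        simp only [bv, map_smul]
        show (k : F) * β a * α a' - (k : F) * α a * β a' = _
        ring)
    (by
      rintro b ⟨⟨a, a'⟩, rfl⟩
      refine ⟨_, hTm a, _, hTm a', ?_, by rw [← hα, ← hα, ← hβ, ← hβ]⟩
      rw [hΛinc, hΛinc]
      exact hK _ _)
    hν0
  set R := cut (cut T Q c) Q d with hR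
  -- the images of the rational vectors of `T`
  have hgimg : ∀ a, (g : (ι → F) ≃ₗ[F] (ι → F)) (inc F₀ (Za a)) ∈ T := fun a => by
    have h1 := (mem_cut.1 (mem_cut.1 (hgT _ (hTm a))).1).1
    rw [← hΛinc]
    have := T.add_mem h1 (T.smul_mem ν⁻¹ (hTm a))
    rwa [sub_add_cancel] at this
  set p : Fin 3 → ι → F := fun k => (g : (ι → F) ≃ₗ[F] (ι → F)) (inc F₀ (Z k)) with hp
  set h : Fin 3 → ι → F := fun k => (g : (ι → F) ≃ₗ[F] (ι → F)) (inc F₀ (H k)) with hh
  have hph : ∀ i j, polar (⇑Q) (h i) (p j) = if i = j then 1 else 0 := fun i j => by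
    rw [hp, hh, OQ.map_polar, QuadraticMap.polar_comm, s.pval, hf.zh]
    by_cases hij : i = j <;> simp [hij, Ne.symm]
  have hpT : ∀ k, p k ∈ T := fun k => by
    have := hgimg (Pi.single k 1)
    simpa [hZa, Pi.single_apply] using this
  obtain ⟨a₃, -, H₃, hT₃⟩ := exists_triple s hf (S := ⊤) (by
    rw [finrank_top, Module.finrank_fintype_fun_eq_card, Fintype.card_fin])
  have hTT : ∀ x ∈ T, ∀ y ∈ T, polar (⇑Q) x y = 0 := fun x hx y hy => by
    simp only [polar, hT x hx, hT y hy, hT _ (T.add_mem hx hy), sub_self]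
  have hrp : ∀ i j, RatEl s (p i) (p j) := fun i j => by
    refine ratEl_of_perp s hK hne (by rw [hp, OQ.map_apply, s.val_zero (hf.qZ i)])
      (by rw [hp, OQ.map_apply, s.val_zero (hf.qZ j)]) (hTT _ (hpT i) _ (hpT j))
      ((hK (Z i) (Z j)).conj s.nondeg hgK) hT₃ (fun l => ?_) (fun l => ?_) <;>
      exact hTT _ (hΛinc (a₃ l) ▸ hTm _) _ (hpT _)
  have hother : ∀ i : Fin 3, ∃ j l, i ≠ j ∧ i ≠ l ∧ j ≠ l := by decide
  have hκ : ∀ i, ∃ κ : F, frv fr (p i) = κ • p i := fun i => by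
    obtain ⟨j, l, hij, hil, hjl⟩ := hother i
    exact line s (hrp i j) (hrp i l) (h₁ := h j) (h₂ := h i) (h₁' := h l) (by simp [hph]) (by simp [hph, hjl])
      (by simp [hph, hij.symm]) (by simp [hph]) (by simp [hph, hij]) (by simp [hph]) (by simp [hph, hil.symm])
  choose κ hκ using hκ
  have hprod : ∀ i j, i ≠ j → κ i * κ j = 1 := fun i j hij =>
    mul_kappa s (hrp i j) (hκ i) (hκ j) (h₁ := h j) (h₂ := h i) (by simp [hph]) (by simp [hph, hij.symm])
      (by simp [hph])
  have hκ0 : ∀ i, κ i = κ 0 := by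
    intro i
    obtain ⟨l, hl0, hli⟩ : ∃ l : Fin 3, l ≠ 0 ∧ l ≠ i := by
      revert i; decide
    have e1 := hprod i l hli.symm
    have e2 := hprod 0 l hl0.symm
    exact mul_right_cancel₀ (fun h0 => by rw [h0, mul_zero] at e1; exact zero_ne_one e1) (e1.trans e2.symm)
  have hκsq : κ 0 * κ 0 = 1 := by
    have := hprod 0 1 (by decide)
    rwa [hκ0 1] at this
  set W := R.comap Λ with hW
  have hWfix : ∀ x ∈ W, frv fr x ∈ W := by
    intro x hx
    have h1 : (g : (ι → F) ≃ₗ[F] (ι → F)) (Λ x) = Λ x := hgR _ hx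
    have h2 : ∀ y, (g : (ι → F) ≃ₗ[F] (ι → F)) (Λ y) = ∑ k, y k • p k := fun y => by
      rw [hΛ, map_sum]
      simp [hp]
    have h3 : frv fr (Λ x) = κ 0 • (g : (ι → F) ≃ₗ[F] (ι → F)) (Λ (frv fr x)) := by
      conv_lhs => rw [← h1, h2, frv_sum]
      rw [h2, Finset.smul_sum]
      refine Finset.sum_congr rfl fun k _ => ?_
      rw [frv_smul, hκ, hκ0, smul_comm]
      rfl
    set y := Λ (frv fr x) with hy
    rw [← hΛfr, ← hy] at h3
    have h4 := hgT y (LinearMap.mem_range_self _ _)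
    have h5 : κ 0 • ((g : (ι → F) ≃ₗ[F] (ι → F)) y - ν⁻¹ • y) = (1 - κ 0 * ν⁻¹) • y := by
      rw [smul_sub, ← h3]
      module
    have h6 : (1 - κ 0 * ν⁻¹) ≠ 0 := fun h0 => hν (by
      have e : ν = κ 0 := by
        have := congrArg (· * ν) h0
        simp only [sub_mul, one_mul, mul_assoc, inv_mul_cancel₀ hν0, mul_one, zero_mul] at this
        exact sub_eq_zero.1 this
      rw [e]
      rcases mul_self_eq_one_iff.1 hκsq with h | h <;> rw [h]
      · exact one_mem _
      · exact neg_mem (one_mem _))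
    show y ∈ R
    exact (R.smul_mem_iff h6).1 (h5 ▸ R.smul_mem _ h4)
  -- dimensions
  have hW4 : 1 ≤ Module.finrank F W := by
    let f : (Fin 3 → F) →ₗ[F] F × F := ((polarBilin Q c).prod (polarBilin Q d)).comp Λ
    have hfW : LinearMap.ker f ≤ W := fun x hx => by
      have hx' : polar (⇑Q) c (Λ x) = 0 ∧ polar (⇑Q) d (Λ x) = 0 := Prod.ext_iff.1 hx
      exact mem_cut.2 ⟨mem_cut.2 ⟨LinearMap.mem_range_self _ _, hx'.1⟩, hx'.2⟩
    have h1 := LinearMap.finrank_range_add_finrank_ker f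
    have h2 := Submodule.finrank_le (LinearMap.range f)
    have h3 := Submodule.finrank_mono hfW
    rw [Module.finrank_fintype_fun_eq_card, Fintype.card_fin] at h1
    rw [Module.finrank_prod, Module.finrank_self] at h2
    omega
  refine hN1 ?_
  set bN := Module.finBasis F₀ N
  have hsub : W ≤ Submodule.span F (Set.range fun i => inc F₀ (bN i : Fin 3 → F₀)) := by
    intro x hx
    refine Submodule.span_le.2 ?_ (mem_span_fixed W hWfix hx)
    rintro y ⟨hyW, hyf⟩
    obtain ⟨a, rfl⟩ : ∃ a, inc F₀ a = y := ⟨fun i => ⟨y i, (s.fix _).2 (congrFun hyf i)⟩, rfl⟩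
    have haN : a ∈ N := ⟨(mem_cut.1 (mem_cut.1 hyW).1).2, (mem_cut.1 hyW).2⟩
    have e : ((∑ i, bN.repr ⟨a, haN⟩ i • bN i : N) : Fin 3 → F₀) = a := congrArg Subtype.val (bN.sum_repr ⟨a, haN⟩)
    rw [Submodule.coe_sum] at e
    show inc F₀ a ∈ Submodule.span F _
    rw [← e]
    have : ∀ S : Finset (Fin (Module.finrank F₀ N)),
        inc F₀ (∑ i ∈ S, ((bN.repr ⟨a, haN⟩ i • bN i : N) : Fin 3 → F₀)) ∈
          Submodule.span F (Set.range fun i => inc F₀ (bN i : Fin 3 → F₀)) := by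
      intro S
      induction S using Finset.induction with
      | empty => simp [inc_zero]
      | insert j S hj ih =>
        rw [Finset.sum_insert hj, inc_add, Submodule.coe_smul, inc_smul]
        exact add_mem (Submodule.smul_mem _ _ (Submodule.subset_span ⟨j, rfl⟩)) ih
    exact this _
  have h1 := Submodule.finrank_mono hsub
  have h2 : Module.finrank F (Submodule.span F (Set.range fun i => inc F₀ (bN i : Fin 3 → F₀))) ≤
      Fintype.card (Fin (Module.finrank F₀ N)) := finrank_range_le_card _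
  rw [Fintype.card_fin] at h2
  omega

/-- An isometry is rational up to a scalar. -/
def SemiRat (_s : Setup fr F₀ Q Q₀) (g : OQ Q) : Prop :=
  ∃ δ : F, δ ≠ 0 ∧ ∀ v i, (g : (ι → F) ≃ₗ[F] (ι → F)) (inc F₀ v) i / δ ∈ F₀

theorem le_of_not_semiRat (hK : HasRat s K) {g : OQ Q} (hg : g ∈ K) (hns : ¬ SemiRat s g) :
    eichGroup s.nondeg ≤ K := by
  by_contra hne
  apply hns
  have hn := s.dim
  obtain ⟨Z, H, hf⟩ := exists_frame s 3 le_rfl
  set G : (ι → F₀) → ι → F := fun v => (g : (ι → F) ≃ₗ[F] (ι → F)) (inc F₀ v) with hG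
  have hGadd : ∀ v w, G (v + w) = G v + G w := fun v w => by rw [hG]; simp only [inc_add, map_add]
  have hGsmul : ∀ (k : F₀) v, G (k • v) = (k : F) • G v := fun k v => by rw [hG]; simp only [inc_smul, map_smul]
  have hGpol : ∀ v w, polar (⇑Q) (G v) (G w) = ((polar (⇑Q₀) v w : F₀) : F) := fun v w => by
    rw [hG, OQ.map_polar, s.pval]
  have hGne : ∀ v, v ≠ 0 → G v ≠ 0 := fun v hv h => s.inc_ne_zero hv
    ((LinearEquiv.map_eq_zero_iff _).1 h)
  have hrat : ∀ v w, Q₀ v = 0 → Q₀ w = 0 → polar (⇑Q₀) v w = 0 → RatEl s (G v) (G w) := fun v w hv hw hvw =>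
    ratEl_of_has s hK hne (by rw [hG, OQ.map_apply, s.val_zero hv]) (by rw [hG, OQ.map_apply, s.val_zero hw])
      (by rw [hGpol, hvw, ZeroMemClass.coe_zero]) ((hK v w).conj s.nondeg hg)
  have hline : ∀ w, Q₀ w = 0 → w ≠ 0 → ∃ κ : F, κ * κ = 1 ∧ frv fr (G w) = κ • G w := by
    intro w hw hw0
    have hz0 : Z 0 ≠ 0 := fun h => by
      have := hf.zh 0 0
      simp [h] at this
    obtain ⟨t, -, htw⟩ := exists_move_singular s.nondeg₀ (by rw [Module.finrank_fintype_fun_eq_card]; omega)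
      (hf.qZ 0) hz0 hw hw0
    set Z' : Fin 3 → ι → F₀ := fun k => (t : (ι → F₀) ≃ₗ[F₀] (ι → F₀)) (Z k) with hZ'
    set H' : Fin 3 → ι → F₀ := fun k => (t : (ι → F₀) ≃ₗ[F₀] (ι → F₀)) (H k) with hH'
    have hd : ∀ i j, polar (⇑Q) (G (H' i)) (G (Z' j)) = if i = j then 1 else 0 := fun i j => by
      rw [hGpol, hZ', hH', OQ.map_polar, QuadraticMap.polar_comm, hf.zh]
      by_cases hij : i = j <;> simp [hij, Ne.symm]
    have hr : ∀ i j, RatEl s (G (Z' i)) (G (Z' j)) := fun i j => hrat _ _ (by rw [hZ', OQ.map_apply, hf.qZ])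
      (by rw [hZ', OQ.map_apply, hf.qZ]) (by rw [hZ', OQ.map_polar, hf.zz])
    have hk : ∀ i j l : Fin 3, i ≠ j → i ≠ l → j ≠ l → ∃ κ : F, frv fr (G (Z' i)) = κ • G (Z' i) :=
      fun i j l hij hil hjl =>
        line s (hr i j) (hr i l) (h₁ := G (H' j)) (h₂ := G (H' i)) (h₁' := G (H' l)) (by simp [hd])
          (by simp [hd, hjl]) (by simp [hd, hij.symm]) (by simp [hd]) (by simp [hd, hij]) (by simp [hd])
          (by simp [hd, hil.symm])
    obtain ⟨k0, e0⟩ := hk 0 1 2 (by decide) (by decide) (by decide)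
    obtain ⟨k1, e1⟩ := hk 1 0 2 (by decide) (by decide) (by decide)
    obtain ⟨k2, e2⟩ := hk 2 0 1 (by decide) (by decide) (by decide)
    have hp : ∀ i j, i ≠ j → ∀ {a b : F}, frv fr (G (Z' i)) = a • G (Z' i) → frv fr (G (Z' j)) = b • G (Z' j) →
        a * b = 1 := fun i j hij a b ea eb =>
      mul_kappa s (hr i j) ea eb (h₁ := G (H' j)) (h₂ := G (H' i)) (by simp [hd]) (by simp [hd, hij.symm])
        (by simp [hd])
    have p01 := hp 0 1 (by decide) e0 e1
    have p02 := hp 0 2 (by decide) e0 e2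
    have p12 := hp 1 2 (by decide) e1 e2
    refine ⟨k0, ?_, by rw [← htw]; exact e0⟩
    linear_combination k0 * k0 * (-p12) + (k0 * k2) * p01 + p02
  have hz0 : Z 0 ≠ 0 := fun h => by
    have := hf.zh 0 0
    simp [h] at this
  obtain ⟨κ, hκ2, hκ⟩ := hline (Z 0) (hf.qZ 0) hz0
  have hκ0 : κ ≠ 0 := fun h => by rw [h, mul_zero] at hκ2; exact zero_ne_one hκ2
  have hall : ∀ w, Q₀ w = 0 → frv fr (G w) = κ • G w := by
    intro w hw
    by_cases hw0 : w = 0
    · rw [hw0, hG]
      simp [inc_zero, frv_zero]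
    obtain ⟨μ, hμ2, hμ⟩ := hline w hw hw0
    suffices μ = κ by rw [hμ, this]
    by_cases hwz : polar (⇑Q₀) w (Z 0) = 0
    · by_cases hwz0 : w + Z 0 = 0
      · have e : w = (-1 : F₀) • Z 0 := by rw [neg_one_smul]; exact eq_neg_of_add_eq_zero_left hwz0
        have hμ' : μ • G w = κ • G w := by
          rw [← hμ, e, hGsmul, frv_smul, hκ, smul_comm, (s.fix _).1 (Subtype.coe_prop _)]
        exact smul_left_injective F (hGne w hw0) hμ'
      obtain ⟨ρ, hρ2, hρ⟩ := hline (w + Z 0) (by rw [apply_add, hw, hf.qZ, hwz]; ring) hwz0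
      rw [hGadd, frv_add, hμ, hκ] at hρ
      have h1 : (μ - ρ) • G w + (κ - ρ) • G (Z 0) = 0 := by
        rw [sub_smul, sub_smul]
        rw [smul_add] at hρ
        rw [← sub_eq_zero] at hρ
        convert hρ using 1
        abel
      by_cases hμρ : μ = ρ
      · rw [hμρ, sub_self, zero_smul, zero_add, smul_eq_zero, sub_eq_zero] at h1
        rw [hμρ, h1.resolve_right (hGne _ hz0)]
      · have hpm : ∀ {x : F}, x * x = 1 → fr x = x := fun {x} hx => by
          rcases mul_self_eq_one_iff.1 hx with h | h <;> simp [h]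
        have e : G w = (-(κ - ρ) / (μ - ρ)) • G (Z 0) := by
          rw [div_eq_inv_mul, mul_smul, eq_inv_smul_iff₀ (sub_ne_zero.2 hμρ), neg_smul]
          exact eq_neg_of_add_eq_zero_left h1
        have : μ • G w = κ • G w := by
          rw [← hμ, e, frv_smul, hκ, smul_comm, map_div₀, map_neg, map_sub, map_sub, hpm hκ2, hpm hρ2, hpm hμ2]
        exact smul_left_injective F (hGne w hw0) this
    · have h1 := s.comm_polar (G w) (G (Z 0))
      rw [hμ, hκ, polar_smul_left', polar_smul_right', hGpol, (s.fix _).1 (Subtype.coe_prop _)] at h1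
      have h2 : μ * κ = 1 := by
        have hne' : ((polar (⇑Q₀) w (Z 0) : F₀) : F) ≠ 0 := fun h => hwz (Subtype.ext h)
        refine mul_right_cancel₀ hne' ?_
        rw [one_mul]
        linear_combination h1
      linear_combination κ * h2 - μ * hκ2
  let S : Submodule F₀ (ι → F₀) :=
    { carrier := {v | frv fr (G v) = κ • G v}
      add_mem' := fun {a b} ha hb => by
        show frv fr (G (a + b)) = κ • G (a + b)
        rw [hGadd, frv_add, ha, hb, smul_add]
      zero_mem' := hall 0 (by simp)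
      smul_mem' := fun k a ha => by
        show frv fr (G (k • a)) = κ • G (k • a)
        rw [hGsmul, frv_smul, ha, (s.fix _).1 (Subtype.coe_prop _), smul_comm] }
  have hS : (⊤ : Submodule F₀ (ι → F₀)) ≤ S := QuadSim.le_of_singular s.nondeg₀
    (by rw [finrank_top, Module.finrank_fintype_fun_eq_card]; omega) fun x _ hx => hall x hx
  obtain ⟨i, hi⟩ := Function.ne_iff.1 (hGne _ hz0)
  refine ⟨G (Z 0) i, hi, fun v j => ?_⟩
  rw [s.fix, map_div₀]
  have e1 : fr (G (Z 0) i) = κ * G (Z 0) i := congrFun hκ i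
  have e2 : fr (G v j) = κ * G v j := congrFun (hS (Submodule.mem_top (x := v))) j
  show fr (G v j) / fr (G (Z 0) i) = G v j / G (Z 0) i
  rw [e1, e2, mul_div_mul_left _ _ hκ0]

/-- Some element of `Ω` is not rational up to a scalar. -/
theorem exists_not_semiRat : ∃ g ∈ eichGroup s.nondeg, ¬ SemiRat s g := by
  obtain ⟨Z, H, hf⟩ := exists_frame s 2 (by norm_num)
  obtain ⟨r, hr, hcard⟩ := s.deg
  obtain ⟨θ, hθ⟩ : ∃ θ : F, θ ∉ F₀ := by
    by_contra! hc
    have h1 : Nat.card F ≤ Nat.card F₀ := Nat.card_le_card_of_injective (fun x => (⟨x, hc x⟩ : F₀)) fun a b h =>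
      congrArg Subtype.val h
    rw [hcard] at h1
    have := Nat.pow_lt_pow_right (show 1 < Nat.card F₀ from Finite.one_lt_card) hr.one_lt
    rw [pow_one] at this
    omega
  have hz : polar (⇑Q) (inc F₀ (Z 0)) (θ • inc F₀ (Z 1)) = 0 := by
    rw [polar_smul_right', s.pval_zero (hf.zz 0 1), mul_zero]
  refine ⟨eich s.nondeg (s.val_zero (hf.qZ 0)) hz, eich_mem_of_singular s.nondeg _ _
    (by rw [apply_smul, s.val_zero (hf.qZ 1), mul_zero]), ?_⟩
  rintro ⟨δ, hδ, h⟩
  have hz0 : inc F₀ (Z 0) ≠ 0 := s.inc_ne_zero fun h => by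
    have := hf.zh 0 0
    simp [h] at this
  obtain ⟨i, hi⟩ := Function.ne_iff.1 hz0
  have h1 := h (Z 0) i
  rw [eich_apply, polar_smul_right', s.pval_zero (hf.zz 0 1), polar_self', s.val_zero (hf.qZ 0)] at h1
  simp only [mul_zero, zero_sub, neg_zero, zero_smul, add_zero, sub_zero] at h1
  have hδ₀ : δ ∈ F₀ := by
    have := div_mem (show inc F₀ (Z 0) i ∈ F₀ from SetLike.coe_mem _) h1
    rwa [div_div_cancel₀ hi] at this
  have h2 := h (H 1) i
  rw [eich_apply, polar_smul_right', apply_smul, s.val_zero (hf.qZ 1),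
    QuadraticMap.polar_comm _ (inc F₀ (H 1)) (inc F₀ (Z 1)), s.pval_one (show polar (⇑Q₀) (Z 1) (H 1) = 1 by rw [hf.zh]; simp),
    QuadraticMap.polar_comm _ (inc F₀ (H 1)) (inc F₀ (Z 0)),
    s.pval_zero (show polar (⇑Q₀) (Z 0) (H 1) = 0 by rw [hf.zh]; simp)] at h2
  simp only [mul_zero, sub_zero, mul_one, neg_zero, zero_smul, add_zero, Pi.add_apply, Pi.smul_apply, smul_eq_mul, Pi.zero_apply] at h2
  have h3 := mul_mem h2 hδ₀
  rw [div_mul_cancel₀ _ hδ] at h3
  have h4 := sub_mem h3 (show inc F₀ (H 1) i ∈ F₀ from SetLike.coe_mem _)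
  rw [add_sub_cancel_left] at h4
  have := div_mem h4 (show inc F₀ (Z 0) i ∈ F₀ from SetLike.coe_mem _)
  rw [mul_div_cancel_right₀ _ hi] at this
  exact hθ this

end CfsgLib.Geo.OrthSub
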