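/-
Orthogonal subfield subgroups as matrix groups.
-/
import Cfsg.Agent.Lib.Geo.OrthSubfieldMax

set_option autoImplicit false

namespace CfsgLib.Geo.OrthSub

open Matrix CfsgLib.Classical CfsgLib.Classical.Quad CfsgLib.Geo.OrthMax CfsgLib.Geo.QuadSim
open QuadraticMap (polar polarBilin)

theorem exists_fr {F : Type*} [Field F] [Finite F] (F₀ : Subfield F) : ∃ fr : F →+* F, ∀ c, c ∈ F₀ ↔ fr c = c := by
  classical
  haveI : Fintype F₀ := Fintype.ofFinite F₀
  obtain ⟨p, hp⟩ := CharP.exists F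
  have : Fact p.Prime := ⟨CharP.char_is_prime F p⟩
  have : CharP F₀ p := F₀.subtype.charP Subtype.val_injective p
  obtain ⟨k, -, hk⟩ := FiniteField.card F₀ p
  refine ⟨iterateFrobenius F p k, fun c => ?_⟩
  rw [iterateFrobenius_def, ← hk]
  have hsub : ∀ z ∈ F₀, z ^ Fintype.card F₀ = z := fun z hz => congrArg Subtype.val (FiniteField.pow_card (⟨z, hz⟩ : F₀))
  refine ⟨hsub c, fun hc => ?_⟩
  have h1 : 1 < Fintype.card F₀ := Fintype.one_lt_card
  set P : Polynomial F := Polynomial.X ^ Fintype.card F₀ - Polynomial.X with hP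
  have hne : P ≠ 0 := FiniteField.X_pow_card_sub_X_ne_zero F h1
  have hdeg : P.natDegree = Fintype.card F₀ := FiniteField.X_pow_card_sub_X_natDegree_eq F h1
  set A : Finset F := (Finset.univ : Finset F₀).image Subtype.val with hA
  by_contra hcA
  have hsub' : insert c A ⊆ P.roots.toFinset := by
    intro z hz
    rw [Multiset.mem_toFinset, Polynomial.mem_roots hne, Polynomial.IsRoot.def, hP, Polynomial.eval_sub,
      Polynomial.eval_pow, Polynomial.eval_X, sub_eq_zero]
    rcases Finset.mem_insert.1 hz with rfl | hz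
    · exact hc
    · obtain ⟨z', -, rfl⟩ := Finset.mem_image.1 hz
      exact hsub _ z'.2
  have h2 := (Finset.card_le_card hsub').trans (P.roots.toFinset_card_le.trans (Polynomial.card_roots' P))
  rw [hdeg, Finset.card_insert_of_notMem, hA, Finset.card_image_of_injective _ Subtype.val_injective,
    Finset.card_univ] at h2
  · omega
  · intro h
    obtain ⟨z, -, rfl⟩ := Finset.mem_image.1 h
    exact hcA z.2

variable {ι : Type} [Fintype ι] [DecidableEq ι] {F : Type*} [Field F]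

/-- Maximality in coordinates adapted to the subfield. -/
theorem isMaximalIn_standard [Fintype F] [Nonempty ι] {Q : QuadraticForm F (ι → F)}
    (hQ : (polarBilin Q).Nondegenerate) (hn : 7 ≤ Fintype.card ι) (F₀ : Subfield F) {r : ℕ} (hr : r.Prime)
    (hcard : Fintype.card F = Nat.card F₀ ^ r) (hval : ∀ u : ι → F, (∀ i, u i ∈ F₀) → Q u ∈ F₀) :
    Cfsg.Geo.IsMaximalIn (Cfsg.Geo.omegaGL (⇑Q)) (Cfsg.Geo.subfieldSubgroup F₀ 1 ⊓ Cfsg.Geo.omegaGL (⇑Q)) := by
  classical
  obtain ⟨fr, hfix⟩ := exists_fr F₀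
  have hv : ∀ c : ι → F₀, Q (inc F₀ c) ∈ F₀ := fun c => hval _ fun i => (c i).2
  let f : (ι → F₀) → F₀ := fun c => ⟨Q (inc F₀ c), hv c⟩
  have hf : ∀ x y, ((polar f x y : F₀) : F) = polar (⇑Q) (inc F₀ x) (inc F₀ y) := fun x y => by
    simp only [polar, f, Subfield.coe_sub, inc_add]
  let Q₀ : QuadraticForm F₀ (ι → F₀) := QuadraticMap.ofPolar f
    (fun a x => Subtype.ext (by simp only [f, inc_smul, apply_smul, smul_eq_mul, Subfield.coe_mul]))
    (fun x x' y => Subtype.ext (by rw [Subfield.coe_add, hf, hf, hf, inc_add, polar_add_left']))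
    (fun a x y => Subtype.ext (by rw [smul_eq_mul, Subfield.coe_mul, hf, hf, inc_smul, polar_smul_left']))
  have hQ₀ : ∀ c, ((Q₀ c : F₀) : F) = Q (inc F₀ c) := fun c => rfl
  have hlin : ∀ x : ι → F, x = ∑ i, x i • inc F₀ (Pi.single i (1 : F₀)) := fun x => by
    simp only [inc_single]
    exact pi_eq_sum_univ' x
  have hnd₀ : (polarBilin Q₀).Nondegenerate := by
    refine nondegenerate_of_left fun x hx => inc_injective (F₀ := F₀) ?_
    rw [inc_zero]
    refine hQ.1 _ fun z => ?_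
    rw [hlin z, map_sum]
    refine Finset.sum_eq_zero fun i _ => ?_
    rw [map_smul, QuadraticMap.polarBilin_apply_apply, ← hf]
    rw [show polar f x (Pi.single i 1) = 0 from hx (Pi.single i 1), ZeroMemClass.coe_zero, smul_zero]
  have hsum : ∀ (S : Finset ι) (u : ι → F) (v : ι → ι → F),
      polar (⇑Q) u (∑ i ∈ S, v i) = ∑ i ∈ S, polar (⇑Q) u (v i) := fun S u v => map_sum (polarBilin Q u) v S
  have hcomm : ∀ x, Q (frv fr x) = fr (Q x) := by
    have key : ∀ (S : Finset ι) (x : ι → F), Q (∑ i ∈ S, fr (x i) • inc F₀ (Pi.single i (1 : F₀))) =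
        fr (Q (∑ i ∈ S, x i • inc F₀ (Pi.single i (1 : F₀)))) := by
      intro S
      induction S using Finset.induction with
      | empty => simp
      | insert j S hj ih =>
        intro x
        rw [Finset.sum_insert hj, Finset.sum_insert hj, apply_add, apply_add, ih x, apply_smul, apply_smul,
          map_add, map_add, map_mul, map_mul, (hfix _).1 (hv _), hsum, hsum, map_sum fr]
        congr 1
        refine Finset.sum_congr rfl fun i _ => ?_
        simp only [polar_smul_left', polar_smul_right', map_mul]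
        rw [← hf, (hfix _).1 (SetLike.coe_mem _)]
    intro x
    conv_lhs => rw [hlin (frv fr x)]
    conv_rhs => rw [hlin x]
    exact key _ x
  have s : Setup fr F₀ Q Q₀ := ⟨hfix, hcomm, fun c => (hQ₀ c).symm, hQ, hnd₀, hn, r, hr,
    by rw [Nat.card_eq_fintype_card, hcard]⟩
  have hn' : 5 ≤ Module.finrank F (ι → F) := by rw [Module.finrank_fintype_fun_eq_card]; omega
  let e := oEquiv Q
  have hΩ : ∀ g : Cfsg.isometryGroup F (⇑Q),
      (g : Matrix.GeneralLinearGroup ι F) ∈ Cfsg.Geo.omegaGL (⇑Q) ↔ e g ∈ eichGroup hQ := by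
    intro g
    have hmap : (commutator ↥(Cfsg.isometryGroup F (⇑Q))).map e.toMonoidHom = commutator (OQ Q) := by
      rw [commutator_def, commutator_def, Subgroup.map_commutator,
        Subgroup.map_top_of_surjective _ e.surjective]
    rw [eichGroup_eq_commutator hQ hn', ← hmap, Subgroup.mem_map_equiv, MulEquiv.symm_apply_apply]
    exact ⟨fun ⟨g', hg', hgg⟩ => by rw [← Subtype.ext hgg]; exact hg', fun h => ⟨g, h, rfl⟩⟩
  have hmem : ∀ x, x ∈ Cfsg.Geo.omegaGL (⇑Q) → x ∈ Cfsg.isometryGroup F (⇑Q) := by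
    rintro _ ⟨g, -, rfl⟩
    exact g.2
  have hent : ∀ (g : Cfsg.isometryGroup F (⇑Q)) (i j : ι),
      ((g : Matrix.GeneralLinearGroup ι F) : Matrix ι ι F) i j =
        (e g : (ι → F) ≃ₗ[F] (ι → F)) (inc F₀ (Pi.single j 1)) i := fun g i j => by
    rw [oEquiv_apply, inc_single, Matrix.mulVec_single_one]
    rfl
  have hin : ∀ g : Cfsg.isometryGroup F (⇑Q),
      (g : Matrix.GeneralLinearGroup ι F) ∈ Cfsg.Geo.subfieldSubgroup F₀ 1 ↔ SemiRat s (e g) := by
    intro g
    constructor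
    · rintro ⟨h, hh, hhg⟩
      obtain ⟨_, ⟨A, rfl⟩, c, hc, rfl⟩ := Subgroup.mem_sup_of_normal_right.1 hh
      obtain ⟨d, hd⟩ := (Cfsg.Geo.mem_scalars_iff c).1 hc
      refine ⟨d, d.ne_zero, fun v i => ?_⟩
      have hg' : ((g : Matrix.GeneralLinearGroup ι F) : Matrix ι ι F) =
          (d : F) • (A : Matrix ι ι F₀).map F₀.subtype := by
        rw [← hhg]
        simp only [MulEquiv.toMonoidHom_eq_coe, MonoidHom.coe_coe, MulAut.conj_apply, one_mul, inv_one, mul_one,
          Units.val_mul, hd, Matrix.mul_smul, Matrix.mul_one]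
        rfl
      rw [oEquiv_apply, hg', Matrix.smul_mulVec, Pi.smul_apply, smul_eq_mul,
        mul_div_cancel_left₀ _ d.ne_zero]
      exact sum_mem fun j _ => mul_mem (SetLike.coe_mem _) (v j).2
    · rintro ⟨δ, hδ, hg⟩
      refine SympSubfield.mem_subfieldSubgroup_of_conj hδ fun i j => ?_
      simp only [inv_one, one_mul, mul_one]
      rw [hent]
      exact hg _ i
  have hsing : ∀ (x : OQ Q), x ∈ eichGroup hQ → ∃ g, e g = x ∧ (g : Matrix.GeneralLinearGroup ι F) ∈
      Cfsg.Geo.omegaGL (⇑Q) := fun x hx => ⟨e.symm x, e.apply_symm_apply x,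
    (hΩ _).2 (by rwa [e.apply_symm_apply])⟩
  refine ⟨lt_of_le_of_ne inf_le_right fun he => ?_, fun M hM hMS => ?_⟩
  · obtain ⟨x, hx, hns⟩ := exists_not_semiRat s
    obtain ⟨g, rfl, hg⟩ := hsing x hx
    exact hns ((hin g).1 (he.ge hg).1)
  refine (eq_or_lt_of_le hM).imp Eq.symm fun hlt => le_antisymm hMS ?_
  obtain ⟨g₀, hgM, hgn⟩ := SetLike.exists_of_lt hlt
  set K := (M.subgroupOf (Cfsg.isometryGroup F (⇑Q))).map e.toMonoidHom
  have hmK : ∀ g : Cfsg.isometryGroup F (⇑Q), e g ∈ K ↔ (g : Matrix.GeneralLinearGroup ι F) ∈ M :=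
    fun g => by
      rw [Subgroup.mem_map_equiv, MulEquiv.symm_apply_apply, Subgroup.mem_subgroupOf]
  have hK : HasRat s K := by
    intro w a hw ha
    obtain ⟨g, hge, hg⟩ := hsing _ (eich_mem hQ hn' hw ha)
    rw [← hge]
    refine (hmK g).2 (hM ⟨(hin g).2 ⟨1, one_ne_zero, fun v i => ?_⟩, hg⟩)
    rw [hge, eich_apply, div_one, s.pval, s.pval, s.val, Pi.add_apply, Pi.add_apply, Pi.smul_apply, Pi.smul_apply,
      smul_eq_mul, smul_eq_mul]
    exact add_mem (add_mem (SetLike.coe_mem _) (mul_mem (sub_mem (SetLike.coe_mem _)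
      (mul_mem (SetLike.coe_mem _) (SetLike.coe_mem _))) (SetLike.coe_mem _)))
      (mul_mem (neg_mem (SetLike.coe_mem _)) (SetLike.coe_mem _))
  set g : Cfsg.isometryGroup F (⇑Q) := ⟨g₀, hmem _ (hMS hgM)⟩
  have htop := le_of_not_semiRat s hK (g := e g) ((hmK g).2 hgM)
    fun h => hgn ⟨(hin g).2 h, hMS hgM⟩
  intro x hx
  exact (hmK ⟨x, hmem x hx⟩).1 (htop ((hΩ ⟨x, _⟩).1 hx))

/-! ### Change of coordinates -/

theorem omegaGL_eq (f : (ι → F) → F) :
    Cfsg.Geo.omegaGL f = ⁅Cfsg.isometryGroup F f, Cfsg.isometryGroup F f⁆ := by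
  show (commutator _).map _ = _
  rw [commutator_def, Subgroup.map_commutator, ← MonoidHom.range_eq_map, Subgroup.range_subtype]

theorem isometryGroup_scale {f g : (ι → F) → F} {ζ : F} (hζ : ζ ≠ 0) (h : ∀ x, g x = ζ * f x) :
    Cfsg.isometryGroup F g = Cfsg.isometryGroup F f := by
  ext a
  refine forall_congr' fun u => forall_congr' fun v => ?_
  show g _ = g _ ↔ f _ = f _
  rw [h, h, mul_right_inj' hζ]

theorem isometryGroup_conj {f g : (ι → F) → F} (P : Matrix.GeneralLinearGroup ι F)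
    (h : ∀ x, g x = f ((P : Matrix ι ι F) *ᵥ x)) :
    (Cfsg.isometryGroup F g).map (MulAut.conj P).toMonoidHom = Cfsg.isometryGroup F f := by
  ext a
  rw [Subgroup.mem_map_equiv]
  show (∀ u v : ι → F, _) ↔ (∀ u v : ι → F, _)
  simp only [MulAut.conj_symm_apply, Units.coeHom_apply, Units.val_mul, ← Matrix.mulVec_mulVec, h]
  have hPP : ∀ y, (P : Matrix ι ι F) *ᵥ (((P⁻¹ : Matrix.GeneralLinearGroup ι F) : Matrix ι ι F) *ᵥ y) = y :=
    fun y => by rw [Matrix.mulVec_mulVec, Units.mul_inv, Matrix.one_mulVec]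
  constructor
  · intro H u v
    have := H (((P⁻¹ : Matrix.GeneralLinearGroup ι F) : Matrix ι ι F) *ᵥ u) (((P⁻¹ : Matrix.GeneralLinearGroup ι F) : Matrix ι ι F) *ᵥ v)
    simpa only [hPP] using this
  · intro H u v
    rw [hPP]
    exact H _ ((P : Matrix ι ι F) *ᵥ v)

theorem subfieldSubgroup_conj (F₀ : Subfield F) (P : Matrix.GeneralLinearGroup ι F) :
    (Cfsg.Geo.subfieldSubgroup F₀ 1).map (MulAut.conj P).toMonoidHom = Cfsg.Geo.subfieldSubgroup F₀ P := by
  rw [Cfsg.Geo.subfieldSubgroup, Cfsg.Geo.subfieldSubgroup, Subgroup.map_map]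
  congr 1
  ext x
  simp

theorem isMaximalIn_map {G G' : Type*} [Group G] [Group G'] (e : G ≃* G') {K H : Subgroup G}
    (h : Cfsg.Geo.IsMaximalIn K H) :
    Cfsg.Geo.IsMaximalIn (K.map e.toMonoidHom) (H.map e.toMonoidHom) := by
  have hinj := Subgroup.map_injective (f := e.toMonoidHom) e.injective
  refine ⟨lt_of_le_of_ne (Subgroup.map_mono h.1.le) fun he => h.1.ne (hinj he), fun M hM hMK => ?_⟩
  have hMc : M = (M.comap e.toMonoidHom).map e.toMonoidHom :=
    (Subgroup.map_comap_eq_self_of_surjective e.surjective M).symm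
  rcases h.2 (M.comap e.toMonoidHom) (Subgroup.map_le_iff_le_comap.1 hM)
    (fun x hx => by
      obtain ⟨y, hy, hye⟩ := hMK hx
      rwa [← e.injective hye]) with h' | h'
  · exact Or.inl (by rw [hMc, h'])
  · exact Or.inr (by rw [hMc, h'])

/-- Orthogonal subfield groups are maximal. -/
theorem isMaximalIn_subfield [Fintype F] [Nonempty ι] {Qf : QuadraticForm F (ι → F)}
    (hQ : (polarBilin Qf).Nondegenerate) (hn : 7 ≤ Fintype.card ι) (F₀ : Subfield F) {r : ℕ} (hr : r.Prime)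
    (hcard : Fintype.card F = Nat.card F₀ ^ r) (P : Matrix.GeneralLinearGroup ι F) {ζ : F} (hζ : ζ ≠ 0)
    (hP : Cfsg.Geo.IsQuadFormRationalStructure (fun v => ζ * Qf v) F₀ P) :
    Cfsg.Geo.IsMaximalIn (Cfsg.Geo.omegaGL (⇑Qf)) (Cfsg.Geo.subfieldSubgroup F₀ P ⊓ Cfsg.Geo.omegaGL (⇑Qf)) := by
  set Q : QuadraticForm F (ι → F) := ζ • Qf.comp (Matrix.toLin' (P : Matrix ι ι F)) with hQdef
  have hval : ∀ x, Q x = ζ * Qf ((P : Matrix ι ι F) *ᵥ x) := fun x => by simp [hQdef]
  have hnd : (polarBilin Q).Nondegenerate := by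
    refine nondegenerate_of_left fun x hx => ?_
    have h0 : (P : Matrix ι ι F) *ᵥ x = 0 := hQ.1 _ fun z => by
      have h2 := hx (((P⁻¹ : Matrix.GeneralLinearGroup ι F) : Matrix ι ι F) *ᵥ z)
      rw [QuadraticMap.polarBilin_apply_apply]
      change polar (⇑Q) x _ = 0 at h2
      simp only [polar, hval, Matrix.mulVec_add, Matrix.mulVec_mulVec, Units.mul_inv, Matrix.one_mulVec,
        ← mul_sub] at h2 ⊢
      exact (mul_eq_zero.1 h2).resolve_left hζ
    have := congrArg (((P⁻¹ : Matrix.GeneralLinearGroup ι F) : Matrix ι ι F) *ᵥ ·) h0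
    simpa [Matrix.mulVec_mulVec] using this
  have hΩ : (Cfsg.Geo.omegaGL (⇑Q)).map (MulAut.conj P).toMonoidHom = Cfsg.Geo.omegaGL (⇑Qf) := by
    rw [omegaGL_eq, omegaGL_eq, Subgroup.map_commutator,
      isometryGroup_scale (f := fun x => Qf ((P : Matrix ι ι F) *ᵥ x)) hζ hval,
      isometryGroup_conj (f := ⇑Qf) P fun x => rfl]
  have h := isMaximalIn_map (MulAut.conj P)
    (isMaximalIn_standard hnd hn F₀ hr hcard fun u hu => by rw [hval]; exact hP u hu)
  rw [Subgroup.map_inf _ _ _ (MulAut.conj P).injective, hΩ, subfieldSubgroup_conj] at h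
  exact h

end CfsgLib.Geo.OrthSub
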