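/-
Stabilisers of totally isotropic and of nondegenerate subspaces are maximal in the special unitary groups.
-/
import Cfsg.Agent.Lib.Classical.Unitary.MatrixStructure
import Cfsg.Prelude.Def_GeometricClasses

set_option autoImplicit false

namespace CfsgLib.Geo.UnitMax

open CfsgLib.Classical CfsgLib.Classical.Herm

variable {F : Type*} [Field F] {V : Type*} [AddCommGroup V] [Module F V] {σ : F →+* F}
  {B : V →ₛₗ[σ] V →ₗ[F] F}

/-- The stabiliser of a subspace in the special unitary group. -/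
noncomputable abbrev stab (B : V →ₛₗ[σ] V →ₗ[F] F) (W : Submodule F V) : Subgroup (HU B) :=
  isoStab (fun u v => B u v) W ⊓ HSU B

/-- All transvections with centre `v` lie in `K`. -/
def HasTr [FiniteDimensional F V] (h : IsHerm B) (K : Subgroup (HU B)) (v : V) : Prop :=
  ∀ (hv : B v v = 0) (c : F) (hc : c + σ c = 0), h.tr hv hc ∈ K

variable (h : IsHerm B)
include h

/-- The map with `u ↦ σ a⁻¹ u`, `f ↦ a f` fixing the orthogonal complement of a hyperbolic pair. -/
theorem exists_dil [FiniteDimensional F V] {u f : V} (huu : B u u = 0) (hff : B f f = 0)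
    (huf : B u f = 1) {a : F} (ha : a ≠ 0) :
    ∃ g : HU B, ((HU.det B g : Fˣ) : F) = a / σ a ∧ ∀ y,
      (g : V ≃ₗ[F] V) y = y + ((a - 1) * B f y) • u + (((σ a)⁻¹ - 1) * B u y) • f := by
  have hfu : B f u = 1 := by rw [← h.symm, huf, map_one]
  have hsa : σ a ≠ 0 := fun h0 => ha (IsInvol.apply_eq_zero_iff.1 h0)
  let D : V →ₗ[F] V := LinearMap.transvection ((a - 1) • B f) u ∘ₗ
    LinearMap.transvection (((σ a)⁻¹ - 1) • B u) f
  have hD : ∀ y, D y = y + ((a - 1) * B f y) • u + (((σ a)⁻¹ - 1) * B u y) • f := fun y => by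
    simp only [D, LinearMap.comp_apply, LinearMap.transvection.apply, LinearMap.smul_apply,
      smul_eq_mul, map_add, map_smul, hff]
    match_scalars <;> ring
  have hpres : ∀ y z, B (D y) (D z) = B y z := fun y z => by
    simp only [hD, map_add, LinearMap.add_apply, smul_left, smul_right, huu, hff, huf, hfu,
      map_sub, map_mul, map_inv₀, map_one, h.invol.invol, h.symm]
    field_simp
    ring
  refine ⟨h.ofPreserves D hpres, ?_, fun y => ?_⟩
  · show ((LinearEquiv.det (h.ofPreserves D hpres : V ≃ₗ[F] V) : Fˣ) : F) = _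
    rw [LinearEquiv.coe_det, IsHerm.coe_ofPreserves, LinearMap.det_comp, LinearMap.transvection.det,
      LinearMap.transvection.det, LinearMap.smul_apply, LinearMap.smul_apply, smul_eq_mul,
      smul_eq_mul, hfu, huf]
    field_simp
    ring
  · show ((h.ofPreserves D hpres : V ≃ₗ[F] V) : V →ₗ[F] V) y = _
    rw [IsHerm.coe_ofPreserves, hD]

omit h in
theorem mem_isoStab_of_maps [FiniteDimensional F V] {W : Submodule F V} {g : HU B}
    (hg : ∀ x ∈ W, (g : V ≃ₗ[F] V) x ∈ W) : g ∈ isoStab (fun u v => B u v) W := by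
  intro x
  refine ⟨hg x, fun hx => ?_⟩
  obtain ⟨⟨w, hw⟩, hw'⟩ := LinearMap.injective_iff_surjective.1
    (show Function.Injective (((g : V ≃ₗ[F] V) : V →ₗ[F] V).restrict hg) from fun a b hab =>
      Subtype.ext ((g : V ≃ₗ[F] V).injective (congrArg Subtype.val hab))) ⟨_, hx⟩
  rwa [← (g : V ≃ₗ[F] V).injective (congrArg Subtype.val hw')]

theorem orth_orth [Finite F] [FiniteDimensional F V] {W : Submodule F V}
    (hW : ∀ x ∈ W, (∀ y ∈ W, B x y = 0) → x = 0) {x : V} (hx : ∀ y ∈ h.orth W, B y x = 0) :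
    x ∈ W := by
  obtain ⟨a, b, ha, hb, rfl⟩ :=
    Submodule.codisjoint_iff_exists_add_eq.1 (h.isCompl_orth hW).codisjoint x
  have : b = 0 := h.orth_nondeg hW b hb fun y hy => h.eq_zero_symm (by
    have e := hx y hy
    rwa [map_add, h.eq_zero_symm (h.mem_orth.1 hy a ha), zero_add] at e)
  rw [this, add_zero]
  exact ha

theorem mem_stab_of_orth [Finite F] [FiniteDimensional F V] {W : Submodule F V}
    (hW : ∀ x ∈ W, (∀ y ∈ W, B x y = 0) → x = 0) {g : HU B}
    (hg : ∀ u ∈ h.orth W, (g : V ≃ₗ[F] V) u ∈ h.orth W) : g ∈ isoStab (fun u v => B u v) W := by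
  refine mem_isoStab_of_maps fun w hw => orth_orth h hW fun y hy => ?_
  obtain ⟨x, rfl⟩ := (g : V ≃ₗ[F] V).surjective y
  have hx : x ∈ h.orth W := (mem_isoStab_of_maps (g := g) hg x).2 hy
  rw [HU.map_eq]
  exact h.eq_zero_symm (h.mem_orth.1 hx w hw)

section
variable [FiniteDimensional F V]

theorem tr_mem_stab {W : Submodule F V} {v : V} (hv : v ∈ W ∨ v ∈ h.orth W) (hvv : B v v = 0)
    {c : F} (hc : c + σ c = 0) : h.tr hvv hc ∈ stab B W := by
  refine ⟨mem_isoStab_of_maps fun x hx => ?_, h.det_tr hvv hc⟩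
  rw [h.tr_apply]
  rcases hv with hv | hv
  · exact W.add_mem hx (W.smul_mem _ hv)
  · rw [h.eq_zero_symm (h.mem_orth.1 hv x hx), mul_zero, zero_smul, add_zero]
    exact hx

theorem hasTr_stab {W : Submodule F V} {K : Subgroup (HU B)} (hK : stab B W ≤ K) {v : V}
    (hv : v ∈ W ∨ v ∈ h.orth W) : HasTr h K v :=
  fun hvv _ hc => hK (tr_mem_stab h hv hvv hc)

theorem HasTr.conj {K : Subgroup (HU B)} {v : V} (hv : HasTr h K v) {g : HU B} (hg : g ∈ K) :
    HasTr h K ((g : V ≃ₗ[F] V) v) := by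
  intro hgv c hc
  have hvv : B v v = 0 := (HU.map_eq g v v).symm.trans hgv
  have := h.conj_tr hvv hc g
  rw [show h.tr hgv hc = g * h.tr hvv hc * g⁻¹ from this.symm]
  exact K.mul_mem (K.mul_mem hg (hv hvv c hc)) (K.inv_mem hg)

theorem HasTr.of_smul {K : Subgroup (HU B)} {v : V} {a : F} (ha : a ≠ 0)
    (hv : HasTr h K (a • v)) : HasTr h K v := by
  intro hvv c hc
  have hsa : σ a ≠ 0 := fun h0 => ha (IsInvol.apply_eq_zero_iff.1 h0)
  have hc' : c / (a * σ a) + σ (c / (a * σ a)) = 0 := by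
    rw [map_div₀, map_mul, h.invol.invol, mul_comm (σ a) a, ← add_div, hc, zero_div]
  have hvv' : B (a • v) (a • v) = 0 := by rw [IsHerm.smul_self, hvv, mul_zero]
  have heq : h.tr hvv hc = h.tr hvv' hc' := by
    ext y
    rw [h.tr_apply, h.tr_apply, smul_left, smul_smul]
    congr 2
    field_simp
  rw [heq]
  exact hv hvv' _ hc'

theorem le_of_hasTr [Finite F] (h4 : 4 ≤ Module.finrank F V) {K : Subgroup (HU B)}
    (hK : ∀ v, HasTr h K v) : HSU B ≤ K := by
  rw [← h.trGroup_eq (by omega) (fun e => absurd e (by omega))]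
  refine (Subgroup.closure_le K).2 ?_
  rintro _ ⟨v, hv, c, hc, rfl⟩
  exact hK v hv c hc

/-! ### Totally isotropic subspaces -/

theorem exists_isotropic_moved [Finite F] {W : Submodule F V} (hW : ∀ u ∈ W, ∀ v ∈ W, B u v = 0)
    (hWW : ∀ x, (∀ y ∈ h.orth W, B y x = 0) → x ∈ W)
    {g : HU B} (hg : g ∉ isoStab (fun u v => B u v) W) :
    ∃ u ∈ h.orth W, B u u = 0 ∧ (g : V ≃ₗ[F] V) u ∉ h.orth W := by
  have : Finite V := Module.finite_of_finite F
  by_contra! hall
  refine hg (mem_isoStab_of_maps fun w hw => ?_)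
  have hwo : w ∈ h.orth W := h.mem_orth.2 fun u hu => hW u hu w hw
  by_contra hgw
  obtain ⟨y, hy, hgy⟩ : ∃ y ∈ h.orth W, B ((g : V ≃ₗ[F] V) w) y ≠ 0 := by
    by_contra! hc
    exact hgw (hWW _ fun y hy => h.eq_zero_symm (hc y hy))
  set z := (g : V ≃ₗ[F] V) w
  have hzo : z ∈ h.orth W := hall w hwo (hW w hw w hw)
  have hzz : B z z = 0 := (HU.map_eq g w w).trans (hW w hw w hw)
  obtain ⟨f, hf, hzf⟩ : ∃ f ∈ h.orth W, B z f = 1 :=
    ⟨(B z y)⁻¹ • y, Submodule.smul_mem _ _ hy, by rw [smul_right, inv_mul_cancel₀ hgy]⟩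
  have hfz : B f z = 1 := by rw [← h.symm, hzf, map_one]
  obtain ⟨t, ht⟩ := h.invol.exists_trace_eq (μ := -B f f) (by rw [map_neg, h.self_fixed])
  let y' : {x // x ∈ h.orth W ∧ B x x = 0} := ⟨f + t • z, Submodule.add_mem _ hf (Submodule.smul_mem _ _ hzo), by
    simp only [map_add, LinearMap.add_apply, smul_left, smul_right, hzz, hzf, hfz]
    linear_combination ht⟩
  let φ : {x // x ∈ h.orth W ∧ B x x = 0} → {x // x ∈ h.orth W ∧ B x x = 0} :=
    fun x => ⟨(g : V ≃ₗ[F] V) x.1, hall x.1 x.2.1 x.2.2, (HU.map_eq g _ _).trans x.2.2⟩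
  have hφ : Function.Injective φ := fun a b hab =>
    Subtype.ext ((g : V ≃ₗ[F] V).injective (congrArg Subtype.val hab))
  obtain ⟨⟨x, hxp⟩, hxy⟩ := Finite.surjective_of_injective hφ y'
  have hx := hxp.1
  have e : (g : V ≃ₗ[F] V) x = f + t • z := congrArg Subtype.val hxy
  have h1 : B z (f + t • z) = 0 := by
    rw [← e, HU.map_eq]
    exact h.mem_orth.1 hx w hw
  rw [map_add, smul_right, hzz, mul_zero, add_zero, hzf] at h1
  exact one_ne_zero h1

theorem transitive_outside [Finite F] {W : Submodule F V}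
    (hW : ∀ u ∈ W, ∀ v ∈ W, B u v = 0) {v v' : V} (hvv : B v v = 0) (hvv' : B v' v' = 0)
    (hv : v ∉ h.orth W) (hv' : v' ∉ h.orth W) :
    ∃ g ∈ stab B W, ∃ a : F, a ≠ 0 ∧ (g : V ≃ₗ[F] V) v = a • v' := by
  classical
  let φ : Module.Dual F W := (B v).comp W.subtype
  let φ' : Module.Dual F W := (B v').comp W.subtype
  have hne : ∀ a, a ∉ h.orth W → ∃ w : W, B a w = 1 := by
    intro a ha
    obtain ⟨w, hw, haw⟩ : ∃ w ∈ W, B a w ≠ 0 := by
      by_contra! hc
      exact ha (h.mem_orth.2 fun w hw => h.eq_zero_symm (hc w hw))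
    exact ⟨⟨(B a w)⁻¹ • w, W.smul_mem _ hw⟩, by simp [haw]⟩
  obtain ⟨w0, hw0⟩ := hne v hv
  obtain ⟨w1, hw1⟩ := hne v' hv'
  have hφ0 : φ w0 = 1 := hw0
  have hφ1 : φ' w1 = 1 := hw1
  have hker : Module.finrank F (LinearMap.ker φ) = Module.finrank F (LinearMap.ker φ') := by
    have h1 := LinearMap.finrank_range_add_finrank_ker φ
    have h2 := LinearMap.finrank_range_add_finrank_ker φ'
    rw [LinearMap.range_eq_top.2 (show Function.Surjective φ from fun c => ⟨c • w0, by simp [hφ0]⟩), finrank_top] at h1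
    rw [LinearMap.range_eq_top.2 (show Function.Surjective φ' from fun c => ⟨c • w1, by simp [hφ1]⟩), finrank_top] at h2
    omega
  let e := LinearEquiv.ofFinrankEq (LinearMap.ker φ) (LinearMap.ker φ') hker
  let π : W →ₗ[F] LinearMap.ker φ := (LinearMap.id - φ.smulRight w0).codRestrict _ fun x => by
    simp [hφ0]
  let A : W →ₗ[F] W := (LinearMap.ker φ').subtype ∘ₗ e.toLinearMap ∘ₗ π + φ.smulRight w1
  have hA1 : ∀ x, φ' (A x) = φ x := fun x => by
    have h : φ' (e (π x) : W) = 0 := (e (π x)).2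
    simp [A, hφ1, h]
  have hAinj : Function.Injective A := by
    rw [injective_iff_map_eq_zero]
    intro x hx
    have h0 : φ x = 0 := by rw [← hA1, hx, map_zero]
    have h1 : (e (π x) : W) = 0 := by
      have := hx
      simpa [A, h0] using this
    have h2 : π x = 0 := e.map_eq_zero_iff.1 (Subtype.ext h1)
    have h3 : x - φ x • w0 = 0 := congrArg Subtype.val h2
    simpa [h0] using h3
  -- the map on `W + ⟨v⟩`
  have hvW : ∀ u ∈ ({v, v'} : Set V), u ∉ W := by
    rintro u (rfl | rfl) hu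
    · exact hv (h.mem_orth.2 fun w hw => hW w hw _ hu)
    · exact hv' (h.mem_orth.2 fun w hw => hW w hw _ hu)
  let P : (W × F) →ₗ[F] V := W.subtype.coprod (LinearMap.toSpanSingleton F V v)
  let Q : (W × F) →ₗ[F] V := (W.subtype ∘ₗ A).coprod (LinearMap.toSpanSingleton F V v')
  have hP : ∀ p, P p = (p.1 : V) + p.2 • v := fun p => by simp [P]
  have hQ : ∀ p, Q p = (A p.1 : V) + p.2 • v' := fun p => by simp [Q]
  have hinj : ∀ (u : V) (hu : u ∉ W) (x : W) (c : F), (x : V) + c • u = 0 → x = 0 ∧ c = 0 := by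
    intro u hu x c hxc
    rcases eq_or_ne c 0 with rfl | hc
    · exact ⟨Subtype.ext (by simpa using hxc), rfl⟩
    · refine absurd ?_ hu
      rw [show u = -(c⁻¹ • (x : V)) by
        rw [eq_neg_iff_add_eq_zero, ← inv_smul_smul₀ hc u, ← smul_add, add_comm, hxc, smul_zero]]
      exact W.neg_mem (W.smul_mem _ x.2)
  have hPinj : Function.Injective P := by
    rw [injective_iff_map_eq_zero]
    intro p hp
    rw [hP] at hp
    obtain ⟨e1, e2⟩ := hinj v (hvW v (by simp)) _ _ hp
    exact Prod.ext e1 e2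
  have hQinj : Function.Injective Q := by
    rw [injective_iff_map_eq_zero]
    intro p hp
    rw [hQ] at hp
    obtain ⟨e1, e2⟩ := hinj v' (hvW v' (by simp)) _ _ hp
    exact Prod.ext (hAinj (e1.trans A.map_zero.symm)) e2
  let E := LinearEquiv.ofInjective P hPinj
  have hiso : ∀ p r, B (Q p) (Q r) = B (P p) (P r) := by
    intro p r
    have e1 : ∀ x : W, B v' (A x) = B v x := hA1
    have e2 : ∀ x : W, B (A x : V) v' = B (x : V) v := fun x => by
      rw [← h.symm v' (A x), e1, h.symm]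
    simp only [hP, hQ, map_add, LinearMap.add_apply, smul_left, smul_right, e1, e2, hvv, hvv',
      hW _ (A p.1).2 _ (A r.1).2, hW _ p.1.2 _ r.1.2]
  obtain ⟨g, hg⟩ := h.exists_extension (LinearMap.range P) (Q ∘ₗ E.symm.toLinearMap)
    (hQinj.comp E.symm.injective) fun a b => by
      obtain ⟨p, rfl⟩ := E.surjective a
      obtain ⟨r, rfl⟩ := E.surjective b
      simp only [LinearMap.comp_apply, LinearEquiv.coe_coe, LinearEquiv.symm_apply_apply]
      exact hiso p r
  have hgP : ∀ p, (g : V ≃ₗ[F] V) (P p) = Q p := fun p => by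
    have := hg (E p)
    rwa [LinearMap.comp_apply, LinearEquiv.coe_coe, LinearEquiv.symm_apply_apply] at this
  have hgv : (g : V ≃ₗ[F] V) v = v' := by simpa [hP, hQ] using hgP (0, 1)
  have hgs : g ∈ isoStab (fun u v => B u v) W := mem_isoStab_of_maps fun x hx => by
    have : (g : V ≃ₗ[F] V) x = A ⟨x, hx⟩ := by simpa [hP, hQ] using hgP (⟨x, hx⟩, 0)
    rw [this]
    exact (A _).2
  -- correct the determinant
  have huv : B (w1 : V) v' = 1 := by rw [← h.symm, hw1, map_one]
  have hn := h.det_norm_one g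
  set d : F := ((HU.det B g : Fˣ) : F) with hd
  have hd0 : d ≠ 0 := Units.ne_zero _
  obtain ⟨a, ha0, ha⟩ : ∃ a : F, a ≠ 0 ∧ a / σ a = d⁻¹ := by
    by_cases hd1 : 1 + d = 0
    · obtain ⟨θ, hθ0, hθ⟩ := h.exists_skew
      refine ⟨θ, hθ0, ?_⟩
      rw [eq_neg_of_add_eq_zero_right hθ, eq_neg_of_add_eq_zero_right hd1, div_neg, div_self hθ0,
        inv_neg, inv_one]
    · have hs : σ (1 + d) ≠ 0 := fun h0 => hd1 (IsInvol.apply_eq_zero_iff.1 h0)
      refine ⟨σ (1 + d), hs, ?_⟩
      rw [h.invol.invol, div_eq_iff hd1, map_add, map_one]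
      field_simp
      linear_combination hn
  obtain ⟨s, hsd, hsy⟩ := exists_dil h (hW _ w1.2 _ w1.2) hvv' huv ha0
  have hss : s ∈ isoStab (fun u v => B u v) W := mem_isoStab_of_maps fun x hx => by
    rw [hsy, hW _ w1.2 x hx, mul_zero, zero_smul, add_zero]
    exact W.add_mem hx (W.smul_mem _ w1.2)
  refine ⟨s * g, ⟨mul_mem hss hgs, ?_⟩, (σ a)⁻¹,
    inv_ne_zero fun h0 => ha0 (IsInvol.apply_eq_zero_iff.1 h0), ?_⟩
  · refine MonoidHom.mem_ker.2 (Units.ext ?_)
    rw [map_mul, Units.val_mul, hsd, ha, Units.val_one]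
    exact inv_mul_cancel₀ hd0
  · rw [Subgroup.coe_mul, LinearEquiv.mul_apply, hgv, hsy, hvv', huv, mul_zero, zero_smul, add_zero,
      mul_one, sub_smul, one_smul, add_sub_cancel]

/-- The stabiliser of a totally isotropic subspace is maximal in the special unitary group. -/
theorem isMaximalIn_singular [Finite F] (h4 : 4 ≤ Module.finrank F V) {W : Submodule F V}
    (h0 : W ≠ ⊥) (hW : ∀ u ∈ W, ∀ v ∈ W, B u v = 0)
    (hWW : ∀ x, (∀ y ∈ h.orth W, B y x = 0) → x ∈ W) :
    Cfsg.Geo.IsMaximalIn (HSU B) (stab B W) := by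
  refine ⟨lt_of_le_of_ne inf_le_right ?_, fun M hM hMS => ?_⟩
  · intro e
    obtain ⟨u, hu, hu0⟩ := Submodule.exists_mem_ne_zero_of_ne_bot h0
    obtain ⟨f, huf, hff⟩ := h.exists_isotropic_partner hu0 (hW u hu u hu)
    obtain ⟨θ, hθ0, hθ⟩ := h.exists_skew
    have hmem : h.tr hff hθ ∈ stab B W := e.ge (h.det_tr hff hθ)
    have h1 := (hmem.1 u).1 hu
    rw [h.tr_apply, W.add_mem_iff_right hu, ← h.symm, huf, map_one, mul_one,
      W.smul_mem_iff hθ0] at h1
    rw [hW u hu f h1] at huf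
    exact zero_ne_one huf
  · rcases eq_or_lt_of_le hM with e | e
    · exact Or.inl e.symm
    obtain ⟨g, hgM, hg⟩ := SetLike.exists_of_lt e
    obtain ⟨u, hu, huu, hgu⟩ := exists_isotropic_moved h hW hWW
      (fun hc => hg ⟨hc, hMS hgM⟩)
    refine Or.inr (le_antisymm hMS (le_of_hasTr h h4 fun v => ?_))
    by_cases hv : v ∈ h.orth W
    · exact hasTr_stab h hM (Or.inr hv)
    intro hvv c hc
    obtain ⟨s, hs, a, ha, hsv⟩ := transitive_outside h hW ((HU.map_eq g u u).trans huu) hvv hgu hv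
    have h2 := ((hasTr_stab h hM (Or.inr hu)).conj h hgM).conj h (hM hs)
    rw [hsv] at h2
    exact h2.of_smul h ha hvv c hc

/-! ### Nondegenerate subspaces -/

omit [FiniteDimensional F V] in
theorem trace_isotropic {u f : V} (huu : B u u = 0) (huf : B u f = 1) :
    ∃ t : F, B (f + t • u) (f + t • u) = 0 := by
  have hfu : B f u = 1 := by rw [← h.symm, huf, map_one]
  obtain ⟨t, ht⟩ := h.invol.exists_trace_eq (μ := -B f f) (by rw [map_neg, h.self_fixed])
  refine ⟨t, ?_⟩
  simp only [map_add, LinearMap.add_apply, smul_left, smul_right, huu, huf, hfu]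
  linear_combination ht

/-- Every subspace containing the isotropic vectors of a nondegenerate `U` of dimension `≥ 2`
contains `U`. -/
theorem le_of_isotropic [Finite F] {U P : Submodule F V}
    (hU : ∀ x ∈ U, (∀ y ∈ U, B x y = 0) → x = 0) (h2 : 2 ≤ Module.finrank F U)
    (hP : ∀ x ∈ U, B x x = 0 → x ∈ P) : U ≤ P := by
  have hr := h.restrict_herm hU
  obtain ⟨u, hu0, huu⟩ := hr.exists_isotropic h2
  obtain ⟨f, huf, hff⟩ := hr.exists_isotropic_partner hu0 huu
  have hfu : B (f : V) u = 1 := by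
    rw [← h.symm]
    exact (congrArg σ huf).trans (map_one σ)
  intro y hy
  set r := y - B (f : V) y • (u : V) - B (u : V) y • (f : V) with hr'
  have huu' : B (u : V) u = 0 := huu
  have hff' : B (f : V) f = 0 := hff
  have huf' : B (u : V) f = 1 := huf
  have hur : B (u : V) r = 0 := by simp [hr', huu', huf']
  have hfr : B (f : V) r = 0 := by simp [hr', hff', hfu]
  have hru := h.eq_zero_symm hur
  have hrf := h.eq_zero_symm hfr
  obtain ⟨t, ht⟩ := h.invol.exists_trace_eq (μ := -B r r) (by rw [map_neg, h.self_fixed])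
  have hrU : r ∈ U := U.sub_mem (U.sub_mem hy (U.smul_mem _ u.2)) (U.smul_mem _ f.2)
  have hz : r + t • (u : V) + (f : V) ∈ P := by
    refine hP _ (U.add_mem (U.add_mem hrU (U.smul_mem _ u.2)) f.2) ?_
    simp only [map_add, LinearMap.add_apply, smul_left, smul_right, huu', hff', huf', hfu, hur,
      hfr, hru, hrf]
    linear_combination ht
  have hPu := hP _ u.2 huu'
  have hPf := hP _ f.2 hff'
  rw [show y = (r + t • (u : V) + (f : V)) + (B (f : V) y - t) • (u : V) +
    (B (u : V) y - 1) • (f : V) by rw [hr']; module]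
  exact P.add_mem (P.add_mem hz (P.smul_mem _ hPu)) (P.smul_mem _ hPf)

theorem exists_isotropic_mixed [Finite F] {W : Submodule F V}
    (hW : ∀ x ∈ W, (∀ y ∈ W, B x y = 0) → x = 0)
    (hdim : 2 * Module.finrank F W < Module.finrank F V) (h3 : 3 ≤ Module.finrank F (h.orth W))
    {g : HU B} (hg : g ∉ isoStab (fun u v => B u v) W) :
    ∃ u ∈ h.orth W, B u u = 0 ∧ (g : V ≃ₗ[F] V) u ∉ W ∧ (g : V ≃ₗ[F] V) u ∉ h.orth W := by
  have hU := h.orth_nondeg hW
  have hd := Submodule.disjoint_def.1 (h.isCompl_orth hW).disjoint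
  by_contra! hall
  -- never one into each
  have both : (∀ x ∈ h.orth W, B x x = 0 → (g : V ≃ₗ[F] V) x ∈ W) ∨
      ∀ x ∈ h.orth W, B x x = 0 → (g : V ≃ₗ[F] V) x ∈ h.orth W := by
    by_contra! hc
    obtain ⟨⟨x, hx, hxx, hgx⟩, ⟨y, hy, hyy, hgy⟩⟩ := hc
    have hgx' := hall x hx hxx hgx
    have hgy' : (g : V ≃ₗ[F] V) y ∈ W := by
      by_contra hh
      exact hgy (hall y hy hyy hh)
    have hyx : B y x = 0 := (HU.map_eq g y x).symm.trans (h.mem_orth.1 hgx' _ hgy')
    have hxy := h.eq_zero_symm hyx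
    have hs : B (x + y) (x + y) = 0 := by rw [h.add_self_of_perp hxy, hxx, hyy, add_zero]
    by_cases hm : (g : V ≃ₗ[F] V) (x + y) ∈ W
    · rw [map_add, W.add_mem_iff_left hgy'] at hm
      exact hgx hm
    · have hm' := hall _ (Submodule.add_mem _ hx hy) hs hm
      rw [map_add, Submodule.add_mem_iff_right _ hgx'] at hm'
      exact hgy hm'
  rcases both with hb | hb
  · have hle : h.orth W ≤ W.comap ((g : V ≃ₗ[F] V) : V →ₗ[F] V) :=
      le_of_isotropic h hU (by omega) hb
    have hr := h.finrank_orth hW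
    have h1 : Module.finrank F ((h.orth W).map ((g : V ≃ₗ[F] V) : V →ₗ[F] V)) ≤ Module.finrank F W :=
      Submodule.finrank_mono (Submodule.map_le_iff_le_comap.2 hle)
    rw [LinearEquiv.finrank_map_eq] at h1
    omega
  · exact hg (mem_stab_of_orth h hW fun x hx => le_of_isotropic h hU (by omega)
      (P := (h.orth W).comap ((g : V ≃ₗ[F] V) : V →ₗ[F] V)) hb hx)

theorem exists_perp_anisotropic [Finite F] {U : Submodule F V}
    (hU : ∀ x ∈ U, (∀ y ∈ U, B x y = 0) → x = 0) (h3 : 3 ≤ Module.finrank F U) {b : V}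
    (hb : b ∈ U) (hb0 : b ≠ 0) : ∃ z ∈ U, B b z = 0 ∧ B z z = 1 := by
  have hr := h.restrict_herm hU
  let b' : U := ⟨b, hb⟩
  have hb'0 : b' ≠ 0 := fun e => hb0 (congrArg Subtype.val e)
  by_cases hbb : B b b = 0
  · obtain ⟨f, hbf, hff⟩ := hr.exists_isotropic_partner hb'0 (show IsHerm.restrict B U b' b' = 0 from hbb)
    have hd := hr.hyperbolic_disc (u := b') (f := f) hbb hbf
    have hn := hr.pair_nondeg hd
    have hf := hr.finrank_orth hn
    rw [hr.pair_finrank hd] at hf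
    obtain ⟨z, hz, hzz⟩ := hr.exists_norm_in (hr.orth_nondeg hn) (by omega) (map_one σ)
    exact ⟨z, z.2, hr.mem_orth.1 hz b' (Submodule.subset_span (Set.mem_insert _ _)), hzz⟩
  · have hbb' : IsHerm.restrict B U b' b' ≠ 0 := hbb
    obtain ⟨z, hz, hzz⟩ := hr.exists_norm_in (hr.perp_nondeg hbb')
      (by have := hr.finrank_perp hbb'; omega) (map_one σ)
    exact ⟨z, z.2, hr.mem_perp.1 hz, hzz⟩

theorem transitive_mixed [Finite F] {W : Submodule F V}
    (hW : ∀ x ∈ W, (∀ y ∈ W, B x y = 0) → x = 0) (h3 : 3 ≤ Module.finrank F (h.orth W))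
    {a a' b b' : V} (ha : a ∈ W) (ha' : a' ∈ W) (hb : b ∈ h.orth W) (hb' : b' ∈ h.orth W)
    (ha0 : a ≠ 0) (ha'0 : a' ≠ 0) (hb0 : b ≠ 0) (hb'0 : b' ≠ 0)
    (haa : B a a = B a' a') (hbb : B b b = B b' b') :
    ∃ g ∈ stab B W, (g : V ≃ₗ[F] V) (a + b) = a' + b' := by
  have hr := h.restrict_herm hW
  let x : W := ⟨a, ha⟩
  let x' : W := ⟨a', ha'⟩
  have hx0 : x ≠ 0 := fun e => ha0 (congrArg Subtype.val e)
  have hx'0 : x' ≠ 0 := fun e => ha'0 (congrArg Subtype.val e)
  let E1 := LinearEquiv.toSpanNonzeroSingleton F W x hx0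
  obtain ⟨s, hs⟩ := hr.exists_extension (Submodule.span F {x})
    (LinearMap.toSpanSingleton F W x' ∘ₗ E1.symm.toLinearMap)
    ((smul_left_injective F hx'0).comp E1.symm.injective) fun p r => by
      obtain ⟨c, rfl⟩ := E1.surjective p
      obtain ⟨d, rfl⟩ := E1.surjective r
      simp only [LinearMap.comp_apply, LinearEquiv.coe_coe, LinearEquiv.symm_apply_apply]
      show IsHerm.restrict B W (c • x') (d • x') = IsHerm.restrict B W (c • x) (d • x)
      simp only [smul_left, smul_right]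
      rw [show IsHerm.restrict B W x' x' = IsHerm.restrict B W x x from haa.symm]
  have hsx : (s : W ≃ₗ[F] W) x = x' := by
    have h1 := hs (E1 1)
    simp only [LinearMap.comp_apply, LinearEquiv.coe_coe, LinearEquiv.symm_apply_apply] at h1
    simpa [E1, LinearEquiv.toSpanNonzeroSingleton] using h1
  let P : (W × F) →ₗ[F] V := W.subtype.coprod (LinearMap.toSpanSingleton F V b)
  let Q : (W × F) →ₗ[F] V :=
    (W.subtype ∘ₗ ((s : W ≃ₗ[F] W) : W →ₗ[F] W)).coprod (LinearMap.toSpanSingleton F V b')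
  have hP : ∀ p, P p = (p.1 : V) + p.2 • b := fun p => by simp [P]
  have hQ : ∀ p, Q p = (((s : W ≃ₗ[F] W) p.1 : W) : V) + p.2 • b' := fun p => by simp [Q]
  have hd := Submodule.disjoint_def.1 (h.isCompl_orth hW).disjoint
  have hinj : ∀ (u : V), u ∈ h.orth W → u ≠ 0 → ∀ (y : W) (c : F),
      (y : V) + c • u = 0 → y = 0 ∧ c = 0 := by
    intro u hu hu0 y c hyc
    have hy : (y : V) = 0 := hd _ y.2 (by
      rw [eq_neg_of_add_eq_zero_left hyc]
      exact Submodule.neg_mem _ (Submodule.smul_mem _ _ hu))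
    rw [hy, zero_add, smul_eq_zero] at hyc
    exact ⟨Subtype.ext hy, hyc.resolve_right hu0⟩
  have hPinj : Function.Injective P := by
    rw [injective_iff_map_eq_zero]
    intro p hp
    rw [hP] at hp
    obtain ⟨e1, e2⟩ := hinj b hb hb0 _ _ hp
    exact Prod.ext e1 e2
  have hQinj : Function.Injective Q := by
    rw [injective_iff_map_eq_zero]
    intro p hp
    rw [hQ] at hp
    obtain ⟨e1, e2⟩ := hinj b' hb' hb'0 _ _ hp
    exact Prod.ext ((s : W ≃ₗ[F] W).map_eq_zero_iff.1 e1) e2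
  let E := LinearEquiv.ofInjective P hPinj
  have hiso : ∀ p r, B (Q p) (Q r) = B (P p) (P r) := by
    intro p r
    have e0 : ∀ y z : W, B (((s : W ≃ₗ[F] W) y : W) : V) ((s : W ≃ₗ[F] W) z : W) = B (y : V) z :=
      fun y z => HU.map_eq s y z
    have e1 : ∀ (u : V), u ∈ h.orth W → ∀ y : W, B (y : V) u = 0 := fun u hu y =>
      h.mem_orth.1 hu y y.2
    have e2 : ∀ (u : V), u ∈ h.orth W → ∀ y : W, B u (y : V) = 0 := fun u hu y =>
      h.eq_zero_symm (e1 u hu y)
    simp only [hP, hQ, map_add, LinearMap.add_apply, smul_left, smul_right, e0, e1 b hb, e2 b hb,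
      e1 b' hb', e2 b' hb', hbb]
  obtain ⟨g, hg⟩ := h.exists_extension (LinearMap.range P) (Q ∘ₗ E.symm.toLinearMap)
    (hQinj.comp E.symm.injective) fun a b => by
      obtain ⟨p, rfl⟩ := E.surjective a
      obtain ⟨r, rfl⟩ := E.surjective b
      simp only [LinearMap.comp_apply, LinearEquiv.coe_coe, LinearEquiv.symm_apply_apply]
      exact hiso p r
  have hgP : ∀ p, (g : V ≃ₗ[F] V) (P p) = Q p := fun p => by
    have := hg (E p)
    rwa [LinearMap.comp_apply, LinearEquiv.coe_coe, LinearEquiv.symm_apply_apply] at this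
  have hgab : (g : V ≃ₗ[F] V) (a + b) = a' + b' := by
    simpa [hP, hQ, hsx, x, x'] using hgP (x, 1)
  have hgs : g ∈ isoStab (fun u v => B u v) W := mem_isoStab_of_maps fun y hy => by
    have : (g : V ≃ₗ[F] V) y = ((s : W ≃ₗ[F] W) ⟨y, hy⟩ : W) := by
      simpa [hP, hQ] using hgP (⟨y, hy⟩, 0)
    rw [this]
    exact ((s : W ≃ₗ[F] W) _).2
  obtain ⟨z, hz, hbz, hzz⟩ := exists_perp_anisotropic h (h.orth_nondeg hW) h3 hb' hb'0
  have hz0 : B z z ≠ 0 := by rw [hzz]; exact one_ne_zero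
  have hn : ((HU.det B g)⁻¹ : Fˣ).val * σ ((HU.det B g)⁻¹ : Fˣ).val = 1 := by
    rw [Units.val_inv_eq_inv_val, map_inv₀, ← mul_inv, h.det_norm_one g, inv_one]
  refine ⟨h.quasiIso z hz0 _ hn * g, ⟨mul_mem (mem_isoStab_of_maps fun y hy => ?_) hgs, ?_⟩, ?_⟩
  · show quasi B z hz0 _ y ∈ W
    rw [quasi_apply_perp _ _ _ (h.eq_zero_symm (h.mem_orth.1 hz y hy))]
    exact hy
  · refine MonoidHom.mem_ker.2 ?_
    rw [map_mul, h.det_quasiIso, inv_mul_cancel]
  · rw [Subgroup.coe_mul, LinearEquiv.mul_apply, hgab]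
    show quasi B z hz0 _ (a' + b') = a' + b'
    rw [quasi_apply_perp]
    rw [map_add, h.eq_zero_symm hbz, h.eq_zero_symm (h.mem_orth.1 hz a' ha'), add_zero]

theorem exists_ne_zero_norm [Finite F] {U : Submodule F V}
    (hU : ∀ x ∈ U, (∀ y ∈ U, B x y = 0) → x = 0) (h2 : 2 ≤ Module.finrank F U) {μ : F}
    (hμ : σ μ = μ) : ∃ v ∈ U, v ≠ 0 ∧ B v v = μ := by
  by_cases h0 : μ = 0
  · subst h0
    obtain ⟨u, hu0, huu⟩ := (h.restrict_herm hU).exists_isotropic h2
    exact ⟨u, u.2, fun e => hu0 (Subtype.ext e), huu⟩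
  · obtain ⟨v, hv, hvv⟩ := h.exists_norm_in hU (by omega) hμ
    exact ⟨v, hv, fun e => h0 (by rw [← hvv, e, zero_left]), hvv⟩

/-- The stabiliser of a nondegenerate subspace of less than half the dimension is maximal in the
special unitary group. -/
theorem isMaximalIn_nondeg [Finite F] (h5 : 5 ≤ Module.finrank F V) {W : Submodule F V}
    (h0 : W ≠ ⊥) (hW : ∀ x ∈ W, (∀ y ∈ W, B x y = 0) → x = 0)
    (hdim : 2 * Module.finrank F W < Module.finrank F V) :
    Cfsg.Geo.IsMaximalIn (HSU B) (stab B W) := by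
  have hfin := h.finrank_orth hW
  have hU := h.orth_nondeg hW
  have hU3 : 3 ≤ Module.finrank F (h.orth W) := by omega
  have hWU := Submodule.disjoint_def.1 (h.isCompl_orth hW).disjoint
  have hW1 : 0 < Module.finrank F W :=
    Nat.pos_of_ne_zero fun e => h0 (Submodule.finrank_eq_zero.1 e)
  obtain ⟨θ, hθ0, hθ⟩ := h.exists_skew
  refine ⟨lt_of_le_of_ne inf_le_right ?_, fun M hM hMS => ?_⟩
  · intro e
    obtain ⟨a, ha, haa⟩ := h.exists_norm_in hW hW1 (map_one σ)
    obtain ⟨b, hb, hb0, hbb⟩ := exists_ne_zero_norm h hU (μ := (-1 : F)) (by omega) (by simp)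
    have hab : B a b = 0 := h.mem_orth.1 hb a ha
    have hvv : B (a + b) (a + b) = 0 := by rw [h.add_self_of_perp hab, haa, hbb, add_neg_cancel]
    have hmem : h.tr hvv hθ ∈ stab B W := e.ge (h.det_tr hvv hθ)
    have h1 := (hmem.1 a).1 ha
    rw [h.tr_apply, W.add_mem_iff_right ha, add_left, haa, h.eq_zero_symm hab, add_zero, mul_one,
      W.smul_mem_iff hθ0, W.add_mem_iff_right ha] at h1
    exact hb0 (hWU b h1 hb)
  · rcases eq_or_lt_of_le hM with e | e
    · exact Or.inl e.symm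
    obtain ⟨g, hgM, hg⟩ := SetLike.exists_of_lt e
    refine Or.inr (le_antisymm hMS (le_of_hasTr h (by omega) fun v => ?_))
    obtain ⟨u, hu, huu, hguW, hguU⟩ := exists_isotropic_mixed h hW hdim hU3
      (fun hc => hg ⟨hc, hMS hgM⟩)
    have hz := (hasTr_stab h hM (Or.inr hu)).conj h hgM
    have hzz : B ((g : V ≃ₗ[F] V) u) ((g : V ≃ₗ[F] V) u) = 0 := (HU.map_eq g u u).trans huu
    obtain ⟨a, b, ha, hb, hab⟩ := Submodule.codisjoint_iff_exists_add_eq.1
      (h.isCompl_orth hW).codisjoint ((g : V ≃ₗ[F] V) u)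
    rw [← hab] at hz hzz hguW hguU
    have ha0 : a ≠ 0 := fun e => hguU (by rw [e, zero_add]; exact hb)
    have hb0 : b ≠ 0 := fun e => hguW (by rw [e, add_zero]; exact ha)
    -- one class gives the whole class
    have same : ∀ a b : V, a ∈ W → b ∈ h.orth W → a ≠ 0 → b ≠ 0 → B (a + b) (a + b) = 0 →
        HasTr h M (a + b) → ∀ a' b' : V, a' ∈ W → b' ∈ h.orth W → a' ≠ 0 → b' ≠ 0 →
        B (a' + b') (a' + b') = 0 → B a a = B a' a' → HasTr h M (a' + b') := by
      intro a b ha hb ha0 hb0 hn hT a' b' ha' hb' ha'0 hb'0 hn' hμ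
      rw [h.add_self_of_perp (h.mem_orth.1 hb a ha)] at hn
      rw [h.add_self_of_perp (h.mem_orth.1 hb' a' ha'), ← hμ] at hn'
      obtain ⟨s, hs, hsv⟩ := transitive_mixed h hW hU3 ha ha' hb hb' ha0 ha'0 hb0 hb'0 hμ
        (by linear_combination hn - hn')
      rw [← hsv]
      exact hT.conj h (hM hs)
    -- classes with anisotropic components
    have scaled : ∀ a b : V, a ∈ W → b ∈ h.orth W → B a a ≠ 0 → B (a + b) (a + b) = 0 →
        HasTr h M (a + b) → ∀ a' b' : V, a' ∈ W → b' ∈ h.orth W → B a' a' ≠ 0 →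
        B (a' + b') (a' + b') = 0 → HasTr h M (a' + b') := by
      intro a b ha hb hμ hn hT a' b' ha' hb' hμ' hn'
      obtain ⟨c, hc⟩ := h.invol.exists_norm_eq (μ := B a a / B a' a')
        (by rw [map_div₀, h.self_fixed, h.self_fixed])
      have hc0 : c ≠ 0 := by
        rintro rfl
        rw [zero_mul] at hc
        exact div_ne_zero hμ hμ' hc.symm
      have ne_zero : ∀ x y : V, x ∈ W → y ∈ h.orth W → B x x ≠ 0 → B (x + y) (x + y) = 0 →
          x ≠ 0 ∧ y ≠ 0 := fun x y hx hy hxx hxy =>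
        ⟨fun e => hxx (by rw [e, zero_left]), fun e => hxx (by rwa [e, add_zero] at hxy)⟩
      obtain ⟨n1, n2⟩ := ne_zero a b ha hb hμ hn
      obtain ⟨n3, n4⟩ := ne_zero a' b' ha' hb' hμ' hn'
      refine HasTr.of_smul h hc0 ?_
      rw [smul_add]
      refine same a b ha hb n1 n2 hn hT _ _ (W.smul_mem _ ha') (Submodule.smul_mem _ _ hb')
        (smul_ne_zero hc0 n3) (smul_ne_zero hc0 n4) (by rw [← smul_add, IsHerm.smul_self, hn', mul_zero]) ?_
      rw [IsHerm.smul_self, hc, div_mul_cancel₀ _ hμ']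
    -- both classes occur
    have aniso : ∃ a b : V, a ∈ W ∧ b ∈ h.orth W ∧ B a a ≠ 0 ∧ B (a + b) (a + b) = 0 ∧
        HasTr h M (a + b) := by
      by_cases hμ : B a a = 0
      · have hrW := h.restrict_herm hW
        have hrU := h.restrict_herm hU
        let a1 : W := ⟨a, ha⟩
        let b1 : h.orth W := ⟨b, hb⟩
        have hbb : B b b = 0 := by
          rwa [h.add_self_of_perp (h.mem_orth.1 hb a ha), hμ, zero_add] at hzz
        obtain ⟨a2, ha12, ha22⟩ := hrW.exists_isotropic_partner (u := a1)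
          (fun e => ha0 (congrArg Subtype.val e)) hμ
        obtain ⟨f, hf1, hff⟩ := hrU.exists_isotropic_partner (u := b1)
          (fun e => hb0 (congrArg Subtype.val e)) hbb
        obtain ⟨x, hx⟩ := h.invol.exists_trace_ne_zero
        -- second vector of the class
        have ha2 : B a (a2 : V) = 1 := ha12
        have ha22' : B (a2 : V) a2 = 0 := ha22
        have ha20 : (a2 : V) ≠ 0 := fun e => one_ne_zero (α := F) (by rw [← ha2, e, map_zero])
        set y := x / θ with hy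
        obtain ⟨b2, hb2, hb20, hb2n, hb12⟩ : ∃ b2 ∈ h.orth W, b2 ≠ 0 ∧ B b2 b2 = 0 ∧ B b b2 = y := by
          by_cases hy0 : y = 0
          · exact ⟨b, hb, hb0, hbb, by rw [hbb, hy0]⟩
          · have hf : B b (f : V) = 1 := hf1
            have hff' : B (f : V) f = 0 := hff
            refine ⟨y • (f : V), Submodule.smul_mem _ _ f.2, smul_ne_zero hy0 fun e => one_ne_zero (α := F)
              (by rw [← hf, e, map_zero]), by rw [IsHerm.smul_self, hff', mul_zero],
              by rw [smul_right, hf, mul_one]⟩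
        have hn2 : B ((a2 : V) + b2) ((a2 : V) + b2) = 0 := by
          rw [h.add_self_of_perp (h.mem_orth.1 hb2 _ a2.2), ha22', hb2n, add_zero]
        have h2 := same a b ha hb ha0 hb0 hzz hz _ _ a2.2 hb2 ha20 hb20 hn2 (hμ.trans ha22'.symm)
        have h3 := h2.conj h (hz hzz θ hθ)
        rw [h.tr_apply] at h3
        set l := θ * B (a + b) ((a2 : V) + b2)
        have hl : l = θ + x := by
          show θ * B (a + b) ((a2 : V) + b2) = _
          rw [add_left, map_add, map_add, ha2, hb12, h.mem_orth.1 hb2 a ha,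
            h.eq_zero_symm (h.mem_orth.1 hb _ a2.2), hy]
          field_simp
          ring
        have hn3 : B ((a2 : V) + l • a) ((a2 : V) + l • a) = x + σ x := by
          have ha21 : B (a2 : V) a = 1 := by rw [← h.symm, ha2, map_one]
          simp only [map_add, LinearMap.add_apply, smul_left, smul_right, hμ, ha22', ha2, ha21, hl]
          linear_combination hθ
        refine ⟨(a2 : V) + l • a, b2 + l • b, W.add_mem a2.2 (W.smul_mem _ ha),
          Submodule.add_mem _ hb2 (Submodule.smul_mem _ _ hb), by rwa [hn3], ?_, ?_⟩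
        · have := (HU.map_eq (h.tr hzz hθ) ((a2 : V) + b2) ((a2 : V) + b2)).trans hn2
          rw [h.tr_apply] at this
          rw [show (a2 : V) + l • a + (b2 + l • b) = (a2 : V) + b2 + l • (a + b) by module]
          exact this
        · rw [show (a2 : V) + l • a + (b2 + l • b) = (a2 : V) + b2 + l • (a + b) by module]
          exact h3
      · exact ⟨a, b, ha, hb, hμ, hzz, hz⟩
    obtain ⟨p, r, hp, hr, hpp, hprn, hT⟩ := aniso
    intro hvv c hc
    obtain ⟨a', b', ha', hb', rfl⟩ := Submodule.codisjoint_iff_exists_add_eq.1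
      (h.isCompl_orth hW).codisjoint v
    rcases eq_or_ne a' 0 with rfl | ha'0
    · exact hasTr_stab h hM (Or.inr (by rwa [zero_add])) hvv c hc
    rcases eq_or_ne b' 0 with rfl | hb'0
    · exact hasTr_stab h hM (Or.inl (by rwa [add_zero])) hvv c hc
    by_cases hμ' : B a' a' = 0
    swap
    · exact scaled p r hp hr hpp hprn hT a' b' ha' hb' hμ' hvv hvv c hc
    -- `a'` isotropic: `W` contains two orthogonal vectors of norm one
    have hk2 : 2 ≤ Module.finrank F W := by
      by_contra hk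
      have h1 : Module.finrank F W = 1 := by omega
      refine ha'0 (hW a' ha' fun y hy => ?_)
      obtain ⟨c, hc⟩ := exists_smul_eq_of_finrank_eq_one h1 (x := (⟨a', ha'⟩ : W))
        (fun e => ha'0 (congrArg Subtype.val e)) ⟨y, hy⟩
      have hc' : c • a' = y := congrArg Subtype.val hc
      rw [← hc', smul_right, hμ', mul_zero]
    obtain ⟨e, he⟩ := (h.restrict_herm hW).exists_orthonormal_basis rfl
    let i0 : Fin (Module.finrank F W) := ⟨0, by omega⟩
    let i1 : Fin (Module.finrank F W) := ⟨1, by omega⟩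
    have e11 : B (e i0 : V) (e i0) = 1 := by simpa using he i0 i0
    have e22 : B (e i1 : V) (e i1) = 1 := by simpa using he i1 i1
    have e12 : B (e i0 : V) (e i1) = 0 := by
      simpa [i0, i1] using he i0 i1
    obtain ⟨b1, hb1, hb1n⟩ := h.exists_norm_in hU (by omega) (μ := (-1 : F)) (by simp)
    have hb1n0 : B b1 b1 ≠ 0 := by rw [hb1n]; simp
    obtain ⟨l, hl⟩ := h.invol.exists_norm_eq (μ := (-1 : F)) (by simp)
    set y := l / θ with hy
    obtain ⟨r', hr', hr'0, hr'b, hr'n⟩ : ∃ r' ∈ h.orth W, r' ≠ 0 ∧ B b1 r' = 0 ∧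
        B r' r' = -1 + y * σ y := by
      let b1' : h.orth W := ⟨b1, hb1⟩
      have hrU := h.restrict_herm hU
      have hb1' : IsHerm.restrict B (h.orth W) b1' b1' ≠ 0 := hb1n0
      obtain ⟨z, hz, hz0, hzn⟩ := exists_ne_zero_norm hrU (hrU.perp_nondeg hb1')
        (by have := hrU.finrank_perp hb1'; omega) (μ := -1 + y * σ y)
        (by rw [map_add, map_neg, map_one, map_mul, h.invol.invol, mul_comm (σ y)])
      exact ⟨z, z.2, fun e => hz0 (Subtype.ext e), hrU.mem_perp.1 hz, hzn⟩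
    set b2 := -y • b1 + r'
    have hb2 : b2 ∈ h.orth W := Submodule.add_mem _ (Submodule.smul_mem _ _ hb1) hr'
    have hb12 : B b1 b2 = y := by
      rw [map_add, smul_right, hb1n, hr'b]
      ring
    have hb22 : B b2 b2 = -1 := by
      have := h.eq_zero_symm hr'b
      simp only [b2, map_add, LinearMap.add_apply, smul_left, smul_right, hb1n, hr'b, this, hr'n,
        map_neg]
      ring
    have n1 : B ((e i0 : V) + b1) ((e i0 : V) + b1) = 0 := by
      rw [h.add_self_of_perp (h.mem_orth.1 hb1 _ (e i0).2), e11, hb1n, add_neg_cancel]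
    have n2 : B ((e i1 : V) + b2) ((e i1 : V) + b2) = 0 := by
      rw [h.add_self_of_perp (h.mem_orth.1 hb2 _ (e i1).2), e22, hb22, add_neg_cancel]
    have t1 := scaled p r hp hr hpp hprn hT _ _ (e i0).2 hb1 (by rw [e11]; exact one_ne_zero) n1
    have t2 := scaled p r hp hr hpp hprn hT _ _ (e i1).2 hb2 (by rw [e22]; exact one_ne_zero) n2
    have t3 := t2.conj h (t1 n1 θ hθ)
    have n3 := (HU.map_eq (h.tr n1 hθ) ((e i1 : V) + b2) ((e i1 : V) + b2)).trans n2
    have hl' : θ * B ((e i0 : V) + b1) ((e i1 : V) + b2) = l := by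
      rw [add_left, map_add (B (e i0 : V)) (e i1 : V) b2, map_add (B b1) (e i1 : V) b2, e12, hb12, h.mem_orth.1 hb2 _ (e i0).2,
        h.eq_zero_symm (h.mem_orth.1 hb1 _ (e i1).2), hy]
      field_simp
      ring
    rw [h.tr_apply, hl', show (e i1 : V) + b2 + l • ((e i0 : V) + b1) =
      ((e i1 : V) + l • (e i0 : V)) + (b2 + l • b1) by module] at t3 n3
    have hA : (e i1 : V) + l • (e i0 : V) ∈ W := W.add_mem (e i1).2 (W.smul_mem _ (e i0).2)
    have hB' : b2 + l • b1 ∈ h.orth W := Submodule.add_mem _ hb2 (Submodule.smul_mem _ _ hb1)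
    have hAA : B ((e i1 : V) + l • (e i0 : V)) ((e i1 : V) + l • (e i0 : V)) = 0 := by
      have e21 := h.eq_zero_symm e12
      simp only [map_add, LinearMap.add_apply, smul_left, smul_right, e11, e22, e12, e21]
      linear_combination hl
    have hA0 : (e i1 : V) + l • (e i0 : V) ≠ 0 := fun e' => one_ne_zero (α := F) (by
      have h1 := congrArg (B (e i1 : V)) e'
      rw [map_add, smul_right, e22, h.eq_zero_symm e12, mul_zero, add_zero, map_zero] at h1
      exact h1)
    have hB0 : b2 + l • b1 ≠ 0 := fun e' => hr'0 (by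
      have h1 := congrArg (B b1) e'
      rw [map_add (B b1) b2 (l • b1), smul_right, hb12, hb1n, map_zero] at h1
      have hly : l = y := by linear_combination -h1
      simpa [b2, hly] using e')
    exact same _ _ hA hB' hA0 hB0 n3 t3 a' b' ha' hb' ha'0 hb'0 hvv (hAA.trans hμ'.symm) hvv c hc

end

/-- A subspace is its double orthogonal. -/
theorem mem_of_orth_orth [Finite F] [FiniteDimensional F V] {W : Submodule F V} {x : V}
    (hx : ∀ y ∈ h.orth W, B y x = 0) : x ∈ W := by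
  have : Finite V := Module.finite_of_finite F
  by_contra hxW
  obtain ⟨f, hfx, hfW⟩ := Submodule.exists_le_ker_of_notMem hxW
  have : Finite (Module.Dual F V) := Module.finite_of_finite F
  have hinj : Function.Injective (B : V → Module.Dual F V) := fun a b hab =>
    sub_eq_zero.1 (h.nondeg _ fun y => by rw [sub_left, hab, sub_self])
  obtain ⟨y, hy⟩ := ((Nat.bijective_iff_injective_and_card _).2 ⟨hinj, by
    rw [Module.natCard_eq_pow_finrank (K := F), Module.natCard_eq_pow_finrank (K := F)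
      (V := Module.Dual F V), Subspace.dual_finrank_eq]⟩).2 f
  refine hfx ?_
  rw [← hy]
  exact hx y (h.mem_orth.2 fun w hw => h.eq_zero_symm (by rw [hy]; exact hfW hw))

/-! ### The matrix groups -/

omit h in
theorem isMaximalIn_GU {n q : ℕ} [Fintype F] (hF : Fintype.card F = q ^ 2)
    (W : Submodule F (Fin n → F))
    (hmax : Cfsg.Geo.IsMaximalIn (HSU (hermStd n hF)) (stab (hermStd n hF) W)) :
    Cfsg.Geo.IsMaximalIn (Cfsg.GU n F q ⊓ Cfsg.Geo.specialLinear (Fin n) F)
      (Cfsg.Geo.subspaceStabilizer W ⊓ (Cfsg.GU n F q ⊓ Cfsg.Geo.specialLinear (Fin n) F)) := by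
  let e := guEquiv n hF
  have hS : ∀ g : Cfsg.GU n F q, (g : GL (Fin n) F) ∈ Cfsg.Geo.specialLinear (Fin n) F ↔
      e g ∈ HSU (hermStd n hF) := by
    intro g
    rw [MonoidHom.mem_ker, Units.ext_iff]
    show Matrix.GeneralLinearGroup.det (g : GL (Fin n) F) = 1 ↔ _
    rw [Units.ext_iff, guEquiv_det]
    rfl
  have hW' : ∀ g : Cfsg.GU n F q, (g : GL (Fin n) F) ∈ Cfsg.Geo.subspaceStabilizer W ↔
      e g ∈ isoStab (fun u v => hermStd n hF u v) W := fun g => Iff.rfl
  have hin : ∀ g : Cfsg.GU n F q, (g : GL (Fin n) F) ∈ Cfsg.Geo.subspaceStabilizer W ⊓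
      (Cfsg.GU n F q ⊓ Cfsg.Geo.specialLinear (Fin n) F) ↔ e g ∈ stab (hermStd n hF) W := fun g =>
    ⟨fun hg => ⟨(hW' g).1 hg.1, (hS g).1 hg.2.2⟩, fun hg => ⟨(hW' g).2 hg.1, g.2, (hS g).2 hg.2⟩⟩
  refine ⟨lt_of_le_of_ne inf_le_right fun he => hmax.1.ne ?_, fun M hM hMS => ?_⟩
  · refine le_antisymm inf_le_right fun x hx => ?_
    obtain ⟨g, rfl⟩ := e.surjective x
    exact (hin g).1 (he.ge ⟨g.2, (hS g).2 hx⟩)
  have hmem : ∀ g : Cfsg.GU n F q,
      e g ∈ (M.subgroupOf (Cfsg.GU n F q)).map e.toMonoidHom ↔ (g : GL (Fin n) F) ∈ M := fun g => by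
    rw [Subgroup.mem_map_equiv, MulEquiv.symm_apply_apply, Subgroup.mem_subgroupOf]
  rcases hmax.2 ((M.subgroupOf (Cfsg.GU n F q)).map e.toMonoidHom)
    (fun x hx => by
      obtain ⟨g, rfl⟩ := e.surjective x
      exact (hmem g).2 (hM ((hin g).2 hx)))
    (fun x hx => by
      obtain ⟨g, rfl⟩ := e.surjective x
      exact (hS g).1 (hMS ((hmem g).1 hx)).2) with h1 | h1
  · refine Or.inl (le_antisymm (fun x hx => ?_) hM)
    have hx' : x ∈ Cfsg.GU n F q := (hMS hx).1
    exact (hin ⟨x, hx'⟩).2 (h1.le ((hmem ⟨x, hx'⟩).2 hx))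
  · refine Or.inr (le_antisymm hMS fun x hx => ?_)
    exact (hmem ⟨x, hx.1⟩).1 (h1.ge ((hS ⟨x, hx.1⟩).1 hx.2))

end CfsgLib.Geo.UnitMax
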