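/-
Symplectic subfield subgroups are maximal in SU.
-/
import Cfsg.Agent.Lib.Geo.UnitMaximal
import Cfsg.Agent.Lib.Classical.Symplectic.Geometry

set_option autoImplicit false

namespace CfsgLib.Geo.UnitSympSub

open Matrix CfsgLib.Classical CfsgLib.Classical.Herm CfsgLib.Geo.UnitMax

variable {F : Type*} [Field F]

/-- The vector with coordinates in the subfield, in the basis given by the columns of `P`. -/
noncomputable def rat {n : ℕ} (F₀ : Subfield F) (P : Matrix.GeneralLinearGroup (Fin n) F)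
    (x : Fin n → F₀) : Fin n → F :=
  (P : Matrix (Fin n) (Fin n) F) *ᵥ fun i => (x i : F)

variable {n : ℕ} {F₀ : Subfield F} {P : Matrix.GeneralLinearGroup (Fin n) F}

theorem rat_add (x y : Fin n → F₀) : rat F₀ P (x + y) = rat F₀ P x + rat F₀ P y := by
  unfold rat
  rw [← Matrix.mulVec_add]
  congr 1

theorem rat_smul (c : F₀) (x : Fin n → F₀) : rat F₀ P (c • x) = (c : F) • rat F₀ P x := by
  unfold rat
  rw [← Matrix.mulVec_smul]
  congr 1

theorem rat_zero : rat F₀ P 0 = 0 := by
  unfold rat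
  rw [show (fun i => ((0 : Fin n → F₀) i : F)) = 0 from funext fun i => rfl, Matrix.mulVec_zero]

theorem inv_rat (x : Fin n → F₀) :
    ((P⁻¹ : Matrix.GeneralLinearGroup (Fin n) F) : Matrix (Fin n) (Fin n) F) *ᵥ rat F₀ P x =
      fun i => (x i : F) := by
  rw [rat, Matrix.mulVec_mulVec, Units.inv_mul, Matrix.one_mulVec]

theorem rat_injective : Function.Injective (rat F₀ P) := fun x y hxy => by
  have := congrArg (((P⁻¹ : Matrix.GeneralLinearGroup (Fin n) F) : Matrix (Fin n) (Fin n) F) *ᵥ ·) hxy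
  simp only [inv_rat] at this
  exact funext fun i => Subtype.ext (congrFun this i)

variable [Fintype F] {q : ℕ}

theorem exists_split (hF₀ : Nat.card F₀ ^ 2 = Fintype.card F) {θ : F} (hθ : θ ∉ F₀) (v : Fin n → F) :
    ∃ a b, v = rat F₀ P a + θ • rat F₀ P b := by
  have hbij : Function.Bijective fun p : F₀ × F₀ => (p.1 : F) + θ * p.2 := by
    refine (Nat.bijective_iff_injective_and_card _).2 ⟨fun p r hpr => ?_, ?_⟩
    · simp only at hpr
      by_cases h : p.2 = r.2
      · exact Prod.ext (Subtype.ext (by rw [h] at hpr; exact add_right_cancel hpr)) h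
      · refine absurd ?_ hθ
        have hne : (p.2 : F) - r.2 ≠ 0 := sub_ne_zero.2 fun e => h (Subtype.ext e)
        rw [show θ = ((r.1 : F) - p.1) / ((p.2 : F) - r.2) from by field_simp; linear_combination hpr]
        exact div_mem (sub_mem r.1.2 p.1.2) (sub_mem p.2.2 r.2.2)
    · rw [Nat.card_prod, ← pow_two, hF₀, Nat.card_eq_fintype_card]
  choose p hp using fun i => hbij.2 ((((P⁻¹ : Matrix.GeneralLinearGroup (Fin n) F) : Matrix (Fin n) (Fin n) F) *ᵥ v) i)
  refine ⟨fun i => (p i).1, fun i => (p i).2, ?_⟩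
  rw [rat, rat, ← Matrix.mulVec_smul, ← Matrix.mulVec_add,
    show ((fun i => ((p i).1 : F)) + θ • fun i => ((p i).2 : F)) =
      ((P⁻¹ : Matrix.GeneralLinearGroup (Fin n) F) : Matrix (Fin n) (Fin n) F) *ᵥ v from funext hp,
    Matrix.mulVec_mulVec, Units.mul_inv, Matrix.one_mulVec]

theorem exists_subfield_matrix {g : Matrix.GeneralLinearGroup (Fin n) F} {l : F} (hl : l ≠ 0)
    (hg : ∀ x, ∃ y, (g : Matrix (Fin n) (Fin n) F) *ᵥ rat F₀ P x = l • rat F₀ P y) :
    g ∈ Cfsg.Geo.subfieldSubgroup F₀ P := by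
  classical
  choose A hA using hg
  let L : (Fin n → F₀) →ₗ[F₀] (Fin n → F₀) :=
    { toFun := A
      map_add' := fun x y => rat_injective (P := P) (smul_right_injective (Fin n → F) hl (by
        simp only [← hA, rat_add, Matrix.mulVec_add, smul_add]))
      map_smul' := fun c x => rat_injective (P := P) (smul_right_injective (Fin n → F) hl (by
        simp only [RingHom.id_apply, ← hA, rat_smul, Matrix.mulVec_smul]
        rw [smul_comm, ← hA])) }
  have hLinj : Function.Injective L := fun x y hxy => rat_injective (P := P) (by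
    have : (g : Matrix (Fin n) (Fin n) F) *ᵥ rat F₀ P x = (g : Matrix (Fin n) (Fin n) F) *ᵥ rat F₀ P y := by
      rw [hA, hA, show A x = A y from hxy]
    have e := congrArg (((g⁻¹ : Matrix.GeneralLinearGroup (Fin n) F) : Matrix (Fin n) (Fin n) F) *ᵥ ·) this
    simpa [Matrix.mulVec_mulVec] using e)
  let A₀ : Matrix.GeneralLinearGroup (Fin n) F₀ :=
    Matrix.GeneralLinearGroup.toLin.symm (LinearMap.GeneralLinearGroup.ofLinearEquiv
      (LinearEquiv.ofInjectiveEndo L hLinj))
  have hA₀ : ∀ x, (A₀ : Matrix (Fin n) (Fin n) F₀) *ᵥ x = A x := fun x => by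
    show (LinearMap.toMatrix' L) *ᵥ x = L x
    rw [LinearMap.toMatrix'_mulVec]
  refine ⟨Matrix.GeneralLinearGroup.map (F₀.subtype : F₀ →+* F) A₀ *
    Units.map (Matrix.scalar (Fin n) : F →+* Matrix (Fin n) (Fin n) F).toMonoidHom (Units.mk0 l hl),
    Subgroup.mul_mem_sup ⟨A₀, rfl⟩ ⟨Units.mk0 l hl, rfl⟩, ?_⟩
  show P * _ * P⁻¹ = g
  rw [mul_inv_eq_iff_eq_mul]
  refine Units.ext (Matrix.ext fun i j => ?_)
  have e := congrFun (hA (Pi.single j 1)) i
  rw [rat, rat, Matrix.mulVec_mulVec, ← Matrix.mulVec_smul] at e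
  have hone : (fun i => ((Pi.single j (1 : F₀) : Fin n → F₀) i : F)) = Pi.single j 1 := by
    ext i; by_cases h : i = j <;> simp [h]
  rw [hone, Matrix.mulVec_single_one, ← hA₀, Matrix.mulVec_single_one] at e
  rw [Units.val_mul, Units.val_mul]
  refine Eq.trans ?_ e.symm
  simp [Matrix.mul_apply, Matrix.mulVec, dotProduct, Matrix.scalar, Matrix.diagonal_apply, mul_comm]

theorem rat_line_of_mem {g : Matrix.GeneralLinearGroup (Fin n) F}
    (hg : g ∈ Cfsg.Geo.subfieldSubgroup F₀ P) :
    ∀ x, ∃ (l : F) (y : Fin n → F₀), (g : Matrix (Fin n) (Fin n) F) *ᵥ rat F₀ P x = l • rat F₀ P y := by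
  obtain ⟨g', hg', rfl⟩ := hg
  intro x
  obtain ⟨_, ⟨A, rfl⟩, c, hc, rfl⟩ := Subgroup.mem_sup_of_normal_right.1 hg'
  obtain ⟨l, hl⟩ := (Cfsg.Geo.mem_scalars_iff c).1 hc
  refine ⟨l, (A : Matrix (Fin n) (Fin n) F₀) *ᵥ x, ?_⟩
  show ((P * (_ * c) * P⁻¹ : Matrix.GeneralLinearGroup (Fin n) F) : Matrix (Fin n) (Fin n) F) *ᵥ _ = _
  rw [Units.val_mul, Units.val_mul, ← Matrix.mulVec_mulVec, inv_rat, Units.val_mul, hl, Matrix.mul_smul,
    Matrix.mul_one, Matrix.mul_smul, Matrix.smul_mulVec, ← Matrix.mulVec_mulVec, rat]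
  congr 2
  exact (funext fun i => RingHom.map_mulVec F₀.subtype _ _ i).symm

/-- Symplectic subfield subgroups are maximal in SU. -/
theorem isMaximalIn_subfield (hF : Fintype.card F = q ^ 2) (hn : 4 ≤ n)
    (hcard : Fintype.card F = Nat.card F₀ ^ 2) {ζ : F} (hζ0 : ζ ≠ 0) (hζ : ζ + ζ ^ q = 0)
    (hP : Cfsg.Geo.IsFormRationalStructure (Cfsg.hermForm n F q) F₀ ζ P)
    (halt : ∀ x, Cfsg.hermForm n F q (rat F₀ P x) (rat F₀ P x) = 0) :
    Cfsg.Geo.IsMaximalIn (Cfsg.GU n F q ⊓ Cfsg.Geo.specialLinear (Fin n) F)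
      (Cfsg.Geo.subfieldSubgroup F₀ P ⊓ (Cfsg.GU n F q ⊓ Cfsg.Geo.specialLinear (Fin n) F)) := by
  have h := hermStd_isHerm (n := n) hF
  set B := hermStd n hF with hB
  have hσζ : powHom hF ζ = -ζ := by
    rw [powHom_apply]
    linear_combination hζ
  have hrange : ∀ x y, ζ * B (rat F₀ P y) (rat F₀ P x) ∈ F₀ := fun x y =>
    hP _ _ (fun i => (x i).2) (fun i => (y i).2)
  let ω : LinearMap.BilinForm F₀ (Fin n → F₀) :=
    LinearMap.mk₂ F₀ (fun x y => (⟨ζ * B (rat F₀ P y) (rat F₀ P x), hrange x y⟩ : F₀))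
      (fun x x' y => Subtype.ext (by simp [rat_add, mul_add]))
      (fun c x y => Subtype.ext (by simp [rat_smul, mul_left_comm]))
      (fun x y y' => Subtype.ext (by simp [rat_add, mul_add]))
      (fun c x y => Subtype.ext (by
        have hc : powHom hF (c : F) = c := by
          rw [powHom_apply]
          have : q = Nat.card F₀ := Nat.pow_left_injective two_ne_zero (hF.symm.trans hcard)
          rw [this]
          have : Fintype F₀ := Fintype.ofFinite F₀
          rw [Nat.card_eq_fintype_card]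
          exact congrArg Subtype.val (FiniteField.pow_card c)
        simp only [rat_smul, smul_left, hc, RingHom.id_apply, smul_eq_mul, Subfield.coe_mul]
        ring))
  have hω : ∀ x y, B (rat F₀ P x) (rat F₀ P y) = (ω y x : F) / ζ := fun x y => by
    rw [eq_div_iff hζ0, mul_comm]
    rfl
  have hfix : F₀ = fixedSub (powHom hF) := by
    have hq : q = Nat.card F₀ := Nat.pow_left_injective two_ne_zero (hF.symm.trans hcard)
    have : Fintype F₀ := Fintype.ofFinite F₀
    refine SetLike.coe_injective (Set.eq_of_subset_of_ncard_le (fun c hc => ?_) ?_)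
    · rw [SetLike.mem_coe, mem_fixedSub, powHom_apply, hq, Nat.card_eq_fintype_card]
      exact congrArg Subtype.val (FiniteField.pow_card (⟨c, hc⟩ : F₀))
    · rw [← Nat.card_coe_set_eq, ← Nat.card_coe_set_eq, SetLike.coe_sort_coe, SetLike.coe_sort_coe, ← hq,
        card_fixed_powHom hF]
  obtain ⟨θ, hθσ⟩ := h.invol.exists_ne
  have hθ : θ ∉ F₀ := fun hm => hθσ (by rw [hfix] at hm; exact hm)
  have hA : ω.IsAlt := fun x => Subtype.ext (show ζ * B (rat F₀ P x) (rat F₀ P x) = 0 by
    rw [show B (rat F₀ P x) (rat F₀ P x) = 0 from halt x, mul_zero])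
  have hωnd : ω.Nondegenerate := by
    refine LinearMap.IsRefl.nondegenerate_iff_separatingLeft hA.isRefl |>.2 fun x hx => rat_injective (P := P) ?_
    rw [rat_zero]
    refine h.nondeg _ fun v => ?_
    obtain ⟨a, b, rfl⟩ := exists_split (P := P) hcard.symm hθ v
    rw [map_add, map_smul, hω, hω, show ω a x = 0 from by rw [← LinearMap.BilinForm.IsAlt.neg_eq hA, hx, neg_zero],
      show ω b x = 0 from by rw [← LinearMap.BilinForm.IsAlt.neg_eq hA, hx, neg_zero]]
    simp
  have hiso : ∀ a b, B (rat F₀ P a + θ • rat F₀ P b) (rat F₀ P a + θ • rat F₀ P b) = 0 → ω a b = 0 := by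
    intro a b h0
    simp only [map_add, LinearMap.add_apply, smul_left, smul_right, hω, hA a, hA b] at h0
    rw [← LinearMap.BilinForm.IsAlt.neg_eq hA a b] at h0
    have hne : powHom hF θ - θ ≠ 0 := sub_ne_zero.2 hθσ
    have : (powHom hF θ - θ) * (ω a b : F) = 0 := by
      push_cast at h0
      field_simp at h0
      linear_combination h0
    exact Subtype.ext ((mul_eq_zero.1 this).resolve_left hne)
  let e := guEquiv n hF
  have hS : ∀ g : Cfsg.GU n F q, (g : GL (Fin n) F) ∈ Cfsg.Geo.specialLinear (Fin n) F ↔ e g ∈ HSU B := by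
    intro g
    rw [MonoidHom.mem_ker, Units.ext_iff]
    show Matrix.GeneralLinearGroup.det (g : GL (Fin n) F) = 1 ↔ _
    rw [Units.ext_iff, guEquiv_det]
    rfl
  -- transvections at rational centres
  have hrat : ∀ (v : Fin n → F₀) (hv : B (rat F₀ P v) (rat F₀ P v) = 0) (c : F) (hc : c + powHom hF c = 0),
      ((e.symm (h.tr hv hc) : Cfsg.GU n F q) : GL (Fin n) F) ∈
        Cfsg.Geo.subfieldSubgroup F₀ P ⊓ (Cfsg.GU n F q ⊓ Cfsg.Geo.specialLinear (Fin n) F) := by
    intro v hv c hc
    have hc0 : c / ζ ∈ F₀ := by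
      rw [hfix, mem_fixedSub, map_div₀, hσζ, eq_neg_of_add_eq_zero_right hc, neg_div_neg_eq]
    refine ⟨exists_subfield_matrix one_ne_zero fun x => ⟨x + ((⟨c / ζ, hc0⟩ : F₀) * ω x v) • v, ?_⟩,
      (e.symm (h.tr hv hc)).2, (hS _).2 (by rw [MulEquiv.apply_symm_apply]; exact h.det_tr hv hc)⟩
    rw [one_smul, ← guEquiv_apply hF, show guEquiv n hF (e.symm (h.tr hv hc)) = h.tr hv hc from e.apply_symm_apply _,
      h.tr_apply, hω, rat_add, rat_smul]
    congr 2
    simp only [Subfield.coe_mul]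
    field_simp
  refine ⟨lt_of_le_of_ne inf_le_right fun heq => ?_, fun M hM hMS => ?_⟩
  · obtain ⟨a, ha⟩ : ∃ a : Fin n → F₀, a ≠ 0 := ⟨Pi.single ⟨0, by omega⟩ 1, fun h0 => by
      simpa using congrFun h0 ⟨0, by omega⟩⟩
    obtain ⟨b, hab, hb⟩ : ∃ b, ω a b = 0 ∧ b ∉ Submodule.span F₀ {a} := by
      by_contra! hc
      have h1 := Submodule.finrank_mono (show LinearMap.ker (ω a) ≤ Submodule.span F₀ {a} from fun x hx => hc x hx)
      have h2 := LinearMap.finrank_range_add_finrank_ker (ω a)
      have h3 := Submodule.finrank_le (LinearMap.range (ω a))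
      rw [finrank_span_singleton ha] at h1
      rw [Module.finrank_self] at h3
      rw [Module.finrank_fin_fun] at h2
      omega
    obtain ⟨p, hpb, hpa⟩ : ∃ p, ω b p = 0 ∧ ω a p ≠ 0 := by
      by_contra! hc
      obtain ⟨p₀, hp₀⟩ : ∃ p, ω b p ≠ 0 := by
        by_contra! hc'
        exact hb (by rw [hωnd.1 b hc']; exact zero_mem _)
      refine hb (Submodule.mem_span_singleton.2 ⟨ω b p₀ / ω a p₀, ?_⟩)
      have hne : ω a p₀ ≠ 0 := by
        intro h0
        refine ha (hωnd.1 a fun y => ?_)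
        have := hc (y - (ω b y / ω b p₀) • p₀) (by simp [hp₀])
        simpa [h0] using this
      refine sub_eq_zero.1 (hωnd.1 _ fun y => ?_)
      have := hc (y - (ω b y / ω b p₀) • p₀) (by simp [hp₀])
      simp only [map_sub, map_smul, smul_eq_mul] at this
      simp only [map_sub, map_smul, LinearMap.sub_apply, LinearMap.smul_apply, smul_eq_mul]
      field_simp at this ⊢
      linear_combination this
    set u := rat F₀ P a + θ • rat F₀ P b with hu
    have huu : B u u = 0 := by
      simp only [hu, map_add, LinearMap.add_apply, smul_left, smul_right, hω, hA a, hA b]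
      rw [← LinearMap.BilinForm.IsAlt.neg_eq hA a b, hab]
      simp
    have hmem : ((e.symm (h.tr huu (c := ζ) (by rw [hσζ, add_neg_cancel])) : Cfsg.GU n F q) : GL (Fin n) F) ∈
        Cfsg.GU n F q ⊓ Cfsg.Geo.specialLinear (Fin n) F :=
      ⟨(e.symm _).2, (hS _).2 (by rw [MulEquiv.apply_symm_apply]; exact h.det_tr _ _)⟩
    obtain ⟨l, y, hy⟩ := rat_line_of_mem (heq.ge hmem).1 p
    rw [← guEquiv_apply hF, show guEquiv n hF (e.symm _) = _ from e.apply_symm_apply _, h.tr_apply] at hy
    have hk : ζ * B u (rat F₀ P p) ≠ 0 := by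
      refine mul_ne_zero hζ0 ?_
      simp only [hu, map_add, LinearMap.add_apply, smul_left, hω]
      rw [← LinearMap.BilinForm.IsAlt.neg_eq hA b p, hpb, ← LinearMap.BilinForm.IsAlt.neg_eq hA a p]
      simp [hζ0, hpa]
    set k := ζ * B u (rat F₀ P p)
    have hy' := congrArg (((P⁻¹ : Matrix.GeneralLinearGroup (Fin n) F) : Matrix (Fin n) (Fin n) F) *ᵥ ·) hy
    simp only [hu, Matrix.mulVec_add, Matrix.mulVec_smul, inv_rat] at hy'
    have hφ : ∀ φ : (Fin n → F₀) →ₗ[F₀] F₀,
        (φ p : F) + k * ((φ a : F) + θ * (φ b : F)) = l * (φ y : F) := by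
      intro φ
      have hφe : ∀ z : Fin n → F₀, (φ z : F) = ∑ i, (z i : F) * (φ (Pi.single i 1) : F) := fun z => by
        conv_lhs => rw [pi_eq_sum_univ' z]
        rw [map_sum]
        push_cast
        exact Finset.sum_congr rfl fun i _ => by rw [map_smul]; rfl
      rw [hφe p, hφe a, hφe b, hφe y, Finset.mul_sum, Finset.mul_sum, ← Finset.sum_add_distrib,
        Finset.mul_sum, ← Finset.sum_add_distrib]
      refine Finset.sum_congr rfl fun i _ => ?_
      have := congrFun hy' i
      simp only [Pi.add_apply, Pi.smul_apply, smul_eq_mul] at this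
      linear_combination (φ (Pi.single i 1) : F) * this
    have hli : LinearIndependent F₀ ![p, a, b] := by
      rw [Fintype.linearIndependent_iff]
      intro g hg
      simp only [Fin.sum_univ_three, Matrix.cons_val_zero, Matrix.cons_val_one, Matrix.cons_val_two,
        Matrix.tail_cons, Matrix.head_cons] at hg
      have e0 := congrArg (ω a) hg
      simp only [map_add, map_smul, map_zero, hA a, hab, smul_eq_mul, mul_zero, add_zero] at e0
      have g0 : g 0 = 0 := (mul_eq_zero.1 e0).resolve_right hpa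
      rw [g0, zero_smul, zero_add] at hg
      have g2 : g 2 = 0 := by
        by_contra h2
        refine hb (Submodule.mem_span_singleton.2 ⟨-(g 1) / g 2, ?_⟩)
        rw [div_eq_inv_mul, ← smul_smul, neg_smul, neg_eq_of_add_eq_zero_right hg, inv_smul_smul₀ h2]
      rw [g2, zero_smul, add_zero] at hg
      intro i
      fin_cases i
      · exact g0
      · exact (smul_eq_zero.1 hg).resolve_right ha
      · exact g2
    obtain ⟨L, hL⟩ := LinearMap.exists_leftInverse_of_injective (Fintype.linearCombination F₀ ![p, a, b])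
      (LinearMap.ker_eq_bot.2 (linearIndependent_iff_injective_fintypeLinearCombination.1 hli))
    have hLv : ∀ i, L (![p, a, b] i) = Pi.single i 1 := fun i => by
      have := LinearMap.congr_fun hL (Pi.single i 1)
      rwa [LinearMap.comp_apply, Fintype.linearCombination_apply_single, one_smul] at this
    have hLp : L p = Pi.single 0 1 := hLv 0
    have hLa : L a = Pi.single 1 1 := hLv 1
    have hLb : L b = Pi.single 2 1 := hLv 2
    have e1 := hφ ((LinearMap.proj 0).comp L)
    have e2 := hφ ((LinearMap.proj 1).comp L)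
    have e3 := hφ ((LinearMap.proj 2).comp L)
    simp only [LinearMap.comp_apply, LinearMap.proj_apply, hLp, hLa, hLb] at e1 e2 e3
    simp at e1 e2 e3
    have hl0 : (L y 0 : F) ≠ 0 := fun h0 => by rw [h0, mul_zero] at e1; exact one_ne_zero e1
    have hl : l ∈ F₀ := by
      rw [show l = (L y 0 : F)⁻¹ from eq_inv_of_mul_eq_one_left e1.symm]
      exact inv_mem (L y 0).2
    have hk₀ : k ∈ F₀ := by rw [e2]; exact mul_mem hl (L y 1).2
    exact hθ (by
      rw [show θ = l * (L y 2 : F) / k from by rw [← e3]; field_simp]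
      exact div_mem (mul_mem hl (L y 2).2) hk₀)
  refine (eq_or_lt_of_le hM).imp Eq.symm fun hlt => le_antisymm hMS ?_
  obtain ⟨g, hgM, hgn⟩ := SetLike.exists_of_lt hlt
  set K : Subgroup (HU B) := (M.subgroupOf (Cfsg.GU n F q)).map e.toMonoidHom with hK
  have hmem : ∀ g : Cfsg.GU n F q, e g ∈ K ↔ (g : GL (Fin n) F) ∈ M := fun g => by
    rw [hK, Subgroup.mem_map_equiv, MulEquiv.symm_apply_apply, Subgroup.mem_subgroupOf]
  have hratK : ∀ v, HasTr h K (rat F₀ P v) := fun v hv c hc => by
    rw [← e.apply_symm_apply (h.tr hv hc), hmem]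
    exact hM (hrat v hv c hc)
  -- the symplectic group of the rational structure acts inside K
  have hlift : ∀ s : Symp.Sp ω, ∃ k ∈ K, ∀ x, (k : (Fin n → F) ≃ₗ[F] (Fin n → F)) (rat F₀ P x) =
      rat F₀ P ((s : (Fin n → F₀) ≃ₗ[F₀] (Fin n → F₀)) x) := by
    intro s
    have hs : s ∈ Symp.trGroup hA (⊤ : Submodule F₀ (Fin n → F₀)) := by
      rw [Symp.trGroup_eq_top hA hωnd]; trivial
    induction hs using Subgroup.closure_induction with
    | mem y hy =>
      obtain ⟨v, -, c, rfl⟩ := hy
      have hv : B (rat F₀ P v) (rat F₀ P v) = 0 := halt v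
      have hc : (c : F) * ζ + powHom hF ((c : F) * ζ) = 0 := by
        have : powHom hF (c : F) = c := by
          exact hfix.le c.2
        rw [map_mul, this, hσζ]
        ring
      refine ⟨h.tr hv hc, hratK v hv _ hc, fun x => ?_⟩
      rw [h.tr_apply, Symp.tr_apply, rat_add, rat_smul, hω]
      congr 2
      simp only [Subfield.coe_mul]
      field_simp
    | one => exact ⟨1, one_mem _, fun x => rfl⟩
    | mul y z _ _ hy hz =>
      obtain ⟨k, hk, ek⟩ := hy
      obtain ⟨k', hk', ek'⟩ := hz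
      exact ⟨k * k', mul_mem hk hk', fun x => by simp [ek, ek']⟩
    | inv y _ hy =>
      obtain ⟨k, hk, ek⟩ := hy
      refine ⟨k⁻¹, inv_mem hk, fun x => (k : (Fin n → F) ≃ₗ[F] (Fin n → F)).injective ?_⟩
      simp [ek]
  -- g moves a rational line off the rational lines
  obtain ⟨x₀, a, b, hgx, hli⟩ : ∃ x₀ a b, (g : Matrix (Fin n) (Fin n) F) *ᵥ rat F₀ P x₀ =
      rat F₀ P a + θ • rat F₀ P b ∧ LinearIndependent F₀ ![a, b] := by
    by_contra! hcon
    have hline : ∀ x, ∃ (l : F) (y : Fin n → F₀), (g : Matrix (Fin n) (Fin n) F) *ᵥ rat F₀ P x = l • rat F₀ P y := by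
      intro x
      obtain ⟨a, b, hab⟩ := exists_split (P := P) hcard.symm hθ ((g : Matrix (Fin n) (Fin n) F) *ᵥ rat F₀ P x)
      have hd := hcon x a b hab
      rw [LinearIndependent.pair_iff] at hd
      push Not at hd
      obtain ⟨s, t, hst, hne⟩ := hd
      by_cases ht : t = 0
      · have hs : s ≠ 0 := fun h0 => hne h0 ht
        rw [ht, zero_smul, add_zero] at hst
        exact ⟨θ, b, by rw [hab, (smul_eq_zero.1 hst).resolve_left hs, rat_zero, zero_add]⟩
      · refine ⟨1 + θ * ((-(s / t) : F₀) : F), a, ?_⟩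
        have hb : b = (-(s / t)) • a := by
          rw [div_eq_inv_mul, neg_smul, ← smul_smul, ← smul_neg, neg_eq_of_add_eq_zero_right hst, inv_smul_smul₀ ht]
        rw [hab, hb, rat_smul, smul_smul, add_smul, one_smul]
    choose l y hly using hline
    have hgi : ∀ v, (g : Matrix (Fin n) (Fin n) F) *ᵥ v = 0 → v = 0 := fun v hv => by
      have e := congrArg (((g⁻¹ : Matrix.GeneralLinearGroup (Fin n) F) : Matrix (Fin n) (Fin n) F) *ᵥ ·) hv
      simpa [Matrix.mulVec_mulVec] using e
    have hx0 : ∀ x, x ≠ 0 → l x ≠ 0 ∧ y x ≠ 0 := fun x hx => by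
      refine ⟨fun h0 => hx ?_, fun h0 => hx ?_⟩ <;> refine rat_injective (P := P) ?_ <;>
        rw [rat_zero] <;> refine hgi _ ?_ <;> rw [hly, h0] <;> simp [rat_zero]
    obtain ⟨x₁, hx₁⟩ : ∃ a : Fin n → F₀, a ≠ 0 := ⟨Pi.single ⟨0, by omega⟩ 1, fun h0 => by
      simpa using congrFun h0 ⟨0, by omega⟩⟩
    obtain ⟨hl₁, hy₁⟩ := hx0 x₁ hx₁
    refine hgn ⟨exists_subfield_matrix hl₁ fun x => ?_, hMS hgM⟩
    suffices ∀ x, x ∉ Submodule.span F₀ {x₁} → ∃ z, (g : Matrix (Fin n) (Fin n) F) *ᵥ rat F₀ P x = l x₁ • rat F₀ P z by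
      by_cases hx : x ∈ Submodule.span F₀ {x₁}
      · obtain ⟨c, rfl⟩ := Submodule.mem_span_singleton.1 hx
        exact ⟨c • y x₁, by rw [rat_smul, Matrix.mulVec_smul, hly, rat_smul, smul_comm]⟩
      · exact this x hx
    intro x hx
    obtain ⟨hl, hyx⟩ := hx0 x fun h0 => hx (by rw [h0]; exact zero_mem _)
    have hind : y x ∉ Submodule.span F₀ {y x₁} := by
      intro hm
      obtain ⟨c, hc⟩ := Submodule.mem_span_singleton.1 hm
      set μ := l x * (c : F) / l x₁ with hμ
      have e0 : rat F₀ P x = μ • rat F₀ P x₁ := by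
        refine sub_eq_zero.1 (hgi _ ?_)
        rw [Matrix.mulVec_sub, Matrix.mulVec_smul, hly, hly, ← hc, rat_smul, smul_smul, smul_smul, hμ,
          div_mul_cancel₀ _ hl₁, sub_self]
      obtain ⟨i, hi⟩ := Function.ne_iff.1 hx₁
      have e1 := congrArg (((P⁻¹ : Matrix.GeneralLinearGroup (Fin n) F) : Matrix (Fin n) (Fin n) F) *ᵥ ·) e0
      simp only [Matrix.mulVec_smul, inv_rat] at e1
      have hμi : μ = (x i : F) / (x₁ i : F) := by
        rw [eq_div_iff (fun h0 => hi (Subtype.ext h0))]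
        exact (congrFun e1 i).symm
      refine hx (Submodule.mem_span_singleton.2 ⟨x i / x₁ i, funext fun j => Subtype.ext ?_⟩)
      have := congrFun e1 j
      rw [hμi] at this
      simpa using this.symm
    have e1 := hly (x₁ + x)
    rw [rat_add, Matrix.mulVec_add, hly, hly] at e1
    set m := l (x₁ + x)
    have e2 := congrArg (((P⁻¹ : Matrix.GeneralLinearGroup (Fin n) F) : Matrix (Fin n) (Fin n) F) *ᵥ ·) e1
    simp only [Matrix.mulVec_add, Matrix.mulVec_smul, inv_rat] at e2
    obtain ⟨L, hL⟩ := LinearMap.exists_leftInverse_of_injective (Fintype.linearCombination F₀ ![y x, y x₁])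
      (LinearMap.ker_eq_bot.2 (linearIndependent_iff_injective_fintypeLinearCombination.1 (by
        rw [show (![y x, y x₁] : Fin 2 → Fin n → F₀) = Fin.cons (y x) ![y x₁] from rfl, linearIndependent_finCons]
        exact ⟨LinearIndependent.of_subsingleton 0 (by simpa using hy₁), by simpa using hind⟩)))
    have hLx : L (y x) = Pi.single 0 1 := by
      have := LinearMap.congr_fun hL (Pi.single 0 1)
      rwa [LinearMap.comp_apply, Fintype.linearCombination_apply_single, one_smul] at this
    have hLx₁ : L (y x₁) = Pi.single 1 1 := by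
      have := LinearMap.congr_fun hL (Pi.single 1 1)
      rwa [LinearMap.comp_apply, Fintype.linearCombination_apply_single, one_smul] at this
    have hφ : ∀ φ : (Fin n → F₀) →ₗ[F₀] F₀, l x₁ * (φ (y x₁) : F) + l x * (φ (y x) : F) =
        m * (φ (y (x₁ + x)) : F) := by
      intro φ
      have hφe : ∀ z : Fin n → F₀, (φ z : F) = ∑ i, (z i : F) * (φ (Pi.single i 1) : F) := fun z => by
        conv_lhs => rw [pi_eq_sum_univ' z]
        rw [map_sum]
        push_cast
        exact Finset.sum_congr rfl fun i _ => by rw [map_smul]; rfl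
      rw [hφe, hφe (y x), hφe (y (x₁ + x)), Finset.mul_sum, Finset.mul_sum, ← Finset.sum_add_distrib,
        Finset.mul_sum]
      refine Finset.sum_congr rfl fun i _ => ?_
      have := congrFun e2 i
      simp only [Pi.add_apply, Pi.smul_apply, smul_eq_mul] at this
      linear_combination (φ (Pi.single i 1) : F) * this
    have f1 := hφ ((LinearMap.proj 0).comp L)
    have f2 := hφ ((LinearMap.proj 1).comp L)
    simp [hLx, hLx₁] at f1 f2
    set z := y (x₁ + x)
    have hz1 : (L z 1 : F) ≠ 0 := fun h0 => hl₁ (by rw [f2, h0, mul_zero])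
    refine ⟨((L z 0) / (L z 1)) • y x, ?_⟩
    rw [hly, rat_smul, smul_smul, f2, f1]
    congr 1
    push_cast
    field_simp
  set u := rat F₀ P a + θ • rat F₀ P b with hu
  have huK : HasTr h K u := by
    have := (hratK x₀).conj h (g := e ⟨g, (hMS hgM).1⟩) ((hmem _).2 hgM)
    rwa [guEquiv_apply, hgx] at this
  have huu : B u u = 0 := by
    rw [← hgx, ← guEquiv_apply hF ⟨g, (hMS hgM).1⟩, HU.map_eq]
    exact halt x₀
  have hall : ∀ v, HasTr h K v := by
    intro v hvv c hc
    obtain ⟨a', b', rfl⟩ := exists_split (P := P) hcard.symm hθ v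
    by_cases hd : LinearIndependent F₀ ![a', b']
    · have iso : ∀ p r : Fin n → F₀, ω p r = 0 → ∀ i j, ω (![p, r] i) (![p, r] j) = 0 := by
        intro p r hpr i j
        fin_cases i <;> fin_cases j
        · exact hA p
        · exact hpr
        · rw [← LinearMap.BilinForm.IsAlt.neg_eq hA]
          simpa using hpr
        · exact hA r
      obtain ⟨s, hs⟩ := Symp.exists_map_isoTuples hA hωnd
        (v := ![a, b]) (v' := ![a', b']) ⟨hli, iso a b (hiso a b huu)⟩ ⟨hd, iso a' b' (hiso a' b' hvv)⟩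
      obtain ⟨k, hk, ek⟩ := hlift s
      have := huK.conj h hk
      rw [hu, map_add, map_smul, ek, ek, show (s : (Fin n → F₀) ≃ₗ[F₀] (Fin n → F₀)) a = a' from hs 0,
        show (s : (Fin n → F₀) ≃ₗ[F₀] (Fin n → F₀)) b = b' from hs 1] at this
      exact this hvv c hc
    · rw [LinearIndependent.pair_iff] at hd
      push Not at hd
      obtain ⟨s, t, hst, hne⟩ := hd
      by_cases ht : t = 0
      · have hs : s ≠ 0 := fun h0 => hne h0 ht
        rw [ht, zero_smul, add_zero] at hst
        have ha' : a' = 0 := (smul_eq_zero.1 hst).resolve_left hs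
        have hθ0 : θ ≠ 0 := fun h0 => hθ (h0 ▸ zero_mem _)
        have key : HasTr h K (θ • rat F₀ P b') := by
          refine HasTr.of_smul h (inv_ne_zero hθ0) ?_
          rw [smul_smul, inv_mul_cancel₀ hθ0, one_smul]
          exact hratK b'
        rw [← zero_add (θ • rat F₀ P b'), ← rat_zero (P := P), ← ha'] at key
        exact key hvv c hc
      · have hb : b' = (-(s / t)) • a' := by
          rw [div_eq_inv_mul, neg_smul, ← smul_smul, ← smul_neg, neg_eq_of_add_eq_zero_right hst, inv_smul_smul₀ ht]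
        set m := 1 + θ * ((-(s / t) : F₀) : F) with hm
        have hm0 : m ≠ 0 := fun h0 => hθ (by
          have hne : ((-(s / t) : F₀) : F) ≠ 0 := fun h1 => one_ne_zero (α := F) (by
            rwa [hm, h1, mul_zero, add_zero] at h0)
          rw [show θ = -1 / ((-(s / t) : F₀) : F) from by field_simp; linear_combination h0]
          exact div_mem (neg_mem (one_mem _)) (SetLike.coe_mem _))
        have key : HasTr h K (m • rat F₀ P a') := by
          refine HasTr.of_smul h (inv_ne_zero hm0) ?_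
          rw [smul_smul, inv_mul_cancel₀ hm0, one_smul]
          exact hratK a'
        rw [hm, add_smul, one_smul, ← smul_smul, ← rat_smul, ← hb] at key
        exact key hvv c hc
  have hfull : HSU B ≤ K := le_of_hasTr h (by rw [Module.finrank_fin_fun]; omega) hall
  intro x hx
  exact (hmem ⟨x, hx.1⟩).1 (hfull ((hS ⟨x, hx.1⟩).1 hx.2))

end CfsgLib.Geo.UnitSympSub
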