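/-
Unitary groups over a subfield of odd prime degree: spreading one new transvection.
-/
import Cfsg.Agent.Lib.Geo.UnitarySympSubfield
import Cfsg.Agent.Lib.Geo.SympSubfieldMaximal

set_option autoImplicit false

namespace CfsgLib.Geo.UnitSub

open Matrix CfsgLib.Classical CfsgLib.Classical.Herm CfsgLib.Geo.UnitMax CfsgLib.Geo.UnitSympSub

variable {n : ℕ} {F : Type*} [Field F] {σ : F →+* F} {F₀ : Subfield F} {σ₀ : F₀ →+* F₀}

/-- The form restricted to the rational vectors. -/
structure Setup (B : (Fin n → F) →ₛₗ[σ] (Fin n → F) →ₗ[F] F) (F₀ : Subfield F)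
    (P : Matrix.GeneralLinearGroup (Fin n) F) (σ₀ : F₀ →+* F₀)
    (B₀ : (Fin n → F₀) →ₛₗ[σ₀] (Fin n → F₀) →ₗ[F₀] F₀) : Prop where
  herm : IsHerm B
  herm₀ : IsHerm B₀
  comm : ∀ c : F₀, σ (c : F) = ((σ₀ c : F₀) : F)
  val : ∀ x y, B (rat F₀ P x) (rat F₀ P y) = ((B₀ x y : F₀) : F)
  dim : 4 ≤ n
  deg : ∃ r : ℕ, r.Prime ∧ r ≠ 2 ∧ Nat.card F = Nat.card F₀ ^ r

variable {B : (Fin n → F) →ₛₗ[σ] (Fin n → F) →ₗ[F] F} {P : Matrix.GeneralLinearGroup (Fin n) F}
  {B₀ : (Fin n → F₀) →ₛₗ[σ₀] (Fin n → F₀) →ₗ[F₀] F₀} (s : Setup B F₀ P σ₀ B₀)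
include s

theorem Setup.val_zero {x y : Fin n → F₀} (h : B₀ x y = 0) : B (rat F₀ P x) (rat F₀ P y) = 0 := by
  rw [s.val, h, ZeroMemClass.coe_zero]

theorem Setup.val_one {x y : Fin n → F₀} (h : B₀ x y = 1) : B (rat F₀ P x) (rat F₀ P y) = 1 := by
  rw [s.val, h, OneMemClass.coe_one]

theorem Setup.rat_ne_zero {w : Fin n → F₀} (hw : w ≠ 0) : rat F₀ P w ≠ 0 := fun h =>
  hw (rat_injective (P := P) (by rw [h, rat_zero]))

theorem Setup.sum_rat (v : Fin n → F) :
    v = ∑ i, ((((P⁻¹ : Matrix.GeneralLinearGroup (Fin n) F) : Matrix (Fin n) (Fin n) F) *ᵥ v) i) •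
      rat F₀ P (Pi.single i 1) := by
  set v' := ((P⁻¹ : Matrix.GeneralLinearGroup (Fin n) F) : Matrix (Fin n) (Fin n) F) *ᵥ v with hv'
  have hone : ∀ i : Fin n, (fun j => ((Pi.single i (1 : F₀) : Fin n → F₀) j : F)) = Pi.single i 1 := fun i => by
    ext j
    by_cases h : j = i <;> simp [h]
  simp only [rat, hone, ← Matrix.mulVec_smul, ← Matrix.mulVec_sum]
  rw [← pi_eq_sum_univ' v', hv', Matrix.mulVec_mulVec, Units.mul_inv, Matrix.one_mulVec]

theorem Setup.ext {u v : Fin n → F} (h : ∀ z, B (rat F₀ P z) u = B (rat F₀ P z) v) : u = v := by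
  rw [← sub_eq_zero]
  refine s.herm.nondeg _ fun y => ?_
  rw [s.sum_rat y, map_sum]
  refine Finset.sum_eq_zero fun i _ => ?_
  rw [smul_right, show B (u - v) (rat F₀ P (Pi.single i 1)) = 0 from s.herm.eq_zero_symm (by
    rw [map_sub, h, sub_self]), mul_zero]

theorem Setup.ext_map {g g' : HU B} (h : ∀ z, (g : (Fin n → F) ≃ₗ[F] (Fin n → F)) (rat F₀ P z) =
    (g' : (Fin n → F) ≃ₗ[F] (Fin n → F)) (rat F₀ P z)) : g = g' := by
  refine Subtype.ext (LinearEquiv.ext fun v => ?_)
  rw [s.sum_rat v, map_sum, map_sum]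
  exact Finset.sum_congr rfl fun i _ => by rw [LinearEquiv.map_smul, LinearEquiv.map_smul, h]

theorem Setup.skew_coe {c : F₀} (hc : c + σ₀ c = 0) : (c : F) + σ (c : F) = 0 := by
  rw [s.comm, ← Subfield.coe_add, hc, ZeroMemClass.coe_zero]

theorem Setup.skew_mem {c : F} (hc : c + σ c = 0) (h : c ∈ F₀) :
    (⟨c, h⟩ : F₀) + σ₀ ⟨c, h⟩ = 0 := Subtype.ext (by
  rw [Subfield.coe_add, ← s.comm, hc, ZeroMemClass.coe_zero])

variable [Finite F]

/-- A vector orthogonal to everything orthogonal to given vectors lies in their span. -/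
theorem orth_le_span {k : ℕ} (v : Fin k → Fin n → F₀) :
    s.herm₀.orth (LinearMap.ker (LinearMap.pi fun i => B₀ (v i))) ≤ Submodule.span F₀ (Set.range v) := by
  have h := s.herm₀
  set L : Submodule F₀ (Fin n → F₀) := LinearMap.ker (LinearMap.pi fun i => B₀ (v i)) with hL
  intro x hx
  by_contra hxs
  obtain ⟨φ, hφx, hφ⟩ : ∃ φ : (Fin n → F₀) →ₗ[F₀] F₀, φ x ≠ 0 ∧
      ∀ i, φ (v i) = 0 := by
    obtain ⟨φ, h1, h2⟩ := Submodule.exists_le_ker_of_notMem hxs
    exact ⟨φ, h1, fun i => h2 (Submodule.subset_span ⟨i, rfl⟩)⟩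
  obtain ⟨y, hy⟩ : ∃ y, B₀ y = φ := by
    have hinj : Function.Injective fun y : Fin n → F₀ => fun i => B₀ y (Pi.single i 1) := fun a b hab => by
      rw [← sub_eq_zero]
      refine h.nondeg _ fun z => ?_
      rw [pi_eq_sum_univ' z, map_sum]
      refine Finset.sum_eq_zero fun i _ => ?_
      rw [smul_right, Herm.sub_left, show B₀ a (Pi.single i 1) = B₀ b (Pi.single i 1) from congrFun hab i, sub_self, mul_zero]
    obtain ⟨y, hy⟩ := Finite.injective_iff_surjective.1 hinj fun i => φ (Pi.single i 1)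
    exact ⟨y, LinearMap.pi_ext' fun i => LinearMap.ext_ring (congrFun hy i)⟩
  have hyL : y ∈ L := LinearMap.mem_ker.2 (funext fun i => by
    show B₀ (v i) y = 0
    exact h.eq_zero_symm (by rw [hy, hφ]))
  exact hφx (by rw [← hy]; exact h.mem_orth.1 hx y hyL)

/-- Two isotropic vectors with product one, orthogonal to given vectors with small radical. -/
theorem exists_pair_of {k m : ℕ} (hk : k + m + 2 ≤ n) (v : Fin k → Fin n → F₀)
    (hm : Module.finrank F₀ (LinearMap.ker (LinearMap.pi fun i => B₀ (v i)) ⊓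
      s.herm₀.orth (LinearMap.ker (LinearMap.pi fun i => B₀ (v i))) : Submodule F₀ (Fin n → F₀)) ≤ m) :
    ∃ p p', B₀ p p = 0 ∧ B₀ p' p' = 0 ∧ B₀ p p' = 1 ∧ ∀ i, B₀ (v i) p = 0 ∧ B₀ (v i) p' = 0 := by
  have h := s.herm₀
  set L : Submodule F₀ (Fin n → F₀) := LinearMap.ker (LinearMap.pi fun i => B₀ (v i)) with hL
  have hLd : n ≤ Module.finrank F₀ L + k := by
    have h1 := LinearMap.finrank_range_add_finrank_ker (LinearMap.pi fun i => B₀ (v i))
    have h2 := Submodule.finrank_le (LinearMap.range (LinearMap.pi fun i => B₀ (v i)))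
    rw [Module.finrank_fin_fun] at h1 h2
    rw [hL]
    omega
  have hmem : ∀ x ∈ L, ∀ i, B₀ (v i) x = 0 := fun x hx i => congrFun (LinearMap.mem_ker.1 hx) i
  -- the radical lies in the span of the given vectors
  obtain ⟨C, hC⟩ := (L ⊓ h.orth L).exists_isCompl
  set L₁ := C ⊓ L with hL₁
  have hsum : L₁ ⊔ (L ⊓ h.orth L) = L := by
    rw [hL₁, sup_comm, ← sup_inf_assoc_of_le C inf_le_left, hC.sup_eq_top, top_inf_eq]
  have hnd : ∀ x ∈ L₁, (∀ y ∈ L₁, B₀ x y = 0) → x = 0 := by
    intro x hx hy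
    have hall : ∀ y ∈ L, B₀ x y = 0 := by
      intro y hy'
      rw [← hsum] at hy'
      obtain ⟨r, hr, t, ht, rfl⟩ := Submodule.mem_sup.1 hy'
      rw [map_add, hy r hr, zero_add]
      exact h.mem_orth.1 ht.2 x hx.2
    exact Submodule.disjoint_def.1 hC.disjoint x
      ⟨hx.2, h.mem_orth.2 fun w hw => h.eq_zero_symm (hall w hw)⟩ hx.1
  have hL2 : 2 ≤ Module.finrank F₀ L₁ := by
    have h1 := Submodule.finrank_add_le_finrank_add_finrank L₁ (L ⊓ h.orth L)
    rw [hsum] at h1
    have h2 : Module.finrank F₀ (L ⊓ h.orth L : Submodule F₀ (Fin n → F₀)) ≤ m := hm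
    omega
  have hr := h.restrict_herm hnd
  obtain ⟨u, hu0, huu⟩ := hr.exists_isotropic hL2
  obtain ⟨f, huf, hff⟩ := hr.exists_isotropic_partner hu0 huu
  exact ⟨u, f, huu, hff, huf, fun i => ⟨hmem _ u.2.2 i, hmem _ f.2.2 i⟩⟩

/-- Two isotropic vectors with product one, orthogonal to few given vectors. -/
theorem exists_pair {k : ℕ} (hk : 2 * k + 2 ≤ n) (v : Fin k → Fin n → F₀) :
    ∃ p p', B₀ p p = 0 ∧ B₀ p' p' = 0 ∧ B₀ p p' = 1 ∧ ∀ i, B₀ (v i) p = 0 ∧ B₀ (v i) p' = 0 := by
  refine exists_pair_of s (m := k) (by omega) v ?_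
  have h1 := Submodule.finrank_mono (inf_le_right.trans (orth_le_span s v) :
    LinearMap.ker (LinearMap.pi fun i => B₀ (v i)) ⊓
      s.herm₀.orth (LinearMap.ker (LinearMap.pi fun i => B₀ (v i))) ≤ Submodule.span F₀ (Set.range v))
  have h2 : Module.finrank F₀ (Submodule.span F₀ (Set.range v)) ≤ Fintype.card (Fin k) := finrank_range_le_card v
  rw [Fintype.card_fin] at h2
  omega

/-- Two isotropic vectors with product one, orthogonal to a non-degenerate family. -/
theorem exists_pair_nondeg {k : ℕ} (hk : k + 2 ≤ n) (v : Fin k → Fin n → F₀)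
    (hv : ∀ c : Fin k → F₀, (∀ j, B₀ (v j) (∑ i, c i • v i) = 0) → c = 0) :
    ∃ p p', B₀ p p = 0 ∧ B₀ p' p' = 0 ∧ B₀ p p' = 1 ∧ ∀ i, B₀ (v i) p = 0 ∧ B₀ (v i) p' = 0 := by
  refine exists_pair_of s (m := 0) (by omega) v (le_of_eq ?_)
  rw [Submodule.finrank_eq_zero, eq_bot_iff]
  intro x hx
  obtain ⟨c, rfl⟩ := (Submodule.mem_span_range_iff_exists_fun F₀).1 (orth_le_span s v hx.2)
  have : c = 0 := hv c fun j => congrFun (LinearMap.mem_ker.1 hx.1) j
  simp [this]

/-- Every vector orthogonal to `w` is a combination of isotropic vectors orthogonal to `w`. -/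
theorem mem_of_isotropic {S : Submodule F₀ (Fin n → F₀)} {w p : Fin n → F₀} (hp : B₀ w p = 0)
    (hS : ∀ x, B₀ x x = 0 → B₀ w x = 0 → x ∈ S) : p ∈ S := by
  have h := s.herm₀
  obtain ⟨e, f, hee, hff, hef, hperp⟩ := exists_pair s (k := 1) (by have := s.dim; omega) ![w]
  have hwe : B₀ w e = 0 := (hperp 0).1
  have hwf : B₀ w f = 0 := (hperp 0).2
  have hfe : B₀ f e = 1 := by rw [← h.symm, hef, map_one]
  set r := p - B₀ f p • e - B₀ e p • f with hr
  have her : B₀ e r = 0 := by simp [hr, smul_right, hee, hef]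
  have hfr : B₀ f r = 0 := by simp [hr, smul_right, hff, hfe]
  have hre := h.eq_zero_symm her
  have hrf := h.eq_zero_symm hfr
  obtain ⟨t, ht⟩ := h.invol.exists_trace_eq (μ := -B₀ r r) (by rw [map_neg, h.self_fixed])
  have h1 : r + e + t • f ∈ S := by
    refine hS _ ?_ (by simp [hr, smul_right, hp, hwe, hwf])
    simp only [map_add, LinearMap.add_apply, Herm.smul_left, smul_right, hee, hff, hef, hfe, hre, hrf, her, hfr]
    linear_combination ht
  have := S.add_mem (S.add_mem h1 (S.smul_mem (B₀ f p - 1) (hS e hee hwe))) (S.smul_mem (B₀ e p - t) (hS f hff hwf))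
  convert this using 1
  rw [hr]
  module

/-- An isotropic vector with non-zero products with two non-zero vectors. -/
theorem exists_common {w w' : Fin n → F₀} (hw : w ≠ 0) (hw' : w' ≠ 0) :
    ∃ z, B₀ z z = 0 ∧ B₀ w z ≠ 0 ∧ B₀ w' z ≠ 0 := by
  have h := s.herm₀
  have hone : ∀ {w : Fin n → F₀}, w ≠ 0 → ∃ z, B₀ z z = 0 ∧ B₀ w z ≠ 0 := fun {w} hw => by
    by_contra! hc
    refine hw (h.nondeg _ fun y => ?_)
    exact mem_of_isotropic s (S := LinearMap.ker (B₀ w)) (w := (0 : Fin n → F₀)) (p := y) (by simp)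
      fun x hx _ => hc x hx
  obtain ⟨z₁, hz₁, h1⟩ := hone hw
  obtain ⟨z₂, hz₂, h2⟩ := hone hw'
  by_cases e₁ : B₀ w' z₁ = 0
  · by_cases e₂ : B₀ w z₂ = 0
    · -- a multiple of `z₂` added to `z₁`
      obtain ⟨t, ht0, ht⟩ : ∃ t : F₀, t ≠ 0 ∧ t * B₀ z₁ z₂ + σ₀ (t * B₀ z₁ z₂) = 0 := by
        by_cases hb : B₀ z₁ z₂ = 0
        · exact ⟨1, one_ne_zero, by rw [hb, mul_zero, map_zero, add_zero]⟩
        obtain ⟨c, hc0, hc⟩ := h.exists_skew
        exact ⟨c / B₀ z₁ z₂, div_ne_zero hc0 hb, by rw [div_mul_cancel₀ _ hb, hc]⟩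
      refine ⟨z₁ + t • z₂, ?_, by simp [smul_right, e₂, h1], by simp [smul_right, e₁, ht0, h2]⟩
      simp only [map_add, LinearMap.add_apply, Herm.smul_left, smul_right, hz₁, hz₂, ← h.symm z₁ z₂,
        mul_zero, add_zero, zero_add]
      rw [map_mul] at ht
      linear_combination ht
    · exact ⟨z₂, hz₂, e₂, h2⟩
  · exact ⟨z₁, hz₁, h1, e₁⟩

variable {K : Subgroup (HU B)}

/-- The rational transvections lie in the subgroup. -/
def HasRat (K : Subgroup (HU B)) : Prop :=
  ∀ w (c : F₀) (hw : B₀ w w = 0) (hc : c + σ₀ c = 0),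
    s.herm.tr (u := rat F₀ P w) (c := (c : F)) (s.val_zero hw) (s.skew_coe hc) ∈ K

theorem exists_lift (hK : HasRat s K) {t : HU B₀} (ht : t ∈ HSU B₀) :
    ∃ k ∈ K, ∀ z, (k : (Fin n → F) ≃ₗ[F] (Fin n → F)) (rat F₀ P z) =
      rat F₀ P ((t : (Fin n → F₀) ≃ₗ[F₀] (Fin n → F₀)) z) := by
  have hn := s.dim
  rw [← s.herm₀.trGroup_eq (by rw [Module.finrank_fin_fun]; omega)
    (fun e => absurd e (by rw [Module.finrank_fin_fun]; omega))] at ht
  induction ht using Subgroup.closure_induction with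
  | mem y hy =>
    obtain ⟨w, hw, c, hc, rfl⟩ := hy
    refine ⟨_, hK w c hw hc, fun z => ?_⟩
    rw [IsHerm.tr_apply, IsHerm.tr_apply, s.val, rat_add, rat_smul, Subfield.coe_mul]
  | one => exact ⟨1, one_mem _, fun x => rfl⟩
  | mul y z _ _ hy hz =>
    obtain ⟨k, hk, ek⟩ := hy
    obtain ⟨k', hk', ek'⟩ := hz
    exact ⟨k * k', mul_mem hk hk', fun x => by simp [ek, ek']⟩
  | inv y _ hy =>
    obtain ⟨k, hk, ek⟩ := hy
    refine ⟨k⁻¹, inv_mem hk, fun x => (k : (Fin n → F) ≃ₗ[F] (Fin n → F)).injective ?_⟩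
    simp [ek]

/-- The Eichler element lies in the subgroup. -/
def HasE (_s : Setup B F₀ P σ₀ B₀) (K : Subgroup (HU B)) (u x : Fin n → F) (a : F) : Prop :=
  ∀ (hu : B u u = 0) (hux : B u x = 0) (ha : a + σ a = -B x x), _s.herm.eich hu hux ha ∈ K

theorem hasE_rat (hK : HasRat s K) (w y : Fin n → F₀) (a : F₀) :
    HasE s K (rat F₀ P w) (rat F₀ P y) (a : F) := by
  intro hu hux ha
  have hw : B₀ w w = 0 := Subtype.ext (by rw [← s.val, hu, ZeroMemClass.coe_zero])
  have hwy : B₀ w y = 0 := Subtype.ext (by rw [← s.val, hux, ZeroMemClass.coe_zero])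
  have ha₀ : a + σ₀ a = -B₀ y y := Subtype.ext (by
    rw [Subfield.coe_add, ← s.comm, ha, Subfield.coe_neg, s.val])
  obtain ⟨k, hk, ek⟩ := exists_lift s hK (s.herm₀.eich_mem hw hwy ha₀)
  rw [show s.herm.eich hu hux ha = k from s.ext_map fun z => by
    rw [ek, IsHerm.eich_apply, IsHerm.eich_apply, s.val, s.val, rat_add, rat_add, rat_smul, rat_smul,
      Subfield.coe_sub, Subfield.coe_mul]]
  exact hk

theorem HasE.mul {u x y : Fin n → F} {a b : F} (hx : HasE s K u x a) (hy : HasE s K u y b)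
    (hux : B u x = 0) (ha : a + σ a = -B x x) :
    HasE s K u (x + y) (a + b - B x y) := by
  intro hu huxy hab
  have huy : B u y = 0 := by rwa [map_add, hux, zero_add] at huxy
  have hb : b + σ b = -B y y := by
    simp only [map_add, map_sub, LinearMap.add_apply, s.herm.symm] at hab
    linear_combination hab - ha
  convert K.mul_mem (hx hu hux ha) (hy hu huy hb) using 1
  refine Subtype.ext (LinearEquiv.ext fun z => ?_)
  simp only [Subgroup.coe_mul, LinearEquiv.mul_apply, IsHerm.eich_apply, map_add, LinearMap.add_apply, smul_right,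
    hu, hux, huy, s.herm.eq_zero_symm hux]
  match_scalars <;> ring

/-- Commutators of Eichler elements with one centre. -/
theorem tr_of_commutator {u x y : Fin n → F} {a b c : F} (hu : B u u = 0) (hux : B u x = 0) (huy : B u y = 0)
    (ha : a + σ a = -B x x) (hb : b + σ b = -B y y) (hx : HasE s K u x a) (hy : HasE s K u y b)
    (hc : c + σ c = 0) (hcxy : c = B y x - B x y) : s.herm.tr hu hc ∈ K := by
  have key := s.herm.eich_mul_comm hu hux huy ha hb hc hcxy
  rw [eq_mul_inv_of_mul_eq key.symm]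
  exact K.mul_mem (K.mul_mem (hx hu hux ha) (hy hu huy hb))
    (K.inv_mem (K.mul_mem (hy hu huy hb) (hx hu hux ha)))

/-- One scalar on all rational Eichler elements with isotropic vectors. -/
def Mem (μ : F) (K : Subgroup (HU B)) : Prop :=
  ∀ w y, B₀ w w = 0 → B₀ y y = 0 → B₀ w y = 0 → HasE s K (rat F₀ P w) (μ • rat F₀ P y) 0

theorem mem_of_rat (hK : HasRat s K) {μ : F} (hμ : μ ∈ F₀) : Mem s μ K := by
  intro w y _ _ _
  have := hasE_rat s hK w ((⟨μ, hμ⟩ : F₀) • y) 0
  rwa [rat_smul, ZeroMemClass.coe_zero] at this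

theorem mem_add {μ ν : F} (hμ : Mem s μ K) (hν : Mem s ν K) : Mem s (μ + ν) K := by
  intro w y hw hy hwy
  have h1 := (hμ w y hw hy hwy).mul s (hν w y hw hy hwy) (by rw [smul_right, s.val_zero hwy, mul_zero])
    (by simp [Herm.smul_left, smul_right, s.val_zero hy])
  rw [← add_smul, zero_add, Herm.smul_left, smul_right, s.val_zero hy, mul_zero, mul_zero, sub_zero] at h1
  exact h1

theorem mem_neg {μ : F} (hμ : Mem s μ K) : Mem s (-μ) K := by
  intro w y hw hy hwy
  have := hμ w (-y) hw (by simp [hy]) (by simp [hwy])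
  rw [← neg_one_smul F₀ y, rat_smul, Subfield.coe_neg, OneMemClass.coe_one, smul_smul, mul_neg_one] at this
  exact this

theorem mem_scale {μ : F} (hμ : Mem s μ K) (k : F₀) : Mem s (μ * k) K := by
  intro w y hw hy hwy
  have := hμ w (k • y) hw (by simp [Herm.smul_left, smul_right, hy]) (by rw [smul_right, hwy, mul_zero])
  rwa [rat_smul, smul_smul] at this

/-- The scalars multiply by a transvection parameter present at all rational centres. -/
theorem mem_mul_skew (hK : HasRat s K) {c : F} (hc : c + σ c = 0)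
    (hTw : ∀ w (hw : B₀ w w = 0), w ≠ 0 → s.herm.tr (u := rat F₀ P w) (s.val_zero hw) hc ∈ K)
    {μ : F} (hμ : Mem s μ K) : Mem s (c * μ) K := by
  have h := s.herm
  have h₀ := s.herm₀
  have hσc : σ c = -c := eq_neg_of_add_eq_zero_right hc
  obtain ⟨ω, hω⟩ := h₀.invol.exists_ne
  have hω0 : ω ≠ 0 := fun e => hω (by rw [e, map_zero])
  set ε : F₀ := σ₀ ω / ω with hε
  have hεε : ε * σ₀ ε = 1 := by
    have : σ₀ ω ≠ 0 := fun e => hω0 (IsInvol.apply_eq_zero_iff.1 e)
    rw [hε, map_div₀, h₀.invol.invol]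
    field_simp
  have hε1 : ε ≠ 1 := fun e => hω (by rwa [hε, div_eq_one_iff_eq hω0] at e)
  -- independent pairs
  have hind : ∀ w y, B₀ w w = 0 → w ≠ 0 → B₀ y y = 0 → B₀ w y = 0 → (∀ k : F₀, y ≠ k • w) →
      HasE s K (rat F₀ P w) ((c * μ * ((1 - ε : F₀) : F)) • rat F₀ P y) 0 := by
    intro w y hw hw0 hy hwy hne
    obtain ⟨p₁, hp1, hwp₁⟩ : ∃ p, B₀ y p = 1 ∧ B₀ w p = 0 := by
      obtain ⟨f, hf, -⟩ := h₀.exists_isotropic_partner hw0 hw
      by_contra! hcon
      have hall : ∀ p, B₀ w p = 0 → B₀ y p = 0 := fun p hp => by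
        by_contra hne'
        exact hcon ((B₀ y p)⁻¹ • p) (by rw [smul_right, inv_mul_cancel₀ hne']) (by rw [smul_right, hp, mul_zero])
      refine hne (σ₀ (B₀ y f)) (sub_eq_zero.1 (h₀.nondeg _ fun p => ?_))
      have h1 := hall (p - B₀ w p • f) (by rw [map_sub, smul_right, hf, mul_one, sub_self])
      rw [map_sub, smul_right] at h1
      rw [Herm.sub_left, Herm.smul_left, h₀.invol.invol]
      linear_combination h1
    obtain ⟨a, ha'⟩ := h₀.invol.exists_trace_eq (μ := -B₀ p₁ p₁) (by rw [map_neg, h₀.self_fixed])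
    have hpy : B₀ p₁ y = 1 := by rw [← h₀.symm, hp1, map_one]
    set p := p₁ + a • y with hp
    have hyp : B₀ y p = 1 := by rw [hp, map_add, smul_right, hp1, hy, mul_zero, add_zero]
    have hwp : B₀ w p = 0 := by rw [hp, map_add, smul_right, hwp₁, hwy, mul_zero, add_zero]
    have hpp : B₀ p p = 0 := by
      simp only [hp, map_add, LinearMap.add_apply, Herm.smul_left, smul_right, hy, hp1, hpy]
      linear_combination ha'
    set Y := rat F₀ P y with hY
    have b1 : B Y Y = 0 := s.val_zero hy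
    have b2 : B (rat F₀ P w) Y = 0 := s.val_zero hwy
    have hWW : B (rat F₀ P w) (rat F₀ P w) = 0 := s.val_zero hw
    have hy0 : y ≠ 0 := fun h0 => hne 0 (by rw [h0, zero_smul])
    have one : ∀ ν : F, Mem s ν K → ∀ (hx : B (rat F₀ P w) ((-(c * ν)) • Y) = 0)
        (hA : (0 : F) + σ 0 = -B ((-(c * ν)) • Y) ((-(c * ν)) • Y))
        (hc2 : c * (ν * σ ν) + σ (c * (ν * σ ν)) = 0),
        h.eich hWW hx hA * h.tr (u := rat F₀ P w) hWW hc2 ∈ K := by
      intro ν hν hx hA hc2
      have hP : B (rat F₀ P w) (ν • rat F₀ P p) = 0 := by rw [smul_right, s.val_zero hwp, mul_zero]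
      have hA' : (0 : F) + σ 0 = -B (ν • rat F₀ P p) (ν • rat F₀ P p) := by
        simp [Herm.smul_left, smul_right, s.val_zero hpp]
      have hgK : h.eich hWW hP hA' ∈ K := hν w p hw hpp hwp hWW hP hA'
      set g := h.eich hWW hP hA' with hg
      have b3 : B (ν • rat F₀ P p) Y = σ ν := by
        rw [Herm.smul_left, hY, s.val_one (show B₀ p y = 1 by rw [← h₀.symm, hyp, map_one]), mul_one]
      have gY : (g : (Fin n → F) ≃ₗ[F] (Fin n → F)) Y = Y - σ ν • rat F₀ P w := by
        rw [hg, IsHerm.eich_apply, b2, b3]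
        module
      have m1 := hTw y hy hy0
      have m3 := K.mul_mem (K.mul_mem hgK m1) (K.inv_mem hgK)
      rw [h.conj_tr] at m3
      have key : h.tr (u := (g : (Fin n → F) ≃ₗ[F] (Fin n → F)) Y) ((HU.map_eq g _ _).trans b1) hc =
          h.eich hWW hx hA * h.tr (u := rat F₀ P w) hWW hc2 * h.tr (u := Y) b1 hc := by
        refine Subtype.ext (LinearEquiv.ext fun z => ?_)
        simp only [Subgroup.coe_mul, LinearEquiv.mul_apply, IsHerm.tr_apply, IsHerm.eich_apply, gY, map_add,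
          map_sub, LinearMap.sub_apply, LinearMap.map_smul, Herm.smul_left, smul_right, map_neg, map_mul, hσc, b1, b2,
          hWW, h.eq_zero_symm b2, h.invol.invol, mul_zero, add_zero, zero_mul, neg_neg]
        module
      have m4 := K.mul_mem m3 (K.inv_mem m1)
      rwa [key, mul_inv_cancel_right] at m4
    intro hu hux ha
    have hc2 : c * (μ * σ μ) + σ (c * (μ * σ μ)) = 0 := by
      rw [map_mul, map_mul, h.invol.invol, hσc]; ring
    have hε' : (μ * ε) * σ (μ * ε) = μ * σ μ := by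
      have e1 : (ε : F) * σ (ε : F) = 1 := by rw [s.comm, ← Subfield.coe_mul, hεε, OneMemClass.coe_one]
      rw [map_mul]; linear_combination (μ * σ μ) * e1
    have hx : ∀ ν : F, B (rat F₀ P w) ((-(c * ν)) • Y) = 0 := fun ν => by rw [smul_right, b2, mul_zero]
    have hA : ∀ ν : F, (0 : F) + σ 0 = -B ((-(c * ν)) • Y) ((-(c * ν)) • Y) := fun ν => by
      simp [Herm.smul_left, smul_right, b1]
    have m1 := one μ hμ (hx _) (hA _) hc2
    have m2 := one (μ * ε) (mem_scale s hμ ε) (hx _) (hA _) (by rw [hε']; exact hc2)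
    convert K.mul_mem m2 (K.inv_mem m1) using 1
    rw [eq_mul_inv_iff_mul_eq]
    refine Subtype.ext (LinearEquiv.ext fun z => ?_)
    simp only [Subgroup.coe_mul, LinearEquiv.mul_apply, IsHerm.tr_apply, IsHerm.eich_apply, hε', map_add,
      LinearMap.map_smul, Herm.smul_left, smul_right, b1, b2, hWW, h.eq_zero_symm b2, Subfield.coe_sub,
      OneMemClass.coe_one, map_mul, map_sub, map_one, map_neg, mul_zero, add_zero, zero_mul]
    have e1 : (ε : F) * σ (ε : F) = 1 := by rw [s.comm, ← Subfield.coe_mul, hεε, OneMemClass.coe_one]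
    match_scalars <;> first
      | ring1
      | linear_combination (-(σ μ * c * μ * B (rat F₀ P w) z)) * e1
  have hν : Mem s (c * μ * ((1 - ε : F₀) : F)) K := by
    intro w y hw hy hwy
    by_cases hw0 : w = 0
    · intro hu hux ha
      convert one_mem K
      refine Subtype.ext (LinearEquiv.ext fun z => ?_)
      simp [IsHerm.eich_apply, hw0, rat_zero]
    by_cases hne : ∀ k : F₀, y ≠ k • w
    · exact hind w y hw hw0 hy hwy hne
    push Not at hne
    obtain ⟨k, rfl⟩ := hne
    obtain ⟨p, p', hpp, hpp', hp1, hperp⟩ := exists_pair s (k := 1) (by have := s.dim; omega) ![w]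
    have hwp : B₀ w p = 0 := (hperp 0).1
    have hwp' : B₀ w p' = 0 := (hperp 0).2
    have hne : ∀ j : F₀, p ≠ j • w := fun j hj => by
      rw [hj, Herm.smul_left, hwp', mul_zero] at hp1
      exact zero_ne_one hp1
    have hpw : B₀ p w = 0 := h₀.eq_zero_symm hwp
    have i2 : B₀ (k • w - p) (k • w - p) = 0 := by
      simp [Herm.smul_left, smul_right, hw, hwp, hpw, hpp]
    have m1 := hind w p hw hw0 hpp hwp hne
    have m2 := hind w (k • w - p) hw hw0 i2 (by simp [smul_right, hw, hwp])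
      (fun j hj => hne (k - j) (by rw [sub_smul, ← hj, sub_sub_cancel]))
    have := m1.mul s m2 (by rw [smul_right, s.val_zero hwp, mul_zero])
      (by simp [Herm.smul_left, smul_right, s.val_zero hpp])
    rw [← smul_add, ← rat_add, add_sub_cancel, Herm.smul_left, smul_right,
      s.val_zero (show B₀ p (k • w - p) = 0 by simp [smul_right, hpw, hpp])] at this
    simpa using this
  have hne : (1 - ε : F₀) ≠ 0 := sub_ne_zero.2 (Ne.symm hε1)
  have := mem_scale s hν (1 - ε)⁻¹
  rwa [mul_assoc, ← Subfield.coe_mul, mul_inv_cancel₀ hne, OneMemClass.coe_one, mul_one] at this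

/-- One new rational transvection gives all. -/
theorem le_of_seed (hK : HasRat s K) {w₀ : Fin n → F₀} (hw₀ : B₀ w₀ w₀ = 0) (hw₀0 : w₀ ≠ 0) {c : F}
    (hc : c + σ c = 0) (hcF : c ∉ F₀) (htr : s.herm.tr (u := rat F₀ P w₀) (s.val_zero hw₀) hc ∈ K) :
    HSU B ≤ K := by
  classical
  have h := s.herm
  have h₀ := s.herm₀
  have hn := s.dim
  obtain ⟨r, hr, -, hcard⟩ := s.deg
  haveI : Fintype F := Fintype.ofFinite F
  rw [Nat.card_eq_fintype_card] at hcard
  have hTw : ∀ w (hw : B₀ w w = 0), w ≠ 0 → h.tr (u := rat F₀ P w) (s.val_zero hw) hc ∈ K := by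
    intro w hw hw0
    obtain ⟨t, ht, hte⟩ := h₀.transitive_isotropic (by rw [Module.finrank_fin_fun]; omega) hw₀0 hw0 hw₀ hw
    obtain ⟨k, hk, ek⟩ := exists_lift s hK (h₀.trGroup_le ht)
    have := K.mul_mem (K.mul_mem hk htr) (K.inv_mem hk)
    rw [h.conj_tr] at this
    simp only [ek, hte] at this
    exact this
  -- all scalars
  have hmem : ∀ μ, Mem s μ K := fun μ => by
    have hone : Mem s 1 K := mem_of_rat s hK (one_mem _)
    have := SympSubfield.mem_all_of_closed hr hcard (S := {x | ∀ ν, Mem s ν K → Mem s (x * ν) K})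
      (fun x hx ν hν => by
        have := mem_scale s hν ⟨x, hx⟩
        rwa [mul_comm] at this)
      (fun a ha b hb ν hν => by rw [add_mul]; exact mem_add s (ha ν hν) (hb ν hν))
      (fun a ha b hb ν hν => by rw [mul_assoc]; exact ha _ (hb ν hν))
      (fun ν hν => mem_mul_skew s hK hc hTw hν) hcF μ 1 hone
    rwa [mul_one] at this
  -- all transvections at rational centres
  have hrat : ∀ w, B₀ w w = 0 → HasTr h K (rat F₀ P w) := by
    intro w hw hu e he
    obtain ⟨p, p', hpp, hpp', hp1, hperp⟩ := exists_pair s (k := 1) (by have := s.dim; omega) ![w]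
    have hwp : B₀ w p = 0 := (hperp 0).1
    have hwp' : B₀ w p' = 0 := (hperp 0).2
    obtain ⟨t, ht⟩ := h.invol.exists_trace_eq (μ := (1 : F)) (map_one σ)
    have hσe : σ e = -e := eq_neg_of_add_eq_zero_right he
    refine tr_of_commutator s hu (x := rat F₀ P p) (y := (-(e * t)) • rat F₀ P p') (a := 0) (b := 0) (s.val_zero hwp)
      (by rw [smul_right, s.val_zero hwp', mul_zero]) (by simp [s.val_zero hpp])
      (by simp [Herm.smul_left, smul_right, s.val_zero hpp']) ?_
      (hmem _ w p' hw hpp' hwp') he ?_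
    · have := hasE_rat s hK w p 0
      rwa [ZeroMemClass.coe_zero] at this
    · have q1 : B (rat F₀ P p) (rat F₀ P p') = 1 := s.val_one hp1
      have q2 : B (rat F₀ P p') (rat F₀ P p) = 1 := by rw [← h.symm, q1, map_one]
      rw [Herm.smul_left, smul_right, q1, q2, map_neg, map_mul, hσe]
      linear_combination (-e) * ht
  -- full root groups at rational centres
  have hfull : ∀ w, B₀ w w = 0 → w ≠ 0 → ∀ (x : Fin n → F) (a : F), HasE s K (rat F₀ P w) x a := by
    intro w hw hw0 x a hu hux ha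
    set W := rat F₀ P w with hW
    -- some Eichler element for every vector
    have hany : ∀ x, B W x = 0 → ∃ a, a + σ a = -B x x ∧ HasE s K W x a := by
      let T : Submodule F₀ (Fin n → F₀) :=
        { carrier := {y | B₀ w y = 0 ∧ ∀ μ : F, ∃ a, a + σ a = -B (μ • rat F₀ P y) (μ • rat F₀ P y) ∧
            HasE s K W (μ • rat F₀ P y) a}
          add_mem' := fun {y z} hy hz => ⟨by rw [map_add, hy.1, hz.1, add_zero], fun μ => by
            obtain ⟨a, ha, hya⟩ := hy.2 μ
            obtain ⟨b, hb, hzb⟩ := hz.2 μ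
            refine ⟨a + b - B (μ • rat F₀ P y) (μ • rat F₀ P z), ?_, ?_⟩
            · rw [rat_add, smul_add]
              generalize μ • rat F₀ P y = u at *
              generalize μ • rat F₀ P z = v at *
              simp only [map_add, map_sub, LinearMap.add_apply, h.symm]
              linear_combination ha + hb
            · rw [rat_add, smul_add]
              exact hya.mul s hzb (by rw [smul_right, s.val_zero hy.1, mul_zero]) ha⟩
          zero_mem' := ⟨map_zero _, fun μ => ⟨0, by simp [rat_zero], fun hu hux ha => by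
            convert one_mem K
            refine Subtype.ext (LinearEquiv.ext fun z => ?_)
            simp [IsHerm.eich_apply, rat_zero]⟩⟩
          smul_mem' := fun k y hy => ⟨by rw [smul_right, hy.1, mul_zero], fun μ => by
            rw [rat_smul, smul_smul]
            exact hy.2 _⟩ }
      have hT : ∀ y, B₀ w y = 0 → y ∈ T := fun y hy => mem_of_isotropic s hy fun z hz hwz =>
        ⟨hwz, fun μ => ⟨0, by simp [Herm.smul_left, smul_right, s.val_zero hz], hmem μ w z hw hz hwz⟩⟩
      obtain ⟨f, hf, -⟩ := h₀.exists_isotropic_partner hw0 hw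
      intro x hx
      let v := fun i => (((P⁻¹ : Matrix.GeneralLinearGroup (Fin n) F) : Matrix (Fin n) (Fin n) F) *ᵥ x) i
      let t : Fin n → Fin n → F₀ := fun i => Pi.single i 1 - B₀ w (Pi.single i 1) • f
      have ht : ∀ i, B₀ w (t i) = 0 := fun i => by simp [t, smul_right, hf]
      have hx' : x = ∑ i, v i • rat F₀ P (t i) := by
        have e1 : ∀ i, rat F₀ P (t i) =
            rat F₀ P (Pi.single i 1) - ((B₀ w (Pi.single i 1) : F₀) : F) • rat F₀ P f := fun i => by
          rw [eq_sub_iff_add_eq, ← rat_smul, ← rat_add, sub_add_cancel]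
        have e : ∑ i, v i * ((B₀ w (Pi.single i 1) : F₀) : F) = 0 := by
          rw [← hx, s.sum_rat x, map_sum]
          exact Finset.sum_congr rfl fun i _ => by rw [smul_right, s.val]
        simp only [e1, smul_sub, smul_smul, Finset.sum_sub_distrib, ← Finset.sum_smul, e, zero_smul, sub_zero]
        exact s.sum_rat x
      have key : ∀ S : Finset (Fin n), B W (∑ i ∈ S, v i • rat F₀ P (t i)) = 0 ∧
          ∃ a, a + σ a = -B (∑ i ∈ S, v i • rat F₀ P (t i)) (∑ i ∈ S, v i • rat F₀ P (t i)) ∧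
            HasE s K W (∑ i ∈ S, v i • rat F₀ P (t i)) a := by
        intro S
        induction S using Finset.induction with
        | empty =>
          refine ⟨by simp, 0, by simp, fun hu hux ha => ?_⟩
          convert one_mem K
          refine Subtype.ext (LinearEquiv.ext fun z => ?_)
          simp [IsHerm.eich_apply]
        | insert j S hj ih =>
          rw [Finset.sum_insert hj]
          obtain ⟨hp, b, hb, hS⟩ := ih
          obtain ⟨a, ha, hja⟩ := (hT _ (ht j)).2 (v j)
          have hwj : B W (v j • rat F₀ P (t j)) = 0 := by rw [smul_right, s.val_zero (ht j), mul_zero]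
          refine ⟨by rw [map_add, hwj, hp, add_zero], _, ?_, hja.mul s hS hwj ha⟩
          generalize v j • rat F₀ P (t j) = u at *
          generalize ∑ i ∈ S, v i • rat F₀ P (t i) = w' at *
          simp only [map_add, map_sub, LinearMap.add_apply, h.symm]
          linear_combination ha + hb
      rw [hx']
      exact (key Finset.univ).2
    obtain ⟨a', ha', hxa'⟩ := hany x hux
    have hd : (a - a') + σ (a - a') = 0 := by rw [map_sub]; linear_combination ha - ha'
    convert K.mul_mem (hxa' hu hux ha') (hrat w hw hu _ hd) using 1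
    refine Subtype.ext (LinearEquiv.ext fun z => ?_)
    simp only [Subgroup.coe_mul, LinearEquiv.mul_apply, IsHerm.tr_apply, IsHerm.eich_apply, map_add, smul_right,
      hW, s.val_zero hw, hu, show B x (rat F₀ P w) = 0 from h.eq_zero_symm hux]
    module
  refine le_of_hasTr h (by rw [Module.finrank_fin_fun]; omega) fun u => ?_
  intro huu
  by_cases hu0 : u = 0
  · subst hu0
    intro e he
    convert one_mem K
    ext y
    simp [IsHerm.tr_apply]
  obtain ⟨w, hw, hwu⟩ : ∃ w, B₀ w w = 0 ∧ B (rat F₀ P w) u ≠ 0 := by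
    by_contra! hcon
    refine hu0 (s.ext fun z => ?_)
    rw [map_zero]
    let T : Submodule F₀ (Fin n → F₀) :=
      { carrier := {z | B (rat F₀ P z) u = 0}
        add_mem' := fun {a b} ha hb => by
          show B (rat F₀ P (a + b)) u = 0
          rw [rat_add, add_left, ha, hb, add_zero]
        zero_mem' := by
          show B (rat F₀ P (0 : Fin n → F₀)) u = 0
          rw [rat_zero, zero_left]
        smul_mem' := fun k a ha => by
          show B (rat F₀ P (k • a)) u = 0
          rw [rat_smul, Herm.smul_left, ha, mul_zero] }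
    exact mem_of_isotropic s (S := T) (w := (0 : Fin n → F₀)) (by simp) fun x hx _ => hcon x hx
  have hw0 : w ≠ 0 := fun h0 => hwu (by rw [h0, rat_zero, zero_left])
  obtain ⟨f, hwf, hff⟩ := h₀.exists_isotropic_partner hw0 hw
  set k := B (rat F₀ P w) u with hk
  set u₁ := k⁻¹ • u with hu₁
  have hwu₁ : B (rat F₀ P w) u₁ = 1 := by rw [hu₁, smul_right, inv_mul_cancel₀ hwu]
  have huu₁ : B u₁ u₁ = 0 := by simp [hu₁, Herm.smul_left, smul_right, huu]
  set Fv := rat F₀ P f with hFv
  set x := u₁ - Fv with hx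
  have hwx : B (rat F₀ P w) x = 0 := by rw [hx, map_sub, hwu₁, s.val_one hwf, sub_self]
  have hFF : B Fv Fv = 0 := s.val_zero hff
  have ha : B x Fv + σ (B x Fv) = -B x x := by
    simp only [hx, map_sub, LinearMap.sub_apply, hFF, huu₁, h.symm, map_zero, sub_zero]
    ring
  have hgK : h.eich (s.val_zero hw) hwx ha ∈ K := hfull w hw hw0 x _ _ hwx ha
  have e : (h.eich (s.val_zero hw) hwx ha : (Fin n → F) ≃ₗ[F] (Fin n → F)) Fv = k⁻¹ • u := by
    rw [IsHerm.eich_apply, s.val_one hwf, mul_one, sub_self, zero_smul, add_zero, one_smul, hx, ← hu₁]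
    abel
  have h1 := (hrat f hff).conj h hgK
  rw [← hFv, e] at h1
  exact (HasTr.of_smul h (inv_ne_zero hwu) h1) huu

end CfsgLib.Geo.UnitSub
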