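/-
Unitary groups over a subfield of odd prime degree are maximal.
-/
import Cfsg.Agent.Lib.Geo.UnitSubfieldCore
import Cfsg.Agent.Lib.Geo.SLTwoGenerate

set_option autoImplicit false

namespace CfsgLib.Geo.UnitSub

open Matrix CfsgLib.Classical CfsgLib.Classical.Herm CfsgLib.Geo.UnitMax CfsgLib.Geo.UnitSympSub
open scoped MatrixGroups

variable {n : ℕ} {F : Type*} [Field F] {σ : F →+* F} {F₀ : Subfield F} {σ₀ : F₀ →+* F₀}
  {B : (Fin n → F) →ₛₗ[σ] (Fin n → F) →ₗ[F] F} {P : Matrix.GeneralLinearGroup (Fin n) F}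
  {B₀ : (Fin n → F₀) →ₛₗ[σ₀] (Fin n → F₀) →ₗ[F₀] F₀} (s : Setup B F₀ P σ₀ B₀)
include s

variable [Finite F] {K : Subgroup (HU B)}

theorem exists_vec (φ : (Fin n → F₀) →ₗ[F₀] F₀) : ∃ y, B₀ y = φ := by
  have h := s.herm₀
  have hinj : Function.Injective fun y : Fin n → F₀ => fun i => B₀ y (Pi.single i 1) := fun a b hab => by
    rw [← sub_eq_zero]
    refine h.nondeg _ fun z => ?_
    rw [pi_eq_sum_univ' z, map_sum]
    refine Finset.sum_eq_zero fun i _ => ?_
    rw [smul_right, Herm.sub_left, show B₀ a (Pi.single i 1) = B₀ b (Pi.single i 1) from congrFun hab i, sub_self,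
      mul_zero]
  obtain ⟨y, hy⟩ := Finite.injective_iff_surjective.1 hinj fun i => φ (Pi.single i 1)
  exact ⟨y, LinearMap.pi_ext' fun i => LinearMap.ext_ring (congrFun hy i)⟩

theorem Setup.rat_of_form {v : Fin n → F} (h : ∀ z, B (rat F₀ P z) v ∈ F₀) : ∃ y, rat F₀ P y = v := by
  let φ : (Fin n → F₀) →ₗ[F₀] F₀ :=
    { toFun := fun z => σ₀ ⟨B (rat F₀ P z) v, h z⟩
      map_add' := fun a b => by
        rw [← map_add]
        refine congrArg σ₀ (Subtype.ext ?_)
        show B (rat F₀ P (a + b)) v = B (rat F₀ P a) v + B (rat F₀ P b) v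
        rw [rat_add, add_left]
      map_smul' := fun k a => by
        rw [RingHom.id_apply, smul_eq_mul, ← s.herm₀.invol.invol k, ← map_mul, s.herm₀.invol.invol k]
        refine congrArg σ₀ (Subtype.ext ?_)
        show B (rat F₀ P (k • a)) v = ((σ₀ k : F₀) : F) * B (rat F₀ P a) v
        rw [rat_smul, Herm.smul_left, s.comm] }
  obtain ⟨y, hy⟩ := exists_vec s φ
  refine ⟨y, s.ext fun z => ?_⟩
  rw [s.val, ← s.herm₀.symm, hy]
  show ((σ₀ (σ₀ _) : F₀) : F) = _
  rw [s.herm₀.invol.invol]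

/-- The rational skew transvections of a vector. -/
def HasT (_s : Setup B F₀ P σ₀ B₀) (K : Subgroup (HU B)) (u : Fin n → F) : Prop :=
  ∀ (hu : B u u = 0) (c : F), c ∈ F₀ → ∀ (hc : c + σ c = 0), _s.herm.tr hu hc ∈ K

theorem exists_skew_rat : ∃ c : F, c ≠ 0 ∧ c ∈ F₀ ∧ c + σ c = 0 := by
  obtain ⟨c, hc0, hc⟩ := s.herm₀.exists_skew
  exact ⟨c, fun h0 => hc0 (Subtype.ext h0), c.2, s.skew_coe hc⟩

theorem norm_mem_iff {γ : F} (hγ0 : γ ≠ 0) (hγ : γ ∈ F₀) {d : F} : γ * (d * σ d) ∈ F₀ ↔ d * σ d ∈ F₀ :=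
  ⟨fun h => by simpa [hγ0] using mul_mem (inv_mem hγ) h, fun h => mul_mem hγ h⟩

/-- A centre on a rational line with a new norm. -/
theorem le_of_line (hK : HasRat s K) {δ : F} {x : Fin n → F₀} (huu : B (δ • rat F₀ P x) (δ • rat F₀ P x) = 0)
    (hu0 : δ • rat F₀ P x ≠ 0) (hT : HasT s K (δ • rat F₀ P x)) (hN : δ * σ δ ∉ F₀) : HSU B ≤ K := by
  obtain ⟨γ, hγ0, hγ, hγs⟩ := exists_skew_rat s
  have hδ : δ ≠ 0 := fun h0 => hu0 (by rw [h0, zero_smul])
  have hxx : B₀ x x = 0 := Subtype.ext (by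
    rw [IsHerm.smul_self, s.val] at huu
    exact (mul_eq_zero.1 huu).resolve_left (mul_ne_zero hδ fun h0 => hδ (IsInvol.apply_eq_zero_iff.1 h0)))
  have hx0 : x ≠ 0 := fun h0 => hu0 (by rw [h0, rat_zero, smul_zero])
  have hc : γ * (δ * σ δ) + σ (γ * (δ * σ δ)) = 0 := by
    rw [map_mul, map_mul, s.herm.invol.invol, eq_neg_of_add_eq_zero_right hγs]
    ring
  refine le_of_seed s hK hxx hx0 hc (fun h => hN ((norm_mem_iff s hγ0 hγ).1 h)) ?_
  convert hT huu γ hγ hγs using 1
  refine Subtype.ext (LinearEquiv.ext fun z => ?_)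
  simp only [IsHerm.tr_apply, Herm.smul_left, smul_smul]
  congr 2
  ring

/-- An Eichler element at a rational centre with a vector having an irrational value. -/
theorem le_of_hasE (hK : HasRat s K) {w y : Fin n → F₀} (hw : B₀ w w = 0) (hw0 : w ≠ 0) (hwy : B₀ w y = 0)
    {δ : Fin n → F} {a : F} (hwd : B (rat F₀ P w) δ = 0) (ha : a + σ a = -B δ δ)
    (hE : HasE s K (rat F₀ P w) δ a) (ht : B (rat F₀ P y) δ ∉ F₀) : HSU B ≤ K := by
  obtain ⟨ω, hω⟩ := s.herm₀.invol.exists_ne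
  have h := s.herm
  have key : ∀ (z : Fin n → F₀), B₀ w z = 0 →
      B (rat F₀ P z) δ - B δ (rat F₀ P z) ∈ F₀ ∨ HSU B ≤ K := by
    intro z hwz
    by_cases hm : B (rat F₀ P z) δ - B δ (rat F₀ P z) ∈ F₀
    · exact Or.inl hm
    right
    obtain ⟨b, hb⟩ := s.herm₀.invol.exists_trace_eq (μ := -B₀ z z) (by rw [map_neg, s.herm₀.self_fixed])
    have hc : (B (rat F₀ P z) δ - B δ (rat F₀ P z)) + σ (B (rat F₀ P z) δ - B δ (rat F₀ P z)) = 0 := by
      rw [map_sub, h.symm, h.symm]; ring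
    refine le_of_seed s hK hw hw0 hc hm ?_
    exact tr_of_commutator s (s.val_zero hw) hwd (s.val_zero hwz) ha
      (by rw [s.comm, ← Subfield.coe_add, hb, s.val, Subfield.coe_neg]) hE (hasE_rat s hK w z b) hc rfl
  rcases key y hwy with h1 | h1
  · rcases key (ω • y) (by rw [smul_right, hwy, mul_zero]) with h2 | h2
    · exfalso
      refine ht ?_
      rw [rat_smul, Herm.smul_left, smul_right, s.comm] at h2
      have h3 := sub_mem (mul_mem ω.2 h1) h2
      have hne : (ω : F) - ((σ₀ ω : F₀) : F) ≠ 0 := fun h0 => hω (Subtype.ext (sub_eq_zero.1 h0).symm)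
      have h4 := mul_mem (inv_mem (sub_mem ω.2 (σ₀ ω).2)) h3
      convert h4 using 1
      rw [eq_inv_mul_iff_mul_eq₀ hne]
      ring
    · exact h2
  · exact h1

/-- A centre orthogonal to a rational isotropic vector. -/
theorem le_of_perp (hK : HasRat s K) {u : Fin n → F} (huu : B u u = 0) (hT : HasT s K u)
    (hline : ∀ (δ : F) x, u ≠ δ • rat F₀ P x) {w : Fin n → F₀} (hw : B₀ w w = 0) (hw0 : w ≠ 0)
    (hwu : B (rat F₀ P w) u = 0) : HSU B ≤ K := by
  by_contra hne
  have h := s.herm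
  have h₀ := s.herm₀
  obtain ⟨γ, hγ0, hγ, hγs⟩ := exists_skew_rat s
  have hσγ : σ γ = -γ := eq_neg_of_add_eq_zero_right hγs
  set W := rat F₀ P w with hW
  have hWW : B W W = 0 := s.val_zero hw
  have huW : B u W = 0 := h.eq_zero_symm hwu
  have hprod : ∀ x y, B₀ w x = 0 → B₀ w y = 0 → σ (B (rat F₀ P x) u) * B (rat F₀ P y) u ∈ F₀ := by
    intro x y hwx hwy
    by_contra hno
    obtain ⟨a, ha⟩ := h₀.invol.exists_trace_eq (μ := -B₀ x x) (by rw [map_neg, h₀.self_fixed])
    set k := -B (rat F₀ P x) u with hk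
    have hx' : B W (rat F₀ P x) = 0 := s.val_zero hwx
    have ha' : (a : F) + σ (a : F) = -B (rat F₀ P x) (rat F₀ P x) := by
      rw [s.comm, ← Subfield.coe_add, ha, s.val, Subfield.coe_neg]
    set g := h.eich hWW hx' ha' with hg
    have hgK : g ∈ K := hasE_rat s hK w x a hWW hx' ha'
    have hgu : (g : (Fin n → F) ≃ₗ[F] (Fin n → F)) u = u + k • W := by
      rw [hg, IsHerm.eich_apply, hwu, hk]
      module
    have m1 := hT huu γ hγ hγs
    have m2 := K.mul_mem (K.mul_mem hgK m1) (K.inv_mem hgK)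
    rw [h.conj_tr] at m2
    have m3 := K.mul_mem m2 (K.inv_mem m1)
    have hwd : B W ((γ * σ k) • u) = 0 := by rw [smul_right, hwu, mul_zero]
    have haE : γ * k * σ k + σ (γ * k * σ k) = -B ((γ * σ k) • u) ((γ * σ k) • u) := by
      rw [IsHerm.smul_self, huu, map_mul, map_mul, h.invol.invol, hσγ]; ring
    have key : h.tr ((HU.map_eq g u u).trans huu) hγs = h.eich hWW hwd haE * h.tr huu hγs := by
      refine Subtype.ext (LinearEquiv.ext fun z => ?_)
      simp only [Subgroup.coe_mul, LinearEquiv.mul_apply, IsHerm.tr_apply, IsHerm.eich_apply, hgu, map_add,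
        LinearMap.add_apply, LinearMap.map_smul, Herm.smul_left, smul_right, map_mul, h.invol.invol, hσγ, huu, hwu,
        huW, mul_zero, add_zero]
      module
    rw [key, mul_inv_cancel_right] at m3
    refine hne (le_of_hasE s hK hw hw0 hwy hwd haE (fun _ _ _ => m3) ?_)
    intro hmem
    refine hno ?_
    rw [smul_right, hk, map_neg] at hmem
    have := neg_mem (mul_mem (inv_mem hγ) hmem)
    convert this using 1
    field_simp
  obtain ⟨f, hwf, hff⟩ := h₀.exists_isotropic_partner hw0 hw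
  set k := B (rat F₀ P f) u with hk
  -- the values off the centre
  have hval : ∀ z, B (rat F₀ P z) (u - k • W) = B (rat F₀ P (z - B₀ w z • f)) u := by
    intro z
    have e : rat F₀ P (z - B₀ w z • f) = rat F₀ P z - ((B₀ w z : F₀) : F) • rat F₀ P f := by
      rw [eq_sub_iff_add_eq, ← rat_smul, ← rat_add, sub_add_cancel]
    rw [e, Herm.sub_left, Herm.smul_left, map_sub, smul_right, hW, s.val, ← h₀.symm w z, ← s.comm, hk]
    ring
  have hperp : ∀ z, B₀ w (z - B₀ w z • f) = 0 := fun z => by rw [map_sub, smul_right, hwf, mul_one, sub_self]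
  obtain ⟨x₀, hx₀⟩ : ∃ z, B (rat F₀ P z) (u - k • W) ≠ 0 := by
    by_contra! hc
    refine hline k w (sub_eq_zero.1 (s.ext fun z => ?_))
    rw [hc z, map_zero]
  set d := B (rat F₀ P x₀) (u - k • W) with hd
  have hN : σ d * d ∈ F₀ := by rw [hd, hval]; exact hprod _ _ (hperp _) (hperp _)
  have hσd : σ d ≠ 0 := fun h0 => hx₀ (IsInvol.apply_eq_zero_iff.1 h0)
  obtain ⟨u₀, hu₀⟩ := s.rat_of_form (v := d⁻¹ • (u - k • W)) fun z => by
    rw [smul_right]
    have h1 : σ d * B (rat F₀ P z) (u - k • W) ∈ F₀ := by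
      rw [hd, hval, hval]; exact hprod _ _ (hperp _) (hperp _)
    convert div_mem h1 hN using 1
    field_simp
  have hu : u = d • rat F₀ P u₀ + k • W := by rw [hu₀, smul_inv_smul₀ hx₀, sub_add_cancel]
  have hkd : σ k * d ∉ F₀ := by
    intro hmem
    have h1 : σ d * k ∈ F₀ := by
      have := (σ₀ ⟨_, hmem⟩).2
      rwa [← s.comm, map_mul, h.invol.invol, mul_comm] at this
    refine hline d (u₀ + (⟨_, div_mem h1 hN⟩ : F₀) • w) ?_
    rw [rat_add, rat_smul, smul_add, smul_smul, hu]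
    congr 2
    field_simp
  have hwu₀ : B₀ w u₀ = 0 := Subtype.ext (by
    rw [← s.val, hu₀, smul_right, map_sub, smul_right, hwu, hWW, ZeroMemClass.coe_zero]; ring)
  have hu₀w : B₀ u₀ w = 0 := h₀.eq_zero_symm hwu₀
  have hU : B (d • rat F₀ P u₀) (d • rat F₀ P u₀) = 0 := by
    have := huu
    rw [hu] at this
    simpa [Herm.smul_left, smul_right, hW, s.val, hwu₀, hu₀w, hw] using this
  have hu₀0 : B₀ u₀ u₀ = 0 := Subtype.ext (by
    rw [IsHerm.smul_self, s.val] at hU
    exact (mul_eq_zero.1 hU).resolve_left (mul_ne_zero hx₀ hσd))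
  -- the twisted element
  have hc0 : (γ * (σ d * d) : F) + σ (γ * (σ d * d)) = 0 := by
    rw [map_mul, map_mul, h.invol.invol, hσγ]; ring
  have hm : h.tr (u := rat F₀ P u₀) (s.val_zero hu₀0) hc0 ∈ K :=
    hK u₀ ⟨_, mul_mem hγ hN⟩ hu₀0 (s.skew_mem hc0 (mul_mem hγ hN))
  have hwd : B W ((γ * σ k * d) • rat F₀ P u₀) = 0 := by rw [smul_right, s.val_zero hwu₀, mul_zero]
  have haE : γ * k * σ k + σ (γ * k * σ k) = -B ((γ * σ k * d) • rat F₀ P u₀) ((γ * σ k * d) • rat F₀ P u₀) := by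
    rw [IsHerm.smul_self, s.val_zero hu₀0, map_mul, map_mul, h.invol.invol, hσγ]; ring
  have key : h.tr huu hγs = h.eich hWW hwd haE * h.tr (u := rat F₀ P u₀) (s.val_zero hu₀0) hc0 := by
    refine Subtype.ext (LinearEquiv.ext fun z => ?_)
    simp only [Subgroup.coe_mul, LinearEquiv.mul_apply, IsHerm.tr_apply, IsHerm.eich_apply, hu, map_add,
      LinearMap.add_apply, LinearMap.map_smul, Herm.smul_left, smul_right, map_mul, h.invol.invol, hσγ,
      s.val_zero hu₀0, s.val_zero hwu₀, s.val_zero hu₀w, hW, mul_zero, add_zero]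
    module
  have m := K.mul_mem (hT huu γ hγ hγs) (K.inv_mem hm)
  rw [key, mul_inv_cancel_right] at m
  obtain ⟨y, hy1, hy2⟩ : ∃ y, B₀ w y = 0 ∧ B₀ y u₀ = 1 := by
    by_contra! hcon
    have hzero : ∀ y, B₀ w y = 0 → B₀ y u₀ = 0 := fun y hy => by
      by_contra hne'
      refine hcon ((σ₀ (B₀ y u₀))⁻¹ • y) (by rw [smul_right, hy, mul_zero]) ?_
      rw [Herm.smul_left, map_inv₀, h₀.invol.invol, inv_mul_cancel₀ hne']
    refine hline (d * ((B₀ f u₀ : F₀) : F) + k) w ?_
    have e : rat F₀ P u₀ = ((B₀ f u₀ : F₀) : F) • W := by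
      rw [hW, ← rat_smul]
      congr 1
      refine sub_eq_zero.1 (h₀.nondeg _ fun y => ?_)
      have h1 := hzero (y - B₀ w y • f) (hperp y)
      rw [Herm.sub_left, Herm.smul_left] at h1
      rw [h₀.symm] at h1
      have h2 := congrArg σ₀ h1
      rw [map_zero, map_sub, map_mul, h₀.symm, h₀.symm] at h2
      rw [Herm.sub_left, Herm.smul_left]
      linear_combination h2
    rw [hu, e, smul_smul, ← add_smul]
  refine hne (le_of_hasE s hK hw hw0 hy1 hwd haE (fun _ _ _ => m) ?_)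
  rw [smul_right, s.val_one hy2, mul_one, mul_assoc]
  intro hmem
  exact hkd (by simpa [hγ0] using mul_mem (inv_mem hγ) hmem)

/-! ### Moving a centre next to a rational isotropic vector -/

theorem exists_frame : ∃ Y H : Fin 2 → Fin n → F₀,
    (∀ i j, B₀ (Y i) (Y j) = 0) ∧ ∀ i j, B₀ (H i) (Y j) = if i = j then 1 else 0 := by
  have h₀ := s.herm₀
  obtain ⟨a₀, b₀, ha₀, hb₀, e₀, -⟩ := exists_pair s (k := 0) (by have := s.dim; omega) ![]
  have f₀ : B₀ b₀ a₀ = 1 := by rw [← h₀.symm, e₀, map_one]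
  obtain ⟨a₁, b₁, ha₁, hb₁, e₁, j₁⟩ := exists_pair_nondeg s (k := 2) (by have := s.dim; omega)
    ![a₀, b₀] fun c hc => by
      have g0 := hc 0
      have g1 := hc 1
      simp [Fin.sum_univ_two, smul_right, ha₀, hb₀, e₀, f₀] at g0 g1
      funext i
      fin_cases i <;> simp [g0, g1]
  simp [Fin.forall_fin_succ] at j₁
  obtain ⟨⟨p₁, p₂⟩, p₃, p₄⟩ := j₁
  have f₁ : B₀ b₁ a₁ = 1 := by rw [← h₀.symm, e₁, map_one]
  have hzero : ∀ {x y : Fin n → F₀}, B₀ x y = 0 → B₀ y x = 0 := fun hxy => h₀.eq_zero_symm hxy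
  refine ⟨![a₀, a₁], ![b₀, b₁], fun i j => ?_, fun i j => ?_⟩
  · fin_cases i <;> fin_cases j <;> simp [ha₀, ha₁, p₁, hzero p₁]
  · fin_cases i <;> fin_cases j <;> simp [f₀, f₁, p₃, hzero p₂]

/-- The injectivity on isotropic vectors forces a large degree. -/
theorem three_le {r : ℕ} (hcard : Nat.card F = Nat.card F₀ ^ r) {u : Fin n → F}
    (hiso : ∀ w, B₀ w w = 0 → w ≠ 0 → B (rat F₀ P w) u ≠ 0) : 3 ≤ r := by
  let ℓ : (Fin n → F₀) →ₗ[F₀] F :=
    { toFun := fun z => σ (B (rat F₀ P z) u)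
      map_add' := fun a b => by rw [rat_add, add_left, map_add]
      map_smul' := fun k a => by
        rw [rat_smul, Herm.smul_left, map_mul, s.herm.invol.invol]
        rfl }
  have hker : Module.finrank F₀ (LinearMap.ker ℓ) ≤ 1 := by
    by_contra! hc
    have hz : ∀ z ∈ LinearMap.ker ℓ, B₀ z z = 0 → z = 0 := fun z hz hzz => by
      by_contra hz0
      exact hiso z hzz hz0 (IsInvol.apply_eq_zero_iff.1 hz)
    obtain ⟨z, hz0, hzz⟩ := (s.herm₀.restrict_herm (U := LinearMap.ker ℓ)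
      fun x hx hy => hz x hx (hy x hx)).exists_isotropic hc
    exact hz0 (Subtype.ext (hz z z.2 hzz))
  have h1 := LinearMap.finrank_range_add_finrank_ker ℓ
  have h2 := Module.natCard_eq_pow_finrank (K := F₀) (V := LinearMap.range ℓ)
  have h3 : Nat.card (LinearMap.range ℓ) ≤ Nat.card F :=
    Nat.card_le_card_of_injective Subtype.val Subtype.val_injective
  rw [h2, hcard] at h3
  have h4 := (Nat.pow_le_pow_iff_right (Finite.one_lt_card : 1 < Nat.card F₀)).1 h3
  rw [Module.finrank_fin_fun] at h1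
  have := s.dim
  omega

/-- A square root in the fixed field of a rational number is rational. -/
theorem rat_of_sq {x : F} (hx2 : x * x ∈ F₀) : x ∈ F₀ := by
  classical
  haveI : Fintype F := Fintype.ofFinite F
  obtain ⟨r, hr, hr2, hcard⟩ := s.deg
  rw [Nat.card_eq_fintype_card] at hcard
  by_contra hxn
  set S : Set F := {y | ∃ a b : F₀, y = a + b * x} with hS
  have hall := SympSubfield.mem_all_of_closed hr hcard (S := S)
    (fun y hy => ⟨⟨y, hy⟩, 0, by simp⟩)
    (fun y ⟨a, b, e⟩ z ⟨a', b', e'⟩ => ⟨a + a', b + b', by rw [e, e']; push_cast; ring⟩)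
    (fun y ⟨a, b, e⟩ z ⟨a', b', e'⟩ => ⟨a * a' + b * b' * ⟨_, hx2⟩, a * b' + b * a', by
      rw [e, e']; push_cast; ring⟩)
    (σ := x) ⟨0, 1, by simp⟩ hxn
  choose a b hab using hall
  have hle : Fintype.card F ≤ Nat.card F₀ ^ 2 := by
    rw [← Nat.card_eq_fintype_card, sq, ← Nat.card_prod]
    exact Nat.card_le_card_of_injective (fun y => (a y, b y)) fun y z e => by
      obtain ⟨e1, e2⟩ := Prod.ext_iff.1 e
      simp only at e1 e2
      rw [hab y, hab z, e1, e2]
  rw [hcard] at hle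
  have := (Nat.pow_le_pow_iff_right (Finite.one_lt_card : 1 < Nat.card F₀)).1 hle
  have := hr.two_le
  omega

/-- A normal form for the vectors gives few products with norms. -/
theorem card_le_of_forms {J : Type*} [Finite J] {m : ℕ} (φ : (Fin m → F₀) → F) (rep : J → F)
    (hrep : ∀ a, ∃ (c : F₀) (j : J), φ a = (c : F) * rep j)
    (hall : ∀ x : fixedSub σ, ∃ (k : F₀) (a : Fin m → F₀), (x : F) * x = (k : F) * (φ a * σ (φ a))) :
    Nat.card (fixedSub σ) ≤ (Nat.card (fixedSub σ₀) - 1) * Nat.card J + 1 := by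
  classical
  have h := s.herm
  have hval : ∀ x : fixedSub σ, (x : F) ≠ 0 → ∃ (k : F₀) (j : J), k ≠ 0 ∧ (x : F) * x = (k : F) * (rep j * σ (rep j)) ∧
      rep j * σ (rep j) ≠ 0 := by
    intro x hx
    obtain ⟨k, a, hka⟩ := hall x
    obtain ⟨c, j, hcj⟩ := hrep a
    have e : (x : F) * x = ((k * (c * σ₀ c) : F₀) : F) * (rep j * σ (rep j)) := by
      rw [hka, hcj, map_mul, s.comm, Subfield.coe_mul, Subfield.coe_mul]
      ring
    exact ⟨_, j, fun h' => mul_ne_zero hx hx (by rw [e, h', ZeroMemClass.coe_zero, zero_mul]), e,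
      fun h' => mul_ne_zero hx hx (by rw [e, h', mul_zero])⟩
  choose k j hk hkj hN using hval
  let base : J → fixedSub σ := fun l => if hl : ∃ (y : fixedSub σ) (hy : (y : F) ≠ 0), j y hy = l then hl.choose else 0
  have hbase : ∀ (x : fixedSub σ) (hx : (x : F) ≠ 0), ∃ hb : (base (j x hx) : F) ≠ 0, j _ hb = j x hx := fun x hx => by
    have hl : ∃ (y : fixedSub σ) (hy : (y : F) ≠ 0), j y hy = j x hx := ⟨x, hx, rfl⟩
    simp only [base, dif_pos hl]
    exact hl.choose_spec
  have hratio : ∀ (x : fixedSub σ) (hx : (x : F) ≠ 0), (x : F) / base (j x hx) ∈ F₀ := fun x hx => by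
    obtain ⟨hb, hbj⟩ := hbase x hx
    refine rat_of_sq s ?_
    rw [div_mul_div_comm, hkj x hx, hkj _ hb, hbj, mul_div_mul_right _ _ (hN x hx)]
    exact div_mem (k x hx).2 (k _ hb).2
  have hfix : ∀ (x : fixedSub σ) (hx : (x : F) ≠ 0), (⟨_, hratio x hx⟩ : F₀) ∈ fixedSub σ₀ := fun x hx =>
    mem_fixedSub.2 (Subtype.ext (by rw [← s.comm, map_div₀, mem_fixedSub.1 x.2, mem_fixedSub.1 (base (j x hx)).2]))
  let o : fixedSub σ → Option ({k : fixedSub σ₀ // k ≠ 0} × J) := fun x =>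
    if hx : (x : F) = 0 then none else some (⟨⟨⟨_, hratio x hx⟩, hfix x hx⟩, fun e => by
      obtain ⟨hb, -⟩ := hbase x hx
      exact div_ne_zero hx hb (congrArg (fun z : fixedSub σ₀ => ((z : F₀) : F)) e)⟩, j x hx)
  have ho : Function.Injective o := fun x y hxy => by
    simp only [o] at hxy
    by_cases hx : (x : F) = 0 <;> by_cases hy : (y : F) = 0 <;> simp [hx, hy] at hxy
    · exact Subtype.ext (hx.trans hy.symm)
    · obtain ⟨e, ej⟩ := hxy
      have e' : (x : F) / base (j x hx) = (y : F) / base (j y hy) := e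
      obtain ⟨hb, -⟩ := hbase y hy
      rw [ej, div_left_inj' hb] at e'
      exact Subtype.ext e'
  have hcard : Nat.card (Option ({k : fixedSub σ₀ // k ≠ 0} × J)) =
      (Nat.card (fixedSub σ₀) - 1) * Nat.card J + 1 := by
    haveI : Fintype J := Fintype.ofFinite J
    haveI : Fintype (fixedSub σ₀) := Fintype.ofFinite _
    simp [Nat.card_eq_fintype_card, Fintype.card_subtype_compl]
  exact hcard ▸ Nat.card_le_card_of_injective o ho

theorem card_fixed₀ : Nat.card F₀ = Nat.card (fixedSub σ₀) ^ 2 := s.herm₀.invol.card_sq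

/-- For a plane some square avoids the products with norms. -/
theorem exists_lam_two {r : ℕ} (hr : 3 ≤ r) (hE : Nat.card (fixedSub σ) = Nat.card (fixedSub σ₀) ^ r)
    (φ : (Fin 2 → F₀) →ₗ[F₀] F) :
    ∃ lam : fixedSub σ, ∀ (k : F₀) (a : Fin 2 → F₀), (lam : F) * lam ≠ (k : F) * (φ a * σ (φ a)) := by
  classical
  by_contra! hall
  have hrep : ∀ a, ∃ (c : F₀) (j : Option F₀), φ a = (c : F) * φ (j.elim ![0, 1] fun t => ![1, t]) := by
    intro a
    by_cases h0 : a 0 = 0
    · refine ⟨a 1, none, ?_⟩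
      rw [show ∀ (c : F₀) x, (c : F) * φ x = φ (c • x) from fun c x => (map_smul φ c x).symm]
      congr 1
      ext i; fin_cases i <;> simp [h0]
    · refine ⟨a 0, some (a 1 / a 0), ?_⟩
      rw [show ∀ (c : F₀) x, (c : F) * φ x = φ (c • x) from fun c x => (map_smul φ c x).symm]
      congr 1
      ext i; fin_cases i <;> simp [mul_div_cancel₀ _ h0]
  have h1 := card_le_of_forms s φ _ hrep hall
  have hc : Nat.card (Option F₀) = Nat.card (fixedSub σ₀) ^ 2 + 1 := by
    rw [Finite.card_option, card_fixed₀ s]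
  rw [hc, hE] at h1
  have hq : 2 ≤ Nat.card (fixedSub σ₀) := Finite.one_lt_card
  generalize Nat.card (fixedSub σ₀) = q at h1 hq
  obtain ⟨p, rfl⟩ : ∃ p, q = p + 1 := ⟨q - 1, by omega⟩
  rw [Nat.add_sub_cancel] at h1
  have h3 : p * ((p + 1) ^ 2 + 1) + 1 < (p + 1) ^ 3 := by
    have h5 : (p + 1) ^ 3 = p * ((p + 1) ^ 2 + 1) + 1 + (p * p + p) := by ring
    have : 0 < p * p + p := by omega
    omega
  have h5 := Nat.pow_le_pow_right (show 0 < p + 1 by omega) hr
  omega

/-- An additive group with the norm and the traces of an irrational element has eight elements, over four. -/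
theorem eight_le (hq : Nat.card (fixedSub σ₀) = 2) (S : AddSubgroup F) (h1 : (1 : F) ∈ S) {z : F} (hz : z ∉ F₀)
    (hN : z * σ z ∈ S) (ht : ∀ k : F₀, (k : F) * z + σ ((k : F) * z) ∈ S) : 8 ≤ Nat.card S := by
  classical
  haveI : Fintype F := Fintype.ofFinite F
  have h := s.herm
  have hc4 : Nat.card F₀ = 4 := by rw [card_fixed₀ s, hq]; norm_num
  have h2 : (2 : F) = 0 := by
    haveI : Fintype F₀ := Fintype.ofFinite F₀
    have h4 := FiniteField.cast_card_eq_zero F₀
    rw [← Nat.card_eq_fintype_card, hc4] at h4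
    have h4' : ((4 : ℕ) : F) = 0 := by rw [← map_natCast F₀.subtype 4, h4, map_zero]
    have : (2 : F) * 2 = 0 := by rw [← h4']; norm_num
    exact mul_self_eq_zero.1 this
  have hadd : ∀ x : F, x + x = 0 := fun x => by rw [← two_mul, h2, zero_mul]
  obtain ⟨ω, hω⟩ := s.herm₀.invol.exists_ne
  set δ : F := (ω : F) + σ (ω : F) with hδ
  have hδ0 : δ ≠ 0 := fun e => hω (Subtype.ext (by
    rw [← s.comm]
    linear_combination e - hadd (ω : F)))
  set t₁ := z + σ z with ht₁
  set t₂ := (ω : F) * z + σ ((ω : F) * z) with ht₂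
  have m1 : t₁ ∈ S := by simpa using ht 1
  have m2 : t₂ ∈ S := ht ω
  have hzeq : δ * z = t₂ + σ (ω : F) * t₁ := by
    rw [ht₁, ht₂, hδ, map_mul]
    linear_combination (-(σ (ω : F) * σ z)) * h2
  have hσω : σ (ω : F) ∈ F₀ := by rw [s.comm]; exact SetLike.coe_mem _
  have hδF : δ ∈ F₀ := add_mem ω.2 hσω
  obtain ⟨t, htS, ht0, ht1, htt⟩ : ∃ t ∈ S, t ≠ 0 ∧ t ≠ 1 ∧ (t = t₁ ∨ t = t₂) := by
    by_contra! hc
    have two : ∀ x, x = t₁ ∨ x = t₂ → x ∈ F₀ := fun x hx => by
      by_cases hx0 : x = 0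
      · rw [hx0]; exact zero_mem _
      by_cases hx1 : x = 1
      · rw [hx1]; exact one_mem _
      rcases hx with rfl | rfl
      · exact absurd rfl (hc _ m1 hx0 hx1).1
      · exact absurd rfl (hc _ m2 hx0 hx1).2
    refine hz ?_
    have := mul_mem (inv_mem hδF) (add_mem (two _ (Or.inr rfl)) (mul_mem hσω (two _ (Or.inl rfl))))
    rwa [← hzeq, inv_mul_cancel_left₀ hδ0] at this
  have htfix : σ t = t := by
    rcases htt with rfl | rfl
    · rw [ht₁, map_add, h.invol.invol]; ring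
    · rw [ht₂, map_add, h.invol.invol]; ring
  have ht4 : t ∉ F₀ := fun hm => by
    obtain ⟨b, hb⟩ : ∃ b : fixedSub σ₀, ((b : F₀) : F) = t :=
      ⟨⟨⟨t, hm⟩, mem_fixedSub.2 (Subtype.ext (by rw [← s.comm]; exact htfix))⟩, rfl⟩
    haveI : Fintype (fixedSub σ₀) := Fintype.ofFinite _
    have hall : ∀ b : fixedSub σ₀, b = 0 ∨ b = 1 := fun b => by
      by_contra! hb'
      have h3 := Finset.card_le_univ ({0, 1, b} : Finset (fixedSub σ₀))
      rw [← Nat.card_eq_fintype_card, hq, Finset.card_insert_of_notMem (by simp [Ne.symm hb'.1]),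
        Finset.card_insert_of_notMem (by simp [Ne.symm hb'.2]), Finset.card_singleton] at h3
      omega
    rcases hall b with rfl | rfl
    · exact ht0 (by rw [← hb]; rfl)
    · exact ht1 (by rw [← hb]; rfl)
  obtain ⟨u, huS, hu⟩ : ∃ u ∈ S, ¬ (u = 0 ∨ u = 1 ∨ u = t ∨ u = 1 + t) := by
    by_contra! hT
    have q1 := hT t₁ m1
    have q2 := hT t₂ m2
    have q3 := hT _ hN
    -- the norm is a quadratic expression in the traces
    have hω1 : (ω : F) * σ (ω : F) = 1 ∧ δ = 1 := by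
      have e1 : (ω : F₀) * σ₀ ω ∈ fixedSub σ₀ := s.herm₀.invol.norm_mem ω
      have e2 : ω + σ₀ ω ∈ fixedSub σ₀ := mem_fixedSub.2 (by rw [map_add, s.herm₀.invol.invol, add_comm])
      haveI : Fintype (fixedSub σ₀) := Fintype.ofFinite _
      have hall : ∀ b : fixedSub σ₀, b ≠ 0 → b = 1 := fun b hb0 => by
        by_contra hb'
        have h3 := Finset.card_le_univ ({0, 1, b} : Finset (fixedSub σ₀))
        rw [← Nat.card_eq_fintype_card, hq, Finset.card_insert_of_notMem (by simp [Ne.symm hb0]),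
          Finset.card_insert_of_notMem (by simp [Ne.symm hb']), Finset.card_singleton] at h3
        omega
      have hω0 : ω ≠ 0 := fun e => hω (by rw [e, map_zero])
      have f1 := hall ⟨_, e1⟩ fun e => mul_ne_zero hω0 (fun e' => hω0 (IsInvol.apply_eq_zero_iff.1 e'))
        (congrArg Subtype.val e)
      have f2 := hall ⟨_, e2⟩ fun e => hδ0 (by
        rw [hδ, s.comm, ← Subfield.coe_add, show ω + σ₀ ω = 0 from congrArg Subtype.val e, ZeroMemClass.coe_zero])
      constructor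
      · rw [s.comm, ← Subfield.coe_mul, show ω * σ₀ ω = 1 from congrArg Subtype.val f1, OneMemClass.coe_one]
      · rw [hδ, s.comm, ← Subfield.coe_add, show ω + σ₀ ω = 1 from congrArg Subtype.val f2, OneMemClass.coe_one]
    have hNz : z * σ z = t₂ * t₂ + t₁ * t₂ + t₁ * t₁ := by
      have e1 : z = t₂ + σ (ω : F) * t₁ := by rw [← hzeq, hω1.2, one_mul]
      have hf1 : σ t₁ = t₁ := by rw [ht₁, map_add, h.invol.invol]; ring
      have hf2 : σ t₂ = t₂ := by rw [ht₂, map_add, h.invol.invol]; ring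
      rw [e1, map_add, map_mul, h.invol.invol, hf1, hf2]
      linear_combination t₁ * t₁ * hω1.1 + t₁ * t₂ * hω1.2
    rw [hNz] at q3
    have hsym : ∀ a b : F, (b = 0 ∨ b = 1 ∨ b = a ∨ b = 1 + a) →
        b * b + a * b + a * a = a * a ∨ b * b + a * b + a * a = 1 + a + a * a := by
      intro a b hb
      rcases hb with rfl | rfl | rfl | rfl
      · left; ring
      · right; ring
      · left; linear_combination (b * b) * h2
      · right; linear_combination (a + a * a) * h2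
    have htt' : t * t = 0 ∨ t * t = 1 ∨ t * t = t ∨ t * t = 1 + t := by
      have hcl : ∀ x : F, (x = 0 ∨ x = 1 ∨ x = t ∨ x = 1 + t) →
          (1 + t + x = 0 ∨ 1 + t + x = 1 ∨ 1 + t + x = t ∨ 1 + t + x = 1 + t) := by
        intro x hx
        rcases hx with rfl | rfl | rfl | rfl
        · right; right; right; ring
        · right; right; left; linear_combination h2
        · right; left; linear_combination x * h2
        · left; linear_combination (1 + t) * h2
      have key : t * t = t₂ * t₂ + t₁ * t₂ + t₁ * t₁ ∨ 1 + t + t * t = t₂ * t₂ + t₁ * t₂ + t₁ * t₁ := by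
        rcases htt with e | e
        · rw [← e]
          exact (hsym t t₂ q2).imp Eq.symm Eq.symm
        · rw [← e]
          rw [show t * t + t₁ * t + t₁ * t₁ = t₁ * t₁ + t * t₁ + t * t by ring]
          exact (hsym t t₁ q1).imp Eq.symm Eq.symm
      rcases key with e | e
      · rwa [e]
      · have := hcl _ q3
        rw [← e, show 1 + t + (1 + t + t * t) = t * t by linear_combination (1 + t) * h2] at this
        exact this
    rcases htt' with e | e | e | e
    · exact ht0 (mul_self_eq_zero.1 e)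
    · refine ht1 (sub_eq_zero.1 (mul_self_eq_zero.1 ?_))
      linear_combination e + (1 - t) * h2
    · exact ht1 (mul_left_cancel₀ ht0 (by rw [e, mul_one]))
    · refine ht4 ((Dickson.mem_subfield_iff_pow (L := F₀)).2 ?_)
      rw [hc4]
      linear_combination (t * t + t + 2) * e + (t + 1) * h2
  let f : Bool × Bool × Bool → S := fun x =>
    ⟨(if x.1 then 1 else 0) + (if x.2.1 then t else 0) + (if x.2.2 then u else 0),
      S.add_mem (S.add_mem (by split_ifs <;> simp [h1]) (by split_ifs <;> simp [htS])) (by split_ifs <;> simp [huS])⟩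
  have hf : Function.Injective f := by
    let v : Bool × Bool × Bool → F := fun x =>
      (if x.1 then 1 else 0) + (if x.2.1 then t else 0) + (if x.2.2 then u else 0)
    have hv : ∀ x y, v x + v y = v (xor x.1 y.1, xor x.2.1 y.2.1, xor x.2.2 y.2.2) := by
      have k : ∀ (p q : Bool) (w : F), (if p then w else 0) + (if q then w else 0) = if xor p q then w else 0 := by
        intro p q w
        cases p <;> cases q <;> simp [hadd]
      intro x y
      simp only [v, ← k]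
      ring
    have hv0 : ∀ x, v x = 0 → x = (false, false, false) := by
      rintro ⟨a, b, c⟩ e
      by_contra hne
      cases a <;> cases b <;> cases c <;> simp [v] at e hne
      · exact hu (Or.inl e)
      · exact ht0 e
      · exact hu (Or.inr (Or.inr (Or.inl (by linear_combination e - t * h2))))
      · exact hu (Or.inr (Or.inl (by linear_combination e - h2)))
      · exact ht1 (by linear_combination e - h2)
      · exact hu (Or.inr (Or.inr (Or.inr (by linear_combination e - (1 + t) * h2))))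
    intro x y e
    have h0 := hv0 _ ((hv x y).symm.trans (by rw [show v x = v y from congrArg Subtype.val e, hadd]))
    simpa [Prod.ext_iff] using h0
  have := Nat.card_le_card_of_injective f hf
  simpa [Nat.card_eq_fintype_card] using this

/-- The main step, for a totally isotropic frame. -/
theorem le_of_frame (hK : HasRat s K) {u : Fin n → F} (huu : B u u = 0) (hT : HasT s K u)
    (hiso : ∀ w, B₀ w w = 0 → w ≠ 0 → B (rat F₀ P w) u ≠ 0) {m : ℕ} [NeZero m] (Y H : Fin m → Fin n → F₀)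
    (hYY : ∀ i j, B₀ (Y i) (Y j) = 0) (hHY : ∀ i j, B₀ (H i) (Y j) = if i = j then 1 else 0)
    (hm : 2 ≤ m)
    (hlamex : ∀ φ : (Fin m → F₀) →ₗ[F₀] F,
      ∃ lam : fixedSub σ, ∀ (k : F₀) (a : Fin m → F₀), (lam : F) * lam ≠ (k : F) * (φ a * σ (φ a))) :
    HSU B ≤ K := by
  classical
  have h := s.herm
  have h₀ := s.herm₀
  obtain ⟨r, hr, -, hcard⟩ := s.deg
  obtain ⟨γ, hγ0, hγ, hγs⟩ := exists_skew_rat s
  have hσγ : σ γ = -γ := eq_neg_of_add_eq_zero_right hγs
  have hγσ : σ (γ * γ) = γ * γ := by rw [map_mul, hσγ]; ring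
  haveI : Fintype F := Fintype.ofFinite F
  set E := fixedSub σ with hE
  haveI : Fintype E := Fintype.ofFinite E
  set E₀ : Subfield E := F₀.comap E.subtype with hE₀
  have hcF : Nat.card F = Nat.card E ^ 2 := h.invol.card_sq
  have hc0 : Nat.card F₀ = Nat.card E₀ ^ 2 := by
    rw [h₀.invol.card_sq]
    congr 1
    refine Nat.card_congr
      { toFun := fun x => ⟨⟨((x : F₀) : F), by
          rw [hE, mem_fixedSub, s.comm, mem_fixedSub.1 x.2]⟩, (x : F₀).2⟩
        invFun := fun y => ⟨⟨((y : E) : F), y.2⟩, by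
          rw [mem_fixedSub]
          exact Subtype.ext ((s.comm ⟨((y : E) : F), y.2⟩).symm.trans (mem_fixedSub.1 (y : E).2))⟩
        left_inv := fun x => rfl
        right_inv := fun y => rfl }
  have hcE : Fintype.card E = Nat.card E₀ ^ r := by
    rw [← Nat.card_eq_fintype_card]
    refine Nat.pow_left_injective two_ne_zero ?_
    show Nat.card E ^ 2 = (Nat.card E₀ ^ r) ^ 2
    rw [← hcF, hcard, hc0, ← pow_mul, ← pow_mul, mul_comm]
  let ψ : (Fin m → F₀) → Fin n → F₀ := fun a => ∑ i, a i • Y i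
  have hψψ : ∀ a b, B₀ (ψ a) (ψ b) = 0 := fun a b => by simp [ψ, map_sum, Herm.smul_left, smul_right, hYY]
  have hψH : ∀ a j, B₀ (H j) (ψ a) = a j := fun a j => by simp [ψ, map_sum, smul_right, hHY]
  have hψr : ∀ a, rat F₀ P (ψ a) = ∑ i, (a i : F) • rat F₀ P (Y i) := fun a => by
    have : ∀ S : Finset (Fin m), rat F₀ P (∑ i ∈ S, a i • Y i) = ∑ i ∈ S, (a i : F) • rat F₀ P (Y i) := by
      intro S
      induction S using Finset.induction with
      | empty => simp [rat_zero]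
      | insert j S hj ih => rw [Finset.sum_insert hj, Finset.sum_insert hj, rat_add, rat_smul, ih]
    exact this _
  let φ : (Fin m → F₀) → F := fun a => B u (rat F₀ P (ψ a))
  have hφlin : ∀ a b, φ (a + b) = φ a + φ b := fun a b => by
    show B u (rat F₀ P (ψ (a + b))) = _
    rw [show ψ (a + b) = ψ a + ψ b by simp [ψ, add_smul, Finset.sum_add_distrib], rat_add, map_add]
  have hφsmul : ∀ (k : F₀) a, φ (k • a) = (k : F) * φ a := fun k a => by
    show B u (rat F₀ P (ψ (k • a))) = _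
    rw [show ψ (k • a) = k • ψ a by simp [ψ, Finset.smul_sum, smul_smul], rat_smul, smul_right]
  have hφinj : ∀ a, φ a = 0 → a = 0 := by
    intro a ha
    by_contra ha0
    refine hiso (ψ a) (hψψ a a) (fun h0 => ha0 (funext fun j => ?_)) (h.eq_zero_symm ha)
    rw [← hψH a j, h0, map_zero]; rfl
  -- the totally isotropic space
  set YF : Submodule F (Fin n → F) := Submodule.span F (Set.range fun i => rat F₀ P (Y i)) with hYF
  have hψY : ∀ a, rat F₀ P (ψ a) ∈ YF := fun a => by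
    rw [hψr]
    exact Submodule.sum_mem _ fun i _ => YF.smul_mem _ (Submodule.subset_span ⟨i, rfl⟩)
  have hiso' : ∀ x ∈ YF, ∀ y ∈ YF, B x y = 0 := by
    intro x hx y hy
    obtain ⟨a, rfl⟩ := (Submodule.mem_span_range_iff_exists_fun F).1 hx
    obtain ⟨c, rfl⟩ := (Submodule.mem_span_range_iff_exists_fun F).1 hy
    simp [map_sum, Herm.smul_left, smul_right, s.val, hYY]
  have hy0 : φ (Pi.single 0 1) ≠ 0 := fun h0 => by simpa using congrFun (hφinj _ h0) 0
  set e := (φ (Pi.single 0 1))⁻¹ • rat F₀ P (ψ (Pi.single 0 1)) with he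
  have heY : e ∈ YF := YF.smul_mem _ (hψY _)
  have hue : B u e = 1 := by
    rw [he, smul_right]
    exact inv_mul_cancel₀ hy0
  have heu : B e u = 1 := by rw [← h.symm, hue, map_one]
  have hee : B e e = 0 := hiso' e heY e heY
  set R : Submodule F (Fin n → F) := YF ⊓ LinearMap.ker (B u) with hR
  have hRu : ∀ z ∈ R, B u z = 0 := fun z hz => LinearMap.mem_ker.1 hz.2
  have hRu' : ∀ z ∈ R, B z u = 0 := fun z hz => h.eq_zero_symm (hRu z hz)
  have hRe : ∀ z ∈ R, B e z = 0 := fun z hz => hiso' e heY z hz.1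
  have hYdec : ∀ y ∈ YF, y - B u y • e ∈ R := fun y hy =>
    ⟨YF.sub_mem hy (YF.smul_mem _ heY), by simp [smul_right, hue]⟩
  let X : Submodule F (Fin n → F) :=
    R.comap (LinearMap.id - (B e).smulRight u - (B u).smulRight e)
  have hX : ∀ x, x ∈ X ↔ x - B e x • u - B u x • e ∈ R := fun x => Iff.rfl
  have huX : u ∈ X := by rw [hX, heu, huu, one_smul, zero_smul, sub_self, sub_zero]; exact zero_mem _
  have hYX : ∀ y ∈ YF, y ∈ X := fun y hy => by
    rw [hX, hiso' e heY y hy, zero_smul, sub_zero]; exact hYdec y hy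
  set Good : HU B → Prop := fun g => g ∈ K ∧ (g : (Fin n → F) ≃ₗ[F] (Fin n → F)) u ∈ X ∧
    (g : (Fin n → F) ≃ₗ[F] (Fin n → F)) e ∈ X ∧ ∀ z ∈ R, (g : (Fin n → F) ≃ₗ[F] (Fin n → F)) z = z with hGood
  set pm : HU B → Matrix (Fin 2) (Fin 2) F := fun g =>
    !![B e ((g : (Fin n → F) ≃ₗ[F] (Fin n → F)) u), B e ((g : (Fin n → F) ≃ₗ[F] (Fin n → F)) e) / γ;
      γ * B u ((g : (Fin n → F) ≃ₗ[F] (Fin n → F)) u), B u ((g : (Fin n → F) ≃ₗ[F] (Fin n → F)) e)] with hpm
  have hmul : ∀ g g', Good g → Good g' → Good (g * g') ∧ pm (g * g') = pm g * pm g' := by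
    intro g g' hg hg'
    have himg : ∀ x ∈ X, ∃ y ∈ R, (g : (Fin n → F) ≃ₗ[F] (Fin n → F)) x =
        B e x • (g : (Fin n → F) ≃ₗ[F] (Fin n → F)) u + B u x • (g : (Fin n → F) ≃ₗ[F] (Fin n → F)) e + y := by
      intro x hx
      refine ⟨_, (hX x).1 hx, ?_⟩
      have hfix := hg.2.2.2 _ ((hX x).1 hx)
      simp only [map_sub, LinearEquiv.map_smul] at hfix
      rw [← hfix]
      abel
    have hmap : ∀ x ∈ X, (g : (Fin n → F) ≃ₗ[F] (Fin n → F)) x ∈ X := fun x hx => by
      obtain ⟨y, hy, e'⟩ := himg x hx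
      rw [e']
      exact add_mem (add_mem (X.smul_mem _ hg.2.1) (X.smul_mem _ hg.2.2.1)) (hYX y hy.1)
    refine ⟨⟨K.mul_mem hg.1 hg'.1, hmap _ hg'.2.1, hmap _ hg'.2.2.1, fun z hz => ?_⟩, ?_⟩
    · show (g : (Fin n → F) ≃ₗ[F] (Fin n → F)) ((g' : (Fin n → F) ≃ₗ[F] (Fin n → F)) z) = z
      rw [hg'.2.2.2 z hz, hg.2.2.2 z hz]
    obtain ⟨z₁, hz₁, e₁⟩ := himg _ hg'.2.1
    obtain ⟨z₂, hz₂, e₂⟩ := himg _ hg'.2.2.1
    simp only [hpm, Subgroup.coe_mul, LinearEquiv.mul_apply, e₁, e₂, map_add, smul_right, hRe _ hz₁, hRe _ hz₂,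
      hRu _ hz₁, hRu _ hz₂, add_zero]
    ext i j
    fin_cases i <;> fin_cases j <;> simp [Matrix.mul_apply, Fin.sum_univ_two] <;> field_simp <;> ring
  have hone : Good 1 ∧ pm 1 = 1 := by
    refine ⟨⟨one_mem _, huX, hYX e heY, fun z _ => rfl⟩, ?_⟩
    simp only [hpm, OneMemClass.coe_one, LinearEquiv.coe_one, id_eq, heu, hue, huu, hee, zero_div, mul_zero]
    exact (Matrix.one_fin_two).symm
  let M : Submonoid SL(2, E) :=
    { carrier := {A | ∃ g, Good g ∧ pm g = (A : Matrix (Fin 2) (Fin 2) E).map E.subtype}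
      one_mem' := ⟨1, hone.1, by rw [hone.2]; simp⟩
      mul_mem' := by
        rintro A A' ⟨g, hg, e'⟩ ⟨g', hg', e''⟩
        exact ⟨g * g', (hmul g g' hg hg').1, by
          rw [(hmul g g' hg hg').2, e', e'', Matrix.SpecialLinearGroup.coe_mul, Matrix.map_mul]⟩ }
  let L : Subgroup SL(2, E) :=
    { M with
      inv_mem' := fun {A} hA => by
        have hpos : 0 < orderOf A := orderOf_pos A
        have e : A ^ (orderOf A - 1) = A⁻¹ := eq_inv_of_mul_eq_one_left (by
          rw [← pow_succ, Nat.sub_add_cancel hpos, pow_orderOf_eq_one])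
        rw [← e]
        exact M.pow_mem hA _ }
  have hU : SLTwoGen.up (1 : E) ∈ L := by
    refine ⟨h.tr huu hγs, ⟨hT huu γ hγ hγs, ?_, ?_, fun z hz => h.tr_fix huu hγs (hRu z hz)⟩, ?_⟩
    · rw [h.tr_fix huu hγs huu]; exact huX
    · rw [h.tr_apply]; exact add_mem (hYX e heY) (X.smul_mem _ huX)
    · simp only [hpm, h.tr_fix huu hγs huu, h.tr_apply, hue, map_add, smul_right, heu, hee, huu, mul_one, mul_zero,
        add_zero, zero_add]
      ext i j
      fin_cases i <;> fin_cases j <;> simp [SLTwoGen.up, hγ0]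
  let Bs : AddSubgroup E :=
    AddSubgroup.closure {x | ∃ (k : E₀) (a : Fin m → F₀), (x : F) = γ * γ * ((k : E) : F) * (φ a * σ (φ a))}
  have hlo : ∀ x ∈ Bs, SLTwoGen.lo x ∈ L := by
    intro x hx
    induction hx using AddSubgroup.closure_induction with
    | mem x hx =>
      obtain ⟨k, a, hka⟩ := hx
      have hc : γ * ((k : E) : F) + σ (γ * ((k : E) : F)) = 0 := by
        rw [map_mul, hσγ, mem_fixedSub.1 (k : E).2]; ring
      have hcF : γ * ((k : E) : F) ∈ F₀ := mul_mem hγ k.2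
      have hyy : B (rat F₀ P (ψ a)) (rat F₀ P (ψ a)) = 0 := s.val_zero (hψψ a a)
      have hfix : ∀ z ∈ YF, (h.tr hyy hc : (Fin n → F) ≃ₗ[F] (Fin n → F)) z = z := fun z hz =>
        h.tr_fix hyy hc (hiso' _ (hψY a) z hz)
      refine ⟨h.tr hyy hc, ⟨hK (ψ a) ⟨_, hcF⟩ (hψψ a a) (s.skew_mem hc hcF), ?_, ?_, fun z hz => hfix z hz.1⟩, ?_⟩
      · rw [h.tr_apply]; exact add_mem huX (X.smul_mem _ (hYX _ (hψY a)))
      · rw [hfix e heY]; exact hYX e heY
      · simp only [hpm, hfix e heY, h.tr_apply, map_add, smul_right, heu, hee, huu, hue, hiso' e heY _ (hψY a),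
          mul_zero, add_zero, zero_add, zero_div]
        ext i j
        fin_cases i <;> fin_cases j <;> simp [SLTwoGen.lo, hka, φ, h.symm]
        ring
    | zero =>
      rw [show SLTwoGen.lo (0 : E) = 1 from Subtype.ext (by
        ext i j
        fin_cases i <;> fin_cases j <;> simp [SLTwoGen.lo])]
      exact one_mem _
    | add y z _ _ hy hz => rw [← SLTwoGen.lo_mul]; exact mul_mem hy hz
    | neg y _ hy =>
      rw [show SLTwoGen.lo (-y) = (SLTwoGen.lo y)⁻¹ from (inv_eq_of_mul_eq_one_right (by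
        rw [SLTwoGen.lo_mul, add_neg_cancel]
        refine Subtype.ext ?_
        ext i j
        fin_cases i <;> fin_cases j <;> simp [SLTwoGen.lo])).symm]
      exact inv_mem hy
  have hB₀ : ∀ c ∈ E₀, ∀ x ∈ Bs, c * x ∈ Bs := by
    intro c hc x hx
    induction hx using AddSubgroup.closure_induction with
    | mem y hy =>
      obtain ⟨k, a, hka⟩ := hy
      exact AddSubgroup.subset_closure ⟨⟨c * (k : E), mul_mem hc k.2⟩, a, by
        simp only [Subfield.coe_mul, hka]; ring⟩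
    | zero => simp
    | add y z _ _ hy hz => rw [mul_add]; exact add_mem hy hz
    | neg y _ hy => rw [mul_neg]; exact neg_mem hy
  have hBc : Nat.card E₀ ^ m ≤ Nat.card Bs := by
    have hN : ∀ a, ∃ x : Bs, ((x : E) : F) = γ * γ * (φ a * σ (φ a)) := fun a =>
      ⟨⟨⟨γ * γ * (φ a * σ (φ a)), mul_mem (mem_fixedSub.2 hγσ) (h.invol.norm_mem _)⟩,
        AddSubgroup.subset_closure ⟨1, a, by simp⟩⟩, rfl⟩
    choose N hN using hN
    set a₁ : Fin m → F₀ := Pi.single 0 1
    let T : (Fin m → F₀) → Bs := fun a => N (a₁ + a) - N a₁ - N a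
    have hTv : ∀ a, ((T a : E) : F) = γ * γ * (φ a * σ (φ a₁) + σ (φ a) * φ a₁) := fun a => by
      simp only [T, AddSubgroupClass.coe_sub, Subfield.coe_sub, hN, hφlin, map_add]
      ring
    obtain ⟨ω, hω⟩ := h₀.invol.exists_ne
    have hne : ((σ₀ ω : F₀) : F) - (ω : F) ≠ 0 := fun h0 => hω (Subtype.ext (sub_eq_zero.1 h0))
    have hinj : Function.Injective fun a => (T a, T (ω • a)) := by
      intro a b hab
      obtain ⟨h1, h2⟩ := Prod.ext_iff.1 hab
      have h1' := congrArg (fun x : Bs => ((x : E) : F)) h1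
      have h2' := congrArg (fun x : Bs => ((x : E) : F)) h2
      simp only [hTv, hφsmul, map_mul, s.comm] at h1' h2'
      have e1 := mul_left_cancel₀ (mul_ne_zero hγ0 hγ0) h1'
      have e2 := mul_left_cancel₀ (mul_ne_zero hγ0 hγ0) h2'
      have e3 : φ a = φ b := by
        refine mul_right_cancel₀ (fun h0 => hy0 (IsInvol.apply_eq_zero_iff.1 h0) : σ (φ a₁) ≠ 0)
          (mul_left_cancel₀ hne ?_)
        linear_combination ((σ₀ ω : F₀) : F) * e1 - e2
      rw [← sub_eq_zero]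
      refine hφinj _ ?_
      have e4 := hφlin (a - b) b
      rw [sub_add_cancel] at e4
      linear_combination e3 - e4
    have h1 := Nat.card_le_card_of_injective _ hinj
    rw [Nat.card_fun, Nat.card_fin, Nat.card_prod, hc0, ← pow_mul, ← sq, mul_comm 2 m, pow_mul] at h1
    exact (Nat.pow_le_pow_iff_left two_ne_zero).1 h1
  have hfx : Nat.card (fixedSub σ₀) = Nat.card E₀ :=
    Nat.pow_left_injective two_ne_zero (by
      show Nat.card (fixedSub σ₀) ^ 2 = Nat.card E₀ ^ 2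
      rw [← hc0, h₀.invol.card_sq])
  have h8 : 8 ≤ Nat.card Bs := by
    by_cases hq : Nat.card (fixedSub σ₀) = 2
    swap
    · have hq3 : 3 ≤ Nat.card (fixedSub σ₀) := by
        have : 1 < Nat.card (fixedSub σ₀) := Finite.one_lt_card
        omega
      rw [← hfx] at hBc
      have h9 : (3 : ℕ) ^ 2 ≤ Nat.card (fixedSub σ₀) ^ m :=
        (Nat.pow_le_pow_left hq3 2).trans (Nat.pow_le_pow_right (by omega) hm)
      exact le_trans (by norm_num) (h9.trans hBc)
    set y₀ := φ (Pi.single 0 1) with hy₀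
    set j : Fin m := ⟨1, by omega⟩ with hj
    set z := φ (Pi.single j 1) / y₀ with hz
    have hzF : z ∉ F₀ := fun hm' => by
      have e1 := hφsmul ⟨z, hm'⟩ (Pi.single 0 1)
      have e4 : z * y₀ = φ (Pi.single j 1) := by rw [hz, div_mul_cancel₀ _ hy0]
      rw [← hy₀, show ((⟨z, hm'⟩ : F₀) : F) = z from rfl, e4] at e1
      have e2 := hφinj (Pi.single j 1 - (⟨z, hm'⟩ : F₀) • Pi.single 0 1) (by
        have e3 := hφlin (Pi.single j 1 - (⟨z, hm'⟩ : F₀) • Pi.single 0 1) ((⟨z, hm'⟩ : F₀) • Pi.single 0 1)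
        rw [sub_add_cancel, e1] at e3
        linear_combination -e3)
      have hj0 : j ≠ 0 := fun e => by
        have := congrArg Fin.val e
        simp [hj] at this
      simpa [hj0] using congrFun e2 j
    set c := γ * γ * (y₀ * σ y₀) with hc
    have hc0 : c ≠ 0 := mul_ne_zero (mul_ne_zero hγ0 hγ0) (mul_ne_zero hy0
      fun e => hy0 (IsInvol.apply_eq_zero_iff.1 e))
    let S : AddSubgroup F := (Bs.map E.subtype.toAddMonoidHom).comap (AddMonoidHom.mulLeft c)
    have hS : ∀ x, x ∈ S ↔ ∃ b ∈ Bs, ((b : E) : F) = c * x := fun x => Iff.rfl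
    have hgen : ∀ a : Fin m → F₀, ∀ x : F, y₀ * σ y₀ * x = φ a * σ (φ a) → x ∈ S := fun a x hx => by
      refine (hS x).2 ⟨⟨c * x, ?_⟩, AddSubgroup.subset_closure ⟨1, a, ?_⟩, rfl⟩
      · rw [hc, mul_assoc, hx]
        exact mul_mem (mem_fixedSub.2 hγσ) (h.invol.norm_mem _)
      · show c * x = _
        rw [hc, mul_assoc, hx]; simp
    have h1S : (1 : F) ∈ S := hgen (Pi.single 0 1) 1 (by rw [mul_one, hy₀])
    have hφj : φ (Pi.single j 1) = z * y₀ := by rw [hz, div_mul_cancel₀ _ hy0]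
    have hNS : z * σ z ∈ S := hgen (Pi.single j 1) _ (by rw [hφj, map_mul]; ring)
    have htS : ∀ k : F₀, (k : F) * z + σ ((k : F) * z) ∈ S := fun k => by
      have m1 := hgen (Pi.single 0 1 + k • Pi.single j 1) ((1 + (k : F) * z) * σ (1 + (k : F) * z)) (by
        rw [hφlin, hφsmul, ← hy₀, hφj]
        simp only [map_add, map_mul, map_one]
        ring)
      have m2 := hgen (k • Pi.single j 1) (((k : F) * z) * σ ((k : F) * z)) (by
        rw [hφsmul, hφj]
        simp only [map_mul]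
        ring)
      convert S.sub_mem (S.sub_mem m1 m2) h1S using 1
      rw [map_add, map_one]
      ring
    refine (eight_le s hq S h1S hzF hNS htS).trans (Nat.card_le_card_of_injective
      (fun x : S => (⟨((hS x).1 x.2).choose, ((hS x).1 x.2).choose_spec.1⟩ : Bs)) fun x y e => ?_)
    have ex := ((hS x).1 x.2).choose_spec.2
    have ey := ((hS y).1 y.2).choose_spec.2
    simp only [Subtype.mk.injEq] at e
    rw [e] at ex
    exact Subtype.ext (mul_left_cancel₀ hc0 (ex.symm.trans ey))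
  have htop := SLTwoGen.eq_top_of_root_groups_sq E₀ hr hcE L one_ne_zero hU Bs hB₀ hlo
    ((Nat.pow_le_pow_right Finite.one_lt_card.le hm).trans hBc) h8
  obtain ⟨lam, hlam⟩ := hlamex { toFun := φ, map_add' := hφlin, map_smul' := hφsmul }
  replace hlam : ∀ (k : F₀) (a : Fin m → F₀), (lam : F) * lam ≠ (k : F) * (φ a * σ (φ a)) := hlam
  have hl0 : (lam : F) ≠ 0 := fun h0 => hlam 0 0 (by simp [h0])
  let S₀ : SL(2, E) := ⟨!![0, -lam⁻¹; lam, 0], by
    rw [Matrix.det_fin_two_of]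
    have : lam ≠ 0 := fun h0 => hl0 (by rw [h0, ZeroMemClass.coe_zero])
    field_simp
    ring⟩
  obtain ⟨g, hg, hgm⟩ := (htop.ge (Subgroup.mem_top S₀) :)
  have c0 : B e ((g : (Fin n → F) ≃ₗ[F] (Fin n → F)) u) = 0 := by
    have := congrFun (congrFun hgm 0) 0
    simpa [hpm, S₀] using this
  have c1 : γ * B u ((g : (Fin n → F) ≃ₗ[F] (Fin n → F)) u) = lam := by
    have := congrFun (congrFun hgm 1) 0
    simpa [hpm, S₀] using this
  set v := (g : (Fin n → F) ≃ₗ[F] (Fin n → F)) u with hv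
  have hvY : v ∈ YF := by
    have := (hX v).1 hg.2.1
    rw [c0, zero_smul, sub_zero] at this
    simpa using YF.add_mem this.1 (YF.smul_mem (B u v) heY)
  have hvv : B v v = 0 := hiso' v hvY v hvY
  have hvT : HasT s K v := by
    intro hv' c hc hc'
    have := K.mul_mem (K.mul_mem hg.1 (hT huu c hc hc')) (K.inv_mem hg.1)
    rwa [h.conj_tr] at this
  by_cases hline : ∀ (δ : F) x, v ≠ δ • rat F₀ P x
  · have hw0 : Y 0 ≠ 0 := fun h0 => by
      have := hHY 0 0
      rw [h0, map_zero, if_pos rfl] at this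
      exact zero_ne_one this
    exact le_of_perp s hK hvv hvT hline (hYY 0 0) hw0 (hiso' _ (Submodule.subset_span ⟨0, rfl⟩) v hvY)
  push Not at hline
  obtain ⟨δ, x, hvx⟩ := hline
  have hv0 : v ≠ 0 := fun h0 => hl0 (by rw [← c1, h0, map_zero, mul_zero])
  by_cases hN : δ * σ δ ∈ F₀
  · exfalso
    have hδ : δ ≠ 0 := fun h0 => hv0 (by rw [hvx, h0, zero_smul])
    obtain ⟨a, hav⟩ := (Submodule.mem_span_range_iff_exists_fun F).1 hvY
    have hsum : ∀ j, δ * ((B₀ (H j) x : F₀) : F) = a j := fun j => by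
      rw [← s.val, ← smul_right, ← hvx, ← hav]
      simp [map_sum, smul_right, s.val, hHY, apply_ite Subtype.val]
    have hvψ : v = δ • rat F₀ P (ψ fun j => B₀ (H j) x) := by
      rw [← hav, hψr, Finset.smul_sum]
      exact Finset.sum_congr rfl fun j _ => by rw [smul_smul, hsum]
    rw [hvψ, smul_right, ← mul_assoc] at c1
    have hσl : σ (lam : F) = lam := mem_fixedSub.1 lam.2
    refine hlam ⟨-(γ * γ) * (δ * σ δ), mul_mem (neg_mem (mul_mem hγ hγ)) hN⟩ (fun j => B₀ (H j) x) ?_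
    have h2 := congrArg σ c1
    rw [map_mul, map_mul, hσl, hσγ] at h2
    have e : (lam : F) * lam =
        γ * δ * B u (rat F₀ P (ψ fun j => B₀ (H j) x)) *
          (-γ * σ δ * σ (B u (rat F₀ P (ψ fun j => B₀ (H j) x)))) := by
      rw [h2, c1]
    rw [e]
    show _ = -(γ * γ) * (δ * σ δ) * (φ _ * σ (φ _))
    simp only [φ]
    ring
  · rw [hvx] at hvT hvv hv0
    exact le_of_line s hK hvv hv0 hvT hN

/-- The main step. -/
theorem le_of_no_perp (hK : HasRat s K) {u : Fin n → F} (huu : B u u = 0) (hT : HasT s K u)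
    (hiso : ∀ w, B₀ w w = 0 → w ≠ 0 → B (rat F₀ P w) u ≠ 0) : HSU B ≤ K := by
  obtain ⟨r, hr, -, hcard⟩ := s.deg
  have hr3 := three_le s hcard hiso
  have hE : Nat.card (fixedSub σ) = Nat.card (fixedSub σ₀) ^ r := by
    refine Nat.pow_left_injective two_ne_zero ?_
    show Nat.card (fixedSub σ) ^ 2 = (Nat.card (fixedSub σ₀) ^ r) ^ 2
    rw [← s.herm.invol.card_sq, hcard, card_fixed₀ s, ← pow_mul, ← pow_mul, mul_comm]
  obtain ⟨Y, H, hYY, hHY⟩ := exists_frame s
  exact le_of_frame s hK huu hT hiso Y H hYY hHY le_rfl (exists_lam_two s hr3 hE)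

/-- An element not semi-rational generates everything. -/
theorem le_of_not_semi (hK : HasRat s K) {g : HU B} (hg : g ∈ K) :
    HSU B ≤ K ∨ ∃ δ : F, δ ≠ 0 ∧ ∀ z, ∃ y, (g : (Fin n → F) ≃ₗ[F] (Fin n → F)) (rat F₀ P z) = δ • rat F₀ P y := by
  refine or_iff_not_imp_left.2 fun hne => ?_
  have h := s.herm
  have h₀ := s.herm₀
  have hline : ∀ w, B₀ w w = 0 → w ≠ 0 → ∃ (δ : F) (x : Fin n → F₀),
      (g : (Fin n → F) ≃ₗ[F] (Fin n → F)) (rat F₀ P w) = δ • rat F₀ P x ∧ δ ≠ 0 ∧ δ * σ δ ∈ F₀ := by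
    intro w hw hw0
    set u := (g : (Fin n → F) ≃ₗ[F] (Fin n → F)) (rat F₀ P w) with hu
    have huu : B u u = 0 := (HU.map_eq g _ _).trans (s.val_zero hw)
    have hu0 : u ≠ 0 := fun h0 => s.rat_ne_zero hw0 ((LinearEquiv.map_eq_zero_iff _).1 h0)
    have hT : HasT s K u := by
      intro hu' c hc hc'
      have := K.mul_mem (K.mul_mem hg (hK w ⟨c, hc⟩ hw (s.skew_mem hc' hc))) (K.inv_mem hg)
      rwa [h.conj_tr] at this
    by_cases hl : ∃ (δ : F) (x : Fin n → F₀), u = δ • rat F₀ P x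
    · obtain ⟨δ, x, hx⟩ := hl
      refine ⟨δ, x, hx, fun h0 => hu0 (by rw [hx, h0, zero_smul]), ?_⟩
      by_contra hN
      rw [hx] at huu hu0 hT
      exact hne (le_of_line s hK huu hu0 hT hN)
    push Not at hl
    exfalso
    by_cases hperp : ∃ x, B₀ x x = 0 ∧ x ≠ 0 ∧ B (rat F₀ P x) u = 0
    · obtain ⟨x, hx, hx0, hxu⟩ := hperp
      exact hne (le_of_perp s hK huu hT hl hx hx0 hxu)
    push Not at hperp
    exact hne (le_of_no_perp s hK huu hT hperp)
  have hedge : ∀ {w w' : Fin n → F₀} {δ δ' : F} {x x' : Fin n → F₀},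
      (g : (Fin n → F) ≃ₗ[F] (Fin n → F)) (rat F₀ P w) = δ • rat F₀ P x →
      (g : (Fin n → F) ≃ₗ[F] (Fin n → F)) (rat F₀ P w') = δ' • rat F₀ P x' →
      δ ≠ 0 → δ * σ δ ∈ F₀ → B₀ w w' ≠ 0 → δ' / δ ∈ F₀ := by
    intro w w' δ δ' x x' e e' hδ hN hww
    have hm := HU.map_eq g (rat F₀ P w) (rat F₀ P w')
    rw [e, e', Herm.smul_left, smul_right, s.val, s.val] at hm
    have hσδ : σ δ ≠ 0 := fun h0 => hδ (IsInvol.apply_eq_zero_iff.1 h0)
    have hxx : ((B₀ x x' : F₀) : F) ≠ 0 := fun h0 => hww (Subtype.ext (by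
      rw [← hm, h0, mul_zero, mul_zero, ZeroMemClass.coe_zero]))
    have h1 := div_mem (div_mem (B₀ w w').2 (B₀ x x').2) hN
    rw [← hm] at h1
    convert h1 using 1
    field_simp
  obtain ⟨w₀, w₁, hw₀, -, hw01, -⟩ := exists_pair s (k := 0) (by have := s.dim; omega) ![]
  have hw₀0 : w₀ ≠ 0 := fun h0 => by
    rw [h0, Herm.zero_left] at hw01
    exact zero_ne_one hw01
  obtain ⟨δ, x₀, e₀, hδ, hN⟩ := hline w₀ hw₀ hw₀0
  refine ⟨δ, hδ, fun z => ?_⟩
  let T : Submodule F₀ (Fin n → F₀) :=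
    { carrier := {z | ∃ y, (g : (Fin n → F) ≃ₗ[F] (Fin n → F)) (rat F₀ P z) = δ • rat F₀ P y}
      add_mem' := fun {a b} ⟨ya, ha⟩ ⟨yb, hb⟩ => ⟨ya + yb, by rw [rat_add, map_add, ha, hb, rat_add, smul_add]⟩
      zero_mem' := ⟨0, by rw [rat_zero, map_zero, smul_zero]⟩
      smul_mem' := fun k a ⟨ya, ha⟩ => ⟨k • ya, by
        rw [rat_smul, LinearEquiv.map_smul, ha, rat_smul, smul_comm]⟩ }
  refine mem_of_isotropic s (S := T) (w := (0 : Fin n → F₀)) (p := z) (by simp) fun w hw _ => ?_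
  by_cases hw0 : w = 0
  · rw [hw0]; exact T.zero_mem
  obtain ⟨δ', x', e', hδ', hN'⟩ := hline w hw hw0
  obtain ⟨v, hv, hv0, hv1⟩ := exists_common s hw₀0 hw0
  have hvne : v ≠ 0 := fun h0 => hv0 (by rw [h0, map_zero])
  obtain ⟨ε, y, ey, hε, hεN⟩ := hline v hv hvne
  have h1 := hedge e₀ ey hδ hN hv0
  have h2 := hedge e' ey hδ' hN' hv1
  have h3 : δ' / δ ∈ F₀ := by
    have := div_mem h1 h2
    rwa [div_div_div_cancel_left' _ _ hε] at this
  refine ⟨(⟨δ' / δ, h3⟩ : F₀) • x', ?_⟩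
  rw [e', rat_smul, smul_smul]
  congr 1
  show δ' = δ * (δ' / δ)
  field_simp

end CfsgLib.Geo.UnitSub
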