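/-
Unitary subfield subgroups of odd prime degree as matrix groups.
-/
import Cfsg.Agent.Lib.Geo.UnitSubfieldMax

set_option autoImplicit false

namespace CfsgLib.Geo.UnitSub

open Matrix CfsgLib.Classical CfsgLib.Classical.Herm CfsgLib.Geo.UnitMax CfsgLib.Geo.UnitSympSub

/-- Unitary subfield subgroups are maximal. -/
theorem isMaximalIn_subfield {F : Type*} [Field F] [Fintype F] {n q : ℕ} (hF : Fintype.card F = q ^ 2) (hn : 4 ≤ n)
    (F₀ : Subfield F) {r : ℕ} (hr : r.Prime) (hro : Odd r) (hcard : Fintype.card F = Nat.card F₀ ^ r)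
    (P : Matrix.GeneralLinearGroup (Fin n) F)
    (hP : Cfsg.Geo.IsFormRationalStructure (Cfsg.hermForm n F q) F₀ 1 P) :
    Cfsg.Geo.IsMaximalIn (Cfsg.GU n F q ⊓ Cfsg.Geo.specialLinear (Fin n) F)
      (Cfsg.Geo.subfieldSubgroup F₀ P ⊓ (Cfsg.GU n F q ⊓ Cfsg.Geo.specialLinear (Fin n) F)) := by
  have h := hermStd_isHerm (n := n) hF
  set B := hermStd n hF with hB
  have hr2 : r ≠ 2 := fun h2 => by rw [h2] at hro; exact absurd hro (by decide)
  have hstab : ∀ c : F₀, (powHom hF) (c : F) ∈ F₀ := fun c => by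
    rw [powHom_apply]; exact pow_mem c.2 q
  let σ₀ : F₀ →+* F₀ := ((powHom hF).comp F₀.subtype).codRestrict F₀ hstab
  have hcomm : ∀ c : F₀, (powHom hF) (c : F) = ((σ₀ c : F₀) : F) := fun c => rfl
  have hrange : ∀ x y, B (rat F₀ P y) (rat F₀ P x) ∈ F₀ := fun x y => by
    have := hP _ _ (fun i => (x i).2) (fun i => (y i).2)
    rwa [one_mul] at this
  let B₀ : (Fin n → F₀) →ₛₗ[σ₀] (Fin n → F₀) →ₗ[F₀] F₀ :=
    LinearMap.mk₂'ₛₗ σ₀ (RingHom.id F₀) (fun x y => (⟨B (rat F₀ P x) (rat F₀ P y), hrange y x⟩ : F₀))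
      (fun x x' y => Subtype.ext (by simp [rat_add]))
      (fun c x y => Subtype.ext (by simp [rat_smul, Herm.smul_left, hcomm]))
      (fun x y y' => Subtype.ext (by simp [rat_add]))
      (fun c x y => Subtype.ext (by simp [rat_smul]))
  have hval : ∀ x y, B (rat F₀ P x) (rat F₀ P y) = ((B₀ x y : F₀) : F) := fun x y => rfl
  have hne : σ₀ ≠ RingHom.id F₀ := by
    intro hid
    have hle : F₀ ≤ fixedSub (powHom hF) := fun c hc => mem_fixedSub.2 (by
      rw [show (powHom hF) c = ((σ₀ ⟨c, hc⟩ : F₀) : F) from rfl, hid]; rfl)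
    have hk : 1 < Nat.card F₀ := Finite.one_lt_card
    have hq : 1 < q := by
      have := Fintype.one_lt_card (α := F)
      rw [hF] at this
      by_contra hq'
      have h2 : q ^ 2 ≤ 1 := pow_le_one' (show q ≤ 1 by omega) 2
      omega
    rcases CfsgLib.Classical.Dickson.subfield_card_cases hr hk hcard.symm rfl hle with h' | h'
    · rw [card_fixed_powHom hF] at h'
      rw [← h'] at hcard
      rw [hF] at hcard
      exact hr2 (Nat.pow_right_injective hq hcard).symm
    · rw [card_fixed_powHom hF, hF] at h'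
      exact absurd (Nat.pow_right_injective hq (show q ^ 1 = q ^ 2 by rw [pow_one]; exact h')) (by decide)
  have hinv₀ : ∀ c, σ₀ (σ₀ c) = c := fun c => Subtype.ext (by rw [← hcomm, ← hcomm]; exact h.invol.invol _)
  have h₀ : IsHerm B₀ := by
    refine ⟨⟨hne, hinv₀⟩, fun x y => Subtype.ext ?_, fun x hx => rat_injective (P := P) ?_⟩
    · rw [← hcomm, ← hval, ← hval, h.symm]
    · rw [rat_zero]
      refine h.nondeg _ fun v => ?_
      have hv : v = ∑ i, ((((P⁻¹ : Matrix.GeneralLinearGroup (Fin n) F) : Matrix (Fin n) (Fin n) F) *ᵥ v) i) •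
          rat F₀ P (Pi.single i 1) := by
        have hone : ∀ i : Fin n, (fun j => ((Pi.single i (1 : F₀) : Fin n → F₀) j : F)) = Pi.single i 1 := fun i => by
          ext j
          by_cases h : j = i <;> simp [h]
        simp only [rat, hone, ← Matrix.mulVec_smul, ← Matrix.mulVec_sum]
        rw [← pi_eq_sum_univ', Matrix.mulVec_mulVec, Units.mul_inv, Matrix.one_mulVec]
      rw [hv, map_sum]
      exact Finset.sum_eq_zero fun i _ => by rw [smul_right, hval, hx, ZeroMemClass.coe_zero, mul_zero]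
  have s : Setup B F₀ P σ₀ B₀ :=
    { herm := h, herm₀ := h₀, comm := hcomm, val := hval, dim := hn
      deg := ⟨r, hr, hr2, by rw [Nat.card_eq_fintype_card, hcard]⟩ }
  let e := guEquiv n hF
  have hS : ∀ g : Cfsg.GU n F q, (g : GL (Fin n) F) ∈ Cfsg.Geo.specialLinear (Fin n) F ↔ e g ∈ HSU B := by
    intro g
    rw [MonoidHom.mem_ker, Units.ext_iff]
    show Matrix.GeneralLinearGroup.det (g : GL (Fin n) F) = 1 ↔ _
    rw [Units.ext_iff, guEquiv_det]
    rfl
  refine ⟨lt_of_le_of_ne inf_le_right fun heq => ?_, fun M hM hMS => ?_⟩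
  · obtain ⟨w, f, hw, hf, hwf, -⟩ := exists_pair s (k := 0) (by omega) ![]
    obtain ⟨γ, hγ0, hγ, hγs⟩ := exists_skew_rat s
    obtain ⟨η, hηfix, hη⟩ : ∃ η : F, (powHom hF) η = η ∧ η ∉ F₀ := by
      by_contra! hall
      have hle : (fixedSub (powHom hF) : Set F) ⊆ (F₀ : Set F) := fun x hx => hall x hx
      have h1 : Nat.card F ≤ Nat.card F₀ ^ 2 := by
        rw [h.invol.card_sq]
        refine Nat.pow_le_pow_left ?_ 2
        exact Nat.card_le_card_of_injective (fun x : fixedSub (powHom hF) => (⟨x.1, hle x.2⟩ : F₀)) fun a b h' =>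
          Subtype.ext (congrArg (fun z : F₀ => (z : F)) h')
      rw [Nat.card_eq_fintype_card, hcard] at h1
      have := (Nat.pow_le_pow_iff_right (Finite.one_lt_card : 1 < Nat.card F₀)).1 h1
      have := hr.two_le
      omega
    have hc : γ * η + (powHom hF) (γ * η) = 0 := by
      rw [map_mul, hηfix, eq_neg_of_add_eq_zero_right hγs]; ring
    have hmem : ((e.symm (h.tr (s.val_zero hw) hc) : Cfsg.GU n F q) : GL (Fin n) F) ∈
        Cfsg.GU n F q ⊓ Cfsg.Geo.specialLinear (Fin n) F :=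
      ⟨(e.symm _).2, (hS _).2 (by rw [MulEquiv.apply_symm_apply]; exact h.det_tr _ _)⟩
    obtain ⟨l, y, hy⟩ := rat_line_of_mem (heq.ge hmem).1 f
    rw [← guEquiv_apply hF, show guEquiv n hF (e.symm _) = _ from e.apply_symm_apply _, h.tr_apply,
      s.val_one hwf, mul_one] at hy
    have hfw : B (rat F₀ P f) (rat F₀ P w) = 1 := by rw [← h.symm, s.val_one hwf, map_one]
    have e1 := congrArg (B (rat F₀ P w)) hy
    have e2 := congrArg (B (rat F₀ P f)) hy
    simp only [map_add, smul_right, s.val_zero hw, s.val_zero hf, s.val_one hwf, hfw, s.val, mul_zero, mul_one,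
      add_zero, zero_add] at e1 e2
    have hl : l ∈ F₀ := by
      rw [show l = ((B₀ w y : F₀) : F)⁻¹ from eq_inv_of_mul_eq_one_left e1.symm]
      exact inv_mem (SetLike.coe_mem _)
    have : γ * η ∈ F₀ := by rw [e2]; exact mul_mem hl (SetLike.coe_mem _)
    exact hη (by simpa [hγ0] using mul_mem (inv_mem hγ) this)
  refine (eq_or_lt_of_le hM).imp Eq.symm fun hlt => le_antisymm hMS ?_
  obtain ⟨g, hgM, hgn⟩ := SetLike.exists_of_lt hlt
  set K : Subgroup (HU B) := (M.subgroupOf (Cfsg.GU n F q)).map e.toMonoidHom with hKdef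
  have hmem : ∀ g : Cfsg.GU n F q, e g ∈ K ↔ (g : GL (Fin n) F) ∈ M := fun g => by
    rw [hKdef, Subgroup.mem_map_equiv, MulEquiv.symm_apply_apply, Subgroup.mem_subgroupOf]
  have hK : HasRat s K := by
    intro w c hw hc
    rw [← e.apply_symm_apply (h.tr (u := rat F₀ P w) (c := (c : F)) (s.val_zero hw) (s.skew_coe hc)), hmem]
    refine hM ⟨exists_subfield_matrix one_ne_zero fun z => ⟨z + (c * B₀ w z) • w, ?_⟩,
      (e.symm _).2, (hS _).2 (by rw [MulEquiv.apply_symm_apply]; exact h.det_tr _ _)⟩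
    rw [one_smul, ← guEquiv_apply hF, show guEquiv n hF (e.symm _) = _ from e.apply_symm_apply _, h.tr_apply,
      hval, rat_add, rat_smul, Subfield.coe_mul]
  have hgK : e ⟨g, (hMS hgM).1⟩ ∈ K := (hmem _).2 hgM
  rcases le_of_not_semi s hK hgK with hfull | ⟨δ, hδ, hall⟩
  · intro x hx
    exact (hmem ⟨x, hx.1⟩).1 (hfull ((hS ⟨x, hx.1⟩).1 hx.2))
  · exfalso
    refine hgn ⟨exists_subfield_matrix hδ fun x => ?_, hMS hgM⟩
    obtain ⟨y, hy⟩ := hall x
    exact ⟨y, by rw [← hy]; exact (guEquiv_apply hF ⟨g, (hMS hgM).1⟩ _).symm⟩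

end CfsgLib.Geo.UnitSub
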