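/-
Root elements `1 + θ ⊗ v φ` in overgroups of a Kronecker product of special linear groups.
-/
import Mathlib
import Cfsg.Prelude.Def_GeometricClasses
import Cfsg.Agent.Lib.Geo.Transvection
import Cfsg.Agent.Lib.Classical.SLGroup

set_option autoImplicit false

namespace CfsgLib.Geo.TensorLinear

open Matrix
open scoped Kronecker

variable {α β : Type} [Fintype α] [DecidableEq α] [Fintype β] [DecidableEq β] {F : Type*} [Field F]

/-- The embedding `y ↦ y ⊗ v`. -/
def emb (α : Type) [DecidableEq α] (v : β → F) : Matrix (α × β) α F := fun p i => if p.1 = i then v p.2 else 0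

/-- The contraction with `φ`. -/
def con (α : Type) [DecidableEq α] (φ : β → F) : Matrix α (α × β) F := fun i p => if p.1 = i then φ p.2 else 0

omit [DecidableEq β] in
theorem con_mul_emb (φ v : β → F) : (con α φ : Matrix α (α × β) F) * emb α v = (φ ⬝ᵥ v) • (1 : Matrix α α F) := by
  ext i k
  simp only [Matrix.mul_apply, con, emb, Fintype.sum_prod_type, ite_mul, mul_ite, zero_mul, mul_zero,
    Matrix.smul_apply, Matrix.one_apply, smul_eq_mul, mul_one, dotProduct]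
  rw [Finset.sum_eq_single i]
  · by_cases h : i = k <;> simp [h]
  · intro b _ hb
    simp [hb]
  · simp

omit [Fintype β] [DecidableEq β] in
theorem emb_mul_mul_con (v φ : β → F) (θ : Matrix α α F) :
    emb α v * θ * con α φ = θ ⊗ₖ Matrix.vecMulVec v φ := by
  ext ⟨i, j⟩ ⟨k, l⟩
  simp [Matrix.mul_apply, emb, con, Matrix.vecMulVec_apply]
  ring

omit [DecidableEq β] in
theorem kronecker_mul_emb (a : Matrix α α F) (b : Matrix β β F) (v : β → F) :
    (a ⊗ₖ b) * emb α v = emb α (b *ᵥ v) * a := by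
  ext ⟨i, j⟩ k
  simp only [Matrix.mul_apply, emb, Fintype.sum_prod_type, Matrix.kroneckerMap_apply, mul_ite, mul_zero, ite_mul,
    zero_mul, Finset.sum_ite_eq, Finset.mem_univ, if_true, Matrix.mulVec, dotProduct]
  rw [Finset.sum_eq_single k]
  · rw [Finset.sum_mul]
    exact Finset.sum_congr rfl fun l _ => by rw [if_pos rfl]; ring
  · intro b _ hb
    simp [hb]
  · simp

omit [DecidableEq β] in
theorem con_mul_kronecker (a : Matrix α α F) (b : Matrix β β F) (φ : β → F) :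
    con α φ * (a ⊗ₖ b) = a * con α (φ ᵥ* b) := by
  ext k ⟨i, j⟩
  simp only [Matrix.mul_apply, con, Fintype.sum_prod_type, Matrix.kroneckerMap_apply, mul_ite, mul_zero, ite_mul,
    zero_mul, Finset.sum_ite_eq, Finset.mem_univ, if_true, Matrix.vecMul, dotProduct]
  rw [Finset.sum_eq_single k]
  · rw [Finset.mul_sum]
    exact Finset.sum_congr rfl fun l _ => by rw [if_pos rfl]; ring
  · intro b _ hb
    simp [hb]
  · simp

omit [DecidableEq β] in
theorem one_kronecker_vecMulVec (v φ : β → F) :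
    (1 : Matrix α α F) ⊗ₖ Matrix.vecMulVec v φ = emb α v * (con α φ : Matrix α (α × β) F) := by
  rw [← emb_mul_mul_con, Matrix.mul_one]

/-- Orthogonal vectors exist in large dimension. -/
theorem exists_perp {k : ℕ} (s : Fin k → β → F) (hk : k < Fintype.card β) : ∃ x : β → F, x ≠ 0 ∧ ∀ i, x ⬝ᵥ s i = 0 := by
  classical
  let L : (β → F) →ₗ[F] (Fin k → F) :=
    { toFun := fun x i => x ⬝ᵥ s i
      map_add' := fun x y => funext fun i => add_dotProduct _ _ _
      map_smul' := fun c x => funext fun i => smul_dotProduct _ _ _ }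
  have hni : ¬ Function.Injective L := fun h => by
    have := LinearMap.finrank_le_finrank_of_injective h
    simp at this
    omega
  obtain ⟨x, hx, hx0⟩ : ∃ x, L x = 0 ∧ x ≠ 0 := by
    by_contra! hc
    exact hni ((injective_iff_map_eq_zero L).2 hc)
  exact ⟨x, hx0, fun i => congrFun hx i⟩

omit [DecidableEq β] in
theorem notMem_span_of_dot {χ φ x : β → F} (h : χ ⬝ᵥ φ = 1) (hx : χ ⬝ᵥ x = 0) (hx0 : x ≠ 0) :
    x ∉ Submodule.span F {φ} := by
  intro hm
  obtain ⟨c, rfl⟩ := Submodule.mem_span_singleton.1 hm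
  rw [dotProduct_smul, h, smul_eq_mul, mul_one] at hx
  exact hx0 (by rw [hx, zero_smul])

variable {X : Subgroup (GL (α × β) F)}

/-- The root element `1 + θ ⊗ v φ` lies in `X`. -/
def Rt (X : Subgroup (GL (α × β) F)) (v φ : β → F) (θ : Matrix α α F) : Prop :=
  ∃ x ∈ X, ((x : GL (α × β) F) : Matrix (α × β) (α × β) F) = 1 + emb α v * θ * con α φ

/-- The commutator of two elements with square-zero parts. -/
theorem comm_mem {x y : GL (α × β) F} (hx : x ∈ X) (hy : y ∈ X) {A B : Matrix (α × β) (α × β) F}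
    (ex : (x : Matrix (α × β) (α × β) F) = 1 + A) (ey : (y : Matrix (α × β) (α × β) F) = 1 + B) (hA : A * A = 0)
    (hB : B * B = 0) (hBA : B * A = 0) :
    ∃ z ∈ X, ((z : GL (α × β) F) : Matrix (α × β) (α × β) F) = 1 + A * B := by
  refine ⟨x * y * x⁻¹ * y⁻¹, X.mul_mem (X.mul_mem (X.mul_mem hx hy) (X.inv_mem hx)) (X.inv_mem hy), ?_⟩
  have ix : ((x⁻¹ : GL (α × β) F) : Matrix (α × β) (α × β) F) = 1 - A := by
    refine Units.inv_eq_of_mul_eq_one_right ?_
    rw [ex, mul_sub, mul_one, add_mul, one_mul, hA]; abel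
  have iy : ((y⁻¹ : GL (α × β) F) : Matrix (α × β) (α × β) F) = 1 - B := by
    refine Units.inv_eq_of_mul_eq_one_right ?_
    rw [ey, mul_sub, mul_one, add_mul, one_mul, hB]; abel
  rw [Units.val_mul, Units.val_mul, Units.val_mul, ex, ey, ix, iy]
  have h1 : (1 + A) * (1 + B) * (1 - A) = 1 + B + A * B := by
    rw [show (1 + A) * (1 + B) * (1 - A) = 1 + B + A * B - A * A - B * A - A * (B * A) by noncomm_ring, hA, hBA,
      mul_zero, sub_zero, sub_zero, sub_zero]
  rw [h1, show (1 + B + A * B) * (1 - B) = 1 + A * B - B * B - A * (B * B) by noncomm_ring, hB, mul_zero, sub_zero,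
    sub_zero]

omit [DecidableEq β] in
theorem rt_prod {v v' φ φ' : β → F} (θ τ : Matrix α α F) :
    emb α v * θ * con α φ * (emb α v' * τ * con α φ') = (φ ⬝ᵥ v') • (emb α v * (θ * τ) * con α φ' : Matrix (α × β) (α × β) F) := by
  rw [show emb α v * θ * con α φ * (emb α v' * τ * con α φ') = emb α v * θ * (con α φ * emb α v') * τ * con α φ' by
    simp only [Matrix.mul_assoc], con_mul_emb]
  simp only [Matrix.mul_smul, Matrix.smul_mul, Matrix.mul_one, Matrix.mul_assoc]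

variable (hbase : ∀ (a : Matrix α α F) (b : Matrix β β F), a.det = 1 → b.det = 1 →
    ∃ x ∈ X, ((x : GL (α × β) F) : Matrix (α × β) (α × β) F) = a ⊗ₖ b)

theorem rt_zero_left (φ : β → F) (θ : Matrix α α F) : Rt X 0 φ θ := by
  refine ⟨1, X.one_mem, ?_⟩
  rw [show (emb α (0 : β → F) : Matrix (α × β) α F) = 0 from by ext p i; simp [emb], Matrix.zero_mul, Matrix.zero_mul,
    add_zero, Units.val_one]

theorem rt_zero_right (v : β → F) (θ : Matrix α α F) : Rt X v 0 θ := by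
  refine ⟨1, X.one_mem, ?_⟩
  rw [show (con α (0 : β → F) : Matrix α (α × β) F) = 0 from by ext p i; simp [con], Matrix.mul_zero, add_zero,
    Units.val_one]

include hbase in
theorem rt_scalar {v φ : β → F} (h : φ ⬝ᵥ v = 0) (c : F) : Rt X v φ (c • (1 : Matrix α α F)) := by
  obtain ⟨x, hx, e⟩ := hbase 1 (1 + Matrix.vecMulVec v (c • φ)) Matrix.det_one (by
    rw [Matrix.vecMulVec_eq Unit, Matrix.det_one_add_replicateCol_mul_replicateRow, smul_dotProduct, h, smul_zero,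
      add_zero])
  refine ⟨x, hx, ?_⟩
  rw [e, Matrix.kronecker_add, Matrix.one_kronecker_one, Matrix.vecMulVec_smul, emb_mul_mul_con,
    Matrix.kronecker_smul, Matrix.smul_kronecker]

theorem rt_comm {v φ v' φ' : β → F} {θ τ : Matrix α α F} (h : Rt X v φ θ) (h' : Rt X v' φ' τ) (h1 : φ ⬝ᵥ v = 0)
    (h2 : φ' ⬝ᵥ v' = 0) (h3 : φ' ⬝ᵥ v = 0) (h4 : φ ⬝ᵥ v' = 1) : Rt X v φ' (θ * τ) := by
  obtain ⟨x, hx, ex⟩ := h
  obtain ⟨y, hy, ey⟩ := h'
  obtain ⟨z, hz, ez⟩ := comm_mem hx hy ex ey (by rw [rt_prod, h1, zero_smul]) (by rw [rt_prod, h2, zero_smul])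
    (by rw [rt_prod, h3, zero_smul])
  exact ⟨z, hz, by rw [ez, rt_prod, h4, one_smul]⟩

include hbase in
theorem rt_move_right (h3β : 3 ≤ Fintype.card β) {v φ φ' : β → F} {θ : Matrix α α F} (h : Rt X v φ θ)
    (h1 : φ ⬝ᵥ v = 0) (hφ : φ ≠ 0) (h1' : φ' ⬝ᵥ v = 0) : Rt X v φ' θ := by
  classical
  have step : ∀ ψ ψ' : β → F, Rt X v ψ θ → ψ ⬝ᵥ v = 0 → ψ' ⬝ᵥ v = 0 → ψ ∉ Submodule.span F {ψ'} → Rt X v ψ' θ := by
    intro ψ ψ' hR e e' hns
    obtain ⟨w, hw0, hw1⟩ := CfsgLib.Geo.exists_functional ψ' ψ hns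
    have := rt_comm hR (rt_scalar hbase (v := w) (φ := ψ') (by rw [dotProduct_comm]; exact hw0) 1) e
      (by rw [dotProduct_comm]; exact hw0) e' (by rw [dotProduct_comm]; exact hw1)
    rwa [one_smul, mul_one] at this
  by_cases h0 : φ' = 0
  · rw [h0]; exact rt_zero_right v θ
  obtain ⟨j, hj⟩ := Function.ne_iff.1 hφ
  set χ : β → F := Pi.single j (φ j)⁻¹
  have hχ : χ ⬝ᵥ φ = 1 := by rw [single_dotProduct, inv_mul_cancel₀ hj]
  obtain ⟨x, hx0, hx⟩ := exists_perp ![v, χ] (by omega)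
  have hxv : x ⬝ᵥ v = 0 := hx 0
  have hxχ : χ ⬝ᵥ x = 0 := by rw [dotProduct_comm]; exact hx 1
  by_cases hdep : φ ∈ Submodule.span F {φ'}
  · have hxn : x ∉ Submodule.span F {φ} := notMem_span_of_dot hχ hxχ hx0
    refine step x φ' (step φ x h h1 hxv ?_) hxv h1' ?_
    · intro hm
      obtain ⟨c, hc⟩ := Submodule.mem_span_singleton.1 hm
      have hc0 : c ≠ 0 := fun e => hφ (by rw [← hc, e, zero_smul])
      exact hxn (Submodule.mem_span_singleton.2 ⟨c⁻¹, by rw [← hc, inv_smul_smul₀ hc0]⟩)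
    · intro hm
      obtain ⟨c, hc⟩ := Submodule.mem_span_singleton.1 hdep
      have hc0 : c ≠ 0 := fun e => hφ (by rw [← hc, e, zero_smul])
      obtain ⟨d, hd⟩ := Submodule.mem_span_singleton.1 hm
      exact hxn (Submodule.mem_span_singleton.2 ⟨d * c⁻¹, by rw [← hc, smul_smul, mul_assoc, inv_mul_cancel₀ hc0, mul_one, hd]⟩)
  · exact step φ φ' h h1 h1' hdep

include hbase in
theorem rt_move_left (h3β : 3 ≤ Fintype.card β) {v v' φ : β → F} {θ : Matrix α α F} (h : Rt X v φ θ)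
    (h1 : φ ⬝ᵥ v = 0) (hv : v ≠ 0) (h1' : φ ⬝ᵥ v' = 0) : Rt X v' φ θ := by
  classical
  have step : ∀ w w' : β → F, Rt X w φ θ → φ ⬝ᵥ w = 0 → φ ⬝ᵥ w' = 0 → w ∉ Submodule.span F {w'} → Rt X w' φ θ := by
    intro w w' hR e e' hns
    obtain ⟨ψ, hψ0, hψ1⟩ := CfsgLib.Geo.exists_functional w' w hns
    obtain ⟨x, hx, ex⟩ := rt_scalar hbase (v := w') (φ := ψ) hψ0 1
    obtain ⟨y, hy, ey⟩ := hR
    obtain ⟨z, hz, ez⟩ := comm_mem hx hy ex ey (by rw [rt_prod, hψ0, zero_smul]) (by rw [rt_prod, e, zero_smul])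
      (by rw [rt_prod, e', zero_smul])
    exact ⟨z, hz, by rw [ez, rt_prod, hψ1, one_smul, one_smul, one_mul]⟩
  by_cases h0 : v' = 0
  · rw [h0]; exact rt_zero_left φ θ
  obtain ⟨j, hj⟩ := Function.ne_iff.1 hv
  set χ : β → F := Pi.single j (v j)⁻¹
  have hχ : χ ⬝ᵥ v = 1 := by rw [single_dotProduct, inv_mul_cancel₀ hj]
  obtain ⟨x, hx0, hx⟩ := exists_perp ![φ, χ] (by omega)
  have hxv : φ ⬝ᵥ x = 0 := by rw [dotProduct_comm]; exact hx 0
  have hxχ : χ ⬝ᵥ x = 0 := by rw [dotProduct_comm]; exact hx 1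
  by_cases hdep : v ∈ Submodule.span F {v'}
  · have hxn : x ∉ Submodule.span F {v} := notMem_span_of_dot hχ hxχ hx0
    obtain ⟨c, hc⟩ := Submodule.mem_span_singleton.1 hdep
    have hc0 : c ≠ 0 := fun e => hv (by rw [← hc, e, zero_smul])
    refine step x v' (step v x h h1 hxv ?_) hxv h1' ?_
    · intro hm
      obtain ⟨d, hd⟩ := Submodule.mem_span_singleton.1 hm
      have hd0 : d ≠ 0 := fun e => hv (by rw [← hd, e, zero_smul])
      exact hxn (Submodule.mem_span_singleton.2 ⟨d⁻¹, by rw [← hd, inv_smul_smul₀ hd0]⟩)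
    · intro hm
      obtain ⟨d, hd⟩ := Submodule.mem_span_singleton.1 hm
      exact hxn (Submodule.mem_span_singleton.2 ⟨d * c⁻¹, by rw [← hc, smul_smul, mul_assoc, inv_mul_cancel₀ hc0, mul_one, hd]⟩)
  · exact step v v' h h1 h1' hdep

/-- The coefficient matrices present in every root group. -/
def InTheta (X : Subgroup (GL (α × β) F)) (θ : Matrix α α F) : Prop := ∀ v φ : β → F, φ ⬝ᵥ v = 0 → Rt X v φ θ

include hbase in
theorem inTheta_of_one (h3β : 3 ≤ Fintype.card β) {v φ : β → F} {θ : Matrix α α F} (h : Rt X v φ θ)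
    (h1 : φ ⬝ᵥ v = 0) (hv : v ≠ 0) (hφ : φ ≠ 0) : InTheta X θ := by
  intro v' φ' h1'
  obtain ⟨ψ, hψ0, hψ⟩ := exists_perp ![v, v'] (by omega)
  have e : ψ ⬝ᵥ v = 0 := hψ 0
  have e' : ψ ⬝ᵥ v' = 0 := hψ 1
  exact rt_move_right hbase h3β (rt_move_left hbase h3β (rt_move_right hbase h3β h h1 hφ e) e hv e') e' hψ0 h1'

theorem InTheta.add {θ τ : Matrix α α F} (h : InTheta X θ) (h' : InTheta X τ) : InTheta X (θ + τ) := by
  intro v φ h1
  obtain ⟨x, hx, ex⟩ := h v φ h1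
  obtain ⟨y, hy, ey⟩ := h' v φ h1
  refine ⟨x * y, X.mul_mem hx hy, ?_⟩
  rw [Units.val_mul, ex, ey, mul_add, mul_one, add_mul, one_mul, rt_prod, h1, zero_smul, add_zero, Matrix.mul_add,
    Matrix.add_mul]
  abel

theorem InTheta.mul (h3β : 3 ≤ Fintype.card β) {θ τ : Matrix α α F} (h : InTheta X θ) (h' : InTheta X τ)
    (hb : ∀ {v φ : β → F} {σ : Matrix α α F}, Rt X v φ σ → φ ⬝ᵥ v = 0 → v ≠ 0 → φ ≠ 0 → InTheta X σ) :
    InTheta X (θ * τ) := by
  classical
  obtain ⟨e⟩ : Nonempty (Fin 3 ↪ β) := Function.Embedding.nonempty_of_card_le (by rw [Fintype.card_fin]; omega)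
  have h01 : e 0 ≠ e 1 := by simp
  have h02 : e 0 ≠ e 2 := by simp
  have h12 : e 1 ≠ e 2 := by simp
  refine hb (v := Pi.single (e 0) 1) (φ := Pi.single (e 2) 1) (rt_comm
    (h (Pi.single (e 0) 1) (Pi.single (e 1) 1) (by simp [h01.symm]))
    (h' (Pi.single (e 1) 1) (Pi.single (e 2) 1) (by simp [h12.symm])) (by simp [h01.symm]) (by simp [h12.symm])
    (by simp [h02.symm]) (by simp)) (by simp [h02.symm]) (Function.ne_iff.2 ⟨e 0, by simp⟩) (Function.ne_iff.2 ⟨e 2, by simp⟩)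

include hbase in
theorem InTheta.smul (h3β : 3 ≤ Fintype.card β) {θ : Matrix α α F} (h : InTheta X θ) (c : F) : InTheta X (c • θ) := by
  have := InTheta.mul h3β (θ := c • (1 : Matrix α α F)) (fun v φ h1 => rt_scalar hbase h1 c) h
    (fun hR h1 hv hφ => inTheta_of_one hbase h3β hR h1 hv hφ)
  rwa [smul_mul_assoc, one_mul] at this

include hbase in
theorem InTheta.conj {θ a a' : Matrix α α F} (h : InTheta X θ) (ha : a * a' = 1) (hd : a.det = 1) :
    InTheta X (a * θ * a') := by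
  intro v φ h1
  obtain ⟨g, hg, eg⟩ := hbase a 1 hd Matrix.det_one
  have ig : ((g⁻¹ : GL (α × β) F) : Matrix (α × β) (α × β) F) = a' ⊗ₖ (1 : Matrix β β F) := by
    refine Units.inv_eq_of_mul_eq_one_right ?_
    rw [eg, ← Matrix.mul_kronecker_mul, ha, one_mul, Matrix.one_kronecker_one]
  obtain ⟨x, hx, ex⟩ := h v φ h1
  refine ⟨g * x * g⁻¹, X.mul_mem (X.mul_mem hg hx) (X.inv_mem hg), ?_⟩
  have h0 : (g : Matrix (α × β) (α × β) F) * ((g⁻¹ : GL (α × β) F) : Matrix (α × β) (α × β) F) = 1 := Units.mul_inv g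
  rw [Units.val_mul, Units.val_mul, ex, mul_add, mul_one, add_mul, h0, eg, ig]
  congr 1
  rw [emb_mul_mul_con, emb_mul_mul_con, ← Matrix.mul_kronecker_mul, ← Matrix.mul_kronecker_mul, one_mul, mul_one]

end CfsgLib.Geo.TensorLinear
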