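/-
From a non-tensor image of a subspace `V₁ ⊗ v` with a narrow support to a non-scalar root coefficient.
-/
import Cfsg.Agent.Lib.Geo.TensorLinearBasic

set_option autoImplicit false

namespace CfsgLib.Geo.TensorLinear

open Matrix
open scoped Kronecker

variable {α β : Type} [Fintype α] [DecidableEq α] [Fintype β] [DecidableEq β] {F : Type*} [Field F]

/-- The pure tensor. -/
def pt (y : α → F) (v : β → F) : α × β → F := fun p => y p.1 * v p.2

/-- Contraction of the first factor. -/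
def ct₁ (ψ : α → F) (x : α × β → F) : β → F := fun j => ∑ i, ψ i * x (i, j)

omit [DecidableEq β] in
theorem con_mulVec (φ : β → F) (x : α × β → F) (i : α) : (con α φ *ᵥ x) i = ∑ j, φ j * x (i, j) := by
  simp [Matrix.mulVec, dotProduct, con, Fintype.sum_prod_type]

omit [Fintype β] [DecidableEq β] in
theorem emb_mulVec (v : β → F) (y : α → F) : emb α v *ᵥ y = pt y v := by
  funext p
  simp [Matrix.mulVec, dotProduct, emb, pt, mul_comm]

omit [DecidableEq β] in
theorem con_pt (φ v : β → F) (y : α → F) : con α φ *ᵥ pt y v = (φ ⬝ᵥ v) • y := by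
  rw [← emb_mulVec, Matrix.mulVec_mulVec, con_mul_emb, Matrix.smul_mulVec, Matrix.one_mulVec]

omit [DecidableEq α] [DecidableEq β] [Fintype β] in
theorem ct₁_pt (ψ : α → F) (y : α → F) (v : β → F) : ct₁ ψ (pt y v) = (ψ ⬝ᵥ y) • v := by
  funext j
  simp only [ct₁, pt, Pi.smul_apply, smul_eq_mul, dotProduct, Finset.sum_mul]
  exact Finset.sum_congr rfl fun i _ => by ring

omit [DecidableEq β] in
theorem dot_ct₁ (χ : β → F) (ψ : α → F) (x : α × β → F) : χ ⬝ᵥ ct₁ ψ x = ψ ⬝ᵥ (con α χ *ᵥ x) := by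
  simp only [dotProduct, ct₁, con_mulVec, Finset.mul_sum]
  rw [Finset.sum_comm]
  exact Finset.sum_congr rfl fun i _ => Finset.sum_congr rfl fun j _ => by ring

omit [Fintype β] [DecidableEq β] in
theorem kron_one_mulVec [Fintype β] [DecidableEq β] (a ψ : α → F) (x : α × β → F) :
    (Matrix.vecMulVec a ψ ⊗ₖ (1 : Matrix β β F)) *ᵥ x = pt a (ct₁ ψ x) := by
  funext p
  simp only [Matrix.mulVec, dotProduct, Fintype.sum_prod_type, Matrix.kroneckerMap_apply, Matrix.vecMulVec_apply,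
    pt, ct₁, Finset.mul_sum]
  refine Finset.sum_congr rfl fun i _ => ?_
  rw [Finset.sum_eq_single p.2]
  · simp; ring
  · intro j _ hj; simp [Ne.symm hj]
  · simp

omit [DecidableEq β] in
theorem one_kron_mulVec (w χ : β → F) (x : α × β → F) :
    ((1 : Matrix α α F) ⊗ₖ Matrix.vecMulVec w χ) *ᵥ x = pt (con α χ *ᵥ x) w := by
  rw [one_kronecker_vecMulVec, ← Matrix.mulVec_mulVec, emb_mulVec]

omit [DecidableEq β] in
theorem kron_kron_mulVec (a ψ : α → F) (w χ : β → F) (x : α × β → F) :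
    (Matrix.vecMulVec a ψ ⊗ₖ Matrix.vecMulVec w χ) *ᵥ x = (ψ ⬝ᵥ (con α χ *ᵥ x)) • pt a w := by
  rw [← emb_mul_mul_con, ← Matrix.mulVec_mulVec, ← Matrix.mulVec_mulVec, Matrix.vecMulVec_mulVec, op_smul_eq_smul,
    Matrix.mulVec_smul, emb_mulVec]

/-- The subspace `V₁ ⊗ v`. -/
def line (α : Type) [Fintype α] [DecidableEq α] {F : Type*} [Field F] (v : β → F) : Submodule F (α × β → F) :=
  LinearMap.range (emb α v).mulVecLin

omit [Fintype β] [DecidableEq β] in
theorem mem_line {v : β → F} {x : α × β → F} : x ∈ line α v ↔ ∃ y, pt y v = x := by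
  simp only [line, LinearMap.mem_range, Matrix.mulVecLin_apply, emb_mulVec]

theorem exists_dual {v : β → F} (hv : v ≠ 0) : ∃ χ : β → F, χ ⬝ᵥ v = 1 := by
  obtain ⟨j, hj⟩ := Function.ne_iff.1 hv
  exact ⟨Pi.single j (v j)⁻¹, by rw [single_dotProduct, inv_mul_cancel₀ hj]⟩

theorem pt_injective {v : β → F} (hv : v ≠ 0) : Function.Injective fun y : α → F => pt y v := by
  intro y y' e
  obtain ⟨χ, hχ⟩ := exists_dual hv
  have := congrArg (con α χ *ᵥ ·) e
  simpa [con_pt, hχ] using this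

theorem finrank_line {v : β → F} (hv : v ≠ 0) : Module.finrank F (line α v) = Fintype.card α := by
  rw [line, LinearMap.finrank_range_of_inj, Module.finrank_fintype_fun_eq_card]
  intro y y' e
  simp only [Matrix.mulVecLin_apply, emb_mulVec] at e
  exact pt_injective hv e

theorem mem_line_of_con {v : β → F} (hv : v ≠ 0) {x : α × β → F}
    (h : ∀ φ : β → F, φ ⬝ᵥ v = 0 → con α φ *ᵥ x = 0) : x ∈ line α v := by
  obtain ⟨j, hj⟩ := Function.ne_iff.1 hv
  refine mem_line.2 ⟨fun i => x (i, j) / v j, funext fun p => ?_⟩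
  have := congrFun (h (Pi.single p.2 1 - (v p.2 / v j) • Pi.single j 1) (by
    rw [sub_dotProduct, smul_dotProduct, single_one_dotProduct, single_one_dotProduct, smul_eq_mul,
      div_mul_cancel₀ _ hj, sub_self])) p.1
  simp only [con_mulVec, Pi.sub_apply, Pi.smul_apply, smul_eq_mul, sub_mul, Finset.sum_sub_distrib, Pi.single_apply,
    mul_ite, mul_one, mul_zero, ite_mul, one_mul, zero_mul, Finset.sum_ite_eq', Finset.mem_univ, if_true,
    Pi.zero_apply] at this
  simp only [pt]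
  field_simp at this ⊢
  linear_combination -this

theorem con_of_mem_line {v φ : β → F} (h : φ ⬝ᵥ v = 0) {x : α × β → F} (hx : x ∈ line α v) : con α φ *ᵥ x = 0 := by
  obtain ⟨y, rfl⟩ := mem_line.1 hx
  rw [con_pt, h, zero_smul]

theorem line_eq_of_inter {v w : β → F} {x : α × β → F} (hx : x ∈ line α v) (hx' : x ∈ line α w) (hx0 : x ≠ 0) :
    line α w = line α v := by
  have hv : v ≠ 0 := fun e => hx0 (by
    obtain ⟨y, rfl⟩ := mem_line.1 hx; funext p; simp [pt, e])
  obtain ⟨y, rfl⟩ := mem_line.1 hx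
  obtain ⟨y', e⟩ := mem_line.1 hx'
  obtain ⟨i, hi⟩ : ∃ i, y' i ≠ 0 := by
    by_contra! hc
    exact hx0 (by rw [← e]; funext p; simp [pt, hc])
  have hy : y i ≠ 0 := by
    intro e0
    obtain ⟨l, hl⟩ : ∃ l, w l ≠ 0 := by
      by_contra! hc
      exact hx0 (by rw [← e]; funext p; simp [pt, hc])
    have := congrFun e (i, l)
    simp [pt, e0] at this
    exact this.elim hi hl
  have hw : w = (y i / y' i) • v := funext fun l => by
    have := congrFun e (i, l)
    simp only [pt] at this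
    simp only [Pi.smul_apply, smul_eq_mul]
    field_simp
    linear_combination this
  ext z
  simp only [mem_line]
  constructor
  · rintro ⟨t, rfl⟩
    exact ⟨(y i / y' i) • t, by funext p; simp [pt, hw]; ring⟩
  · rintro ⟨t, rfl⟩
    exact ⟨(y' i / y i) • t, by funext p; simp [pt, hw]; field_simp⟩

variable {X : Subgroup (GL (α × β) F)}
  (hbase : ∀ (a : Matrix α α F) (b : Matrix β β F), a.det = 1 → b.det = 1 →
    ∃ x ∈ X, ((x : GL (α × β) F) : Matrix (α × β) (α × β) F) = a ⊗ₖ b)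

include hbase in
/-- A generalised root element with a narrow centre gives a non-scalar coefficient. -/
theorem rt_of_lam (h3β : 3 ≤ Fintype.card β) {z : GL (α × β) F} (hz : z ∈ X) {φ : β → F} {Λ : Matrix (α × β) α F}
    (ez : (z : Matrix (α × β) (α × β) F) = 1 + Λ * con α φ) (hφ : φ ≠ 0) (h0 : con α φ * Λ = 0)
    (hns : ∀ w : β → F, Λ ≠ emb α w) :
    ∃ (v χ : β → F) (θ : Matrix α α F), Rt X v χ θ ∧ χ ⬝ᵥ v = 0 ∧ v ≠ 0 ∧ χ ≠ 0 ∧ ∀ c : F, θ ≠ c • 1 := by
  classical
  obtain ⟨φ₂, hφ₂⟩ : ∃ φ₂ : β → F, ∀ c : F, con α φ₂ * Λ ≠ c • 1 := by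
    by_contra! hc
    choose c hc using hc
    refine hns (fun j => c (Pi.single j 1)) ?_
    ext ⟨i, j⟩ k
    have := congrFun (congrFun (hc (Pi.single j 1)) i) k
    simp [Matrix.mul_apply, con, Fintype.sum_prod_type, Pi.single_apply, Matrix.one_apply] at this
    simp [emb, this]
  obtain ⟨v₂, hv0, hv⟩ := exists_perp ![φ, φ₂] (by omega)
  have e₁ : φ ⬝ᵥ v₂ = 0 := by rw [dotProduct_comm]; exact hv 0
  have e₂ : φ₂ ⬝ᵥ v₂ = 0 := by rw [dotProduct_comm]; exact hv 1
  obtain ⟨y, hy, ey⟩ := rt_scalar hbase e₂ 1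
  rw [one_smul, Matrix.mul_one] at ey
  obtain ⟨w, hw, ew⟩ := comm_mem hy hz ey ez
    (by rw [Matrix.mul_assoc, ← Matrix.mul_assoc (con α φ₂), con_mul_emb, e₂, zero_smul, Matrix.zero_mul, Matrix.mul_zero])
    (by rw [Matrix.mul_assoc, ← Matrix.mul_assoc (con α φ), h0, Matrix.zero_mul, Matrix.mul_zero])
    (by rw [Matrix.mul_assoc, ← Matrix.mul_assoc (con α φ), con_mul_emb, e₁, zero_smul, Matrix.zero_mul, Matrix.mul_zero])
  exact ⟨v₂, φ, con α φ₂ * Λ, ⟨w, hw, by rw [ew]; simp only [Matrix.mul_assoc]⟩, e₁, hv0, hφ, hφ₂⟩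

include hbase in
/-- A narrow non-tensor image gives a non-scalar coefficient. -/
theorem rt_of_narrow (h3β : 3 ≤ Fintype.card β) {h : GL (α × β) F} (hh : h ∈ X) {v ψ : β → F} (hv : v ≠ 0)
    (hψ : ψ ≠ 0) (hns : ∀ w, (line α v).map (h : Matrix (α × β) (α × β) F).mulVecLin ≠ line α w)
    (hW : ∀ x ∈ (line α v).map (h : Matrix (α × β) (α × β) F).mulVecLin, con α ψ *ᵥ x = 0) :
    ∃ (v χ : β → F) (θ : Matrix α α F), Rt X v χ θ ∧ χ ⬝ᵥ v = 0 ∧ v ≠ 0 ∧ χ ≠ 0 ∧ ∀ c : F, θ ≠ c • 1 := by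
  classical
  set H := (h : Matrix (α × β) (α × β) F)
  set H' := ((h⁻¹ : GL (α × β) F) : Matrix (α × β) (α × β) F)
  have hHH : H' * H = 1 := Units.inv_mul h
  have hHH' : H * H' = 1 := Units.mul_inv h
  set G := H * emb α v
  have hψG : con α ψ * G = 0 := by
    ext i k
    have := congrFun (hW (G *ᵥ Pi.single k 1) ⟨emb α v *ᵥ Pi.single k 1, mem_line.2 ⟨_, (emb_mulVec _ _).symm⟩,
      by simp only [G, Matrix.mulVecLin_apply, Matrix.mulVec_mulVec]⟩) i
    rw [Matrix.mulVec_mulVec, Matrix.mulVec_single_one] at this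
    exact this
  obtain ⟨v₂, hv₂, hv₂'⟩ := exists_perp ![ψ] (by omega)
  have e₂ : ψ ⬝ᵥ v₂ = 0 := by rw [dotProduct_comm]; exact hv₂' 0
  obtain ⟨y, hy, ey⟩ := rt_scalar hbase e₂ 1
  rw [one_smul, Matrix.mul_one] at ey
  by_contra hcon
  push Not at hcon
  have hM : ∀ φ : β → F, φ ⬝ᵥ v = 0 → con α φ * H' * emb α v₂ = 0 := by
    intro φ hφv
    obtain ⟨x, hx, ex⟩ := rt_scalar hbase hφv 1
    rw [one_smul, Matrix.mul_one] at ex
    have ea : ((h * x * h⁻¹ : GL (α × β) F) : Matrix (α × β) (α × β) F) = 1 + G * (con α φ * H') := by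
      rw [Units.val_mul, Units.val_mul, ex, mul_add, mul_one, add_mul]
      show H * H' + H * (emb α v * con α φ) * H' = _
      rw [hHH']
      simp only [G, Matrix.mul_assoc]
    have hAA : G * (con α φ * H') * (G * (con α φ * H')) = 0 := by
      rw [show G * (con α φ * H') * (G * (con α φ * H')) = G * (con α φ * (H' * H) * emb α v) * (con α φ * H') by
        simp only [G, Matrix.mul_assoc], hHH, Matrix.mul_one, con_mul_emb, hφv, zero_smul, Matrix.mul_zero,
        Matrix.zero_mul]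
    obtain ⟨z, hz, ez⟩ := comm_mem (X.mul_mem (X.mul_mem hh hx) (X.inv_mem hh)) hy ea ey hAA
      (by rw [Matrix.mul_assoc, ← Matrix.mul_assoc (con α ψ), con_mul_emb, e₂, zero_smul, Matrix.zero_mul, Matrix.mul_zero])
      (by rw [Matrix.mul_assoc, ← Matrix.mul_assoc (con α ψ), hψG, Matrix.zero_mul, Matrix.mul_zero])
    set M := con α φ * H' * emb α v₂
    by_contra hMne
    have ez' : (z : Matrix (α × β) (α × β) F) = 1 + (G * M) * con α ψ := by
      rw [ez]; simp only [M, Matrix.mul_assoc]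
    obtain ⟨χ, hχ⟩ := exists_dual hv
    suffices key : ∀ w : β → F, G * M ≠ emb α w by
      obtain ⟨v', χ', θ, hR, h1, h2, h3, h4⟩ := rt_of_lam hbase h3β hz ez' hψ
        (by rw [← Matrix.mul_assoc, hψG, Matrix.zero_mul]) key
      obtain ⟨c, hc⟩ := hcon v' χ' θ hR h1 h2 h3
      exact h4 c hc
    intro w hw
    have hleft : (con α χ * H') * G = 1 := by
      rw [show con α χ * H' * G = con α χ * (H' * H) * emb α v by simp only [G, Matrix.mul_assoc], hHH,
        Matrix.mul_one, con_mul_emb, hχ, one_smul]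
    by_cases hw0 : w = 0
    · refine hMne ?_
      calc M = (con α χ * H') * G * M := by rw [hleft, Matrix.one_mul]
        _ = 0 := by
          rw [Matrix.mul_assoc, hw, hw0, show (emb α (0 : β → F) : Matrix (α × β) α F) = 0 from by ext p i; simp [emb],
            Matrix.mul_zero]
    · refine hns w (Submodule.eq_of_le_of_finrank_eq ?_ ?_).symm
      · intro x hx
        obtain ⟨t, rfl⟩ := mem_line.1 hx
        refine ⟨emb α v *ᵥ (M *ᵥ t), mem_line.2 ⟨_, (emb_mulVec _ _).symm⟩, ?_⟩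
        rw [Matrix.mulVecLin_apply, ← emb_mulVec w, ← hw]
        simp [G, H, Matrix.mulVec_mulVec, Matrix.mul_assoc]
      · rw [finrank_line hw0, ← (Submodule.equivMapOfInjective _
          (Matrix.mulVec_injective_iff_isUnit.2 h.isUnit) (line α v)).finrank_eq, finrank_line hv]
  refine hns v₂ ?_
  have hle : line α v₂ ≤ (line α v).map H.mulVecLin := by
    intro x hx
    obtain ⟨t, rfl⟩ := mem_line.1 hx
    refine ⟨H' *ᵥ pt t v₂, mem_line_of_con hv fun φ hφ => ?_, ?_⟩
    · rw [← emb_mulVec, Matrix.mulVec_mulVec, Matrix.mulVec_mulVec, hM φ hφ, Matrix.zero_mulVec]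
    · rw [Matrix.mulVecLin_apply, Matrix.mulVec_mulVec, hHH', Matrix.one_mulVec]
  exact (Submodule.eq_of_le_of_finrank_eq hle (by
    rw [finrank_line hv₂, ← (Submodule.equivMapOfInjective _
      (Matrix.mulVec_injective_iff_isUnit.2 h.isUnit) (line α v)).finrank_eq, finrank_line hv])).symm

end CfsgLib.Geo.TensorLinear
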