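/-
A non-scalar coefficient matrix forces the special linear group.
-/
import Cfsg.Agent.Lib.Geo.TensorLinearBasic

set_option autoImplicit false

namespace CfsgLib.Geo.TensorLinear

open Matrix
open scoped Kronecker

variable {α : Type} [Fintype α] [DecidableEq α] {F : Type*} [Field F]

section Algebra

variable {S : Matrix α α F → Prop} (hadd : ∀ a b, S a → S b → S (a + b)) (hmul : ∀ a b, S a → S b → S (a * b))
  (hsmul : ∀ (c : F) a, S a → S (c • a)) (hconj : ∀ t t' a, t * t' = 1 → t.det = 1 → S a → S (t * a * t'))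

theorem single_sandwich (i j k l : α) (θ : Matrix α α F) (c d : F) :
    Matrix.single i j c * θ * Matrix.single k l d = Matrix.single i l (c * θ j k * d) := by
  ext a b
  simp only [Matrix.mul_apply, Matrix.single_apply, ite_mul, zero_mul, mul_ite, mul_zero]
  by_cases hb : l = b
  · subst hb
    rw [Finset.sum_eq_single k]
    · rw [Finset.sum_eq_single j]
      · by_cases ha : i = a <;> simp [ha]
      · intro x _ hx
        simp [Ne.symm hx]
      · simp
    · intro x _ hx
      simp [Ne.symm hx]
    · simp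
  · simp [hb]

include hadd hsmul hconj in
/-- The difference produced by a transvection. -/
theorem delta_mem {i j : α} (hij : i ≠ j) (c : F) {θ : Matrix α α F} (hθ : S θ) :
    S (c • (Matrix.single i j 1 * θ - θ * Matrix.single i j 1) - (c * c * θ j i) • Matrix.single i j 1) := by
  have ht : (1 + Matrix.single i j c) * (1 - Matrix.single i j c) = (1 : Matrix α α F) := by
    rw [mul_sub, mul_one, add_mul, one_mul, Matrix.single_mul_single_of_ne _ _ _ _ hij.symm]
    abel
  have h := hadd _ _ (hconj _ _ θ ht (Matrix.det_transvection_of_ne i j hij c) hθ) (hsmul (-1) θ hθ)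
  have e : (1 + Matrix.single i j c) * θ * (1 - Matrix.single i j c) + (-1 : F) • θ =
      c • (Matrix.single i j 1 * θ - θ * Matrix.single i j 1) - (c * c * θ j i) • Matrix.single i j 1 := by
    have hs : Matrix.single i j c = c • Matrix.single i j (1 : F) := by rw [Matrix.smul_single, smul_eq_mul, mul_one]
    have hEE : Matrix.single i j (1 : F) * θ * Matrix.single i j 1 = θ j i • Matrix.single i j 1 := by
      rw [single_sandwich, Matrix.smul_single, smul_eq_mul]
      simp
    rw [hs, mul_sub, mul_one, add_mul, one_mul, add_mul]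
    simp only [Matrix.smul_mul, Matrix.mul_smul, smul_smul, hEE]
    module
  rwa [e] at h

include hadd hsmul hconj in
theorem single_move_right {i j l : α} (hij : i ≠ j) (hli : l ≠ i) (hlj : l ≠ j)
    (h : S (Matrix.single i j (1 : F))) : S (Matrix.single i l (1 : F)) := by
  have := delta_mem hadd hsmul hconj hlj.symm 1 h
  have e1 : Matrix.single j l (1 : F) * Matrix.single i j (1 : F) = 0 := Matrix.single_mul_single_of_ne _ _ _ _ hli _
  rw [e1, Matrix.single_mul_single_same, Matrix.single_apply, if_neg (fun e => hli e.1.symm)] at this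
  have h2 := hsmul (-1) _ this
  simpa using h2

include hadd hsmul hconj in
theorem single_move_left {i j k : α} (hij : i ≠ j) (hki : k ≠ i) (hkj : k ≠ j)
    (h : S (Matrix.single i j (1 : F))) : S (Matrix.single k j (1 : F)) := by
  have := delta_mem hadd hsmul hconj hki 1 h
  have e1 : Matrix.single i j (1 : F) * Matrix.single k i (1 : F) = 0 :=
    Matrix.single_mul_single_of_ne _ _ _ _ hkj.symm _
  rw [e1, Matrix.single_mul_single_same, Matrix.single_apply, if_neg (fun e => hkj e.2.symm)] at this
  simpa using this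

include hadd hsmul hconj in
/-- A single off-diagonal matrix unit. -/
theorem exists_single (hbig : 3 ≤ Fintype.card α ∨ ∃ c : F, c ≠ 0 ∧ c ≠ 1) {θ : Matrix α α F} (hθ : S θ)
    {i j : α} (hij : i ≠ j) (hne : θ j i ≠ 0) : ∃ a b, a ≠ b ∧ S (Matrix.single a b (1 : F)) := by
  classical
  by_cases hc : ∃ c : F, c ≠ 0 ∧ c ≠ 1
  · obtain ⟨c, hc0, hc1⟩ := hc
    have h := hadd _ _ (delta_mem hadd hsmul hconj hij c hθ) (hsmul (-c) _ (delta_mem hadd hsmul hconj hij 1 hθ))
    refine ⟨i, j, hij, ?_⟩
    have h2 := hsmul ((c - c * c) * θ j i)⁻¹ _ h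
    convert h2 using 1
    have hne' : (c - c * c) * θ j i ≠ 0 := by
      refine mul_ne_zero (fun e => hc1 ?_) hne
      have : c * (1 - c) = 0 := by linear_combination e
      exact (sub_eq_zero.1 ((mul_eq_zero.1 this).resolve_left hc0)).symm
    rw [show c • (Matrix.single i j (1 : F) * θ - θ * Matrix.single i j 1) - (c * c * θ j i) • Matrix.single i j 1 +
      (-c) • ((1 : F) • (Matrix.single i j (1 : F) * θ - θ * Matrix.single i j 1) -
        (1 * 1 * θ j i) • Matrix.single i j 1) = ((c - c * c) * θ j i) • Matrix.single i j (1 : F) by module,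
      inv_smul_smul₀ hne']
  have h3 := hbig.resolve_right hc
  obtain ⟨l, -, hl⟩ := Finset.exists_mem_notMem_of_card_lt_card (s := ({i, j} : Finset α)) (t := Finset.univ)
    (lt_of_le_of_lt Finset.card_le_two (by rw [Finset.card_univ]; omega))
  simp only [Finset.mem_insert, Finset.mem_singleton, not_or] at hl
  set E₁ := Matrix.single i j (1 : F)
  set E₂ := Matrix.single i l (1 : F)
  set D := (1 : F) • (E₁ * θ - θ * E₁) - (1 * 1 * θ j i) • E₁
  have hD : S D := delta_mem hadd hsmul hconj hij 1 hθ
  have h12 : E₂ * E₁ = 0 := Matrix.single_mul_single_of_ne _ _ _ _ hl.1 _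
  have h21 : E₁ * E₂ = 0 := Matrix.single_mul_single_of_ne _ _ _ _ hij.symm _
  have hs1 : E₂ * θ * E₁ = θ l i • E₁ := by rw [single_sandwich, Matrix.smul_single, smul_eq_mul]; simp
  have hs2 : E₁ * θ * E₂ = θ j i • E₂ := by rw [single_sandwich, Matrix.smul_single, smul_eq_mul]; simp
  have e1 : E₂ * D = (-(θ l i)) • E₁ := by
    simp only [D, one_smul, one_mul, mul_sub, Matrix.mul_smul, ← mul_assoc, h12, zero_mul, hs1, smul_zero]
    module
  have e2 : D * E₂ = θ j i • E₂ := by
    simp only [D, one_smul, one_mul, sub_mul, Matrix.smul_mul, hs2, mul_assoc θ E₁ E₂, h21, mul_zero, smul_zero]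
    module
  have e3 : D l i = 0 := by
    simp [D, E₁, Matrix.sub_apply, Matrix.mul_apply, Matrix.single_apply, hl.1, Ne.symm hl.1, Ne.symm hij, hij, hl.2]
  have hN := delta_mem hadd hsmul hconj (Ne.symm hl.1) 1 hD
  rw [e1, e2, e3, one_smul, mul_zero, zero_smul, sub_zero] at hN
  set N := (-θ l i) • E₁ - θ j i • E₂
  -- move the `E₁` part away
  have hlj : l ≠ j := hl.2
  have hM := delta_mem hadd hsmul hconj hlj (-(θ l i) / (-(θ j i))) hN
  have f1 : Matrix.single l j (1 : F) * N = 0 := by
    simp [N, E₁, E₂, mul_sub, Matrix.single_mul_single_of_ne, hij.symm]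
  have f2 : N * Matrix.single l j (1 : F) = (-θ j i) • E₁ := by
    simp [N, E₁, E₂, sub_mul, Matrix.single_mul_single_of_ne, hlj.symm]
  have f3 : N j l = 0 := by simp [N, E₁, E₂, Matrix.single_apply, hij.symm, hij]
  rw [f1, f2, f3, mul_zero, zero_smul, sub_zero, zero_sub, smul_neg, smul_smul,
    div_mul_cancel₀ _ (neg_ne_zero.2 hne)] at hM
  refine ⟨i, l, Ne.symm hl.1, ?_⟩
  have h4 := hsmul (-(θ j i))⁻¹ _ (hadd _ _ hM hN)
  convert h4 using 1
  rw [show -((-θ l i) • E₁) + N = (-θ j i) • E₂ by simp only [N]; module, inv_smul_smul₀ (neg_ne_zero.2 hne)]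

include hadd hmul hsmul hconj in
/-- An invariant algebra with a non-scalar matrix contains all matrices. -/
theorem mem_of_nonscalar (h2 : 2 ≤ Fintype.card α) (hbig : 3 ≤ Fintype.card α ∨ ∃ c : F, c ≠ 0 ∧ c ≠ 1)
    {θ : Matrix α α F} (hθ : S θ) (hns : ∀ c : F, θ ≠ c • 1) (M : Matrix α α F) : S M := by
  classical
  -- an off-diagonal entry
  obtain ⟨θ₁, hθ₁, i, j, hij, hne⟩ : ∃ θ₁, S θ₁ ∧ ∃ i j, i ≠ j ∧ θ₁ j i ≠ 0 := by
    by_cases hoff : ∃ i j, i ≠ j ∧ θ j i ≠ 0
    · exact ⟨θ, hθ, hoff⟩
    push Not at hoff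
    obtain ⟨i, j, hij⟩ : ∃ i j, θ i i ≠ θ j j := by
      by_contra! hc
      obtain ⟨i₀⟩ : Nonempty α := Fintype.card_pos_iff.1 (by omega)
      refine hns (θ i₀ i₀) ?_
      ext a b
      by_cases hab : a = b
      · subst hab; simp [hc a i₀]
      · simp [hab, hoff b a (Ne.symm hab)]
    have hne : i ≠ j := fun e => hij (by rw [e])
    refine ⟨_, delta_mem hadd hsmul hconj hne 1 hθ, j, i, hne.symm, ?_⟩
    simp [Matrix.sub_apply, Matrix.mul_apply, Matrix.single_apply, hoff i j hne]
    exact sub_ne_zero.2 (Ne.symm hij)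
  obtain ⟨a, b, hab, h0⟩ := exists_single hadd hsmul hconj hbig hθ₁ hij hne
  -- the opposite unit
  have hrev : ∀ p q, p ≠ q → S (Matrix.single p q (1 : F)) → S (Matrix.single q p (1 : F)) := by
    intro p q hpq h
    by_cases h3 : 3 ≤ Fintype.card α
    · obtain ⟨l, -, hl⟩ := Finset.exists_mem_notMem_of_card_lt_card (s := ({p, q} : Finset α)) (t := Finset.univ)
        (lt_of_le_of_lt Finset.card_le_two (by rw [Finset.card_univ]; omega))
      simp only [Finset.mem_insert, Finset.mem_singleton, not_or] at hl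
      have h1 := single_move_right hadd hsmul hconj hpq hl.1 hl.2 h
      have h2 := single_move_left hadd hsmul hconj (Ne.symm hl.1) hpq.symm (Ne.symm hl.2) h1
      exact single_move_right hadd hsmul hconj (Ne.symm hl.2) hpq (Ne.symm hl.1) h2
    · obtain ⟨c, hc0, hc1⟩ := hbig.resolve_left h3
      have h' := hadd _ _ (delta_mem hadd hsmul hconj hpq.symm c h)
        (hsmul (-c) _ (delta_mem hadd hsmul hconj hpq.symm 1 h))
      have hne' : c - c * c ≠ 0 := fun e => hc1 (by
        have : c * (1 - c) = 0 := by linear_combination e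
        exact (sub_eq_zero.1 ((mul_eq_zero.1 this).resolve_left hc0)).symm)
      convert hsmul (c - c * c)⁻¹ _ h' using 1
      have hpp : Matrix.single p q (1 : F) p q = 1 := by simp
      rw [hpp]
      rw [show c • (Matrix.single q p (1 : F) * Matrix.single p q 1 - Matrix.single p q 1 * Matrix.single q p 1) -
        (c * c * 1) • Matrix.single q p 1 + (-c) • ((1 : F) • (Matrix.single q p (1 : F) * Matrix.single p q 1 -
          Matrix.single p q 1 * Matrix.single q p 1) - (1 * 1 * 1 : F) • Matrix.single q p 1) =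
          (c - c * c) • Matrix.single q p (1 : F) by module, inv_smul_smul₀ hne']
  -- all off-diagonal units
  have hall : ∀ p q, p ≠ q → S (Matrix.single p q (1 : F)) := by
    have hrow : ∀ l, l ≠ a → S (Matrix.single a l (1 : F)) := fun l hl => by
      by_cases hlb : l = b
      · subst hlb; exact h0
      · exact single_move_right hadd hsmul hconj hab hl hlb h0
    intro p q hpq
    by_cases hpa : p = a
    · subst hpa; exact hrow q hpq.symm
    by_cases hqa : q = a
    · subst hqa; exact hrev _ _ hpq.symm (hrow p hpa)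
    exact single_move_left hadd hsmul hconj (Ne.symm hqa) hpa hpq (hrow q hqa)
  have hunit : ∀ p q, S (Matrix.single p q (1 : F)) := fun p q => by
    by_cases hpq : p = q
    · subst hpq
      obtain ⟨l, -, hl⟩ := Finset.exists_mem_notMem_of_card_lt_card (s := ({p} : Finset α)) (t := Finset.univ)
        (by rw [Finset.card_univ, Finset.card_singleton]; omega)
      simp only [Finset.mem_singleton] at hl
      have := hmul _ _ (hall p l (Ne.symm hl)) (hall l p hl)
      simpa using this
    · exact hall p q hpq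
  have hzero : S 0 := by simpa using hsmul 0 θ hθ
  refine Matrix.induction_on' M hzero hadd fun p q x => ?_
  have := hsmul x _ (hunit p q)
  simpa [Matrix.smul_single] using this

end Algebra

variable {β : Type} [Fintype β] [DecidableEq β] {X : Subgroup (GL (α × β) F)}
  (hbase : ∀ (a : Matrix α α F) (b : Matrix β β F), a.det = 1 → b.det = 1 →
    ∃ x ∈ X, ((x : GL (α × β) F) : Matrix (α × β) (α × β) F) = a ⊗ₖ b)

include hbase in
/-- A non-scalar coefficient gives the whole special linear group. -/
theorem specialLinear_le_of_rt (hα : 2 ≤ Fintype.card α) (h3β : 3 ≤ Fintype.card β)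
    (hbig : 3 ≤ Fintype.card α ∨ ∃ c : F, c ≠ 0 ∧ c ≠ 1) {v φ : β → F} {θ : Matrix α α F} (h : Rt X v φ θ)
    (h1 : φ ⬝ᵥ v = 0) (hv : v ≠ 0) (hφ : φ ≠ 0) (hns : ∀ c : F, θ ≠ c • 1) :
    Cfsg.Geo.specialLinear (α × β) F ≤ X := by
  classical
  have hb : ∀ {v φ : β → F} {σ : Matrix α α F}, Rt X v φ σ → φ ⬝ᵥ v = 0 → v ≠ 0 → φ ≠ 0 → InTheta X σ :=
    fun hR e hv' hφ' => inTheta_of_one hbase h3β hR e hv' hφ'
  have hall : ∀ M : Matrix α α F, InTheta X M :=
    mem_of_nonscalar (S := InTheta X) (fun _ _ ha hb' => ha.add hb') (fun _ _ ha hb' => ha.mul h3β hb' hb)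
      (fun c _ ha => ha.smul hbase h3β c) (fun _ _ _ ht hd ha => ha.conj hbase ht hd) hα hbig (hb h h1 hv hφ) hns
  intro g hg
  obtain ⟨i₀, i₁, hi01⟩ := Fintype.one_lt_card_iff.1 (show 1 < Fintype.card α by omega)
  obtain ⟨j₀⟩ : Nonempty β := Fintype.card_pos_iff.1 (by omega)
  haveI : Nontrivial (α × β) := ⟨⟨(i₀, j₀), (i₁, j₀), fun e => hi01 (congrArg Prod.fst e)⟩⟩
  have htop := CfsgLib.Classical.closure_transvection_eq_top
    (X.comap (Matrix.SpecialLinearGroup.toGL (n := α × β) (R := F))) fun p q hpq d => by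
      obtain ⟨i, j⟩ := p
      obtain ⟨k, l⟩ := q
      obtain ⟨x, hx, e⟩ : ∃ x ∈ X, ((x : GL (α × β) F) : Matrix (α × β) (α × β) F) =
          1 + Matrix.single (i, j) (k, l) d := by
        by_cases hjl : j = l
        · subst hjl
          have hik : i ≠ k := fun e => hpq (by rw [e])
          -- two root elements through a third column
          obtain ⟨j', hj'⟩ := Fintype.exists_ne_of_one_lt_card (show 1 < Fintype.card β by omega) j
          obtain ⟨x, hx, ex⟩ := hall (Matrix.single i i (1 : F)) (Pi.single j 1) (Pi.single j' 1) (by simp [hj'])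
          obtain ⟨y, hy, ey⟩ := hall (Matrix.single i k d) (Pi.single j' 1) (Pi.single j 1) (by simp [hj'.symm])
          obtain ⟨z, hz, ez⟩ := comm_mem hx hy ex ey (by rw [rt_prod]; simp [hj'])
            (by rw [rt_prod]; simp [hj'.symm]) (by rw [rt_prod]; simp [Matrix.single_mul_single_of_ne, hik.symm,
              show (emb α (Pi.single j' (1 : F)) : Matrix (α × β) α F) * (0 : Matrix α α F) = 0 from Matrix.mul_zero _])
          refine ⟨z, hz, ?_⟩
          rw [ez, rt_prod]
          simp only [single_dotProduct, Pi.single_eq_same, mul_one, one_smul, Matrix.single_mul_single_same, one_mul]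
          congr 1
          rw [emb_mul_mul_con]
          ext ⟨a, b⟩ ⟨a', b'⟩
          simp only [Matrix.kroneckerMap_apply, Matrix.single_apply, Matrix.vecMulVec_apply, Pi.single_apply,
            Prod.mk.injEq]
          by_cases h1 : i = a <;> by_cases h2 : k = a' <;> by_cases h3 : j = b <;> by_cases h4 : j = b' <;>
            simp [h1, h2, h3, h4, Ne.symm, eq_comm (a := b) (b := b')]
        · obtain ⟨x, hx, ex⟩ := hall (Matrix.single i k d) (Pi.single j 1) (Pi.single l 1) (by simp [hjl])
          refine ⟨x, hx, ?_⟩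
          rw [ex, emb_mul_mul_con]
          congr 1
          ext ⟨a, b⟩ ⟨a', b'⟩
          simp only [Matrix.kroneckerMap_apply, Matrix.single_apply, Matrix.vecMulVec_apply, Pi.single_apply,
            Prod.mk.injEq]
          by_cases h1 : i = a <;> by_cases h2 : k = a' <;> by_cases h3 : j = b <;> by_cases h4 : l = b' <;>
            simp [h1, h2, h3, h4, Ne.symm, eq_comm (a := b) (b := b')]
      rw [Subgroup.mem_comap]
      convert hx using 1
      exact Units.ext e.symm
  have hdet : (g : Matrix (α × β) (α × β) F).det = 1 := by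
    have := congrArg Units.val (MonoidHom.mem_ker.1 hg)
    simpa using this
  let g' : Matrix.SpecialLinearGroup (α × β) F := ⟨(g : Matrix _ _ F), hdet⟩
  have hm : g' ∈ X.comap (Matrix.SpecialLinearGroup.toGL (n := α × β) (R := F)) := htop ▸ Subgroup.mem_top _
  convert Subgroup.mem_comap.1 hm using 1
  exact Units.ext rfl

end CfsgLib.Geo.TensorLinear
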