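/-
An overgroup of the tensor stabiliser outside it: maximal intersections of the images of `V₁ ⊗ v` with such subspaces.
-/
import Cfsg.Agent.Lib.Geo.TensorLinearNarrow
import Cfsg.Agent.Lib.Geo.TensorLinearTheta

set_option autoImplicit false

namespace CfsgLib.Geo.TensorLinear

open Matrix Module
open scoped Kronecker

variable {α β : Type} [Fintype α] [DecidableEq α] [Fintype β] [DecidableEq β] {F : Type*} [Field F]

/-- The image of `V₁ ⊗ v`. -/
noncomputable def img (h : GL (α × β) F) (v : β → F) : Submodule F (α × β → F) :=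
  (line α v).map (h : Matrix (α × β) (α × β) F).mulVecLin

/-- A non-tensor image. -/
def Trip (X : Subgroup (GL (α × β) F)) (h : GL (α × β) F) (v v' : β → F) : Prop :=
  h ∈ X ∧ v ≠ 0 ∧ v' ≠ 0 ∧ ∀ w, img h v ≠ line α w

/-- There is a non-scalar root coefficient. -/
def Good (X : Subgroup (GL (α × β) F)) : Prop :=
  ∃ (v χ : β → F) (θ : Matrix α α F), Rt X v χ θ ∧ χ ⬝ᵥ v = 0 ∧ v ≠ 0 ∧ χ ≠ 0 ∧ ∀ c : F, θ ≠ c • 1

theorem finrank_img (h : GL (α × β) F) {v : β → F} (hv : v ≠ 0) : finrank F (img h v) = Fintype.card α := by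
  rw [img, ← (Submodule.equivMapOfInjective _
    (Matrix.mulVec_injective_iff_isUnit.2 h.isUnit) (line α v)).finrank_eq, finrank_line hv]

variable {X : Subgroup (GL (α × β) F)}

/-- An element fixing the intersection and one more vector stabilises the image. -/
theorem map_eq_of_max {h : GL (α × β) F} {v v' : β → F} (ht : Trip X h v v')
    (hmax : ∀ k u u', Trip X k u u' → finrank F (img k u ⊓ line α u' : Submodule F _) ≤
      finrank F (img h v ⊓ line α v' : Submodule F _))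
    {s : GL (α × β) F} (hs : s ∈ X) {u : α × β → F} (hu : u ∈ img h v) (hun : u ∉ line α v')
    (hsu : (s : Matrix (α × β) (α × β) F) *ᵥ u = u)
    (hsA : ∀ x ∈ img h v, x ∈ line α v' → (s : Matrix (α × β) (α × β) F) *ᵥ x = x) :
    ∀ x ∈ img h v, (s : Matrix (α × β) (α × β) F) *ᵥ x ∈ img h v := by
  obtain ⟨hh, hv, hv', hns⟩ := ht
  set H := (h : Matrix (α × β) (α × β) F)
  set H' := ((h⁻¹ : GL (α × β) F) : Matrix (α × β) (α × β) F)
  set S := (s : Matrix (α × β) (α × β) F)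
  have hHH : H' * H = 1 := Units.inv_mul h
  have hHH' : H * H' = 1 := Units.mul_inv h
  by_contra hne
  push Not at hne
  obtain ⟨x₀, hx₀, hx₀'⟩ := hne
  set A := img h v ⊓ line α v'
  set A₁ := A ⊔ Submodule.span F {u}
  have hA₁ : ∀ x ∈ A₁, x ∈ img h v ∧ S *ᵥ x = x := by
    intro x hx
    obtain ⟨a, ha, b, hb, rfl⟩ := Submodule.mem_sup.1 hx
    obtain ⟨c, rfl⟩ := Submodule.mem_span_singleton.1 hb
    exact ⟨add_mem ha.1 (Submodule.smul_mem _ c hu), by
      rw [Matrix.mulVec_add, Matrix.mulVec_smul, hsu, hsA a ha.1 ha.2]⟩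
  have hlt : finrank F A < finrank F A₁ := Submodule.finrank_lt_finrank_of_lt
    (lt_of_le_of_ne le_sup_left fun e => hun ((e.symm ▸ Submodule.mem_sup_right (Submodule.mem_span_singleton_self u) :
      u ∈ A)).2)
  set k := h⁻¹ * s * h
  have hk : k ∈ X := X.mul_mem (X.mul_mem (X.inv_mem hh) hs) hh
  have hkmem : ∀ x ∈ A₁, H' *ᵥ x ∈ img k v ⊓ line α v := by
    intro x hx
    obtain ⟨y, hy, e⟩ := (hA₁ x hx).1
    rw [Matrix.mulVecLin_apply] at e
    have e' : H' *ᵥ x = y := by rw [← e, Matrix.mulVec_mulVec, hHH, Matrix.one_mulVec]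
    refine ⟨⟨H' *ᵥ x, by rw [e']; exact hy, ?_⟩, by rw [e']; exact hy⟩
    rw [Matrix.mulVecLin_apply, Units.val_mul, Units.val_mul, Matrix.mulVec_mulVec,
      show H' * S * H * H' = H' * S * (H * H') from Matrix.mul_assoc _ _ _, hHH', Matrix.mul_one,
      ← Matrix.mulVec_mulVec, (hA₁ x hx).2]
  have hinj : Function.Injective H'.mulVecLin := Matrix.mulVec_injective_iff_isUnit.2 (h⁻¹).isUnit
  have hle : finrank F A₁ ≤ finrank F (img k v ⊓ line α v : Submodule F _) := by
    rw [(Submodule.equivMapOfInjective _ hinj A₁).finrank_eq]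
    refine Submodule.finrank_mono ?_
    rintro _ ⟨x, hx, rfl⟩
    exact hkmem x hx
  have hu0 : u ≠ 0 := fun e => hun (e ▸ zero_mem _)
  have hu1 : H' *ᵥ u ≠ 0 := fun e => hu0 (hinj (by rw [map_zero]; exact e))
  have hnsk : ∀ w, img k v ≠ line α w := by
    intro w e
    have h1 := hkmem u (Submodule.mem_sup_right (Submodule.mem_span_singleton_self u))
    have h2 : H' *ᵥ u ∈ line α w := e ▸ h1.1
    rw [line_eq_of_inter h1.2 h2 hu1] at e
    -- the image is then stable
    obtain ⟨y, hy, ey⟩ := hx₀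
    rw [Matrix.mulVecLin_apply] at ey
    have h3 : (k : Matrix (α × β) (α × β) F) *ᵥ y ∈ line α v := by rw [← e]; exact ⟨y, hy, rfl⟩
    refine hx₀' ⟨_, h3, ?_⟩
    rw [Matrix.mulVecLin_apply, Units.val_mul, Units.val_mul, Matrix.mulVec_mulVec,
      show H * (H' * S * H) = (H * H') * S * H by simp only [Matrix.mul_assoc], hHH', Matrix.one_mul,
      ← Matrix.mulVec_mulVec]
    exact congrArg (S *ᵥ ·) ey
  exact absurd (hmax k v v ⟨hk, hv, hv, hnsk⟩) (not_le.2 (hlt.trans_le hle))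

variable (hbase : ∀ (a : Matrix α α F) (b : Matrix β β F), a.det = 1 → b.det = 1 →
    ∃ x ∈ X, ((x : GL (α × β) F) : Matrix (α × β) (α × β) F) = a ⊗ₖ b)

include hbase in
/-- Either the image is narrow, or the contractions are injective away from the intersection. -/
theorem good_or_injective (h3β : 3 ≤ Fintype.card β) (hαβ : Fintype.card α < Fintype.card β) {h : GL (α × β) F}
    {v v' : β → F} (ht : Trip X h v v')
    (hmax : ∀ k u u', Trip X k u u' → finrank F (img k u ⊓ line α u' : Submodule F _) ≤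
      finrank F (img h v ⊓ line α v' : Submodule F _)) :
    Good X ∨ ∀ φ : β → F, φ ≠ 0 → φ ⬝ᵥ v' = 0 → ∀ u ∈ img h v, con α φ *ᵥ u = 0 → u ∈ line α v' := by
  classical
  by_cases hn : ∃ φ : β → F, φ ≠ 0 ∧ ∀ x ∈ img h v, con α φ *ᵥ x = 0
  · obtain ⟨φ, hφ, hW⟩ := hn
    exact Or.inl (rt_of_narrow hbase h3β ht.1 ht.2.1 hφ ht.2.2.2 hW)
  push Not at hn
  refine Or.inr fun φ hφ hφv u hu hu0 => ?_
  by_contra hun
  obtain ⟨x, hx, hx0⟩ := hn φ hφ
  set y := con α φ *ᵥ x
  -- the image contains all `y ⊗ w`, `w ⊥ φ`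
  let ℓ : (β → F) →ₗ[F] F :=
    { toFun := fun w => φ ⬝ᵥ w
      map_add' := fun a b => dotProduct_add _ _ _
      map_smul' := fun c a => dotProduct_smul _ _ _ }
  have hmem : ∀ w ∈ LinearMap.ker ℓ, pt y w ∈ img h v := by
    intro w hw
    have hw' : φ ⬝ᵥ w = 0 := hw
    obtain ⟨s, hs, es⟩ := rt_scalar hbase hw' 1
    rw [one_smul, Matrix.mul_one] at es
    have hsx : ∀ z, (s : Matrix (α × β) (α × β) F) *ᵥ z = z + pt (con α φ *ᵥ z) w := fun z => by
      rw [es, Matrix.add_mulVec, Matrix.one_mulVec, ← Matrix.mulVec_mulVec, emb_mulVec]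
    have h1 := map_eq_of_max ht hmax hs hu hun (by rw [hsx, hu0]; funext p; simp [pt])
      (fun a _ ha => by rw [hsx, con_of_mem_line hφv ha]; funext p; simp [pt]) x hx
    rw [hsx] at h1
    simpa using sub_mem h1 hx
  let M : (β → F) →ₗ[F] (α × β → F) :=
    { toFun := fun w => pt y w
      map_add' := fun a b => by funext p; simp [pt, mul_add]
      map_smul' := fun c a => by funext p; simp [pt]; ring }
  obtain ⟨i, hi⟩ := Function.ne_iff.1 hx0
  have hinj : Function.Injective M := fun a b e => funext fun j => by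
    exact mul_left_cancel₀ hi (congrFun e (i, j))
  have hker : Fintype.card α ≤ finrank F (LinearMap.ker ℓ) := by
    have h1 := LinearMap.finrank_range_add_finrank_ker ℓ
    have h2 : finrank F (LinearMap.range ℓ) ≤ 1 := (Submodule.finrank_le _).trans (by simp)
    rw [Module.finrank_fintype_fun_eq_card] at h1
    omega
  have hle : (LinearMap.ker ℓ).map M ≤ img h v := by
    rintro _ ⟨w, hw, rfl⟩
    exact hmem w hw
  have heq := Submodule.eq_of_le_of_finrank_le hle (by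
    rw [← (Submodule.equivMapOfInjective _ hinj _).finrank_eq, finrank_img h ht.2.1]; exact hker)
  rw [← heq] at hx
  obtain ⟨w, hw, e⟩ := hx
  refine hx0 ?_
  show con α φ *ᵥ x = 0
  rw [← e]
  show con α φ *ᵥ pt y w = 0
  rw [con_pt, show φ ⬝ᵥ w = 0 from hw, zero_smul]

include hbase in
/-- An image meeting every line trivially is narrow. -/
theorem good_of_inter_eq_bot (h3β : 3 ≤ Fintype.card β) (hαβ : Fintype.card α < Fintype.card β) {h : GL (α × β) F}
    {v v' : β → F} (ht : Trip X h v v')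
    (hmax : ∀ k u u', Trip X k u u' → finrank F (img k u ⊓ line α u' : Submodule F _) ≤
      finrank F (img h v ⊓ line α v' : Submodule F _))
    (hbot : img h v ⊓ line α v' = ⊥) : Good X := by
  classical
  obtain ⟨hh, hv, hv', hns⟩ := id ht
  by_cases hn : ∃ φ : β → F, φ ≠ 0 ∧ ∀ x ∈ img h v, con α φ *ᵥ x = 0
  · obtain ⟨φ, hφ, hW⟩ := hn
    exact rt_of_narrow hbase h3β hh hv hφ hns hW
  push Not at hn
  obtain ⟨u, hu, hun⟩ : ∃ u ∈ img h v, u ∉ line α v' := by
    by_contra! hc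
    exact hns v' (Submodule.eq_of_le_of_finrank_eq hc (by rw [finrank_img h hv, finrank_line hv']))
  -- a contraction killing `u`
  obtain ⟨φ, hφ0, hφu⟩ : ∃ φ : β → F, φ ≠ 0 ∧ con α φ *ᵥ u = 0 := by
    obtain ⟨φ, hφ0, hφ⟩ := exists_perp (fun k j => u ((Fintype.equivFin α).symm k, j)) hαβ
    refine ⟨φ, hφ0, funext fun i => ?_⟩
    have := hφ (Fintype.equivFin α i)
    simp only [Equiv.symm_apply_apply] at this
    rw [con_mulVec]
    exact this
  obtain ⟨x, hx, hx0⟩ := hn φ hφ0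
  obtain ⟨w, hw0, hw⟩ := exists_perp ![φ] (show 1 < Fintype.card β by omega)
  have hφw : φ ⬝ᵥ w = 0 := by rw [dotProduct_comm]; exact hw 0
  obtain ⟨s, hs, es⟩ := rt_scalar hbase hφw 1
  rw [one_smul, Matrix.mul_one] at es
  have hsx : ∀ z, (s : Matrix (α × β) (α × β) F) *ᵥ z = z + pt (con α φ *ᵥ z) w := fun z => by
    rw [es, Matrix.add_mulVec, Matrix.one_mulVec, ← Matrix.mulVec_mulVec, emb_mulVec]
  have h1 := map_eq_of_max ht hmax hs hu hun (by rw [hsx, hφu]; funext p; simp [pt]) (fun z hz hz' => by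
    rw [show z = 0 from (Submodule.mem_bot F).1 (hbot ▸ (⟨hz, hz'⟩ : z ∈ img h v ⊓ line α v')), Matrix.mulVec_zero]) x hx
  rw [hsx] at h1
  have h2 : pt (con α φ *ᵥ x) w ∈ img h v ⊓ line α w :=
    ⟨by simpa using sub_mem h1 hx, mem_line.2 ⟨_, rfl⟩⟩
  have h3 := hmax h v w ⟨hh, hv, hw0, hns⟩
  rw [hbot, finrank_bot, Nat.le_zero, Submodule.finrank_eq_zero] at h3
  rw [h3, Submodule.mem_bot] at h2
  exact absurd (pt_injective hw0 (h2.trans (by funext p; simp [pt]) :
    pt (con α φ *ᵥ x) w = pt 0 w)) hx0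

omit [DecidableEq α] in
theorem exists_kill {P : Submodule F (α → F)} (hP : P ≠ ⊤) : ∃ ψ : α → F, ψ ≠ 0 ∧ ∀ y ∈ P, ψ ⬝ᵥ y = 0 := by
  classical
  obtain ⟨z, hz⟩ : ∃ z, z ∉ P := by
    by_contra! hc
    exact hP (eq_top_iff.2 fun z _ => hc z)
  obtain ⟨f, hf, hP'⟩ := Submodule.exists_dual_map_eq_bot_of_notMem hz inferInstance
  have key : ∀ y, (fun i => f (Pi.single i 1)) ⬝ᵥ y = f y := fun y => by
    conv_rhs => rw [pi_eq_sum_univ' y]
    rw [map_sum]
    exact Finset.sum_congr rfl fun i _ => by rw [map_smul, smul_eq_mul]; ring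
  refine ⟨fun i => f (Pi.single i 1), fun e => hf (by rw [← key, e, zero_dotProduct]), fun y hy => ?_⟩
  rw [key]
  have : f y ∈ P.map f := ⟨y, hy, rfl⟩
  rwa [hP', Submodule.mem_bot] at this

include hbase in
/-- The boundary case `dim V₂ = dim V₁ + 1`. -/
theorem good_of_injective (hα : 2 ≤ Fintype.card α) (hαβ : Fintype.card α < Fintype.card β) {h : GL (α × β) F}
    {v v' : β → F} (ht : Trip X h v v')
    (hmax : ∀ k u u', Trip X k u u' → finrank F (img k u ⊓ line α u' : Submodule F _) ≤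
      finrank F (img h v ⊓ line α v' : Submodule F _))
    (hinj : ∀ φ : β → F, φ ≠ 0 → φ ⬝ᵥ v' = 0 → ∀ u ∈ img h v, con α φ *ᵥ u = 0 → u ∈ line α v') :
    Good X := by
  classical
  obtain ⟨hh, hv, hv', hns⟩ := id ht
  have h3β : 3 ≤ Fintype.card β := by omega
  let ℓ : (β → F) →ₗ[F] F :=
    { toFun := fun w => w ⬝ᵥ v'
      map_add' := fun a b => add_dotProduct _ _ _
      map_smul' := fun c a => smul_dotProduct _ _ _ }
  -- contractions against a vector outside are bijective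
  have hsurj : ∀ u ∈ img h v, u ∉ line α v' → ∀ y : α → F, ∃ φ : β → F, φ ⬝ᵥ v' = 0 ∧ con α φ *ᵥ u = y := by
    intro u hu hun y
    let T : LinearMap.ker ℓ →ₗ[F] (α → F) :=
      { toFun := fun φ => con α (φ : β → F) *ᵥ u
        map_add' := fun a b => by funext i; simp [con_mulVec, add_mul, Finset.sum_add_distrib]
        map_smul' := fun c a => by funext i; simp [con_mulVec, Finset.mul_sum, mul_assoc] }
    have hT : Function.Injective T := (injective_iff_map_eq_zero T).2 fun φ hφ => by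
      by_contra h0
      exact hun (hinj φ (fun e => h0 (Subtype.ext e)) φ.2 u hu hφ)
    have hdim : Fintype.card α ≤ finrank F (LinearMap.ker ℓ) := by
      have h1 := LinearMap.finrank_range_add_finrank_ker ℓ
      have h2 : finrank F (LinearMap.range ℓ) ≤ 1 := (Submodule.finrank_le _).trans (by simp)
      rw [Module.finrank_fintype_fun_eq_card] at h1
      omega
    have hd : finrank F (LinearMap.ker ℓ) = finrank F (α → F) := by
      refine le_antisymm (LinearMap.finrank_le_finrank_of_injective hT) ?_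
      rwa [Module.finrank_fintype_fun_eq_card]
    obtain ⟨φ, hφ⟩ := (LinearMap.injective_iff_surjective_of_finrank_eq_finrank hd).1 hT y
    exact ⟨φ, φ.2, hφ⟩
  obtain ⟨u, hu, hun⟩ : ∃ u ∈ img h v, u ∉ line α v' := by
    by_contra! hc
    exact hns v' (Submodule.eq_of_le_of_finrank_eq hc (by rw [finrank_img h hv, finrank_line hv']))
  let P : Submodule F (α → F) := (img h v).comap (emb α v').mulVecLin
  have hP : ∀ y, y ∈ P ↔ pt y v' ∈ img h v := fun y => by simp [P, emb_mulVec]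
  have hPtop : P ≠ ⊤ := by
    intro e
    refine hns v' (Submodule.eq_of_le_of_finrank_eq ?_ (by rw [finrank_img h hv, finrank_line hv'])).symm
    intro x hx
    obtain ⟨y, rfl⟩ := mem_line.1 hx
    exact (hP y).1 (e ▸ Submodule.mem_top)
  obtain ⟨ψ, hψ0, hψ⟩ := exists_kill hPtop
  by_cases hbot : img h v ⊓ line α v' = ⊥
  · exact good_of_inter_eq_bot hbase h3β hαβ ht hmax hbot
  obtain ⟨p₀, hp₀, hp₀0⟩ : ∃ p ∈ P, p ≠ 0 := by
    obtain ⟨x, hx, hx0⟩ := Submodule.exists_mem_ne_zero_of_ne_bot hbot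
    obtain ⟨p, rfl⟩ := mem_line.1 hx.2
    exact ⟨p, (hP p).2 hx.1, fun e => hx0 (by rw [e]; funext q; simp [pt])⟩
  by_cases hM : ∃ M ∈ img h v, ∀ c : F, M - c • u ∉ line α v'
  · -- a transvection fixing the intersection and `u` moves the image
    exfalso
    obtain ⟨M, hMW, hMc⟩ := hM
    have h4β : 3 < Fintype.card β := by
      -- three independent vectors in the image
      have hlt : finrank F (img h v ⊓ line α v' : Submodule F _) + 2 ≤ finrank F (img h v) := by
        set A := img h v ⊓ line α v'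
        have h1 : A < A ⊔ Submodule.span F {u} := lt_of_le_of_ne le_sup_left fun e => hun
          ((e.symm ▸ Submodule.mem_sup_right (Submodule.mem_span_singleton_self u) : u ∈ A)).2
        have h2 : A ⊔ Submodule.span F {u} < img h v := lt_of_le_of_ne (sup_le inf_le_left (by simpa using hu))
          fun e => by
            rw [← e] at hMW
            obtain ⟨r, hr, t, ht', e'⟩ := Submodule.mem_sup.1 hMW
            obtain ⟨c, rfl⟩ := Submodule.mem_span_singleton.1 ht'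
            exact hMc c (by rw [← e']; simpa using hr.2)
        have := Submodule.finrank_lt_finrank_of_lt h1
        have := Submodule.finrank_lt_finrank_of_lt h2
        omega
      rw [finrank_img h hv] at hlt
      have : finrank F (img h v ⊓ line α v' : Submodule F _) ≠ 0 := fun e => hbot (Submodule.finrank_eq_zero.1 e)
      omega
    obtain ⟨a, ha0, ha⟩ := exists_perp ![ψ] (show 1 < Fintype.card α by omega)
    have ha' : ψ ⬝ᵥ a = 0 := by rw [dotProduct_comm]; exact ha 0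
    obtain ⟨χ, hχv, hχu⟩ := hsurj u hu hun a
    set w := ct₁ ψ u
    have hχw : χ ⬝ᵥ w = 0 := by rw [dot_ct₁, hχu, ha']
    obtain ⟨s, hs, es⟩ := hbase (1 + Matrix.vecMulVec a ψ) (1 + Matrix.vecMulVec (-w) χ)
      (by rw [Matrix.vecMulVec_eq Unit, Matrix.det_one_add_replicateCol_mul_replicateRow, ha', add_zero])
      (by rw [Matrix.vecMulVec_eq Unit, Matrix.det_one_add_replicateCol_mul_replicateRow, dotProduct_neg, hχw,
        neg_zero, add_zero])
    have hsx : ∀ x, (s : Matrix (α × β) (α × β) F) *ᵥ x = x + pt a (ct₁ ψ x) - pt (con α χ *ᵥ x) w -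
        (ψ ⬝ᵥ (con α χ *ᵥ x)) • pt a w := fun x => by
      rw [es, Matrix.add_kronecker, Matrix.kronecker_add, Matrix.kronecker_add, Matrix.one_kronecker_one,
        Matrix.add_mulVec, Matrix.add_mulVec, Matrix.add_mulVec, Matrix.one_mulVec, one_kron_mulVec, kron_one_mulVec,
        kron_kron_mulVec]
      funext p
      simp [pt]
      ring
    have hR : ∀ x ∈ img h v, pt a (ct₁ ψ x) - pt (con α χ *ᵥ x) w - (ψ ⬝ᵥ (con α χ *ᵥ x)) • pt a w ∈ img h v := by
      intro x hx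
      have h1 := map_eq_of_max ht hmax hs hu hun (by rw [hsx, hχu, ha', zero_smul]; abel) (fun z hz hz' => by
        obtain ⟨y, rfl⟩ := mem_line.1 hz'
        have hy : ψ ⬝ᵥ y = 0 := hψ y ((hP y).2 hz)
        rw [hsx, ct₁_pt, con_pt, hχv, hy]
        funext p; simp [pt]) x hx
      rw [hsx] at h1
      convert sub_mem h1 hx using 1
      abel
    set R := pt a (ct₁ ψ M) - pt (con α χ *ᵥ M) w - (ψ ⬝ᵥ (con α χ *ᵥ M)) • pt a w
    have hRline : R ∈ line α v' := by
      obtain ⟨φ, hφ0, hφ⟩ := exists_perp ![v', w, ct₁ ψ M] h4β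
      refine hinj φ hφ0 (hφ 0) R (hR M hMW) ?_
      have e1 : φ ⬝ᵥ w = 0 := hφ 1
      have e2 : φ ⬝ᵥ ct₁ ψ M = 0 := hφ 2
      simp only [R, Matrix.mulVec_sub, Matrix.mulVec_smul, con_pt, e1, e2, zero_smul, smul_zero, sub_zero]
    have hkey : ∀ φ : β → F, φ ⬝ᵥ v' = 0 → φ ⬝ᵥ w = 0 → ψ ⬝ᵥ (con α φ *ᵥ M) = 0 := by
      intro φ hφ hφw
      have h1 := con_of_mem_line hφ hRline
      simp only [R, Matrix.mulVec_sub, Matrix.mulVec_smul, con_pt, hφw, zero_smul, smul_zero, sub_zero] at h1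
      rw [dot_ct₁] at h1
      exact (smul_eq_zero.1 h1).resolve_right ha0
    obtain ⟨j, hj⟩ := Function.ne_iff.1 hψ0
    obtain ⟨φ₀, hφ₀v, hφ₀u⟩ := hsurj u hu hun (Pi.single j (ψ j)⁻¹)
    have hg0 : φ₀ ⬝ᵥ w = 1 := by rw [dot_ct₁, hφ₀u, dotProduct_single, mul_inv_cancel₀ hj]
    set lam := ψ ⬝ᵥ (con α φ₀ *ᵥ M)
    obtain ⟨φ, hφv, hφM⟩ := hsurj (M - lam • u) (sub_mem hMW (Submodule.smul_mem _ _ hu)) (hMc lam)
      (Pi.single j (ψ j)⁻¹)
    have h1 := hkey (φ - (φ ⬝ᵥ w) • φ₀) (by rw [sub_dotProduct, smul_dotProduct, hφv, hφ₀v, smul_zero, sub_zero])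
      (by rw [sub_dotProduct, smul_dotProduct, hg0, smul_eq_mul, mul_one, sub_self])
    have h2 : ψ ⬝ᵥ (con α φ *ᵥ (M - lam • u)) = 1 := by rw [hφM, dotProduct_single, mul_inv_cancel₀ hj]
    rw [show con α (φ - (φ ⬝ᵥ w) • φ₀) = con α φ - (φ ⬝ᵥ w) • con α φ₀ from by
        ext i p; simp [con]; split_ifs <;> simp,
      Matrix.sub_mulVec, Matrix.smul_mulVec, dotProduct_sub, dotProduct_smul, smul_eq_mul] at h1
    rw [Matrix.mulVec_sub, Matrix.mulVec_smul, dotProduct_sub, dotProduct_smul, smul_eq_mul, ← dot_ct₁ φ ψ u] at h2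
    exact one_ne_zero (α := F) (by linear_combination -h2 + h1)
  -- the intersection has codimension one
  push Not at hM
  set H := (h : Matrix (α × β) (α × β) F)
  set H' := ((h⁻¹ : GL (α × β) F) : Matrix (α × β) (α × β) F)
  have hHH : H' * H = 1 := Units.inv_mul h
  have hHH' : H * H' = 1 := Units.mul_inv h
  set G := H * emb α v
  have hGmem : ∀ c, G *ᵥ c ∈ img h v := fun c => ⟨emb α v *ᵥ c, mem_line.2 ⟨_, (emb_mulVec _ _).symm⟩, by
    simp only [G, Matrix.mulVecLin_apply, Matrix.mulVec_mulVec]; rfl⟩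
  obtain ⟨i, hi⟩ := Function.ne_iff.1 hψ0
  set y₀ : α → F := Pi.single i (ψ i)⁻¹
  have hy₀ : y₀ ∉ P := fun e => by
    have := hψ y₀ e
    rw [dotProduct_single, mul_inv_cancel₀ hi] at this
    exact one_ne_zero this
  obtain ⟨φ, hφv, hφu⟩ := hsurj u hu hun y₀
  -- split along the hyperplane `P`
  have hsplit : ∀ y, ∃ c : F, y - c • y₀ ∈ P := by
    intro y
    obtain ⟨φ₁, hφ₁v, hφ₁u⟩ := hsurj u hu hun y
    have hd : finrank F P + 1 = Fintype.card α := by
      have hA : finrank F P = finrank F (img h v ⊓ line α v' : Submodule F _) := by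
        rw [(Submodule.equivMapOfInjective (emb α v').mulVecLin (fun a b e => pt_injective hv' (by
          simpa [emb_mulVec] using e)) P).finrank_eq]
        refine congrArg (fun S : Submodule F (α × β → F) => finrank F S) ?_
        ext x
        simp only [Submodule.mem_map, Matrix.mulVecLin_apply, emb_mulVec, Submodule.mem_inf, mem_line, hP]
        constructor
        · rintro ⟨z, hz, rfl⟩; exact ⟨hz, z, rfl⟩
        · rintro ⟨hx, z, rfl⟩; exact ⟨z, hx, rfl⟩
      have hsup : img h v = (img h v ⊓ line α v') ⊔ Submodule.span F {u} := by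
        refine le_antisymm (fun x hx => ?_) (sup_le inf_le_left (by simpa using hu))
        obtain ⟨c, hc⟩ := hM x hx
        exact Submodule.mem_sup.2 ⟨x - c • u, ⟨sub_mem hx (Submodule.smul_mem _ _ hu), hc⟩, c • u,
          Submodule.smul_mem _ _ (Submodule.mem_span_singleton_self u), by abel⟩
      have h1 := Submodule.finrank_sup_add_finrank_inf_eq (img h v ⊓ line α v') (Submodule.span F {u})
      rw [← hsup, finrank_img h hv, finrank_span_singleton (fun e => hun (by rw [e]; exact zero_mem _))] at h1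
      have h2 : (img h v ⊓ line α v') ⊓ Submodule.span F {u} = ⊥ := by
        refine eq_bot_iff.2 fun x hx => ?_
        obtain ⟨hx1, hx2⟩ := hx
        obtain ⟨c, rfl⟩ := Submodule.mem_span_singleton.1 hx2
        by_cases hc : c = 0
        · simp [hc]
        · exact absurd ((Submodule.smul_mem_iff _ hc).1 hx1.2) hun
      rw [h2, finrank_bot] at h1
      omega
    have htop : P ⊔ Submodule.span F {y₀} = ⊤ := by
      refine Submodule.eq_top_of_finrank_eq ?_
      rw [Module.finrank_fintype_fun_eq_card]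
      refine le_antisymm ((Submodule.finrank_le _).trans (by rw [Module.finrank_fintype_fun_eq_card])) ?_
      have := Submodule.finrank_lt_finrank_of_lt (lt_of_le_of_ne (le_sup_left : P ≤ P ⊔ Submodule.span F {y₀})
        fun e => hy₀ (e.symm ▸ Submodule.mem_sup_right (Submodule.mem_span_singleton_self y₀)))
      omega
    obtain ⟨p, hp, q, hq, e⟩ := Submodule.mem_sup.1 (htop.symm ▸ Submodule.mem_top : y ∈ P ⊔ Submodule.span F {y₀})
    obtain ⟨c, rfl⟩ := Submodule.mem_span_singleton.1 hq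
    exact ⟨c, by rw [← e]; simpa using hp⟩
  -- a root element of the image whose value at `y₀ ⊗ v'` lies in the intersection
  set z₀ := H' *ᵥ pt y₀ v'
  set i₁ := i
  set K : α → F := fun k => (con α φ * G) i₁ k
  obtain ⟨φ₀, hφ₀0, hφ₀⟩ := exists_perp ![v, fun j => ∑ k, K k * z₀ (k, j)] (by omega)
  have hφ₀v : φ₀ ⬝ᵥ v = 0 := hφ₀ 0
  set wA := G *ᵥ (con α φ₀ *ᵥ z₀)
  have hwW : wA ∈ img h v := hGmem _
  have hwA : wA ∈ line α v' := by
    obtain ⟨c, hc⟩ := hM wA hwW
    have h1 : (con α φ *ᵥ wA) i₁ = 0 := by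
      rw [Matrix.mulVec_mulVec]
      have h2 : φ₀ ⬝ᵥ (fun j => ∑ k, K k * z₀ (k, j)) = 0 := hφ₀ 1
      show ∑ k, K k * (con α φ₀ *ᵥ z₀) k = 0
      rw [← h2]
      simp only [con_mulVec, dotProduct, Finset.mul_sum]
      rw [Finset.sum_comm]
      exact Finset.sum_congr rfl fun j _ => Finset.sum_congr rfl fun k _ => by ring
    have h3 := con_of_mem_line hφv hc
    rw [Matrix.mulVec_sub, Matrix.mulVec_smul, hφu] at h3
    have h4 := congrFun h3 i₁
    rw [Pi.sub_apply, Pi.zero_apply, h1, Pi.smul_apply, smul_eq_mul, zero_sub, neg_eq_zero] at h4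
    have hy0i : y₀ i₁ ≠ 0 := by simpa [y₀, i₁] using hi
    rw [(mul_eq_zero.1 h4).resolve_right hy0i, zero_smul, sub_zero] at hc
    exact hc
  obtain ⟨x₁, hx₁, ex₁⟩ := rt_scalar hbase hφv 1
  rw [one_smul, Matrix.mul_one] at ex₁
  obtain ⟨x₂, hx₂, ex₂⟩ := rt_scalar hbase hφ₀v 1
  rw [one_smul, Matrix.mul_one] at ex₂
  set a := emb α v' * con α φ
  set η := G * (con α φ₀ * H')
  have eη : ((h * x₂ * h⁻¹ : GL (α × β) F) : Matrix (α × β) (α × β) F) = 1 + η := by
    rw [Units.val_mul, Units.val_mul, ex₂, mul_add, mul_one, add_mul]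
    show H * H' + H * (emb α v * con α φ₀) * H' = _
    rw [hHH']
    simp only [η, G, Matrix.mul_assoc]
  have haa : a * a = 0 := by
    rw [show a * a = emb α v' * (con α φ * emb α v') * con α φ by simp only [a, Matrix.mul_assoc], con_mul_emb, hφv,
      zero_smul, Matrix.mul_zero, Matrix.zero_mul]
  have hηη : η * η = 0 := by
    rw [show η * η = G * (con α φ₀ * (H' * H) * emb α v) * (con α φ₀ * H') by simp only [η, G, Matrix.mul_assoc], hHH,
      Matrix.mul_one, con_mul_emb, hφ₀v, zero_smul, Matrix.mul_zero, Matrix.zero_mul]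
  have hηW : ∀ x ∈ img h v, η *ᵥ x = 0 := by
    rintro _ ⟨x, hx, rfl⟩
    obtain ⟨y, rfl⟩ := mem_line.1 hx
    rw [Matrix.mulVecLin_apply, ← emb_mulVec, Matrix.mulVec_mulVec, Matrix.mulVec_mulVec,
      show η * (h : Matrix (α × β) (α × β) F) * emb α v = G * (con α φ₀ * (H' * H) * emb α v) by
        simp only [η, G, H, Matrix.mul_assoc], hHH,
      Matrix.mul_one, con_mul_emb, hφ₀v, zero_smul, Matrix.mul_zero, Matrix.zero_mulVec]
  have hηy₀ : η *ᵥ pt y₀ v' = wA := by
    show (G * (con α φ₀ * H')) *ᵥ _ = _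
    simp only [wA, z₀, G, ← Matrix.mulVec_mulVec]
  have hηline : ∀ y, ∃ c : F, η *ᵥ pt y v' = c • wA := by
    intro y
    obtain ⟨c, hc⟩ := hsplit y
    refine ⟨c, ?_⟩
    have := hηW _ ((hP _).1 hc)
    rw [show pt (y - c • y₀) v' = pt y v' - c • pt y₀ v' from by funext p; simp [pt]; ring, Matrix.mulVec_sub,
      Matrix.mulVec_smul, hηy₀, sub_eq_zero] at this
    exact this
  have haline : ∀ x, a *ᵥ x = pt (con α φ *ᵥ x) v' := fun x => by
    rw [← Matrix.mulVec_mulVec, emb_mulVec]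
  have hawA : a *ᵥ wA = 0 := by
    rw [haline, con_of_mem_line hφv hwA]
    funext p; simp [pt]
  have haηa : a * η * a = 0 := by
    refine Matrix.toLin'.injective (LinearMap.ext fun x => ?_)
    rw [Matrix.toLin'_apply, ← Matrix.mulVec_mulVec, ← Matrix.mulVec_mulVec, haline x]
    obtain ⟨c, hc⟩ := hηline (con α φ *ᵥ x)
    rw [hc, Matrix.mulVec_smul, hawA, smul_zero, map_zero, LinearMap.zero_apply]
  set ζ := η * a - a * η - η * a * η
  have hηinv : (((h * x₂ * h⁻¹)⁻¹ : GL (α × β) F) : Matrix (α × β) (α × β) F) = 1 - η := by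
    refine Units.inv_eq_of_mul_eq_one_right ?_
    rw [eη, mul_sub, mul_one, add_mul, one_mul, hηη]; abel
  have hainv : ((x₁⁻¹ : GL (α × β) F) : Matrix (α × β) (α × β) F) = 1 - a := by
    refine Units.inv_eq_of_mul_eq_one_right ?_
    rw [ex₁, mul_sub, mul_one, add_mul, one_mul, haa]; abel
  set z := h * x₂ * h⁻¹ * x₁ * (h * x₂ * h⁻¹)⁻¹ * x₁⁻¹
  have hcm : h * x₂ * h⁻¹ ∈ X := X.mul_mem (X.mul_mem hh hx₂) (X.inv_mem hh)
  have hz : z ∈ X := X.mul_mem (X.mul_mem (X.mul_mem hcm hx₁) (X.inv_mem hcm)) (X.inv_mem hx₁)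
  have ez : (z : Matrix (α × β) (α × β) F) = 1 + ζ := by
    show ((h * x₂ * h⁻¹ * x₁ * (h * x₂ * h⁻¹)⁻¹ * x₁⁻¹ : GL (α × β) F) : Matrix (α × β) (α × β) F) = _
    rw [Units.val_mul, Units.val_mul, Units.val_mul, eη, ex₁, hηinv, hainv]
    rw [show (1 + η) * (1 + a) * (1 - η) * (1 - a) = 1 + (η * a - a * η - η * a * η) - η * η + η * η * a - a * a -
      η * (a * a) + a * η * a + η * (a * η * a) by noncomm_ring, hηη, haa, haηa]
    simp [ζ]
  -- the image of `ζ` is spanned by `wA` and the image of `a ∘ η`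
  obtain ⟨c₀, hc₀⟩ : ∃ c₀, G *ᵥ c₀ = u := by
    obtain ⟨x, hx, e⟩ := hu
    obtain ⟨y, rfl⟩ := mem_line.1 hx
    exact ⟨y, by rw [← e]; simp only [G, Matrix.mulVecLin_apply, ← Matrix.mulVec_mulVec, emb_mulVec]; rfl⟩
  obtain ⟨χ₀, hχ₀⟩ := exists_dual hφ₀0
  have hGimg : ∀ x, ∃ c : F, a *ᵥ (η *ᵥ x) = c • pt y₀ v' := by
    intro x
    have hW : η *ᵥ x ∈ img h v := by
      show (G * (con α φ₀ * H')) *ᵥ x ∈ _
      rw [← Matrix.mulVec_mulVec]
      exact hGmem _
    obtain ⟨c, hc⟩ := hM _ hW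
    refine ⟨c, ?_⟩
    have h1 := con_of_mem_line hφv hc
    rw [Matrix.mulVec_sub, Matrix.mulVec_smul, hφu, sub_eq_zero] at h1
    rw [haline, h1]
    funext p; simp [pt]; ring
  have hηa : ∀ x, ∃ c : F, η *ᵥ (a *ᵥ x) = c • wA := fun x => by rw [haline]; exact hηline _
  have hspan : ∀ x, ζ *ᵥ x ∈ Submodule.span F ({wA, pt y₀ v'} : Set (α × β → F)) := by
    intro x
    obtain ⟨c₁, h1⟩ := hηa x
    obtain ⟨c₂, h2⟩ := hGimg x
    refine Submodule.mem_span_pair.2 ⟨c₁ - c₂, -c₂, ?_⟩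
    simp only [ζ, Matrix.sub_mulVec, ← Matrix.mulVec_mulVec, h1, h2, Matrix.mulVec_smul, hηy₀]
    module
  have hζv' : ∀ y, ζ *ᵥ pt y v' = 0 := by
    intro y
    have h1 : a *ᵥ pt y v' = 0 := by rw [haline, con_pt, hφv, zero_smul]; funext p; simp [pt]
    obtain ⟨c, hc⟩ := hηline y
    simp [ζ, Matrix.sub_mulVec, ← Matrix.mulVec_mulVec, h1, hc, Matrix.mulVec_smul, hawA]
  have hline : ∀ x, ζ *ᵥ x ∈ line α v' := fun x => (Submodule.span_le.2 (by
    intro t ht
    rcases ht with rfl | rfl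
    · exact hwA
    · exact mem_line.2 ⟨y₀, rfl⟩) : Submodule.span F ({wA, pt y₀ v'} : Set (α × β → F)) ≤ line α v') (hspan x)
  have hζ0 : ζ ≠ 0 := by
    intro e
    set x := H *ᵥ pt c₀ χ₀
    have hηx : η *ᵥ x = u := by
      show (G * (con α φ₀ * H')) *ᵥ (H *ᵥ pt c₀ χ₀) = u
      rw [Matrix.mulVec_mulVec, show G * (con α φ₀ * H') * H = G * (con α φ₀ * (H' * H)) by simp only [Matrix.mul_assoc],
        hHH, Matrix.mul_one, ← Matrix.mulVec_mulVec, con_pt,
        show φ₀ ⬝ᵥ χ₀ = 1 by rw [dotProduct_comm]; exact hχ₀, one_smul, hc₀]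
    have h1 : ζ *ᵥ x = 0 := by rw [e, Matrix.zero_mulVec]
    obtain ⟨c₁, hc₁⟩ := hηa x
    obtain ⟨c₃, hc₃⟩ := hηa u
    simp only [ζ, Matrix.sub_mulVec, ← Matrix.mulVec_mulVec, hηx, hc₁, hc₃] at h1
    rw [haline, hφu] at h1
    have : pt y₀ v' ∈ img h v := by
      rw [show pt y₀ v' = (c₁ - c₃) • wA by
        linear_combination (norm := module) -h1]
      exact Submodule.smul_mem _ _ hwW
    exact hy₀ ((hP _).2 this)
  obtain ⟨j, hj⟩ : ∃ j : β, ζ * emb α (Pi.single j (1 : F)) ≠ 0 := by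
    by_contra! hc
    refine hζ0 ?_
    ext p ⟨k, l⟩
    have := congrFun (congrFun (hc l) p) k
    simpa [Matrix.mul_apply, emb, Fintype.sum_prod_type, Pi.single_apply] using this
  obtain ⟨φ₂, hφ₂0, hφ₂⟩ := exists_perp ![v', Pi.single j (1 : F)] (show 2 < Fintype.card β by omega)
  have hφ₂v : φ₂ ⬝ᵥ v' = 0 := hφ₂ 0
  have hφ₂j : φ₂ ⬝ᵥ Pi.single j 1 = 0 := hφ₂ 1
  obtain ⟨x₃, hx₃, ex₃⟩ := rt_scalar hbase hφ₂j 1
  rw [one_smul, Matrix.mul_one] at ex₃
  have hφ₂ζ : con α φ₂ * ζ = 0 := Matrix.toLin'.injective (LinearMap.ext fun x => by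
    rw [Matrix.toLin'_apply, ← Matrix.mulVec_mulVec, con_of_mem_line hφ₂v (hline x), map_zero, LinearMap.zero_apply])
  have hζζ : ζ * ζ = 0 := Matrix.toLin'.injective (LinearMap.ext fun x => by
    obtain ⟨y, hy⟩ := mem_line.1 (hline x)
    rw [Matrix.toLin'_apply, ← Matrix.mulVec_mulVec, ← hy, hζv', map_zero, LinearMap.zero_apply])
  obtain ⟨z', hz', ez'⟩ := comm_mem hz hx₃ ez ex₃ hζζ
    (by rw [Matrix.mul_assoc, ← Matrix.mul_assoc (con α φ₂), con_mul_emb, hφ₂j, zero_smul, Matrix.zero_mul,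
      Matrix.mul_zero])
    (by rw [Matrix.mul_assoc, hφ₂ζ, Matrix.mul_zero])
  refine rt_of_lam hbase h3β hz' (Λ := ζ * emb α (Pi.single j (1 : F))) (by rw [ez', Matrix.mul_assoc]) hφ₂0
    (by rw [← Matrix.mul_assoc, hφ₂ζ, Matrix.zero_mul]) fun w hw => ?_
  have hw0 : w ≠ 0 := fun hw0 => hj (by rw [hw, hw0]; ext p i; simp [emb])
  set x := pt p₀ (Pi.single j (1 : F))
  have hζx : ζ *ᵥ x = pt p₀ w := by
    simp only [x, ← emb_mulVec, Matrix.mulVec_mulVec, hw]
  have hne : pt p₀ w ≠ 0 := fun e => hp₀0 (pt_injective hw0 (e.trans (by funext q; simp [pt]) : pt p₀ w = pt 0 w))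
  -- the value lies in the image
  have hin : ζ *ᵥ x ∈ img h v := by
    rw [hζx]
    obtain ⟨y, hy⟩ := mem_line.1 (show pt p₀ w ∈ line α v' from hζx ▸ hline x)
    obtain ⟨q, hq⟩ := Function.ne_iff.1 hp₀0
    have hwv : w = (y q / p₀ q) • v' := funext fun l => by
      have := congrFun hy (q, l)
      simp only [pt] at this
      simp only [Pi.smul_apply, smul_eq_mul]
      rw [div_mul_eq_mul_div, eq_div_iff (by simpa using hq)]
      linear_combination -this
    rw [hwv, show pt p₀ ((y q / p₀ q) • v') = (y q / p₀ q) • pt p₀ v' from by funext l; simp [pt]; ring]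
    exact Submodule.smul_mem _ _ ((hP _).1 hp₀)
  have hax : η *ᵥ (a *ᵥ x) = 0 := hηW _ (by
    rw [haline, con_pt, show pt ((φ ⬝ᵥ Pi.single j (1 : F)) • p₀) v' = (φ ⬝ᵥ Pi.single j (1 : F)) • pt p₀ v' from by
      funext l; simp [pt]; ring]
    exact Submodule.smul_mem _ _ ((hP _).1 hp₀))
  obtain ⟨c, hc⟩ := hGimg x
  have hval : ζ *ᵥ x = -c • pt y₀ v' - c • wA := by
    simp only [ζ, Matrix.sub_mulVec, ← Matrix.mulVec_mulVec, hc, hax, Matrix.mulVec_smul, hηy₀]
    module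
  have hc0 : c = 0 := by
    by_contra hc0
    refine hy₀ ((hP _).2 ?_)
    have h1 := Submodule.smul_mem _ (-c)⁻¹ (add_mem hin (Submodule.smul_mem _ c hwW))
    rwa [hval, sub_add_cancel, inv_smul_smul₀ (neg_ne_zero.2 hc0)] at h1
  exact hne (by rw [← hζx, hval, hc0]; simp)

end CfsgLib.Geo.TensorLinear
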