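/-
Maximality of the stabiliser of a tensor decomposition in the special linear group.
-/
import Cfsg.Agent.Lib.Geo.TensorLinearMax

set_option autoImplicit false

namespace CfsgLib.Geo.TensorLinear

open Matrix Module
open scoped Kronecker

variable {α β : Type} [Fintype α] [DecidableEq α] [Fintype β] [DecidableEq β] {F : Type*} [Field F]

/-- A map preserving the subspaces `V₁ ⊗ v` is a Kronecker product. -/
theorem kronecker_of_lines (hα : 0 < Fintype.card α) (hβ : 0 < Fintype.card β) (g : GL (α × β) F)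
    (hl : ∀ v : β → F, v ≠ 0 → ∃ w, img g v = line α w) :
    ∃ (A : GL α F) (B : GL β F), (g : Matrix (α × β) (α × β) F) = (A : Matrix α α F) ⊗ₖ (B : Matrix β β F) := by
  classical
  obtain ⟨i₀⟩ : Nonempty α := Fintype.card_pos_iff.1 hα
  obtain ⟨j₀⟩ : Nonempty β := Fintype.card_pos_iff.1 hβ
  set G := (g : Matrix (α × β) (α × β) F)
  have hGinj : Function.Injective G.mulVecLin := Matrix.mulVec_injective_iff_isUnit.2 g.isUnit
  choose! w hw using hl
  set e : β → β → F := fun j => Pi.single j 1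
  have he : ∀ j, e j ≠ 0 := fun j => Function.ne_iff.2 ⟨j, by simp [e]⟩
  have hw0 : ∀ v : β → F, v ≠ 0 → w v ≠ 0 := by
    intro v hv h0
    have h1 := finrank_img g hv
    rw [hw v hv, h0, show line α (0 : β → F) = ⊥ from eq_bot_iff.2 fun x hx => by
      obtain ⟨y, rfl⟩ := mem_line.1 hx
      rw [Submodule.mem_bot]; funext p; simp [pt], finrank_bot] at h1
    omega
  choose χ hχ using fun j => exists_dual (hw0 (e j) (he j))
  set A : β → Matrix α α F := fun j => con α (χ j) * G * emb α (e j)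
  have hA : ∀ j y, G *ᵥ pt y (e j) = pt (A j *ᵥ y) (w (e j)) := by
    intro j y
    have h1 : G *ᵥ pt y (e j) ∈ line α (w (e j)) := by
      rw [← hw _ (he j)]
      exact ⟨pt y (e j), mem_line.2 ⟨y, rfl⟩, rfl⟩
    obtain ⟨z, hz⟩ := mem_line.1 h1
    rw [← hz]
    have h2 : A j *ᵥ y = z := by
      simp only [A, ← Matrix.mulVec_mulVec, emb_mulVec, ← hz, con_pt, hχ, one_smul]
    rw [h2]
  have hAinj : ∀ j y, A j *ᵥ y = 0 → y = 0 := fun j y hy => pt_injective (he j) (hGinj (by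
    simp only [Matrix.mulVecLin_apply]
    rw [hA, hy, hA, Matrix.mulVec_zero]))
  have hprop : ∀ k, ∃ c : F, A k = c • A j₀ := by
    intro k
    by_cases hk : k = j₀
    · exact ⟨1, by rw [hk, one_smul]⟩
    have hindep : ∀ a b : β, a ≠ b → w (e a) ∉ Submodule.span F {w (e b)} := by
      intro a b hab hm
      obtain ⟨c, hc⟩ := Submodule.mem_span_singleton.1 hm
      set y : α → F := Pi.single i₀ 1
      have hy : y ≠ 0 := Function.ne_iff.2 ⟨i₀, by simp [y]⟩
      have h1 : G *ᵥ pt y (e a) ∈ line α (w (e b)) := by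
        rw [hA, ← hc]
        exact mem_line.2 ⟨c • (A a *ᵥ y), by funext p; simp [pt]; ring⟩
      rw [← hw _ (he b)] at h1
      obtain ⟨x, hx, ex⟩ := h1
      rw [Matrix.mulVecLin_apply] at ex
      rw [hGinj ex] at hx
      obtain ⟨z, hz⟩ := mem_line.1 hx
      have h2 := congrFun hz (i₀, a)
      simp [pt, e, y, hab] at h2
    set v := e j₀ + e k
    have hv : v ≠ 0 := Function.ne_iff.2 ⟨k, by simp [v, e, hk]⟩
    obtain ⟨φ, hφ0, hφ1⟩ := CfsgLib.Geo.exists_functional (w (e k)) (w (e j₀)) (hindep _ _ (Ne.symm hk))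
    obtain ⟨φ', hφ'0, hφ'1⟩ := CfsgLib.Geo.exists_functional (w (e j₀)) (w (e k)) (hindep _ _ hk)
    have hkey : ∀ y, (φ ⬝ᵥ w v) • (A k *ᵥ y) = (φ' ⬝ᵥ w v) • (A j₀ *ᵥ y) := by
      intro y
      have h1 : G *ᵥ pt y v ∈ line α (w v) := by rw [← hw v hv]; exact ⟨pt y v, mem_line.2 ⟨y, rfl⟩, rfl⟩
      obtain ⟨z, hz⟩ := mem_line.1 h1
      have h2 : G *ᵥ pt y v = pt (A j₀ *ᵥ y) (w (e j₀)) + pt (A k *ᵥ y) (w (e k)) := by
        rw [← hA, ← hA, ← Matrix.mulVec_add]
        congr 1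
        funext p; simp [pt, v]; ring
      rw [← hz] at h2
      have h3 := congrArg (con α φ *ᵥ ·) h2
      have h4 := congrArg (con α φ' *ᵥ ·) h2
      simp only [Matrix.mulVec_add, con_pt, hφ0, hφ1, hφ'0, hφ'1, one_smul, zero_smul, add_zero, zero_add] at h3 h4
      rw [← h3, ← h4, smul_comm]
    have hφw : φ ⬝ᵥ w v ≠ 0 := by
      intro h0
      set y : α → F := Pi.single i₀ 1
      have hy : y ≠ 0 := Function.ne_iff.2 ⟨i₀, by simp [y]⟩
      have h1 : G *ᵥ pt y v ∈ line α (w v) := by rw [← hw v hv]; exact ⟨pt y v, mem_line.2 ⟨y, rfl⟩, rfl⟩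
      obtain ⟨z, hz⟩ := mem_line.1 h1
      have h2 : G *ᵥ pt y v = pt (A j₀ *ᵥ y) (w (e j₀)) + pt (A k *ᵥ y) (w (e k)) := by
        rw [← hA, ← hA, ← Matrix.mulVec_add]
        congr 1
        funext p; simp [pt, v]; ring
      rw [← hz] at h2
      have h3 := congrArg (con α φ *ᵥ ·) h2
      simp only [Matrix.mulVec_add, con_pt, hφ0, hφ1, h0, one_smul, zero_smul, add_zero] at h3
      exact hy (hAinj j₀ y h3.symm)
    refine ⟨(φ ⬝ᵥ w v)⁻¹ * (φ' ⬝ᵥ w v), Matrix.toLin'.injective (LinearMap.ext fun y => ?_)⟩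
    rw [Matrix.toLin'_apply, Matrix.toLin'_apply, Matrix.smul_mulVec, mul_smul, ← hkey, inv_smul_smul₀ hφw]
  choose c hc using hprop
  set B : Matrix β β F := fun l k => c k * w (e k) l
  have hG : G = A j₀ ⊗ₖ B := by
    ext ⟨i, l⟩ ⟨p, k⟩
    have h := congrFun (hA k (Pi.single p 1)) (i, l)
    rw [show pt (Pi.single p (1 : F)) (e k) = Pi.single (p, k) 1 from by
      funext x
      obtain ⟨x₁, x₂⟩ := x
      simp only [pt, e, Pi.single_apply, Prod.mk.injEq]
      by_cases h1 : x₁ = p <;> by_cases h2 : x₂ = k <;> simp [h1, h2],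
      Matrix.mulVec_single_one, hc k, Matrix.smul_mulVec, Matrix.mulVec_single_one] at h
    simp only [Matrix.col_apply, pt, Pi.smul_apply, smul_eq_mul] at h
    rw [h, Matrix.kroneckerMap_apply]
    simp only [B]
    ring
  have hdet := g.isUnit.map (Matrix.detMonoidHom (n := α × β) (R := F))
  have hd : (A j₀).det ^ Fintype.card β * B.det ^ Fintype.card α ≠ 0 := by
    rw [← Matrix.det_kronecker, ← hG]
    exact hdet.ne_zero
  exact ⟨Matrix.GeneralLinearGroup.mkOfDetNeZero (A j₀) ((pow_ne_zero_iff hβ.ne').1 (left_ne_zero_of_mul hd)),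
    Matrix.GeneralLinearGroup.mkOfDetNeZero B ((pow_ne_zero_iff hα.ne').1 (right_ne_zero_of_mul hd)), hG⟩

variable {X : Subgroup (GL (α × β) F)}

/-- An overgroup outside the tensor stabiliser contains the special linear group. -/
theorem specialLinear_le_of_not_kronecker (hα : 2 ≤ Fintype.card α) (hαβ : Fintype.card α < Fintype.card β)
    (hbig : 3 ≤ Fintype.card α ∨ ∃ c : F, c ≠ 0 ∧ c ≠ 1)
    (hbase : ∀ (a : Matrix α α F) (b : Matrix β β F), a.det = 1 → b.det = 1 →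
      ∃ x ∈ X, ((x : GL (α × β) F) : Matrix (α × β) (α × β) F) = a ⊗ₖ b)
    {g : GL (α × β) F} (hg : g ∈ X)
    (hnk : ¬ ∃ (A : GL α F) (B : GL β F),
      (g : Matrix (α × β) (α × β) F) = (A : Matrix α α F) ⊗ₖ (B : Matrix β β F)) :
    Cfsg.Geo.specialLinear (α × β) F ≤ X := by
  classical
  have h3β : 3 ≤ Fintype.card β := by omega
  obtain ⟨v, hv, hns⟩ : ∃ v : β → F, v ≠ 0 ∧ ∀ w, img g v ≠ line α w := by
    by_contra! hc
    exact hnk (kronecker_of_lines (by omega) (by omega) g hc)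
  let S : Set ℕ := {j | ∃ k u u', Trip X k u u' ∧ finrank F (img k u ⊓ line α u' : Submodule F _) = j}
  have hbd : ∀ j ∈ S, j ≤ Fintype.card α := by
    rintro j ⟨k, u, u', ht, rfl⟩
    exact (Submodule.finrank_mono inf_le_left).trans_eq (finrank_img k ht.2.1)
  have hne : S.Nonempty := ⟨_, g, v, v, ⟨hg, hv, hv, hns⟩, rfl⟩
  obtain ⟨h, u, u', ht, hmax⟩ := Nat.sSup_mem hne ⟨_, hbd⟩
  have hmax' : ∀ k x x', Trip X k x x' → finrank F (img k x ⊓ line α x' : Submodule F _) ≤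
      finrank F (img h u ⊓ line α u' : Submodule F _) := fun k x x' hk => by
    rw [hmax]
    exact le_csSup ⟨_, hbd⟩ ⟨k, x, x', hk, rfl⟩
  obtain ⟨v₁, χ, θ, hR, h1, h2, h3, h4⟩ : Good X := by
    rcases good_or_injective hbase h3β hαβ ht hmax' with hG | hinj
    · exact hG
    exact good_of_injective hbase hα hαβ ht hmax' hinj
  exact specialLinear_le_of_rt hbase hα h3β hbig hR h1 h2 h3 h4

theorem maximal [Fintype F] {n n₁ n₂ : ℕ} (h1 : 2 ≤ n₁) (h12 : n₁ < n₂)
    (hex : ¬ (n₁ = 2 ∧ Fintype.card F = 2)) (e : Fin n ≃ Fin n₁ × Fin n₂) (P : Matrix.GeneralLinearGroup (Fin n) F) :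
    Cfsg.Geo.IsMaximalIn (Cfsg.Geo.specialLinear (Fin n) F)
      (Cfsg.Geo.tensorProductSubgroup n₁ n₂ e P ⊓ Cfsg.Geo.specialLinear (Fin n) F) := by
  classical
  have hcard : n = n₁ * n₂ := by simpa using Fintype.card_congr e
  let Ψ : GL (Fin n₁ × Fin n₂) F ≃* GL (Fin n) F := (Cfsg.Geo.glReindex e.symm).trans (MulAut.conj P)
  have hK : Cfsg.Geo.tensorProductSubgroup n₁ n₂ e P = (Cfsg.Geo.kroneckerSubgroup n₁ n₂ F).map Ψ.toMonoidHom := by
    rw [Cfsg.Geo.tensorProductSubgroup, Subgroup.map_map]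
    rfl
  have hdet : ∀ x : GL (Fin n₁ × Fin n₂) F,
      Ψ x ∈ Cfsg.Geo.specialLinear (Fin n) F ↔ x ∈ Cfsg.Geo.specialLinear (Fin n₁ × Fin n₂) F := by
    intro x
    have hr : Matrix.GeneralLinearGroup.det (Cfsg.Geo.glReindex e.symm x) = Matrix.GeneralLinearGroup.det x := by
      refine Units.ext ?_
      show ((Matrix.reindexAlgEquiv F F e.symm) (x : Matrix (Fin n₁ × Fin n₂) (Fin n₁ × Fin n₂) F)).det = _
      rw [Matrix.det_reindexAlgEquiv]
      rfl
    show MulAut.conj P (Cfsg.Geo.glReindex e.symm x) ∈ _ ↔ _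
    rw [Cfsg.Geo.specialLinear, Cfsg.Geo.specialLinear, MonoidHom.mem_ker, MonoidHom.mem_ker, MulAut.conj_apply,
      map_mul, map_mul, hr, map_inv, mul_inv_cancel_comm]
  have hmemK : ∀ x, Ψ x ∈ Cfsg.Geo.tensorProductSubgroup n₁ n₂ e P ↔ x ∈ Cfsg.Geo.kroneckerSubgroup n₁ n₂ F := by
    intro x
    rw [hK]
    constructor
    · rintro ⟨y, hy, e'⟩
      rwa [← Ψ.injective e']
    · exact fun hx => ⟨x, hx, rfl⟩
  have hbig : 3 ≤ n₁ ∨ ∃ c : F, c ≠ 0 ∧ c ≠ 1 := by
    by_cases h3 : 3 ≤ n₁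
    · exact Or.inl h3
    refine Or.inr ?_
    obtain ⟨c, -, hc⟩ := Finset.exists_mem_notMem_of_card_lt_card (s := ({0, 1} : Finset F)) (t := Finset.univ) (by
      rw [Finset.card_univ]
      refine lt_of_le_of_lt Finset.card_le_two ?_
      have := Fintype.one_lt_card (α := F)
      have : Fintype.card F ≠ 2 := fun e' => hex ⟨by omega, e'⟩
      omega)
    simp only [Finset.mem_insert, Finset.mem_singleton, not_or] at hc
    exact ⟨c, hc⟩
  refine ⟨lt_of_le_of_ne inf_le_right fun heq => ?_, fun M hHM hMK => ?_⟩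
  · -- a root transvection joining both factors
    let p : Fin n₁ × Fin n₂ := (⟨0, by omega⟩, ⟨0, by omega⟩)
    let q : Fin n₁ × Fin n₂ := (⟨1, by omega⟩, ⟨1, by omega⟩)
    have hd : (Pi.single q 1 : Fin n₁ × Fin n₂ → F) ⬝ᵥ Pi.single p 1 = 0 := by simp [p, q, Prod.ext_iff, Fin.ext_iff]
    have hx : Ψ (transvectionGL (Pi.single q 1) (Pi.single p 1) hd) ∈ Cfsg.Geo.specialLinear (Fin n) F :=
      (hdet _).2 (transvectionGL_mem_specialLinear _ _ _)
    rw [← heq] at hx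
    obtain ⟨a, b, hab⟩ := (hmemK _).1 hx.1
    have hval : ∀ x y, ((transvectionGL (Pi.single q 1) (Pi.single p 1) hd : GL (Fin n₁ × Fin n₂) F) :
        Matrix (Fin n₁ × Fin n₂) (Fin n₁ × Fin n₂) F) x y =
        (1 : Matrix (Fin n₁ × Fin n₂) (Fin n₁ × Fin n₂) F) x y + (Pi.single p 1 : Fin n₁ × Fin n₂ → F) x *
          (Pi.single q 1 : Fin n₁ × Fin n₂ → F) y := fun x y => rfl
    have h1' := congrFun (congrFun hab p) q
    have h2' := congrFun (congrFun hab p) p
    have h3' := congrFun (congrFun hab p) (q.1, p.2)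
    rw [hval, Matrix.kroneckerMap_apply] at h1' h2' h3'
    simp [p, q, Fin.ext_iff, Prod.ext_iff] at h1' h2' h3'
    rcases h3' with h | h
    · rw [h, zero_mul] at h1'; exact one_ne_zero (α := F) h1'
    · rw [h, mul_zero] at h2'; exact one_ne_zero (α := F) h2'
  by_cases hM : M ≤ Cfsg.Geo.tensorProductSubgroup n₁ n₂ e P
  · exact Or.inl (le_antisymm (le_inf hM hMK) hHM)
  right
  obtain ⟨g, hg, hgT⟩ := SetLike.not_le_iff_exists.1 hM
  refine le_antisymm hMK fun x hx => ?_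
  have hle := specialLinear_le_of_not_kronecker (X := M.comap Ψ.toMonoidHom)
    (by rw [Fintype.card_fin]; exact h1) (by rw [Fintype.card_fin, Fintype.card_fin]; exact h12)
    (by rwa [Fintype.card_fin])
    (fun a b ha hb => by
      let y : GL (Fin n₁ × Fin n₂) F := Matrix.GeneralLinearGroup.mkOfDetNeZero (a ⊗ₖ b) (by
        rw [Matrix.det_kronecker, ha, hb, one_pow, one_pow, mul_one]; exact one_ne_zero)
      refine ⟨y, Subgroup.mem_comap.2 (hHM ⟨(hmemK y).2 ⟨Matrix.GeneralLinearGroup.mkOfDetNeZero a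
        (by rw [ha]; exact one_ne_zero), Matrix.GeneralLinearGroup.mkOfDetNeZero b (by rw [hb]; exact one_ne_zero), rfl⟩,
        (hdet y).2 (MonoidHom.mem_ker.2 (Units.ext ?_))⟩), rfl⟩
      show (a ⊗ₖ b).det = 1
      rw [Matrix.det_kronecker, ha, hb, one_pow, one_pow, mul_one])
    (g := Ψ.symm g) (by rw [Subgroup.mem_comap, MulEquiv.coe_toMonoidHom, MulEquiv.apply_symm_apply]; exact hg)
    (fun hk => hgT (by
      have := (hmemK (Ψ.symm g)).2 hk
      rwa [MulEquiv.apply_symm_apply] at this))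
  have := hle ((hdet (Ψ.symm x)).1 (by rwa [MulEquiv.apply_symm_apply]))
  rwa [Subgroup.mem_comap, MulEquiv.coe_toMonoidHom, MulEquiv.apply_symm_apply] at this

end CfsgLib.Geo.TensorLinear
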