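/-
Orthogonal subfield subgroups are maximal in SU.
-/
import Cfsg.Agent.Lib.Geo.UnitarySympSubfield
import Cfsg.Agent.Lib.Geo.QuadSimilitude
import Cfsg.Agent.Lib.Known.QuadClassify

set_option autoImplicit false

namespace CfsgLib.Geo.UnitOrthSub

open Matrix CfsgLib.Classical CfsgLib.Classical.Herm CfsgLib.Geo.UnitMax CfsgLib.Geo.UnitSympSub
open CfsgLib.Geo.QuadSim
open QuadraticMap (polar polarBilin)
open CfsgLib.Geo.OrthMax (perp mem_perp finrank_perp)

variable {n : ℕ} {F : Type*} [Field F] {σ : F →+* F}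

/-- The form restricted to the rational vectors is the polar form of `Q`. -/
structure Setup (B : (Fin n → F) →ₛₗ[σ] (Fin n → F) →ₗ[F] F) (F₀ : Subfield F)
    (P : Matrix.GeneralLinearGroup (Fin n) F) (Q : QuadraticForm F₀ (Fin n → F₀)) (θ : F) : Prop where
  herm : IsHerm B
  val : ∀ x y, B (rat F₀ P x) (rat F₀ P y) = ((polar ⇑Q x y : F₀) : F)
  nondeg : (polarBilin Q).Nondegenerate
  fix : ∀ c, c ∈ F₀ ↔ σ c = c
  out : θ ∉ F₀
  split : ∀ v, ∃ a b, v = rat F₀ P a + θ • rat F₀ P b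
  dim : 6 ≤ n
  odd : (2 : F) ≠ 0

variable {B : (Fin n → F) →ₛₗ[σ] (Fin n → F) →ₗ[F] F} {F₀ : Subfield F}
  {P : Matrix.GeneralLinearGroup (Fin n) F} {Q : QuadraticForm F₀ (Fin n → F₀)} {θ : F}

variable (s : Setup B F₀ P Q θ)
include s

theorem Setup.val_self {w : Fin n → F₀} (hw : Q w = 0) : B (rat F₀ P w) (rat F₀ P w) = 0 := by
  rw [s.val, QuadraticMap.polar_self, hw, smul_zero, ZeroMemClass.coe_zero]

theorem Setup.val_zero {w x : Fin n → F₀} (h : polar ⇑Q w x = 0) : B (rat F₀ P w) (rat F₀ P x) = 0 := by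
  rw [s.val, h, ZeroMemClass.coe_zero]

theorem Setup.val_one {w x : Fin n → F₀} (h : polar ⇑Q w x = 1) : B (rat F₀ P w) (rat F₀ P x) = 1 := by
  rw [s.val, h, OneMemClass.coe_one]

theorem Setup.fix_coe (c : F₀) : σ (c : F) = c := (s.fix _).1 c.2

theorem Setup.trace_rat (x : Fin n → F₀) :
    -((Q x : F₀) : F) + σ (-((Q x : F₀) : F)) = -B (rat F₀ P x) (rat F₀ P x) := by
  rw [map_neg, s.fix_coe, s.val, QuadraticMap.polar_self, two_smul, Subfield.coe_add]
  ring

theorem Setup.split_zero {x y : F₀} (h : (x : F) + θ * y = 0) : x = 0 ∧ y = 0 := by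
  by_cases hy : y = 0
  · rw [hy, ZeroMemClass.coe_zero, mul_zero, add_zero] at h
    exact ⟨Subtype.ext h, hy⟩
  · refine absurd ?_ s.out
    have hy' : (y : F) ≠ 0 := fun h0 => hy (Subtype.ext h0)
    rw [show θ = -(x : F) / y by field_simp; linear_combination h]
    exact div_mem (neg_mem x.2) y.2

theorem Setup.right_split (z a b : Fin n → F₀) :
    B (rat F₀ P z) (rat F₀ P a + θ • rat F₀ P b) = ((polar ⇑Q z a : F₀) : F) + θ * ((polar ⇑Q z b : F₀) : F) := by
  rw [map_add, map_smul, s.val, s.val, smul_eq_mul]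

theorem Setup.right_eq_zero {z a b : Fin n → F₀} :
    B (rat F₀ P z) (rat F₀ P a + θ • rat F₀ P b) = 0 ↔ polar ⇑Q z a = 0 ∧ polar ⇑Q z b = 0 := by
  rw [s.right_split]
  exact ⟨s.split_zero, fun ⟨h1, h2⟩ => by rw [h1, h2]; simp⟩

theorem Setup.rat_ne_zero {w : Fin n → F₀} (hw : w ≠ 0) : rat F₀ P w ≠ 0 := fun h =>
  hw (rat_injective (P := P) (by rw [h, rat_zero]))

variable [Finite F]

/-! ### The group -/

/-- The rational Eichler elements lie in the subgroup. -/
def HasEich (K : Subgroup (HU B)) : Prop :=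
  ∀ w x (hu : B (rat F₀ P w) (rat F₀ P w) = 0) (hux : B (rat F₀ P w) (rat F₀ P x) = 0) {a : F}
    (ha : a + σ a = -B (rat F₀ P x) (rat F₀ P x)), a = -((Q x : F₀) : F) → s.herm.eich hu hux ha ∈ K

variable {K : Subgroup (HU B)}

theorem exists_lift (hK : HasEich s K) {t : Quad.OQ Q} (ht : t ∈ Quad.eichGroup s.nondeg) :
    ∃ k ∈ K, ∀ z, (k : (Fin n → F) ≃ₗ[F] (Fin n → F)) (rat F₀ P z) =
      rat F₀ P ((t : (Fin n → F₀) ≃ₗ[F₀] (Fin n → F₀)) z) := by
  induction ht using Subgroup.closure_induction with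
  | mem y hy =>
    obtain ⟨w, a, hw, ha, hqa, rfl⟩ := hy
    have hna : B (rat F₀ P w) (rat F₀ P (-a)) = 0 := s.val_zero (by rw [QuadraticMap.polar_neg_right, ha, neg_zero])
    refine ⟨_, hK w (-a) (s.val_self hw) hna (a := -((Q (-a) : F₀) : F)) (s.trace_rat _) rfl, fun z => ?_⟩
    rw [IsHerm.eich_apply, Quad.eich_apply, hqa, QuadraticMap.map_neg, hqa, s.val, s.val,
      QuadraticMap.polar_neg_left, QuadraticMap.polar_comm (⇑Q) w z, QuadraticMap.polar_comm (⇑Q) a z,
      rat_add, rat_add, rat_smul, rat_smul,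
      show rat F₀ P (-a) = (-1 : F) • rat F₀ P a from by
        rw [show (-a) = (-1 : F₀) • a from (neg_one_smul _ _).symm, rat_smul]
        simp]
    simp only [zero_mul, sub_zero, ZeroMemClass.coe_zero, neg_zero, zero_sub, NegMemClass.coe_neg]
    module
  | one => exact ⟨1, one_mem _, fun x => rfl⟩
  | mul y z _ _ hy hz =>
    obtain ⟨k, hk, ek⟩ := hy
    obtain ⟨k', hk', ek'⟩ := hz
    exact ⟨k * k', mul_mem hk hk', fun x => by simp [ek, ek']⟩
  | inv y _ hy =>
    obtain ⟨k, hk, ek⟩ := hy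
    refine ⟨k⁻¹, inv_mem hk, fun x => (k : (Fin n → F) ≃ₗ[F] (Fin n → F)).injective ?_⟩
    simp [ek]

theorem exists_common {x y : Fin n → F₀} (hx : x ≠ 0) (hy : y ≠ 0) :
    ∃ z, Q z = 0 ∧ polar ⇑Q x z ≠ 0 ∧ polar ⇑Q y z ≠ 0 := by
  obtain ⟨p, h1, h2⟩ : ∃ p, polar ⇑Q x p ≠ 0 ∧ polar ⇑Q y p ≠ 0 := by
    obtain ⟨a, ha⟩ : ∃ a, polar ⇑Q x a ≠ 0 := by
      by_contra! hc
      exact hx (s.nondeg.1 x hc)
    obtain ⟨b, hb⟩ : ∃ b, polar ⇑Q y b ≠ 0 := by
      by_contra! hc
      exact hy (s.nondeg.1 y hc)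
    by_cases h₁ : polar ⇑Q y a = 0
    · by_cases h₂ : polar ⇑Q x b = 0
      · exact ⟨a + b, by rw [QuadraticMap.polar_add_right, h₂, add_zero]; exact ha,
          by rw [QuadraticMap.polar_add_right, h₁, zero_add]; exact hb⟩
      · exact ⟨b, h₂, hb⟩
    · exact ⟨a, ha, h₁⟩
  have := s.dim
  obtain ⟨z, hz, hqz, hval⟩ := exists_singular_like s.nondeg (L := cut ⊤ Q (polar ⇑Q y p • x - polar ⇑Q x p • y))
    (p := p) (d := x) (mem_cut.2 ⟨trivial, by
      rw [QuadraticMap.polar_sub_left, Quad.polar_smul_left', Quad.polar_smul_left']; ring⟩) (by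
      have := finrank_cut (Q := Q) (⊤ : Submodule F₀ (Fin n → F₀)) (polar ⇑Q y p • x - polar ⇑Q x p • y)
      rw [finrank_top, Module.finrank_fin_fun] at this
      rw [Fintype.card_fin]
      omega)
  refine ⟨z, hqz, hval ▸ h1, fun h0 => h1 ?_⟩
  have := (mem_cut.1 hz).2
  rw [QuadraticMap.polar_sub_left, Quad.polar_smul_left', Quad.polar_smul_left', h0, mul_zero, sub_zero,
    hval] at this
  exact absurd this (mul_ne_zero h2 h1)

/-- All transvections at one rational centre give all transvections. -/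
theorem hasTr_all (hK : HasEich s K) {e : Fin n → F₀} (he : Q e = 0) (he0 : e ≠ 0)
    (htr : HasTr s.herm K (rat F₀ P e)) : ∀ v, HasTr s.herm K v := by
  have hn := s.dim
  have h := s.herm
  have hrat : ∀ w, Q w = 0 → w ≠ 0 → HasTr h K (rat F₀ P w) := fun w hw hw0 => by
    obtain ⟨t, ht, hte⟩ := Quad.exists_move_singular s.nondeg (by rw [Module.finrank_fin_fun]; omega) he he0 hw hw0
    obtain ⟨k, hk, hke⟩ := exists_lift s hK ht
    have := htr.conj h hk
    rwa [hke, hte] at this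
  intro u huu
  by_cases hu0 : u = 0
  · subst hu0
    intro c hc
    rw [show h.tr huu hc = 1 from by ext y; simp [IsHerm.tr_apply]]
    exact one_mem _
  obtain ⟨a, b, hab⟩ := s.split u
  obtain ⟨w, hw, hwu⟩ : ∃ w, Q w = 0 ∧ B (rat F₀ P w) u ≠ 0 := by
    by_contra! hc
    have hz : ∀ z, polar ⇑Q z a = 0 ∧ polar ⇑Q z b = 0 := by
      have hle : (⊤ : Submodule F₀ (Fin n → F₀)) ≤
          LinearMap.ker ((polarBilin Q).flip a) ⊓ LinearMap.ker ((polarBilin Q).flip b) :=
        QuadSim.le_of_singular s.nondeg (by rw [finrank_top, Module.finrank_fin_fun, Fintype.card_fin]; omega)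
          fun x _ hx => by
            have := hc x hx
            rw [hab, s.right_eq_zero] at this
            exact this
      exact fun z => hle (Submodule.mem_top (x := z))
    refine hu0 ?_
    rw [hab, s.nondeg.2 a fun z => (hz z).1, s.nondeg.2 b fun z => (hz z).2, rat_zero, smul_zero, add_zero]
  have hw0 : w ≠ 0 := fun h0 => hwu (by rw [h0, rat_zero, zero_left])
  obtain ⟨f, hqf, hwf, -⟩ := exists_common s hw0 hw0
  set f₁ := (polar ⇑Q w f)⁻¹ • f with hf₁
  have hwf₁ : polar ⇑Q w f₁ = 1 := by rw [hf₁, Quad.polar_smul_right', inv_mul_cancel₀ hwf]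
  have hqf₁ : Q f₁ = 0 := by rw [hf₁, Quad.apply_smul, hqf, mul_zero]
  set W := rat F₀ P w with hWdef
  set Fv := rat F₀ P f₁ with hFdef
  have hWW : B W W = 0 := s.val_self hw
  have hFF : B Fv Fv = 0 := s.val_self hqf₁
  have hWF : B W Fv = 1 := s.val_one hwf₁
  have hFW : B Fv W = 1 := s.val_one (by rw [QuadraticMap.polar_comm, hwf₁])
  -- the stabiliser of the rational centre
  have hEich : ∀ (x : Fin n → F) (hx : B W x = 0) (c : F) (hc : c + σ c = -B x x),
      h.eich hWW hx hc ∈ K := by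
    let S : AddSubgroup (Fin n → F) :=
      { carrier := {x | ∃ (hx : B W x = 0) (c : F) (hc : c + σ c = -B x x), h.eich hWW hx hc ∈ K}
        zero_mem' := ⟨map_zero _, 0, by simp, by
          rw [show h.eich hWW (map_zero (B W)) (show (0 : F) + σ 0 = -B 0 0 by simp) = 1 from by
            ext y; simp [IsHerm.eich_apply]]
          exact one_mem _⟩
        add_mem' := by
          rintro x y ⟨hx, c, hc, hm⟩ ⟨hy, d, hd, hm'⟩
          have hxy : B W (x + y) = 0 := by rw [map_add, hx, hy, add_zero]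
          have hcd : (c + d - B x y) + σ (c + d - B x y) = -B (x + y) (x + y) := by
            simp only [map_add, map_sub, LinearMap.add_apply, h.symm]
            linear_combination hc + hd
          refine ⟨hxy, _, hcd, ?_⟩
          convert K.mul_mem hm hm' using 1
          refine Subtype.ext (LinearEquiv.ext fun z => ?_)
          simp only [Subgroup.coe_mul, LinearEquiv.mul_apply, IsHerm.eich_apply, map_add, map_sub, map_smul,
            LinearMap.add_apply, smul_eq_mul, hWW, hx, hy, h.eq_zero_symm hx, h.eq_zero_symm hy]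
          match_scalars <;> ring
        neg_mem' := by
          rintro x ⟨hx, c, hc, hm⟩
          have hnx : B W (-x) = 0 := by rw [map_neg, hx, neg_zero]
          have hd : (-c - B x x) + σ (-c - B x x) = -B (-x) (-x) := by
            simp only [map_sub, map_neg, h.self_fixed, LinearMap.neg_apply, neg_neg]
            linear_combination -hc
          refine ⟨hnx, _, hd, ?_⟩
          convert K.inv_mem hm using 1
          refine eq_inv_of_mul_eq_one_left ?_
          refine Subtype.ext (LinearEquiv.ext fun z => ?_)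
          simp only [Subgroup.coe_mul, LinearEquiv.mul_apply, IsHerm.eich_apply, map_add, map_smul, map_neg,
            LinearMap.neg_apply, LinearMap.add_apply, smul_eq_mul, hWW, hx, h.eq_zero_symm hx, Subgroup.coe_one,
            LinearEquiv.coe_one, id]
          match_scalars <;> ring }
    have hratS : ∀ x, polar ⇑Q w x = 0 → rat F₀ P x ∈ S := fun x hx =>
      ⟨s.val_zero hx, _, s.trace_rat x, hK w x hWW (s.val_zero hx) (s.trace_rat x) rfl⟩
    have hmove : ∀ x ∈ S, ∀ p, Q p = 0 → p ≠ 0 → polar ⇑Q w p = 0 → ∀ γ : F, γ + σ γ = 0 →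
        (γ * B (rat F₀ P p) x) • rat F₀ P p ∈ S := by
      intro x hxS p hp hp0 hwp γ hγ
      obtain ⟨hx, c, hc, hm⟩ := id hxS
      have hpW : B (rat F₀ P p) W = 0 := s.val_zero (by rw [QuadraticMap.polar_comm, hwp])
      set T := h.tr (s.val_self hp) hγ with hT
      have hTx : (T : (Fin n → F) ≃ₗ[F] (Fin n → F)) x = x + (γ * B (rat F₀ P p) x) • rat F₀ P p := by
        rw [hT, IsHerm.tr_apply]
      have hTW : (T : (Fin n → F) ≃ₗ[F] (Fin n → F)) W = W := by
        rw [hT, IsHerm.tr_apply, hpW, mul_zero, zero_smul, add_zero]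
      have hxT : B W ((T : (Fin n → F) ≃ₗ[F] (Fin n → F)) x) = 0 := by
        conv_lhs => rw [← hTW]
        rw [HU.map_eq, hx]
      have hcT : c + σ c = -B ((T : (Fin n → F) ≃ₗ[F] (Fin n → F)) x) ((T : (Fin n → F) ≃ₗ[F] (Fin n → F)) x) := by
        rw [HU.map_eq, hc]
      have hTK : T ∈ K := hrat p hp hp0 _ _ hγ
      have hmem : (T : (Fin n → F) ≃ₗ[F] (Fin n → F)) x ∈ S := by
        refine ⟨hxT, c, hcT, ?_⟩
        convert K.mul_mem (K.mul_mem hTK hm) (K.inv_mem hTK) using 1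
        rw [eq_mul_inv_iff_mul_eq]
        refine Subtype.ext (LinearEquiv.ext fun z => ?_)
        simp only [Subgroup.coe_mul, LinearEquiv.mul_apply, IsHerm.eich_apply]
        conv_lhs => rw [← hTW]
        rw [HU.map_eq, HU.map_eq]
        simp only [map_add, map_smul, hTW]
      have := S.sub_mem hmem hxS
      rwa [hTx, add_sub_cancel_left] at this
    obtain ⟨γ, hγ0, hγ⟩ := h.exists_skew
    have hγp : ∀ p, Q p = 0 → polar ⇑Q w p = 0 → ∀ c : F₀, (γ * c) • rat F₀ P p ∈ S := by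
      intro p hp hwp c
      by_cases hp0 : p = 0
      · rw [hp0, rat_zero, smul_zero]; exact S.zero_mem
      by_cases hm : p ∈ Submodule.span F₀ {w}
      · obtain ⟨k, rfl⟩ := Submodule.mem_span_singleton.1 hm
        set μ := γ * c * k with hμ
        have hμs : (μ - σ μ) + σ (μ - σ μ) = 0 := by
          rw [map_sub, h.invol.invol]
          ring
        rw [rat_smul, smul_smul, ← hμ]
        refine ⟨by rw [map_smul, hWW, smul_zero], 0, by rw [IsHerm.smul_self, hWW]; simp, ?_⟩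
        convert hrat w hw hw0 hWW _ hμs using 1
        refine Subtype.ext (LinearEquiv.ext fun z => ?_)
        rw [IsHerm.eich_apply, IsHerm.tr_apply, smul_left]
        module
      obtain ⟨r, hpr, hr⟩ := Quad.exists_sep_polar s.nondeg hm
      have hwr : polar ⇑Q w r = 0 := hr w (Submodule.mem_span_singleton_self w)
      have := hmove _ (hratS (c • r) (by rw [Quad.polar_smul_right', hwr, mul_zero])) p hp hp0 hwp γ hγ
      rwa [rat_smul, map_smul, s.val_one hpr, smul_eq_mul, mul_one] at this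
    intro x hx c hc
    obtain ⟨a', b', hx'⟩ := s.split x
    have hz := (s.right_eq_zero (z := w)).1 (hx' ▸ hx)
    let T : Submodule F₀ (Fin n → F₀) :=
      { carrier := {b | ∀ c : F₀, (γ * c) • rat F₀ P b ∈ S}
        add_mem' := fun {p q} hp hq c => by rw [rat_add, smul_add]; exact S.add_mem (hp c) (hq c)
        zero_mem' := fun c => by rw [rat_zero, smul_zero]; exact S.zero_mem
        smul_mem' := fun k p hp c => by
          rw [rat_smul, smul_smul, mul_assoc, ← Subfield.coe_mul]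
          exact hp _ }
    have h20 : (2 : F₀) ≠ 0 := fun h0 => s.odd (by
      rw [← map_ofNat F₀.subtype 2, h0, map_zero])
    have hT : cut ⊤ Q w ≤ T := QuadSim.le_of_singular_odd s.nondeg h20 (by
      have := finrank_cut (Q := Q) (⊤ : Submodule F₀ (Fin n → F₀)) w
      rw [finrank_top, Module.finrank_fin_fun] at this
      rw [Fintype.card_fin]
      omega) fun p hp hqp => hγp p hqp hp.2
    have hθ : θ • rat F₀ P b' ∈ S := by
      have := s.odd
      have hd : (θ + σ θ) / 2 ∈ F₀ := by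
        rw [s.fix, map_div₀, map_add, h.invol.invol, map_ofNat, add_comm]
      have he : (θ - σ θ) / 2 / γ ∈ F₀ := by
        rw [s.fix, map_div₀, map_div₀, map_sub, h.invol.invol, map_ofNat,
          eq_neg_of_add_eq_zero_right hγ]
        field_simp
        ring
      have e1 := S.add_mem (hT (mem_cut.2 ⟨trivial, hz.2⟩) ⟨_, he⟩)
        (hratS ((⟨_, hd⟩ : F₀) • b') (by rw [Quad.polar_smul_right', hz.2, mul_zero]))
      rw [rat_smul, ← add_smul] at e1
      convert e1 using 2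
      field_simp
      ring
    obtain ⟨hx₂, d, hd, hm⟩ : x ∈ S := hx' ▸ S.add_mem (hratS a' hz.1) hθ
    have hsk : (c - d) + σ (c - d) = 0 := by
      rw [map_sub]
      linear_combination hc - hd
    convert K.mul_mem (hrat w hw hw0 hWW _ hsk) hm using 1
    refine Subtype.ext (LinearEquiv.ext fun y => ?_)
    simp only [Subgroup.coe_mul, LinearEquiv.mul_apply, IsHerm.eich_apply, IsHerm.tr_apply, map_add, map_smul,
      smul_eq_mul, hWW, hx, ← hWdef]
    match_scalars <;> ring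
  set k := B W u with hk
  set u₁ := k⁻¹ • u with hu₁
  have hWu₁ : B W u₁ = 1 := by rw [hu₁, map_smul, smul_eq_mul, inv_mul_cancel₀ hwu]
  set x := u₁ - Fv - B Fv u₁ • W with hxdef
  have hWx : B W x = 0 := by simp [hxdef, hWu₁, hWF, hWW]
  have hFx : B Fv x = 0 := by simp [hxdef, hFF, hFW]
  have hu1 : u₁ = Fv + x + B Fv u₁ • W := by rw [hxdef]; abel
  have hu₁₁ : B u₁ u₁ = 0 := by rw [hu₁, IsHerm.smul_self, huu, mul_zero]
  have hc : B Fv u₁ + σ (B Fv u₁) = -B x x := by
    have e := hu₁₁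
    rw [hu1] at e
    simp only [map_add, LinearMap.add_apply, smul_left, smul_right, hWW, hFF, hWF, hFW, hWx, hFx,
      h.eq_zero_symm hWx, h.eq_zero_symm hFx] at e
    linear_combination e
  have := (hrat f₁ hqf₁ (fun h0 => one_ne_zero (α := F₀) (by
    rw [← hwf₁, h0, QuadraticMap.polar_zero_right]))).conj h (hEich x hWx _ hc)
  rw [IsHerm.eich_apply, hWF, h.eq_zero_symm hFx, one_smul, mul_one, sub_zero, ← hu1, hu₁] at this
  exact HasTr.of_smul h (inv_ne_zero hwu) this huu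

/-! ### Producing a transvection -/

theorem Setup.two_ne_zero : (2 : F₀) ≠ 0 := fun h0 => s.odd (by rw [← map_ofNat F₀.subtype 2, h0, map_zero])

/-- One transvection at a rational centre gives all of them. -/
theorem hasTr_of_one (hK : HasEich s K) {e : Fin n → F₀} (he : Q e = 0) (he0 : e ≠ 0) {c : F} (hc : c + σ c = 0)
    (hc0 : c ≠ 0) (htr : s.herm.tr (s.val_self he) hc ∈ K) : HasTr s.herm K (rat F₀ P e) := by
  have hn := s.dim
  have h := s.herm
  have hfin : 5 ≤ Module.finrank F₀ (Fin n → F₀) := by rw [Module.finrank_fin_fun]; omega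
  have hσc : σ c = -c := eq_neg_of_add_eq_zero_right hc
  have hsq : ∀ k : F₀, ∀ hk : (k : F) * k * c + σ ((k : F) * k * c) = 0,
      h.tr (s.val_self he) hk ∈ K := by
    intro k hk
    by_cases hk0 : k = 0
    · convert one_mem K
      refine Subtype.ext (LinearEquiv.ext fun y => ?_)
      simp [IsHerm.tr_apply, hk0]
    have hqk : Q (k • e) = 0 := by rw [Quad.apply_smul, he, mul_zero]
    obtain ⟨t, ht, hte⟩ := Quad.exists_move_singular s.nondeg hfin he he0 hqk (smul_ne_zero hk0 he0)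
    obtain ⟨m, hm, hme⟩ := exists_lift s hK ht
    have := K.mul_mem (K.mul_mem hm htr) (K.inv_mem hm)
    rw [h.conj_tr] at this
    convert this using 1
    refine Subtype.ext (LinearEquiv.ext fun y => ?_)
    simp only [IsHerm.tr_apply, hme, hte, rat_smul, smul_left, s.fix_coe, smul_smul]
    congr 2
    ring
  intro hee c' hc'
  have hσc' : σ c' = -c' := eq_neg_of_add_eq_zero_right hc'
  have hr : c' / c ∈ F₀ := by rw [s.fix, map_div₀, hσc, hσc', neg_div_neg_eq]
  set r : F₀ := ⟨c' / c, hr⟩ with hrdef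
  have hskew : ∀ k : F₀, (k : F) * k * c + σ ((k : F) * k * c) = 0 := fun k => by
    rw [map_mul, map_mul, s.fix_coe, hσc]; ring
  have m1 := hsq ((r + 1) / 2) (hskew _)
  have m2 := hsq ((r - 1) / 2) (hskew _)
  convert K.mul_mem m1 (K.inv_mem m2) using 1
  rw [eq_mul_inv_iff_mul_eq]
  refine Subtype.ext (LinearEquiv.ext fun y => ?_)
  simp only [Subgroup.coe_mul, LinearEquiv.mul_apply, IsHerm.tr_apply, map_add, smul_right, hee, mul_zero,
    add_zero, add_assoc, ← add_smul]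
  congr 2
  have e1 : ((r : F₀) : F) * c = c' := by rw [hrdef]; exact div_mul_cancel₀ _ hc0
  have e2 : ((((r + 1) / 2 : F₀)) : F) = ((r : F) + 1) / 2 := by
    rw [Subfield.coe_div, Subfield.coe_add, OneMemClass.coe_one]; congr 1
  have e3 : ((((r - 1) / 2 : F₀)) : F) = ((r : F) - 1) / 2 := by
    rw [Subfield.coe_div, Subfield.coe_sub, OneMemClass.coe_one]; congr 1
  have := s.odd
  rw [e2, e3]
  field_simp
  linear_combination (-4 * B (rat F₀ P e) y) * e1

/-- An irrational Eichler element at a rational centre gives the transvections there. -/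
theorem hasTr_of_twisted (hK : HasEich s K) {e : Fin n → F₀} (he : Q e = 0) (he0 : e ≠ 0) {x : Fin n → F} {a : F}
    (hex : B (rat F₀ P e) x = 0) (ha : a + σ a = -B x x) (hX : s.herm.eich (s.val_self he) hex ha ∈ K)
    (hareal : σ a = a) (hne : ∀ y, x ≠ rat F₀ P y) : HasTr s.herm K (rat F₀ P e) := by
  have h := s.herm
  obtain ⟨x₀, x₁, hx⟩ := s.split x
  have hval := (s.right_eq_zero (z := e)).1 (hx ▸ hex)
  by_cases hm : x₁ ∈ Submodule.span F₀ {e}
  · obtain ⟨k, hk⟩ := Submodule.mem_span_singleton.1 hm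
    have hk0 : k ≠ 0 := fun h0 => hne x₀ (by rw [hx, ← hk, h0, zero_smul, rat_zero, smul_zero, add_zero])
    set ν := θ * (k : F) with hν
    have hxe : x = rat F₀ P x₀ + ν • rat F₀ P e := by rw [hx, ← hk, rat_smul, smul_smul]
    have hee := s.val_self he
    have he₀ : B (rat F₀ P e) (rat F₀ P x₀) = 0 := s.val_zero hval.1
    have h₀e : B (rat F₀ P x₀) (rat F₀ P e) = 0 := h.eq_zero_symm he₀
    have hY := hK e x₀ hee he₀ (s.trace_rat x₀) rfl
    set c := a + ((Q x₀ : F₀) : F) + ν - σ ν with hc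
    have hcc : c + σ c = 0 := by
      have e1 := ha
      rw [hxe] at e1
      simp only [map_add, LinearMap.add_apply, smul_left, smul_right, hee, he₀, h₀e, mul_zero, add_zero] at e1
      have e2 := s.trace_rat x₀
      simp only [map_neg, s.fix_coe] at e2
      rw [hc, map_sub, map_add, map_add, s.fix_coe, h.invol.invol]
      linear_combination e1 - e2
    have hmem : h.tr hee hcc ∈ K := by
      convert K.mul_mem hX (K.inv_mem hY) using 1
      rw [eq_mul_inv_iff_mul_eq]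
      refine Subtype.ext (LinearEquiv.ext fun y => ?_)
      simp only [Subgroup.coe_mul, LinearEquiv.mul_apply, IsHerm.eich_apply, IsHerm.tr_apply, hxe, map_add,
        LinearMap.add_apply, smul_left, smul_right, hee, he₀, h₀e, mul_zero, add_zero, hc]
      module
    by_cases hc0 : c = 0
    · exfalso
      have e1 : σ c = 0 := by rw [hc0, map_zero]
      rw [hc, map_sub, map_add, map_add, s.fix_coe, h.invol.invol, hareal] at e1
      rw [hc] at hc0
      have hν0 : (2 : F) * (ν - σ ν) = 0 := by linear_combination hc0 - e1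
      have hνF : ν ∈ F₀ := (s.fix _).2 (sub_eq_zero.1 ((mul_eq_zero.1 hν0).resolve_left s.odd)).symm
      refine s.out ?_
      rw [show θ = ν / (k : F) from by
        rw [hν, mul_div_assoc, div_self (fun h0 => hk0 (Subtype.ext h0)), mul_one]]
      exact div_mem hνF k.2
    · exact hasTr_of_one s hK he he0 hcc hc0 hmem
  obtain ⟨r₀, hr₁, hr₀⟩ := Quad.exists_sep_polar s.nondeg hm
  have hner : B x (rat F₀ P r₀) ∉ F₀ := by
    intro hmem
    have h1 : B (rat F₀ P r₀) x ∈ F₀ := by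
      rw [← h.symm, (s.fix _).1 hmem]; exact hmem
    rw [hx, s.right_split, QuadraticMap.polar_comm _ r₀ x₁, hr₁, OneMemClass.coe_one, mul_one] at h1
    exact s.out (by simpa using sub_mem h1 (polar (⇑Q) r₀ x₀).2)
  set c₀ := B (rat F₀ P r₀) x - B x (rat F₀ P r₀) with hc₀
  have hc₀0 : c₀ ≠ 0 := fun h0 => hner (by
    rw [s.fix, h.symm]
    exact sub_eq_zero.1 h0)
  intro hee c hc
  have hdiv : c / c₀ ∈ F₀ := by
    rw [s.fix, map_div₀, hc₀, map_sub, h.symm, h.symm, eq_neg_of_add_eq_zero_right hc, ← neg_sub (B _ x),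
      neg_div_neg_eq]
  set r := (⟨c / c₀, hdiv⟩ : F₀) • r₀ with hr
  have her : B (rat F₀ P e) (rat F₀ P r) = 0 :=
    s.val_zero (by rw [hr, Quad.polar_smul_right', hr₀ e (Submodule.mem_span_singleton_self e), mul_zero])
  have hY := hK e r (s.val_self he) her (s.trace_rat r) rfl
  have hcc : c = B (rat F₀ P r) x - B x (rat F₀ P r) := by
    rw [hr, rat_smul, smul_left, smul_right, s.fix_coe, ← mul_sub, ← hc₀]
    show c = c / c₀ * c₀
    rw [div_mul_cancel₀ _ hc₀0]
  have e1 := h.eich_mul_comm (s.val_self he) hex her ha (s.trace_rat r) hc hcc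
  have := K.mul_mem (K.mul_mem hX hY) (K.inv_mem (K.mul_mem hY hX))
  rwa [e1, mul_inv_cancel_right] at this

/-- A singular vector and an anisotropic one orthogonal to it, both orthogonal to two given vectors. -/
theorem exists_singular_aniso {a : Fin n → F₀} (ha0 : a ≠ 0) (b : Fin n → F₀) :
    ∃ v y, Q v = 0 ∧ v ≠ 0 ∧ polar ⇑Q a v = 0 ∧ polar ⇑Q b v = 0 ∧
      polar ⇑Q a y = 0 ∧ polar ⇑Q b y = 0 ∧ polar ⇑Q v y = 0 ∧ Q y ≠ 0 := by
  have hn := s.dim
  set R := cut (cut ⊤ Q a) Q b with hR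
  have hRdim : n ≤ Module.finrank F₀ R + 2 := by
    have := finrank_cut (Q := Q) (⊤ : Submodule F₀ (Fin n → F₀)) a
    have := finrank_cut (Q := Q) (cut ⊤ Q a) b
    rw [finrank_top, Module.finrank_fin_fun] at *
    rw [hR]
    omega
  obtain ⟨⟨v, hv⟩, hv0, hqv⟩ := CfsgLib.Known.QuadClassify.exists_singular (Q.comp R.subtype) (by omega)
  change Q v = 0 at hqv
  have hv0' : v ≠ 0 := fun h0 => hv0 (Subtype.ext h0)
  by_cases hy : ∃ y ∈ cut R Q v, Q y ≠ 0
  · obtain ⟨y, hy, hqy⟩ := hy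
    exact ⟨v, y, hqv, hv0', hv.1.2, hv.2, hy.1.1.2, hy.1.2, hy.2, hqy⟩
  push Not at hy
  set M := cut R Q v with hM
  have hpol : ∀ x ∈ M, ∀ y ∈ M, polar ⇑Q x y = 0 := fun x hx y hy' => by
    rw [QuadraticMap.polar, hy _ (M.add_mem hx hy'), hy x hx, hy y hy']; ring
  have hle : M ≤ perp Q M := fun x hx => mem_perp.2 fun w hw => hpol w hw x hx
  have h3 := finrank_perp s.nondeg M
  rw [Module.finrank_fin_fun] at h3
  have hMdim := finrank_cut (Q := Q) R v
  rw [← hM] at hMdim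
  have heq := Submodule.eq_of_le_of_finrank_le hle (by
    have := Submodule.finrank_mono hle
    omega)
  have haM : a ∈ M := heq.ge (mem_perp.2 fun w hw => by rw [QuadraticMap.polar_comm]; exact hw.1.1.2)
  obtain ⟨y, hyR, hqy⟩ := exists_aniso s.nondeg (L := R) (by rw [Fintype.card_fin]; omega)
  exact ⟨a, y, hy a haM, ha0, haM.1.1.2, haM.1.2, hyR.1.2, hyR.2, hyR.1.2, hqy⟩

/-- An element moving a rational singular point off the rational points gives a transvection. -/
theorem line_of_no_tr (hK : HasEich s K) {g : HU B} (hg : g ∈ K)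
    (hno : ¬ ∃ e, Q e = 0 ∧ e ≠ 0 ∧ HasTr s.herm K (rat F₀ P e)) {w : Fin n → F₀} (hw : Q w = 0) (hw0 : w ≠ 0) :
    ∃ (l : F) (y : Fin n → F₀), (g : (Fin n → F) ≃ₗ[F] (Fin n → F)) (rat F₀ P w) = l • rat F₀ P y := by
  by_contra hline
  push Not at hline
  have hn := s.dim
  have h := s.herm
  set G := (g : (Fin n → F) ≃ₗ[F] (Fin n → F)) with hG
  set c := G (rat F₀ P w) with hc
  obtain ⟨a, b, hab⟩ := s.split c
  obtain ⟨v, y, hqv, hv0, hav, hbv, hay, hby, hvy, hqy⟩ := exists_singular_aniso s (a := a) (fun h0 => hline θ b (by rw [hab, h0, rat_zero, zero_add])) b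
  have hVc : B (rat F₀ P v) c = 0 := by
    rw [hab, s.right_eq_zero, QuadraticMap.polar_comm _ v a, QuadraticMap.polar_comm _ v b]
    exact ⟨hav, hbv⟩
  have hYc : B (rat F₀ P y) c = 0 := by
    rw [hab, s.right_eq_zero, QuadraticMap.polar_comm _ y a, QuadraticMap.polar_comm _ y b]
    exact ⟨hay, hby⟩
  obtain ⟨x, hx, hwx, hvd⟩ : ∃ x, Q x = 0 ∧ polar ⇑Q w x = 0 ∧ B (rat F₀ P v) (G (rat F₀ P x)) ≠ 0 := by
    by_contra! hcon
    obtain ⟨z, hz⟩ := G.surjective (rat F₀ P v)
    let T : Submodule F₀ (Fin n → F₀) :=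
      { carrier := {x | B (rat F₀ P v) (G (rat F₀ P x)) = 0}
        add_mem' := fun {p r} hp hr => by
          show B (rat F₀ P v) (G (rat F₀ P (p + r))) = 0
          rw [rat_add, map_add, map_add, hp, hr, add_zero]
        zero_mem' := by
          show B (rat F₀ P v) (G (rat F₀ P (0 : Fin n → F₀))) = 0
          rw [rat_zero, map_zero, map_zero]
        smul_mem' := fun k p hp => by
          show B (rat F₀ P v) (G (rat F₀ P (k • p))) = 0
          rw [rat_smul, map_smul, smul_right, hp, mul_zero] }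
    have hT : cut ⊤ Q w ≤ T := QuadSim.le_of_singular_odd s.nondeg s.two_ne_zero (by
      have := finrank_cut (Q := Q) (⊤ : Submodule F₀ (Fin n → F₀)) w
      rw [finrank_top, Module.finrank_fin_fun] at this
      rw [Fintype.card_fin]
      omega) fun x hx hqx => hcon x hqx hx.2
    obtain ⟨f, hqf, hwf, -⟩ := exists_common s hw0 hw0
    set f₁ := (polar ⇑Q w f)⁻¹ • f with hf₁
    have hwf₁ : polar ⇑Q w f₁ = 1 := by rw [hf₁, Quad.polar_smul_right', inv_mul_cancel₀ hwf]
    set lam := B z (rat F₀ P f₁) with hlam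
    have hz0 : ∀ r, polar ⇑Q w r = 0 → B z (rat F₀ P r) = 0 := fun r hr => by
      rw [← HU.map_eq g z]
      show B (G z) (G (rat F₀ P r)) = 0
      rw [hz]
      exact hT ⟨trivial, hr⟩
    have hzw : z = σ lam • rat F₀ P w := by
      refine sub_eq_zero.1 (h.nondeg _ fun u => ?_)
      obtain ⟨u₀, u₁, rfl⟩ := s.split u
      have hr : ∀ r, B (z - σ lam • rat F₀ P w) (rat F₀ P r) = 0 := fun r => by
        have h1 := hz0 (r - polar ⇑Q w r • f₁) (by
          rw [QuadraticMap.polar_sub_right, Quad.polar_smul_right', hwf₁, mul_one, sub_self])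
        have e : rat F₀ P (r - polar ⇑Q w r • f₁) =
            rat F₀ P r - ((polar ⇑Q w r : F₀) : F) • rat F₀ P f₁ := by
          rw [eq_sub_iff_add_eq, ← rat_smul, ← rat_add, sub_add_cancel]
        rw [e, map_sub, smul_right, ← hlam] at h1
        rw [Herm.sub_left, smul_left, h.invol.invol, s.val]
        linear_combination h1
      rw [map_add, smul_right, hr, hr, mul_zero, add_zero]
    have hlam0 : σ lam ≠ 0 := fun h0 => s.rat_ne_zero hv0 (by rw [← hz, hzw, h0, zero_smul, map_zero])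
    refine hline (σ lam)⁻¹ v ?_
    rw [← hz, hzw, map_smul, inv_smul_smul₀ hlam0]
  set d := G (rat F₀ P x) with hd
  have hcc : B c c = 0 := by rw [hc, hG, HU.map_eq, s.val_self hw]
  have hdd : B d d = 0 := by rw [hd, hG, HU.map_eq, s.val_self hx]
  have hcd : B c d = 0 := by rw [hc, hd, hG, HU.map_eq, s.val_zero hwx]
  have hdc : B d c = 0 := h.eq_zero_symm hcd
  have hcV : B c (rat F₀ P v) = 0 := h.eq_zero_symm hVc
  have hcY : B c (rat F₀ P y) = 0 := h.eq_zero_symm hYc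
  have hVV := s.val_self hqv
  have hVY : B (rat F₀ P v) (rat F₀ P y) = 0 := s.val_zero hvy
  have hYV : B (rat F₀ P y) (rat F₀ P v) = 0 := h.eq_zero_symm hVY
  set N := ((Q y : F₀) : F) with hN
  have hσN : σ N = N := s.fix_coe _
  have hYY : B (rat F₀ P y) (rat F₀ P y) = 2 * N := by
    rw [s.val, QuadraticMap.polar_self, two_smul, Subfield.coe_add]; ring
  set α := B (rat F₀ P v) d with hα
  set β := B (rat F₀ P y) d with hβ
  have hdV : B d (rat F₀ P v) = σ α := (h.symm _ _).symm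
  have hdY : B d (rat F₀ P y) = σ β := (h.symm _ _).symm
  have hz0 : (0 : F) + σ 0 = -B (rat F₀ P x) (rat F₀ P x) := by simp [s.val_self hx]
  set E₀ := g * h.eich (s.val_self hw) (s.val_zero hwx) hz0 * g⁻¹ with hE₀
  have hE₀K : E₀ ∈ K := K.mul_mem (K.mul_mem hg
    (hK w x (s.val_self hw) (s.val_zero hwx) hz0 (by rw [hx]; simp))) (K.inv_mem hg)
  have hE₀a : ∀ z, (E₀ : (Fin n → F) ≃ₗ[F] (Fin n → F)) z = z + B c z • d + (-B d z) • c := by
    intro z
    obtain ⟨z', rfl⟩ := G.surjective z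
    rw [hc, hd, hG, HU.map_eq, HU.map_eq, hE₀]
    simp only [Subgroup.coe_mul, Subgroup.coe_inv, LinearEquiv.mul_apply, LinearEquiv.coe_inv,
      LinearEquiv.symm_apply_apply, IsHerm.eich_apply, map_add, map_smul, zero_mul, zero_sub]
  have hy' : B (rat F₀ P v) (-rat F₀ P y) = 0 := by rw [map_neg, hVY, neg_zero]
  have ht' : -N + σ (-N) = -B (-rat F₀ P y) (-rat F₀ P y) := by
    rw [map_neg, hσN, map_neg, LinearMap.map_neg₂, neg_neg, hYY]; ring
  set T₁ := h.eich hVV hVY (s.trace_rat y) with hT₁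
  set T₂ := h.eich hVV hy' ht' with hT₂
  have hT₁K : T₁ ∈ K := hK v y hVV hVY (s.trace_rat y) rfl
  have hT₂K : T₂ ∈ K := by
    have hny : rat F₀ P (-y) = -rat F₀ P y := by
      rw [show (-y) = (-1 : F₀) • y from (neg_one_smul _ _).symm, rat_smul]
      simp
    have := hK v (-y) hVV (by rw [hny]; exact hy') (a := -N) (by rw [hny]; exact ht')
      (by rw [QuadraticMap.map_neg])
    convert this using 1
    refine Subtype.ext (LinearEquiv.ext fun z => ?_)
    simp only [hT₂, IsHerm.eich_apply, hny]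
  set d₁ := (T₁ : (Fin n → F) ≃ₗ[F] (Fin n → F)) d with hd₁
  set d₂ := (T₂ : (Fin n → F) ≃ₗ[F] (Fin n → F)) d with hd₂
  have hd₁' : d₁ = d + α • rat F₀ P y + (-N * α - β) • rat F₀ P v := by
    rw [hd₁, hT₁, IsHerm.eich_apply, ← hα, ← hβ, hN]
  have hd₂' : d₂ = d + α • (-rat F₀ P y) + (-N * α + β) • rat F₀ P v := by
    rw [hd₂, hT₂, IsHerm.eich_apply, ← hα, LinearMap.map_neg₂, ← hβ, sub_neg_eq_add]
  have hconj : ∀ T : HU B, T ∈ K → (T : (Fin n → F) ≃ₗ[F] (Fin n → F)) c = c →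
      ∀ z, ((T * E₀ * T⁻¹ : HU B) : (Fin n → F) ≃ₗ[F] (Fin n → F)) z =
        z + B c z • (T : (Fin n → F) ≃ₗ[F] (Fin n → F)) d +
          (-B ((T : (Fin n → F) ≃ₗ[F] (Fin n → F)) d) z) • c := by
    intro T _ hTc z
    obtain ⟨z', rfl⟩ := (T : (Fin n → F) ≃ₗ[F] (Fin n → F)).surjective z
    conv_rhs => rw [← hTc, HU.map_eq, HU.map_eq]
    simp only [Subgroup.coe_mul, Subgroup.coe_inv, LinearEquiv.mul_apply, LinearEquiv.coe_inv,
      LinearEquiv.symm_apply_apply, hE₀a, map_add, map_smul, map_neg]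
  have hT₁c : (T₁ : (Fin n → F) ≃ₗ[F] (Fin n → F)) c = c := by
    rw [hT₁, IsHerm.eich_apply, hVc, hYc]; simp
  have hT₂c : (T₂ : (Fin n → F) ≃ₗ[F] (Fin n → F)) c = c := by
    rw [hT₂, IsHerm.eich_apply, hVc, LinearMap.map_neg₂, hYc]; simp
  set μ := -(2 * N * α) with hμ
  have hex : B (rat F₀ P v) ((-(2 * σ μ)) • c) = 0 := by rw [smul_right, hVc, mul_zero]
  have ha0 : (0 : F) + σ 0 = -B ((-(2 * σ μ)) • c) ((-(2 * σ μ)) • c) := by
    rw [IsHerm.smul_self, hcc]; simp
  have hA := hconj T₁ hT₁K hT₁c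
  have hB := hconj T₂ hT₂K hT₂c
  set A₁ := T₁ * E₀ * T₁⁻¹
  set A₂ := T₂ * E₀ * T₂⁻¹
  have hA₁K : A₁ ∈ K := K.mul_mem (K.mul_mem hT₁K hE₀K) (K.inv_mem hT₁K)
  have hA₂K : A₂ ∈ K := K.mul_mem (K.mul_mem hT₂K hE₀K) (K.inv_mem hT₂K)
  have hP : A₁ * A₂ * (A₂ * A₁) ∈ K := K.mul_mem (K.mul_mem hA₁K hA₂K) (K.mul_mem hA₂K hA₁K)
  have hQ' : E₀ * E₀ * (E₀ * E₀) ∈ K := K.mul_mem (K.mul_mem hE₀K hE₀K) (K.mul_mem hE₀K hE₀K)
  have hX : h.eich hVV hex ha0 ∈ K := by
    have := K.mul_mem hP (K.inv_mem hQ')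
    convert this using 1
    rw [eq_mul_inv_iff_mul_eq]
    refine Subtype.ext (LinearEquiv.ext fun z => ?_)
    have c1 : B c (-rat F₀ P y) = 0 := by rw [map_neg, hcY, neg_zero]
    simp only [Subgroup.coe_mul, LinearEquiv.mul_apply, IsHerm.eich_apply, hA, hB, hE₀a, ← hd₁, ← hd₂, hd₁', hd₂',
      hμ, map_add, map_sub, map_neg, map_mul, map_ofNat, LinearMap.add_apply, LinearMap.neg_apply, smul_left,
      smul_right, h.invol.invol, hσN, hcc, hdd, hcd, hdc, hcV, hVc, hcY, hYc, hVV, hVY, hYV, hYY, hdV, hdY,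
      ← hα, ← hβ, c1]
    match_scalars <;> ring
  have hσμ : σ μ ≠ 0 := fun h0 => by
    have h1 := IsInvol.apply_eq_zero_iff.1 h0
    rw [hμ, neg_eq_zero] at h1
    rcases mul_eq_zero.1 h1 with h2 | h2
    · rcases mul_eq_zero.1 h2 with h3 | h3
      · exact s.odd h3
      · exact hqy (Subtype.ext h3)
    · exact hvd h2
  refine hno ⟨v, hqv, hv0, hasTr_of_twisted s hK hqv hv0 hex ha0 hX (map_zero σ) fun y' hy' => ?_⟩
  have hne : -(2 * σ μ) ≠ 0 := neg_ne_zero.2 (mul_ne_zero s.odd hσμ)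
  exact hline (-(2 * σ μ))⁻¹ y' (by rw [← hy', inv_smul_smul₀ hne])

theorem rat_of_lines {g : HU B}
    (hline : ∀ p, Q p = 0 → p ≠ 0 →
      ∃ (l : F) (y : Fin n → F₀), (g : (Fin n → F) ≃ₗ[F] (Fin n → F)) (rat F₀ P p) = l • rat F₀ P y) :
    ∃ l : F, l ≠ 0 ∧ ∀ x, ∃ y, (g : (Fin n → F) ≃ₗ[F] (Fin n → F)) (rat F₀ P x) = l • rat F₀ P y := by
  have hn := s.dim
  have h := s.herm
  choose l y hly using hline
  obtain ⟨p₀, -, f₀, -, hp₀, -, hpf⟩ := exists_hyp s.nondeg (L := (⊤ : Submodule F₀ (Fin n → F₀))) (by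
    rw [finrank_top, Module.finrank_fin_fun, Fintype.card_fin]; omega)
  have hp₀0 : p₀ ≠ 0 := fun h0 => one_ne_zero (α := F₀) (by rw [← hpf, h0, QuadraticMap.polar_zero_left])
  have hl : ∀ p hp hp0, l p hp hp0 ≠ 0 := fun p hp hp0 h0 => s.rat_ne_zero hp0
    ((g : (Fin n → F) ≃ₗ[F] (Fin n → F)).injective (by rw [hly p hp hp0, h0, zero_smul, map_zero]))
  have hpair : ∀ p r hp hp0 hr hr0, polar ⇑Q p r ≠ 0 → σ (l p hp hp0) * l r hr hr0 ∈ F₀ := by
    intro p r hp hp0 hr hr0 hne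
    have e1 := HU.map_eq g (rat F₀ P p) (rat F₀ P r)
    rw [hly p hp hp0, hly r hr hr0, smul_left, smul_right, s.val, s.val] at e1
    set m := ((polar ⇑Q (y p hp hp0) (y r hr hr0) : F₀) : F)
    have hm : m ≠ 0 := fun h0 => hne (Subtype.ext (by
      rw [← e1, h0, mul_zero, mul_zero]; rfl))
    rw [show σ (l p hp hp0) * l r hr hr0 = ((polar ⇑Q p r : F₀) : F) / m by
      rw [eq_div_iff hm, ← e1]; ring]
    exact div_mem (SetLike.coe_mem _) (SetLike.coe_mem _)
  refine ⟨l p₀ hp₀ hp₀0, hl _ _ _, fun x => ?_⟩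
  let S : Submodule F₀ (Fin n → F₀) :=
    { carrier := {x | ∃ y, (g : (Fin n → F) ≃ₗ[F] (Fin n → F)) (rat F₀ P x) = l p₀ hp₀ hp₀0 • rat F₀ P y}
      add_mem' := by
        rintro x x' ⟨z, hz⟩ ⟨z', hz'⟩
        exact ⟨z + z', by rw [rat_add, map_add, hz, hz', rat_add, smul_add]⟩
      zero_mem' := ⟨0, by rw [rat_zero, map_zero, smul_zero]⟩
      smul_mem' := by
        rintro c x ⟨z, hz⟩
        exact ⟨c • z, by rw [rat_smul, map_smul, hz, rat_smul, smul_comm]⟩ }
  have hS : (⊤ : Submodule F₀ (Fin n → F₀)) ≤ S := QuadSim.le_of_singular s.nondeg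
    (by rw [finrank_top, Module.finrank_fin_fun, Fintype.card_fin]; omega) fun p _ hp => by
      by_cases hp0 : p = 0
      · exact ⟨0, by rw [hp0, rat_zero, map_zero, smul_zero]⟩
      obtain ⟨r, hr, hpr, hp₀r⟩ := exists_common s hp0 hp₀0
      have hr0 : r ≠ 0 := fun h0 => hpr (by rw [h0, QuadraticMap.polar_zero_right])
      have h1 := hpair p r hp hp0 hr hr0 hpr
      have h2 := hpair p₀ r hp₀ hp₀0 hr hr0 hp₀r
      have hne : σ (l p₀ hp₀ hp₀0) * l r hr hr0 ≠ 0 :=
        mul_ne_zero (fun h0 => hl _ _ _ (IsInvol.apply_eq_zero_iff.1 h0)) (hl _ _ _)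
      have h3 : l p hp hp0 / l p₀ hp₀ hp₀0 ∈ F₀ := by
        have h4 := div_mem h1 h2
        rw [mul_div_mul_right _ _ (hl r hr hr0), ← map_div₀, s.fix, h.invol.invol] at h4
        rw [s.fix]
        exact h4.symm
      refine ⟨(⟨_, h3⟩ : F₀) • y p hp hp0, ?_⟩
      rw [hly p hp hp0, rat_smul, smul_smul, mul_div_cancel₀ _ (hl _ _ _)]
  exact hS (Submodule.mem_top (x := x))

end CfsgLib.Geo.UnitOrthSub

namespace CfsgLib.Geo.UnitOrthSub

open Matrix CfsgLib.Classical CfsgLib.Classical.Herm CfsgLib.Geo.UnitMax CfsgLib.Geo.UnitSympSub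
open CfsgLib.Geo.QuadSim
open QuadraticMap (polar polarBilin)

/-- Orthogonal subfield subgroups are maximal in SU. -/
theorem isMaximalIn_subfield {F : Type*} [Field F] [Fintype F] {n q : ℕ} (hF : Fintype.card F = q ^ 2) (hn : 6 ≤ n)
    (hodd : Odd q) (F₀ : Subfield F) (hcard : Fintype.card F = Nat.card F₀ ^ 2)
    (P : Matrix.GeneralLinearGroup (Fin n) F)
    (hP : Cfsg.Geo.IsFormRationalStructure (Cfsg.hermForm n F q) F₀ 1 P) :
    Cfsg.Geo.IsMaximalIn (Cfsg.GU n F q ⊓ Cfsg.Geo.specialLinear (Fin n) F)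
      (Cfsg.Geo.subfieldSubgroup F₀ P ⊓ (Cfsg.GU n F q ⊓ Cfsg.Geo.specialLinear (Fin n) F)) := by
  have h := hermStd_isHerm (n := n) hF
  set B := hermStd n hF with hB
  have hq : q = Nat.card F₀ := Nat.pow_left_injective two_ne_zero (hF.symm.trans hcard)
  have h2 : (2 : F) ≠ 0 := by
    intro h2
    have : CharP F 2 := CharTwo.of_one_ne_zero_of_two_eq_zero one_ne_zero h2
    have := FiniteField.even_card_iff_char_two.1 (ringChar.eq F 2)
    rw [hF] at this
    exact (Nat.not_even_iff_odd.2 (hodd.pow (n := 2))) (Nat.even_iff.2 this)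
  have hfix : F₀ = fixedSub (powHom hF) := by
    have : Fintype F₀ := Fintype.ofFinite F₀
    refine SetLike.coe_injective (Set.eq_of_subset_of_ncard_le (fun c hc => ?_) ?_)
    · rw [SetLike.mem_coe, mem_fixedSub, powHom_apply, hq, Nat.card_eq_fintype_card]
      exact congrArg Subtype.val (FiniteField.pow_card (⟨c, hc⟩ : F₀))
    · rw [← Nat.card_coe_set_eq, ← Nat.card_coe_set_eq, SetLike.coe_sort_coe, SetLike.coe_sort_coe, ← hq,
        card_fixed_powHom hF]
  have hfix' : ∀ c, c ∈ F₀ ↔ powHom hF c = c := fun c => by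
    conv_lhs => rw [hfix]
    exact mem_fixedSub
  obtain ⟨θ, hθσ⟩ := h.invol.exists_ne
  have hθ : θ ∉ F₀ := fun hm => hθσ ((hfix' θ).1 hm)
  have hrange : ∀ x y, B (rat F₀ P y) (rat F₀ P x) ∈ F₀ := fun x y => by
    have := hP _ _ (fun i => (x i).2) (fun i => (y i).2)
    rwa [one_mul] at this
  let β : LinearMap.BilinForm F₀ (Fin n → F₀) :=
    LinearMap.mk₂ F₀ (fun x y => (⟨B (rat F₀ P x) (rat F₀ P y), hrange y x⟩ : F₀))
      (fun x x' y => Subtype.ext (by simp [rat_add]))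
      (fun c x y => Subtype.ext (by simp [rat_smul, smul_left, (hfix' _).1 c.2]))
      (fun x y y' => Subtype.ext (by simp [rat_add]))
      (fun c x y => Subtype.ext (by simp [rat_smul]))
  let Q : QuadraticForm F₀ (Fin n → F₀) := LinearMap.BilinMap.toQuadraticMap ((2 : F₀)⁻¹ • β)
  have hval : ∀ x y, B (rat F₀ P x) (rat F₀ P y) = ((polar ⇑Q x y : F₀) : F) := fun x y => by
    have e : B (rat F₀ P y) (rat F₀ P x) = B (rat F₀ P x) (rat F₀ P y) :=
      (h.symm _ _).symm.trans ((hfix' _).1 (hrange y x))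
    rw [show polar ⇑Q x y = ((2 : F₀)⁻¹ • β) x y + ((2 : F₀)⁻¹ • β) y x from
      LinearMap.BilinMap.polar_toQuadraticMap x y]
    simp only [LinearMap.smul_apply, smul_eq_mul, β, LinearMap.mk₂_apply, Subfield.coe_add, Subfield.coe_mul]
    rw [e, show (((2 : F₀)⁻¹ : F₀) : F) = (2 : F)⁻¹ by
      rw [show ((2 : F₀)⁻¹ : F₀) = ⟨(2 : F)⁻¹, inv_mem (by
        have := add_mem F₀.one_mem F₀.one_mem
        rwa [one_add_one_eq_two] at this)⟩ from ?_]
      refine Subtype.ext ?_
      show ((2 : F₀) : F)⁻¹ = (2 : F)⁻¹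
      rw [show ((2 : F₀) : F) = 2 from map_ofNat F₀.subtype 2]]
    field_simp
    ring
  have hnd : (polarBilin Q).Nondegenerate := by
    have hsep : ∀ x, (∀ y, polar ⇑Q x y = 0) → x = 0 := fun x hx => rat_injective (P := P) (by
      rw [rat_zero]
      refine h.nondeg _ fun v => ?_
      obtain ⟨a, b, rfl⟩ := exists_split (P := P) hcard.symm hθ v
      rw [map_add, map_smul, hval, hval, hx, hx]
      simp)
    exact ⟨fun x hx => hsep x hx, fun y hy => hsep y fun x => (QuadraticMap.polar_comm _ _ _).trans (hy x)⟩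
  have s : Setup B F₀ P Q θ :=
    { herm := h, val := hval, nondeg := hnd, fix := hfix', out := hθ
      split := exists_split (P := P) hcard.symm hθ, dim := hn, odd := h2 }
  let e := guEquiv n hF
  have hS : ∀ g : Cfsg.GU n F q, (g : GL (Fin n) F) ∈ Cfsg.Geo.specialLinear (Fin n) F ↔ e g ∈ HSU B := by
    intro g
    rw [MonoidHom.mem_ker, Units.ext_iff]
    show Matrix.GeneralLinearGroup.det (g : GL (Fin n) F) = 1 ↔ _
    rw [Units.ext_iff, guEquiv_det]
    rfl
  refine ⟨lt_of_le_of_ne inf_le_right fun heq => ?_, fun M hM hMS => ?_⟩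
  · obtain ⟨w, -, f, -, hw, hf, hwf⟩ := exists_hyp hnd (L := (⊤ : Submodule F₀ (Fin n → F₀))) (by
      rw [finrank_top, Module.finrank_fin_fun, Fintype.card_fin]; omega)
    obtain ⟨γ, hγ0, hγ⟩ := h.exists_skew
    have hmem : ((e.symm (h.tr (s.val_self hw) hγ) : Cfsg.GU n F q) : GL (Fin n) F) ∈
        Cfsg.GU n F q ⊓ Cfsg.Geo.specialLinear (Fin n) F :=
      ⟨(e.symm _).2, (hS _).2 (by rw [MulEquiv.apply_symm_apply]; exact h.det_tr _ _)⟩
    obtain ⟨l, y, hy⟩ := rat_line_of_mem (heq.ge hmem).1 f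
    rw [← guEquiv_apply hF, show guEquiv n hF (e.symm _) = _ from e.apply_symm_apply _, h.tr_apply,
      s.val_one hwf, mul_one] at hy
    have e1 := congrArg (B (rat F₀ P w)) hy
    have e2 := congrArg (B (rat F₀ P f)) hy
    simp only [map_add, map_smul, smul_eq_mul, s.val_self hw, s.val_self hf, s.val_one hwf,
      s.val_one (show polar ⇑Q f w = 1 by rw [QuadraticMap.polar_comm, hwf]), s.val, mul_zero, mul_one,
      add_zero, zero_add] at e1 e2
    have hl : l ∈ F₀ := by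
      have hm : ((polar ⇑Q w y : F₀) : F) ≠ 0 := fun h0 => by rw [h0, mul_zero] at e1; exact one_ne_zero e1
      rw [show l = ((polar ⇑Q w y : F₀) : F)⁻¹ from eq_inv_of_mul_eq_one_left e1.symm]
      exact inv_mem (SetLike.coe_mem _)
    have hγ₀ : γ ∈ F₀ := by rw [e2]; exact mul_mem hl (SetLike.coe_mem _)
    rw [(hfix' γ).1 hγ₀] at hγ
    exact hγ0 ((mul_eq_zero.1 (show (2 : F) * γ = 0 by rw [two_mul, hγ])).resolve_left h2)
  refine (eq_or_lt_of_le hM).imp Eq.symm fun hlt => le_antisymm hMS ?_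
  obtain ⟨g, hgM, hgn⟩ := SetLike.exists_of_lt hlt
  set K : Subgroup (HU B) := (M.subgroupOf (Cfsg.GU n F q)).map e.toMonoidHom with hKdef
  have hmem : ∀ g : Cfsg.GU n F q, e g ∈ K ↔ (g : GL (Fin n) F) ∈ M := fun g => by
    rw [hKdef, Subgroup.mem_map_equiv, MulEquiv.symm_apply_apply, Subgroup.mem_subgroupOf]
  have hK : HasEich s K := by
    intro w x hu hux a ha haq
    rw [← e.apply_symm_apply (s.herm.eich hu hux ha), hmem]
    refine hM ⟨exists_subfield_matrix one_ne_zero fun z =>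
      ⟨z + polar ⇑Q w z • x + (-Q x * polar ⇑Q w z - polar ⇑Q x z) • w, ?_⟩,
      (e.symm _).2, (hS _).2 (by rw [MulEquiv.apply_symm_apply]; exact s.herm.eich_mem hu hux ha)⟩
    rw [one_smul, ← guEquiv_apply hF, show guEquiv n hF (e.symm _) = _ from e.apply_symm_apply _,
      IsHerm.eich_apply, rat_add, rat_add, rat_smul, rat_smul, hval, hval, haq]
    simp only [Subfield.coe_sub, Subfield.coe_mul, Subfield.coe_neg]
  have hgK : e ⟨g, (hMS hgM).1⟩ ∈ K := (hmem _).2 hgM
  by_cases htr : ∃ w, Q w = 0 ∧ w ≠ 0 ∧ HasTr h K (rat F₀ P w)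
  · obtain ⟨w, hw, hw0, htr⟩ := htr
    have hfull : HSU B ≤ K := le_of_hasTr h (by rw [Module.finrank_fin_fun]; omega) (hasTr_all s hK hw hw0 htr)
    intro x hx
    exact (hmem ⟨x, hx.1⟩).1 (hfull ((hS ⟨x, hx.1⟩).1 hx.2))
  · exfalso
    obtain ⟨l, hl, hall⟩ := rat_of_lines s (g := e ⟨g, (hMS hgM).1⟩)
      (fun p hp hp0 => line_of_no_tr s hK hgK htr hp hp0)
    refine hgn ⟨exists_subfield_matrix hl fun x => ?_, hMS hgM⟩
    obtain ⟨y, hy⟩ := hall x
    exact ⟨y, by rw [← hy]; exact (guEquiv_apply hF ⟨g, (hMS hgM).1⟩ _).symm⟩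

end CfsgLib.Geo.UnitOrthSub
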