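/-
Elements of order three modulo scalars of SL(3) and normalisers of cubic fields of matrices.
-/
import Mathlib
import Cfsg.Prelude.Def_GeometricClasses
import Cfsg.Agent.Lib.Geo.InvolutionClasses
import Cfsg.Agent.Lib.Geo.InvolutionSubfield
import Cfsg.Agent.Lib.Geo.InvolutionFieldExt
import Cfsg.Agent.Lib.Geo.PrimeOrderConstruct

namespace CfsgLib.Geo.ThreeSinger

open Module Matrix

variable {F : Type*} [Field F]

/-- A map with scalar cube and no eigenplane is cyclic. -/
theorem exists_cyclic_basis (T : (Fin 3 → F) →ₗ[F] (Fin 3 → F)) (z : F)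
    (hT : ∀ v, T (T (T v)) = z • v) (hns : ∀ c : F, T ≠ c • LinearMap.id)
    (heig : ∀ c : F, finrank F (LinearMap.ker (T - c • LinearMap.id)) ≤ 1) :
    ∃ b : Basis (Fin 3) F (Fin 3 → F), T (b 0) = b 1 ∧ T (b 1) = b 2 ∧ T (b 2) = z • b 0 := by
  classical
  obtain ⟨x, hx⟩ := Module.exists_ker_toSpanSingleton_eq_annihilator (R := Polynomial F) (M := Module.AEval' T)
  obtain ⟨v, rfl⟩ := (Module.AEval'.of T).surjective x
  have key : ∀ a b c : F, a • v + b • T v + c • T (T v) = 0 → ∀ w, a • w + b • T w + c • T (T w) = 0 := by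
    intro a b c h w
    set p : Polynomial F := Polynomial.C a + Polynomial.C b * Polynomial.X + Polynomial.C c * Polynomial.X ^ 2
    have hp : ∀ u, p • (Module.AEval'.of T u) = Module.AEval'.of T (a • u + b • T u + c • T (T u)) := fun u => by
      simp [p, add_smul, mul_smul, Module.AEval.C_smul, Module.AEval'.X_smul_of, pow_two]
    have hmem : p ∈ LinearMap.ker (LinearMap.toSpanSingleton (Polynomial F) (Module.AEval' T) (Module.AEval'.of T v)) := by
      rw [LinearMap.mem_ker, LinearMap.toSpanSingleton_apply, hp, h, map_zero]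
    rw [hx, Module.mem_annihilator] at hmem
    have h1 := hmem (Module.AEval'.of T w)
    rw [hp] at h1
    exact (Module.AEval'.of T).map_eq_zero_iff.1 h1
  have hli : LinearIndependent F ![v, T v, T (T v)] := by
    rw [Fintype.linearIndependent_iff]
    intro g hg
    simp only [Fin.sum_univ_three, Matrix.cons_val_zero, Matrix.cons_val_one, Matrix.cons_val_two, Matrix.head_cons,
      Matrix.tail_cons] at hg
    have h := key _ _ _ hg
    have hc : g 2 = 0 := by
      by_contra hc
      set α := -(g 1) / g 2 with hα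
      set β := -(g 0) / g 2 with hβ
      have hq : ∀ w, T (T w) = α • T w + β • w := fun w => by
        have := h w
        rw [← inv_smul_smul₀ hc (T (T w)), eq_neg_of_add_eq_zero_right this, hα, hβ]
        module
      have hab : α * α + β = 0 := by
        by_contra hne
        refine hns ((z - α * β) / (α * α + β)) (LinearMap.ext fun w => ?_)
        have e := hT w
        rw [hq w, map_add, map_smul, map_smul, hq w] at e
        have e2 : (α * α + β) • T w = (z - α * β) • w := by
          linear_combination (norm := module) e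
        rw [LinearMap.smul_apply, LinearMap.id_apply, div_eq_mul_inv, mul_comm, mul_smul, ← e2, inv_smul_smul₀ hne]
      by_cases hroot : ∃ t : F, t * t = α * t + β
      · obtain ⟨t, ht⟩ := hroot
        have hle : LinearMap.range (T - (α - t) • LinearMap.id) ≤ LinearMap.ker (T - t • LinearMap.id) := by
          rintro _ ⟨w, rfl⟩
          simp only [LinearMap.mem_ker, LinearMap.sub_apply, LinearMap.smul_apply, LinearMap.id_apply, map_sub,
            map_smul, hq]
          have hb : β = t * t - α * t := by linear_combination -ht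
          rw [hb]
          module
        have h1 := LinearMap.finrank_range_add_finrank_ker (T - (α - t) • LinearMap.id)
        have h2 := Submodule.finrank_mono hle
        have h3 := heig t
        have h4 := heig (α - t)
        rw [finrank_pi, Fintype.card_fin] at h1
        omega
      · push Not at hroot
        obtain ⟨m, b, -⟩ := InvClass.exists_quad_basis T α β hroot hq
        have := finrank_eq_card_basis b
        rw [finrank_pi, Fintype.card_fin, Fintype.card_prod, Fintype.card_fin, Fintype.card_fin] at this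
        omega
    have hb : g 1 = 0 := by
      by_contra hb
      refine hns (-(g 0) / g 1) (LinearMap.ext fun w => ?_)
      have := h w
      rw [hc, zero_smul, add_zero] at this
      rw [LinearMap.smul_apply, LinearMap.id_apply, ← inv_smul_smul₀ hb (T w), eq_neg_of_add_eq_zero_right this]
      module
    have ha : g 0 = 0 := by
      have := h (Pi.single 0 1)
      rw [hb, hc, zero_smul, zero_smul, add_zero, add_zero] at this
      simpa using this
    intro i
    fin_cases i
    exacts [ha, hb, hc]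
  refine ⟨basisOfLinearIndependentOfCardEqFinrank hli (by simp), ?_, ?_, ?_⟩ <;>
    simp [hT]

/-- Two cyclic maps with the same scalar cube are conjugate. -/
theorem exists_conj_cyclic (A B : Matrix (Fin 3) (Fin 3) F) (z : F) (hA : A * A * A = z • 1) (hB : B * B * B = z • 1)
    (hAn : ∀ c : F, A ≠ c • 1) (hBn : ∀ c : F, B ≠ c • 1)
    (hAe : ∀ c : F, finrank F (LinearMap.ker (Matrix.toLin' A - c • LinearMap.id)) ≤ 1)
    (hBe : ∀ c : F, finrank F (LinearMap.ker (Matrix.toLin' B - c • LinearMap.id)) ≤ 1) :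
    ∃ P : GL (Fin 3) F, (P : Matrix (Fin 3) (Fin 3) F) * B = A * (P : Matrix (Fin 3) (Fin 3) F) := by
  have aux : ∀ M : Matrix (Fin 3) (Fin 3) F, M * M * M = z • 1 → (∀ c : F, M ≠ c • 1) →
      (∀ c : F, finrank F (LinearMap.ker (Matrix.toLin' M - c • LinearMap.id)) ≤ 1) →
      ∃ b : Basis (Fin 3) F (Fin 3 → F), Matrix.toLin' M (b 0) = b 1 ∧ Matrix.toLin' M (b 1) = b 2 ∧
        Matrix.toLin' M (b 2) = z • b 0 := fun M hM hn he =>
    exists_cyclic_basis _ z (fun v => by
      simp only [Matrix.toLin'_apply, Matrix.mulVec_mulVec, ← mul_assoc, hM, Matrix.smul_mulVec, Matrix.one_mulVec])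
      (fun c h => hn c (Matrix.toLin'.injective (by rw [map_smul, Matrix.toLin'_one]; exact h))) he
  obtain ⟨a, a0, a1, a2⟩ := aux A hA hAn hAe
  obtain ⟨b, b0, b1, b2⟩ := aux B hB hBn hBe
  obtain ⟨P, hP⟩ := InvClass.exists_basis_change b a
  refine ⟨P, Matrix.toLin'.injective (b.ext fun i => ?_)⟩
  simp only [Matrix.toLin'_mul, LinearMap.comp_apply]
  fin_cases i <;> simp only [Fin.zero_eta, Fin.mk_one, Fin.reduceFinMk]
  · rw [b0, Matrix.toLin'_apply, Matrix.toLin'_apply (P : Matrix (Fin 3) (Fin 3) F) (b 0), hP, hP, a0]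
  · rw [b1, Matrix.toLin'_apply, Matrix.toLin'_apply (P : Matrix (Fin 3) (Fin 3) F) (b 1), hP, hP, a1]
  · rw [b2, Matrix.toLin'_apply, Matrix.toLin'_apply (P : Matrix (Fin 3) (Fin 3) F) (b 2), Matrix.mulVec_smul, hP, hP,
      a2]

variable [Fintype F]

theorem pow_eq_self_mem_range {L : Type*} [Field L] [Fintype L] [Algebra F L] {u : L}
    (hu : u ^ Fintype.card F = u) : ∃ c : F, algebraMap F L c = u := by
  classical
  by_contra hne
  push Not at hne
  have hp : (Polynomial.X ^ Fintype.card F - Polynomial.X : Polynomial L) ≠ 0 :=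
    FiniteField.X_pow_card_sub_X_ne_zero L Fintype.one_lt_card
  have hle : (insert u (Finset.univ.image (algebraMap F L))).val ⊆
      (Polynomial.X ^ Fintype.card F - Polynomial.X : Polynomial L).roots := by
    intro y hy
    rw [Polynomial.mem_roots hp]
    simp only [Finset.mem_val, Finset.mem_insert, Finset.mem_image, Finset.mem_univ, true_and] at hy
    rcases hy with rfl | ⟨c, rfl⟩
    · simp [hu]
    · simp [← map_pow, FiniteField.pow_card]
  have h1 := Polynomial.card_le_degree_of_subset_roots hle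
  rw [FiniteField.X_pow_card_sub_X_natDegree_eq L Fintype.one_lt_card, Finset.card_insert_of_notMem (by
      simp only [Finset.mem_image, Finset.mem_univ, true_and, not_exists]; exact hne),
    Finset.card_image_of_injective _ (algebraMap F L).injective, Finset.card_univ] at h1
  omega

/-- The field of matrices supplies a semilinear element for every cube and all determinants. -/
theorem normalizer_data (K : Subalgebra F (Matrix (Fin 3) (Fin 3) F)) (hK : Cfsg.Geo.IsFieldSubalgebra 3 K) :
    (∀ z : F, z ≠ 0 → ∃ Y : GL (Fin 3) F, Y ∈ Cfsg.Geo.subalgebraNormalizer K ∧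
      (Y : Matrix (Fin 3) (Fin 3) F) * Y * Y = z • 1 ∧ (∀ c : F, (Y : Matrix (Fin 3) (Fin 3) F) ≠ c • 1) ∧
      ∀ c : F, finrank F (LinearMap.ker (Matrix.toLin' (Y : Matrix (Fin 3) (Fin 3) F) - c • LinearMap.id)) ≤ 1) ∧
    (∀ d : F, d ≠ 0 → ∃ h : GL (Fin 3) F, h ∈ Cfsg.Geo.subalgebraNormalizer K ∧
      (h : Matrix (Fin 3) (Fin 3) F).det = d) := by
  classical
  letI : CommRing K := { (inferInstance : Ring K) with mul_comm := fun a b => Subtype.ext (hK.comm a a.2 b b.2) }
  haveI : Nontrivial K := inferInstance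
  have hfield : IsField K := by
    refine ⟨exists_pair_ne K, mul_comm, fun {a} ha => ?_⟩
    obtain ⟨y, hy, hxy⟩ := hK.inv a a.2 (fun h => ha (Subtype.ext h))
    exact ⟨⟨y, hy⟩, Subtype.ext hxy⟩
  letI : Field K := hfield.toField
  haveI : Fintype K := Fintype.ofFinite K
  have hfr : finrank F K = 3 := hK.finrank_eq
  set q := Fintype.card F
  have hcardK : Fintype.card K = q ^ 3 := by rw [Module.card_eq_pow_finrank (K := F) (V := K), hfr]
  have hq1 : 1 < q := Fintype.one_lt_card
  have hexp : (Nat.card K - 1) / (Nat.card F - 1) = 1 + q + q * q := by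
    rw [Nat.card_eq_fintype_card, Nat.card_eq_fintype_card, hcardK]
    refine Nat.div_eq_of_eq_mul_left (by omega) ?_
    obtain ⟨t, ht⟩ : ∃ t, q = t + 1 := ⟨q - 1, by omega⟩
    rw [show Fintype.card F = q from rfl, ht, Nat.add_sub_cancel,
      show (t + 1) ^ 3 = (1 + (t + 1) + (t + 1) * (t + 1)) * t + 1 by ring, Nat.add_sub_cancel]
  let e1 : K →ₗ[F] (Fin 3 → F) :=
    { toFun := fun k => (k : Matrix (Fin 3) (Fin 3) F) *ᵥ Pi.single 0 1
      map_add' := fun a b => Matrix.add_mulVec (a : Matrix (Fin 3) (Fin 3) F) (b : Matrix (Fin 3) (Fin 3) F) _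
      map_smul' := fun c a => Matrix.smul_mulVec c (a : Matrix (Fin 3) (Fin 3) F) _ }
  have he1 : Function.Injective e1 := by
    rw [injective_iff_map_eq_zero]
    intro k hk
    by_contra h
    have h2 := congrArg (((k⁻¹ : K) : Matrix (Fin 3) (Fin 3) F) *ᵥ ·) (show (k : Matrix (Fin 3) (Fin 3) F) *ᵥ Pi.single 0 1 = 0 from hk)
    simp only [Matrix.mulVec_mulVec, Matrix.mulVec_zero] at h2
    rw [show ((k⁻¹ : K) : Matrix (Fin 3) (Fin 3) F) * (k : Matrix (Fin 3) (Fin 3) F) = 1 from
      congrArg Subtype.val (inv_mul_cancel₀ h), Matrix.one_mulVec] at h2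
    simp at h2
  let e : K ≃ₗ[F] (Fin 3 → F) := LinearEquiv.ofBijective e1
    ⟨he1, (LinearMap.injective_iff_surjective_of_finrank_eq_finrank (by rw [hfr, finrank_pi, Fintype.card_fin])).1 he1⟩
  have hmul : ∀ a b : K, e (a * b) = (a : Matrix (Fin 3) (Fin 3) F) *ᵥ e b := fun a b => by
    show ((a : Matrix (Fin 3) (Fin 3) F) * (b : Matrix (Fin 3) (Fin 3) F)) *ᵥ Pi.single 0 1 = _
    rw [← Matrix.mulVec_mulVec]
    rfl
  constructor
  · intro z hz
    obtain ⟨a, ha⟩ := FiniteField.norm_surjective F K z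
    have haz : a * a ^ q * a ^ (q * q) = algebraMap F K z := by
      rw [← ha, FiniteField.algebraMap_norm_eq_pow, hexp, pow_add, pow_add, pow_one]
    have ha0 : a ≠ 0 := fun h => hz (by rw [← ha, h, Algebra.norm_zero])
    let σ : K →ₐ[F] K := FiniteField.frobeniusAlgHom F K
    have hσ : ∀ k, σ k = k ^ q := fun k => rfl
    let y0 : K →ₗ[F] K := LinearMap.mulLeft F a ∘ₗ σ.toLinearMap
    have hy0 : ∀ k, y0 k = a * k ^ q := fun k => rfl
    let Ym : Matrix (Fin 3) (Fin 3) F := LinearMap.toMatrix' (e.toLinearMap ∘ₗ y0 ∘ₗ e.symm.toLinearMap)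
    have hY : ∀ k, Ym *ᵥ e k = e (a * k ^ q) := fun k => by
      rw [← Matrix.toLin'_apply, Matrix.toLin'_toMatrix']
      simp [hy0]
    have hext : ∀ M M' : Matrix (Fin 3) (Fin 3) F, (∀ k, M *ᵥ e k = M' *ᵥ e k) → M = M' := fun M M' h =>
      Matrix.toLin'.injective (LinearMap.ext fun v => by
        obtain ⟨k, rfl⟩ := e.surjective v
        simpa [Matrix.toLin'_apply] using h k)
    have hY3 : Ym * Ym * Ym = z • 1 := hext _ _ fun k => by
      rw [← Matrix.mulVec_mulVec, ← Matrix.mulVec_mulVec, hY, hY, hY, Matrix.smul_mulVec, Matrix.one_mulVec,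
        ← map_smul, Algebra.smul_def, ← haz]
      congr 1
      have hk : (k ^ q) ^ q = k ^ (q * q) := by rw [← pow_mul]
      have hk3 : k ^ (q * q * q) = k := by
        rw [show q * q * q = Fintype.card K by rw [hcardK]; ring, FiniteField.pow_card]
      rw [mul_pow, mul_pow, mul_pow, ← pow_mul a, hk, ← pow_mul, ← mul_assoc, ← mul_assoc, hk3]
    have hdet : Ym.det ≠ 0 := fun h => by
      have := congrArg Matrix.det hY3
      rw [Matrix.det_mul, Matrix.det_mul, h, zero_mul, zero_mul, Matrix.det_smul, Matrix.det_one, mul_one,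
        Fintype.card_fin] at this
      exact pow_ne_zero 3 hz this.symm
    let Y : GL (Fin 3) F := Matrix.GeneralLinearGroup.mkOfDetNeZero Ym hdet
    have hYv : (Y : Matrix (Fin 3) (Fin 3) F) = Ym := rfl
    have hrel : ∀ k : K, Ym * (k : Matrix (Fin 3) (Fin 3) F) = ((k ^ q : K) : Matrix (Fin 3) (Fin 3) F) * Ym := fun k =>
      hext _ _ fun l => by
        rw [← Matrix.mulVec_mulVec, ← Matrix.mulVec_mulVec, ← hmul, hY, hY, ← hmul]
        congr 1
        rw [mul_pow]; ring
    have hinto : ∀ k ∈ K, Ym * k * ((Y⁻¹ : GL (Fin 3) F) : Matrix (Fin 3) (Fin 3) F) ∈ K := fun k hk => by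
      rw [hrel ⟨k, hk⟩, mul_assoc, ← hYv, ← Units.val_mul, mul_inv_cancel, Units.val_one, mul_one]
      exact Subtype.coe_prop _
    refine ⟨Y, fun k => ⟨hinto k, fun h => ?_⟩, hY3, fun c hc => ?_, fun c => ?_⟩
    · set Yi : Matrix (Fin 3) (Fin 3) F := ((Y⁻¹ : GL (Fin 3) F) : Matrix (Fin 3) (Fin 3) F)
      have h' := hinto _ (hinto _ h)
      rw [hYv] at h'
      have hYi3 : Ym * Ym * Ym * k * (Yi * Yi * Yi) = k := by
        have e2 : Yi * Yi * Yi = z⁻¹ • 1 := by
          have h0 : (Ym * Ym * Ym) * (Yi * Yi * Yi) = 1 := by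
            rw [← hYv, ← Units.val_mul, ← Units.val_mul, ← Units.val_mul, ← Units.val_mul, ← Units.val_mul,
              show Y * Y * Y * (Y⁻¹ * Y⁻¹ * Y⁻¹) = 1 by group, Units.val_one]
          rw [hY3, smul_mul_assoc, one_mul] at h0
          rw [← inv_smul_smul₀ hz (Yi * Yi * Yi), h0]
        rw [hY3, e2, smul_mul_assoc, one_mul, mul_smul_comm, mul_one, smul_smul, inv_mul_cancel₀ hz, one_smul]
      rw [show Ym * (Ym * (Ym * k * Yi) * Yi) * Yi = Ym * Ym * Ym * k * (Yi * Yi * Yi) by simp only [mul_assoc],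
        hYi3] at h'
      exact h'
    · -- not a scalar
      have h1 : ∀ k : K, a * k ^ q = c • k := fun k => e.injective (by
        rw [← hY, map_smul, show Ym = c • 1 from hc, Matrix.smul_mulVec, Matrix.one_mulVec])
      have ha1 := h1 1
      rw [one_pow, mul_one, Algebra.smul_def, mul_one] at ha1
      have hall : ∀ u : K, ∃ c' : F, algebraMap F K c' = u := fun u => pow_eq_self_mem_range (by
        have := h1 u
        rw [ha1, Algebra.smul_def] at this
        exact mul_left_cancel₀ (ha1 ▸ ha0) this)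
      have hle : Fintype.card K ≤ q := Fintype.card_le_of_surjective (algebraMap F K) hall
      rw [hcardK] at hle
      have : q * 1 < q * (q * q) := Nat.mul_lt_mul_of_pos_left (by nlinarith) (by omega)
      rw [show q ^ 3 = q * (q * q) by ring] at hle
      omega
    · by_contra hlt
      push Not at hlt
      set E := LinearMap.ker (Matrix.toLin' (Y : Matrix (Fin 3) (Fin 3) F) - c • LinearMap.id)
      have hE : ∀ v ∈ E, Ym *ᵥ v = c • v := fun v hv => by
        have : (Y : Matrix (Fin 3) (Fin 3) F) *ᵥ v = c • v := by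
          simpa [E, sub_eq_zero, Matrix.toLin'_apply] using hv
        exact this
      have hEne : E ≠ ⊥ := fun h => by rw [h, finrank_bot] at hlt; omega
      obtain ⟨v, hv, hv0⟩ := E.ne_bot_iff.1 hEne
      obtain ⟨k, rfl⟩ := e.surjective v
      have hk0 : k ≠ 0 := fun h => hv0 (by rw [h, map_zero])
      have hkq : a * k ^ q = c • k := e.injective (by rw [← hY, map_smul]; exact hE _ hv)
      have hle : E ≤ F ∙ e k := by
        intro w hw
        obtain ⟨l, rfl⟩ := e.surjective w
        have hlq : a * l ^ q = c • l := e.injective (by rw [← hY, map_smul]; exact hE _ hw)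
        obtain ⟨c', hc'⟩ := pow_eq_self_mem_range (F := F) (u := l / k) (by
          rw [div_pow]
          have hkq0 : k ^ q ≠ 0 := pow_ne_zero _ hk0
          rw [div_eq_div_iff hkq0 hk0]
          rw [Algebra.smul_def] at hkq hlq
          refine mul_left_cancel₀ ha0 ?_
          linear_combination k * hlq - l * hkq)
        refine Submodule.mem_span_singleton.2 ⟨c', ?_⟩
        rw [← map_smul, Algebra.smul_def, hc', div_mul_cancel₀ _ hk0]
      have := (Submodule.finrank_mono hle).trans (finrank_span_le_card _)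
      simp at this
      omega
  · intro d hd
    obtain ⟨k, hk⟩ := FiniteField.norm_surjective F K d
    have hdet : (k : Matrix (Fin 3) (Fin 3) F).det = d := by
      rw [← LinearMap.det_toLin', ← hk, Algebra.norm_apply,
        show Matrix.toLin' (k : Matrix (Fin 3) (Fin 3) F) = e.toLinearMap ∘ₗ Algebra.lmul F K k ∘ₗ e.symm.toLinearMap from ?_,
        LinearMap.det_conj]
      refine LinearMap.ext fun v => ?_
      obtain ⟨l, rfl⟩ := e.surjective v
      simp [hmul]
    let g : GL (Fin 3) F := Matrix.GeneralLinearGroup.mkOfDetNeZero (k : Matrix (Fin 3) (Fin 3) F) (hdet ▸ hd)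
    refine ⟨g, ?_, hdet⟩
    intro l
    constructor
    · intro hl
      show (g : Matrix (Fin 3) (Fin 3) F) * l * _ ∈ K
      rw [show (g : Matrix (Fin 3) (Fin 3) F) * l = l * (g : Matrix (Fin 3) (Fin 3) F) from hK.comm _ k.2 _ hl,
        mul_assoc, ← Units.val_mul, mul_inv_cancel, Units.val_one, mul_one]
      exact hl
    · intro hl
      set Gi : Matrix (Fin 3) (Fin 3) F := ((g⁻¹ : GL (Fin 3) F) : Matrix (Fin 3) (Fin 3) F)
      set Gm : Matrix (Fin 3) (Fin 3) F := (g : Matrix (Fin 3) (Fin 3) F)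
      have hgg : Gi * Gm = 1 := by rw [← Units.val_mul, inv_mul_cancel, Units.val_one]
      have h1 : Gm * (Gm * l * Gi) = (Gm * l * Gi) * Gm := hK.comm _ k.2 _ hl
      have h2 : l = Gm * l * Gi :=
        calc l = Gi * Gm * l * (Gi * Gm) := by rw [hgg, one_mul, mul_one]
          _ = Gi * ((Gm * l * Gi) * Gm) := by simp only [mul_assoc]
          _ = Gi * Gm * (Gm * l * Gi) := by rw [← h1]; simp only [mul_assoc]
          _ = Gm * l * Gi := by rw [hgg, one_mul]
      exact h2.symm ▸ hl

theorem exists_conj_normalizer (K : Subalgebra F (Matrix (Fin 3) (Fin 3) F)) (hK : Cfsg.Geo.IsFieldSubalgebra 3 K)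
    (x : Matrix.SpecialLinearGroup (Fin 3) F) {z : F}
    (hx : ((x ^ 3 : Matrix.SpecialLinearGroup (Fin 3) F) : Matrix (Fin 3) (Fin 3) F) = z • 1)
    (hns : ∀ c : F, (x : Matrix (Fin 3) (Fin 3) F) ≠ c • 1)
    (heig : ∀ c : F, finrank F (LinearMap.ker (Matrix.toLin' (x : Matrix (Fin 3) (Fin 3) F) - c • LinearMap.id)) ≤ 1) :
    ∃ P : Matrix.SpecialLinearGroup (Fin 3) F,
      P⁻¹ * x * P ∈ (Cfsg.Geo.subalgebraNormalizer K).comap Matrix.SpecialLinearGroup.toGL := by
  classical
  obtain ⟨hsemi, hdetK⟩ := normalizer_data K hK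
  set A : Matrix (Fin 3) (Fin 3) F := x.1 with hA
  have hA3 : A * A * A = z • 1 := by rw [← hx, pow_succ, pow_two]; rfl
  have hz : z ≠ 0 := fun h => by
    have := congrArg Matrix.det hA3
    rw [Matrix.det_mul, Matrix.det_mul, show A.det = 1 from x.2, h, zero_smul, Matrix.det_zero, mul_one, one_mul] at this
    exact one_ne_zero this
  obtain ⟨Y, hY, hY3, hYn, hYe⟩ := hsemi z hz
  obtain ⟨P, hP⟩ := exists_conj_cyclic A (Y : Matrix (Fin 3) (Fin 3) F) z hA3 hY3 hns hYn heig hYe
  obtain ⟨h, hh, hhd⟩ := hdetK (P : Matrix (Fin 3) (Fin 3) F).det⁻¹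
    (inv_ne_zero ((Matrix.isUnit_iff_isUnit_det _).1 P.isUnit).ne_zero)
  have hdet : ((P : Matrix (Fin 3) (Fin 3) F) * (h : Matrix (Fin 3) (Fin 3) F)).det = 1 := by
    rw [Matrix.det_mul, hhd, mul_inv_cancel₀ ((Matrix.isUnit_iff_isUnit_det _).1 P.isUnit).ne_zero]
  let P' : Matrix.SpecialLinearGroup (Fin 3) F := ⟨_, hdet⟩
  refine ⟨P', ?_⟩
  rw [Subgroup.mem_comap, InvClass.toGL_conj]
  convert mul_mem (mul_mem (inv_mem hh) hY) hh using 1
  rw [mul_assoc, inv_mul_eq_iff_eq_mul]
  ext1
  simp only [Units.val_mul]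
  show A * ((P : Matrix (Fin 3) (Fin 3) F) * (h : Matrix (Fin 3) (Fin 3) F)) =
    (P : Matrix (Fin 3) (Fin 3) F) * (h : Matrix (Fin 3) (Fin 3) F) *
      (((h⁻¹ : GL (Fin 3) F) : Matrix (Fin 3) (Fin 3) F) * (Y : Matrix (Fin 3) (Fin 3) F) * (h : Matrix (Fin 3) (Fin 3) F))
  simp only [← mul_assoc]
  rw [mul_assoc _ (h : Matrix (Fin 3) (Fin 3) F) ((h⁻¹ : GL (Fin 3) F) : Matrix (Fin 3) (Fin 3) F), ← Units.val_mul,
    mul_inv_cancel, Units.val_one, mul_one, hP]

/-- A map fixing a plane pointwise up to a scalar does not normalise a cubic field. -/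
theorem not_normalizes (K : Subalgebra F (Matrix (Fin 3) (Fin 3) F)) (hK : Cfsg.Geo.IsFieldSubalgebra 3 K)
    (x : Matrix.SpecialLinearGroup (Fin 3) F) (c : F) (i₀ : Fin 3)
    (hfix : ∀ v : Fin 3 → F, v i₀ = 0 → (x : Matrix (Fin 3) (Fin 3) F) *ᵥ v = c • v)
    (hns : ∀ a : F, (x : Matrix (Fin 3) (Fin 3) F) ≠ a • 1) (P : GL (Fin 3) F) :
    P⁻¹ * Matrix.SpecialLinearGroup.toGL x * P ∉ Cfsg.Geo.subalgebraNormalizer K := by
  classical
  intro hy
  set y : GL (Fin 3) F := P⁻¹ * Matrix.SpecialLinearGroup.toGL x * P with hyd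
  set A : Matrix (Fin 3) (Fin 3) F := x.1
  set Pm : Matrix (Fin 3) (Fin 3) F := (P : Matrix (Fin 3) (Fin 3) F)
  set Pi' : Matrix (Fin 3) (Fin 3) F := ((P⁻¹ : GL (Fin 3) F) : Matrix (Fin 3) (Fin 3) F)
  have hyv : (y : Matrix (Fin 3) (Fin 3) F) = Pi' * A * Pm := by rw [hyd, Units.val_mul, Units.val_mul]; rfl
  let φ : (Fin 3 → F) →ₗ[F] F := LinearMap.proj i₀ ∘ₗ Matrix.toLin' Pm
  have hyfix : ∀ v, φ v = 0 → (y : Matrix (Fin 3) (Fin 3) F) *ᵥ v = c • v := fun v hv => by
    rw [hyv, ← Matrix.mulVec_mulVec, ← Matrix.mulVec_mulVec, hfix _ hv, Matrix.mulVec_smul, Matrix.mulVec_mulVec,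
      ← Units.val_mul, inv_mul_cancel, Units.val_one, Matrix.one_mulVec]
  have hcomm : ∀ k ∈ K, (y : Matrix (Fin 3) (Fin 3) F) * k = k * y := by
    intro J₀ hJ₀
    set j := (y : Matrix (Fin 3) (Fin 3) F) * J₀ * ((y⁻¹ : GL (Fin 3) F) : Matrix (Fin 3) (Fin 3) F)
    have hj : j ∈ K := (hy J₀).1 hJ₀
    have hjy : (y : Matrix (Fin 3) (Fin 3) F) * J₀ = j * y := by
      simp only [j, mul_assoc, ← Units.val_mul, inv_mul_cancel, Units.val_one, mul_one]
    obtain ⟨v, hv, hv0⟩ := (Submodule.ne_bot_iff _).1 (LinearMap.ker_ne_bot_of_finrank_lt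
      (f := φ.prod (φ ∘ₗ Matrix.toLin' J₀)) (by simp [finrank_pi]))
    simp only [LinearMap.mem_ker, LinearMap.prod_apply, Function.prod, Prod.mk_eq_zero, LinearMap.comp_apply,
      Matrix.toLin'_apply] at hv
    have hJj : j = J₀ := by
      by_contra hne
      have h1 : (j - J₀) *ᵥ (c • v) = 0 := by
        have h3 := congrArg (· *ᵥ v) hjy
        simp only [← Matrix.mulVec_mulVec, hyfix v hv.1, hyfix _ hv.2] at h3
        rw [Matrix.sub_mulVec, ← h3, Matrix.mulVec_smul, sub_self]
      obtain ⟨w, -, hw⟩ := hK.inv _ (K.sub_mem hj hJ₀) (sub_ne_zero.2 hne)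
      have h2 := congrArg (w *ᵥ ·) h1
      simp only [Matrix.mulVec_mulVec, mul_eq_one_comm.1 hw, Matrix.one_mulVec, Matrix.mulVec_zero, smul_eq_zero] at h2
      rcases h2 with h2 | h2
      · have h4 := hyfix v hv.1
        rw [h2, zero_smul] at h4
        have h5 := congrArg (((y⁻¹ : GL (Fin 3) F) : Matrix (Fin 3) (Fin 3) F) *ᵥ ·) h4
        simp only [Matrix.mulVec_mulVec, ← Units.val_mul, inv_mul_cancel, Units.val_one, Matrix.one_mulVec,
          Matrix.mulVec_zero] at h5
        exact hv0 h5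
      · exact hv0 h2
    rw [hJj] at hjy
    exact hjy
  obtain ⟨v, hv, hv0⟩ := (Submodule.ne_bot_iff _).1 (LinearMap.ker_ne_bot_of_finrank_lt (f := φ) (by
    simp [finrank_pi]))
  rw [LinearMap.mem_ker] at hv
  let e1 : K →ₗ[F] (Fin 3 → F) :=
    { toFun := fun k => (k : Matrix (Fin 3) (Fin 3) F) *ᵥ v
      map_add' := fun a b => Matrix.add_mulVec (a : Matrix (Fin 3) (Fin 3) F) (b : Matrix (Fin 3) (Fin 3) F) _
      map_smul' := fun c a => Matrix.smul_mulVec c (a : Matrix (Fin 3) (Fin 3) F) _ }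
  have he1 : Function.Injective e1 := by
    rw [injective_iff_map_eq_zero]
    intro k hk
    by_contra h
    obtain ⟨w, -, hw⟩ := hK.inv _ k.2 (fun h0 => h (Subtype.ext h0))
    have h2 := congrArg (w *ᵥ ·) (show (k : Matrix (Fin 3) (Fin 3) F) *ᵥ v = 0 from hk)
    simp only [Matrix.mulVec_mulVec, mul_eq_one_comm.1 hw, Matrix.one_mulVec, Matrix.mulVec_zero] at h2
    exact hv0 h2
  have hsurj : Function.Surjective e1 := (LinearMap.injective_iff_surjective_of_finrank_eq_finrank
    (by rw [finrank_pi, Fintype.card_fin]; exact hK.finrank_eq)).1 he1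
  refine hns c ?_
  have hy1 : (y : Matrix (Fin 3) (Fin 3) F) = c • 1 := Matrix.toLin'.injective (LinearMap.ext fun w => by
    obtain ⟨k, rfl⟩ := hsurj w
    show Matrix.toLin' (y : Matrix (Fin 3) (Fin 3) F) ((k : Matrix (Fin 3) (Fin 3) F) *ᵥ v) = _
    rw [map_smul, Matrix.toLin'_one, Matrix.toLin'_apply, LinearMap.smul_apply, LinearMap.id_apply,
      Matrix.mulVec_mulVec, hcomm _ k.2, ← Matrix.mulVec_mulVec, hyfix v hv, Matrix.mulVec_smul]
    rfl)
  have hPP' : Pm * Pi' = 1 := by rw [← Units.val_mul, mul_inv_cancel, Units.val_one]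
  calc A = Pm * Pi' * A * (Pm * Pi') := by rw [hPP', one_mul, mul_one]
    _ = Pm * (y : Matrix (Fin 3) (Fin 3) F) * Pi' := by rw [hyv]; simp only [mul_assoc]
    _ = c • 1 := by rw [hy1, mul_smul_comm, mul_one, smul_mul_assoc, hPP']

end CfsgLib.Geo.ThreeSinger

namespace CfsgLib.Geo.ThreeSinger

open Module Matrix CfsgLib.Geo.PrimeAct

variable {F : Type*} [Field F] [Fintype F]

theorem natCast_three_eq_zero_iff : ((3 : ℕ) : F) = 0 ↔ Fintype.card F % 3 = 0 := by
  constructor
  · intro h
    haveI : Fact (Nat.Prime 3) := ⟨Nat.prime_three⟩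
    obtain ⟨p, hp⟩ := CharP.exists F
    haveI hpF : Fact p.Prime := ⟨CharP.char_is_prime F p⟩
    have h3 : p = 3 := (Nat.prime_dvd_prime_iff_eq hpF.out Nat.prime_three).1 ((CharP.cast_eq_zero_iff F p 3).1 h)
    obtain ⟨f, -, hf⟩ := FiniteField.card F p
    rw [hf, h3]
    exact Nat.mod_eq_zero_of_dvd (dvd_pow_self 3 f.ne_zero)
  · intro h
    obtain ⟨p, hp⟩ := CharP.exists F
    haveI hpF : Fact p.Prime := ⟨CharP.char_is_prime F p⟩
    obtain ⟨f, -, hf⟩ := FiniteField.card F p
    have h3 : p = 3 := ((Nat.prime_dvd_prime_iff_eq Nat.prime_three hpF.out).1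
      (Nat.prime_three.dvd_of_dvd_pow (hf ▸ Nat.dvd_of_mod_eq_zero h))).symm
    exact (CharP.cast_eq_zero_iff F p 3).2 (by rw [h3])

theorem eigen_small (hq : Fintype.card F % 9 = 4 ∨ Fintype.card F % 9 = 7 ∨ Fintype.card F % 9 = 8)
    (x : Matrix.SpecialLinearGroup (Fin 3) F) {z : F}
    (hx : ((x ^ 3 : Matrix.SpecialLinearGroup (Fin 3) F) : Matrix (Fin 3) (Fin 3) F) = z • 1)
    (hns : ∀ c : F, (x : Matrix (Fin 3) (Fin 3) F) ≠ c • 1) (c : F) :
    finrank F (LinearMap.ker (Matrix.toLin' (x : Matrix (Fin 3) (Fin 3) F) - c • LinearMap.id)) ≤ 1 := by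
  classical
  haveI : Fact (Nat.Prime 3) := ⟨Nat.prime_three⟩
  have h3 : ((3 : ℕ) : F) ≠ 0 := fun h => by
    have := natCast_three_eq_zero_iff.1 h
    omega
  by_contra hlt
  push Not at hlt
  set A : Matrix (Fin 3) (Fin 3) F := x.1
  set T := Matrix.toLin' A with hTdef
  have hA3 : A * A * A = z • 1 := by rw [← hx, pow_succ, pow_two]; rfl
  have hTT : ∀ v, T (T (T v)) = z • v := fun v => by
    simp only [hTdef, Matrix.toLin'_apply, Matrix.mulVec_mulVec, ← mul_assoc, hA3, Matrix.smul_mulVec, Matrix.one_mulVec]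
  obtain ⟨v, hv, hv0⟩ := (LinearMap.ker (T - c • LinearMap.id)).ne_bot_iff.1 (fun h => by
    rw [h, finrank_bot] at hlt; omega)
  have hTv : T v = c • v := by simpa [sub_eq_zero] using hv
  have hzc : c ^ 3 = z := by
    have := hTT v
    rw [hTv, map_smul, hTv, map_smul, map_smul, hTv, smul_smul, smul_smul] at this
    rw [← smul_left_injective F hv0 this]
    ring
  have hc0 : c ≠ 0 := fun h => by
    have := congrArg Matrix.det hA3
    rw [Matrix.det_mul, Matrix.det_mul, show A.det = 1 from x.2, ← hzc, h, zero_pow three_ne_zero, zero_smul,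
      Matrix.det_zero, mul_one, one_mul] at this
    exact one_ne_zero this
  let S : (Fin 3 → F) →ₗ[F] (Fin 3 → F) := c⁻¹ • T
  have hS3 : S ^ 3 = 1 := LinearMap.ext fun w => by
    simp only [S, LinearMap.smul_apply, pow_succ, pow_zero, one_mul, Module.End.mul_apply, map_smul, hTT,
      Module.End.one_apply, smul_smul]
    rw [← hzc]
    field_simp
    exact one_smul F w
  have hfix : fixSp S = LinearMap.ker (T - c • LinearMap.id) := by
    ext w
    rw [mem_fixSp, LinearMap.mem_ker, LinearMap.sub_apply, sub_eq_zero, LinearMap.smul_apply, LinearMap.smul_apply,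
      LinearMap.id_apply, inv_smul_eq_iff₀ hc0]
  have hsplit := finrank_split hS3 h3 ⊤ fun _ _ => Submodule.mem_top
  have hdvd := orderOf_dvd_finrank_inf_rest hS3 h3 ⊤ fun _ _ => Submodule.mem_top
  rw [top_inf_eq] at hdvd hsplit
  rw [top_inf_eq, finrank_top, finrank_pi, Fintype.card_fin, hfix] at hsplit
  rcases Nat.eq_zero_or_pos (finrank F (restSp 3 S)) with h0 | h0
  · refine hns c (Matrix.toLin'.injective (LinearMap.ext fun w => ?_))
    have htop : LinearMap.ker (T - c • LinearMap.id) = ⊤ :=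
      Submodule.eq_top_of_finrank_eq (by rw [finrank_pi, Fintype.card_fin]; omega)
    have : w ∈ LinearMap.ker (T - c • LinearMap.id) := htop ▸ Submodule.mem_top
    rw [LinearMap.mem_ker, LinearMap.sub_apply, sub_eq_zero] at this
    rw [map_smul, Matrix.toLin'_one]
    exact this
  have hr1 : finrank F (restSp 3 S) = 1 := by omega
  rw [hr1, Nat.dvd_one, orderOf_eq_one_iff] at hdvd
  have hq3 : Fintype.card F % 3 = 1 := by
    have h := (ZMod.natCast_eq_natCast_iff (Nat.card F) 1 3).1 (by rw [hdvd, Nat.cast_one])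
    rw [Nat.card_eq_fintype_card] at h
    exact h
  obtain ⟨⟨w, hwR⟩, hw0, hall⟩ := finrank_eq_one_iff'.1 hr1
  obtain ⟨ω, hω⟩ := hall ⟨S w, restSp_invariant hS3 w hwR⟩
  have hSw : S w = ω • w := (congrArg Subtype.val hω).symm
  have hw0' : w ≠ 0 := fun h => hw0 (Subtype.ext h)
  have hω1 : ω ≠ 1 := fun h => hw0' (free_of_le_rest h3 hwR (by rw [hSw, h, one_smul]))
  have hω3 : ω ^ 3 = 1 := by
    have h4 : (S ^ 3) w = w := by rw [hS3]; rfl
    rw [pow_succ, pow_two, Module.End.mul_apply, Module.End.mul_apply, hSw, map_smul, hSw, map_smul, map_smul, hSw,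
      smul_smul, smul_smul] at h4
    refine smul_left_injective F hw0' ?_
    show ω ^ 3 • w = (1 : F) • w
    rw [one_smul, pow_succ, pow_two]
    exact h4
  have hcompl : IsCompl (fixSp S) (restSp 3 S) := by
    refine ⟨disjoint_iff.2 (disjoint_fix_rest h3), codisjoint_iff.2 (Submodule.eq_top_of_finrank_eq ?_)⟩
    have := Submodule.finrank_sup_add_finrank_inf_eq (fixSp S) (restSp 3 S)
    rw [disjoint_fix_rest h3, finrank_bot, add_zero] at this
    rw [this, hfix, hsplit, finrank_pi, Fintype.card_fin]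
  let bR : Basis (Fin 1) F (restSp 3 S) := Module.finBasisOfFinrankEq F _ hr1
  let bS := ((Module.finBasis F (fixSp S)).prod bR).map (Submodule.prodEquivOfIsCompl _ _ hcompl)
  have hdetS : LinearMap.det S = ω := by
    rw [InvClass.det_of_diag bS S (Sum.elim (fun _ => 1) (fun _ => ω)) (by
      rintro (i | i)
      · rw [Sum.elim_inl, one_smul]
        exact mem_fixSp.1 (by simp [bS])
      · obtain ⟨a, ha⟩ := hall (bR i)
        have : ((bR i : restSp 3 S) : Fin 3 → F) = a • w := (congrArg Subtype.val ha).symm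
        simp only [bS, Basis.map_apply, Basis.prod_apply_inr_fst, Basis.prod_apply_inr_snd,
          Submodule.coe_prodEquivOfIsCompl', Submodule.coe_zero, zero_add, Sum.elim_inr]
        rw [this, map_smul, hSw, smul_comm])]
    simp
  have hdetT : LinearMap.det S = (c⁻¹) ^ 3 := by
    rw [LinearMap.det_smul, hTdef, LinearMap.det_toLin', show A.det = 1 from x.2, mul_one, finrank_pi, Fintype.card_fin]
  have hc3 : c ^ 3 ≠ 1 := fun h => hω1 (by rw [← hdetS, hdetT, inv_pow, h, inv_one])
  have hc9 : c ^ 9 = 1 := by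
    rw [← hdetS, hdetT] at hω3
    rw [inv_pow, inv_pow, inv_eq_one, ← pow_mul] at hω3
    exact hω3
  have hord : orderOf (Units.mk0 c hc0) = 9 := orderOf_eq_prime_pow (p := 3) (n := 1)
    (fun h => hc3 (by simpa using congrArg Units.val h))
    (Units.ext (by simpa using hc9))
  have hdvd9 := orderOf_dvd_card (x := Units.mk0 c hc0)
  rw [hord, Fintype.card_units] at hdvd9
  omega

theorem exists_bad (hq : Fintype.card F % 3 = 0 ∨ Fintype.card F % 9 = 1) :
    ∃ (x : Matrix.SpecialLinearGroup (Fin 3) F) (z c : F) (i₀ : Fin 3),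
      ((x ^ 3 : Matrix.SpecialLinearGroup (Fin 3) F) : Matrix (Fin 3) (Fin 3) F) = z • 1 ∧
      (∀ a : F, (x : Matrix (Fin 3) (Fin 3) F) ≠ a • 1) ∧
      ∀ v : Fin 3 → F, v i₀ = 0 → (x : Matrix (Fin 3) (Fin 3) F) *ᵥ v = c • v := by
  classical
  rcases hq with hq | hq
  · have h3 : (3 : F) = 0 := by exact_mod_cast natCast_three_eq_zero_iff.2 hq
    have h01 : (1 : Fin 3) ≠ 0 := by decide
    let x : Matrix.SpecialLinearGroup (Fin 3) F :=
      ⟨Matrix.transvection 1 0 1, Matrix.det_transvection_of_ne _ _ h01 _⟩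
    refine ⟨x, 1, 1, 0, ?_, fun a ha => ?_, fun v hv => ?_⟩
    · rw [pow_succ, pow_two, one_smul]
      show Matrix.transvection (1 : Fin 3) 0 (1 : F) * Matrix.transvection 1 0 1 * Matrix.transvection 1 0 1 = 1
      rw [Matrix.transvection_mul_transvection_same _ _ h01, Matrix.transvection_mul_transvection_same _ _ h01,
        show (1 : F) + 1 + 1 = 0 by linear_combination h3, Matrix.transvection_zero]
    · have := congrFun (congrFun ha 1) 0
      simp [x, Matrix.transvection, h01] at this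
    · rw [one_smul]
      show Matrix.transvection (1 : Fin 3) 0 (1 : F) *ᵥ v = v
      rw [Matrix.transvection, Matrix.add_mulVec, Matrix.one_mulVec, Matrix.single_mulVec, hv]
      simp
  · haveI : Fact (Nat.Prime 3) := ⟨Nat.prime_three⟩
    obtain ⟨g, hg, -⟩ := exists_generator (F := F)
    obtain ⟨m, hm⟩ : 9 ∣ Fintype.card F - 1 := by omega
    have hm0 : 0 < m := by
      have : 1 < Fintype.card F := Fintype.one_lt_card
      omega
    set c : F := ((g ^ m : Fˣ) : F)
    have hc9 : c ^ 9 = 1 := by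
      rw [← Units.val_pow_eq_pow_val, ← pow_mul, mul_comm, ← hm, ← hg, pow_orderOf_eq_one, Units.val_one]
    have hc3 : c ^ 3 ≠ 1 := fun h => by
      rw [← Units.val_pow_eq_pow_val, ← pow_mul, ← Units.val_one, Units.val_inj] at h
      have := Nat.le_of_dvd (by omega) (orderOf_dvd_of_pow_eq_one h)
      rw [hg, hm] at this
      omega
    have hc0 : c ≠ 0 := Units.ne_zero _
    let d : Fin 3 → F := fun i => if i = 0 then c ^ 7 else c
    have hdet : (Matrix.diagonal d).det = 1 := by
      rw [Matrix.det_diagonal, Fin.prod_univ_three]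
      simp [d]
      linear_combination hc9
    let x : Matrix.SpecialLinearGroup (Fin 3) F := ⟨_, hdet⟩
    refine ⟨x, c ^ 3, c, 0, ?_, fun z hz => ?_, fun v hv => ?_⟩
    · rw [pow_succ, pow_two]
      show Matrix.diagonal d * Matrix.diagonal d * Matrix.diagonal d = _
      rw [Matrix.diagonal_mul_diagonal, Matrix.diagonal_mul_diagonal, ← Matrix.diagonal_one, ← Matrix.diagonal_smul]
      congr 1
      funext i
      simp only [d, Pi.smul_apply, smul_eq_mul, mul_one]
      split_ifs
      · linear_combination (c ^ 12 + c ^ 3) * hc9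
      · ring
    · have e0 := congrFun (congrFun hz 0) 0
      have e1 := congrFun (congrFun hz 1) 1
      simp [x, d] at e0 e1
      have e2 : c ^ 6 = 1 := mul_left_cancel₀ hc0 (by linear_combination e0 - e1)
      exact hc3 (by linear_combination hc9 - c ^ 3 * e2)
    · funext i
      show (Matrix.diagonal d *ᵥ v) i = c * v i
      rw [Matrix.mulVec_diagonal]
      by_cases hi : i = 0
      · simp [hi, hv]
      · simp [d, hi]

/-- In the remaining residues the index is prime to three. -/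
theorem not_three_dvd_index (hq : Fintype.card F % 9 = 2 ∨ Fintype.card F % 9 = 5)
    (K : Subalgebra F (Matrix (Fin 3) (Fin 3) F)) (hK : Cfsg.Geo.IsFieldSubalgebra 3 K) :
    ¬ 3 ∣ ((Cfsg.Geo.subalgebraNormalizer K).comap
      (Matrix.SpecialLinearGroup.toGL : Matrix.SpecialLinearGroup (Fin 3) F →* GL (Fin 3) F)).index := by
  classical
  haveI : Fact (Nat.Prime 3) := ⟨Nat.prime_three⟩
  intro hdvd
  set H := (Cfsg.Geo.subalgebraNormalizer K).comap
      (Matrix.SpecialLinearGroup.toGL : Matrix.SpecialLinearGroup (Fin 3) F →* GL (Fin 3) F)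
  obtain ⟨hsemi, -⟩ := normalizer_data K hK
  obtain ⟨Y, hY, hY3, hYn, -⟩ := hsemi 1 one_ne_zero
  rw [one_smul] at hY3
  set Ym : Matrix (Fin 3) (Fin 3) F := (Y : Matrix (Fin 3) (Fin 3) F)
  have hdet : Ym.det = 1 := by
    have h := congrArg Matrix.det hY3
    rw [Matrix.det_mul, Matrix.det_mul, Matrix.det_one] at h
    have hd0 : Ym.det ≠ 0 := ((Matrix.isUnit_iff_isUnit_det _).1 Y.isUnit).ne_zero
    have h3 : Units.mk0 _ hd0 ^ 3 = 1 := Units.ext (by simpa [pow_succ] using h)
    by_contra hne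
    have ho : orderOf (Units.mk0 _ hd0) = 3 := orderOf_eq_prime h3 fun h' => hne (congrArg Units.val h')
    have h4 := orderOf_dvd_card (x := Units.mk0 _ hd0)
    rw [ho, Fintype.card_units] at h4
    omega
  let y : Matrix.SpecialLinearGroup (Fin 3) F := ⟨Ym, hdet⟩
  have hyH : y ∈ H := by
    rw [Subgroup.mem_comap]
    convert hY using 1
    exact Units.ext rfl
  have hord : orderOf (⟨y, hyH⟩ : H) = 3 := by
    refine orderOf_eq_prime (Subtype.ext (Subtype.ext ?_)) fun h => hYn 1 ?_
    · show ((y ^ 3 : Matrix.SpecialLinearGroup (Fin 3) F) : Matrix (Fin 3) (Fin 3) F) = 1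
      rw [pow_succ, pow_two]
      exact hY3
    · rw [one_smul]
      exact congrArg (fun g : H => ((g : Matrix.SpecialLinearGroup (Fin 3) F) : Matrix (Fin 3) (Fin 3) F)) h
  have h3H : 3 ∣ Nat.card H := hord.symm.dvd.trans (orderOf_dvd_natCard _)
  have h9 : 9 ∣ Nat.card (Matrix.SpecialLinearGroup (Fin 3) F) * (Fintype.card F - 1) := by
    refine dvd_mul_of_dvd_left ?_ _
    rw [← Subgroup.card_mul_index H]
    exact mul_dvd_mul h3H hdvd
  rw [InvClass.card_SL_mul (by norm_num), Matrix.card_GL_field, Fin.prod_univ_three] at h9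
  simp only [Fin.val_zero, Fin.val_one, Fin.val_two, pow_zero, pow_one] at h9
  set q := Fintype.card F
  have h1 : 1 ≤ q ^ 3 := Nat.one_le_pow _ _ Fintype.card_pos
  have h2 : q ≤ q ^ 3 := Nat.le_self_pow (by norm_num) q
  have h4 : q ^ 2 ≤ q ^ 3 := Nat.pow_le_pow_right Fintype.card_pos (by norm_num)
  have h := (ZMod.natCast_eq_zero_iff _ 9).2 h9
  rw [Nat.cast_mul, Nat.cast_mul, Nat.cast_sub h1, Nat.cast_sub h2, Nat.cast_sub h4] at h
  push_cast at h
  have hq' : (q : ZMod 9) = ((q % 9 : ℕ) : ZMod 9) := (ZMod.natCast_mod q 9).symm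
  rw [hq'] at h
  rcases hq with h' | h' <;> rw [h'] at h <;> exact absurd h (by decide)

end CfsgLib.Geo.ThreeSinger
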