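/-
Elements of order three in characteristic three and subfield subgroups of the special linear group.
-/
import Mathlib
import Cfsg.Prelude.Def_GeometricClasses
import Cfsg.Agent.Lib.Geo.SubfieldMaximal
import Cfsg.Agent.Lib.Geo.InvolutionClasses
import Cfsg.Agent.Lib.Geo.UnipotentType
import Cfsg.Agent.Lib.Known.Jordan

namespace CfsgLib.Geo.ThreeSubfield

open Module Matrix

variable {F : Type*} [Field F] [Fintype F] [CharP F 3]

theorem cube_bijective : Function.Bijective fun a : F => a ^ 3 := by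
  haveI : Fact (Nat.Prime 3) := ⟨Nat.prime_three⟩
  have h : Function.Injective fun a : F => a ^ 3 := fun a b h => by
    apply frobenius_inj F 3
    simpa [frobenius_def] using h
  exact h.bijective_of_finite

omit [CharP F 3] in
/-- A matrix with nilpotent part conjugates into the subfield group. -/
theorem exists_conj_nilpotent {n : ℕ} (F₀ : Subfield F) (X : GL (Fin n) F) {c : F} (hc : c ≠ 0)
    (N : Matrix (Fin n) (Fin n) F) (hX : (X : Matrix (Fin n) (Fin n) F) = c • (1 + N)) {m : ℕ} (hN : N ^ m = 0) :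
    ∃ P : GL (Fin n) F, P⁻¹ * X * P ∈ Cfsg.Geo.subfieldSubgroup F₀ 1 := by
  classical
  have hN' : (Matrix.toLinAlgEquiv' N) ^ m = 0 := by rw [← map_pow, hN, map_zero]
  obtain ⟨s, k, e, -, he⟩ := NilType.exists_model (Matrix.toLinAlgEquiv' N) hN'
  let ι := Σ i, Fin (k i)
  let b : Basis ι F (Fin n → F) := (Pi.basisFun F ι).map e.symm
  let φ : Fin n ≃ ι := (finCongr (by
    have := finrank_eq_card_basis b
    rwa [finrank_pi, Fintype.card_fin] at this)).trans (Fintype.equivFin ι).symm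
  obtain ⟨P, hP⟩ := InvClass.exists_basis_change (Pi.basisFun F (Fin n)) (b.reindex φ.symm)
  refine ⟨P, SubfieldMax.mem_subfieldSubgroup_one hc fun i j => ?_⟩
  have hPj : ∀ j, (P : Matrix (Fin n) (Fin n) F) *ᵥ Pi.single j 1 = b (φ j) := fun j => by
    have := hP j
    rwa [Pi.basisFun_apply, Basis.reindex_apply, Equiv.symm_symm] at this
  have hPinv : ∀ x : ι, ((P⁻¹ : GL (Fin n) F) : Matrix (Fin n) (Fin n) F) *ᵥ b x = Pi.single (φ.symm x) 1 := fun x => by
    rw [← φ.apply_symm_apply x, ← hPj, Matrix.mulVec_mulVec, ← Units.val_mul, inv_mul_cancel, Units.val_one,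
      Matrix.one_mulVec, φ.symm_apply_apply]
  have hNb : ∀ x : ι, ∃ f : ι → F, (∀ y, f y = 0 ∨ f y = 1) ∧ N *ᵥ b x = ∑ y, f y • b y := fun x => by
    refine ⟨NilType.shiftMap k (Pi.single x 1), fun y => ?_, ?_⟩
    · show (if h : _ then (Pi.single x 1 : ι → F) _ else 0) = 0 ∨ (if h : _ then (Pi.single x 1 : ι → F) _ else 0) = 1
      split_ifs
      · rw [Pi.single_apply]
        split_ifs <;> simp
      · exact Or.inl rfl
    · apply e.injective
      rw [map_sum, show N *ᵥ b x = Matrix.toLinAlgEquiv' N (b x) from (Matrix.toLin'_apply _ _).symm, he]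
      simp only [map_smul, b, Basis.map_apply, LinearEquiv.apply_symm_apply, Pi.basisFun_apply]
      exact pi_eq_sum_univ' _
  obtain ⟨f, hf, hfx⟩ := hNb (φ j)
  have hcol : ((P⁻¹ * X * P : GL (Fin n) F) : Matrix (Fin n) (Fin n) F) *ᵥ Pi.single j 1 =
      c • (Pi.single j 1 + ∑ y, f y • Pi.single (φ.symm y) 1) := by
    rw [Units.val_mul, Units.val_mul, ← Matrix.mulVec_mulVec, hPj, ← Matrix.mulVec_mulVec, hX, Matrix.smul_mulVec,
      Matrix.add_mulVec, Matrix.one_mulVec, hfx, Matrix.mulVec_smul, Matrix.mulVec_add, Matrix.mulVec_sum, hPinv,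
      φ.symm_apply_apply]
    simp only [Matrix.mulVec_smul, hPinv]
  have hij := congrFun hcol i
  rw [Matrix.mulVec_single_one, Matrix.col_apply, Pi.smul_apply, smul_eq_mul] at hij
  rw [hij, mul_div_cancel_left₀ _ hc, Pi.add_apply, Finset.sum_apply]
  refine F₀.add_mem ?_ (F₀.sum_mem fun y _ => ?_)
  · rw [Pi.single_apply]; split_ifs
    exacts [F₀.one_mem, F₀.zero_mem]
  · rw [Pi.smul_apply, smul_eq_mul, Pi.single_apply]
    rcases hf y with h | h <;> rw [h] <;> split_ifs <;> simp [F₀.one_mem, F₀.zero_mem]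

theorem isSquare_mul_of_not {a b : F} (ha : ¬ IsSquare a) (hb : ¬ IsSquare b) : IsSquare (a * b) := by
  have hR : ringChar F ≠ 2 := by rw [ringChar.eq F 3]; norm_num
  have ha0 : a ≠ 0 := fun h => ha (h ▸ IsSquare.zero)
  have hb0 : b ≠ 0 := fun h => hb (h ▸ IsSquare.zero)
  refine (FiniteField.isSquare_iff hR (mul_ne_zero ha0 hb0)).2 ?_
  rw [mul_pow, (FiniteField.pow_dichotomy hR ha0).resolve_left fun h => ha ((FiniteField.isSquare_iff hR ha0).2 h),
    (FiniteField.pow_dichotomy hR hb0).resolve_left fun h => hb ((FiniteField.isSquare_iff hR hb0).2 h)]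
  ring

theorem exists_nonsquare_subfield (F₀ : Subfield F) {k : ℕ} (hk : Odd k)
    (hcard : Fintype.card F = Nat.card ↥F₀ ^ k) : ∃ a ∈ F₀, ¬ IsSquare a := by
  classical
  haveI : Fintype F₀ := Fintype.ofFinite _
  haveI : CharP F₀ 3 := (F₀.subtype).charP Subtype.val_injective 3
  have hR : ringChar F ≠ 2 := by rw [ringChar.eq F 3]; norm_num
  have hR₀ : ringChar F₀ ≠ 2 := by rw [ringChar.eq F₀ 3]; norm_num
  obtain ⟨a, ha⟩ := FiniteField.exists_nonsquare hR₀
  have ha0 : a ≠ 0 := fun h => ha (h ▸ IsSquare.zero)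
  refine ⟨a, a.2, fun hsq => ha ?_⟩
  have ha0' : (a : F) ≠ 0 := fun h => ha0 (Subtype.ext h)
  have h1 := (FiniteField.isSquare_iff hR ha0').1 hsq
  set q₀ := Fintype.card F₀
  rw [hcard, Nat.card_eq_fintype_card] at h1
  obtain ⟨t, ht⟩ : Odd q₀ := Nat.odd_iff.2 (FiniteField.odd_card_of_char_ne_two hR₀)
  obtain ⟨S, hS, hS'⟩ : ∃ S, Odd S ∧ q₀ ^ k / 2 = (q₀ / 2) * S := by
    refine ⟨∑ l ∈ Finset.range k, q₀ ^ l, Finset.odd_sum_iff_odd_card_odd _ |>.2 ?_, ?_⟩
    · rw [Finset.filter_true_of_mem (fun l _ => (Nat.odd_iff.2 (FiniteField.odd_card_of_char_ne_two hR₀)).pow),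
        Finset.card_range]
      exact hk
    · have := geom_sum_mul_add (q₀ - 1) k
      rw [Nat.sub_add_cancel (show 1 ≤ q₀ from Fintype.card_pos)] at this
      rw [← this, show q₀ - 1 = 2 * t by omega, show q₀ / 2 = t by omega,
        show (∑ l ∈ Finset.range k, q₀ ^ l) * (2 * t) = 2 * (t * ∑ l ∈ Finset.range k, q₀ ^ l) by ring]
      omega
  rw [hS', pow_mul] at h1
  refine (FiniteField.isSquare_iff hR₀ ha0).2 ((FiniteField.pow_dichotomy hR₀ ha0).resolve_right fun h => ?_)
  have h2 := congrArg (fun x : F₀ => (x : F)) h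
  simp only [SubmonoidClass.coe_pow, NegMemClass.coe_neg, OneMemClass.coe_one] at h2
  rw [h2, hS.neg_one_pow] at h1
  exact Ring.neg_one_ne_one_of_char_ne_two hR h1

theorem order_three_subfield {n : ℕ} (hn : 0 < n) (F₀ : Subfield F) {k : ℕ}
    (hcard : Fintype.card F = Nat.card ↥F₀ ^ k) (hgood : Odd n ∨ Odd k)
    (x : Matrix.SpecialLinearGroup (Fin n) F) {z : F}
    (hx : ((x ^ 3 : Matrix.SpecialLinearGroup (Fin n) F) : Matrix (Fin n) (Fin n) F) = z • 1)
    (hns : ∀ a : F, (x : Matrix (Fin n) (Fin n) F) ≠ a • 1) :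
    ∃ P : Matrix.SpecialLinearGroup (Fin n) F,
      P⁻¹ * x * P ∈ (Cfsg.Geo.subfieldSubgroup F₀ 1).comap Matrix.SpecialLinearGroup.toGL := by
  classical
  haveI : Fact (Nat.Prime 3) := ⟨Nat.prime_three⟩
  haveI : Nonempty (Fin n) := ⟨⟨0, hn⟩⟩
  have hR : ringChar F ≠ 2 := by rw [ringChar.eq F 3]; norm_num
  set A : Matrix (Fin n) (Fin n) F := x.1 with hA
  obtain ⟨c, hc : c ^ 3 = z⟩ := cube_bijective.2 z
  have hA3 : A ^ 3 = z • 1 := by rw [← hx]; exact (Matrix.SpecialLinearGroup.coe_pow x 3).symm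
  have hc0 : c ≠ 0 := fun h => by
    have := congrArg Matrix.det hA3
    rw [Matrix.det_pow, show A.det = 1 from x.2, one_pow, ← hc, h, zero_pow three_ne_zero, zero_smul,
      Matrix.det_zero] at this
    exact one_ne_zero this
  set N : Matrix (Fin n) (Fin n) F := c⁻¹ • A - 1 with hNdef
  have hAN : A = c • (1 + N) := by rw [hNdef, add_sub_cancel, smul_smul, mul_inv_cancel₀ hc0, one_smul]
  haveI : CharP (Matrix (Fin n) (Fin n) F) 3 := inferInstance
  have hN3 : N ^ 3 = 0 := by
    rw [hNdef, sub_pow_char_of_commute 3 (Commute.one_right (c⁻¹ • A)), smul_pow, hA3, ← hc, smul_smul, ← mul_pow,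
      inv_mul_cancel₀ hc0, one_pow, one_pow, one_smul, sub_self]
  have hN1 : N ≠ 0 := fun h => hns c (hAN.trans (by rw [h, add_zero]))
  obtain ⟨P, hP⟩ := exists_conj_nilpotent F₀ (Matrix.SpecialLinearGroup.toGL x) hc0 N hAN hN3
  set d : F := (P : Matrix (Fin n) (Fin n) F).det
  have hd : d ≠ 0 := ((Matrix.isUnit_iff_isUnit_det _).1 P.isUnit).ne_zero
  -- an element of the subfield group with suitable determinant
  obtain ⟨h, hh, ν, hν, hνsq⟩ : ∃ h ∈ Cfsg.Geo.subfieldSubgroup F₀ (1 : GL (Fin n) F), ∃ ν : F,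
      (h : Matrix (Fin n) (Fin n) F).det = ν ∧ IsSquare (d * ν) := by
    by_cases hsq : IsSquare d
    · exact ⟨1, one_mem _, 1, by simp, by rwa [mul_one]⟩
    · obtain ⟨h, hh, hns'⟩ : ∃ h ∈ Cfsg.Geo.subfieldSubgroup F₀ (1 : GL (Fin n) F),
          ¬ IsSquare ((h : Matrix (Fin n) (Fin n) F).det) := by
        rcases hgood with ho | ho
        · obtain ⟨l, hl⟩ := FiniteField.exists_nonsquare hR
          have hl0 : l ≠ 0 := fun h => hl (h ▸ IsSquare.zero)
          refine ⟨Matrix.GeneralLinearGroup.mkOfDetNeZero (l • (1 : Matrix (Fin n) (Fin n) F)) ?_,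
            SubfieldMax.mem_subfieldSubgroup_one hl0 fun i j => ?_, ?_⟩
          · simp [hl0]
          · show (l • (1 : Matrix (Fin n) (Fin n) F)) i j / l ∈ F₀
            rw [Matrix.smul_apply, smul_eq_mul, mul_div_cancel_left₀ _ hl0, Matrix.one_apply]
            split_ifs
            exacts [F₀.one_mem, F₀.zero_mem]
          · show ¬ IsSquare ((l • (1 : Matrix (Fin n) (Fin n) F)).det)
            rw [Matrix.det_smul, Matrix.det_one, mul_one, Fintype.card_fin]
            obtain ⟨t, rfl⟩ := ho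
            rintro ⟨r, hr⟩
            refine hl ⟨r / l ^ t, ?_⟩
            field_simp
            linear_combination hr
        · obtain ⟨a, ha, hans⟩ := exists_nonsquare_subfield F₀ ho hcard
          have ha0 : a ≠ 0 := fun h => hans (h ▸ IsSquare.zero)
          refine ⟨Matrix.GeneralLinearGroup.mkOfDetNeZero
            (Matrix.diagonal (Function.update (fun _ => (1 : F)) (⟨0, hn⟩ : Fin n) a)) ?_,
            SubfieldMax.mem_subfieldSubgroup_one one_ne_zero fun i j => ?_, ?_⟩
          · rw [Matrix.det_diagonal, Finset.prod_update_of_mem (Finset.mem_univ _)]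
            simp [ha0]
          · show Matrix.diagonal _ i j / 1 ∈ F₀
            rw [div_one, Matrix.diagonal_apply, Function.update_apply]
            split_ifs
            exacts [ha, F₀.one_mem, F₀.zero_mem]
          · show ¬ IsSquare (Matrix.diagonal (Function.update (fun _ => (1 : F)) (⟨0, hn⟩ : Fin n) a)).det
            rw [Matrix.det_diagonal, Finset.prod_update_of_mem (Finset.mem_univ _)]
            simpa using hans
      exact ⟨h, hh, _, rfl, isSquare_mul_of_not hsq hns'⟩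
  obtain ⟨w, hw⟩ := hνsq
  have hν0 : ν ≠ 0 := hν ▸ ((Matrix.isUnit_iff_isUnit_det _).1 h.isUnit).ne_zero
  have hw0 : w ≠ 0 := fun h => mul_ne_zero hd hν0 (by rw [hw, h, mul_zero])
  -- a centralising element
  obtain ⟨C, hCA, hCd⟩ : ∃ C : Matrix (Fin n) (Fin n) F, C * A = A * C ∧ C.det = w⁻¹ * w⁻¹ := by
    set T : Module.End F (Fin n → F) := Matrix.toLinAlgEquiv' N
    obtain ⟨m, a, hm, hne, ha⟩ : ∃ (m : ℕ) (a : F), T ^ (m + 1) = 0 ∧ T ^ m ≠ 0 ∧ a ^ (m + 1) = w⁻¹ * w⁻¹ := by
      by_cases h2 : N ^ 2 = 0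
      · exact ⟨1, w⁻¹, by rw [← map_pow, h2, map_zero],
          by rw [pow_one]; exact fun h => hN1 (Matrix.toLinAlgEquiv'.injective (h.trans (map_zero _).symm)),
          by ring⟩
      · obtain ⟨a, ha : a ^ 3 = w⁻¹ * w⁻¹⟩ := cube_bijective.2 (w⁻¹ * w⁻¹)
        exact ⟨2, a, by rw [← map_pow, hN3, map_zero],
          fun h => h2 (Matrix.toLinAlgEquiv'.injective (((map_pow _ _ _).trans h).trans (map_zero _).symm)), ha⟩
    obtain ⟨C, hC, hdet⟩ := CfsgLib.Known.Jordan.exists_commute_det T hm hne a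
    refine ⟨Matrix.toLinAlgEquiv'.symm C, ?_, ?_⟩
    · have hcomm : Matrix.toLinAlgEquiv'.symm C * N = N * Matrix.toLinAlgEquiv'.symm C := by
        apply Matrix.toLinAlgEquiv'.injective
        rw [map_mul, map_mul, AlgEquiv.apply_symm_apply]
        exact hC
      rw [hAN, mul_smul_comm, smul_mul_assoc, mul_add, add_mul, mul_one, one_mul, hcomm]
    · rw [← ha, ← hdet, ← LinearMap.det_toMatrix']
      rfl
  have hdet : (C * (P : Matrix (Fin n) (Fin n) F) * (h : Matrix (Fin n) (Fin n) F)).det = 1 := by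
    rw [Matrix.det_mul, Matrix.det_mul, hν, hCd, mul_assoc, hw]
    field_simp
  let P' : Matrix.SpecialLinearGroup (Fin n) F := ⟨_, hdet⟩
  refine ⟨P', ?_⟩
  rw [Subgroup.mem_comap, InvClass.toGL_conj]
  convert mul_mem (mul_mem (inv_mem hh) hP) hh using 1
  rw [mul_assoc, inv_mul_eq_iff_eq_mul]
  ext1
  simp only [Units.val_mul]
  show A * (C * (P : Matrix (Fin n) (Fin n) F) * (h : Matrix (Fin n) (Fin n) F)) =
    C * (P : Matrix (Fin n) (Fin n) F) * (h : Matrix (Fin n) (Fin n) F) *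
      (((h⁻¹ : GL (Fin n) F) : Matrix (Fin n) (Fin n) F) * (((P⁻¹ : GL (Fin n) F) : Matrix (Fin n) (Fin n) F) * A *
        (P : Matrix (Fin n) (Fin n) F)) * (h : Matrix (Fin n) (Fin n) F))
  simp only [← mul_assoc]
  rw [mul_assoc _ (h : Matrix (Fin n) (Fin n) F) ((h⁻¹ : GL (Fin n) F) : Matrix (Fin n) (Fin n) F), ← Units.val_mul,
    mul_inv_cancel, Units.val_one, mul_one, mul_assoc C (P : Matrix (Fin n) (Fin n) F), ← Units.val_mul, mul_inv_cancel,
    Units.val_one, mul_one, hCA]

theorem exists_no_three {n : ℕ} (hn : 0 < n) (he : Even n) (F₀ : Subfield F)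
    (hcard : Fintype.card F = Nat.card ↥F₀ ^ 2) :
    ∃ x : Matrix.SpecialLinearGroup (Fin n) F,
      ((x ^ 3 : Matrix.SpecialLinearGroup (Fin n) F) : Matrix (Fin n) (Fin n) F) = (1 : F) • 1 ∧
      (∀ a : F, (x : Matrix (Fin n) (Fin n) F) ≠ a • 1) ∧
      ∀ P : Matrix.SpecialLinearGroup (Fin n) F,
        P⁻¹ * x * P ∉ (Cfsg.Geo.subfieldSubgroup F₀ 1).comap Matrix.SpecialLinearGroup.toGL := by
  classical
  haveI : Fact (Nat.Prime 3) := ⟨Nat.prime_three⟩
  haveI : Nonempty (Fin n) := ⟨⟨0, hn⟩⟩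
  haveI : Fintype F₀ := Fintype.ofFinite _
  haveI : CharP F₀ 3 := (F₀.subtype).charP Subtype.val_injective 3
  have hR : ringChar F ≠ 2 := by rw [ringChar.eq F 3]; norm_num
  obtain ⟨m, rfl⟩ := he
  have hm : 0 < m := by omega
  let φ : Fin (m + m) ≃ Fin m ⊕ Fin m := finSumFinEquiv.symm
  set J : Matrix (Fin (m + m)) (Fin (m + m)) F :=
    (Matrix.fromBlocks 1 (1 : Matrix (Fin m) (Fin m) F) 0 1).submatrix φ φ with hJ
  obtain ⟨δ, hδ⟩ := FiniteField.exists_nonsquare hR
  have hδ0 : δ ≠ 0 := fun h => hδ (h ▸ IsSquare.zero)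
  let D : GL (Fin (m + m)) F := Matrix.GeneralLinearGroup.mkOfDetNeZero
    (Matrix.diagonal (Function.update (fun _ => (1 : F)) (⟨0, hn⟩ : Fin (m + m)) δ)) (by
      rw [Matrix.det_diagonal, Finset.prod_update_of_mem (Finset.mem_univ _)]
      simp [hδ0])
  have hDdet : (D : Matrix (Fin (m + m)) (Fin (m + m)) F).det = δ := by
    show (Matrix.diagonal _).det = δ
    rw [Matrix.det_diagonal, Finset.prod_update_of_mem (Finset.mem_univ _)]
    simp
  set Dm : Matrix (Fin (m + m)) (Fin (m + m)) F := (D : Matrix (Fin (m + m)) (Fin (m + m)) F)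
  set Di : Matrix (Fin (m + m)) (Fin (m + m)) F := ((D⁻¹ : GL (Fin (m + m)) F) : Matrix (Fin (m + m)) (Fin (m + m)) F)
  have hDD : Dm * Di = 1 := by rw [← Units.val_mul, mul_inv_cancel, Units.val_one]
  have hDD' : Di * Dm = 1 := by rw [← Units.val_mul, inv_mul_cancel, Units.val_one]
  have hJdet : J.det = 1 := by rw [Matrix.det_submatrix_equiv_self, Matrix.det_fromBlocks_zero₂₁]; simp
  let N₁ : Matrix (Fin m ⊕ Fin m) (Fin m ⊕ Fin m) F := Matrix.fromBlocks 0 1 0 0
  have hJN : J - 1 = N₁.submatrix φ φ := by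
    rw [hJ, ← Matrix.submatrix_one_equiv φ, ← Matrix.fromBlocks_one, sub_eq_iff_eq_add, ← Pi.add_apply,
      ← Pi.add_apply, ← Matrix.submatrix_add, Matrix.fromBlocks_add]
    simp
  have hN₁ : N₁ * N₁ = 0 := by simp [N₁, Matrix.fromBlocks_multiply]
  have hJ2 : (J - 1) * (J - 1) = 0 := by rw [hJN, Matrix.submatrix_mul_equiv, hN₁]; rfl
  let x : Matrix.SpecialLinearGroup (Fin (m + m)) F := ⟨Dm * J * Di, by
    rw [Matrix.det_mul, Matrix.det_mul, hJdet, mul_one, ← Matrix.det_mul, hDD, Matrix.det_one]⟩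
  have hJ3 : J ^ 3 = 1 := by
    have h1 := sub_pow_char_of_commute 3 (Commute.one_right J)
    rw [one_pow, pow_succ, pow_two, hJ2, zero_mul] at h1
    exact sub_eq_zero.1 h1.symm
  have hJne : ∀ a : F, J ≠ a • 1 := fun a h => by
    have := congrFun (congrFun h (φ.symm (Sum.inl ⟨0, hm⟩))) (φ.symm (Sum.inr ⟨0, hm⟩))
    simp [hJ] at this
  refine ⟨x, ?_, fun a ha => hJne a ?_, fun P hP => ?_⟩
  · rw [one_smul, pow_succ, pow_two]
    show Dm * J * Di * (Dm * J * Di) * (Dm * J * Di) = 1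
    simp only [← mul_assoc]
    rw [mul_assoc _ Di Dm, hDD', mul_one, mul_assoc _ Di Dm, hDD', mul_one, mul_assoc Dm J J, mul_assoc Dm,
      show J * J * J = J ^ 3 by rw [pow_succ, pow_two], hJ3, mul_one, hDD]
  · have h1 : Dm * J * Di = a • 1 := ha
    calc J = Di * (Dm * J * Di) * Dm := by simp only [← mul_assoc]; rw [hDD', one_mul, mul_assoc, hDD', mul_one]
      _ = a • 1 := by rw [h1, mul_smul_comm, mul_one, smul_mul_assoc, hDD']
  · rw [Subgroup.mem_comap] at hP
    obtain ⟨g', hg', he'⟩ := hP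
    have he1 : g' = Matrix.SpecialLinearGroup.toGL (P⁻¹ * x * P) := by simpa using he'
    obtain ⟨_, ⟨A₀, rfl⟩, c, hc, rfl⟩ := Subgroup.mem_sup_of_normal_right.1 hg'
    obtain ⟨s, hs⟩ := (Cfsg.Geo.mem_scalars_iff c).1 hc
    set Pm : Matrix (Fin (m + m)) (Fin (m + m)) F := (P : Matrix (Fin (m + m)) (Fin (m + m)) F)
    set Pi' : Matrix (Fin (m + m)) (Fin (m + m)) F :=
      ((P⁻¹ : Matrix.SpecialLinearGroup (Fin (m + m)) F) : Matrix (Fin (m + m)) (Fin (m + m)) F)
    have hPP : Pm * Pi' = 1 := by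
      rw [← Matrix.SpecialLinearGroup.coe_mul, mul_inv_cancel, Matrix.SpecialLinearGroup.coe_one]
    have hPP' : Pi' * Pm = 1 := by
      rw [← Matrix.SpecialLinearGroup.coe_mul, inv_mul_cancel, Matrix.SpecialLinearGroup.coe_one]
    set A₁ : Matrix (Fin (m + m)) (Fin (m + m)) F := (A₀ : Matrix (Fin (m + m)) (Fin (m + m)) F₀).map F₀.subtype
    set Y : Matrix (Fin (m + m)) (Fin (m + m)) F := Pi' * (Dm * J * Di) * Pm with hY
    have hY1 : Y = (s : F) • A₁ := by
      have := congrArg (fun g : GL (Fin (m + m)) F => (g : Matrix (Fin (m + m)) (Fin (m + m)) F)) he1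
      simp only [Units.val_mul, hs, Matrix.mul_smul, Matrix.mul_one] at this
      exact this.symm
    set R : Matrix (Fin (m + m)) (Fin (m + m)) F := Di * Pm
    set R' : Matrix (Fin (m + m)) (Fin (m + m)) F := Pi' * Dm
    have hR1 : R * R' = 1 := by
      simp only [R, R', ← mul_assoc]; rw [mul_assoc Di, hPP, mul_one, hDD']
    have hR2 : R' * R = 1 := by
      simp only [R, R', ← mul_assoc]; rw [mul_assoc Pi', hDD, mul_one, hPP']
    have hYR : Y = R' * J * R := by simp only [hY, R, R', mul_assoc]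
    have hY3 : Y ^ 3 = 1 := by
      have hmul : ∀ a b, R' * a * R * (R' * b * R) = R' * (a * b) * R := fun a b => by
        simp only [mul_assoc]; rw [← mul_assoc R R', hR1, one_mul]
      rw [pow_succ, pow_two, hYR, hmul, hmul, show J * J * J = J ^ 3 by rw [pow_succ, pow_two], hJ3, mul_one, hR2]
    obtain ⟨v, hv⟩ : ∃ v : F₀, (v : F) ^ 3 = (s : F) ^ 3 := by
      rw [hY1, smul_pow, ← Matrix.map_pow] at hY3
      have h00 := congrFun (congrFun hY3 ⟨0, hn⟩) ⟨0, hn⟩
      simp only [Matrix.smul_apply, Matrix.map_apply, Matrix.one_apply_eq, smul_eq_mul] at h00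
      set u := ((A₀ : Matrix (Fin (m + m)) (Fin (m + m)) F₀) ^ 3) ⟨0, hn⟩ ⟨0, hn⟩
      obtain ⟨v, hv⟩ := (cube_bijective (F := F₀)).2 u⁻¹
      refine ⟨v, ?_⟩
      have hu : (u : F) ≠ 0 := fun h => by simp [h] at h00
      have hv' : v ^ 3 = u⁻¹ := hv
      have := congrArg (fun e : F₀ => (e : F)) hv'
      simp only [SubmonoidClass.coe_pow] at this
      rw [this]
      push_cast
      exact (eq_inv_of_mul_eq_one_left h00).symm
    have hsv : (v : F) = s := (cube_bijective (F := F)).1 hv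
    set N₀ : Matrix (Fin (m + m)) (Fin (m + m)) F₀ := v • (A₀ : Matrix (Fin (m + m)) (Fin (m + m)) F₀) - 1
    have hN₀ : N₀.map F₀.subtype = R' * (J - 1) * R := by
      rw [mul_sub, sub_mul, mul_one, hR2, ← hYR, hY1, ← hsv]
      ext i j
      simp only [N₀, A₁, Matrix.map_apply, Matrix.sub_apply, Matrix.smul_apply, Matrix.one_apply, map_sub]
      split_ifs <;> simp
    have hN₀2 : N₀ * N₀ = 0 := by
      apply Matrix.map_injective (f := F₀.subtype) Subtype.val_injective
      show (N₀ * N₀).map F₀.subtype = (0 : Matrix (Fin (m + m)) (Fin (m + m)) F₀).map F₀.subtype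
      rw [Matrix.map_mul, hN₀, Matrix.map_zero _ (map_zero _)]
      simp only [mul_assoc]
      rw [← mul_assoc R R', hR1, one_mul, ← mul_assoc (J - 1) (J - 1), hJ2, zero_mul, mul_zero]
    -- kernel is image over the subfield
    obtain ⟨ρ, hρ⟩ := (Algebra.linearMap F₀ F).exists_leftInverse_of_injective
      (LinearMap.ker_eq_bot.2 (FaithfulSMul.algebraMap_injective F₀ F))
    have hρ' : ∀ a : F₀, ρ (a : F) = a := fun a => LinearMap.congr_fun hρ a
    have hN₁k : ∀ u : Fin m ⊕ Fin m → F, N₁ *ᵥ u = 0 → ∃ w, N₁ *ᵥ w = u := by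
      intro u hu
      refine ⟨Sum.elim 0 (fun i => u (Sum.inl i)), ?_⟩
      funext i
      rcases i with i | i
      · simp [N₁, Matrix.fromBlocks_mulVec]
      · have := congrFun hu (Sum.inl i)
        simp [N₁, Matrix.fromBlocks_mulVec] at this
        simp [N₁, Matrix.fromBlocks_mulVec, this]
    have hkr : ∀ u, N₀ *ᵥ u = 0 → ∃ w, N₀ *ᵥ w = u := by
      intro u hu
      have h1 : (N₀.map F₀.subtype) *ᵥ (fun i => (u i : F)) = 0 := by
        funext i
        have := congrArg (fun e : F₀ => (e : F)) (congrFun hu i)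
        simpa [Matrix.mulVec, dotProduct] using this
      rw [hN₀, hJN, ← Matrix.mulVec_mulVec, ← Matrix.mulVec_mulVec] at h1
      have h2 := congrArg (R *ᵥ ·) h1
      simp only [Matrix.mulVec_mulVec, Matrix.mulVec_zero] at h2
      rw [← Matrix.mul_assoc, hR1, Matrix.one_mul, ← Matrix.mulVec_mulVec, Matrix.submatrix_mulVec_equiv] at h2
      obtain ⟨w, hw⟩ := hN₁k _ (funext fun i => by simpa using congrFun h2 (φ.symm i))
      have h3 : (N₀.map F₀.subtype) *ᵥ (R' *ᵥ (w ∘ φ)) = fun i => (u i : F) := by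
        rw [hN₀, hJN, Matrix.mulVec_mulVec, mul_assoc, hR1, mul_one, ← Matrix.mulVec_mulVec,
          Matrix.submatrix_mulVec_equiv, show (w ∘ φ) ∘ φ.symm = w by funext i; simp, hw]
        have e : ((R *ᵥ fun i => (u i : F)) ∘ φ.symm) ∘ φ = R *ᵥ fun i => (u i : F) := by funext i; simp
        rw [e, Matrix.mulVec_mulVec, hR2, Matrix.one_mulVec]
      refine ⟨fun i => ρ ((R' *ᵥ (w ∘ φ)) i), funext fun i => ?_⟩
      have := congrArg ρ (congrFun h3 i)
      rw [hρ'] at this
      rw [← this]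
      generalize R' *ᵥ (w ∘ φ) = g
      simp only [Matrix.mulVec, dotProduct, map_sum, Matrix.map_apply, Subfield.coe_subtype]
      refine Finset.sum_congr rfl fun j _ => ?_
      rw [show ((N₀ i j : F₀) : F) * g j = (N₀ i j) • g j from rfl, map_smul, smul_eq_mul]
    set L := Matrix.toLin' N₀
    obtain ⟨W, hW⟩ := Submodule.exists_isCompl (LinearMap.ker L)
    have hrk : LinearMap.range L = LinearMap.ker L := by
      refine le_antisymm ?_ fun u hu => ?_
      · rintro _ ⟨u, rfl⟩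
        rw [LinearMap.mem_ker, Matrix.toLin'_apply, Matrix.toLin'_apply, Matrix.mulVec_mulVec, hN₀2, Matrix.zero_mulVec]
      · obtain ⟨w, hw⟩ := hkr u hu
        exact ⟨w, hw⟩
    have hWdim : finrank F₀ W = m := by
      have h1 := LinearMap.finrank_range_add_finrank_ker L
      have h2 := Submodule.finrank_add_eq_of_isCompl hW
      rw [hrk] at h1
      rw [finrank_pi, Fintype.card_fin] at h1 h2
      omega
    let bW := Module.finBasisOfFinrankEq F₀ W hWdim
    let v' : Fin m ⊕ Fin m → (Fin (m + m) → F₀) := Sum.elim (fun i => L (bW i)) (fun i => (bW i : Fin (m + m) → F₀))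
    have hli : LinearIndependent F₀ v' := by
      rw [Fintype.linearIndependent_iff]
      intro g hg
      rw [Fintype.sum_sum_type] at hg
      simp only [v', Sum.elim_inl, Sum.elim_inr] at hg
      set A' : W := ∑ i, g (Sum.inl i) • bW i with hA'
      set B' : W := ∑ i, g (Sum.inr i) • bW i with hB'
      have hsum : L A' + (B' : Fin (m + m) → F₀) = 0 := by
        rw [← hg, hA', hB']
        simp [map_sum, map_smul]
      have hBk : L B' = 0 := by
        have := congrArg L hsum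
        rw [map_add, map_zero, show L (L A') = 0 from LinearMap.mem_ker.1 (hrk ▸ LinearMap.mem_range_self L _),
          zero_add] at this
        exact this
      have hB0 : B' = 0 := Subtype.ext (Submodule.disjoint_def.1 hW.disjoint _ hBk B'.2)
      rw [hB0, ZeroMemClass.coe_zero, add_zero] at hsum
      have hA0 : A' = 0 := Subtype.ext (Submodule.disjoint_def.1 hW.disjoint _ hsum A'.2)
      rintro (i | i)
      · exact Fintype.linearIndependent_iff.1 bW.linearIndependent _ hA0 i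
      · exact Fintype.linearIndependent_iff.1 bW.linearIndependent _ hB0 i
    let bQ := (basisOfLinearIndependentOfCardEqFinrank' _ hli (by simp)).reindex φ.symm
    obtain ⟨Q, hQ⟩ := InvClass.exists_basis_change (Pi.basisFun F₀ (Fin (m + m))) bQ
    have hQcol : ∀ a, (Q : Matrix (Fin (m + m)) (Fin (m + m)) F₀) *ᵥ Pi.single (φ.symm a) 1 = v' a := fun a => by
      have := hQ (φ.symm a)
      simpa [bQ, Pi.basisFun_apply] using this
    set Q₁ : Matrix (Fin (m + m)) (Fin (m + m)) F := (Q : Matrix (Fin (m + m)) (Fin (m + m)) F₀).map F₀.subtype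
    set N' : Matrix (Fin (m + m)) (Fin (m + m)) F₀ :=
      (Matrix.fromBlocks 0 (1 : Matrix (Fin m) (Fin m) F₀) 0 0).submatrix φ φ with hN'
    have hNQ : N₀ * (Q : Matrix (Fin (m + m)) (Fin (m + m)) F₀) = (Q : Matrix (Fin (m + m)) (Fin (m + m)) F₀) * N' := by
      apply Matrix.toLin'.injective
      refine (Pi.basisFun F₀ _).ext fun b => ?_
      obtain ⟨a, rfl⟩ := φ.symm.surjective b
      rw [Pi.basisFun_apply, Matrix.toLin'_apply, Matrix.toLin'_apply, ← Matrix.mulVec_mulVec, ← Matrix.mulVec_mulVec,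
        hQcol]
      rcases a with i | i
      · rw [show N' *ᵥ Pi.single (φ.symm (Sum.inl i)) 1 = 0 by
          funext c; rw [Matrix.mulVec_single_one, hN']; rcases h : φ c with j | j <;> simp [h],
          Matrix.mulVec_zero, show v' (Sum.inl i) = N₀ *ᵥ (bW i : Fin (m + m) → F₀) from Matrix.toLin'_apply _ _,
          Matrix.mulVec_mulVec, hN₀2, Matrix.zero_mulVec]
      · rw [show N' *ᵥ Pi.single (φ.symm (Sum.inr i)) 1 = Pi.single (φ.symm (Sum.inl i)) 1 by
          funext c; rw [Matrix.mulVec_single_one, hN']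
          rcases h : φ c with j | j
          · simp [h, Matrix.one_apply, Pi.single_apply, Equiv.eq_symm_apply]
          · simp [h, Pi.single_apply, Equiv.eq_symm_apply],
          hQcol]
        exact (Matrix.toLin'_apply _ _).symm
    set M : Matrix (Fin (m + m)) (Fin (m + m)) F := R * Q₁
    have hMJ : M * (J - 1) = (J - 1) * M := by
      have h1 := congrArg (fun M : Matrix (Fin (m + m)) (Fin (m + m)) F₀ => M.map F₀.subtype) hNQ
      simp only [Matrix.map_mul] at h1
      rw [hN₀] at h1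
      have h2 : N'.map F₀.subtype = J - 1 := by
        rw [hJN, hN', ← Matrix.submatrix_map, Matrix.fromBlocks_map]
        simp [N₁]
      rw [h2] at h1
      calc M * (J - 1) = R * (R' * (J - 1) * R * Q₁) := by rw [h1]; simp only [M, Q₁, mul_assoc]
        _ = (J - 1) * M := by simp only [M, ← mul_assoc]; rw [hR1, one_mul]
    have hMgen : ∀ M : Matrix (Fin (m + m)) (Fin (m + m)) F, M * (J - 1) = (J - 1) * M → IsSquare M.det := by
      intro M hM
      set Mb := M.submatrix φ.symm φ.symm with hMb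
      have hN : (J - 1).submatrix φ.symm φ.symm = N₁ := by
        rw [hJN, Matrix.submatrix_submatrix, Equiv.self_comp_symm, Matrix.submatrix_id_id]
      have h1 : Mb * N₁ = N₁ * Mb := by
        rw [hMb, ← hN, Matrix.submatrix_mul_equiv M (J - 1) φ.symm φ.symm φ.symm,
          Matrix.submatrix_mul_equiv (J - 1) M φ.symm φ.symm φ.symm, hM]
      rw [← Matrix.det_submatrix_equiv_self φ.symm, ← hMb, ← Matrix.fromBlocks_toBlocks Mb]
      rw [← Matrix.fromBlocks_toBlocks Mb] at h1
      simp only [N₁, Matrix.fromBlocks_multiply, Matrix.fromBlocks_inj] at h1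
      obtain ⟨h11, h12, h21, h22⟩ := h1
      simp at h11 h12 h21 h22
      have h21' : Mb.toBlocks₂₁ = 0 := by first | exact h11 | exact h11.symm | exact h22 | exact h22.symm
      rw [h21', Matrix.det_fromBlocks_zero₂₁, h12]
      exact ⟨_, rfl⟩
    have hMdet : IsSquare M.det := hMgen M hMJ
    have hQsq : IsSquare Q₁.det := by
      set u := (Q : Matrix (Fin (m + m)) (Fin (m + m)) F₀).det with hu
      have hu0 : u ≠ 0 := ((Matrix.isUnit_iff_isUnit_det _).1 Q.isUnit).ne_zero
      have hQd : Q₁.det = (u : F) := (RingHom.map_det F₀.subtype _).symm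
      rw [hQd, FiniteField.isSquare_iff hR (fun h => hu0 (Subtype.ext h))]
      have h1 : u ^ (Fintype.card F₀ - 1) = 1 := FiniteField.pow_card_sub_one_eq_one u hu0
      obtain ⟨t, ht⟩ : Odd (Fintype.card F₀) :=
        Nat.odd_iff.2 (FiniteField.odd_card_of_char_ne_two (by rw [ringChar.eq F₀ 3]; norm_num))
      rw [show Fintype.card F / 2 = (Fintype.card F₀ - 1) * (t + 1) by
        rw [hcard, Nat.card_eq_fintype_card, ht, Nat.add_sub_cancel,
          show (2 * t + 1) ^ 2 = 2 * (2 * t * t + 2 * t) + 1 by ring,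
          show 2 * t * (t + 1) = 2 * t * t + 2 * t by ring]
        omega, pow_mul, ← SubmonoidClass.coe_pow, h1, OneMemClass.coe_one, one_pow]
    have hMeq : M.det * δ = Q₁.det := by
      rw [show M.det = Di.det * Q₁.det by
        simp only [M, R, Matrix.det_mul, show Pm.det = 1 from P.2, mul_one], mul_right_comm, ← hDdet, ← Matrix.det_mul,
        hDD', Matrix.det_one, one_mul]
    obtain ⟨a, ha⟩ := hMdet
    obtain ⟨b, hb⟩ := hQsq
    have hQ0 : Q₁.det ≠ 0 := by
      show ((Q : Matrix (Fin (m + m)) (Fin (m + m)) F₀).map F₀.subtype).det ≠ 0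
      rw [← RingHom.mapMatrix_apply, ← RingHom.map_det]
      exact fun h => ((Matrix.isUnit_iff_isUnit_det _).1 Q.isUnit).ne_zero (Subtype.ext h)
    have ha0 : a ≠ 0 := fun h => hQ0 (by rw [← hMeq, ha, h]; ring)
    refine hδ ⟨b / a, ?_⟩
    rw [hb, ha] at hMeq
    field_simp
    linear_combination hMeq

end CfsgLib.Geo.ThreeSubfield
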