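/-
Quadratic overfields of orthogonal spaces: basic identities, and singular vectors in large subspaces.
-/
import Cfsg.Agent.Lib.Geo.OrthBlockCore
import Cfsg.Agent.Lib.Geo.OrthNondegTools

set_option autoImplicit false

namespace CfsgLib.Geo.OrthOverfield

open CfsgLib.Classical CfsgLib.Classical.Quad CfsgLib.Geo.OrthMax
open QuadraticMap (polar polarBilin)

variable {F : Type*} [Field F] {V : Type*} [AddCommGroup V] [Module F V] [FiniteDimensional F V]
  {Q : QuadraticForm F V}

/-- `J` generates a quadratic field extension of `F` acting by similitudes of `Q`. -/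
structure IsOverfield (Q : QuadraticForm F V) (J : V →ₗ[F] V) (t d : F) : Prop where
  nondeg : (polarBilin Q).Nondegenerate
  rank : 8 ≤ Module.finrank F V
  sq : ∀ v, J (J v) = t • J v - d • v
  irred : ∀ a : F, a * a - t * a + d ≠ 0
  app : ∀ v, Q (J v) = d * Q v
  pol : ∀ v, polar Q v (J v) = t * Q v

variable {J : V →ₗ[F] V} {t d : F} (h : IsOverfield Q J t d)
include h

theorem d_ne : d ≠ 0 := fun e => h.irred 0 (by rw [e]; ring)

theorem polar_sum (x y : V) : polar Q (J x) y + polar Q x (J y) = t * polar Q x y := by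
  have h1 := h.pol (x + y)
  simp only [map_add, apply_add, polar_add_left', polar_add_right', h.pol] at h1
  rw [QuadraticMap.polar_comm (⇑Q) (J x) y]
  linear_combination h1

theorem polar_left (x y : V) : polar Q (J x) y = t * polar Q x y - polar Q x (J y) := by
  linear_combination polar_sum h x y

theorem polar_map (x y : V) : polar Q (J x) (J y) = d * polar Q x y := by
  simp only [polar, ← map_add, h.app]
  ring

theorem pol_self {v : V} (hv : Q v = 0) : polar Q v (J v) = 0 := by rw [h.pol, hv, mul_zero]

theorem app_self {v : V} (hv : Q v = 0) : Q (J v) = 0 := by rw [h.app, hv, mul_zero]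

theorem eq_zero_of_smul {a b : F} {v : V} (hv : v ≠ 0) (e : a • v + b • J v = 0) : a = 0 ∧ b = 0 := by
  by_cases hb : b = 0
  · rw [hb, zero_smul, add_zero, smul_eq_zero] at e
    exact ⟨e.resolve_right hv, hb⟩
  exfalso
  have hJ : J v = (-a / b) • v := by
    refine smul_right_injective V hb (?_ : b • J v = b • ((-a / b) • v))
    rw [smul_smul, mul_div_cancel₀ _ hb, neg_smul]
    exact eq_neg_of_add_eq_zero_right e
  have h1 := h.sq v
  rw [hJ, map_smul, hJ, smul_smul, smul_smul, ← sub_smul] at h1
  have h2 : ((-a / b) * (-a / b) - t * (-a / b) + d) • v = 0 := by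
    rw [add_smul, sub_smul, h1, sub_smul]
    abel
  exact h.irred _ ((smul_eq_zero.1 h2).resolve_right hv)

omit h in
/-- The `F[J]`-line of a vector. -/
def line (J : V →ₗ[F] V) (u : V) : Submodule F V := Submodule.span F {u, J u}

omit h [FiniteDimensional F V] in
theorem mem_line {u x : V} : x ∈ line J u ↔ ∃ a b : F, a • u + b • J u = x := Submodule.mem_span_pair

omit h [FiniteDimensional F V] in
theorem self_mem_line (u : V) : u ∈ line J u := Submodule.subset_span (by simp)

omit h [FiniteDimensional F V] in
theorem J_mem_line (u : V) : J u ∈ line J u := Submodule.subset_span (by simp)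

theorem map_mem_line {u x : V} (hx : x ∈ line J u) : J x ∈ line J u := by
  obtain ⟨a, b, rfl⟩ := mem_line.1 hx
  refine mem_line.2 ⟨-(b * d), a + b * t, ?_⟩
  rw [map_add, map_smul, map_smul, h.sq]
  module

theorem mem_line_swap {u x : V} (hx : x ∈ line J u) (hx0 : x ≠ 0) : u ∈ line J x := by
  have hu : u ≠ 0 := by
    rintro rfl
    obtain ⟨a, b, hab⟩ := mem_line.1 hx
    exact hx0 (by simp [← hab])
  obtain ⟨a, b, rfl⟩ := mem_line.1 hx
  have hN : a * a + t * (a * b) + d * (b * b) ≠ 0 := by
    intro e
    by_cases hb : b = 0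
    · subst hb
      refine hx0 ?_
      have : a = 0 := by
        have : a * a = 0 := by linear_combination e
        exact mul_self_eq_zero.1 this
      simp [this]
    · refine h.irred (-a / b) ?_
      field_simp
      linear_combination e
  set N := a * a + t * (a * b) + d * (b * b)
  refine mem_line.2 ⟨N⁻¹ * (a + b * t), N⁻¹ * -b, ?_⟩
  have e : (a + b * t) • (a • u + b • J u) + (-b) • J (a • u + b • J u) = N • u := by
    rw [map_add, map_smul, map_smul, h.sq]
    simp only [N]
    module
  rw [mul_smul, mul_smul, ← smul_add, e, inv_smul_smul₀ hN]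

theorem line_singular {u x : V} (hu : Q u = 0) (hx : x ∈ line J u) : Q x = 0 := by
  obtain ⟨a, b, rfl⟩ := mem_line.1 hx
  simp [apply_add, apply_smul, polar_smul_left', polar_smul_right', hu, pol_self h hu, app_self h hu]

theorem line_perp {u x : V} (hu : Q u = 0) (hx : x ∈ line J u) :
    polar Q u x = 0 ∧ polar Q (J u) x = 0 := by
  obtain ⟨a, b, rfl⟩ := mem_line.1 hx
  constructor
  · simp [polar_add_right', polar_smul_right', polar_self', hu, pol_self h hu]
  · simp [polar_add_right', polar_smul_right', polar_self', app_self h hu, QuadraticMap.polar_comm _ (J u) u,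
      pol_self h hu]

/-- Vectors orthogonal to the line of `u`. -/
def lperp (Q : QuadraticForm F V) (J : V →ₗ[F] V) (u : V) : Submodule F V := perp Q (line J u)

omit h in
theorem mem_lperp {u x : V} : x ∈ lperp Q J u ↔ polar Q u x = 0 ∧ polar Q (J u) x = 0 := by
  refine ⟨fun hx => ⟨hx u (self_mem_line u), hx _ (J_mem_line u)⟩, fun hx w hw => ?_⟩
  obtain ⟨a, b, rfl⟩ := mem_line.1 hw
  show polar Q _ x = 0
  simp [polar_add_left', polar_smul_left', hx]

theorem line_le_lperp {u : V} (hu : Q u = 0) : line J u ≤ lperp Q J u := fun _ hx =>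
  mem_lperp.2 (line_perp h hu hx)

theorem lperp_swap {u x : V} (hx : x ∈ lperp Q J u) : u ∈ lperp Q J x := by
  obtain ⟨h1, h2⟩ := mem_lperp.1 hx
  refine mem_lperp.2 ⟨by rw [QuadraticMap.polar_comm]; exact h1, ?_⟩
  rw [polar_left h, QuadraticMap.polar_comm, h1, mul_zero, zero_sub, neg_eq_zero, QuadraticMap.polar_comm]
  exact h2

theorem map_mem_lperp {u x : V} (hx : x ∈ lperp Q J u) : J x ∈ lperp Q J u := by
  obtain ⟨h1, h2⟩ := mem_lperp.1 hx
  refine mem_lperp.2 ⟨?_, by rw [polar_map h, h1, mul_zero]⟩
  have := polar_sum h u x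
  rw [h2, h1, mul_zero, zero_add] at this
  exact this

theorem finrank_line_le (u : V) : Module.finrank F (line J u) ≤ 2 := by
  classical
  exact (finrank_span_le_card ({u, J u} : Set V)).trans (by simp [Finset.card_insert_le _ _ |>.trans])

/-- The codimension of a perp is at most the dimension. -/
theorem le_finrank_perp {W : Submodule F V} {k : ℕ} (hk : Module.finrank F W ≤ k) :
    Module.finrank F V ≤ Module.finrank F (perp Q W) + k := by
  rw [finrank_perp h.nondeg]
  omega

variable [Finite F]

/-- A subspace of small codimension contains a hyperbolic pair. -/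
theorem exists_pair {U : Submodule F V} (hU : Module.finrank F V + 3 ≤ 2 * Module.finrank F U) :
    ∃ u ∈ U, ∃ f ∈ U, Q u = 0 ∧ Q f = 0 ∧ polar Q u f = 1 := by
  set R := U ⊓ perp Q U
  obtain ⟨C, hC⟩ := exists_isCompl R
  set W := U ⊓ C
  have hW : Nondeg Q W := by
    intro x hx hperp
    refine Submodule.disjoint_def.1 hC.disjoint x ⟨hx.1, fun w hw => ?_⟩ hx.2
    obtain ⟨r, c, hr, hc, rfl⟩ := Submodule.codisjoint_iff_exists_add_eq.1 hC.codisjoint w
    have hcU : c ∈ U := by
      have := U.sub_mem hw hr.1
      simpa using this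
    show polar Q (r + c) x = 0
    rw [polar_add_left', perp_left hr.2 hx.1, QuadraticMap.polar_comm, hperp c ⟨hcU, hc⟩, add_zero]
  have h1 : Module.finrank F U ≤ Module.finrank F R + Module.finrank F W := by
    have hsup : U ≤ R ⊔ W := fun w hw => by
      obtain ⟨r, c, hr, hc, rfl⟩ := Submodule.codisjoint_iff_exists_add_eq.1 hC.codisjoint w
      exact Submodule.add_mem_sup hr ⟨by simpa using U.sub_mem hw hr.1, hc⟩
    exact (Submodule.finrank_mono hsup).trans (Submodule.finrank_add_le_finrank_add_finrank R W)
  have h2 : Module.finrank F R ≤ Module.finrank F (perp Q U) := Submodule.finrank_mono inf_le_right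
  have h4 := finrank_perp h.nondeg U
  have h5 := Submodule.finrank_le U
  obtain ⟨u, hu, hu0, hqu⟩ := hW.exists_singular (by omega)
  obtain ⟨f, hf, hqf, huf⟩ := hW.exists_pair hu hqu hu0
  exact ⟨u, hu.1, f, hf.1, hqu, hqf, huf⟩

/-- A subspace of small codimension is spanned by its singular vectors. -/
theorem le_of_singular_vectors {U P : Submodule F V} (hU : Module.finrank F V + 3 ≤ 2 * Module.finrank F U)
    (hP : ∀ x ∈ U, Q x = 0 → x ∈ P) : U ≤ P := by
  obtain ⟨u, hu, f, hf, hqu, hqf, huf⟩ := exists_pair h hU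
  exact OrthMax.le_of_singular hu hf hqu hqf huf hP

/-- A subspace of small codimension has singular vectors outside a smaller subspace. -/
theorem exists_singular_notMem {U L : Submodule F V} (hU : Module.finrank F V + 3 ≤ 2 * Module.finrank F U)
    (hL : ¬ U ≤ L) : ∃ x ∈ U, Q x = 0 ∧ x ∉ L := by
  by_contra! hc
  exact hL (le_of_singular_vectors h hU hc)

/-- A vector avoiding a subspace of small dimension pairs with a singular vector of its perp. -/
theorem exists_singular_sep {W : Submodule F V} {k : ℕ} (hk : Module.finrank F W ≤ k)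
    (hk' : 2 * k + 3 ≤ Module.finrank F V) {x : V} (hx : x ∉ W) :
    ∃ y ∈ perp Q W, Q y = 0 ∧ polar Q y x ≠ 0 := by
  by_contra! hc
  refine hx ?_
  rw [← perp_perp h.nondeg W]
  refine mem_perp.2 fun y hy => ?_
  have hle : perp Q W ≤ perp Q (Submodule.span F {x}) := by
    refine le_of_singular_vectors h ?_ fun z hz hqz => mem_perp.2 fun w hw => ?_
    · have := le_finrank_perp h hk; omega
    · obtain ⟨c, rfl⟩ := Submodule.mem_span_singleton.1 hw
      rw [polar_smul_left', QuadraticMap.polar_comm, hc z hz hqz, mul_zero]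
  rw [QuadraticMap.polar_comm]
  exact mem_perp.1 (hle hy) x (Submodule.mem_span_singleton_self x)

/-- Every value is attained in a subspace of small codimension. -/
theorem exists_value {U : Submodule F V} (hU : Module.finrank F V + 3 ≤ 2 * Module.finrank F U) (c : F) :
    ∃ r ∈ U, Q r = c := by
  obtain ⟨u, hu, f, hf, hqu, hqf, huf⟩ := exists_pair h hU
  refine ⟨c • u + f, U.add_mem (U.smul_mem _ hu) hf, ?_⟩
  rw [apply_add, apply_smul, polar_smul_left', hqu, hqf, huf]
  ring

end CfsgLib.Geo.OrthOverfield
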