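/-
Normalisers of quadratic overfields (unitary groups inside orthogonal groups) are maximal in `Ω`.
-/
import Cfsg.Agent.Lib.Geo.OrthOverfieldBasic

set_option autoImplicit false

namespace CfsgLib.Geo.OrthOverfield

open CfsgLib.Classical CfsgLib.Classical.Quad CfsgLib.Geo.OrthMax CfsgLib.Geo.OrthBlock
open QuadraticMap (polar polarBilin)

variable {F : Type*} [Field F] {V : Type*} [AddCommGroup V] [Module F V] [FiniteDimensional F V]
  {Q : QuadraticForm F V}

/-- `g` normalises the algebra generated by `J`. -/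
def Normalises (J : V →ₗ[F] V) (g : OQ Q) : Prop :=
  ∃ a b : F, ∀ x, (g : V ≃ₗ[F] V) (J x) = a • (g : V ≃ₗ[F] V) x + b • J ((g : V ≃ₗ[F] V) x)

variable {J : V →ₗ[F] V} {t d : F} (h : IsOverfield Q J t d)
include h

theorem five : 5 ≤ Module.finrank F V := le_trans (by norm_num) h.rank

theorem finrank_lines_le (u v : V) : Module.finrank F (line J u ⊔ line J v : Submodule F V) ≤ 4 :=
  (Submodule.finrank_add_le_finrank_add_finrank _ _).trans
    (by have := finrank_line_le h u; have := finrank_line_le h v; omega)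

theorem finrank_sup_span_le {W : Submodule F V} {k : ℕ} (hk : Module.finrank F W ≤ k) (v : V) :
    Module.finrank F (W ⊔ Submodule.span F {v} : Submodule F V) ≤ k + 1 :=
  (Submodule.finrank_add_le_finrank_add_finrank _ _).trans
    (Nat.add_le_add hk (by
      classical
      exact (finrank_span_le_card ({v} : Set V)).trans (by simp)))

/-- The root element of a line commutes with `J`. -/
theorem eich_line_comm {v : V} (hv : Q v = 0) (c : F) (hc : polar Q v (c • J v) = 0) (x : V) :
    (eich h.nondeg hv hc : V ≃ₗ[F] V) (J x) = J ((eich h.nondeg hv hc : V ≃ₗ[F] V) x) := by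
  simp only [eich_apply, apply_smul, app_self h hv, map_add, map_smul, h.sq, polar_smul_right']
  rw [polar_map h x v, polar_left h x v]
  module

variable [Finite F]

/-- A singular vector in both perps, off both lines: the lines are equal or not orthogonal. -/
theorem exists_common {u v : V} (hqu : Q u = 0) (hqv : Q v = 0) (huv : v ∈ line J u ∨ v ∉ lperp Q J u) :
    ∃ z ∈ lperp Q J u, z ∈ lperp Q J v ∧ Q z = 0 ∧ z ∉ line J u ⊔ line J v := by
  have h1 := finrank_lines_le h u v
  have h3 := h.rank
  obtain ⟨z, hz, hqz, hzn⟩ : ∃ z ∈ perp Q (line J u ⊔ line J v), Q z = 0 ∧ z ∉ line J u ⊔ line J v := by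
    rcases huv with hv | hv
    · have hle : line J v ≤ line J u := Submodule.span_le.2 (by
        simp [Set.insert_subset_iff, hv, map_mem_line h hv])
      rw [sup_eq_left.2 hle] at h1 ⊢
      have h2 := finrank_line_le h u
      have h4 := le_finrank_perp h h2
      exact exists_singular_notMem h (by omega) (fun hle => by have := Submodule.finrank_mono hle; omega)
    · have hW : Nondeg Q (line J u ⊔ line J v : Submodule F V) := by
        intro x hx hperp
        obtain ⟨a, ha, b, hb, rfl⟩ := Submodule.mem_sup.1 hx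
        have hb0 : b = 0 := by
          by_contra hb0
          have hbu : b ∈ lperp Q J u := fun w hw => by
            have h5 := hperp w (Submodule.mem_sup_left hw)
            rw [polar_add_left', perp_left (line_le_lperp h hqu ha) hw, zero_add,
              QuadraticMap.polar_comm] at h5
            exact h5
          obtain ⟨c, e, hce⟩ := mem_line.1 (mem_line_swap h hb hb0)
          exact hv (hce ▸ Submodule.add_mem _ (Submodule.smul_mem _ _ hbu) (Submodule.smul_mem _ _ (map_mem_lperp h hbu)))
        subst hb0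
        rw [add_zero] at hperp ⊢
        by_contra ha0
        have hav : a ∈ lperp Q J v := fun w hw => by
          show polar Q w a = 0
          rw [QuadraticMap.polar_comm]; exact hperp w (Submodule.mem_sup_right hw)
        obtain ⟨c, e, hce⟩ := mem_line.1 (mem_line_swap h ha ha0)
        exact hv (lperp_swap h (hce ▸ Submodule.add_mem _ (Submodule.smul_mem _ _ hav)
          (Submodule.smul_mem _ _ (map_mem_lperp h hav))))
      have hU := hW.perp h.nondeg
      have h4 := le_finrank_perp h h1
      obtain ⟨z, hz, hz0, hqz⟩ := hU.exists_singular (by omega)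
      exact ⟨z, hz, hqz, fun hm => hz0 (Submodule.disjoint_def.1 (hW.isCompl h.nondeg).disjoint z hm hz)⟩
  exact ⟨z, fun w hw => hz w (Submodule.mem_sup_left hw), fun w hw => hz w (Submodule.mem_sup_right hw),
    hqz, hzn⟩

theorem coeff_eq {x z : V} (hx : x ≠ 0) (hz : z ∉ line J x) {a b a' b' : F}
    (e : a • x + b • J x + (a' • z + b' • J z) = 0) : a = 0 ∧ b = 0 ∧ a' = 0 ∧ b' = 0 := by
  by_cases hzero : a' • z + b' • J z = 0
  · rw [hzero, add_zero] at e
    obtain ⟨ha, hb⟩ := eq_zero_of_smul h hx e
    have hz0 : z ≠ 0 := fun e0 => hz (by rw [e0]; exact Submodule.zero_mem _)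
    obtain ⟨ha', hb'⟩ := eq_zero_of_smul h hz0 hzero
    exact ⟨ha, hb, ha', hb'⟩
  · exfalso
    have hmem : a' • z + b' • J z ∈ line J x := by
      rw [show a' • z + b' • J z = -(a • x + b • J x) from eq_neg_of_add_eq_zero_right e]
      exact neg_mem (mem_line.2 ⟨a, b, rfl⟩)
    have hin : a' • z + b' • J z ∈ line J z := mem_line.2 ⟨a', b', rfl⟩
    have h1 := mem_line_swap h hin hzero
    obtain ⟨p, q, hpq⟩ := mem_line.1 h1
    refine hz ?_
    rw [← hpq]
    exact Submodule.add_mem _ (Submodule.smul_mem _ _ hmem) (Submodule.smul_mem _ _ (map_mem_line h hmem))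

/-- An element mapping every singular line into a line normalises `J`. -/
theorem normalises_of_lines {g : OQ Q}
    (hg : ∀ v, Q v = 0 → (g : V ≃ₗ[F] V) (J v) ∈ line J ((g : V ≃ₗ[F] V) v)) : Normalises J g := by
  set J' : V →ₗ[F] V := ((g : V ≃ₗ[F] V) : V →ₗ[F] V) ∘ₗ J ∘ₗ ((g : V ≃ₗ[F] V).symm : V →ₗ[F] V)
  have hJ' : ∀ x, J' ((g : V ≃ₗ[F] V) x) = (g : V ≃ₗ[F] V) (J x) := fun x => by simp [J']
  have hline : ∀ x, Q x = 0 → J' x ∈ line J x := fun x hx => by
    obtain ⟨v, rfl⟩ := (g : V ≃ₗ[F] V).surjective x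
    rw [OQ.map_apply] at hx
    rw [hJ']
    exact hg v hx
  have hco : ∀ x z, Q x = 0 → Q z = 0 → x ≠ 0 → polar Q x z = 0 → z ∉ line J x → ∀ a b : F, J' x = a • x + b • J x →
      J' z = a • z + b • J z := by
    intro x z hx hz hx0 hxz hzn a b hab
    obtain ⟨a', b', ha'⟩ := mem_line.1 (hline z hz)
    obtain ⟨a'', b'', ha''⟩ := mem_line.1 (hline (x + z) (by rw [apply_add, hx, hz, hxz]; ring))
    rw [map_add, map_add, hab, ← ha'] at ha''
    obtain ⟨e1, e2, e3, e4⟩ := coeff_eq h hx0 hzn (a := a'' - a) (b := b'' - b) (a' := a'' - a')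
      (b' := b'' - b') (by linear_combination (norm := module) ha'')
    rw [← ha', show a' = a by linear_combination e1 - e3, show b' = b by linear_combination e2 - e4]
  obtain ⟨x, hx, hx0⟩ : ∃ x, Q x = 0 ∧ x ≠ 0 := by
    have h3 := h.rank
    obtain ⟨z, -, hqz, hzn⟩ := exists_singular_notMem h (U := ⊤) (L := ⊥) (by rw [finrank_top]; omega)
      (fun hle => by have := Submodule.finrank_mono hle; rw [finrank_top, finrank_bot] at this; omega)
    exact ⟨z, hqz, fun e => hzn (by rw [e]; exact Submodule.zero_mem _)⟩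
  obtain ⟨a, b, hab⟩ := mem_line.1 (hline x hx)
  have hsing : ∀ y, Q y = 0 → J' y = a • y + b • J y := by
    intro y hy
    rcases eq_or_ne y 0 with rfl | hy0
    · simp
    by_cases hyx : y ∉ line J x ∧ y ∈ lperp Q J x
    · exact hco x y hx hy hx0 (mem_lperp.1 hyx.2).1 hyx.1 a b hab.symm
    obtain ⟨z, hzx, hzy, hqz, hzn⟩ := exists_common h hx hy (by
      by_cases h1 : y ∈ line J x
      · exact Or.inl h1
      · exact Or.inr fun h2 => hyx ⟨h1, h2⟩)
    have hz0 : z ≠ 0 := fun e => hzn (by rw [e]; exact Submodule.zero_mem _)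
    have h1 := hco x z hx hqz hx0 (mem_lperp.1 hzx).1 (fun hm => hzn (Submodule.mem_sup_left hm)) a b hab.symm
    exact hco z y hqz hy hz0 (by rw [QuadraticMap.polar_comm]; exact (mem_lperp.1 hzy).1)
      (fun hm => hzn (Submodule.mem_sup_right (mem_line_swap h hm hy0))) a b h1
  have hall : ∀ y, J' y = a • y + b • J y := by
    have hle : (⊤ : Submodule F V) ≤ LinearMap.ker (J' - (a • LinearMap.id + b • J)) := by
      refine le_of_singular_vectors h ?_ fun y _ hy => ?_
      · rw [finrank_top]; have := h.rank; omega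
      · simp [hsing y hy]
    intro y
    have := hle (Submodule.mem_top (x := y))
    simpa [sub_eq_zero] using this
  exact ⟨a, b, fun y => by rw [← hJ', hall]⟩

/-- There are singular vectors. -/
theorem exists_singular : ∃ z, Q z = 0 ∧ z ≠ 0 := by
  have h3 := h.rank
  obtain ⟨z, -, hqz, hzn⟩ := exists_singular_notMem h (U := ⊤) (L := ⊥) (by rw [finrank_top]; omega)
    (fun hle => by have := Submodule.finrank_mono hle; rw [finrank_top, finrank_bot] at this; omega)
  exact ⟨z, hqz, fun e => hzn (by rw [e]; exact Submodule.zero_mem _)⟩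

/-- A singular vector in the perp of a line and of a vector, off both lines. -/
theorem exists_step (h10 : 10 ≤ Module.finrank F V) {u v : V} : ∃ z ∈ lperp Q J u, polar Q v z = 0 ∧ Q z = 0 ∧
    z ∉ line J u ⊔ line J v := by
  have h1 := finrank_lines_le h u v
  have h0 := finrank_sup_span_le h (finrank_line_le h u) v
  have h2 := le_finrank_perp h h0
  have h3 := h.rank
  obtain ⟨z, hz, hqz, hzn⟩ := exists_singular_notMem h (U := perp Q (line J u ⊔ Submodule.span F {v}))
    (L := line J u ⊔ line J v) (by omega) (fun hle => by have := Submodule.finrank_mono hle; omega)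
  exact ⟨z, fun w hw => hz w (Submodule.mem_sup_left hw),
    hz v (Submodule.mem_sup_right (Submodule.mem_span_singleton_self v)), hqz, hzn⟩

variable {K : Subgroup (OQ Q)}
  (hM : ∀ {w a : V} (hw : Q w = 0) (ha : polar Q w a = 0),
    (∀ x, (eich h.nondeg hw ha : V ≃ₗ[F] V) (J x) = J ((eich h.nondeg hw ha : V ≃ₗ[F] V) x)) →
      eich h.nondeg hw ha ∈ K)
include hM

theorem line_mem {v : V} (hv : Q v = 0) (hc : polar Q v ((1 : F) • J v) = 0) :
    eich h.nondeg hv hc ∈ K :=
  hM hv hc (eich_line_comm h hv 1 hc)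

theorem J_mem_rootSpace {v : V} (hv : Q v = 0) : J v ∈ rootSpace h.nondeg K v :=
  ⟨pol_self h hv, fun c hw ha => hM hw ha (eich_line_comm h hw c ha)⟩

/-- Moving a root by the root element of an orthogonal line. -/
theorem shift_mem {u w v : V} (hw : w ∈ rootSpace h.nondeg K u) (hqv : Q v = 0) (hv : v ∈ lperp Q J u) :
    polar Q w (J v) • v - polar Q w v • J v ∈ rootSpace h.nondeg K u := by
  have hc : polar Q v ((1 : F) • J v) = 0 := by rw [one_smul]; exact pol_self h hqv
  have hfix : (eich h.nondeg hqv hc : V ≃ₗ[F] V) u = u := by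
    have h1 : polar Q u v = 0 := (mem_lperp.1 hv).1
    have h2 : polar Q u (J v) = 0 := by
      have := (mem_lperp.1 (map_mem_lperp h hv)).1
      exact this
    rw [eich_apply, one_smul, h1, h2]
    simp
  have h1 := rootSpace_diff (line_mem h hM hqv hc) hfix hw
  rw [eich_apply, one_smul, app_self h hqv] at h1
  convert h1 using 1
  module

theorem exists_singular_root {u w : V} (hqu : Q u = 0) (hw : w ∈ rootSpace h.nondeg K u) (hwn : w ∉ line J u) :
    ∃ z ∈ rootSpace h.nondeg K u, z ∈ lperp Q J u ∧ Q z = 0 ∧ z ∉ line J u := by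
  have h2 := finrank_line_le h u
  have h3 := h.rank
  obtain ⟨v, hv, hqv, hvw⟩ := exists_singular_sep h h2 (by omega) hwn
  by_cases hvu : v ∈ line J u
  swap
  · refine ⟨_, shift_mem h hM hw hqv hv, ?_, ?_, ?_⟩
    · exact Submodule.sub_mem _ (Submodule.smul_mem _ _ hv) (Submodule.smul_mem _ _ (map_mem_lperp h hv))
    · refine line_singular h hqv (mem_line.2 ⟨polar Q w (J v), -polar Q w v, by module⟩)
    · intro hm
      have hne : polar Q w (J v) • v - polar Q w v • J v ≠ 0 := fun e => by
        have hv0 : v ≠ 0 := fun e0 => hvu (by rw [e0]; exact Submodule.zero_mem _)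
        have := (eq_zero_of_smul h hv0 (a := polar Q w (J v)) (b := -polar Q w v) (by rw [← e]; module)).2
        rw [neg_eq_zero, QuadraticMap.polar_comm] at this
        exact hvw this
      have h4 := mem_line_swap h (mem_line.2 ⟨polar Q w (J v), -polar Q w v, by module⟩ :
        polar Q w (J v) • v - polar Q w v • J v ∈ line J v) hne
      obtain ⟨p, q, hpq⟩ := mem_line.1 h4
      refine hvu ?_
      rw [← hpq]
      exact Submodule.add_mem _ (Submodule.smul_mem _ _ hm) (Submodule.smul_mem _ _ (map_mem_line h hm))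
  -- shift `v` off the line of `u`
  have hle : line J v ≤ line J u := Submodule.span_le.2 (by simp [Set.insert_subset_iff, hvu, map_mem_line h hvu])
  have h4 : Module.finrank F (line J u ⊔ line J v : Submodule F V) ≤ 2 := by rwa [sup_eq_left.2 hle]
  have h5 := le_finrank_perp h h4
  obtain ⟨y, hy, hqy, hyn⟩ := exists_singular_notMem h (U := perp Q (line J u ⊔ line J v))
    (L := line J u ⊔ line J v) (by omega) (fun hle => by have := Submodule.finrank_mono hle; omega)
  have hyu : y ∈ lperp Q J u := fun z hz => hy z (Submodule.mem_sup_left hz)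
  have hyv : polar Q v y = 0 := hy v (Submodule.mem_sup_right (self_mem_line v))
  obtain ⟨v', hv', hqv', hv'u, hv'w⟩ : ∃ v', v' ∈ lperp Q J u ∧ Q v' = 0 ∧ v' ∉ line J u ∧ polar Q v' w ≠ 0 := by
    by_cases hyw : polar Q y w = 0
    · refine ⟨v + y, Submodule.add_mem _ hv hyu, by rw [apply_add, hqv, hqy, hyv]; ring,
        fun hm => hyn (Submodule.mem_sup_left ?_), by rw [polar_add_left', hyw, add_zero]; exact hvw⟩
      simpa using Submodule.sub_mem _ hm hvu
    · exact ⟨y, hyu, hqy, fun hm => hyn (Submodule.mem_sup_left hm), hyw⟩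
  have hne : polar Q w (J v') • v' - polar Q w v' • J v' ≠ 0 := fun e => by
    have hv0 : v' ≠ 0 := fun e0 => hv'u (by rw [e0]; exact Submodule.zero_mem _)
    have := (eq_zero_of_smul h hv0 (a := polar Q w (J v')) (b := -polar Q w v') (by rw [← e]; module)).2
    rw [neg_eq_zero, QuadraticMap.polar_comm] at this
    exact hv'w this
  have hin : polar Q w (J v') • v' - polar Q w v' • J v' ∈ line J v' :=
    mem_line.2 ⟨polar Q w (J v'), -polar Q w v', by module⟩
  refine ⟨_, shift_mem h hM hw hqv' hv', ?_, line_singular h hqv' hin, fun hm => hv'u ?_⟩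
  · exact Submodule.sub_mem _ (Submodule.smul_mem _ _ hv') (Submodule.smul_mem _ _ (map_mem_lperp h hv'))
  obtain ⟨p, q, hpq⟩ := mem_line.1 (mem_line_swap h hin hne)
  rw [← hpq]
  exact Submodule.add_mem _ (Submodule.smul_mem _ _ hm) (Submodule.smul_mem _ _ (map_mem_line h hm))

/-- A linear form on root vectors vanishing at a singular point forces the root vectors into a small space. -/
theorem vanish (h10 : 10 ≤ Module.finrank F V) {u p z : V} (hqu : Q u = 0) (hqp : Q p = 0) (hp : p ∈ lperp Q J u) (hpn : p ∉ line J u)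
    (hall : ∀ z ∈ rootSpace h.nondeg K u, z ∈ lperp Q J u → polar Q z p = 0)
    (hz : z ∈ rootSpace h.nondeg K u) (hzU : z ∈ lperp Q J u) :
    z ∈ line J u ⊔ Submodule.span F {p} := by
  have h3 := h.rank
  set W := line J u ⊔ Submodule.span F {p}
  have hW : Module.finrank F W ≤ 3 := finrank_sup_span_le h (finrank_line_le h u) p
  have key : ∀ q, q ∈ perp Q W → Q q = 0 → polar Q q (J p) ≠ 0 → polar Q z q = 0 := by
    intro q hq hqq hμ
    have hqU : q ∈ lperp Q J u := fun w hw => hq w (Submodule.mem_sup_left hw)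
    have hqp' : polar Q q p = 0 := by
      rw [QuadraticMap.polar_comm]; exact hq p (Submodule.mem_sup_right (Submodule.mem_span_singleton_self p))
    have h1 := hall _ (shift_mem h hM hz hqq hqU)
      (Submodule.sub_mem _ (Submodule.smul_mem _ _ hqU) (Submodule.smul_mem _ _ (map_mem_lperp h hqU)))
    rw [sub_eq_add_neg, ← neg_smul, polar_add_left', polar_smul_left', polar_smul_left', hqp', polar_left h q p,
      hqp'] at h1
    by_contra h0
    exact mul_ne_zero h0 hμ (by linear_combination h1)
  rw [← perp_perp h.nondeg W]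
  refine mem_perp.2 fun y hy => ?_
  rw [QuadraticMap.polar_comm]
  obtain ⟨q₀, hq₀, hqq₀, hμ₀⟩ := exists_singular_sep h hW (by omega) (x := J p) (by
    intro hm
    obtain ⟨l, hl, s, hs, hls⟩ := Submodule.mem_sup.1 hm
    obtain ⟨c, rfl⟩ := Submodule.mem_span_singleton.1 hs
    have hne : J p - c • p ≠ 0 := fun e => by
      have := (eq_zero_of_smul h (v := p) (fun e0 => hpn (by rw [e0]; exact Submodule.zero_mem _))
        (a := -c) (b := 1) (by rw [← e]; module)).2
      exact one_ne_zero this
    have hin : J p - c • p ∈ line J p := mem_line.2 ⟨-c, 1, by module⟩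
    have hl' : J p - c • p ∈ line J u := by rw [← hls, add_sub_cancel_right]; exact hl
    obtain ⟨e, f, hef⟩ := mem_line.1 (mem_line_swap h hin hne)
    exact hpn (hef ▸ Submodule.add_mem _ (Submodule.smul_mem _ _ hl') (Submodule.smul_mem _ _ (map_mem_line h hl'))))
  have hJp : J p ∈ perp Q W := fun w hw => by
    obtain ⟨l, hl, s, hs, rfl⟩ := Submodule.mem_sup.1 hw
    obtain ⟨c, rfl⟩ := Submodule.mem_span_singleton.1 hs
    show polar Q _ (J p) = 0
    rw [polar_add_left', polar_smul_left', show polar Q l (J p) = 0 from map_mem_lperp h hp l hl, pol_self h hqp]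
    ring
  have hμJ : polar Q (J p) (J p) = 0 := by rw [polar_self', app_self h hqp, mul_zero]
  -- the vectors orthogonal to the pair `q₀`, `J p`
  set P := perp Q W ⊓ perp Q (Submodule.span F {q₀, J p})
  have hP : ∀ r ∈ P, polar Q q₀ r = 0 ∧ polar Q (J p) r = 0 := fun r hr =>
    ⟨hr.2 q₀ (Submodule.subset_span (by simp)), hr.2 (J p) (Submodule.subset_span (by simp))⟩
  have hval : ∀ r ∈ P, polar Q z r = (polar Q z (J p) / polar Q q₀ (J p)) * Q r := fun r hr => by
    obtain ⟨hq₀r, hJr⟩ := hP r hr
    set c := -Q r / polar Q q₀ (J p)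
    have h1 := key (q₀ + c • J p + r)
      ((perp Q W).add_mem ((perp Q W).add_mem hq₀ ((perp Q W).smul_mem _ hJp)) hr.1)
      (by
        rw [apply_add, apply_add, apply_smul, polar_smul_right', polar_add_left', polar_smul_left', hqq₀,
          app_self h hqp, hq₀r, hJr]
        simp only [c]
        field_simp
        ring)
      (by
        rw [polar_add_left', polar_add_left', polar_smul_left', hμJ, QuadraticMap.polar_comm _ r, hJr, mul_zero,
          add_zero, add_zero]
        exact hμ₀)
    rw [polar_add_right', polar_add_right', polar_smul_right', key q₀ hq₀ hqq₀ hμ₀] at h1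
    simp only [c] at h1
    field_simp at h1 ⊢
    linear_combination h1
  have hzJ : polar Q z (J p) = 0 := by
    by_contra hne
    have hc : polar Q z (J p) / polar Q q₀ (J p) ≠ 0 := div_ne_zero hne hμ₀
    have hiso : ∀ r ∈ P, ∀ r' ∈ P, polar Q r r' = 0 := fun r hr r' hr' => by
      have h1 := hval (r + r') (P.add_mem hr hr')
      rw [polar_add_right', hval r hr, hval r' hr', apply_add] at h1
      exact (mul_eq_zero.1 (show (polar Q z (J p) / polar Q q₀ (J p)) * polar Q r r' = 0 by
        linear_combination -h1)).resolve_left hc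
    have hle : P ≤ W := by
      intro r hr
      have hr' : r ∈ perp Q P := fun w hw => hiso w hw r hr
      have hPeq : perp Q P = W ⊔ Submodule.span F {q₀, J p} := by
        have hP' : P = perp Q (W ⊔ Submodule.span F {q₀, J p}) := by
          refine le_antisymm (fun x hx w hw => ?_) (le_inf (fun x hx w hw => hx w (Submodule.mem_sup_left hw))
            fun x hx w hw => hx w (Submodule.mem_sup_right hw))
          obtain ⟨a, ha, b, hb, rfl⟩ := Submodule.mem_sup.1 hw
          show polar Q (a + b) x = 0
          rw [polar_add_left', show polar Q a x = 0 from hx.1 a ha, show polar Q b x = 0 from hx.2 b hb, add_zero]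
        rw [hP', perp_perp h.nondeg]
      rw [hPeq] at hr'
      obtain ⟨w, hw, x, hx, rfl⟩ := Submodule.mem_sup.1 hr'
      obtain ⟨a, b, rfl⟩ := Submodule.mem_span_pair.1 hx
      obtain ⟨e1, e2⟩ := hP _ hr
      have hw1 : polar Q q₀ w = 0 := by rw [QuadraticMap.polar_comm]; exact hq₀ w hw
      have hw2 : polar Q (J p) w = 0 := by rw [QuadraticMap.polar_comm]; exact hJp w hw
      rw [polar_add_right', polar_add_right', polar_smul_right', polar_smul_right', hw1, polar_self', hqq₀] at e1
      rw [polar_add_right', polar_add_right', polar_smul_right', polar_smul_right', hw2, hμJ,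
        QuadraticMap.polar_comm _ (J p) q₀] at e2
      have hb : b = 0 := (mul_eq_zero.1 (show b * polar Q q₀ (J p) = 0 by linear_combination e1)).resolve_right hμ₀
      have ha : a = 0 := (mul_eq_zero.1 (show a * polar Q q₀ (J p) = 0 by linear_combination e2)).resolve_right hμ₀
      rw [ha, hb, zero_smul, zero_smul, add_zero, add_zero]
      exact hw
    have h6 : Module.finrank F (W ⊔ Submodule.span F {q₀, J p} : Submodule F V) ≤ 5 :=
      (Submodule.finrank_add_le_finrank_add_finrank _ _).trans (Nat.add_le_add (b := 3) (d := 2) hW (by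
        classical
        exact (finrank_span_le_card ({q₀, J p} : Set V)).trans (by
          simp [Finset.card_insert_le _ _ |>.trans])))
    have h7 := le_finrank_perp h h6
    have h8 : perp Q (W ⊔ Submodule.span F {q₀, J p}) ≤ P :=
      le_inf (fun x hx w hw => hx w (Submodule.mem_sup_left hw)) fun x hx w hw => hx w (Submodule.mem_sup_right hw)
    have := Submodule.finrank_mono (h8.trans hle)
    omega
  set a := polar Q y (J p) / polar Q q₀ (J p) with ha
  set b := polar Q q₀ y / polar Q q₀ (J p) with hb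
  have hr : y - (a • q₀ + b • J p) ∈ P := by
    refine ⟨(perp Q W).sub_mem hy ((perp Q W).add_mem ((perp Q W).smul_mem _ hq₀) ((perp Q W).smul_mem _ hJp)),
      fun w hw => ?_⟩
    obtain ⟨c, e, rfl⟩ := Submodule.mem_span_pair.1 hw
    show polar Q _ _ = 0
    rw [polar_add_left', polar_smul_left', polar_smul_left', QuadraticMap.polar_sub_right,
      QuadraticMap.polar_sub_right, polar_add_right', polar_add_right', polar_smul_right', polar_smul_right',
      polar_smul_right', polar_smul_right', polar_self', hqq₀, hμJ, QuadraticMap.polar_comm _ (J p) q₀,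
      QuadraticMap.polar_comm _ (J p) y, ha, hb]
    field_simp
    ring
  have h1 := hval _ hr
  rw [QuadraticMap.polar_sub_right, polar_add_right', polar_smul_right', polar_smul_right',
    key q₀ hq₀ hqq₀ hμ₀, hzJ, zero_div, zero_mul] at h1
  linear_combination h1

theorem lperp_le_rootSpace (h10 : 10 ≤ Module.finrank F V) {u w : V} (hqu : Q u = 0) (hw : w ∈ rootSpace h.nondeg K u) (hwn : w ∉ line J u) :
    lperp Q J u ≤ rootSpace h.nondeg K u := by
  have h3 := h.rank
  obtain ⟨z₀, hz₀, hz₀U, -, hz₀n⟩ := exists_singular_root h hM hqu hw hwn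
  -- no line of `U` is annihilated
  have nocase : ∀ p, Q p = 0 → p ∈ lperp Q J u → p ∉ line J u →
      ∃ z ∈ rootSpace h.nondeg K u, z ∈ lperp Q J u ∧ polar Q z p ≠ 0 := by
    intro p hqp hp hpn
    by_contra! hc
    obtain ⟨l, hl, s, hs, hls⟩ := Submodule.mem_sup.1 (vanish h hM h10 hqu hqp hp hpn hc hz₀ hz₀U)
    obtain ⟨e, rfl⟩ := Submodule.mem_span_singleton.1 hs
    have he : e ≠ 0 := by
      rintro rfl
      rw [zero_smul, add_zero] at hls
      exact hz₀n (hls ▸ hl)
    obtain ⟨q, hq, hqq, hqp'⟩ := exists_singular_sep h (finrank_line_le h u) (by omega) hpn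
    have hmem := shift_mem h hM hz₀ hqq hq
    have hmU : polar Q z₀ (J q) • q - polar Q z₀ q • J q ∈ lperp Q J u :=
      Submodule.sub_mem _ (Submodule.smul_mem _ _ hq) (Submodule.smul_mem _ _ (map_mem_lperp h hq))
    have hsmall := vanish h hM h10 hqu hqp hp hpn hc hmem hmU
    set m := polar Q z₀ (J q) • q - polar Q z₀ q • J q
    have hz₀q : polar Q z₀ q ≠ 0 := by
      rw [← hls, polar_add_left', polar_smul_left', QuadraticMap.polar_comm _ p q]
      have hlq : polar Q l q = 0 := hq l hl
      rw [hlq, zero_add]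
      exact mul_ne_zero he hqp'
    have hm : m ≠ 0 := fun e0 => by
      have := (eq_zero_of_smul h (v := q) (fun e1 => hqp' (by rw [e1, QuadraticMap.polar_zero_left]))
        (a := polar Q z₀ (J q)) (b := -polar Q z₀ q) (by rw [← e0]; simp only [m]; module)).2
      exact hz₀q (neg_eq_zero.1 this)
    have hin : m ∈ line J q := mem_line.2 ⟨polar Q z₀ (J q), -polar Q z₀ q, by simp only [m]; module⟩
    obtain ⟨a, b, hab⟩ := mem_line.1 (mem_line_swap h hin hm)
    refine hqp' ?_
    obtain ⟨l', hl', s', hs', hls'⟩ := Submodule.mem_sup.1 hsmall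
    obtain ⟨e', rfl⟩ := Submodule.mem_span_singleton.1 hs'
    have h1 : polar Q m p = 0 := by
      rw [← hls', polar_add_left', polar_smul_left', polar_self', hqp, show polar Q l' p = 0 from hp l' hl']
      ring
    have h2 : polar Q (J m) p = 0 := by
      rw [← hls', map_add, map_smul, polar_add_left', polar_smul_left', show polar Q (J l') p = 0 from hp _ (map_mem_line h hl'),
        QuadraticMap.polar_comm, pol_self h hqp]
      ring
    rw [← hab, polar_add_left', polar_smul_left', polar_smul_left', h1, h2]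
    ring
  refine le_of_singular_vectors h (by
    have := le_finrank_perp h (finrank_line_le h u)
    show _ ≤ 2 * Module.finrank F (perp Q (line J u))
    omega) fun p hp hqp => ?_
  by_cases hpu : p ∈ line J u
  · obtain ⟨a, b, rfl⟩ := mem_line.1 hpu
    refine Submodule.add_mem _ (Submodule.smul_mem _ _ ?_) (Submodule.smul_mem _ _ (J_mem_rootSpace h hM hqu))
    refine ⟨by rw [polar_self', hqu, mul_zero], fun c hw' ha => ?_⟩
    have := eich_add_smul h.nondeg hw' (a := 0) (QuadraticMap.polar_zero_right _ _) c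
    rw [eich_congr h.nondeg rfl (zero_add (c • u)), eich_zero_right] at this
    rw [this]
    exact K.one_mem
  -- the two functionals on root vectors are independent
  obtain ⟨z₁, hz₁, hz₁U, hz₁p⟩ := nocase p hqp hp hpu
  set p' := polar Q z₁ (J p) • p - polar Q z₁ p • J p
  have hp'in : p' ∈ line J p := mem_line.2 ⟨polar Q z₁ (J p), -polar Q z₁ p, by simp only [p']; module⟩
  have hp'U : p' ∈ lperp Q J u :=
    Submodule.sub_mem _ (Submodule.smul_mem _ _ hp) (Submodule.smul_mem _ _ (map_mem_lperp h hp))
  have hp'0 : p' ≠ 0 := fun e => by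
    have := (eq_zero_of_smul h (v := p) (fun e0 => hpu (by rw [e0]; exact Submodule.zero_mem _))
      (a := polar Q z₁ (J p)) (b := -polar Q z₁ p) (by rw [← e]; simp only [p']; module)).2
    exact hz₁p (neg_eq_zero.1 this)
  have hp'n : p' ∉ line J u := fun hm => hpu (by
    obtain ⟨a, b, hab⟩ := mem_line.1 (mem_line_swap h hp'in hp'0)
    rw [← hab]
    exact Submodule.add_mem _ (Submodule.smul_mem _ _ hm) (Submodule.smul_mem _ _ (map_mem_line h hm)))
  obtain ⟨z₂, hz₂, hz₂U, hz₂p⟩ := nocase p' (line_singular h hqp hp'in) hp'U hp'n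
  have hDet : polar Q z₁ (J p) * polar Q z₂ p - polar Q z₁ p * polar Q z₂ (J p) ≠ 0 := by
    intro e
    refine hz₂p ?_
    simp only [p', QuadraticMap.polar_sub_right, polar_smul_right']
    linear_combination e
  have h1 := shift_mem h hM hz₁ hqp hp
  have h2 := shift_mem h hM hz₂ hqp hp
  have h4 := Submodule.sub_mem _ (Submodule.smul_mem _ (polar Q z₁ p) h2) (Submodule.smul_mem _ (polar Q z₂ p) h1)
  have h5 := Submodule.smul_mem _ (-(polar Q z₁ (J p) * polar Q z₂ p - polar Q z₁ p * polar Q z₂ (J p)))⁻¹ h4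
  convert h5 using 1
  rw [eq_inv_smul_iff₀ (neg_ne_zero.2 hDet)]
  module

theorem le_of_root (h10 : 10 ≤ Module.finrank F V) {u w : V} (hqu : Q u = 0) (hu0 : u ≠ 0) (hw : w ∈ rootSpace h.nondeg K u) (hwn : w ∉ line J u) :
    eichGroup h.nondeg ≤ K := by
  have h3 := h.rank
  have full : ∀ v, Q v = 0 → lperp Q J v ≤ rootSpace h.nondeg K v := by
    intro v hqv
    rcases eq_or_ne v 0 with rfl | hv0
    · intro x _
      refine ⟨QuadraticMap.polar_zero_left _ _, fun c hw' ha => ?_⟩
      rw [eich_zero_left]
      exact K.one_mem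
    by_cases hvu : v ∉ line J u ∧ v ∈ lperp Q J u
    · exact lperp_le_rootSpace h hM h10 hqv
        (mem_rootSpace_swap hqu hqv (lperp_le_rootSpace h hM h10 hqu hw hwn hvu.2))
        fun hm => hvu.1 (mem_line_swap h hm hu0)
    obtain ⟨z, hzu, hzv, hqz, hzn⟩ := exists_common h hqu hqv (by
      by_cases h1 : v ∈ line J u
      · exact Or.inl h1
      · exact Or.inr fun h2 => hvu ⟨h1, h2⟩)
    have h1 := lperp_le_rootSpace h hM h10 hqu hw hwn hzu
    have h2 := lperp_le_rootSpace h hM h10 hqz (mem_rootSpace_swap hqu hqz h1) (fun hm => by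
      exact hzn (Submodule.mem_sup_left (mem_line_swap h hm hu0)))
    exact lperp_le_rootSpace h hM h10 hqv (mem_rootSpace_swap hqz hqv (h2 (lperp_swap h hzv)))
      fun hm => hzn (Submodule.mem_sup_right hm)
  have hroot : ∀ v, Q v = 0 → v ≠ 0 → HasRoot h.nondeg K v := by
    intro v hqv hv0
    have hv1 : Module.finrank F (Submodule.span F {v}) ≤ 1 := by rw [finrank_span_singleton hv0]
    obtain ⟨a, ha, hqa, haJ⟩ := exists_singular_sep h hv1 (by omega) (x := J v) (fun hm => by
      obtain ⟨c, hc⟩ := Submodule.mem_span_singleton.1 hm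
      exact one_ne_zero (eq_zero_of_smul h hv0 (a := -c) (b := 1) (by rw [← hc]; module)).2)
    have hva : polar Q v a = 0 := ha v (Submodule.mem_span_singleton_self v)
    set W := line J v ⊔ Submodule.span F {a}
    have hW : Module.finrank F W ≤ 3 := finrank_sup_span_le h (finrank_line_le h v) a
    have h4 := finrank_lines_le h v a
    have h5 := le_finrank_perp h h4
    obtain ⟨b, hb, hqb, hbn⟩ : ∃ b ∈ perp Q (line J v ⊔ line J a), Q b = 0 ∧ b ∉ W := by
      obtain ⟨b, hb1, hb2, hqb, hbn⟩ := exists_common h hqv hqa (Or.inr fun hm => haJ (by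
        rw [QuadraticMap.polar_comm]; exact (mem_lperp.1 hm).2))
      refine ⟨b, fun w hw => ?_, hqb, fun hm => hbn ?_⟩
      · obtain ⟨x, hx, y, hy, rfl⟩ := Submodule.mem_sup.1 hw
        show polar Q _ b = 0
        rw [polar_add_left', show polar Q x b = 0 from hb1 x hx, show polar Q y b = 0 from hb2 y hy, add_zero]
      · exact (sup_le le_sup_left ((Submodule.span_le.2 (Set.singleton_subset_iff.2 (self_mem_line a))).trans le_sup_right) :
          W ≤ line J v ⊔ line J a) hm
    obtain ⟨x, hx, -, hxb⟩ := exists_singular_sep h hW (by omega) hbn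
    have hba : b ∈ lperp Q J a := fun w hw => hb w (Submodule.mem_sup_right hw)
    have hbv : b ∈ lperp Q J v := fun w hw => hb w (Submodule.mem_sup_left hw)
    have hab : polar Q a b = 0 := (mem_lperp.1 hba).1
    have hg : eich h.nondeg hqa hab ∈ K := by
      have h1 : eich h.nondeg hqa (a := (1 : F) • b) (by rw [one_smul]; exact hab) ∈ K :=
        (full a hqa hba).2 1 _ _
      rwa [eich_congr h.nondeg rfl (one_smul F b)] at h1
    have hfix : (eich h.nondeg hqa hab : V ≃ₗ[F] V) v = v := by
      rw [eich_apply, hva, (mem_lperp.1 hbv).1]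
      simp
    have hxa : polar Q x a = 0 := by
      rw [QuadraticMap.polar_comm]; exact hx a (Submodule.mem_sup_right (Submodule.mem_span_singleton_self a))
    have hd := rootSpace_diff hg hfix (full v hqv fun w hw => hx w (Submodule.mem_sup_left hw))
    rw [eich_apply, hqb, hxa] at hd
    have haR : a ∈ rootSpace h.nondeg K v := by
      have := Submodule.smul_mem _ (polar Q x b)⁻¹ hd
      convert this using 1
      rw [eq_inv_smul_iff₀ hxb]
      module
    intro c hw' hc
    have hcR : c ∈ rootSpace h.nondeg K v := by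
      set s := polar Q (J v) c / polar Q (J v) a
      have hJa : polar Q (J v) a ≠ 0 := by rw [QuadraticMap.polar_comm]; exact haJ
      have hin : c - s • a ∈ lperp Q J v := by
        refine mem_lperp.2 ⟨?_, ?_⟩
        · rw [QuadraticMap.polar_sub_right, polar_smul_right', hc, hva, mul_zero, sub_zero]
        · rw [QuadraticMap.polar_sub_right, polar_smul_right', div_mul_cancel₀ _ hJa, sub_self]
      have := Submodule.add_mem _ (full v hqv hin) (Submodule.smul_mem _ s haR)
      rwa [sub_add_cancel] at this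
    have h1 := hcR.2 1 hw' (by rw [one_smul]; exact hc)
    rwa [eich_congr h.nondeg rfl (one_smul F c)] at h1
  obtain ⟨v, -, hqv, hv0⟩ : ∃ v ∈ (⊤ : Submodule F V), Q v = 0 ∧ v ∉ (⊥ : Submodule F V) :=
    exists_singular_notMem h (by rw [finrank_top]; omega) (fun hle => by
      have := Submodule.finrank_mono hle
      rw [finrank_top, finrank_bot] at this
      omega)
  rw [Submodule.mem_bot] at hv0
  obtain ⟨f, hqf, hvf, -⟩ := exists_singular_partner h.nondeg (U := ⊥) hqv
    (fun x hx => by rw [(Submodule.mem_bot F).1 hx, QuadraticMap.polar_zero_left]) (by rwa [Submodule.mem_bot])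
  exact OrthBlock.le_of_pair (five h) hqv hqf hvf (hroot v hqv hv0)
    (hroot f hqf fun e => by rw [e, QuadraticMap.polar_zero_right] at hvf; exact zero_ne_one hvf)

/-- An element not normalising `J` generates `Ω` with the normaliser. -/
theorem le_of_not_normalises (h10 : 10 ≤ Module.finrank F V) {g : OQ Q} (hg : g ∈ K) (hn : ¬ Normalises J g) : eichGroup h.nondeg ≤ K := by
  obtain ⟨v, hv, hvn⟩ : ∃ v, Q v = 0 ∧ (g : V ≃ₗ[F] V) (J v) ∉ line J ((g : V ≃ₗ[F] V) v) := by
    by_contra! hc
    exact hn (normalises_of_lines h hc)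
  have hv0 : v ≠ 0 := fun e => hvn (by simp [e])
  exact le_of_root h hM h10 (by rw [OQ.map_apply, hv]) (fun e => hv0 ((g : V ≃ₗ[F] V).map_eq_zero_iff.1 e))
    (mem_rootSpace_conj hg (J_mem_rootSpace h hM hv)) hvn

omit hM in
theorem exists_not_normalises : ∃ g ∈ eichGroup h.nondeg, ¬ Normalises J g := by
  have h3 := h.rank
  obtain ⟨a, -, hqa, ha0⟩ : ∃ a ∈ (⊤ : Submodule F V), Q a = 0 ∧ a ∉ (⊥ : Submodule F V) :=
    exists_singular_notMem h (by rw [finrank_top]; omega) (fun hle => by
      have := Submodule.finrank_mono hle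
      rw [finrank_top, finrank_bot] at this
      omega)
  rw [Submodule.mem_bot] at ha0
  have h2 := finrank_line_le h a
  have h4 := le_finrank_perp h h2
  obtain ⟨b, hb, hqb, hbn⟩ := exists_singular_notMem h (U := perp Q (line J a)) (L := line J a)
    (by omega) (fun hle => by have := Submodule.finrank_mono hle; omega)
  have hab : polar Q a b = 0 := hb a (self_mem_line a)
  refine ⟨eich h.nondeg hqa hab, eich_mem h.nondeg (five h) hqa hab, fun ⟨α, β, hαβ⟩ => ?_⟩
  set g := eich h.nondeg hqa hab
  have hga : ∀ y, polar Q y a = 0 → polar Q y b = 0 → (g : V ≃ₗ[F] V) y = y := fun y h1 h2 => by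
    rw [eich_apply, h1, h2]
    simp
  have h6 := finrank_lines_le h a b
  have h7 := le_finrank_perp h h6
  obtain ⟨y, hy, hy0⟩ := Submodule.exists_mem_ne_zero_of_ne_bot
    (show perp Q (line J a ⊔ line J b) ≠ (⊥ : Submodule F V) from fun e => by rw [e, finrank_bot] at h7; omega)
  have hya : y ∈ lperp Q J a := fun w hw => hy w (Submodule.mem_sup_left hw)
  have hyb : y ∈ lperp Q J b := fun w hw => hy w (Submodule.mem_sup_right hw)
  have e1 := hαβ y
  rw [hga y (by rw [QuadraticMap.polar_comm]; exact (mem_lperp.1 hya).1)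
      (by rw [QuadraticMap.polar_comm]; exact (mem_lperp.1 hyb).1),
    hga (J y) (by rw [QuadraticMap.polar_comm]; exact (mem_lperp.1 (map_mem_lperp h hya)).1)
      (by rw [QuadraticMap.polar_comm]; exact (mem_lperp.1 (map_mem_lperp h hyb)).1)] at e1
  obtain ⟨hα, hβ⟩ := eq_zero_of_smul h hy0 (a := α) (b := β - 1) (by linear_combination (norm := module) -e1)
  obtain ⟨x, hx, -, hxb⟩ := exists_singular_sep h
    (show Module.finrank F (Submodule.span F {a}) ≤ 1 by rw [finrank_span_singleton ha0]) (by omega) (x := b)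
    (fun hm => hbn ((Submodule.span_le.2 (Set.singleton_subset_iff.2 (self_mem_line a))) hm))
  have hxa : polar Q x a = 0 := by
    rw [QuadraticMap.polar_comm]; exact hx a (Submodule.mem_span_singleton_self a)
  have e2 := hαβ x
  rw [hα, sub_eq_zero.1 hβ, zero_smul, one_smul, zero_add, eich_apply, eich_apply, hqb, hxa] at e2
  simp only [zero_mul, sub_zero, neg_zero, zero_smul, add_zero, map_add, map_smul] at e2
  -- `a`, `J a`, `b` are independent
  by_cases hJxa : polar Q (J x) a = 0
  · rw [hJxa, neg_zero, zero_smul, add_zero, add_right_inj] at e2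
    have := (eq_zero_of_smul h ha0 (a := polar Q (J x) b) (b := -polar Q x b)
      (by linear_combination (norm := module) e2)).2
    exact hxb (neg_eq_zero.1 this)
  · refine hbn (mem_line.2 ⟨polar Q (J x) b / polar Q (J x) a, -(polar Q x b) / polar Q (J x) a, ?_⟩)
    refine smul_right_injective V hJxa ?_
    show polar Q (J x) a • _ = polar Q (J x) a • b
    rw [smul_add, smul_smul, smul_smul, mul_div_cancel₀ _ hJxa, mul_div_cancel₀ _ hJxa]
    linear_combination (norm := module) e2

end CfsgLib.Geo.OrthOverfield
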