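/-
Matrix form of the maximality of normalisers of quadratic overfields in `Ω`.
-/
import Cfsg.Agent.Lib.Geo.OrthOverfieldMax

set_option autoImplicit false

namespace CfsgLib.Geo.OrthOverfield

open CfsgLib.Classical CfsgLib.Classical.Quad CfsgLib.Geo.OrthMax
open QuadraticMap (polar polarBilin)
open Matrix

variable {F : Type*} [Field F] [Finite F] {ι : Type} [Fintype ι] [DecidableEq ι]

omit [Finite F] in
/-- A field subalgebra of degree two is generated by one element. -/
theorem exists_gen [Nonempty ι] {A : Subalgebra F (Matrix ι ι F)} (hA : Cfsg.Geo.IsFieldSubalgebra 2 A) :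
    ∃ (k : Matrix ι ι F) (t d : F), k ∈ A ∧ k * k = t • k - d • 1 ∧ (∀ a : F, a * a - t * a + d ≠ 0) ∧
      (∀ x ∈ A, ∃ a b : F, a • (1 : Matrix ι ι F) + b • k = x) ∧ ∀ a : F, k ≠ a • 1 := by
  obtain ⟨k, hk, hkn⟩ : ∃ k ∈ A, ∀ a : F, k ≠ a • 1 := by
    by_contra! hc
    have hle : (Subalgebra.toSubmodule A) ≤ Submodule.span F {(1 : Matrix ι ι F)} := fun x hx => by
      obtain ⟨a, rfl⟩ := hc x hx
      exact Submodule.smul_mem _ _ (Submodule.mem_span_singleton_self _)
    have h1 := Submodule.finrank_mono hle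
    have h2 := hA.finrank_eq
    rw [finrank_span_singleton (one_ne_zero : (1 : Matrix ι ι F) ≠ 0)] at h1
    rw [Subalgebra.finrank_toSubmodule] at h1
    omega
  have hli : LinearIndependent F ![(1 : Matrix ι ι F), k] := by
    refine LinearIndependent.pair_iff.2 fun a b e => ?_
    by_cases hb : b = 0
    · rw [hb, zero_smul, add_zero, smul_eq_zero] at e
      exact ⟨e.resolve_right one_ne_zero, hb⟩
    refine absurd ?_ (hkn (-a / b))
    refine smul_right_injective _ hb (?_ : b • k = b • ((-a / b) • (1 : Matrix ι ι F)))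
    rw [smul_smul, mul_div_cancel₀ _ hb, neg_smul]
    exact eq_neg_of_add_eq_zero_right e
  have hspan : ∀ x ∈ A, ∃ a b : F, a • (1 : Matrix ι ι F) + b • k = x := by
    have hle : Submodule.span F (Set.range ![(1 : Matrix ι ι F), k]) ≤ Subalgebra.toSubmodule A := by
      rw [Submodule.span_le]
      rintro _ ⟨i, rfl⟩
      fin_cases i
      · exact A.one_mem
      · exact hk
    have heq := Submodule.eq_of_le_of_finrank_eq hle (by
      rw [finrank_span_eq_card hli, Subalgebra.finrank_toSubmodule, hA.finrank_eq, Fintype.card_fin])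
    intro x hx
    have hx' : x ∈ Submodule.span F (Set.range ![(1 : Matrix ι ι F), k]) := heq.ge hx
    rw [Matrix.range_cons_cons_empty] at hx'
    exact Submodule.mem_span_pair.1 hx'
  obtain ⟨a, b, hab⟩ := hspan _ (A.mul_mem hk hk)
  refine ⟨k, b, -a, hk, ?_, fun c hc => ?_, hspan, hkn⟩
  · rw [← hab]; module
  have hz : (k - c • 1) * (k - (b - c) • 1) = 0 := by
    simp only [sub_mul, mul_sub, smul_mul_assoc, mul_smul_comm, one_mul, mul_one, ← hab, smul_sub, smul_smul]
    have hc' : c * c - b * c - a = 0 := by linear_combination hc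
    linear_combination (norm := module) (-1 : F) • congrArg (fun s : F => s • (1 : Matrix ι ι F)) hc'
  have hne : k - c • 1 ≠ 0 := sub_ne_zero.2 (hkn c)
  obtain ⟨y, hy, hxy⟩ := hA.inv _ (A.sub_mem hk (A.smul_mem A.one_mem c)) hne
  have hyx : y * (k - c • 1) = 1 := mul_eq_one_comm.1 hxy
  refine hkn (b - c) (sub_eq_zero.1 ?_)
  calc k - (b - c) • 1 = (y * (k - c • 1)) * (k - (b - c) • 1) := by rw [hyx, one_mul]
    _ = 0 := by rw [mul_assoc, hz, mul_zero]

theorem isMaximalIn_omega_of_ten {Q : QuadraticForm F (ι → F)} (hQ : (polarBilin Q).Nondegenerate)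
    (hn : 10 ≤ Fintype.card ι) (A : Subalgebra F (Matrix ι ι F)) (hA : Cfsg.Geo.IsFieldSubalgebra 2 A)
    (hnsa : ¬ Cfsg.Geo.IsSelfAdjointFor (polar (⇑Q)) A)
    (hsc : ∀ k ∈ A, ∃ c : F, ∀ v : ι → F, Q (k *ᵥ v) = c * Q v) :
    Cfsg.Geo.IsMaximalIn (Cfsg.Geo.omegaGL (⇑Q))
      (Cfsg.Geo.subalgebraNormalizer A ⊓ Cfsg.Geo.omegaGL (⇑Q)) := by
  have : Nonempty ι := Fintype.card_pos_iff.1 (by omega)
  obtain ⟨k, t, d, hk, hkk, hirr, hspan, hkn⟩ := exists_gen hA
  let J : (ι → F) →ₗ[F] (ι → F) := Matrix.toLin' k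
  have hJ : ∀ v, J v = k *ᵥ v := fun v => Matrix.toLin'_apply _ _
  obtain ⟨c, hc⟩ := hsc k hk
  obtain ⟨c', hc'⟩ := hsc (k + 1) (A.add_mem hk A.one_mem)
  have hpol : ∀ v, polar Q v (J v) = (c' - c - 1) * Q v := fun v => by
    have := hc' v
    rw [Matrix.add_mulVec, Matrix.one_mulVec, apply_add, hc, ← hJ, QuadraticMap.polar_comm] at this
    linear_combination this
  set s := c' - c - 1
  have hsum : ∀ x y, polar Q (J x) y + polar Q x (J y) = s * polar Q x y := fun x y => by
    have h1 := hpol (x + y)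
    simp only [map_add, apply_add, polar_add_left', polar_add_right', hpol] at h1
    rw [QuadraticMap.polar_comm (⇑Q) (J x) y]
    linear_combination h1
  have hJJ : ∀ v, J (J v) = t • J v - d • v := fun v => by
    rw [hJ, hJ, Matrix.mulVec_mulVec, hkk, Matrix.sub_mulVec, Matrix.smul_mulVec, Matrix.smul_mulVec,
      Matrix.one_mulVec]
  -- the adjoint of `J` is `s - J`, and it satisfies the same equation
  have hadj : ∀ x y, polar Q (J x) y = polar Q x (s • y - J y) := fun x y => by
    rw [QuadraticMap.polar_sub_right, polar_smul_right']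
    linear_combination hsum x y
  have hst : s = t := by
    have key : ∀ x, (2 * (t - s)) • J x + (s * (s - t)) • x = 0 := by
      intro x
      refine eq_zero_of_polar hQ fun y => ?_
      have h1 : polar Q (J (J x)) y = polar Q x (s • (s • y - J y) - J (s • y - J y)) := by rw [hadj, hadj]
      have e1 : s • (s • y - J y) - J (s • y - J y) = (s * s) • y - (2 * s) • J y + (t • J y - d • y) := by
        rw [map_sub, map_smul, hJJ]; module
      rw [e1, hJJ, QuadraticMap.polar_sub_left, polar_smul_left', polar_smul_left', hadj] at h1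
      simp only [QuadraticMap.polar_sub_right, polar_add_right', polar_smul_right'] at h1
      simp only [polar_add_left', polar_smul_left', hadj, QuadraticMap.polar_sub_right, polar_smul_right']
      linear_combination h1
    by_contra hne
    obtain ⟨v, hv⟩ : ∃ v : ι → F, v ≠ 0 := ⟨fun _ => 1, fun e => one_ne_zero (congrFun e (Classical.arbitrary ι))⟩
    by_cases h2 : (2 : F) = 0
    · have h1 := key v
      rw [h2, zero_mul, zero_smul, zero_add, smul_eq_zero, or_iff_left hv, mul_eq_zero] at h1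
      have hs : s = 0 := h1.resolve_right fun e => hne (sub_eq_zero.1 e)
      refine hnsa fun x hx u w => ?_
      obtain ⟨a, b, rfl⟩ := hspan x hx
      simp only [Matrix.add_mulVec, Matrix.smul_mulVec, Matrix.one_mulVec, ← hJ, polar_add_left', polar_add_right',
        polar_smul_left', polar_smul_right', hadj, hs, zero_smul, zero_sub, QuadraticMap.polar_neg_right]
      linear_combination (-b * polar Q u (J w)) * h2
    · have ha : ∀ x, J x = (-(s * (s - t)) / (2 * (t - s))) • x := fun x => by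
        have hne' : (2 : F) * (t - s) ≠ 0 := mul_ne_zero h2 (sub_ne_zero.2 (Ne.symm hne))
        refine smul_right_injective _ hne' (?_ : (2 * (t - s)) • J x = _ • _)
        rw [smul_smul, mul_div_cancel₀ _ hne', neg_smul]
        exact eq_neg_of_add_eq_zero_left (key x)
      refine hkn (-(s * (s - t)) / (2 * (t - s))) (Matrix.toLin'.injective (LinearMap.ext fun x => ?_))
      rw [map_smul, Matrix.toLin'_one]
      exact ha x
  have happ : ∀ v, Q (J v) = d * Q v := by
    have key : ∀ x y, (c - d) * polar Q x y = 0 := fun x y => by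
      have h1 : polar Q (J x) (J y) = c * polar Q x y := by
        simp only [polar, hJ, ← Matrix.mulVec_add, hc]; ring
      rw [hadj, hst, hJJ, sub_sub_cancel, polar_smul_right'] at h1
      linear_combination -h1
    have hcd : c = d := by
      by_contra hne
      have hzero : ∀ y : ι → F, y = 0 := fun x =>
        eq_zero_of_polar hQ fun y => (mul_eq_zero.1 (key x y)).resolve_left (sub_ne_zero.2 hne)
      exact one_ne_zero (congrFun (hzero fun _ => 1) (Classical.arbitrary ι))
    intro v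
    rw [hJ, hc, hcd]
  have h : IsOverfield Q J t d :=
    ⟨hQ, by rw [Module.finrank_pi]; omega, hJJ, hirr, happ, fun v => by rw [hpol, hst]⟩
  have h10 : 10 ≤ Module.finrank F (ι → F) := by rw [Module.finrank_pi]; omega
  let e := oEquiv Q
  have hΩ : ∀ g : Cfsg.isometryGroup F (⇑Q),
      (g : Matrix.GeneralLinearGroup ι F) ∈ Cfsg.Geo.omegaGL (⇑Q) ↔ e g ∈ eichGroup hQ := by
    intro g
    have hmap : (commutator ↥(Cfsg.isometryGroup F (⇑Q))).map e.toMonoidHom = commutator (OQ Q) := by
      rw [commutator_def, commutator_def, Subgroup.map_commutator,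
        Subgroup.map_top_of_surjective _ e.surjective]
    rw [eichGroup_eq_commutator hQ (five h), ← hmap, Subgroup.mem_map_equiv, MulEquiv.symm_apply_apply]
    exact ⟨fun ⟨g', hg', hgg⟩ => by rw [← Subtype.ext hgg]; exact hg', fun h => ⟨g, h, rfl⟩⟩
  have hmem : ∀ x, x ∈ Cfsg.Geo.omegaGL (⇑Q) → x ∈ Cfsg.isometryGroup F (⇑Q) := by
    rintro _ ⟨g, -, rfl⟩
    exact g.2
  have hN : ∀ g : Cfsg.isometryGroup F (⇑Q),
      (g : Matrix.GeneralLinearGroup ι F) ∈ Cfsg.Geo.subalgebraNormalizer A ↔ Normalises J (e g) := by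
    intro g
    set G : Matrix ι ι F := ((g : Matrix.GeneralLinearGroup ι F) : Matrix ι ι F)
    set G' : Matrix ι ι F := (((g : Matrix.GeneralLinearGroup ι F)⁻¹ : Matrix.GeneralLinearGroup ι F) : Matrix ι ι F)
    have hGG' : G' * G = 1 := Units.inv_mul _
    have happ' : ∀ x, (e g : (ι → F) ≃ₗ[F] (ι → F)) x = G *ᵥ x := fun x => oEquiv_apply _ _ _
    constructor
    · intro hg
      obtain ⟨a, b, hab⟩ := hspan _ ((hg k).1 hk)
      refine ⟨a, b, fun x => ?_⟩
      rw [happ', happ', hJ, hJ, Matrix.mulVec_mulVec, Matrix.mulVec_mulVec, ← Matrix.smul_mulVec, ← Matrix.smul_mulVec,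
        ← Matrix.add_mulVec]
      congr 1
      have h2 : (a • (1 : Matrix ι ι F) + b • k) * G = G * k * G' * G := by rw [hab]
      rw [mul_assoc (G * k), hGG', mul_one, add_mul, smul_mul_assoc, smul_mul_assoc, one_mul] at h2
      rw [h2]
    · rintro ⟨a, b, hab⟩
      have hGk : G * k = a • G + b • (k * G) := Matrix.toLin'.injective (LinearMap.ext fun x => by
        simp only [Matrix.toLin'_apply, Matrix.add_mulVec, Matrix.smul_mulVec, ← Matrix.mulVec_mulVec, ← happ', ← hJ]
        exact hab x)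
      have hconj : ∀ x ∈ A, G * x * G' ∈ A := fun x hx => by
        obtain ⟨p, q, rfl⟩ := hspan x hx
        have hG1 : G * G' = 1 := mul_eq_one_comm.1 hGG'
        rw [mul_add, mul_smul_comm, mul_smul_comm, mul_one, hGk, add_mul, smul_mul_assoc, hG1, smul_mul_assoc,
          add_mul, smul_mul_assoc, smul_mul_assoc, mul_assoc k, hG1, mul_one]
        exact A.add_mem (A.smul_mem A.one_mem _)
          (A.smul_mem (A.add_mem (A.smul_mem A.one_mem _) (A.smul_mem hk _)) _)
      have hinj : Function.Injective (fun x : A => (⟨G * x * G', hconj x x.2⟩ : A)) := fun x y hxy => by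
        have h1 : G * (x : Matrix ι ι F) * G' = G * y * G' := congrArg Subtype.val hxy
        have h2 : G' * (G * (x : Matrix ι ι F) * G') * G = G' * (G * y * G') * G := by rw [h1]
        simp only [mul_assoc, hGG', mul_one] at h2
        simp only [← mul_assoc, hGG', one_mul] at h2
        exact Subtype.ext h2
      intro x
      refine ⟨hconj x, fun hx => ?_⟩
      obtain ⟨y, hy⟩ := (Finite.injective_iff_surjective.1 hinj) ⟨_, hx⟩
      have h1 : G * (y : Matrix ι ι F) * G' = G * x * G' := congrArg Subtype.val hy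
      have h2 : G' * (G * (y : Matrix ι ι F) * G') * G = G' * (G * x * G') * G := by rw [h1]
      simp only [mul_assoc, hGG', mul_one] at h2
      simp only [← mul_assoc, hGG', one_mul] at h2
      rw [← h2]
      exact y.2
  refine ⟨lt_of_le_of_ne inf_le_right fun he => ?_, fun M hM hMS => ?_⟩
  · obtain ⟨x, hx, hnp⟩ := exists_not_normalises h
    obtain ⟨g, rfl⟩ := e.surjective x
    exact hnp ((hN g).1 (he.ge ((hΩ g).2 hx)).1)
  refine (eq_or_lt_of_le hM).imp Eq.symm fun hlt => le_antisymm hMS ?_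
  obtain ⟨g₀, hgM, hgn⟩ := SetLike.exists_of_lt hlt
  set K := (M.subgroupOf (Cfsg.isometryGroup F (⇑Q))).map e.toMonoidHom
  have hmK : ∀ g : Cfsg.isometryGroup F (⇑Q), e g ∈ K ↔ (g : Matrix.GeneralLinearGroup ι F) ∈ M :=
    fun g => by
      rw [Subgroup.mem_map_equiv, MulEquiv.symm_apply_apply, Subgroup.mem_subgroupOf]
  have hK : ∀ x ∈ eichGroup hQ, (∀ y, (x : (ι → F) ≃ₗ[F] (ι → F)) (J y) = J ((x : (ι → F) ≃ₗ[F] (ι → F)) y)) →
      x ∈ K := by
    intro x hx hcomm
    obtain ⟨g, rfl⟩ := e.surjective x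
    exact (hmK g).2 (hM ⟨(hN g).2 ⟨0, 1, fun y => by rw [hcomm, zero_smul, one_smul, zero_add]⟩, (hΩ g).2 hx⟩)
  set g : Cfsg.isometryGroup F (⇑Q) := ⟨g₀, hmem _ (hMS hgM)⟩
  have htop := le_of_not_normalises h (fun hw ha hc => hK _ (eich_mem hQ (five h) hw ha) hc) h10 (g := e g)
    ((hmK g).2 hgM)
    fun hp => hgn ⟨(hN g).2 hp, hMS hgM⟩
  intro x hx
  exact (hmK ⟨x, hmem x hx⟩).1 (htop ((hΩ ⟨x, _⟩).1 hx))

/-- The same in dimension at least thirteen. -/
theorem isMaximalIn_omega {Q : QuadraticForm F (ι → F)} (hQ : (polarBilin Q).Nondegenerate)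
    (hn : 13 ≤ Fintype.card ι) (A : Subalgebra F (Matrix ι ι F)) (hA : Cfsg.Geo.IsFieldSubalgebra 2 A)
    (hnsa : ¬ Cfsg.Geo.IsSelfAdjointFor (polar (⇑Q)) A)
    (hsc : ∀ k ∈ A, ∃ c : F, ∀ v : ι → F, Q (k *ᵥ v) = c * Q v) :
    Cfsg.Geo.IsMaximalIn (Cfsg.Geo.omegaGL (⇑Q))
      (Cfsg.Geo.subalgebraNormalizer A ⊓ Cfsg.Geo.omegaGL (⇑Q)) :=
  isMaximalIn_omega_of_ten hQ (by omega) A hA hnsa hsc

end CfsgLib.Geo.OrthOverfield
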