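import Cfsg.Agent.Lib.Geo.Asch.TensorSplit
import Cfsg.Agent.Lib.Geo.InvolutionFieldExt
import Cfsg.Agent.Lib.Geo.ElusiveSubspaces

/-!
# Elements of prime order and stabilisers of tensor decompositions with factors of different dimensions
-/

set_option autoImplicit false

namespace CfsgLib.Geo.TensorDerange

open Matrix Module CfsgLib.Geo.Asch CfsgLib.Geo.PrimeAct
open scoped Kronecker

variable {F : Type*} [Field F] {a b : ℕ}

theorem exists_moving {A : Matrix (Fin a) (Fin a) F} (hA : ∀ c : F, A ≠ c • 1) :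
    ∃ v : Fin a → F, ∀ c : F, A *ᵥ v ≠ c • v := by
  classical
  by_contra hcon
  push Not at hcon
  choose l hl using hcon
  rcases Nat.eq_zero_or_pos a with rfl | ha
  · exact hA 0 (Matrix.ext fun i => i.elim0)
  let i₀ : Fin a := ⟨0, ha⟩
  refine hA (l (Pi.single i₀ 1)) (Matrix.ext fun i j => ?_)
  have hij : ∀ k, A *ᵥ Pi.single k 1 = l (Pi.single k 1) • Pi.single k 1 := fun k => hl _
  have heq : ∀ k, l (Pi.single k 1) = l (Pi.single i₀ 1) := fun k => by
    rcases eq_or_ne k i₀ with rfl | hne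
    · rfl
    have h := hl (Pi.single k 1 + Pi.single i₀ 1)
    rw [Matrix.mulVec_add, hij, hij, smul_add] at h
    have h1 := congrFun h k
    have h2 := congrFun h i₀
    simp [hne, hne.symm] at h1 h2
    rw [h1, h2]
  have h := congrFun (hij j) i
  rw [Matrix.mulVec_single_one, Matrix.col_apply] at h
  rw [h, heq]
  simp [Pi.single_apply, Matrix.one_apply]

theorem rank_ge_of_left {A : Matrix (Fin a) (Fin a) F} (hA : ∀ c : F, A ≠ c • 1) {B : Matrix (Fin b) (Fin b) F}
    (hB : IsUnit B.det) (c : F) : b ≤ (A ⊗ₖ B - c • 1).rank := by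
  classical
  obtain ⟨v, hv⟩ := exists_moving hA
  let T : (Fin b → F) →ₗ[F] (Fin a × Fin b → F) :=
    { toFun := fun w p => v p.1 * w p.2
      map_add' := fun x y => by funext p; simp [mul_add]
      map_smul' := fun d x => by funext p; simp; ring }
  have hkey : ∀ w p, ((A ⊗ₖ B - c • 1) *ᵥ T w) p = (A *ᵥ v) p.1 * (B *ᵥ w) p.2 - c * (v p.1 * w p.2) := by
    intro w p
    rw [Matrix.sub_mulVec, Matrix.smul_mulVec, Matrix.one_mulVec, Pi.sub_apply, Pi.smul_apply, smul_eq_mul]
    congr 1
    simp only [Matrix.mulVec, dotProduct, Fintype.sum_prod_type, Matrix.kronecker, Matrix.kroneckerMap_apply]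
    rw [Finset.sum_mul_sum]
    exact Finset.sum_congr rfl fun i _ => Finset.sum_congr rfl fun j _ => by
      show _ * (v i * w j) = _
      ring
  have hinj : Function.Injective ((A ⊗ₖ B - c • 1).mulVecLin ∘ₗ T) := by
    rw [injective_iff_map_eq_zero]
    intro w hw
    by_contra hw0
    have hBw : B *ᵥ w ≠ 0 := fun h => hw0 (Matrix.mulVec_injective_iff_isUnit.2
      ((Matrix.isUnit_iff_isUnit_det B).2 hB) (by rw [h, Matrix.mulVec_zero]))
    obtain ⟨j, hj⟩ := Function.ne_iff.1 hBw
    rw [Pi.zero_apply] at hj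
    refine hv (c * w j / (B *ᵥ w) j) (funext fun i => ?_)
    have h := congrFun hw (i, j)
    rw [LinearMap.comp_apply, Matrix.mulVecLin_apply, hkey, Pi.zero_apply, sub_eq_zero] at h
    rw [Pi.smul_apply, smul_eq_mul, div_mul_eq_mul_div, eq_div_iff hj, h]
    ring
  have h := LinearMap.finrank_range_of_inj hinj
  rw [Module.finrank_fin_fun] at h
  exact h.symm.trans_le (Submodule.finrank_mono (LinearMap.range_comp_le_range _ _))

theorem rank_one_kron (N : Matrix (Fin b) (Fin b) F) :
    ((1 : Matrix (Fin a) (Fin a) F) ⊗ₖ N).rank = a * N.rank := by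
  classical
  let emb : (Fin a → LinearMap.range N.mulVecLin) →ₗ[F] (Fin a × Fin b → F) :=
    { toFun := fun f p => (f p.1 : Fin b → F) p.2
      map_add' := fun f g => rfl
      map_smul' := fun c f => rfl }
  have hemb : Function.Injective emb := fun f g h =>
    funext fun i => Subtype.ext (funext fun j => congrFun h (i, j))
  have happ : ∀ (v : Fin a × Fin b → F) i j,
      ((1 : Matrix (Fin a) (Fin a) F) ⊗ₖ N).mulVec v (i, j) = N.mulVec (fun k => v (i, k)) j := fun v i j => by
    simp only [Matrix.mulVec, dotProduct, Fintype.sum_prod_type, Matrix.kronecker, Matrix.kroneckerMap_apply]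
    rw [Finset.sum_eq_single i (fun k _ hk => by simp [Matrix.one_apply_ne hk.symm]) (by simp)]
    simp
  have hrange : LinearMap.range ((1 : Matrix (Fin a) (Fin a) F) ⊗ₖ N).mulVecLin = LinearMap.range emb := by
    apply le_antisymm
    · rintro _ ⟨v, rfl⟩
      exact ⟨fun i => ⟨_, LinearMap.mem_range_self _ (fun k => v (i, k))⟩,
        funext fun p => (happ v p.1 p.2).symm⟩
    · rintro _ ⟨f, rfl⟩
      choose z hz using fun i => (f i).2
      exact ⟨fun p => z p.1 p.2, funext fun p => (happ _ p.1 p.2).trans (congrFun (hz p.1) p.2)⟩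
  rw [Matrix.rank, hrange, LinearMap.finrank_range_of_inj hemb, Module.finrank_pi_fintype, Finset.sum_const,
    Finset.card_univ, Fintype.card_fin, smul_eq_mul]
  rfl

theorem kron_swap (A : Matrix (Fin a) (Fin a) F) (B : Matrix (Fin b) (Fin b) F) :
    A ⊗ₖ B = (B ⊗ₖ A).submatrix (Equiv.prodComm (Fin a) (Fin b)) (Equiv.prodComm (Fin a) (Fin b)) := by
  ext ⟨i, j⟩ ⟨i', j'⟩
  simp [Matrix.kronecker, mul_comm]

theorem rank_kron_one (N : Matrix (Fin a) (Fin a) F) :
    (N ⊗ₖ (1 : Matrix (Fin b) (Fin b) F)).rank = b * N.rank := by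
  rw [kron_swap, Matrix.rank_submatrix, rank_one_kron]

theorem smul_one_kron (c : F) (B : Matrix (Fin b) (Fin b) F) :
    (c • (1 : Matrix (Fin a) (Fin a) F)) ⊗ₖ B - (1 : F) • (1 : Matrix (Fin a × Fin b) (Fin a × Fin b) F) =
      (1 : Matrix (Fin a) (Fin a) F) ⊗ₖ (c • B - 1) := by
  ext ⟨i, j⟩ ⟨i', j'⟩
  by_cases hi : i = i'
  · subst hi; simp [Matrix.kronecker, Matrix.one_apply, mul_sub]
  · simp [Matrix.kronecker, Matrix.one_apply_ne hi, Matrix.one_apply, hi]

theorem kron_smul_one (A : Matrix (Fin a) (Fin a) F) (c : F) :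
    A ⊗ₖ (c • (1 : Matrix (Fin b) (Fin b) F)) - (1 : F) • (1 : Matrix (Fin a × Fin b) (Fin a × Fin b) F) =
      (c • A - 1) ⊗ₖ (1 : Matrix (Fin b) (Fin b) F) := by
  ext ⟨i, j⟩ ⟨i', j'⟩
  by_cases hj : j = j'
  · subst hj; simp [Matrix.kronecker, Matrix.one_apply, mul_comm, mul_sub]
  · simp [Matrix.kronecker, Matrix.one_apply_ne hj, Matrix.one_apply, hj]

/-- Ranks force a factor to be scalar. -/
theorem not_kron_of_rank (hab : a < b) {A : Matrix (Fin a) (Fin a) F} {B : Matrix (Fin b) (Fin b) F}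
    (hA : IsUnit A.det) (hB : IsUnit B.det) {c : F} (hc : c ≠ 0) {M : Matrix (Fin a × Fin b) (Fin a × Fin b) F}
    (hM : M = A ⊗ₖ B) (hpos : 0 < (M - c • 1).rank) (hlt : (M - c • 1).rank < b) :
    a ≤ (M - c • 1).rank ∧ ∀ d : F, d ≠ 0 → a ∣ (M - d • 1).rank := by
  classical
  subst hM
  obtain ⟨α, rfl⟩ : ∃ α : F, A = α • 1 := by
    by_contra h
    push Not at h
    exact absurd (rank_ge_of_left h hB c) (by omega)
  have key : ∀ d : F, d ≠ 0 → ((α • (1 : Matrix (Fin a) (Fin a) F)) ⊗ₖ B - d • 1).rank = a * (α • B - d • 1).rank := by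
    intro d hd
    have h : (α • (1 : Matrix (Fin a) (Fin a) F)) ⊗ₖ B - d • 1 = (1 : Matrix (Fin a) (Fin a) F) ⊗ₖ (α • B - d • 1) := by
      ext ⟨i, j⟩ ⟨i', j'⟩
      by_cases hi : i = i'
      · subst hi; simp [Matrix.kronecker, Matrix.one_apply, mul_sub]
      · simp [Matrix.kronecker, Matrix.one_apply_ne hi, Matrix.one_apply, hi]
    rw [h, rank_one_kron]
  refine ⟨?_, fun d hd => ⟨_, key d hd⟩⟩
  rw [key c hc] at hpos ⊢
  exact Nat.le_mul_of_pos_right _ (pos_of_mul_pos_right hpos (Nat.zero_le a))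

theorem eq_scalar_of_kron_eq_one {A : Matrix (Fin a) (Fin a) F} {B : Matrix (Fin b) (Fin b) F} (hb : 0 < b)
    (h : A ⊗ₖ B = 1) : ∃ c : F, A = c • 1 := by
  classical
  let k : Fin b := ⟨0, hb⟩
  have hk : ∀ i j, A i j * B k k = (1 : Matrix (Fin a) (Fin a) F) i j := fun i j => by
    have := congrFun (congrFun h (i, k)) (j, k)
    simpa [Matrix.kronecker, Matrix.one_apply] using this
  refine ⟨(B k k)⁻¹, Matrix.ext fun i j => ?_⟩
  by_cases h0 : B k k = 0
  · have := hk i i
    simp [h0] at this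
  rw [Matrix.smul_apply, smul_eq_mul, ← hk, mul_comm, mul_assoc, mul_inv_cancel₀ h0, mul_one]

variable [Fintype F] {r : ℕ} [Fact r.Prime]

theorem le_dim_of_order {k : ℕ} (hrF : (r : F) ≠ 0) (X : Matrix (Fin k) (Fin k) F) (hX : X ^ r = 1) (hX1 : X ≠ 1) :
    orderOf (Fintype.card F : ZMod r) ≤ (X - 1).rank := by
  classical
  set f := Matrix.toLinAlgEquiv' X with hfdef
  have hf : f ^ r = 1 := by rw [hfdef, ← map_pow, hX, map_one]
  have hd := orderOf_dvd_rest hf hrF
  have e2 : (X - 1).mulVecLin = f - 1 := LinearMap.ext fun v => by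
    rw [Matrix.mulVecLin_apply, Matrix.sub_mulVec, Matrix.one_mulVec, LinearMap.sub_apply, hfdef,
      Matrix.toLinAlgEquiv'_apply]
    rfl
  have hk := LinearMap.finrank_range_add_finrank_ker (f - 1)
  rw [Module.finrank_fin_fun, ← e2] at hk
  rw [Nat.card_eq_fintype_card, Module.finrank_fin_fun, fixSp, ← e2] at hd
  change (X - 1).rank + _ = k at hk
  rcases Nat.eq_zero_or_pos ((X - 1).rank) with h0 | h0
  · exfalso
    rw [Matrix.rank, Submodule.finrank_eq_zero, LinearMap.range_eq_bot] at h0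
    exact hX1 (sub_eq_zero.1 (Matrix.toLin'.injective (by rw [map_zero]; exact h0)))
  · refine Nat.le_of_dvd h0 ?_
    rwa [show k - finrank F (LinearMap.ker (X - 1).mulVecLin) = (X - 1).rank by omega] at hd

/-- No element with a single small moved block. -/
theorem not_kron_free (ha : 2 ≤ a) (hab : a < b) (hrF : (r : F) ≠ 0) (hr1 : ¬ r ∣ Fintype.card F - 1)
    (hi : 0 < orderOf (Fintype.card F : ZMod r))
    {A : Matrix (Fin a) (Fin a) F} {B : Matrix (Fin b) (Fin b) F} (hA : IsUnit A.det) (hB : IsUnit B.det)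
    {M : Matrix (Fin a × Fin b) (Fin a × Fin b) F} (hM : M = A ⊗ₖ B) (hMr : M ^ r = 1)
    (hrank : (M - 1).rank = orderOf (Fintype.card F : ZMod r)) : False := by
  classical
  subst hM
  set i := orderOf (Fintype.card F : ZMod r)
  have hpow : ∀ k : ℕ, (A ⊗ₖ B) ^ k = (A ^ k) ⊗ₖ (B ^ k) := fun k => by
    induction k with
    | zero => simp [Matrix.one_kronecker_one]
    | succ k ih => rw [pow_succ, pow_succ, pow_succ, ih, Matrix.mul_kronecker_mul]
  rw [hpow] at hMr
  obtain ⟨α, hα⟩ := eq_scalar_of_kron_eq_one (by omega) hMr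
  by_cases hAs : ∀ c : F, A ≠ c • 1
  · have hα0 : α ≠ 0 := fun h => by
      haveI : Nonempty (Fin a) := ⟨⟨0, by omega⟩⟩
      have := congrArg Matrix.det hα
      rw [h, zero_smul, Matrix.det_zero, Matrix.det_pow] at this
      exact pow_ne_zero r hA.ne_zero this
    obtain ⟨d, hd⟩ := exists_rth_root hr1 α hα0
    have hd0 : d ≠ 0 := fun h => hα0 (by rw [← hd, h, zero_pow (Fact.out : r.Prime).ne_zero])
    have hA' : (d⁻¹ • A) ^ r = 1 := by
      rw [smul_pow, hα, smul_smul, inv_pow, hd, inv_mul_cancel₀ hα0, one_smul]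
    have h1 := le_dim_of_order hrF _ hA' (fun h => hAs d (by
      rw [← h, smul_smul, mul_inv_cancel₀ hd0, one_smul]))
    have h2 := Matrix.rank_le_card_width (d⁻¹ • A - 1)
    have h3 := rank_ge_of_left hAs hB 1
    rw [one_smul, hrank] at h3
    simp only [Fintype.card_fin] at h2
    omega
  · push Not at hAs
    obtain ⟨c, rfl⟩ := hAs
    rw [← one_smul F (1 : Matrix (Fin a × Fin b) (Fin a × Fin b) F), smul_one_kron, rank_one_kron] at hrank
    have hBr : (c • B) ^ r = 1 := by
      have h : (1 : Matrix (Fin a) (Fin a) F) ⊗ₖ ((c • B) ^ r) = 1 := by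
        rw [← hMr]
        simp only [smul_pow, one_pow, Matrix.smul_kronecker, Matrix.kronecker_smul]
      ext p p'
      have h' := congrFun (congrFun h (⟨0, by omega⟩, p)) (⟨0, by omega⟩, p')
      simpa [Matrix.kronecker, Matrix.one_apply] using h'
    have hne : c • B ≠ 1 := fun h => by
      rw [h, sub_self, Matrix.rank_zero, mul_zero] at hrank
      omega
    have h1 := le_dim_of_order hrF _ hBr hne
    have : 2 * i ≤ a * (c • B - 1).rank := Nat.mul_le_mul ha h1
    omega

section Main

variable {p : ℕ} [Fact p.Prime] [CharP F p] {n : ℕ}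

theorem rank_coord {ι κ : Type} [Fintype ι] [DecidableEq ι] [Fintype κ] [DecidableEq κ] (e : ι ≃ κ) (P : GL ι F)
    (X : Matrix ι ι F) : (coord e P X).rank = X.rank := by
  rw [coord, Matrix.rank_submatrix,
    Matrix.rank_mul_eq_left_of_isUnit_det _ _ ((Matrix.isUnit_iff_isUnit_det _).1 P.isUnit),
    Matrix.rank_mul_eq_right_of_isUnit_det _ _ ((Matrix.isUnit_iff_isUnit_det _).1 (Units.isUnit P⁻¹))]

theorem rank_conj {ι : Type} [Fintype ι] [DecidableEq ι] (g : GL ι F) (X : Matrix ι ι F) (c : F) :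
    (((g⁻¹ : GL ι F) : Matrix ι ι F) * X * (g : Matrix ι ι F) - c • 1).rank = (X - c • 1).rank := by
  have h : ((g⁻¹ : GL ι F) : Matrix ι ι F) * X * (g : Matrix ι ι F) - c • 1 =
      ((g⁻¹ : GL ι F) : Matrix ι ι F) * (X - c • 1) * (g : Matrix ι ι F) := by
    rw [mul_sub, sub_mul, mul_smul_comm, mul_one, smul_mul_assoc, ← Units.val_mul, inv_mul_cancel, Units.val_one]
  rw [h, Matrix.rank_mul_eq_left_of_isUnit_det _ _ ((Matrix.isUnit_iff_isUnit_det _).1 g.isUnit),
    Matrix.rank_mul_eq_right_of_isUnit_det _ _ ((Matrix.isUnit_iff_isUnit_det _).1 (Units.isUnit g⁻¹))]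

/-- Data of a conjugate inside. -/
theorem data_of_mem (e : Fin n ≃ Fin a × Fin b) (P g x : GL (Fin n) F)
    (h : g⁻¹ * x * g ∈ Cfsg.Geo.tensorProductSubgroup a b e P) :
    ∃ (M : Matrix (Fin a × Fin b) (Fin a × Fin b) F) (A : Matrix (Fin a) (Fin a) F) (B : Matrix (Fin b) (Fin b) F),
      IsUnit A.det ∧ IsUnit B.det ∧ M = A ⊗ₖ B ∧
      (∀ c : F, (M - c • 1).rank = ((x : Matrix (Fin n) (Fin n) F) - c • 1).rank) ∧
      ∀ k : ℕ, (x : Matrix (Fin n) (Fin n) F) ^ k = 1 → M ^ k = 1 := by
  obtain ⟨A, B, hAB⟩ := (mem_tensorProductSubgroup_iff e P _).1 h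
  refine ⟨_, A, B, (Matrix.isUnit_iff_isUnit_det _).1 A.isUnit, (Matrix.isUnit_iff_isUnit_det _).1 B.isUnit, hAB,
    fun c => ?_, fun k hk => ?_⟩
  · rw [← rank_conj g (x : Matrix (Fin n) (Fin n) F) c, ← rank_coord e P]
    congr 1
    rw [Units.val_mul, Units.val_mul]
    ext i j
    simp [coord, Matrix.mul_sub, Matrix.sub_mul, Matrix.mul_smul, Matrix.smul_mul, Matrix.one_apply]
  · have hc : ∀ m : ℕ, coord e P (((g⁻¹ * x * g : GL (Fin n) F) : Matrix (Fin n) (Fin n) F)) ^ m =
        coord e P (((g⁻¹ * x * g : GL (Fin n) F) : Matrix (Fin n) (Fin n) F) ^ m) := fun m => by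
      induction m with
      | zero => rw [pow_zero, pow_zero, coord_one]
      | succ m ih => rw [pow_succ, pow_succ, coord_mul, ih]
    have hx : x ^ k = 1 := Units.ext (by rw [Units.val_pow_eq_pow_val, hk, Units.val_one])
    have hg : (g⁻¹ * x * g) ^ k = 1 := by
      have h' := conj_pow (i := k) (a := g⁻¹) (b := x)
      rw [inv_inv, hx, mul_one, inv_mul_cancel] at h'
      exact h'
    rw [hc, ← Units.val_pow_eq_pow_val, hg, Units.val_one, coord_one]

theorem rank_diagonal_two {i j : Fin n} (hij : i ≠ j) {d : Fin n → F} (hi : d i ≠ 1) (hj : d j ≠ 1)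
    (h : ∀ k, k ≠ i → k ≠ j → d k = 1) : (Matrix.diagonal d - (1 : F) • 1).rank = 2 := by
  classical
  rw [one_smul, ← Matrix.diagonal_one, Matrix.diagonal_sub, Matrix.rank_diagonal]
  have hu : (Finset.univ.filter fun k => d k - 1 ≠ 0) = {i, j} := by
    ext k
    simp only [Finset.mem_filter, Finset.mem_univ, true_and, Finset.mem_insert, Finset.mem_singleton, sub_ne_zero]
    refine ⟨fun hk => ?_, fun hk => ?_⟩
    · by_contra hc
      push Not at hc
      exact hk (h k hc.1 hc.2)
    · rcases hk with rfl | rfl <;> assumption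
  rw [Fintype.card_subtype, hu, Finset.card_pair hij]

theorem prime_cases (hr : r ∣ Nat.card (GL (Fin n) F)) :
    r = p ∨ r ∣ Fintype.card F - 1 ∨ (¬ r ∣ Fintype.card F - 1 ∧ 0 < orderOf (Fintype.card F : ZMod r) ∧ (r : F) ≠ 0 ∧
      orderOf (Fintype.card F : ZMod r) ≤ n) := by
  by_cases hrp : r = p
  · exact Or.inl hrp
  by_cases hr1 : r ∣ Fintype.card F - 1
  · exact Or.inr (Or.inl hr1)
  refine Or.inr (Or.inr ⟨hr1, orderOf_card_pos hrp, natCast_ne_zero_of_ringChar Fact.out hrp, ?_⟩)
  rw [Matrix.card_GL_field] at hr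
  obtain ⟨j, -, hj⟩ := (Prime.dvd_finset_prod_iff (Fact.out : r.Prime).prime _).1 hr
  obtain ⟨f, -, hf⟩ := FiniteField.card F p
  rw [← ZMod.natCast_eq_zero_iff, Nat.cast_sub (Nat.pow_le_pow_right Fintype.card_pos j.2.le), Nat.cast_pow,
    Nat.cast_pow, sub_eq_zero] at hj
  set q := (Fintype.card F : ZMod r)
  have hq : q ≠ 0 := by
    rw [Ne, ZMod.natCast_eq_zero_iff, hf]
    exact fun h => hrp ((Nat.prime_dvd_prime_iff_eq Fact.out Fact.out).1 ((Fact.out : r.Prime).dvd_of_dvd_pow h))
  have h1 : q ^ (n - (j : ℕ)) = 1 := by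
    refine mul_right_cancel₀ (pow_ne_zero (j : ℕ) hq) ?_
    rw [← pow_add, Nat.sub_add_cancel j.2.le, one_mul, hj]
  exact (Nat.le_of_dvd (Nat.sub_pos_of_lt j.2) (orderOf_dvd_of_pow_eq_one h1)).trans (Nat.sub_le _ _)

include p in
/-- The derangements. -/
theorem exists_derangement (hab : n = a * b) (ha : 2 ≤ a) (hlt : a < b) (e : Fin n ≃ Fin a × Fin b)
    (P : GL (Fin n) F) (hr : r ∣ Nat.card (GL (Fin n) F))
    (hnot : r = 2 → a = 2 → Odd (Fintype.card F) → ∃ w : F, w ^ n = -1) :
    ∃ x ∈ Cfsg.Geo.specialLinear (Fin n) F,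
      (∃ z : F, ((x ^ r : GL (Fin n) F) : Matrix (Fin n) (Fin n) F) = z • (1 : Matrix (Fin n) (Fin n) F)) ∧
      (∀ z : F, (x : Matrix (Fin n) (Fin n) F) ≠ z • (1 : Matrix (Fin n) (Fin n) F)) ∧
      ∀ g : GL (Fin n) F, g⁻¹ * x * g ∉ Cfsg.Geo.tensorProductSubgroup a b e P := by
  classical
  have hn : 4 ≤ n := by rw [hab]; nlinarith
  haveI : Nonempty (Fin n) := ⟨⟨0, by omega⟩⟩
  -- building from a matrix
  have mk : ∀ (X : Matrix (Fin n) (Fin n) F) (z : F), X.det = 1 → X ^ r = z • 1 → (∀ c : F, X ≠ c • 1) →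
      (∀ (M : Matrix (Fin a × Fin b) (Fin a × Fin b) F) (A : Matrix (Fin a) (Fin a) F) (B : Matrix (Fin b) (Fin b) F),
        IsUnit A.det → IsUnit B.det → M = A ⊗ₖ B → (∀ c : F, (M - c • 1).rank = (X - c • 1).rank) →
        (∀ k : ℕ, X ^ k = 1 → M ^ k = 1) → False) →
      ∃ x ∈ Cfsg.Geo.specialLinear (Fin n) F,
        (∃ z : F, ((x ^ r : GL (Fin n) F) : Matrix (Fin n) (Fin n) F) = z • (1 : Matrix (Fin n) (Fin n) F)) ∧
        (∀ z : F, (x : Matrix (Fin n) (Fin n) F) ≠ z • (1 : Matrix (Fin n) (Fin n) F)) ∧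
        ∀ g : GL (Fin n) F, g⁻¹ * x * g ∉ Cfsg.Geo.tensorProductSubgroup a b e P := by
    intro X z hd hz hns hno
    refine ⟨Matrix.GeneralLinearGroup.mkOfDetNeZero X (by rw [hd]; exact one_ne_zero), ?_, ⟨z, ?_⟩, hns, fun g hg => ?_⟩
    · show Matrix.GeneralLinearGroup.det _ = 1
      exact Units.ext hd
    · rw [Units.val_pow_eq_pow_val]
      exact hz
    · obtain ⟨M, A, B, hA, hB, hM, hrk, hpw⟩ := data_of_mem e P g _ hg
      exact hno M A B hA hB hM hrk hpw
  let i₀ : Fin n := ⟨0, by omega⟩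
  let i₁ : Fin n := ⟨1, by omega⟩
  have h01 : i₀ ≠ i₁ := by simp [i₀, i₁, Fin.ext_iff]
  rcases prime_cases (p := p) hr with hrp | hr1 | ⟨hr1, hi0, hrF, hile⟩
  · -- transvection
    subst hrp
    let N : Matrix (Fin n) (Fin n) F := Matrix.single i₀ i₁ 1
    have hT : Matrix.transvection i₀ i₁ (1 : F) = 1 + N := rfl
    have hrank : (Matrix.transvection i₀ i₁ (1 : F) - (1 : F) • 1).rank = 1 := by
      rw [hT, one_smul, add_sub_cancel_left, Matrix.rank]
      have : LinearMap.range N.mulVecLin = Submodule.span F {(Pi.single i₀ 1 : Fin n → F)} := by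
        ext w
        simp only [LinearMap.mem_range, Matrix.mulVecLin_apply, Submodule.mem_span_singleton]
        constructor
        · rintro ⟨v, rfl⟩
          refine ⟨v i₁, ?_⟩
          funext k
          simp [N, Matrix.single_mulVec, Pi.single_apply, Function.update]
        · rintro ⟨c, rfl⟩
          refine ⟨Pi.single i₁ c, ?_⟩
          funext k
          rw [Matrix.mulVec_single]
          simp [N, Matrix.single_apply, Pi.single_apply, eq_comm]
      rw [this, finrank_span_singleton (by simp)]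
    refine mk (Matrix.transvection i₀ i₁ (1 : F)) 1 (Matrix.det_transvection_of_ne _ _ h01 _) ?_ (fun c hc => ?_) fun M A B hA hB hM hrk _ => ?_
    · rw [hT, one_smul, add_pow_char_of_commute (p := r) (R := Matrix (Fin n) (Fin n) F) (Commute.one_left N),
        one_pow]
      have hNN : N * N = 0 := Matrix.single_mul_single_of_ne _ _ _ _ h01.symm _
      rw [show N ^ r = N * N * N ^ (r - 2) by
        rw [← pow_two, ← pow_add, Nat.add_sub_cancel' (Fact.out : r.Prime).two_le], hNN, zero_mul, add_zero]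
    · have h1 := congrFun (congrFun hc i₀) i₁
      simp [Matrix.transvection, h01] at h1
    · obtain ⟨h, -⟩ := not_kron_of_rank hlt hA hB one_ne_zero hM (by rw [hrk, hrank]; omega) (by rw [hrk, hrank]; omega)
      rw [hrk, hrank] at h
      omega
  · -- a split torus element
    by_cases hr2 : r = 2
    · subst hr2
      have hoddq : Odd (Fintype.card F) := by
        have := Fintype.one_lt_card (α := F)
        rw [Nat.odd_iff]
        omega
      have h2 : (2 : F) ≠ 0 := InvClass.two_ne_zero_iff_odd_card.2 hoddq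
      have hm1 : (-1 : F) ≠ 1 := fun h => h2 (by linear_combination -h)
      by_cases ha2 : a = 2
      · obtain ⟨w, hw⟩ := hnot rfl ha2 hoddq
        have hw0 : w ≠ 0 := by
          rintro rfl
          rw [zero_pow (by omega)] at hw
          simp at hw
        let d : Fin n → F := fun k => if k = i₀ then -w else w
        have hdet : (Matrix.diagonal d).det = 1 := by
          rw [Matrix.det_diagonal, ← Finset.mul_prod_erase Finset.univ d (Finset.mem_univ i₀),
            Finset.prod_congr rfl (fun k hk => if_neg (Finset.ne_of_mem_erase hk) : ∀ k ∈ Finset.univ.erase i₀, d k = w),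
            Finset.prod_const, Finset.card_erase_of_mem (Finset.mem_univ _), Finset.card_univ, Fintype.card_fin]
          show (if i₀ = i₀ then -w else w) * w ^ (n - 1) = 1
          rw [if_pos rfl, neg_mul, ← pow_succ', Nat.sub_add_cancel (by omega), hw, neg_neg]
        have hrank : (Matrix.diagonal d - w • 1).rank = 1 := by
          rw [Matrix.smul_one_eq_diagonal, Matrix.diagonal_sub, Matrix.rank_diagonal]
          rw [Fintype.card_subtype, show (Finset.univ.filter fun k => d k - w ≠ 0) = {i₀} from ?_, Finset.card_singleton]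
          ext k
          simp only [Finset.mem_filter, Finset.mem_univ, true_and, Finset.mem_singleton, sub_ne_zero, d]
          split_ifs with hk
          · exact ⟨fun _ => hk, fun _ h => hw0 (by
              have : (2 : F) * w = 0 := by linear_combination -h
              exact (mul_eq_zero.1 this).resolve_left h2)⟩
          · simp [hk]
        refine mk _ (w ^ 2) hdet ?_ (fun c hc => ?_) fun M A B hA hB hM hrk _ => ?_
        · rw [Matrix.diagonal_pow, Matrix.smul_one_eq_diagonal]
          congr 1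
          funext k
          simp only [Pi.pow_apply, d]
          split_ifs <;> ring
        · have h1 := congrFun (congrFun hc i₀) i₀
          have h3 := congrFun (congrFun hc i₁) i₁
          simp [d, h01.symm] at h1 h3
          rw [← h3] at h1
          exact hm1 (mul_right_cancel₀ hw0 (by rw [neg_one_mul, one_mul]; exact h1))
        · obtain ⟨h, -⟩ := not_kron_of_rank hlt hA hB hw0 hM (by rw [hrk, hrank]; omega) (by rw [hrk, hrank]; omega)
          rw [hrk, hrank] at h
          omega
      · let d : Fin n → F := fun k => if k = i₀ ∨ k = i₁ then -1 else 1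
        have hdet : (Matrix.diagonal d).det = 1 := by
          rw [Matrix.det_diagonal, Finset.prod_eq_mul i₀ i₁ h01 (fun l _ hl => by simp [d, hl.1, hl.2])
            (fun h => absurd (Finset.mem_univ _) h) (fun h => absurd (Finset.mem_univ _) h)]
          simp [d]
        have hrank := rank_diagonal_two (d := d) h01 (by simp [d, hm1]) (by simp [d, hm1])
          (fun k h1 h2 => by simp [d, h1, h2])
        refine mk _ 1 hdet ?_ (fun c hc => ?_) fun M A B hA hB hM hrk _ => ?_
        · rw [one_smul, Matrix.diagonal_pow, ← Matrix.diagonal_one]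
          congr 1
          funext k
          simp only [Pi.pow_apply, d]
          split_ifs <;> ring
        · let i₂ : Fin n := ⟨2, by omega⟩
          have h1 := congrFun (congrFun hc i₀) i₀
          have h3 := congrFun (congrFun hc i₂) i₂
          simp [d] at h1 h3
          rw [if_neg (by simp [i₀, i₁, i₂, Fin.ext_iff])] at h3
          exact hm1 (h1.trans h3.symm)
        · obtain ⟨h, -⟩ := not_kron_of_rank hlt hA hB one_ne_zero hM (by rw [hrk, hrank]; omega)
            (by rw [hrk, hrank]; omega)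
          rw [hrk, hrank] at h
          omega
    · obtain ⟨ζ, hζ⟩ := exists_prime_orderOf_dvd_card' (G := Fˣ) r (by
        rw [Nat.card_units, Nat.card_eq_fintype_card]; exact hr1)
      have hζr : (ζ : F) ^ r = 1 := by rw [← Units.val_pow_eq_pow_val, ← hζ, pow_orderOf_eq_one, Units.val_one]
      have hζ1 : (ζ : F) ≠ 1 := fun h => by
        rw [Units.val_eq_one] at h
        rw [h, orderOf_one] at hζ
        exact (Fact.out : r.Prime).ne_one hζ.symm
      have hζi : (ζ : F)⁻¹ ≠ ζ := fun h => by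
        have h2 : ζ ^ 2 = 1 := Units.ext (by
          rw [Units.val_pow_eq_pow_val, Units.val_one, pow_two]
          nth_rw 1 [← h]
          exact inv_mul_cancel₀ ζ.ne_zero)
        have := Nat.le_of_dvd two_pos (hζ ▸ orderOf_dvd_of_pow_eq_one h2)
        have := (Fact.out : r.Prime).two_le
        omega
      let d : Fin n → F := fun k => if k = i₀ then (ζ : F) else if k = i₁ then (ζ : F)⁻¹ else 1
      have hdet : (Matrix.diagonal d).det = 1 := by
        rw [Matrix.det_diagonal, Finset.prod_eq_mul i₀ i₁ h01 (fun l _ hl => by simp [d, hl.1, hl.2])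
          (fun h => absurd (Finset.mem_univ _) h) (fun h => absurd (Finset.mem_univ _) h)]
        simp [d, h01.symm]
      have hd1 : d i₁ = (ζ : F)⁻¹ := by simp [d, h01.symm]
      have hrank := rank_diagonal_two (d := d) h01 (by simp [d, hζ1]) (by rw [hd1]; simp [hζ1])
        (fun k h1 h2 => by simp [d, h1, h2])
      have hrankζ : (Matrix.diagonal d - (ζ : F) • 1).rank + 1 = n := by
        rw [Matrix.smul_one_eq_diagonal, Matrix.diagonal_sub, Matrix.rank_diagonal, Fintype.card_subtype,
          show (Finset.univ.filter fun k => d k - (ζ : F) ≠ 0) = Finset.univ.erase i₀ from ?_,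
          Finset.card_erase_of_mem (Finset.mem_univ _), Finset.card_univ, Fintype.card_fin]
        · omega
        ext k
        simp only [Finset.mem_filter, Finset.mem_univ, true_and, Finset.mem_erase, and_true, sub_ne_zero, d]
        split_ifs with h1 h2
        · exact ⟨fun h => absurd rfl h, fun h => absurd h1 h⟩
        · exact ⟨fun _ => h1, fun _ => hζi⟩
        · exact ⟨fun _ => h1, fun _ h => hζ1 h.symm⟩
      refine mk _ 1 hdet ?_ (fun c hc => ?_) fun M A B hA hB hM hrk _ => ?_
      · rw [one_smul, Matrix.diagonal_pow, ← Matrix.diagonal_one]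
        congr 1
        funext k
        simp only [Pi.pow_apply, d]
        split_ifs <;> simp [hζr, inv_pow]
      · have h1 := congrFun (congrFun hc i₀) i₀
        have h3 := congrFun (congrFun hc i₁) i₁
        simp [d, h01.symm] at h1 h3
        exact hζi (h3.trans h1.symm)
      · obtain ⟨-, h⟩ := not_kron_of_rank hlt hA hB one_ne_zero hM (by rw [hrk, hrank]; omega)
          (by rw [hrk, hrank]; omega)
        obtain ⟨k, hk⟩ := h (ζ : F) ζ.ne_zero
        rw [hrk] at hk
        rw [hk] at hrankζ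
        have hd : a ∣ 1 := (Nat.dvd_add_right (dvd_mul_right a k)).1 (hrankζ.symm ▸ hab ▸ dvd_mul_right a b)
        rw [Nat.dvd_one] at hd
        omega
  ·
    obtain ⟨f, hf, hffix⟩ := exists_order_fix (F := F) (r := r) hrF
      (by rw [Nat.card_eq_fintype_card]; exact hi0) n 1 (by rw [one_mul, Nat.card_eq_fintype_card]; exact hile)
    rw [one_mul, Nat.card_eq_fintype_card] at hffix
    set X := LinearMap.toMatrix' f with hXdef
    have hX : X ^ r = 1 := by
      rw [hXdef, show LinearMap.toMatrix' f = LinearMap.toMatrixAlgEquiv' f from rfl, ← map_pow, hf, map_one]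
    have hXrank : (X - (1 : F) • 1).rank = orderOf (Fintype.card F : ZMod r) := by
      have h := LinearMap.finrank_range_add_finrank_ker (f - 1)
      rw [Module.finrank_fin_fun] at h
      rw [fixSp] at hffix
      rw [one_smul, Matrix.rank]
      have e2 : (X - 1).mulVecLin = f - 1 := LinearMap.ext fun v => by
        rw [Matrix.mulVecLin_apply, Matrix.sub_mulVec, Matrix.one_mulVec, hXdef, LinearMap.toMatrix'_mulVec]
        rfl
      rw [e2]
      omega
    have hdet : X.det = 1 := eq_one_of_pow hr1 (by rw [← Matrix.det_pow, hX, Matrix.det_one])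
    refine mk X 1 hdet (by rw [hX, one_smul]) (fun c hc => ?_) fun M A B hA hB hM hrk hpw => ?_
    · have hc1 : c = 1 := by
        refine eq_one_of_pow hr1 ?_
        have h0 : (c • (1 : Matrix (Fin n) (Fin n) F)) ^ r = 1 := by rw [← hc]; exact hX
        rw [smul_pow, one_pow] at h0
        simpa using congrFun (congrFun h0 i₀) i₀
      rw [hc, hc1, sub_self, Matrix.rank_zero] at hXrank
      omega
    · refine not_kron_free ha hlt hrF hr1 hi0 hA hB hM (hpw r hX) ?_
      have h := hrk 1
      rw [one_smul] at h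
      rw [h]
      simpa using hXrank

/-- Conjugation of involutions by the dimension of an eigenspace. -/
theorem exists_conj_invol {k : ℕ} (h2 : (2 : F) ≠ 0) (X Y : Matrix (Fin k) (Fin k) F) (hX : X * X = 1) (hY : Y * Y = 1)
    (h : finrank F (LinearMap.ker (X + 1).mulVecLin) = finrank F (LinearMap.ker (Y + 1).mulVecLin)) :
    ∃ Q : GL (Fin k) F, (Q : Matrix (Fin k) (Fin k) F) * Y = X * (Q : Matrix (Fin k) (Fin k) F) := by
  classical
  have hcompl : ∀ Z : Matrix (Fin k) (Fin k) F, Z * Z = 1 →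
      IsCompl (LinearMap.ker (Z + 1).mulVecLin) (LinearMap.ker (Z - 1).mulVecLin) := by
    intro Z hZ
    constructor
    · rw [Submodule.disjoint_def]
      intro v hv hv'
      simp only [LinearMap.mem_ker, Matrix.mulVecLin_apply, Matrix.add_mulVec, Matrix.sub_mulVec,
        Matrix.one_mulVec] at hv hv'
      rw [sub_eq_zero.1 hv', ← two_smul F v] at hv
      exact (smul_eq_zero.1 hv).resolve_left h2
    · rw [codisjoint_iff, eq_top_iff]
      intro v _
      refine Submodule.mem_sup.2 ⟨(2 : F)⁻¹ • (v - Z *ᵥ v), ?_, (2 : F)⁻¹ • (v + Z *ᵥ v), ?_, ?_⟩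
      · rw [LinearMap.mem_ker, Matrix.mulVecLin_apply, Matrix.add_mulVec, Matrix.one_mulVec, Matrix.mulVec_smul,
          Matrix.mulVec_sub, Matrix.mulVec_mulVec, hZ, Matrix.one_mulVec]
        module
      · rw [LinearMap.mem_ker, Matrix.mulVecLin_apply, Matrix.sub_mulVec, Matrix.one_mulVec, Matrix.mulVec_smul,
          Matrix.mulVec_add, Matrix.mulVec_mulVec, hZ, Matrix.one_mulVec]
        module
      · rw [← smul_add, show v - Z *ᵥ v + (v + Z *ᵥ v) = (2 : F) • v by module, smul_smul, inv_mul_cancel₀ h2, one_smul]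
  have hX' := Submodule.finrank_add_eq_of_isCompl (hcompl X hX)
  have hY' := Submodule.finrank_add_eq_of_isCompl (hcompl Y hY)
  let e1 := LinearEquiv.ofFinrankEq (LinearMap.ker (Y + 1).mulVecLin) (LinearMap.ker (X + 1).mulVecLin) h.symm
  have hh : finrank F (LinearMap.ker (Y - 1).mulVecLin) = finrank F (LinearMap.ker (X - 1).mulVecLin) :=
    Nat.add_left_cancel (n := finrank F (LinearMap.ker (X + 1).mulVecLin)) (by rw [hX', h]; exact hY')
  let e2 := LinearEquiv.ofFinrankEq (LinearMap.ker (Y - 1).mulVecLin) (LinearMap.ker (X - 1).mulVecLin) hh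
  let eY := Submodule.prodEquivOfIsCompl _ _ (hcompl Y hY)
  let eX := Submodule.prodEquivOfIsCompl _ _ (hcompl X hX)
  let φ : (Fin k → F) ≃ₗ[F] (Fin k → F) := eY.symm.trans ((e1.prodCongr e2).trans eX)
  let Qm : GL (Fin k) F := ⟨LinearMap.toMatrix' (φ : _ →ₗ[F] _), LinearMap.toMatrix' (φ.symm : _ →ₗ[F] _),
    by rw [← LinearMap.toMatrix'_comp, LinearEquiv.comp_coe, φ.symm_trans_self]; exact LinearMap.toMatrix'_id,
    by rw [← LinearMap.toMatrix'_comp, LinearEquiv.comp_coe, φ.self_trans_symm]; exact LinearMap.toMatrix'_id⟩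
  have hQ : ∀ v, (Qm : Matrix (Fin k) (Fin k) F) *ᵥ v = φ v := fun v => LinearMap.toMatrix'_mulVec _ v
  refine ⟨Qm, Matrix.toLin'.injective (LinearMap.ext fun v => ?_)⟩
  rw [Matrix.toLin'_apply, Matrix.toLin'_apply, ← Matrix.mulVec_mulVec, ← Matrix.mulVec_mulVec, hQ, hQ]
  obtain ⟨⟨u, w⟩, rfl⟩ := eY.surjective v
  have eig : ∀ (Z : Matrix (Fin k) (Fin k) F) (u : LinearMap.ker (Z + 1).mulVecLin), Z *ᵥ (u : Fin k → F) = -(u : Fin k → F) :=
    fun Z u => by
      have := LinearMap.mem_ker.1 u.2
      rw [Matrix.mulVecLin_apply, Matrix.add_mulVec, Matrix.one_mulVec] at this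
      exact eq_neg_of_add_eq_zero_left this
  have eig' : ∀ (Z : Matrix (Fin k) (Fin k) F) (u : LinearMap.ker (Z - 1).mulVecLin), Z *ᵥ (u : Fin k → F) = (u : Fin k → F) :=
    fun Z u => by
      have := LinearMap.mem_ker.1 u.2
      rw [Matrix.mulVecLin_apply, Matrix.sub_mulVec, Matrix.one_mulVec] at this
      exact sub_eq_zero.1 this
  have h1 : Y *ᵥ eY (u, w) = eY (-u, w) := by
    simp [eY, Submodule.coe_prodEquivOfIsCompl', Matrix.mulVec_add, eig, eig']
  rw [h1]
  simp [φ, eX, Submodule.coe_prodEquivOfIsCompl', Matrix.mulVec_add, eig, eig', map_neg]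

/-- Every involution modulo scalars is conjugate into the stabiliser. -/
theorem exists_conj_two (hab : n = 2 * b) (hb : 0 < b) (hodd : Odd (Fintype.card F))
    (hw : ∀ w : F, w ^ n ≠ -1) (e : Fin n ≃ Fin 2 × Fin b) (P : GL (Fin n) F) (x : GL (Fin n) F)
    (hx : x ∈ Cfsg.Geo.specialLinear (Fin n) F) {z : F}
    (hz : ((x ^ 2 : GL (Fin n) F) : Matrix (Fin n) (Fin n) F) = z • 1) :
    ∃ g ∈ Cfsg.Geo.specialLinear (Fin n) F, g⁻¹ * x * g ∈ Cfsg.Geo.tensorProductSubgroup 2 b e P := by
  classical
  have h2 : (2 : F) ≠ 0 := InvClass.two_ne_zero_iff_odd_card.2 hodd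
  have hdx : (x : Matrix (Fin n) (Fin n) F).det = 1 := congrArg Units.val (MonoidHom.mem_ker.1 hx)
  set X := (x : Matrix (Fin n) (Fin n) F) with hXdef
  have hXX : X * X = z • 1 := by rw [← hz, Units.val_pow_eq_pow_val, pow_two]
  -- a conjugate in the stabiliser
  suffices hT : ∃ (A : GL (Fin 2) F) (B : GL (Fin b) F) (T : Matrix (Fin n) (Fin n) F),
      coord e P T = (A : Matrix (Fin 2) (Fin 2) F) ⊗ₖ (B : Matrix (Fin b) (Fin b) F) ∧
      ∃ Q : GL (Fin n) F, (Q : Matrix (Fin n) (Fin n) F) * T = X * (Q : Matrix (Fin n) (Fin n) F) by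
    obtain ⟨A, B, T, hT, Q, hQ⟩ := hT
    have hmem : Q⁻¹ * x * Q ∈ Cfsg.Geo.tensorProductSubgroup 2 b e P := by
      refine (mem_tensorProductSubgroup_iff e P _).2 ⟨A, B, ?_⟩
      rw [← hT]
      congr 1
      rw [Units.val_mul, Units.val_mul, mul_assoc, ← hXdef, ← hQ, ← mul_assoc, ← Units.val_mul, inv_mul_cancel,
        Units.val_one, one_mul]
    let x' : Matrix.SpecialLinearGroup (Fin n) F := ⟨X, hdx⟩
    have hx' : Matrix.SpecialLinearGroup.toGL x' = x := Units.ext rfl
    obtain ⟨P', hP'⟩ := InvClass.exists_sl_conj (by omega) x' (z := z)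
      (by rw [← hz, ← hx', ← map_pow]; rfl) (Cfsg.Geo.tensorProductSubgroup 2 b e P) Q (by rw [hx']; exact hmem)
    refine ⟨Matrix.SpecialLinearGroup.toGL P', ?_, ?_⟩
    · show Matrix.GeneralLinearGroup.det _ = 1
      exact Units.ext P'.2
    · rw [Subgroup.mem_comap, InvClass.toGL_conj, hx'] at hP'
      exact hP'
  have hz0 : z ≠ 0 := by
    rintro rfl
    have := congrArg Matrix.det hXX
    rw [Matrix.det_mul, hdx, zero_smul, one_mul, @Matrix.det_zero _ _ _ _ _ ⟨(⟨0, by omega⟩ : Fin n)⟩] at this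
    exact one_ne_zero this
  by_cases hsq : ∃ w : F, w * w = z
  · obtain ⟨w, rfl⟩ := hsq
    have hw0 : w ≠ 0 := fun h => hz0 (by rw [h, mul_zero])
    set Y := w⁻¹ • X with hY
    have hYY : Y * Y = 1 := by
      rw [hY, smul_mul_smul_comm, hXX, smul_smul, show w⁻¹ * w⁻¹ * (w * w) = 1 by field_simp, one_smul]
    set k := finrank F (LinearMap.ker (Y + 1).mulVecLin)
    -- diagonal models
    let D : ℕ → Matrix (Fin n) (Fin n) F := fun m => Matrix.diagonal fun l => if (l : ℕ) < m then -1 else 1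
    have hD2 : ∀ m, D m * D m = 1 := fun m => by
      rw [Matrix.diagonal_mul_diagonal, ← Matrix.diagonal_one]
      congr 1; funext l; split_ifs <;> ring
    have hk : k ≤ n := (Submodule.finrank_le _).trans (le_of_eq (Module.finrank_fin_fun F))
    have hker : ∀ m, m ≤ n → finrank F (LinearMap.ker (D m + 1).mulVecLin) = m := fun m hm => by
      have h := LinearMap.finrank_range_add_finrank_ker (D m + 1).mulVecLin
      rw [Module.finrank_fin_fun] at h
      have hr : (D m + 1).rank = n - m := by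
        show (Matrix.diagonal (fun l : Fin n => if (l : ℕ) < m then (-1 : F) else 1) + 1).rank = n - m
        rw [← Matrix.diagonal_one, Matrix.diagonal_add, Matrix.rank_diagonal, Fintype.card_subtype]
        rw [show (Finset.univ.filter fun l : Fin n => (if (l : ℕ) < m then (-1 : F) else 1) + 1 ≠ 0) =
          Finset.univ.filter fun l : Fin n => ¬ (l : ℕ) < m from Finset.filter_congr fun l _ => by
            split_ifs with hl
            · simp [hl]
            · simp [hl, one_add_one_eq_two, h2]]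
        have := Finset.card_filter_add_card_filter_not (s := (Finset.univ : Finset (Fin n))) (fun l => (l : ℕ) < m)
        rw [Finset.card_univ, Fintype.card_fin, Fin.card_filter_val_lt] at this
        omega
      rw [Matrix.rank] at hr
      omega
    obtain ⟨Q₀, hQ₀⟩ := exists_conj_invol h2 Y (D k) hYY (hD2 k) (hker k hk).symm
    have hdetY : (-1 : F) ^ k = w⁻¹ ^ n := by
      have h := congrArg Matrix.det hQ₀
      rw [Matrix.det_mul, Matrix.det_mul, mul_comm] at h
      have h' := mul_right_cancel₀ ((Matrix.isUnit_iff_isUnit_det _).1 Q₀.isUnit).ne_zero h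
      rw [hY, Matrix.det_smul, hdx, mul_one, Fintype.card_fin] at h'
      rw [← h']
      show _ = (Matrix.diagonal fun l : Fin n => if (l : ℕ) < k then (-1 : F) else 1).det
      rw [Matrix.det_diagonal, Finset.prod_ite, Finset.prod_const, Finset.prod_const_one, mul_one,
        Fin.card_filter_val_lt, min_eq_right hk]
    obtain ⟨j, hj⟩ : Even k := by
      by_contra ho
      rw [Nat.not_even_iff_odd] at ho
      rw [ho.neg_one_pow] at hdetY
      exact hw w⁻¹ hdetY.symm
    let Bd : Matrix (Fin b) (Fin b) F := Matrix.diagonal fun l => if (l : ℕ) < j then -w else w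
    have hBd : Bd.det ≠ 0 := by
      rw [Matrix.det_diagonal, Finset.prod_ne_zero_iff]
      intro l _
      split_ifs <;> simp [hw0]
    obtain ⟨T, hT⟩ := coord_surjective e P ((1 : Matrix (Fin 2) (Fin 2) F) ⊗ₖ Bd)
    refine ⟨1, Matrix.GeneralLinearGroup.mkOfDetNeZero Bd hBd, T, hT, ?_⟩
    have hTT : (w⁻¹ • T) * (w⁻¹ • T) = 1 := coord_injective e P (by
      rw [coord_mul, coord_smul, hT, coord_one, smul_mul_smul_comm, ← Matrix.mul_kronecker_mul, one_mul,
        ← Matrix.kronecker_smul, Matrix.diagonal_mul_diagonal, ← Matrix.diagonal_smul]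
      rw [show ((w⁻¹ * w⁻¹) • fun l : Fin b => (if (l : ℕ) < j then -w else w) * if (l : ℕ) < j then -w else w) =
        fun _ => (1 : F) from funext fun l => by
          simp only [Pi.smul_apply, smul_eq_mul]
          split_ifs <;> field_simp, Matrix.diagonal_one, Matrix.one_kronecker_one])
    have hkT : finrank F (LinearMap.ker ((w⁻¹ • T) + 1).mulVecLin) = k := by
      have h := LinearMap.finrank_range_add_finrank_ker ((w⁻¹ • T) + 1).mulVecLin
      rw [Module.finrank_fin_fun] at h
      have hjb : j ≤ b := by omega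
      have hr : ((w⁻¹ • T) + 1).rank = n - k := by
        rw [← rank_coord e P, show coord e P (w⁻¹ • T + 1) = (1 : Matrix (Fin 2) (Fin 2) F) ⊗ₖ (w⁻¹ • Bd + 1) from ?_,
          rank_one_kron]
        · rw [← Matrix.diagonal_smul, ← Matrix.diagonal_one, Matrix.diagonal_add, Matrix.rank_diagonal,
            Fintype.card_subtype]
          rw [show (Finset.univ.filter fun l : Fin b => (w⁻¹ • fun l : Fin b => if (l : ℕ) < j then -w else w) l + 1 ≠ 0) =
            Finset.univ.filter fun l : Fin b => ¬ (l : ℕ) < j from Finset.filter_congr fun l _ => by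
              simp only [Pi.smul_apply, smul_eq_mul]
              split_ifs with hl
              · simp [hl, hw0]
              · simp [hl, hw0, one_add_one_eq_two, h2]]
          have := Finset.card_filter_add_card_filter_not (s := (Finset.univ : Finset (Fin b))) (fun l => (l : ℕ) < j)
          rw [Finset.card_univ, Fintype.card_fin, Fin.card_filter_val_lt] at this
          omega
        · rw [Matrix.kronecker_add, Matrix.kronecker_smul, Matrix.one_kronecker_one, ← hT, ← coord_smul,
            ← coord_one e P]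
          ext i i'
          simp [coord, Matrix.mul_add, Matrix.add_mul, Matrix.one_apply]
      rw [Matrix.rank] at hr
      omega
    obtain ⟨Q, hQ⟩ := exists_conj_invol h2 Y (w⁻¹ • T) hYY hTT hkT.symm
    refine ⟨Q, ?_⟩
    rw [hY, mul_smul_comm, smul_mul_assoc] at hQ
    exact smul_right_injective _ (inv_ne_zero hw0) hQ
  · push Not at hsq
    let Am : Matrix (Fin 2) (Fin 2) F := !![0, z; 1, 0]
    have hA : Am.det ≠ 0 := by simp [Am, Matrix.det_fin_two, hz0]
    have hAA : Am * Am = z • 1 := by ext i j; fin_cases i <;> fin_cases j <;> simp [Am]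
    obtain ⟨T, hT⟩ := coord_surjective e P (Am ⊗ₖ (1 : Matrix (Fin b) (Fin b) F))
    refine ⟨Matrix.GeneralLinearGroup.mkOfDetNeZero Am hA, 1, T, hT, ?_⟩
    have hTT : T * T = z • 1 := coord_injective e P (by
      rw [coord_mul, hT, coord_smul, coord_one, ← Matrix.mul_kronecker_mul, hAA, one_mul, Matrix.smul_kronecker,
        Matrix.one_kronecker_one])
    exact InvClass.exists_conj_quad T X 0 z (fun t ht => hsq t (by rw [ht, zero_mul, zero_add]))
      (by rw [hTT, zero_smul, zero_add]) (by rw [hXX, zero_smul, zero_add])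

end Main

end CfsgLib.Geo.TensorDerange
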