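/-
Elements of prime order and tensor decompositions of a symplectic space.
-/
import Cfsg.Agent.Lib.Geo.PrimeSympElements
import Cfsg.Agent.Lib.Geo.TensorDerange

set_option autoImplicit false

namespace CfsgLib.Geo.SympTensor

open Matrix Module CfsgLib.Geo.Asch CfsgLib.Geo.PrimeAct CfsgLib.Geo.PrimeSp
open scoped Kronecker
open LinearMap (BilinForm)
open CfsgLib.Classical.Symp (sympBil sympBil_apply)

variable {F : Type*} [Field F]

/-! ### Isometries of odd prime order -/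

section Even

variable {r : ℕ}

theorem even_of_free {n : ℕ} (h2 : (2 : F) ≠ 0) (hr : Odd r) {T G : Matrix (Fin n) (Fin n) F} (hTr : T ^ r = 1)
    (hG : Tᵀ * G * T = G) (hGd : G.det ≠ 0) (hfree : (T - 1).det ≠ 0) : Even n := by
  have h1 : Tᵀ * G * (T - 1) = (1 - Tᵀ) * G := by rw [mul_sub, mul_one, hG, sub_mul, one_mul]
  have h3 := congrArg Matrix.det h1
  rw [Matrix.det_mul, Matrix.det_mul, Matrix.det_mul, Matrix.det_transpose,
    show (1 : Matrix (Fin n) (Fin n) F) - Tᵀ = (-(T - 1))ᵀ by rw [neg_sub, Matrix.transpose_sub, Matrix.transpose_one],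
    Matrix.det_transpose, Matrix.det_neg, Fintype.card_fin] at h3
  have h4 : T.det = (-1 : F) ^ n := mul_right_cancel₀ (mul_ne_zero hfree hGd) (by linear_combination h3)
  by_contra hn
  rw [Nat.not_even_iff_odd] at hn
  have h5 := congrArg Matrix.det hTr
  rw [Matrix.det_pow, h4, hn.neg_one_pow, hr.neg_one_pow, Matrix.det_one] at h5
  exact h2 (by linear_combination -h5)

variable [Finite F] [Fact r.Prime]

theorem rest_eq_rank {n : ℕ} {X : Matrix (Fin n) (Fin n) F} (hX : X ^ r = 1) (hrF : (r : F) ≠ 0) :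
    finrank F (restSp r (Matrix.toLin' X)) = (X - 1).rank := by
  have hf : Matrix.toLin' X ^ r = 1 := by
    show Matrix.toLinAlgEquiv' X ^ r = 1
    rw [← map_pow, hX, map_one]
  have h := finrank_split hf hrF ⊤ fun _ _ => Submodule.mem_top
  rw [top_inf_eq, top_inf_eq, finrank_top, Module.finrank_fin_fun] at h
  have h' := LinearMap.finrank_range_add_finrank_ker (X - 1).mulVecLin
  rw [Module.finrank_fin_fun] at h'
  have hk : LinearMap.ker (X - 1).mulVecLin = fixSp (Matrix.toLin' X) := by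
    ext v
    rw [LinearMap.mem_ker, Matrix.mulVecLin_apply, Matrix.sub_mulVec, Matrix.one_mulVec, sub_eq_zero, mem_fixSp,
      Matrix.toLin'_apply]
  rw [hk] at h'
  rw [Matrix.rank]
  omega

theorem rank_dvd {n : ℕ} (h2 : (2 : F) ≠ 0) (hr : Odd r) (hrF : (r : F) ≠ 0) {X G : Matrix (Fin n) (Fin n) F}
    (hX : X ^ r = 1) (hXG : Xᵀ * G * X = G) (hG : G.det ≠ 0) :
    Nat.lcm 2 (orderOf (Nat.card F : ZMod r)) ∣ (X - 1).rank := by
  classical
  set f := Matrix.toLin' X with hfdef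
  have hf : f ^ r = 1 := by
    show Matrix.toLinAlgEquiv' X ^ r = 1
    rw [← map_pow, hX, map_one]
  rw [← rest_eq_rank hX hrF, ← hfdef]
  refine Nat.lcm_dvd (even_iff_two_dvd.1 ?_) ?_
  · set B := Matrix.toBilin' G with hB
    have hn : ∀ u, (∀ v, B u v = 0) → u = 0 :=
      (Matrix.nondegenerate_toBilin'_iff.2 (Matrix.nondegenerate_iff_det_ne_zero.2 hG)).1
    have hfB : ∀ u v, B (f u) (f v) = B u v := fun u v => by
      show (Matrix.toBilin' G).comp (Matrix.toLin' X) (Matrix.toLin' X) u v = _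
      rw [Matrix.toBilin'_comp, hXG]
    set W := restSp r f
    have hWi : ∀ v ∈ W, f v ∈ W := restSp_invariant hf
    let e := (Module.finBasis F W).equivFun
    set m := finrank F W with hm
    let T := LinearMap.toMatrix' ((e : W →ₗ[F] (Fin m → F)) ∘ₗ f.restrict hWi ∘ₗ (e.symm : (Fin m → F) →ₗ[F] W))
    let B' : BilinForm F (Fin m → F) :=
      LinearMap.BilinForm.comp B (W.subtype ∘ₗ (e.symm : (Fin m → F) →ₗ[F] W))
        (W.subtype ∘ₗ (e.symm : (Fin m → F) →ₗ[F] W))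
    have hTv : ∀ v, T *ᵥ v = e (f.restrict hWi (e.symm v)) := fun v => by
      rw [← Matrix.toLin'_apply, Matrix.toLin'_toMatrix']
      rfl
    have hTk : ∀ (k : ℕ) v, ((e.symm (T ^ k *ᵥ v) : W) : Fin n → F) = (f ^ k) (e.symm v : W) := fun k => by
      induction k with
      | zero => intro v; simp
      | succ k ih =>
        intro v
        rw [pow_succ' T, ← Matrix.mulVec_mulVec, hTv, e.symm_apply_apply, LinearMap.restrict_coe_apply, ih, pow_succ',
          Module.End.mul_apply]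
    have hB' : ∀ u v, B' u v = B (e.symm u : W) (e.symm v : W) := fun u v => rfl
    refine even_of_free (T := T) (G := LinearMap.BilinForm.toMatrix' B') h2 hr ?_ ?_ ?_ ?_
    · refine Matrix.toLin'.injective (LinearMap.ext fun v => ?_)
      rw [Matrix.toLin'_apply, Matrix.toLin'_one, LinearMap.id_apply]
      refine e.symm.injective (Subtype.ext ?_)
      rw [hTk, hf]
      rfl
    · refine Matrix.toBilin'.injective (LinearMap.ext₂ fun u v => ?_)
      rw [← Matrix.toBilin'_comp, Matrix.toBilin'_toMatrix', LinearMap.BilinForm.comp_apply, Matrix.toLin'_apply,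
        Matrix.toLin'_apply, hB', hB', hTv, hTv, e.symm_apply_apply, e.symm_apply_apply]
      exact hfB _ _
    · rw [← Matrix.nondegenerate_iff_det_ne_zero, ← Matrix.nondegenerate_toBilin'_iff, Matrix.toBilin'_toMatrix']
      have hl : B'.SeparatingLeft := fun u hu => e.symm.map_eq_zero_iff.1 (Subtype.ext
        (rest_nondeg hf hrF hfB hn _ (e.symm u).2 fun v hv => by
          have := hu (e ⟨v, hv⟩)
          rwa [hB', e.symm_apply_apply] at this))
      exact LinearMap.BilinForm.Nondegenerate.ofSeparatingLeft hl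
    · intro h0
      obtain ⟨v, hv0, hv⟩ := Matrix.exists_mulVec_eq_zero_iff.2 h0
      rw [Matrix.sub_mulVec, Matrix.one_mulVec, sub_eq_zero, hTv] at hv
      refine hv0 (e.symm.map_eq_zero_iff.1 (Subtype.ext (free_of_le_rest hrF (e.symm v).2 ?_)))
      exact congrArg Subtype.val (e.injective (hv.trans (e.apply_symm_apply v).symm))
  · have h := orderOf_dvd_rest hf hrF
    have h' := finrank_split hf hrF ⊤ fun _ _ => Submodule.mem_top
    rw [top_inf_eq, top_inf_eq, finrank_top] at h'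
    rwa [show finrank F (Fin n → F) - finrank F (fixSp f) = finrank F (restSp r f) by omega] at h

end Even

/-! ### Kronecker products -/

section Kron

variable {a b : ℕ}

theorem kron_cancel {G₁ A' : Matrix (Fin a) (Fin a) F} {G₂ B' : Matrix (Fin b) (Fin b) F} (ha : 0 < a) (hb : 0 < b)
    (h₁ : G₁.det ≠ 0) (h₂ : G₂.det ≠ 0) (h : A' ⊗ₖ B' = G₁ ⊗ₖ G₂) :
    ∃ μ : F, μ ≠ 0 ∧ A' = μ • G₁ ∧ B' = μ⁻¹ • G₂ := by
  haveI : Nonempty (Fin a) := ⟨⟨0, ha⟩⟩
  haveI : Nonempty (Fin b) := ⟨⟨0, hb⟩⟩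
  obtain ⟨i, j, hij⟩ : ∃ i j, G₁ i j ≠ 0 := by
    by_contra! hc
    exact h₁ (by rw [show G₁ = 0 from Matrix.ext hc, Matrix.det_zero])
  obtain ⟨k, l, hkl⟩ : ∃ k l, G₂ k l ≠ 0 := by
    by_contra! hc
    exact h₂ (by rw [show G₂ = 0 from Matrix.ext hc, Matrix.det_zero])
  have hent : ∀ i' j' k' l', A' i' j' * B' k' l' = G₁ i' j' * G₂ k' l' := fun i' j' k' l' =>
    congrFun (congrFun h (i', k')) (j', l')
  have hne := mul_ne_zero hij hkl
  rw [← hent] at hne
  obtain ⟨hA0, hB0⟩ := mul_ne_zero_iff.1 hne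
  refine ⟨G₂ k l / B' k l, div_ne_zero hkl hB0, ?_, ?_⟩
  · ext i' j'
    rw [Matrix.smul_apply, smul_eq_mul, div_mul_eq_mul_div, eq_div_iff hB0, mul_comm (G₂ k l)]
    exact hent i' j' k l
  · ext k' l'
    rw [Matrix.smul_apply, smul_eq_mul, inv_div, div_mul_eq_mul_div, eq_div_iff hkl]
    refine mul_left_cancel₀ hA0 ?_
    linear_combination G₂ k l * hent i j k' l' - G₂ k' l' * hent i j k l

theorem kron_transpose_mul (A G₁ : Matrix (Fin a) (Fin a) F) (B G₂ : Matrix (Fin b) (Fin b) F) :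
    (A ⊗ₖ B)ᵀ * (G₁ ⊗ₖ G₂) * (A ⊗ₖ B) = (Aᵀ * G₁ * A) ⊗ₖ (Bᵀ * G₂ * B) := by
  have hT : (A ⊗ₖ B)ᵀ = Aᵀ ⊗ₖ Bᵀ := Matrix.ext fun _ _ => rfl
  rw [hT, ← Matrix.mul_kronecker_mul, ← Matrix.mul_kronecker_mul]

theorem kron_pow (A : Matrix (Fin a) (Fin a) F) (B : Matrix (Fin b) (Fin b) F) (k : ℕ) :
    (A ⊗ₖ B) ^ k = (A ^ k) ⊗ₖ (B ^ k) := by
  induction k with
  | zero => simp [Matrix.one_kronecker_one]
  | succ k ih => rw [pow_succ, pow_succ, pow_succ, ih, Matrix.mul_kronecker_mul]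

theorem one_kron_injective (ha : 0 < a) :
    Function.Injective fun N : Matrix (Fin b) (Fin b) F => (1 : Matrix (Fin a) (Fin a) F) ⊗ₖ N := fun N N' h => by
  ext k l
  simpa using congrFun (congrFun h (⟨0, ha⟩, k)) (⟨0, ha⟩, l)

theorem rank_ge_of_right {A : Matrix (Fin a) (Fin a) F} {B : Matrix (Fin b) (Fin b) F} (hA : IsUnit A.det)
    (hB : ∀ c : F, B ≠ c • 1) : a ≤ (A ⊗ₖ B - 1).rank := by
  have h := TensorDerange.rank_ge_of_left hB hA 1
  rw [one_smul] at h
  rw [TensorDerange.kron_swap, ← Matrix.submatrix_one_equiv (Equiv.prodComm (Fin a) (Fin b)),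
    show ∀ (X Y : Matrix (Fin b × Fin a) (Fin b × Fin a) F) (σ : Fin a × Fin b ≃ Fin b × Fin a),
      X.submatrix σ σ - Y.submatrix σ σ = (X - Y).submatrix σ σ from fun _ _ _ => rfl, Matrix.rank_submatrix]
  exact h

/-- Without eigenvectors the rank doubles. -/
theorem two_mul_le_rank {A : Matrix (Fin a) (Fin a) F} {B : Matrix (Fin b) (Fin b) F} (ha : 4 ≤ a)
    (hA : ∀ (c : F) v, A *ᵥ v = c • v → v = 0) (hB : IsUnit B.det) : 2 * b ≤ (A ⊗ₖ B - 1).rank := by
  classical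
  let v₁ : Fin a → F := Pi.single ⟨0, by omega⟩ 1
  have hv₁ : v₁ ≠ 0 := by simp [v₁]
  have hpair : LinearIndependent F ![v₁, A *ᵥ v₁] := by
    rw [LinearIndependent.pair_iff]
    intro s t hst
    rcases eq_or_ne t 0 with rfl | ht
    · rw [zero_smul, add_zero, smul_eq_zero] at hst
      exact ⟨hst.resolve_right hv₁, rfl⟩
    · refine absurd (hA (-(t⁻¹ * s)) v₁ ?_) hv₁
      rw [← inv_smul_smul₀ ht (A *ᵥ v₁), eq_neg_of_add_eq_zero_right hst, smul_neg, smul_smul, neg_smul]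
  set U : Submodule F (Fin a → F) := Submodule.span F (Set.range ![v₁, A *ᵥ v₁]) with hU
  have hUd : finrank F U = 2 := by rw [hU, finrank_span_eq_card hpair, Fintype.card_fin]
  obtain ⟨v₂, hv₂, hAv₂⟩ : ∃ v₂, v₂ ∉ U ∧ ∀ s : F, A *ᵥ v₂ - s • v₂ ∉ U := by
    by_contra! hc
    have hlt : ∀ W : Submodule F (Fin a → F), finrank F W < a → ∃ w, w ∉ W := fun W hW => by
      by_contra! h
      rw [Submodule.eq_top_iff'.2 h, finrank_top, Module.finrank_fin_fun] at hW
      omega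
    obtain ⟨v₀, hv₀⟩ := hlt U (by omega)
    obtain ⟨w₀, hw₀⟩ := hlt (U ⊔ Submodule.span F {v₀}) (by
      have := Submodule.finrank_add_le_finrank_add_finrank U (Submodule.span F {v₀})
      have hs : finrank F (Submodule.span F ({v₀} : Set (Fin a → F))) ≤ 1 :=
        (finrank_span_le_card _).trans (by simp)
      omega)
    obtain ⟨lam, hlam⟩ := hc v₀ hv₀
    have hv₀U : ∀ c : F, c • v₀ ∈ U → c = 0 := fun c h => by
      by_contra hc0
      exact hv₀ (by simpa [inv_smul_smul₀ hc0] using U.smul_mem c⁻¹ h)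
    -- vectors outside `U + F v₀` have the same eigenvalue
    have hout : ∀ v, v ∉ U ⊔ Submodule.span F {v₀} → A *ᵥ v - lam • v ∈ U := by
      intro v hv
      obtain ⟨μ, hμ⟩ := hc v (fun h => hv (Submodule.mem_sup_left h))
      obtain ⟨ν, hν⟩ := hc (v + v₀) (fun h => hv (by
        simpa using Submodule.sub_mem _ (Submodule.mem_sup_left (T := Submodule.span F {v₀}) h)
          (Submodule.mem_sup_right (S := U) (Submodule.mem_span_singleton_self v₀))))
      have hdiff : (μ - ν) • v + (lam - ν) • v₀ ∈ U := by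
        have := U.sub_mem (U.sub_mem hν hμ) hlam
        rw [Matrix.mulVec_add] at this
        convert this using 1
        module
      have hμν : μ = ν := by
        by_contra h
        refine hv ?_
        rw [show v = (μ - ν)⁻¹ • (((μ - ν) • v + (lam - ν) • v₀) - (lam - ν) • v₀) by
          rw [add_sub_cancel_right, inv_smul_smul₀ (sub_ne_zero.2 h)]]
        exact Submodule.smul_mem _ _ (Submodule.sub_mem _ (Submodule.mem_sup_left hdiff)
          (Submodule.mem_sup_right (Submodule.smul_mem _ _ (Submodule.mem_span_singleton_self v₀))))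
      subst hμν
      rw [sub_self, zero_smul, zero_add] at hdiff
      obtain rfl : lam = μ := sub_eq_zero.1 (hv₀U _ hdiff)
      exact hμ
    have hall : ∀ v, A *ᵥ v - lam • v ∈ U := by
      intro v
      by_cases hv : v ∈ U ⊔ Submodule.span F {v₀}
      · have h := hout (v + w₀) (fun h => hw₀ (by simpa using Submodule.sub_mem _ h hv))
        have := U.sub_mem h (hout w₀ hw₀)
        rw [Matrix.mulVec_add] at this
        convert this using 1
        module
      · exact hout v hv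
    have hr : (A - lam • 1).mulVecLin.range ≤ U := by
      rintro _ ⟨v, rfl⟩
      simpa [Matrix.sub_mulVec, Matrix.smul_mulVec] using hall v
    have h1 := (Submodule.finrank_mono hr).trans_eq hUd
    have h2 := LinearMap.finrank_range_add_finrank_ker (A - lam • 1).mulVecLin
    rw [Module.finrank_fin_fun] at h2
    obtain ⟨⟨w, hw⟩, hw0⟩ := Module.finrank_pos_iff_exists_ne_zero.1
      (show 0 < finrank F (LinearMap.ker (A - lam • 1).mulVecLin) by omega)
    refine hw0 (Subtype.ext (hA lam w ?_))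
    rwa [LinearMap.mem_ker, Matrix.mulVecLin_apply, Matrix.sub_mulVec, Matrix.smul_mulVec, Matrix.one_mulVec,
      sub_eq_zero] at hw
  have hind : ∀ s t s' t' : F, s • v₁ + t • (A *ᵥ v₁) + s' • v₂ + t' • (A *ᵥ v₂) = 0 →
      s = 0 ∧ t = 0 ∧ s' = 0 ∧ t' = 0 := by
    intro s t s' t' h
    have hmem : s' • v₂ + t' • (A *ᵥ v₂) ∈ U := by
      rw [show s' • v₂ + t' • (A *ᵥ v₂) = -(s • v₁ + t • (A *ᵥ v₁)) by
        rw [eq_neg_iff_add_eq_zero, ← h]; abel]
      exact U.neg_mem (U.add_mem (U.smul_mem _ (Submodule.subset_span ⟨0, rfl⟩))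
        (U.smul_mem _ (Submodule.subset_span ⟨1, rfl⟩)))
    have ht' : t' = 0 := by
      by_contra hne
      refine hAv₂ (-(t'⁻¹ * s')) ?_
      rw [show A *ᵥ v₂ - (-(t'⁻¹ * s')) • v₂ = t'⁻¹ • (s' • v₂ + t' • (A *ᵥ v₂)) by
        rw [smul_add, inv_smul_smul₀ hne, smul_smul]; module]
      exact U.smul_mem _ hmem
    rw [ht', zero_smul, add_zero] at hmem h
    have hs' : s' = 0 := by
      by_contra hne
      exact hv₂ (by simpa [inv_smul_smul₀ hne] using U.smul_mem s'⁻¹ hmem)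
    rw [hs', zero_smul, add_zero] at h
    obtain ⟨hs, ht⟩ := LinearIndependent.pair_iff.1 hpair s t h
    exact ⟨hs, ht, hs', ht'⟩
  let T : ((Fin b → F) × (Fin b → F)) →ₗ[F] (Fin a × Fin b → F) :=
    { toFun := fun w p => v₁ p.1 * w.1 p.2 + v₂ p.1 * w.2 p.2
      map_add' := fun x y => by funext p; simp; ring
      map_smul' := fun c x => by funext p; simp; ring }
  have hkey : ∀ w p, ((A ⊗ₖ B - 1) *ᵥ T w) p = (A *ᵥ v₁) p.1 * (B *ᵥ w.1) p.2 + (A *ᵥ v₂) p.1 * (B *ᵥ w.2) p.2 -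
      (v₁ p.1 * w.1 p.2 + v₂ p.1 * w.2 p.2) := by
    intro w p
    rw [Matrix.sub_mulVec, Matrix.one_mulVec, Pi.sub_apply]
    congr 1
    simp only [Matrix.mulVec, dotProduct, Fintype.sum_prod_type, Matrix.kronecker, Matrix.kroneckerMap_apply]
    rw [Finset.sum_mul_sum, Finset.sum_mul_sum, ← Finset.sum_add_distrib]
    refine Finset.sum_congr rfl fun i _ => ?_
    rw [← Finset.sum_add_distrib]
    exact Finset.sum_congr rfl fun j _ => by
      show _ * (v₁ i * w.1 j + v₂ i * w.2 j) = _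
      ring
  have hinj : Function.Injective ((A ⊗ₖ B - 1).mulVecLin ∘ₗ T) := by
    rw [injective_iff_map_eq_zero]
    intro w hw
    have h : ∀ j, -(w.1 j) = 0 ∧ (B *ᵥ w.1) j = 0 ∧ -(w.2 j) = 0 ∧ (B *ᵥ w.2) j = 0 := fun j =>
      hind _ _ _ _ (funext fun i => by
        have h' := congrFun hw (i, j)
        rw [LinearMap.comp_apply, Matrix.mulVecLin_apply, hkey, Pi.zero_apply] at h'
        simp only [Pi.add_apply, Pi.smul_apply, smul_eq_mul, Pi.zero_apply]
        linear_combination h')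
    exact Prod.ext (funext fun j => neg_eq_zero.1 (h j).1) (funext fun j => neg_eq_zero.1 (h j).2.2.1)
  have h := LinearMap.finrank_range_of_inj hinj
  rw [Module.finrank_prod, Module.finrank_fin_fun, ← two_mul] at h
  exact h.symm.trans_le (Submodule.finrank_mono (LinearMap.range_comp_le_range _ _))

/-- Small ranks are impossible. -/
theorem not_kron_small (ha : 0 < a) (hb : 0 < b) {A : Matrix (Fin a) (Fin a) F} {B : Matrix (Fin b) (Fin b) F}
    (hB : IsUnit B.det) {c : ℕ} (hc : 0 < c) (hcb : c < b) (hca : ¬ a ∣ c) (hrank : (A ⊗ₖ B - 1).rank = c) :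
    False := by
  classical
  by_cases hAs : ∀ s : F, A ≠ s • 1
  · have h := TensorDerange.rank_ge_of_left hAs hB 1
    rw [one_smul, hrank] at h
    omega
  · push Not at hAs
    obtain ⟨s, rfl⟩ := hAs
    rw [← one_smul F (1 : Matrix (Fin a × Fin b) (Fin a × Fin b) F), TensorDerange.smul_one_kron,
      TensorDerange.rank_one_kron] at hrank
    exact hca ⟨_, hrank.symm⟩

variable [Fintype F] {r : ℕ} [Fact r.Prime]

/-- Semisimple elements of odd order with smallest rest space are not Kronecker products. -/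
theorem not_kron_odd (h2 : (2 : F) ≠ 0) (hr : Odd r) (hrF : (r : F) ≠ 0) (ha : 2 ≤ a) (hb : 3 ≤ b)
    {A G₁ : Matrix (Fin a) (Fin a) F} {B G₂ : Matrix (Fin b) (Fin b) F} (hA : IsUnit A.det) (hB : IsUnit B.det)
    (hG₁ : G₁.det ≠ 0) (hG₂ : G₂.det ≠ 0) (hM : (A ⊗ₖ B) ^ r = 1)
    (hform : (A ⊗ₖ B)ᵀ * (G₁ ⊗ₖ G₂) * (A ⊗ₖ B) = G₁ ⊗ₖ G₂)
    (hi : 0 < orderOf (Nat.card F : ZMod r))
    (hrank : (A ⊗ₖ B - 1).rank = Nat.lcm 2 (orderOf (Nat.card F : ZMod r))) : False := by
  classical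
  haveI : Nonempty (Fin a) := ⟨⟨0, by omega⟩⟩
  set c := Nat.lcm 2 (orderOf (Nat.card F : ZMod r)) with hcdef
  have hc0 : 0 < c := Nat.lcm_pos two_pos hi
  by_cases hAs : ∀ s : F, A ≠ s • 1
  swap
  · push Not at hAs
    obtain ⟨s, rfl⟩ := hAs
    have e : (s • (1 : Matrix (Fin a) (Fin a) F)) ⊗ₖ B = (1 : Matrix (Fin a) (Fin a) F) ⊗ₖ (s • B) := by
      rw [Matrix.smul_kronecker, Matrix.kronecker_smul]
    rw [e] at hM hform hrank
    rw [kron_pow, one_pow, ← Matrix.one_kronecker_one] at hM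
    have hBr : (s • B) ^ r = 1 := one_kron_injective (by omega) hM
    rw [kron_transpose_mul, Matrix.transpose_one, one_mul, mul_one] at hform
    obtain ⟨μ, hμ, h1, h3⟩ := kron_cancel (by omega) (by omega) hG₁ hG₂ hform
    have hμ1 : μ = 1 := by
      by_contra h
      refine hG₁ ?_
      rw [(smul_eq_zero.1 (show (μ - 1) • G₁ = 0 by rw [sub_smul, one_smul, ← h1, sub_self])).resolve_left
        (sub_ne_zero.2 h), Matrix.det_zero]
    rw [hμ1, inv_one, one_smul] at h3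
    have hd := rank_dvd h2 hr hrF hBr h3 hG₂
    have hr' : ((1 : Matrix (Fin a) (Fin a) F) ⊗ₖ (s • B) - 1).rank = a * (s • B - 1).rank := by
      rw [show (1 : Matrix (Fin a × Fin b) (Fin a × Fin b) F) = (1 : Matrix (Fin a) (Fin a) F) ⊗ₖ 1 from
        Matrix.one_kronecker_one.symm]
      rw [show (1 : Matrix (Fin a) (Fin a) F) ⊗ₖ (s • B) - (1 : Matrix (Fin a) (Fin a) F) ⊗ₖ 1 =
        (1 : Matrix (Fin a) (Fin a) F) ⊗ₖ (s • B - 1) from
          Matrix.ext fun p p' => by simp only [Matrix.kronecker, Matrix.kroneckerMap_apply, Matrix.sub_apply, mul_sub],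
        TensorDerange.rank_one_kron]
    rw [hr'] at hrank
    rcases Nat.eq_zero_or_pos ((s • B - 1).rank) with h0 | h0
    · rw [h0, mul_zero] at hrank
      omega
    · have h5 := Nat.le_of_dvd h0 hd
      have h6 : 2 * (s • B - 1).rank ≤ a * (s • B - 1).rank := Nat.mul_le_mul_right _ ha
      omega
  by_cases hBs : ∀ s : F, B ≠ s • 1
  swap
  · push Not at hBs
    obtain ⟨s, rfl⟩ := hBs
    have e : A ⊗ₖ (s • (1 : Matrix (Fin b) (Fin b) F)) = (s • A) ⊗ₖ (1 : Matrix (Fin b) (Fin b) F) := by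
      rw [Matrix.smul_kronecker, Matrix.kronecker_smul]
    rw [e] at hM hform hrank
    rw [kron_pow, one_pow, ← Matrix.one_kronecker_one] at hM
    have hAr : (s • A) ^ r = 1 := CfsgLib.Geo.Asch.kron_one_injective (by omega) hM
    rw [kron_transpose_mul, Matrix.transpose_one, one_mul, mul_one] at hform
    obtain ⟨μ, hμ, h1, h3⟩ := kron_cancel (by omega) (by omega) hG₁ hG₂ hform
    haveI : Nonempty (Fin b) := ⟨⟨0, by omega⟩⟩
    have hμ1 : μ⁻¹ = 1 := by
      by_contra h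
      refine hG₂ ?_
      rw [(smul_eq_zero.1 (show (μ⁻¹ - 1) • G₂ = 0 by rw [sub_smul, one_smul, ← h3, sub_self])).resolve_left
        (sub_ne_zero.2 h), Matrix.det_zero]
    rw [inv_eq_one.1 hμ1, one_smul] at h1
    have hd := rank_dvd h2 hr hrF hAr h1 hG₁
    have hr' : ((s • A) ⊗ₖ (1 : Matrix (Fin b) (Fin b) F) - 1).rank = b * (s • A - 1).rank := by
      rw [show (1 : Matrix (Fin a × Fin b) (Fin a × Fin b) F) = (1 : Matrix (Fin a) (Fin a) F) ⊗ₖ 1 from
        Matrix.one_kronecker_one.symm]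
      rw [show (s • A) ⊗ₖ (1 : Matrix (Fin b) (Fin b) F) - (1 : Matrix (Fin a) (Fin a) F) ⊗ₖ 1 =
        (s • A - 1) ⊗ₖ (1 : Matrix (Fin b) (Fin b) F) from
          Matrix.ext fun p p' => by simp only [Matrix.kronecker, Matrix.kroneckerMap_apply, Matrix.sub_apply, sub_mul],
        TensorDerange.rank_kron_one]
    rw [hr'] at hrank
    rcases Nat.eq_zero_or_pos ((s • A - 1).rank) with h0 | h0
    · rw [h0, mul_zero] at hrank
      omega
    · have h5 := Nat.le_of_dvd h0 hd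
      have h6 : 2 * (s • A - 1).rank ≤ b * (s • A - 1).rank := Nat.mul_le_mul_right _ (by omega)
      omega
  -- both factors non-scalar
  have hb' := TensorDerange.rank_ge_of_left hAs hB 1
  rw [one_smul, hrank] at hb'
  have ha' := rank_ge_of_right hA hBs
  rw [hrank] at ha'
  have hr1 : ¬ r ∣ Fintype.card F - 1 := fun h => by
    have h1 : (Nat.card F : ZMod r) = 1 := by
      rw [Nat.card_eq_fintype_card, ← sub_eq_zero, ← Nat.cast_one, ← Nat.cast_sub Fintype.card_pos,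
        ZMod.natCast_eq_zero_iff]
      exact h
    have h3 : c = 2 := by rw [hcdef, h1, orderOf_one]; rfl
    omega
  have hroot : ∀ s : F, s ^ r = 1 → s = 1 := fun s hs => by
    have hs0 : s ≠ 0 := fun h => by rw [h, zero_pow (Fact.out : r.Prime).ne_zero] at hs; exact zero_ne_one hs
    have h1 : orderOf s ∣ Nat.gcd r (Fintype.card F - 1) := Nat.dvd_gcd (orderOf_dvd_of_pow_eq_one hs)
      (orderOf_dvd_of_pow_eq_one (FiniteField.pow_card_sub_one_eq_one s hs0))
    rw [Nat.Coprime.gcd_eq_one (((Fact.out : r.Prime).coprime_iff_not_dvd).2 hr1), Nat.dvd_one,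
      orderOf_eq_one_iff] at h1
    exact h1
  rw [kron_pow] at hM
  obtain ⟨α, hα⟩ := TensorDerange.eq_scalar_of_kron_eq_one (by omega) hM
  have hα0 : α ≠ 0 := fun h => by
    have := congrArg Matrix.det hα
    rw [h, zero_smul, Matrix.det_zero, Matrix.det_pow] at this
    exact pow_ne_zero r hA.ne_zero this
  obtain ⟨δ, hδ⟩ := exists_rth_root hr1 α hα0
  have hδ0 : δ ≠ 0 := fun h => hα0 (by rw [← hδ, h, zero_pow (Fact.out : r.Prime).ne_zero])
  have hA' : (δ⁻¹ • A) ^ r = 1 := by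
    rw [smul_pow, hα, smul_smul, inv_pow, hδ, inv_mul_cancel₀ hα0, one_smul]
  have hB' : (δ • B) ^ r = 1 := one_kron_injective (a := a) (by omega) (by
    show (1 : Matrix (Fin a) (Fin a) F) ⊗ₖ ((δ • B) ^ r) = (1 : Matrix (Fin a) (Fin a) F) ⊗ₖ 1
    rw [Matrix.one_kronecker_one, ← hM, hα, smul_pow, hδ, Matrix.smul_kronecker, Matrix.kronecker_smul])
  have e : A ⊗ₖ B = (δ⁻¹ • A) ⊗ₖ (δ • B) := by
    rw [Matrix.smul_kronecker, Matrix.kronecker_smul, smul_smul, inv_mul_cancel₀ hδ0, one_smul]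
  rw [e, kron_transpose_mul] at hform
  obtain ⟨μ, hμ, h1, h3⟩ := kron_cancel (by omega) (by omega) hG₁ hG₂ hform
  have hμ1 : μ = 1 := by
    refine hroot μ ?_
    have hk : ∀ k : ℕ, ((δ⁻¹ • A) ^ k)ᵀ * G₁ * (δ⁻¹ • A) ^ k = μ ^ k • G₁ := fun k => by
      induction k with
      | zero => simp
      | succ k ih =>
        rw [pow_succ, Matrix.transpose_mul, show (δ⁻¹ • A)ᵀ * ((δ⁻¹ • A) ^ k)ᵀ * G₁ * ((δ⁻¹ • A) ^ k * (δ⁻¹ • A)) =
          (δ⁻¹ • A)ᵀ * (((δ⁻¹ • A) ^ k)ᵀ * G₁ * (δ⁻¹ • A) ^ k) * (δ⁻¹ • A) by simp only [mul_assoc], ih,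
          mul_smul_comm (μ ^ k), smul_mul_assoc (μ ^ k), h1, smul_smul, pow_succ]
    have h4 := hk r
    rw [hA', Matrix.transpose_one, one_mul, mul_one] at h4
    by_contra h
    refine hG₁ ?_
    rw [(smul_eq_zero.1 (show (μ ^ r - 1) • G₁ = 0 by rw [sub_smul, one_smul, ← h4, sub_self])).resolve_left
      (sub_ne_zero.2 h), Matrix.det_zero]
  rw [hμ1, one_smul] at h1
  rw [hμ1, inv_one, one_smul] at h3
  have hda := rank_dvd h2 hr hrF hA' h1 hG₁
  have hdb := rank_dvd h2 hr hrF hB' h3 hG₂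
  have hwa : 0 < (δ⁻¹ • A - 1).rank := Nat.pos_of_ne_zero fun h0 => by
    rw [Matrix.rank, Submodule.finrank_eq_zero, LinearMap.range_eq_bot] at h0
    refine hAs δ ?_
    rw [← smul_inv_smul₀ hδ0 A, show δ⁻¹ • A = 1 from sub_eq_zero.1 (Matrix.toLin'.injective (by
      rw [map_zero]; exact h0))]
  have hwb : 0 < (δ • B - 1).rank := Nat.pos_of_ne_zero fun h0 => by
    rw [Matrix.rank, Submodule.finrank_eq_zero, LinearMap.range_eq_bot] at h0
    refine hBs δ⁻¹ ?_
    rw [← inv_smul_smul₀ hδ0 B, show δ • B = 1 from sub_eq_zero.1 (Matrix.toLin'.injective (by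
      rw [map_zero]; exact h0))]
  have h5 := Nat.le_of_dvd hwa hda
  have h6 := Nat.le_of_dvd hwb hdb
  have h7 := Matrix.rank_le_card_width (δ⁻¹ • A - 1)
  have h8 := Matrix.rank_le_card_width (δ • B - 1)
  rw [Fintype.card_fin] at h7 h8
  have hceven : 2 ∣ c := Nat.dvd_lcm_left 2 _
  have hfree : ∀ (s : F) v, A *ᵥ v = s • v → v = 0 := fun s v hv => by
    have hfull : LinearMap.ker (δ⁻¹ • A - 1).mulVecLin = ⊥ := by
      have h9 := LinearMap.finrank_range_add_finrank_ker (δ⁻¹ • A - 1).mulVecLin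
      rw [Module.finrank_fin_fun] at h9
      have h10 : (δ⁻¹ • A - 1).rank = a := by omega
      rw [Matrix.rank] at h10
      exact Submodule.finrank_eq_zero.1 (by omega)
    by_contra hv0
    have hk : ∀ k : ℕ, (δ⁻¹ • A) ^ k *ᵥ v = (δ⁻¹ * s) ^ k • v := fun k => by
      induction k with
      | zero => simp
      | succ k ih =>
        rw [pow_succ', ← Matrix.mulVec_mulVec, ih, Matrix.mulVec_smul, Matrix.smul_mulVec, hv, smul_smul, smul_smul,
          pow_succ']
        congr 1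
        ring
    have h9 := hk r
    rw [hA', Matrix.one_mulVec] at h9
    have h10 : δ⁻¹ * s = 1 := hroot _ (smul_left_injective F hv0 (h9.symm.trans (one_smul F v).symm))
    refine hv0 ((Submodule.eq_bot_iff _).1 hfull v ?_)
    rw [LinearMap.mem_ker, Matrix.mulVecLin_apply, Matrix.sub_mulVec, Matrix.one_mulVec, Matrix.smul_mulVec, hv,
      smul_smul, h10, one_smul, sub_self]
  have h11 := two_mul_le_rank (B := B) (by omega) hfree hB
  omega

end Kron

/-! ### Coordinates -/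

section Coord

variable {d a b : ℕ} (e : (Fin d ⊕ Fin d) ≃ Fin a × Fin b) (P : GL (Fin d ⊕ Fin d) F)
variable (f₁ : (Fin a → F) → (Fin a → F) → F) (f₂ : (Fin b → F) → (Fin b → F) → F)

theorem formOfGram_id {κ : Type} [Fintype κ] [DecidableEq κ] (G : Matrix κ κ F) (x y : κ → F) :
    Cfsg.Geo.formOfGram id G x y = Matrix.toBilin' G x y := by
  rw [Matrix.toBilin'_apply]
  rfl

theorem coord_mulVec (X : Matrix (Fin d ⊕ Fin d) (Fin d ⊕ Fin d) F) (x : Fin a × Fin b → F) :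
    (P : Matrix (Fin d ⊕ Fin d) (Fin d ⊕ Fin d) F) *ᵥ ((coord e P X *ᵥ x) ∘ e) =
      X *ᵥ ((P : Matrix (Fin d ⊕ Fin d) (Fin d ⊕ Fin d) F) *ᵥ (x ∘ e)) := by
  rw [coord, Matrix.submatrix_mulVec_equiv, Function.comp_assoc, Equiv.symm_comp_self, Function.comp_id,
    Equiv.symm_symm, Matrix.mulVec_mulVec, ← mul_assoc, ← mul_assoc, ← Units.val_mul, mul_inv_cancel, Units.val_one,
    one_mul, Matrix.mulVec_mulVec]

theorem sp_iff (hS : Cfsg.Geo.IsTensorFormStructure id (Cfsg.sympForm d F) f₁ f₂ e P) (x : GL (Fin d ⊕ Fin d) F) :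
    x ∈ Cfsg.spGL d F ↔ (coord e P (x : Matrix (Fin d ⊕ Fin d) (Fin d ⊕ Fin d) F))ᵀ *
      (Cfsg.Geo.gramMatrix f₁ ⊗ₖ Cfsg.Geo.gramMatrix f₂) * coord e P (x : Matrix (Fin d ⊕ Fin d) (Fin d ⊕ Fin d) F) =
        Cfsg.Geo.gramMatrix f₁ ⊗ₖ Cfsg.Geo.gramMatrix f₂ := by
  obtain ⟨c, hc, hS⟩ := hS
  set G := Cfsg.Geo.gramMatrix f₁ ⊗ₖ Cfsg.Geo.gramMatrix f₂
  set M := coord e P (x : Matrix (Fin d ⊕ Fin d) (Fin d ⊕ Fin d) F)
  have hG : ∀ u v, c * Matrix.toBilin' G u v =
      sympBil d F ((P : Matrix (Fin d ⊕ Fin d) (Fin d ⊕ Fin d) F) *ᵥ (u ∘ e))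
        ((P : Matrix (Fin d ⊕ Fin d) (Fin d ⊕ Fin d) F) *ᵥ (v ∘ e)) := fun u v => by
    rw [sympBil_apply, hS, formOfGram_id]
  rw [mem_sp_iff]
  constructor
  · intro h
    refine Matrix.toBilin'.injective (LinearMap.ext₂ fun u v => ?_)
    rw [← Matrix.toBilin'_comp, LinearMap.BilinForm.comp_apply, Matrix.toLin'_apply, Matrix.toLin'_apply]
    refine mul_left_cancel₀ hc ?_
    rw [hG, hG, coord_mulVec, coord_mulVec, ← toEnd_apply x, ← toEnd_apply x, h]
  · intro h u v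
    obtain ⟨u, rfl⟩ : ∃ w : Fin a × Fin b → F, (P : Matrix (Fin d ⊕ Fin d) (Fin d ⊕ Fin d) F) *ᵥ (w ∘ e) = u :=
      ⟨((P⁻¹ : GL (Fin d ⊕ Fin d) F).val *ᵥ u) ∘ e.symm, by
        rw [Function.comp_assoc, Equiv.symm_comp_self, Function.comp_id, Matrix.mulVec_mulVec, ← Units.val_mul,
          mul_inv_cancel, Units.val_one, Matrix.one_mulVec]⟩
    obtain ⟨v, rfl⟩ : ∃ w : Fin a × Fin b → F, (P : Matrix (Fin d ⊕ Fin d) (Fin d ⊕ Fin d) F) *ᵥ (w ∘ e) = v :=
      ⟨((P⁻¹ : GL (Fin d ⊕ Fin d) F).val *ᵥ v) ∘ e.symm, by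
        rw [Function.comp_assoc, Equiv.symm_comp_self, Function.comp_id, Matrix.mulVec_mulVec, ← Units.val_mul,
          mul_inv_cancel, Units.val_one, Matrix.one_mulVec]⟩
    rw [toEnd_apply, toEnd_apply, ← coord_mulVec, ← coord_mulVec, ← hG, ← hG, ← Matrix.toLin'_apply,
      ← Matrix.toLin'_apply, ← LinearMap.BilinForm.comp_apply, Matrix.toBilin'_comp, h]

theorem gram_det_ne_zero {n : ℕ} {f : (Fin n → F) → (Fin n → F) → F} (hf : Cfsg.Geo.IsBilinearForm f)
    (hn : Cfsg.Geo.IsNondegenerateForm f) : (Cfsg.Geo.gramMatrix f).det ≠ 0 := by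
  classical
  let β : BilinForm F (Fin n → F) := LinearMap.mk₂ F f hf.add_left (fun c x v => hf.smul_left c x v)
    (fun v x y => hf.add_right v x y) (fun c v x => hf.smul_right c v x)
  have hg : Cfsg.Geo.gramMatrix f = LinearMap.BilinForm.toMatrix' β :=
    Matrix.ext fun i j => (LinearMap.BilinForm.toMatrix'_apply β i j).symm
  rw [hg, ← Matrix.nondegenerate_iff_det_ne_zero, ← Matrix.nondegenerate_toBilin'_iff, Matrix.toBilin'_toMatrix']
  exact LinearMap.BilinForm.Nondegenerate.ofSeparatingLeft fun u hu => by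
    by_contra h
    obtain ⟨-, x, hx⟩ := hn u h
    exact hx (hu x)

theorem rank_sub_one [Finite F] {x : GL (Fin d ⊕ Fin d) F} :
    ((x : Matrix (Fin d ⊕ Fin d) (Fin d ⊕ Fin d) F) - 1).rank + finrank F (fixSp (toEnd x)) = 2 * d := by
  have h := LinearMap.finrank_range_add_finrank_ker ((x : Matrix (Fin d ⊕ Fin d) (Fin d ⊕ Fin d) F) - 1).mulVecLin
  rw [Module.finrank_pi, Fintype.card_sum, Fintype.card_fin] at h
  have hk : LinearMap.ker ((x : Matrix (Fin d ⊕ Fin d) (Fin d ⊕ Fin d) F) - 1).mulVecLin = fixSp (toEnd x) := by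
    ext v
    rw [LinearMap.mem_ker, Matrix.mulVecLin_apply, Matrix.sub_mulVec, Matrix.one_mulVec, sub_eq_zero, mem_fixSp,
      toEnd_apply]
  rw [hk] at h
  rw [Matrix.rank]
  omega

variable [Fintype F]

theorem rank_coord_sub_one (g x : GL (Fin d ⊕ Fin d) F) :
    (coord e P ((g⁻¹ * x * g : GL (Fin d ⊕ Fin d) F) : Matrix (Fin d ⊕ Fin d) (Fin d ⊕ Fin d) F) - 1).rank =
      ((x : Matrix (Fin d ⊕ Fin d) (Fin d ⊕ Fin d) F) - 1).rank := by
  have h := TensorDerange.rank_conj g (x : Matrix (Fin d ⊕ Fin d) (Fin d ⊕ Fin d) F) 1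
  rw [one_smul, ← Units.val_mul, ← Units.val_mul] at h
  rw [← h, ← TensorDerange.rank_coord e P]
  congr 1
  rw [← coord_one e P]
  ext i j
  simp [coord, Matrix.mul_sub, Matrix.sub_mul, Matrix.one_apply]

theorem exists_derangement {p : ℕ} [Fact p.Prime] [CharP F p] (h2 : (2 : F) ≠ 0) (hd : 2 ≤ d) (ha : Even a)
    (ha2 : 2 ≤ a) (hb : 3 ≤ b) (hf₁ : Cfsg.Geo.IsSymplecticForm f₁) (hf₂ : Cfsg.Geo.IsSymmetricForm f₂)
    (hS : Cfsg.Geo.IsTensorFormStructure id (Cfsg.sympForm d F) f₁ f₂ e P) {r : ℕ} [Fact r.Prime]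
    (hr : r ∣ Nat.card (Cfsg.spGL d F)) (hnot : ¬ (r = 2 ∧ a = 2)) :
    ∃ x ∈ Cfsg.spGL d F, x ^ r = 1 ∧ (∀ z : F, (x : Matrix (Fin d ⊕ Fin d) (Fin d ⊕ Fin d) F) ≠ z • 1) ∧
      ∀ g ∈ Cfsg.spGL d F, g⁻¹ * x * g ∉ Cfsg.Geo.tensorProductSubgroup a b e P := by
  classical
  set G₁ := Cfsg.Geo.gramMatrix f₁
  set G₂ := Cfsg.Geo.gramMatrix f₂
  have hG₁ : G₁.det ≠ 0 := gram_det_ne_zero hf₁.bilinear hf₁.nondegenerate
  have hG₂ : G₂.det ≠ 0 := gram_det_ne_zero hf₂.bilinear hf₂.nondegenerate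
  by_cases hrp : r = p
  · subst hrp
    obtain ⟨x, v, hx, hv, hxv, hxp⟩ := exists_transvection (F := F) (show 0 < d by omega)
    have hne : x ≠ 1 := fun h => by
      refine hv (sp_nondeg v fun w => ?_)
      have h' := hxv w
      rw [h, toEnd_one, Module.End.one_apply, left_eq_add, smul_eq_zero] at h'
      rw [← LinearMap.IsAlt.neg (CfsgLib.Classical.Symp.sympBil_isAlt d F), h'.resolve_right hv, neg_zero]
    have hrank : ((x : Matrix (Fin d ⊕ Fin d) (Fin d ⊕ Fin d) F) - 1).rank = 1 := by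
      refine le_antisymm ?_ (Nat.pos_of_ne_zero fun h0 => ?_)
      · rw [Matrix.rank]
        refine (Submodule.finrank_mono ?_).trans_eq (finrank_span_singleton hv)
        rintro _ ⟨w, rfl⟩
        rw [Matrix.mulVecLin_apply, Matrix.sub_mulVec, Matrix.one_mulVec, ← toEnd_apply, hxv, add_sub_cancel_left]
        exact Submodule.smul_mem _ _ (Submodule.mem_span_singleton_self v)
      · rw [Matrix.rank, Submodule.finrank_eq_zero, LinearMap.range_eq_bot] at h0
        exact hne (Units.ext (sub_eq_zero.1 (Matrix.toLin'.injective (by rw [map_zero]; exact h0))))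
    refine ⟨x, hx, hxp r, fun z hz => ?_, fun g hg hy => ?_⟩
    · have h1 : ∀ w, toEnd x w = z • w := fun w => by
        rw [toEnd_apply, hz, Matrix.smul_mulVec, Matrix.one_mulVec]
      have hz1 : z • v = v := by rw [← h1, hxv, CfsgLib.Classical.Symp.sympBil_isAlt d F v, zero_smul, add_zero]
      exact hne (Units.ext (by rw [hz, smul_left_injective F hv (hz1.trans (one_smul F v).symm), one_smul]; rfl))
    · obtain ⟨A, B, hAB⟩ := (mem_tensorProductSubgroup_iff e P _).1 hy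
      have h := rank_coord_sub_one e P g x
      rw [hAB, hrank] at h
      exact not_kron_small (by omega) (by omega) ((Matrix.isUnit_iff_isUnit_det _).1 B.isUnit) one_pos (by omega)
        (fun h => by have := Nat.le_of_dvd one_pos h; omega) h
  have hrF : (r : F) ≠ 0 := fun h =>
    hrp ((Nat.prime_dvd_prime_iff_eq Fact.out Fact.out).1 ((CharP.cast_eq_zero_iff F p r).1 h)).symm
  obtain ⟨l, hl, hrl⟩ : ∃ l < d, r ∣ Fintype.card F ^ (2 * (l + 1)) - 1 := by
    rw [← Nat.card_congr (CfsgLib.Classical.Symp.symplecticEquivSpGL d F).toEquiv,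
      CfsgLib.Classical.Symp.card_symplecticGroup] at hr
    rcases (Fact.out : r.Prime).dvd_mul.1 hr with h | h
    · obtain ⟨n, -, hn⟩ := FiniteField.card F p
      rw [hn, ← pow_mul] at h
      exact absurd ((Nat.prime_dvd_prime_iff_eq Fact.out Fact.out).1 ((Fact.out : r.Prime).dvd_of_dvd_pow h)) hrp
    · obtain ⟨l, hl, h⟩ := ((Fact.out : r.Prime).prime.dvd_finset_prod_iff _).1 h
      exact ⟨l, Finset.mem_range.1 hl, h⟩
  obtain ⟨hi0, -, -, hcle⟩ := order_bound (d := d) hrl hl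
  obtain ⟨x, hx, hxr, hfix, hrest⟩ := exists_element (d := d) hrF hi0 hcle
  have hc0 : 0 < Nat.lcm 2 (orderOf (Nat.card F : ZMod r)) := Nat.lcm_pos two_pos hi0
  have hc2 : r = 2 → Nat.lcm 2 (orderOf (Nat.card F : ZMod r)) = 2 := by
    rintro rfl
    have h1 : ((Nat.card F : ℕ) : ZMod 2) = 1 := by
      have h0 : ((Nat.card F : ℕ) : ZMod 2) ≠ 0 := by
        intro h0
        rw [h0] at hi0
        rw [orderOf_zero] at hi0
        omega
      exact (by decide : ∀ z : Fin 2, z ≠ 0 → z = 1) _ h0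
    rw [h1, orderOf_one]
    rfl
  have hrank : ((x : Matrix (Fin d ⊕ Fin d) (Fin d ⊕ Fin d) F) - 1).rank =
      Nat.lcm 2 (orderOf (Nat.card F : ZMod r)) := by
    have := rank_sub_one (x := x)
    omega
  refine ⟨x, hx, hxr, fun z => ne_scalar_of_rest hrF (show 0 < d by omega) hx hxr (by omega) ?_ z,
    fun g hg hy => ?_⟩
  · by_cases h : r = 2
    · exact Or.inr (by rw [hrest, hc2 h]; omega)
    · exact Or.inl h
  obtain ⟨A, B, hAB⟩ := (mem_tensorProductSubgroup_iff e P _).1 hy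
  have h := rank_coord_sub_one e P g x
  rw [hAB, hrank] at h
  by_cases hr2 : r = 2
  · rw [hc2 hr2] at h
    refine not_kron_small (by omega) (by omega) ((Matrix.isUnit_iff_isUnit_det _).1 B.isUnit) two_pos (by omega) ?_ h
    intro hdvd
    exact hnot ⟨hr2, le_antisymm (Nat.le_of_dvd two_pos hdvd) ha2⟩
  · have hyr : (g⁻¹ * x * g) ^ r = 1 := by
      rw [show g⁻¹ * x * g = g⁻¹ * x * (g⁻¹)⁻¹ by rw [inv_inv], conj_pow, hxr, mul_one, mul_inv_cancel]
    have hM : ((A : Matrix (Fin a) (Fin a) F) ⊗ₖ (B : Matrix (Fin b) (Fin b) F)) ^ r = 1 := by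
      have hpow : ∀ (k : ℕ) (Y : GL (Fin d ⊕ Fin d) F),
          coord e P (Y : Matrix (Fin d ⊕ Fin d) (Fin d ⊕ Fin d) F) ^ k =
            coord e P ((Y ^ k : GL (Fin d ⊕ Fin d) F) : Matrix (Fin d ⊕ Fin d) (Fin d ⊕ Fin d) F) := fun k Y => by
        induction k with
        | zero => rw [pow_zero, pow_zero, Units.val_one, coord_one]
        | succ k ih => rw [pow_succ, ih, pow_succ, Units.val_mul, coord_mul]
      rw [← hAB, hpow, hyr, Units.val_one, coord_one]
    have hform := (sp_iff e P f₁ f₂ hS _).1 (mul_mem (mul_mem (inv_mem hg) hx) hg)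
    rw [hAB] at hform
    exact not_kron_odd h2 ((Fact.out : r.Prime).odd_of_ne_two hr2) hrF ha2 hb
      ((Matrix.isUnit_iff_isUnit_det _).1 A.isUnit) ((Matrix.isUnit_iff_isUnit_det _).1 B.isUnit)
      hG₁ hG₂ hM hform hi0 h

end Coord

end CfsgLib.Geo.SympTensor
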