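/-
Elements of prime order of the special linear group preserving no quadratic form up to a scalar.
-/
import Cfsg.Agent.Lib.Geo.FormDerangeCommon
import Cfsg.Agent.Lib.Geo.SympTensorDerange
import Cfsg.Agent.Lib.Geo.InvolutionSubfield
import Cfsg.Agent.Lib.Known.QuadClassify
import Cfsg.Agent.Lib.Classical.Quad.Sym
import Cfsg.Agent.Lib.Classical.Quad.StandardForms

set_option autoImplicit false

namespace CfsgLib.Geo.OrthFormDer

open Matrix Module CfsgLib.Geo.PrimeAct CfsgLib.Geo.PrimeSp CfsgLib.Geo.FormDer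
open QuadraticMap (polar polarBilin)
open CfsgLib.Classical.Quad (OQ mem_OQ)

variable {F : Type*} [Field F] {n : ℕ}

/-- The quadratic form of the definition. -/
theorem exists_quad {Q : (Fin n → F) → F} (hQ : Cfsg.Geo.IsNondegenerateQuadraticForm Q) :
    ∃ Qf : QuadraticForm F (Fin n → F), (∀ v, Qf v = Q v) ∧ (polarBilin Qf).Nondegenerate := by
  let Qf : QuadraticForm F (Fin n → F) := QuadraticMap.ofPolar Q
    (fun a x => by rw [hQ.smul, smul_eq_mul, pow_two])
    (fun x x' y => hQ.polar_bilinear.add_left x x' y)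
    (fun a x y => by rw [hQ.polar_bilinear.smul_left, smul_eq_mul])
  refine ⟨Qf, fun v => rfl, fun x hx => ?_, fun y hy => ?_⟩
  · by_contra h
    obtain ⟨-, z, hz⟩ := hQ.nondegenerate x h
    exact hz (hx z)
  · by_contra h
    obtain ⟨⟨z, hz⟩, -⟩ := hQ.nondegenerate y h
    exact hz (hy z)

variable {Q : (Fin n → F) → F} (Qf : QuadraticForm F (Fin n → F))

theorem sim_of_mem (hQf : ∀ v, Qf v = Q v) {y : GL (Fin n) F} (hy : y ∈ Cfsg.Geo.quadSimilarityGroup Q) :
    ∃ c : F, c ≠ 0 ∧ (∀ v, Qf (toEnd y v) = c * Qf v) ∧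
      ∀ u v, polarBilin Qf (toEnd y u) (toEnd y v) = c * polarBilin Qf u v := by
  obtain ⟨c, hc⟩ := hy
  have h : ∀ v, Qf (toEnd y v) = c * Qf v := fun v => by rw [hQf, hQf, toEnd_apply, hc]
  refine ⟨c, c.ne_zero, h, fun u v => ?_⟩
  show polar Qf (toEnd y u) (toEnd y v) = c * polar Qf u v
  simp only [QuadraticMap.polar, ← map_add, h]
  ring

theorem mem_of_sim (hQf : ∀ v, Qf v = Q v) {y : GL (Fin n) F} {c : F} (hc : c ≠ 0)
    (h : ∀ v, Qf (toEnd y v) = c * Qf v) : y ∈ Cfsg.Geo.quadSimilarityGroup Q :=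
  ⟨Units.mk0 c hc, fun v => by rw [Units.val_mk0, ← hQf, ← hQf, ← toEnd_apply, h]⟩

/-- Diagonal derangements. -/
theorem diag_derangement (hQf : ∀ v, Qf v = Q v) (hQn : (polarBilin Qf).Nondegenerate) {d : Fin n → F}
    (hd : ∀ i, d i ≠ 0) (hsym : ¬ Symmetric' d) {x : GL (Fin n) F}
    (hx : (x : Matrix (Fin n) (Fin n) F) = Matrix.diagonal d) (g : GL (Fin n) F) :
    g⁻¹ * x * g ∉ Cfsg.Geo.quadSimilarityGroup Q := by
  intro hy
  obtain ⟨c, hc, -, hp⟩ := sim_of_mem Qf hQf hy
  obtain ⟨e, he⟩ := exists_eigenbasis hx g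
  refine hsym ⟨c, hc, fun a ha => mult_pair (M := LinearMap.BilinForm.toMatrix e (polarBilin Qf))
    ((LinearMap.BilinForm.nondegenerate_iff_det_ne_zero e).1 hQn) (fun i j hij => ?_) hd ha hc⟩
  rw [LinearMap.BilinForm.toMatrix_apply] at hij
  have h := hp (e i) (e j)
  rw [he, he, map_smul, map_smul, LinearMap.smul_apply, smul_eq_mul, smul_eq_mul, ← mul_assoc] at h
  rw [mul_comm (d i)]
  exact mul_right_cancel₀ hij h

/-- Transvections. -/
theorem transvection_derangement [Finite F] (h2 : (2 : F) ≠ 0) (hn : 3 ≤ n) (hQf : ∀ v, Qf v = Q v)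
    (hQn : (polarBilin Qf).Nondegenerate) {p : ℕ} [Fact p.Prime] [CharP F p] :
    ∃ x ∈ Cfsg.Geo.specialLinear (Fin n) F, x ^ p = 1 ∧ (∀ z : F, (x : Matrix (Fin n) (Fin n) F) ≠ z • 1) ∧
      ∀ g : GL (Fin n) F, g⁻¹ * x * g ∉ Cfsg.Geo.quadSimilarityGroup Q := by
  classical
  let i₀ : Fin n := ⟨0, by omega⟩
  let i₁ : Fin n := ⟨1, by omega⟩
  have h01 : i₀ ≠ i₁ := by simp [i₀, i₁, Fin.ext_iff]
  let x : GL (Fin n) F := Matrix.GeneralLinearGroup.mkOfDetNeZero (Matrix.transvection i₀ i₁ (1 : F))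
    (by rw [Matrix.det_transvection_of_ne _ _ h01]; exact one_ne_zero)
  let a : Fin n → F := Pi.single i₀ 1
  have ha : a ≠ 0 := by simp [a]
  have hxv : ∀ v, toEnd x v = v + v i₁ • a := fun v => by
    rw [toEnd_apply, show (x : Matrix (Fin n) (Fin n) F) = 1 + Matrix.single i₀ i₁ 1 from rfl, Matrix.add_mulVec,
      Matrix.one_mulVec]
    congr 1
    funext k
    simp [a, Matrix.single_mulVec, Pi.single_apply, Function.update]
  have hxk : ∀ (k : ℕ) v, (toEnd x ^ k) v = v + ((k : F) * v i₁) • a := fun k => by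
    induction k with
    | zero => intro v; simp
    | succ k ih =>
      intro v
      rw [pow_succ', Module.End.mul_apply, ih, hxv]
      have : (v + ((k : F) * v i₁) • a) i₁ = v i₁ := by simp [a, h01.symm]
      rw [this, add_assoc, ← add_smul, Nat.cast_succ]
      congr 2
      ring
  refine ⟨x, mem_SL_iff.2 (Matrix.det_transvection_of_ne _ _ h01 _), ?_, fun z hz => ?_, fun g hy => ?_⟩
  · rw [← toEnd_eq_one_iff, toEnd_pow]
    exact LinearMap.ext fun v => by rw [hxk]; simp
  · have := congrFun (congrFun hz i₀) i₁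
    simp [x, Matrix.GeneralLinearGroup.mkOfDetNeZero, Matrix.transvection, h01, Matrix.one_apply] at this
  · obtain ⟨c, hc, hq, hp⟩ := sim_of_mem Qf hQf hy
    set y := g⁻¹ * x * g
    set b := toEnd g⁻¹ a
    have hgg : ∀ v, toEnd g⁻¹ (toEnd g v) = v := fun v => by simp [Matrix.mulVec_mulVec]
    have hgg' : ∀ v, toEnd g (toEnd g⁻¹ v) = v := fun v => by simp [Matrix.mulVec_mulVec]
    let φ : (Fin n → F) →ₗ[F] F := (LinearMap.proj i₁) ∘ₗ toEnd g
    have hφ : ∀ v, φ v = toEnd g v i₁ := fun v => rfl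
    have hy : ∀ v, toEnd y v = v + φ v • b := fun v => by rw [toEnd_conj, hxv, map_add, map_smul, hgg]; rfl
    have hb : b ≠ 0 := fun h => ha (by rw [← hgg' a, show toEnd g⁻¹ a = 0 from h, map_zero])
    have hφb : φ b = 0 := by rw [hφ, hgg']; simp [a, h01.symm]
    obtain ⟨w, hw⟩ : ∃ w, φ w = 1 := ⟨toEnd g⁻¹ (Pi.single i₁ 1), by rw [hφ, hgg']; simp⟩
    have hc1 : c = 1 := by
      by_contra hne
      have hz : ∀ u v, φ u = 0 → φ v = 0 → polarBilin Qf u v = 0 := fun u v hu hv => by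
        have h := hp u v
        rw [hy, hy, hu, hv, zero_smul, add_zero, add_zero] at h
        have : (c - 1) * polarBilin Qf u v = 0 := by linear_combination -h
        exact (mul_eq_zero.1 this).resolve_left (sub_ne_zero.2 hne)
      -- the kernel of `φ` is then totally singular, which is too big
      obtain ⟨u, hu0, huw⟩ : ∃ u, u ≠ 0 ∧ φ u = 0 ∧ polarBilin Qf u w = 0 := by
        have hk := LinearMap.finrank_range_add_finrank_ker (φ.prod ((polarBilin Qf).flip w))
        rw [Module.finrank_fin_fun] at hk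
        have hr := Submodule.finrank_le (LinearMap.range (φ.prod ((polarBilin Qf).flip w)))
        rw [Module.finrank_prod, finrank_self] at hr
        obtain ⟨⟨u, hu⟩, hu0⟩ := Module.finrank_pos_iff_exists_ne_zero.1
          (show 0 < finrank F (LinearMap.ker (φ.prod ((polarBilin Qf).flip w))) by omega)
        rw [LinearMap.mem_ker, LinearMap.prod_apply, Function.prod_apply, Prod.mk_eq_zero] at hu
        exact ⟨u, fun h => hu0 (Subtype.ext h), hu⟩
      refine hu0 (hQn.1 u fun v => ?_)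
      rw [show v = (v - φ v • w) + φ v • w by abel, map_add, map_smul, huw.2, smul_zero, add_zero]
      exact hz u _ huw.1 (by rw [map_sub, map_smul, hw, smul_eq_mul, mul_one, sub_self])
    subst hc1
    have key : ∀ v, φ v * polarBilin Qf v b + φ v * φ v * Qf b = 0 := fun v => by
      have h := hq v
      rw [hy, one_mul, QuadraticMap.map_add (⇑Qf), QuadraticMap.map_smul, QuadraticMap.polar_smul_right,
        smul_eq_mul, smul_eq_mul] at h
      show φ v * polar Qf v b + _ = 0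
      linear_combination h
    have hpol : ∀ v, φ v * polarBilin Qf w b + polarBilin Qf v b + 2 * φ v * Qf b = 0 := fun v => by
      have h1 := key (v + w)
      have h3 := key v
      have h4 := key w
      rw [map_add φ, hw, map_add, LinearMap.add_apply] at h1
      rw [hw] at h4
      linear_combination h1 - h3 - h4
    have hQb : Qf b = 0 := by
      have h := hpol b
      rw [hφb, zero_mul, zero_add, mul_zero, zero_mul, add_zero, QuadraticMap.polarBilin_apply_apply,
        QuadraticMap.polar_self, two_smul, ← two_mul] at h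
      exact (mul_eq_zero.1 h).resolve_left h2
    have hwb : polarBilin Qf w b = 0 := by
      have h := key w
      rw [hw, hQb] at h
      linear_combination h
    refine hb (hQn.2 b fun v => ?_)
    have h := hpol v
    rw [hQb, hwb] at h
    linear_combination h

variable [Fintype F] {r : ℕ} [Fact r.Prime]

/-- The multiplier of an element of order `r`. -/
theorem multiplier_one (hQn : (polarBilin Qf).Nondegenerate) (hn : 0 < n) (hr1 : ¬ r ∣ Fintype.card F - 1)
    {y : GL (Fin n) F} (hyr : y ^ r = 1) {c : F}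
    (hp : ∀ u v, polarBilin Qf (toEnd y u) (toEnd y v) = c * polarBilin Qf u v) : c = 1 := by
  obtain ⟨v, hv⟩ : ∃ v, polarBilin Qf (Pi.single ⟨0, hn⟩ 1) v ≠ 0 := by
    by_contra! h
    simpa using congrFun (hQn.1 _ h) ⟨0, hn⟩
  have hk : ∀ (k : ℕ) u v, polarBilin Qf ((toEnd y ^ k) u) ((toEnd y ^ k) v) = c ^ k * polarBilin Qf u v :=
    fun k => by
      induction k with
      | zero => intro u v; simp
      | succ k ih =>
        intro u v
        rw [pow_succ', Module.End.mul_apply, Module.End.mul_apply, hp, ih]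
        ring
  refine root_trivial hr1 (mul_right_cancel₀ hv ?_)
  rw [← hk, ← toEnd_pow, hyr, toEnd_one, one_mul, Module.End.one_apply, Module.End.one_apply]

theorem rest_conj {x g : GL (Fin n) F} (hxr : x ^ r = 1) (hrF : (r : F) ≠ 0) :
    (g⁻¹ * x * g) ^ r = 1 ∧ finrank F (restSp r (toEnd (g⁻¹ * x * g))) = finrank F (restSp r (toEnd x)) := by
  have hyr : (g⁻¹ * x * g) ^ r = 1 := by
    rw [show g⁻¹ * x * g = g⁻¹ * x * (g⁻¹)⁻¹ by rw [inv_inv], conj_pow, hxr, mul_one, mul_inv_cancel]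
  refine ⟨hyr, ?_⟩
  have h1 := finrank_rest hxr hrF
  have h3 := finrank_rest hyr hrF
  rw [finrank_fixSp_conj] at h3
  omega

/-- A free block of odd dimension. -/
theorem odd_block_derangement (h2 : (2 : F) ≠ 0) (hr : Odd r) (hrF : (r : F) ≠ 0) (hQf : ∀ v, Qf v = Q v)
    (hQn : (polarBilin Qf).Nondegenerate) (hr1 : ¬ r ∣ Fintype.card F - 1)
    (hi : Odd (orderOf (Nat.card F : ZMod r))) (hin : orderOf (Nat.card F : ZMod r) ≤ n) :
    ∃ x ∈ Cfsg.Geo.specialLinear (Fin n) F, x ^ r = 1 ∧ (∀ z : F, (x : Matrix (Fin n) (Fin n) F) ≠ z • 1) ∧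
      ∀ g : GL (Fin n) F, g⁻¹ * x * g ∉ Cfsg.Geo.quadSimilarityGroup Q := by
  obtain ⟨x, hx, hxr, hns, hrest⟩ := exists_block (n := n) hrF hr1 hi.pos one_pos (by rwa [one_mul])
  refine ⟨x, hx, hxr, hns, fun g hy => ?_⟩
  obtain ⟨hyr, hrk⟩ := rest_conj (g := g) hxr hrF
  obtain ⟨c, -, -, hp⟩ := sim_of_mem Qf hQf hy
  set y := g⁻¹ * x * g
  have hc := multiplier_one Qf hQn (by have := hi.pos; omega) hr1 hyr hp
  subst hc
  set G := LinearMap.BilinForm.toMatrix' (polarBilin Qf)
  have hG : G.det ≠ 0 := by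
    rw [← Matrix.nondegenerate_iff_det_ne_zero, ← Matrix.nondegenerate_toBilin'_iff, Matrix.toBilin'_toMatrix']
    exact hQn
  have hyG : (y : Matrix (Fin n) (Fin n) F)ᵀ * G * (y : Matrix (Fin n) (Fin n) F) = G := by
    refine Matrix.toBilin'.injective (LinearMap.ext₂ fun u v => ?_)
    rw [← Matrix.toBilin'_comp, Matrix.toBilin'_toMatrix', LinearMap.BilinForm.comp_apply]
    exact (hp u v).trans (one_mul _)
  have hyr' : (y : Matrix (Fin n) (Fin n) F) ^ r = 1 := by rw [← Units.val_pow_eq_pow_val, hyr, Units.val_one]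
  have hd := CfsgLib.Geo.SympTensor.rank_dvd h2 hr hrF hyr' hyG hG
  rw [← CfsgLib.Geo.SympTensor.rest_eq_rank hyr' hrF, show Matrix.toLin' (y : Matrix (Fin n) (Fin n) F) = toEnd y
    from rfl, hrk, hrest, one_mul] at hd
  exact Nat.not_even_iff_odd.2 hi (even_iff_two_dvd.2 ((Nat.dvd_lcm_left 2 _).trans hd))

/-- A fixed-point-free element acts freely on the singular vectors. -/
theorem zeros_derangement (hrF : (r : F) ≠ 0) (hQf : ∀ v, Qf v = Q v) (hQn : (polarBilin Qf).Nondegenerate)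
    (hn : 0 < n) (hr1 : ¬ r ∣ Fintype.card F - 1) (hi : 0 < orderOf (Nat.card F : ZMod r))
    (hin : orderOf (Nat.card F : ZMod r) ∣ n) (hcount : ¬ r ∣ Nat.card {v // Qf v = 0} - 1) :
    ∃ x ∈ Cfsg.Geo.specialLinear (Fin n) F, x ^ r = 1 ∧ (∀ z : F, (x : Matrix (Fin n) (Fin n) F) ≠ z • 1) ∧
      ∀ g : GL (Fin n) F, g⁻¹ * x * g ∉ Cfsg.Geo.quadSimilarityGroup Q := by
  classical
  obtain ⟨k, hk⟩ := hin
  have hk0 : 0 < k := Nat.pos_of_ne_zero fun h => by rw [h, mul_zero] at hk; omega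
  obtain ⟨x, hx, hxr, hns, hrest⟩ := exists_block (n := n) hrF hr1 hi hk0 (by rw [hk, mul_comm])
  refine ⟨x, hx, hxr, hns, fun g hy => hcount ?_⟩
  obtain ⟨hyr, hrk⟩ := rest_conj (g := g) hxr hrF
  obtain ⟨c, -, hq, hp⟩ := sim_of_mem Qf hQf hy
  set y := g⁻¹ * x * g
  have hc := multiplier_one Qf hQn hn hr1 hyr hp
  subst hc
  have hfix : ∀ v, toEnd y v = v → v = 0 := fun v hv => by
    refine free_of_le_rest hrF ?_ hv
    rw [Submodule.eq_top_of_finrank_eq (show finrank F (restSp r (toEnd y)) = finrank F (Fin n → F) by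
      rw [hrk, hrest, Module.finrank_fin_fun, hk, mul_comm])]
    exact Submodule.mem_top
  let S := {v : Fin n → F // Qf v = 0}
  let f : S → S := fun v => ⟨toEnd y v.1, by rw [hq, v.2, mul_zero]⟩
  have hyr' : toEnd y ^ r = 1 := by rw [← toEnd_pow, hyr, toEnd_one]
  have hfinj : Function.Injective f := fun v v' h => by
    refine Subtype.ext ?_
    have h' : toEnd y v.1 = toEnd y v'.1 := congrArg Subtype.val h
    have := congrArg (toEnd y ^ (r - 1)) h'
    rwa [← Module.End.mul_apply, ← Module.End.mul_apply, ← pow_succ, Nat.sub_add_cancel (Fact.out : r.Prime).one_le,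
      hyr', Module.End.one_apply, Module.End.one_apply] at this
  let σ : Equiv.Perm S := Equiv.ofBijective f (Finite.injective_iff_bijective.1 hfinj)
  have hσk : ∀ (j : ℕ) (v : S), ((σ ^ j) v).1 = (toEnd y ^ j) v.1 := fun j => by
    induction j with
    | zero => intro v; rfl
    | succ j ih =>
      intro v
      rw [pow_succ', pow_succ', Equiv.Perm.mul_apply, Module.End.mul_apply, ← ih]
      rfl
  have hmod := Equiv.Perm.card_compl_support_modEq (p := r) (n := 1) (σ := σ) (by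
    refine Equiv.ext fun v => Subtype.ext ?_
    rw [pow_one, hσk, hyr']
    rfl)
  have hone : σ.supportᶜ = {⟨0, QuadraticMap.map_zero Qf⟩} := by
    ext v
    rw [Finset.mem_compl, Equiv.Perm.notMem_support, Finset.mem_singleton]
    constructor
    · exact fun h => Subtype.ext (hfix v.1 (congrArg Subtype.val h))
    · rintro rfl
      exact Subtype.ext (map_zero (toEnd y))
  rw [hone, Finset.card_singleton] at hmod
  rw [Nat.card_eq_fintype_card]
  exact (Nat.modEq_iff_dvd' (Fintype.card_pos_iff.2 ⟨⟨0, QuadraticMap.map_zero Qf⟩⟩)).1 hmod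

/-- The product formula for the general linear group. -/
theorem card_GL_split (q : ℕ) (hcard : Fintype.card F = q) :
    Nat.card (GL (Fin n) F) = (∏ i : Fin n, q ^ (i : ℕ)) * ∏ j ∈ Finset.range n, (q ^ (j + 1) - 1) := by
  rw [Matrix.card_GL_field, hcard, Finset.prod_range fun j => q ^ (j + 1) - 1, ← Equiv.prod_comp Fin.revPerm
    (fun j : Fin n => q ^ ((j : ℕ) + 1) - 1), ← Finset.prod_mul_distrib]
  refine Finset.prod_congr rfl fun i _ => ?_
  rw [Nat.mul_sub_one, ← pow_add, Fin.revPerm_apply, Fin.val_rev]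
  congr 2
  omega

theorem prod_parity (f : ℕ → ℕ) : ∀ m : ℕ,
    (∏ j ∈ Finset.range (2 * m), f (j + 1)) =
      (∏ l ∈ Finset.range m, f (2 * l + 1)) * ∏ l ∈ Finset.range m, f (2 * (l + 1))
  | 0 => by simp
  | m + 1 => by
    rw [show 2 * (m + 1) = 2 * m + 1 + 1 by ring, Finset.prod_range_succ, Finset.prod_range_succ, prod_parity f m,
      Finset.prod_range_succ _ m, Finset.prod_range_succ _ m]
    ring_nf

theorem card_OQ_dvd (hQf : ∀ v, Qf v = Q v) (hn : 0 < n)
    (hΩ : r ∣ (Cfsg.Geo.quadSimilarityGroup Q).relIndex (Cfsg.Geo.specialLinear (Fin n) F)) (h2 : (2 : F) ≠ 0)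
    (hQn : (polarBilin Qf).Nondegenerate) :
    r * Nat.card (OQ Qf) ∣ 2 * Nat.card (GL (Fin n) F) := by
  classical
  set I := Cfsg.isometryGroup F (⇑Qf)
  set S := Cfsg.Geo.specialLinear (Fin n) F
  have hI : Nat.card I = Nat.card (OQ Qf) :=
    CfsgLib.Classical.Quad.card_isometryGroup_eq Qf rfl
  have hIv : ∀ g ∈ I, ∀ v, Qf (toEnd g v) = Qf v := fun g hg v => by rw [toEnd_apply]; exact hg v v
  have hle : I ⊓ S ≤ Cfsg.Geo.quadSimilarityGroup Q ⊓ S :=
    fun g hg => ⟨mem_of_sim Qf hQf one_ne_zero fun v => by rw [one_mul, hIv g hg.1], hg.2⟩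
  -- determinants are signs
  let dt : I →* Fˣ := Matrix.GeneralLinearGroup.det.comp I.subtype
  have hker : dt.ker = S.subgroupOf I := rfl
  have hrange : Nat.card dt.range ∣ 2 := by
    have hsq : ∀ u ∈ dt.range, u ^ 2 = 1 := by
      rintro _ ⟨g, rfl⟩
      set G := LinearMap.BilinForm.toMatrix' (polarBilin Qf)
      have hG : G.det ≠ 0 := by
        rw [← Matrix.nondegenerate_iff_det_ne_zero, ← Matrix.nondegenerate_toBilin'_iff, Matrix.toBilin'_toMatrix']
        exact hQn
      have h : (g.1 : Matrix (Fin n) (Fin n) F)ᵀ * G * (g.1 : Matrix (Fin n) (Fin n) F) = G := by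
        refine Matrix.toBilin'.injective (LinearMap.ext₂ fun u v => ?_)
        rw [← Matrix.toBilin'_comp, Matrix.toBilin'_toMatrix', LinearMap.BilinForm.comp_apply]
        show polar Qf (toEnd g.1 u) (toEnd g.1 v) = polar Qf u v
        simp only [QuadraticMap.polar, ← map_add, hIv g.1 g.2]
      have h' := congrArg Matrix.det h
      rw [Matrix.det_mul, Matrix.det_mul, Matrix.det_transpose] at h'
      refine Units.ext ?_
      rw [Units.val_pow_eq_pow_val, Units.val_one]
      show (g.1 : Matrix (Fin n) (Fin n) F).det ^ 2 = 1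
      exact mul_right_cancel₀ hG (by linear_combination h')
    have hle2 : Nat.card dt.range ≤ 2 := by
      have hsub : ∀ u : dt.range, (u : Fˣ) = 1 ∨ (u : Fˣ) = -1 := fun u => by
        have h := congrArg Units.val (hsq u u.2)
        rw [Units.val_pow_eq_pow_val, Units.val_one, sq, mul_self_eq_one_iff] at h
        rcases h with h | h
        · exact Or.inl (Units.ext h)
        · exact Or.inr (Units.ext h)
      refine (Nat.card_le_card_of_injective (fun u : dt.range => decide ((u : Fˣ) = 1)) fun u u' h => ?_).trans_eq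
        (by rw [Nat.card_eq_fintype_card, Fintype.card_bool])
      have h' : ((u : Fˣ) = 1) ↔ ((u' : Fˣ) = 1) := decide_eq_decide.1 h
      refine Subtype.ext ?_
      rcases hsub u with hu | hu <;> rcases hsub u' with hu' | hu'
      · rw [hu, hu']
      · rw [h'.1 hu, hu]
      · rw [h'.2 hu', hu']
      · rw [hu, hu']
    have := Nat.card_pos (α := dt.range)
    interval_cases h : Nat.card dt.range <;> norm_num
  have h1 : Nat.card I = Nat.card (I ⊓ S : Subgroup (GL (Fin n) F)) * Nat.card dt.range := by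
    rw [← Subgroup.card_mul_index dt.ker, Subgroup.index_ker, hker, ← Subgroup.inf_subgroupOf_left S I,
      Nat.card_congr (Subgroup.subgroupOfEquivOfLe inf_le_left).toEquiv]
  obtain ⟨t, ht⟩ := Subgroup.card_dvd_of_le hle
  obtain ⟨s, hs⟩ := hΩ
  have h3 : Nat.card S = Nat.card (Cfsg.Geo.quadSimilarityGroup Q ⊓ S : Subgroup (GL (Fin n) F)) * (r * s) := by
    rw [← hs, ← Subgroup.card_mul_index ((Cfsg.Geo.quadSimilarityGroup Q).subgroupOf S)]
    congr 1
    rw [← Subgroup.inf_subgroupOf_right, Nat.card_congr (Subgroup.subgroupOfEquivOfLe inf_le_right).toEquiv]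
  obtain ⟨e, he⟩ := hrange
  obtain ⟨w, hw⟩ := Subgroup.card_subgroup_dvd_card S
  exact ⟨t * s * w * e, by
    rw [← hI, h1, hw, h3, ht, he]
    ring⟩

/-- What divisibility of the index means. -/
theorem index_cases {p : ℕ} [Fact p.Prime] [CharP F p] (h2 : (2 : F) ≠ 0) (hn : 3 ≤ n) (hr : r ≠ 2) (hrp : r ≠ p)
    (hQf : ∀ v, Qf v = Q v) (hQn : (polarBilin Qf).Nondegenerate)
    (hΩ : r ∣ (Cfsg.Geo.quadSimilarityGroup Q).relIndex (Cfsg.Geo.specialLinear (Fin n) F)) :
    (∃ j, Odd j ∧ j ≤ n ∧ r ∣ Fintype.card F ^ j - 1) ∨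
      (¬ r ∣ Fintype.card F - 1 ∧ 0 < orderOf (Nat.card F : ZMod r) ∧ orderOf (Nat.card F : ZMod r) ∣ n ∧
        ¬ r ∣ Nat.card {v // Qf v = 0} - 1) := by
  classical
  set q := Fintype.card F with hq
  have hrp' : r.Prime := Fact.out
  have hrq : ¬ r ∣ q := fun h => by
    obtain ⟨k, -, hk⟩ := FiniteField.card F p
    rw [hq, hk] at h
    exact hrp ((Nat.prime_dvd_prime_iff_eq hrp' Fact.out).1 (hrp'.dvd_of_dvd_pow h))
  have hr2' : ¬ r ∣ 2 := fun h => hr ((Nat.prime_dvd_prime_iff_eq hrp' Nat.prime_two).1 h)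
  have hdiv := card_OQ_dvd Qf hQf (by omega) hΩ h2 hQn
  rw [card_GL_split q rfl] at hdiv
  have hq1 : 1 < q := Fintype.one_lt_card
  have hpos : ∀ k, 0 < k → 0 < q ^ k - 1 := fun k hk => Nat.sub_pos_of_lt (one_lt_pow₀ hq1 hk.ne')
  have hpowq : ¬ r ∣ ∏ i : Fin n, q ^ (i : ℕ) := fun h => by
    obtain ⟨i, -, hi⟩ := (hrp'.prime.dvd_finset_prod_iff _).1 h
    exact hrq (hrp'.dvd_of_dvd_pow hi)
  have hoddprod : ∀ m, 2 * m ≤ n + 1 → r ∣ ∏ l ∈ Finset.range m, (q ^ (2 * l + 1) - 1) →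
      ∃ j, Odd j ∧ j ≤ n ∧ r ∣ q ^ j - 1 := fun m hm h => by
    obtain ⟨l, hl, h⟩ := (hrp'.prime.dvd_finset_prod_iff _).1 h
    rw [Finset.mem_range] at hl
    exact ⟨2 * l + 1, ⟨l, rfl⟩, by omega, h⟩
  -- cancelling the common factor
  have cancel : ∀ {a P x : ℕ}, 0 < P → r * (2 * a * P) ∣ 2 * ((∏ i : Fin n, q ^ (i : ℕ)) * (x * P)) → r ∣ x :=
    fun {a P x} hP h => by
      have h' : r ∣ 2 * ((∏ i : Fin n, q ^ (i : ℕ)) * x) := by
        refine Nat.dvd_of_mul_dvd_mul_right hP ?_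
        refine (Dvd.intro (2 * a) (by ring)).trans (h.trans (dvd_of_eq (by ring)))
      exact (hrp'.dvd_mul.1 ((hrp'.dvd_mul.1 h').resolve_left hr2')).resolve_left hpowq
  rcases Nat.even_or_odd n with ⟨m, hm⟩ | ⟨m, hm⟩
  · obtain ⟨k, rfl⟩ : ∃ k, m = k + 1 := ⟨m - 1, by omega⟩
    set Pk := ∏ i ∈ Finset.range k, (q ^ (2 * (i + 1)) - 1)
    have hPk : 0 < Pk := Finset.prod_pos fun i _ => hpos _ (by omega)
    have hn2 : n = 2 * (k + 1) := by omega
    have hsplit : ∀ a b : ℕ, a * b = q ^ (2 * (k + 1)) - 1 →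
        ∏ j ∈ Finset.range n, (q ^ (j + 1) - 1) = ((∏ l ∈ Finset.range (k + 1), (q ^ (2 * l + 1) - 1)) * a) * (b * Pk) :=
      fun a b hab => by
        rw [hn2, prod_parity (fun j => q ^ j - 1), Finset.prod_range_succ (fun l => q ^ (2 * (l + 1)) - 1), ← hab]
        ring
    have hfinish : ∀ ε : ℕ, r ∣ (∏ l ∈ Finset.range (k + 1), (q ^ (2 * l + 1) - 1)) * ε →
        ε ∣ q ^ (2 * (k + 1)) - 1 → (r ∣ ε → (¬ r ∣ q - 1) → ¬ r ∣ Nat.card {v // Qf v = 0} - 1) →
        (∃ j, Odd j ∧ j ≤ n ∧ r ∣ q ^ j - 1) ∨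
          (¬ r ∣ q - 1 ∧ 0 < orderOf (Nat.card F : ZMod r) ∧ orderOf (Nat.card F : ZMod r) ∣ n ∧
            ¬ r ∣ Nat.card {v // Qf v = 0} - 1) := fun ε h hε hc => by
      rcases hrp'.dvd_mul.1 h with h' | h'
      · exact Or.inl (hoddprod (k + 1) (by omega) h')
      by_cases hq1' : r ∣ q - 1
      · exact Or.inl ⟨1, odd_one, by omega, by rwa [pow_one]⟩
      have h1 : (Nat.card F : ZMod r) ^ n = 1 := by
        have h'' := (ZMod.natCast_eq_zero_iff _ r).2 (h'.trans hε)
        rw [Nat.cast_sub (Nat.one_le_pow _ _ (by omega)), Nat.cast_pow, Nat.cast_one, sub_eq_zero, ← hn2] at h''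
        rwa [Nat.card_eq_fintype_card, ← hq]
      have hdvd := orderOf_dvd_of_pow_eq_one h1
      exact Or.inr ⟨hq1', Nat.pos_of_dvd_of_pos hdvd (by omega), hdvd, hc h' hq1'⟩
    have hsq : (q ^ (k + 1) + 1) * (q ^ (k + 1) - 1) = q ^ (2 * (k + 1)) - 1 := by
      rw [← Nat.sq_sub_sq, one_pow, ← pow_mul, mul_comm (k + 1)]
    -- a zero count divisible by `r` would give a divisor of `q - 1`
    have hbad : ∀ a : ℕ, r ∣ a → (a = q ^ (k + 1) + 1 ∧ r ∣ (q ^ (k + 1) - 1) * (q ^ k + 1) ∨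
        a = q ^ (k + 1) - 1 ∧ r ∣ (q ^ (k + 1) + 1) * (q ^ k - 1)) → r ∣ q - 1 := by
      intro a ha h
      have hcast : ∀ {x : ℕ}, r ∣ x → (x : ZMod r) = 0 := fun h => (ZMod.natCast_eq_zero_iff _ r).2 h
      have h1 : 1 ≤ q ^ (k + 1) := Nat.one_le_pow _ _ (by omega)
      have h1' : 1 ≤ q ^ k := Nat.one_le_pow _ _ (by omega)
      have h20 : (2 : ZMod r) ≠ 0 := fun h => hr2' ((ZMod.natCast_eq_zero_iff 2 r).1 (by exact_mod_cast h))
      have hq0 : (q : ZMod r) ^ k ≠ 0 := pow_ne_zero _ fun h => hrq ((ZMod.natCast_eq_zero_iff _ r).1 h)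
      have fin : (q : ZMod r) ^ k * ((q : ZMod r) - 1) = 0 → r ∣ q - 1 := fun h => by
        rw [← ZMod.natCast_eq_zero_iff, Nat.cast_sub (by omega), Nat.cast_one]
        exact (mul_eq_zero.1 h).resolve_left hq0
      rcases h with ⟨rfl, h⟩ | ⟨rfl, h⟩
      · have e1 := hcast ha
        rcases hrp'.dvd_mul.1 h with h | h
        · have e2 := hcast h
          rw [Nat.cast_sub h1] at e2
          push_cast at e1 e2
          exact absurd (by linear_combination e1 - e2) h20
        · have e2 := hcast h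
          push_cast at e1 e2
          exact fin (by linear_combination e1 - e2)
      · have e1 := hcast ha
        rw [Nat.cast_sub h1] at e1
        rcases hrp'.dvd_mul.1 h with h | h
        · have e2 := hcast h
          push_cast at e1 e2
          exact absurd (by linear_combination e2 - e1) h20
        · have e2 := hcast h
          rw [Nat.cast_sub h1'] at e2
          push_cast at e1 e2
          exact fin (by linear_combination e1 - e2)
    rcases CfsgLib.Known.QuadClassify.classify_even (m := k + 1) (by rw [Module.finrank_fin_fun, hn2]) Qf hQn with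
      ⟨e, he⟩ | ⟨-, ζ, e, hζ, he⟩
    · have hO : Nat.card (OQ Qf) = Nat.card (OQ (CfsgLib.Classical.Quad.qPlus (k + 1) F)) :=
        (Nat.card_congr (CfsgLib.Classical.isoCongrEq
          (f := fun u _ => CfsgLib.Classical.Quad.qPlus (k + 1) F u) (f' := fun u _ => Qf u) e
          fun u _ => (he u).trans (congrFun (CfsgLib.Classical.Quad.coe_qPlus (k + 1) F).symm u)).toEquiv).symm
      rw [hO, CfsgLib.Classical.Quad.card_OQ_qPlus rfl k, hsplit _ _ hsq] at hdiv
      have hx := cancel (a := q ^ ((k + 1) * k)) (P := (q ^ (k + 1) - 1) * Pk) (Nat.mul_pos (hpos _ k.succ_pos) hPk)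
        (by convert hdiv using 2 <;> ring)
      refine hfinish _ hx (Dvd.intro _ hsq) fun h hq1' hc => hq1' (hbad _ h (Or.inl ⟨rfl, ?_⟩))
      have hz : Nat.card {v // Qf v = 0} = Nat.card {v // Cfsg.quadFormPlus (k + 1) F v = 0} :=
        (Nat.card_congr (e.toEquiv.subtypeEquiv (p := fun v => Cfsg.quadFormPlus (k + 1) F v = 0)
          (q := fun w => Qf w = 0) fun v => by show _ ↔ Qf (e v) = 0; rw [he])).symm
      rw [hz, CfsgLib.Classical.Quad.card_quadFormPlus_zero rfl (k + 1) k.succ_pos] at hc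
      convert hc using 1
      have e1 : q ^ k ≤ q ^ (k + 1) := Nat.pow_le_pow_right (by omega) (by omega)
      have e2 : 1 ≤ q ^ (2 * k + 1) + q ^ (k + 1) - q ^ k := by
        have : 1 ≤ q ^ (2 * k + 1) := Nat.one_le_pow _ _ (by omega)
        omega
      rw [← hq, show 2 * (k + 1) - 1 = 2 * k + 1 by omega, Nat.add_sub_cancel]
      zify [e2, e1.trans (Nat.le_add_left _ (q ^ (2 * k + 1))), Nat.one_le_pow (k + 1) q (by omega)]
      ring
    · obtain ⟨e, he⟩ : ∃ e' : ((Fin k ⊕ Fin k) ⊕ Fin 2 → F) ≃ₗ[F] (Fin n → F),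
          ∀ v, Qf (e' v) = Cfsg.quadFormMinus k F 1 ζ v := ⟨e, he⟩
      have hab : ∀ z₁ z₂ : F, z₁ ^ 2 + 1 * z₁ * z₂ + ζ * z₂ ^ 2 = 0 → z₁ = 0 ∧ z₂ = 0 := fun z₁ z₂ h =>
        CfsgLib.Known.QuadClassify.aniso_of_no_root hζ z₁ z₂ h
      have hO : Nat.card (OQ Qf) = Nat.card (OQ (CfsgLib.Classical.Quad.qMinus k F 1 ζ)) :=
        (Nat.card_congr (CfsgLib.Classical.isoCongrEq
          (f := fun u _ => CfsgLib.Classical.Quad.qMinus k F 1 ζ u) (f' := fun u _ => Qf u) e
          fun u _ => (he u).trans (congrFun (CfsgLib.Classical.Quad.coe_qMinus k F 1 ζ).symm u)).toEquiv).symm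
      rw [hO, CfsgLib.Classical.Quad.card_OQ_qMinus rfl k hab,
        hsplit _ _ ((mul_comm _ _).trans hsq)] at hdiv
      have hx := cancel (a := q ^ ((k + 1) * k)) (P := (q ^ (k + 1) + 1) * Pk) (Nat.mul_pos (Nat.succ_pos _) hPk)
        (by convert hdiv using 2 <;> ring)
      refine hfinish _ hx (Dvd.intro_left _ hsq) fun h hq1' hc => hq1' (hbad _ h (Or.inr ⟨rfl, ?_⟩))
      have hz : Nat.card {v // Qf v = 0} = Nat.card {v // Cfsg.quadFormMinus (k + 1 - 1) F 1 ζ v = 0} :=
        (Nat.card_congr (e.toEquiv.subtypeEquiv (p := fun v => Cfsg.quadFormMinus k F 1 ζ v = 0)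
          (q := fun w => Qf w = 0) fun v => by show _ ↔ Qf (e v) = 0; rw [he])).symm
      rw [hz, CfsgLib.Classical.Quad.card_quadFormMinus_zero rfl (k + 1) k.succ_pos hab] at hc
      convert hc using 1
      have e1 : q ^ (k + 1) ≤ q ^ (2 * k + 1) := Nat.pow_le_pow_right (by omega) (by omega)
      have e2 : 1 ≤ q ^ (2 * k + 1) + q ^ k - q ^ (k + 1) := by
        have : 1 ≤ q ^ k := Nat.one_le_pow _ _ (by omega)
        omega
      rw [← hq, show 2 * (k + 1) - 1 = 2 * k + 1 by omega, Nat.add_sub_cancel]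
      zify [e2, e1.trans (Nat.le_add_right _ (q ^ k)), Nat.one_le_pow k q (by omega)]
      ring
  · set Pm := ∏ i ∈ Finset.range m, (q ^ (2 * (i + 1)) - 1)
    have hPm : 0 < Pm := Finset.prod_pos fun i _ => hpos _ (by omega)
    obtain ⟨c, e, hc, he⟩ := CfsgLib.Known.QuadClassify.classify_odd (m := m)
      (by rw [Module.finrank_fin_fun, hm]) Qf hQn
    have hO : Nat.card (OQ Qf) = Nat.card (OQ (CfsgLib.Classical.Quad.qOdd m F)) := by
      let Qc : QuadraticForm F (Unit ⊕ (Fin m ⊕ Fin m) → F) := Qf.comp e.toLinearMap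
      have hQc : (polarBilin Qc).Nondegenerate :=
        CfsgLib.Classical.Quad.nondegenerate_of_left fun u hu => e.map_eq_zero_iff.1 (hQn.1 _ fun v => by
          obtain ⟨v, rfl⟩ := e.surjective v
          have := hu v
          show polar Qf (e u) (e v) = 0
          simpa [Qc, QuadraticMap.polar, map_add] using this)
      obtain ⟨g, c', hc', hg⟩ := CfsgLib.Classical.Quad.similar_of_odd (V := Unit ⊕ (Fin m ⊕ Fin m) → F) h2
        ⟨m, by simp; omega⟩ (CfsgLib.Classical.Quad.qOdd m F) Qc (CfsgLib.Classical.Quad.qOdd_nondeg h2 m) hQc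
      rw [Nat.card_congr (CfsgLib.Classical.isoCongr (f := fun u _ => CfsgLib.Classical.Quad.qOdd m F u)
        (f' := fun u _ => Qf u) (g.trans e) (fun u v u' v' => by
          have h1 : ∀ w, Qf (e (g w)) = c' * CfsgLib.Classical.Quad.qOdd m F w := hg
          simp [h1, hc'])).toEquiv]
    rw [hO, CfsgLib.Classical.Quad.card_OQ_qOdd rfl h2 m, hm, Finset.prod_range_succ,
      prod_parity (fun j => q ^ j - 1)] at hdiv
    refine Or.inl (hoddprod (m + 1) (by omega) ?_)
    rw [Finset.prod_range_succ]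
    refine cancel (a := q ^ (m ^ 2)) (P := Pm) hPm ?_
    subst hm
    convert hdiv using 2 <;> ring

end CfsgLib.Geo.OrthFormDer
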