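/-
Elements of the special linear group preserving some conjugate of a given quadratic form up to a scalar.
-/
import Cfsg.Agent.Lib.Geo.OrthFormDerange
import Cfsg.Agent.Lib.Geo.FormDerangePositive

set_option autoImplicit false

namespace CfsgLib.Geo.OrthFormDer

open Matrix Module CfsgLib.Geo.PrimeAct CfsgLib.Geo.PrimeSp CfsgLib.Geo.FormDer
open QuadraticMap (polar polarBilin)
open LinearMap (BilinForm)

variable {F : Type*} [Field F] {n : ℕ} {Q : (Fin n → F) → F} (Qf : QuadraticForm F (Fin n → F))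

/-- Symmetric forms with equal Gram determinants are isometric. -/
theorem equiv_of_det [Finite F] (h2 : (2 : F) ≠ 0) (hn : 0 < n) {ι : Type*} [Fintype ι] [DecidableEq ι]
    (b : Basis ι F (Fin n → F)) (B B' : BilinForm F (Fin n → F)) (hB : B.IsSymm) (hBn : B.Nondegenerate)
    (hB' : B'.IsSymm) (hBn' : B'.Nondegenerate)
    (h : (LinearMap.BilinForm.toMatrix b B').det = (LinearMap.BilinForm.toMatrix b B).det) :
    ∃ g : (Fin n → F) ≃ₗ[F] (Fin n → F), ∀ u v, B (g u) (g v) = B' u v := by
  classical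
  obtain ⟨k, rfl⟩ : ∃ k, n = k + 1 := ⟨n - 1, by omega⟩
  obtain ⟨α, hα⟩ : ∃ α : F, ¬ IsSquare α := FiniteField.exists_nonsquare fun h => h2 (by
    have := ringChar.eq_iff.1 h
    exact CharTwo.two_eq_zero)
  obtain ⟨c, hc1, hc2, hc3⟩ := CfsgLib.Classical.Quad.exists_normal_basis h2 hα k B' hB' hBn'
    (Module.finrank_fin_fun F)
  obtain ⟨c', hc1', hc2', hc3'⟩ := CfsgLib.Classical.Quad.exists_normal_basis h2 hα k B hB hBn
    (Module.finrank_fin_fun F)
  let e := b.indexEquiv c
  let b' := b.reindex e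
  have hre : ∀ C : BilinForm F (Fin (k + 1) → F), (LinearMap.BilinForm.toMatrix b C).det = (LinearMap.BilinForm.toMatrix b' C).det :=
    fun C => by
      rw [← Matrix.det_submatrix_equiv_self e (LinearMap.BilinForm.toMatrix b' C)]
      congr 1
      ext i j
      simp [b', LinearMap.BilinForm.toMatrix_apply, Matrix.submatrix_apply]
  rw [hre, hre, CfsgLib.Classical.Quad.det_gram_of_isometry b' c B' B' (LinearEquiv.refl F _) (fun _ _ => rfl),
    CfsgLib.Classical.Quad.det_gram_of_isometry b' c' B B (LinearEquiv.refl F _) (fun _ _ => rfl),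
    CfsgLib.Classical.Quad.det_gram_diag c B' hc1, CfsgLib.Classical.Quad.det_gram_diag c' B hc1',
    Fin.prod_univ_castSucc, Fin.prod_univ_castSucc,
    Finset.prod_eq_one (fun i _ => hc2 _ (Fin.castSucc_lt_last i).ne),
    Finset.prod_eq_one (fun i _ => hc2' _ (Fin.castSucc_lt_last i).ne), one_mul, one_mul] at h
  set D := (LinearMap.toMatrix b' c ((LinearEquiv.refl F (Fin (k + 1) → F)) : (Fin (k + 1) → F) →ₗ[F] _)).det
  set D' := (LinearMap.toMatrix b' c' ((LinearEquiv.refl F (Fin (k + 1) → F)) : (Fin (k + 1) → F) →ₗ[F] _)).det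
  have hD : D ≠ 0 := ((LinearEquiv.refl F (Fin (k + 1) → F)).isUnit_det b' c).ne_zero
  have hD' : D' ≠ 0 := ((LinearEquiv.refl F (Fin (k + 1) → F)).isUnit_det b' c').ne_zero
  have hlast : B (c' (Fin.last k)) (c' (Fin.last k)) = B' (c (Fin.last k)) (c (Fin.last k)) := by
    rcases hc3 with h3 | h3 <;> rcases hc3' with h3' | h3' <;> rw [h3, h3'] at h ⊢
    · refine absurd ⟨D / D', ?_⟩ hα
      field_simp
      linear_combination -h
    · refine absurd ⟨D' / D, ?_⟩ hα
      field_simp
      linear_combination h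
  refine ⟨c.equiv c' (Equiv.refl _), CfsgLib.Classical.Quad.equiv_of_gram c c' B' B fun i j => ?_⟩
  rcases eq_or_ne i j with rfl | hij
  · rcases eq_or_ne i (Fin.last k) with rfl | hi
    · exact hlast
    · rw [hc2 i hi, hc2' i hi]
  · rw [hc1 i j hij, hc1' i j hij]

/-- A form with a given determinant that the map multiplies by its square scalar. -/
theorem exists_form_det [Fintype F] (hn : 0 < n) {T : (Fin n → F) →ₗ[F] (Fin n → F)} {z : F} (hz : z ≠ 0)
    (hT : ∀ v, T (T v) = z • v) (G₀ : BilinForm F (Fin n → F)) (hG₀ : G₀.Nondegenerate) :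
    ∃ (k m : ℕ) (b : Basis ((Fin k × Fin 2) ⊕ Fin m) F (Fin n → F)) (B : BilinForm F (Fin n → F)),
      B.IsSymm ∧ B.Nondegenerate ∧ (LinearMap.BilinForm.toMatrix b B).det = (LinearMap.BilinForm.toMatrix b G₀).det ∧
      ∀ u v, B (T u) (T v) = z * B u v := by
  classical
  obtain ⟨k, m, b, h0, h1, hm⟩ := CfsgLib.Geo.InvClass.exists_pair_basis_norm T z hz hT
  set D := (LinearMap.BilinForm.toMatrix b G₀).det
  have hD : D ≠ 0 := (LinearMap.BilinForm.nondegenerate_iff_det_ne_zero b).1 hG₀
  refine ⟨k, m, b, ?_⟩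
  suffices h : ∃ M : Matrix ((Fin k × Fin 2) ⊕ Fin m) ((Fin k × Fin 2) ⊕ Fin m) F,
      (∀ p p', M p p' = M p' p) ∧ M.det = D ∧
      ∀ p p', Matrix.toBilin b M (T (b p)) (T (b p')) = z * M p p' by
    obtain ⟨M, hsym, hdet, hmul⟩ := h
    have hMb : ∀ p p', Matrix.toBilin b M (b p) (b p') = M p p' := fun p p' => by
      rw [← LinearMap.BilinForm.toMatrix_apply b, LinearMap.BilinForm.toMatrix_toBilin]
    refine ⟨Matrix.toBilin b M, ⟨fun u v => ?_⟩, ?_, ?_, fun u v => ?_⟩
    · have : (Matrix.toBilin b M).flip = Matrix.toBilin b M := LinearMap.ext_basis b b fun p p' => by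
        rw [LinearMap.BilinForm.flip_apply, hMb, hMb, hsym]
      conv_rhs => rw [← this]
      rfl
    · rw [LinearMap.BilinForm.nondegenerate_iff_det_ne_zero b, LinearMap.BilinForm.toMatrix_toBilin, hdet]
      exact hD
    · rw [LinearMap.BilinForm.toMatrix_toBilin, hdet]
    · have : (Matrix.toBilin b M).comp T T = z • Matrix.toBilin b M := LinearMap.ext_basis b b fun p p' => by
        rw [LinearMap.BilinForm.comp_apply, hmul, LinearMap.smul_apply, LinearMap.smul_apply, hMb, smul_eq_mul]
      have h' := LinearMap.congr_fun (LinearMap.congr_fun this u) v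
      rwa [LinearMap.BilinForm.comp_apply, LinearMap.smul_apply, LinearMap.smul_apply, smul_eq_mul] at h'
  rcases Nat.eq_zero_or_pos m with rfl | hm0
  · have hk : 0 < k := by
      rcases Nat.eq_zero_or_pos k with rfl | h
      · have h' : finrank F (Fin n → F) = 0 := by rw [finrank_eq_card_basis b]; simp
        rw [Module.finrank_fin_fun] at h'
        omega
      · exact h
    let i₀ : Fin k := ⟨0, hk⟩
    obtain ⟨h, a, hha⟩ := CfsgLib.Geo.InvClass.exists_norm_eq z (-(D / z ^ (k - 1))) hz
    let e : (Fin k × Fin 2) ⊕ Fin 0 ≃ Fin 2 × Fin k := (Equiv.sumEmpty _ _).trans (Equiv.prodComm _ _)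
    let N : Fin k → Matrix (Fin 2) (Fin 2) F := fun i => if i = i₀ then !![a, h; h, z * a] else !![1, 0; 0, z]
    let M := (Matrix.blockDiagonal N).submatrix e e
    have hME : ∀ i s j s', M (Sum.inl (i, s)) (Sum.inl (j, s')) = if i = j then N i s s' else 0 := fun i s j s' => by
      simp [M, e, Matrix.blockDiagonal_apply]
    have hMb : ∀ p p', Matrix.toBilin b M (b p) (b p') = M p p' := fun p p' => by
      rw [← LinearMap.BilinForm.toMatrix_apply b, LinearMap.BilinForm.toMatrix_toBilin]
    refine ⟨M, ?_, ?_, ?_⟩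
    · rintro (⟨i, s⟩ | p) (⟨j, s'⟩ | p')
      · rw [hME, hME]
        by_cases hij : i = j
        · subst hij
          rw [if_pos rfl, if_pos rfl]
          simp only [N]
          split_ifs <;> fin_cases s <;> fin_cases s' <;> simp
        · rw [if_neg hij, if_neg (Ne.symm hij)]
      all_goals first | exact p'.elim0 | exact p.elim0
    · rw [Matrix.det_submatrix_equiv_self, Matrix.det_blockDiagonal, ← Finset.mul_prod_erase _ _ (Finset.mem_univ i₀),
        Finset.prod_congr rfl (fun i hi => show (N i).det = z by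
          simp [N, Finset.ne_of_mem_erase hi, Matrix.det_fin_two_of]), Finset.prod_const,
        Finset.card_erase_of_mem (Finset.mem_univ _), Finset.card_univ, Fintype.card_fin]
      simp only [N, if_pos rfl, Matrix.det_fin_two_of]
      have hne : z ^ (k - 1) ≠ 0 := pow_ne_zero _ hz
      have e1 : a * (z * a) - h * h = D / z ^ (k - 1) := by linear_combination -hha
      rw [e1, div_mul_cancel₀ _ hne]
    · rintro (⟨i, s⟩ | p) (⟨j, s'⟩ | p')
      · by_cases hij : i = j
        · subst hij
          fin_cases s <;> fin_cases s' <;>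
            simp only [Fin.zero_eta, Fin.mk_one, h0, h1, map_smul, LinearMap.smul_apply, smul_eq_mul, hMb, hME,
              if_pos] <;> simp only [N] <;> split_ifs <;> simp <;> ring
        · fin_cases s <;> fin_cases s' <;>
            simp only [Fin.zero_eta, Fin.mk_one, h0, h1, map_smul, LinearMap.smul_apply, smul_eq_mul, hMb, hME,
              if_neg hij, mul_zero]
      all_goals first | exact p'.elim0 | exact p.elim0
  · let i₀ : (Fin k × Fin 2) ⊕ Fin m := Sum.inr ⟨0, hm0⟩
    let δ : (Fin k × Fin 2) ⊕ Fin m → F := Sum.elim (fun p => if p.2 = 0 then 1 else z) (fun _ => 1)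
    set P := ∏ p ∈ Finset.univ.erase i₀, δ p
    have hP : P ≠ 0 := Finset.prod_ne_zero_iff.2 fun p _ => by
      rcases p with ⟨i, s⟩ | p
      · simp only [δ, Sum.elim_inl]; split_ifs <;> simp [hz]
      · simp [δ]
    let ε := Function.update δ i₀ (D / P)
    have hMb : ∀ p p', Matrix.toBilin b (Matrix.diagonal ε) (b p) (b p') = Matrix.diagonal ε p p' := fun p p' => by
      rw [← LinearMap.BilinForm.toMatrix_apply b, LinearMap.BilinForm.toMatrix_toBilin]
    refine ⟨Matrix.diagonal ε, fun p p' => ?_, ?_, ?_⟩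
    · rcases eq_or_ne p p' with rfl | h
      · rfl
      · rw [Matrix.diagonal_apply_ne _ h, Matrix.diagonal_apply_ne _ h.symm]
    · rw [Matrix.det_diagonal, ← Finset.mul_prod_erase _ _ (Finset.mem_univ i₀),
        Finset.prod_congr rfl (fun p hp => Function.update_of_ne (Finset.ne_of_mem_erase hp) _ δ),
        show ε i₀ = D / P from Function.update_self _ _ _]
      exact div_mul_cancel₀ _ hP
    · have hpair : ∀ i s, ε (Sum.inl (i, s)) = if s = 0 then 1 else z := fun i s =>
        Function.update_of_ne (by simp [i₀]) _ δ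
      rintro (⟨i, s⟩ | p) (⟨j, s'⟩ | p')
      · by_cases hij : i = j
        · subst hij
          fin_cases s <;> fin_cases s' <;>
            simp [h0, h1, hMb, Matrix.diagonal_apply, hpair]
        · fin_cases s <;> fin_cases s' <;> simp [h0, h1, hMb, Matrix.diagonal_apply, hij]
      · obtain ⟨c, -, hc⟩ := hm p'
        fin_cases s <;> simp [h0, h1, hc, hMb]
      · obtain ⟨c, -, hc⟩ := hm p
        fin_cases s' <;> simp [h0, h1, hc, hMb]
      · obtain ⟨c, hcz, hc⟩ := hm p
        obtain ⟨c', -, hc'⟩ := hm p'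
        rw [hc, hc', map_smul, map_smul, LinearMap.smul_apply, smul_eq_mul, smul_eq_mul, hMb]
        rcases eq_or_ne p p' with rfl | h
        · have : c' = c := smul_left_injective F (b.ne_zero (Sum.inr p)) (hc'.symm.trans hc)
          rw [this, ← mul_assoc, hcz]
        · rw [Matrix.diagonal_apply_ne _ (by simpa using h), mul_zero, mul_zero, mul_zero]

variable [Fintype F]

/-- Involutions. -/
theorem involution_sim (h2 : (2 : F) ≠ 0) (hn : 0 < n) (hQf : ∀ v, Qf v = Q v)
    (hQn : (polarBilin Qf).Nondegenerate) {x : GL (Fin n) F} (hx : x ∈ Cfsg.Geo.specialLinear (Fin n) F) {z : F}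
    (hz : ((x ^ 2 : GL (Fin n) F) : Matrix (Fin n) (Fin n) F) = z • 1) :
    ∃ g ∈ Cfsg.Geo.specialLinear (Fin n) F, g⁻¹ * x * g ∈ Cfsg.Geo.quadSimilarityGroup Q := by
  classical
  haveI : Nonempty (Fin n) := ⟨⟨0, hn⟩⟩
  have hT : ∀ v, toEnd x (toEnd x v) = z • v := fun v => by
    rw [← Module.End.mul_apply, ← toEnd_mul, ← pow_two, toEnd_apply, hz, Matrix.smul_mulVec, Matrix.one_mulVec]
  have hz0 : z ≠ 0 := by
    rintro rfl
    refine det_ne_zero (x ^ 2) ?_
    rw [hz, zero_smul, Matrix.det_zero]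
  obtain ⟨k, m, b, B, hBs, hBn, hdet, hmul⟩ := exists_form_det hn hz0 hT (polarBilin Qf) hQn
  obtain ⟨g, hg⟩ := equiv_of_det h2 hn b (polarBilin Qf) B ⟨fun u v => QuadraticMap.polar_comm _ u v⟩ hQn hBs hBn hdet
  have h2Q : ∀ v, polarBilin Qf v v = 2 * Qf v := fun v => by
    rw [QuadraticMap.polarBilin_apply_apply, QuadraticMap.polar_self, nsmul_eq_mul, Nat.cast_ofNat]
  refine conj_into_SL _ (fun a _ => CfsgLib.Geo.InvClass.exists_commute_det (toEnd x) z hz0 hT a) (ofEquiv g.symm)
    (mem_of_sim Qf hQf hz0 fun v => mul_left_cancel₀ h2 ?_)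
  rw [toEnd_conj_equiv, ← h2Q, hg, hmul, ← hg, g.apply_symm_apply, h2Q]
  ring

/-- Elements of order three or five in dimension three or five. -/
theorem small_order_sim {r : ℕ} [Fact r.Prime] (h2 : (2 : F) ≠ 0) {Q : (Fin r → F) → F}
    (Qf : QuadraticForm F (Fin r → F)) (hQf : ∀ v, Qf v = Q v) (hQn : (polarBilin Qf).Nondegenerate)
    (hr : r = 3 ∨ r = 5) (hrF : (r : F) ≠ 0) (hr1 : r ∣ Fintype.card F - 1) (hr1' : ¬ r ^ 2 ∣ Fintype.card F - 1)
    {x : GL (Fin r) F} (hx : x ∈ Cfsg.Geo.specialLinear (Fin r) F) {z : F}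
    (hz : ((x ^ r : GL (Fin r) F) : Matrix (Fin r) (Fin r) F) = z • 1) :
    ∃ g ∈ Cfsg.Geo.specialLinear (Fin r) F, g⁻¹ * x * g ∈ Cfsg.Geo.quadSimilarityGroup Q := by
  classical
  have hr2 : r ≠ 2 := by omega
  obtain ⟨b, d, hbd, hd, hprod⟩ := exists_diagonal hr2 hrF hr1 hr1' hx hz
  obtain ⟨σ, μ, hμ, hσ, hpair⟩ := exists_pairing hr hr1 hd hprod
  let M : Matrix (Fin r) (Fin r) F := fun i j => if σ i = j then 1 else 0
  have hMM : M * M = 1 := by
    ext i j
    show ∑ k, M i k * M k j = _
    rw [Finset.sum_eq_single (σ i) (fun k _ hk => by simp [M, Ne.symm hk]) (by simp)]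
    simp [M, Matrix.one_apply, hσ]
  set B := Matrix.toBilin b M
  have hB : ∀ i j, B (b i) (b j) = M i j := fun i j => by
    rw [← LinearMap.BilinForm.toMatrix_apply b, LinearMap.BilinForm.toMatrix_toBilin]
  have hBs : ∀ u v, B u v = B v u := fun u v => by
    have : B.flip = B := LinearMap.ext_basis b b fun i j => by
      rw [LinearMap.BilinForm.flip_apply, hB, hB]
      simp only [M]
      congr 1
      exact propext ⟨fun h => by rw [← h, hσ], fun h => by rw [← h, hσ]⟩
    conv_lhs => rw [← this]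
    rfl
  have hBn : B.Nondegenerate := by
    rw [LinearMap.BilinForm.nondegenerate_iff_det_ne_zero b, LinearMap.BilinForm.toMatrix_toBilin]
    intro h
    have h' := congrArg Matrix.det hMM
    rw [Matrix.det_mul, h, zero_mul, Matrix.det_one] at h'
    exact zero_ne_one h'
  have hBT : ∀ u v, B (toEnd x u) (toEnd x v) = μ * B u v := fun u v => by
    have : B.comp (toEnd x) (toEnd x) = μ • B := LinearMap.ext_basis b b fun i j => by
      rw [LinearMap.BilinForm.comp_apply, hbd, hbd, map_smul, map_smul, LinearMap.smul_apply, LinearMap.smul_apply,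
        LinearMap.smul_apply, smul_eq_mul, smul_eq_mul, smul_eq_mul, hB]
      simp only [M]
      split_ifs with h
      · rw [mul_one, mul_one, mul_comm, ← h, hpair]
      · ring
    have h' := LinearMap.congr_fun (LinearMap.congr_fun this u) v
    rwa [LinearMap.BilinForm.comp_apply, LinearMap.smul_apply, LinearMap.smul_apply, smul_eq_mul] at h'
  let Q' : QuadraticForm F (Fin r → F) := LinearMap.BilinMap.toQuadraticMap B
  have hQ' : ∀ v, Q' v = B v v := fun v => rfl
  have hQ'n : (polarBilin Q').Nondegenerate := CfsgLib.Classical.Quad.nondegenerate_of_left fun u hu =>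
    hBn.1 u fun v => by
      have h := hu v
      simp only [QuadraticMap.polarBilin_apply_apply, QuadraticMap.polar, hQ', map_add, LinearMap.add_apply,
        hBs v u] at h
      have : (2 : F) * B u v = 0 := by linear_combination h
      exact (mul_eq_zero.1 this).resolve_left h2
  obtain ⟨g, c, hc, hg⟩ := CfsgLib.Classical.Quad.similar_of_odd h2
    (by rw [Module.finrank_fin_fun]; exact (Fact.out : r.Prime).odd_of_ne_two hr2) Q' Qf hQ'n hQn
  refine conj_into_SL _ (fun a _ => diag_centraliser (Fact.out : r.Prime).pos b hbd a) (ofEquiv g.symm)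
    (mem_of_sim Qf hQf hμ fun v => ?_)
  rw [toEnd_conj_equiv, hg, hQ', hBT, mul_left_comm, ← hQ', ← hg, g.apply_symm_apply]

end CfsgLib.Geo.OrthFormDer
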