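/-
Stabilisers of nondegenerate subspaces are maximal in `Ω`.
-/
import Cfsg.Agent.Lib.Geo.OrthNondegTools

set_option autoImplicit false

namespace CfsgLib.Geo.OrthMax

open CfsgLib.Classical CfsgLib.Classical.Quad
open QuadraticMap (polar polarBilin)

variable {F : Type*} [Field F] [Finite F] {V : Type*} [AddCommGroup V] [Module F V]
  [FiniteDimensional F V] {Q : QuadraticForm F V} (hQ : (polarBilin Q).Nondegenerate)
include hQ

theorem stab_nondeg_ne (hn : 5 ≤ Module.finrank F V) {W : Submodule F V} (hW : Nondeg Q W)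
    (h0 : W ≠ ⊥) (h3 : 3 ≤ Module.finrank F (perp Q W)) : stab hQ W ≠ eichGroup hQ := by
  obtain ⟨b', hb', hb'0⟩ := Submodule.exists_mem_ne_zero_of_ne_bot h0
  obtain ⟨b, hb, hbb⟩ := hW.exists_polar_one hb' hb'0
  obtain ⟨p, hp, hp0, hqp⟩ := (hW.perp hQ).exists_singular h3
  have hpb : polar Q p b = 0 := perp_left hp hb
  refine eichGroup_inv_stab_ne hQ (eich_mem hQ hn hqp hpb) hb' fun h => ?_
  rw [eich_apply, hbb, mem_perp.1 hp b' hb'] at h
  simp only [mul_zero, sub_zero, one_smul, neg_zero, zero_smul, add_zero,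
    W.add_mem_iff_right hb'] at h
  exact hp0 (Submodule.disjoint_def.1 (hW.isCompl hQ).disjoint p h hp)

section

variable (hn : 5 ≤ Module.finrank F V) {W : Submodule F V} (hW : Nondeg Q W)
  {K : Subgroup (OQ Q)} (hK : stab hQ W ≤ K)
include hn hW hK

/-- A criterion: it is enough to treat a singular vector of the larger part moved out of it, with a second
vector whose component is independent. -/
theorem seed_reduce (h3 : 3 ≤ Module.finrank F (perp Q W))
    (another : ∀ p ∈ perp Q W, Q p = 0 → p ≠ 0 →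
      ∃ q ∈ perp Q W, Q q = 0 ∧ polar Q p q = 0 ∧ q ∉ Submodule.span F {p})
    (hkm : Module.finrank F W ≤ Module.finrank F (perp Q W))
    (hiso : 2 * Module.finrank F W = Module.finrank F V →
      ∀ g : OQ Q, (perp Q W).map ((g : V ≃ₗ[F] V) : V →ₗ[F] V) ≠ W)
    {g : OQ Q} (hg : g ∉ oStab Q W) {P : Prop}
    (step : ∀ p a w u c d, p ∈ perp Q W → a ∈ perp Q W → Q p = 0 → (Q a = 0 ∨ u = 0) → polar Q p a = 0 →
      w ∈ W → u ∈ perp Q W → c ∈ W → d ∈ perp Q W → w ≠ 0 → w + u = (g : V ≃ₗ[F] V) p →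
      c + d = (g : V ≃ₗ[F] V) a → d ∉ Submodule.span F {u} → P) : P := by
  have hU := hW.perp hQ
  set U := perp Q W
  by_contra hfail
  -- some singular vector of `U` leaves `U`
  obtain ⟨p, hp, hqp, hgp⟩ : ∃ p ∈ U, Q p = 0 ∧ (g : V ≃ₗ[F] V) p ∉ U := by
    by_contra! hc
    refine hg ?_
    rw [← oStab_perp hQ W]
    exact mem_oStab_of_maps fun x hx => hU.le_of_singular (by omega)
      (P := U.comap ((g : V ≃ₗ[F] V) : V →ₗ[F] V)) hc hx
  have bad : ∀ p ∈ U, Q p = 0 → ∀ w u, w ∈ W → u ∈ U → w ≠ 0 → w + u = (g : V ≃ₗ[F] V) p →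
      ∀ a ∈ U, polar Q p a = 0 → (Q a = 0 ∨ u = 0) → ∀ c d, c ∈ W → d ∈ U → c + d = (g : V ≃ₗ[F] V) a →
      d ∈ Submodule.span F {u} :=
    fun p hp hqp w u hw hu hw0 ewu a ha hpa hor c d hc hd' ecd => by
      by_contra hdu
      exact hfail (step p a w u c d hp ha hqp hor hpa hw hu hc hd' hw0 ewu ecd hdu)
  have hp0 : p ≠ 0 := fun e => hgp (by rw [e, map_zero]; exact U.zero_mem)
  -- one of them goes into `W`
  obtain ⟨r, hr, hqr, hr0, hgr⟩ : ∃ r ∈ U, Q r = 0 ∧ r ≠ 0 ∧ (g : V ≃ₗ[F] V) r ∈ W := by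
    obtain ⟨q, hq, hqq, hpq, hqp'⟩ := another p hp hqp hp0
    obtain ⟨w, hw, u, hu, ewu⟩ := hW.exists_add hQ ((g : V ≃ₗ[F] V) p)
    obtain ⟨c, hc, d, hd', ecd⟩ := hW.exists_add hQ ((g : V ≃ₗ[F] V) q)
    have hw0 : w ≠ 0 := fun e => hgp (by rw [← ewu, e, zero_add]; exact hu)
    obtain ⟨l, hl⟩ := Submodule.mem_span_singleton.1
      (bad p hp hqp w u hw hu hw0 ewu q hq hpq (Or.inl hqq) c d hc hd' ecd)
    refine ⟨q - l • p, U.sub_mem hq (U.smul_mem _ hp), ?_, fun e => hqp' ?_, ?_⟩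
    · rw [sub_eq_add_neg, ← neg_smul, apply_add, apply_smul, hqq, hqp, polar_smul_right',
        QuadraticMap.polar_comm, hpq]
      ring
    · rw [sub_eq_zero.1 e]
      exact Submodule.smul_mem _ _ (Submodule.mem_span_singleton_self p)
    · rw [map_sub, map_smul, ← ecd, ← ewu, ← hl]
      rw [show c + l • u - l • (w + u) = c - l • w by module]
      exact W.sub_mem hc (W.smul_mem _ hw)
  have toW : ∀ r ∈ U, Q r = 0 → r ≠ 0 → (g : V ≃ₗ[F] V) r ∈ W → ∀ a ∈ U, polar Q r a = 0 →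
      (g : V ≃ₗ[F] V) a ∈ W := by
    intro r hr hqr hr0 hgr a ha hra
    obtain ⟨c, hc, d, hd', ecd⟩ := hW.exists_add hQ ((g : V ≃ₗ[F] V) a)
    have := bad r hr hqr _ 0 hgr U.zero_mem (fun e => hr0 ((g : V ≃ₗ[F] V).map_eq_zero_iff.1 e))
      (add_zero _) a ha hra (Or.inr rfl) c d hc hd' ecd
    rw [Submodule.mem_span_singleton] at this
    obtain ⟨t, ht⟩ := this
    rw [← ecd, ← ht, smul_zero, add_zero]
    exact hc
  obtain ⟨q, hq, hqq, hrq, hqr'⟩ := another r hr hqr hr0
  have hgq := toW r hr hqr hr0 hgr q hq hrq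
  have hq0 : q ≠ 0 := fun e => hqr' (e ▸ Submodule.zero_mem _)
  have hall : ∀ a ∈ U, (g : V ≃ₗ[F] V) a ∈ W := by
    obtain ⟨y, hy, hqy, hyr⟩ := hU.exists_sep (P := Submodule.span F {r})
      (Submodule.span_le.2 (by simpa using hr)) hq hqr'
    have hry := hyr r (Submodule.mem_span_singleton_self r)
    intro a ha
    rw [show a = (a - polar Q q a • y) + polar Q q a • y by abel, map_add, map_smul]
    refine W.add_mem (toW q hq hqq hq0 hgq _ (U.sub_mem ha (U.smul_mem _ hy)) ?_)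
      (W.smul_mem _ (toW r hr hqr hr0 hgr y hy hry))
    rw [QuadraticMap.polar_sub_right, polar_smul_right', hqy, mul_one, sub_self]
  have hle : U.map ((g : V ≃ₗ[F] V) : V →ₗ[F] V) ≤ W := by
    rintro _ ⟨a, ha, rfl⟩
    exact hall a ha
  have h1 := Submodule.finrank_mono hle
  rw [LinearEquiv.finrank_map_eq] at h1
  have h2 := finrank_perp hQ W
  have h3 := Submodule.finrank_le W
  refine hiso (by rw [show Module.finrank F U = _ from h2] at hkm h1; omega) g
    (Submodule.eq_of_le_of_finrank_le hle ?_)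
  rw [LinearEquiv.finrank_map_eq]
  exact hkm


theorem exists_seed (h5 : 5 ≤ Module.finrank F (perp Q W))
    (hkm : Module.finrank F W ≤ Module.finrank F (perp Q W))
    (hiso : 2 * Module.finrank F W = Module.finrank F V →
      ∀ g : OQ Q, (perp Q W).map ((g : V ≃ₗ[F] V) : V →ₗ[F] V) ≠ W)
    {g : OQ Q} (hgK : g ∈ K) (hg : g ∉ oStab Q W) :
    ∃ x ∈ perp Q W, x ≠ 0 ∧ Q x = 0 ∧ ∃ b ∈ W, b ≠ 0 ∧ Has hQ K x b := by
  have hU := hW.perp hQ
  set U := perp Q W
  have hd := Submodule.disjoint_def.1 (hW.isCompl hQ).disjoint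
  refine seed_reduce hQ hn hW hK (show 3 ≤ Module.finrank F U by omega) ?_ hkm hiso hg
    fun p a w u c d hp ha hqp _ hpa hw hu hc hd' hw0 ewu ecd hdu => ?_
  · intro p hp _ hp0
    let p' : U := ⟨p, hp⟩
    obtain ⟨q, -, hqq, hqP, k, hkP, hqk⟩ := exists_singular_perp hU.comp (Submodule.span F {p'})
      (by rw [finrank_span_singleton fun e : p' = 0 => hp0 (congrArg Subtype.val e)]; omega)
    rw [polar_comp] at hqk
    have h1 := hqP p' (Submodule.mem_span_singleton_self _)
    have h2 := hkP p' (Submodule.mem_span_singleton_self _)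
    rw [polar_comp] at h1 h2
    refine ⟨q, q.2, hqq, h1, fun h => ?_⟩
    obtain ⟨t, ht⟩ := Submodule.mem_span_singleton.1 h
    rw [← ht, polar_smul_left', h2, mul_zero] at hqk
    exact zero_ne_one hqk
  ·
    have h1 : Has hQ K (w + u) (c + d) := by
      rw [ewu, ecd]
      exact (has_stab hQ hn hK (Or.inr ⟨hp, ha⟩)).conj hQ hgK
    have hqz : Q (w + u) = 0 := by rw [ewu, OQ.map_apply, hqp]
    have hza : polar Q (w + u) (c + d) = 0 := by rw [ewu, ecd, OQ.map_polar, hpa]
    -- a singular vector orthogonal to `u` but not to `d`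
    obtain ⟨x, hx, hqx, hux, hdx⟩ : ∃ x ∈ U, Q x = 0 ∧ polar Q u x = 0 ∧ polar Q d x = 1 := by
      obtain ⟨x, hx, hqx, hux, hdx⟩ : ∃ x ∈ U, Q x = 0 ∧ polar Q u x = 0 ∧ polar Q d x ≠ 0 := by
        by_contra! hc
        let u' : U := ⟨u, hu⟩
        have hP : Module.finrank F (Submodule.span F {u'}) ≤ 1 :=
          le_of_le_of_eq (finrank_span_le_card ({u'} : Set U)) (by simp)
        obtain ⟨v, -, hqv, hvP, k, hkP, hvk⟩ :=
          exists_singular_perp hU.comp (Submodule.span F {u'}) (by omega)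
        have huv : polar Q u (v : V) = 0 := by
          rw [← polar_comp U u' v]; exact hvP _ (Submodule.mem_span_singleton_self u')
        have huk : polar Q u (k : V) = 0 := by
          rw [← polar_comp U u' k]; exact hkP _ (Submodule.mem_span_singleton_self u')
        rw [polar_comp] at hvk
        have hqv' : Q (v : V) = 0 := hqv
        obtain ⟨y, hy, hdy, hy'⟩ := hU.exists_sep (P := Submodule.span F {u})
          (Submodule.span_le.2 (Set.singleton_subset_iff.2 hu)) hd' hdu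
        have huy := hy' u (Submodule.mem_span_singleton_self u)
        have hle : U ⊓ LinearMap.ker ((polarBilin Q) u) ≤ LinearMap.ker ((polarBilin Q) d) := by
          refine OrthMax.le_of_singular (Q := Q) (u := (v : V)) (f := (k : V) + (-Q (k : V)) • (v : V))
            ⟨v.2, huv⟩ ⟨U.add_mem k.2 (U.smul_mem _ v.2), ?_⟩ hqv' ?_ ?_ fun x hx hqx => ?_
          · show polar Q u _ = 0
            rw [polar_add_right', polar_smul_right', huk, huv, mul_zero, add_zero]
          · rw [apply_add, apply_smul, polar_smul_right', QuadraticMap.polar_comm, hvk, hqv']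
            ring
          · rw [polar_add_right', polar_smul_right', hvk, polar_self', hqv']
            ring
          · exact hc x hx.1 hqx hx.2
        exact one_ne_zero (hdy ▸ hle ⟨hy, huy⟩ : (1 : F) = 0)
      refine ⟨(polar Q d x)⁻¹ • x, U.smul_mem _ hx, ?_, ?_, ?_⟩
      · rw [apply_smul, hqx, mul_zero]
      · rw [polar_smul_right', hux, mul_zero]
      · rw [polar_smul_right', inv_mul_cancel₀ hdx]
    have hzx : polar Q (w + u) x = 0 := by
      rw [polar_add_left', mem_perp.1 hx w hw, hux, add_zero]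
    have hneg : Has hQ K (w + u) (-(c + d)) := fun hw' ha' => by
      rw [← eich_inv hQ hqz hza]
      exact K.inv_mem (h1 hqz hza)
    -- the differences `δ y` of conjugates
    set δ : V → V := fun y => (polar Q d y - Q y) • x + (-1 : F) • y with hδ
    have hδz : ∀ y ∈ U, polar Q x y = 0 → polar Q u y = 0 → polar Q (w + u) (δ y) = 0 := by
      intro y hy _ huy
      simp only [hδ]
      rw [polar_add_right', polar_smul_right', hzx, polar_smul_right', polar_add_left', mem_perp.1 hy w hw, huy]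
      ring
    have hδK : ∀ y ∈ U, polar Q x y = 0 → polar Q u y = 0 → Has hQ K (w + u) (δ y) := by
      intro y hy hxy huy
      have he : eich hQ hqx hxy ∈ K := has_stab hQ hn hK (Or.inr ⟨hx, hy⟩) hqx hxy
      have h2 := h1.conj hQ he
      have ez : (eich hQ hqx hxy : V ≃ₗ[F] V) (w + u) = w + u := by
        rw [eich_apply, polar_add_left', polar_add_left', mem_perp.1 hx w hw, mem_perp.1 hy w hw,
          hux, huy]
        simp
      have ea : (eich hQ hqx hxy : V ≃ₗ[F] V) (c + d) = (c + d) + δ y := by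
        rw [eich_apply, polar_add_left', polar_add_left', mem_perp.1 hx c hc, mem_perp.1 hy c hc, hdx]
        simp only [hδ, zero_add, mul_one]
        module
      rw [ez, ea] at h2
      have := hneg.add hQ h2 (by rw [QuadraticMap.polar_neg_right, hza, neg_zero])
      rwa [neg_add_cancel_left] at this
    obtain ⟨y₁, hy₁, y₂, hy₂, hx₁, hu₁, hx₂, hu₂, hy₁₂⟩ : ∃ y₁ ∈ U, ∃ y₂ ∈ U, polar Q x y₁ = 0 ∧
        polar Q u y₁ = 0 ∧ polar Q x y₂ = 0 ∧ polar Q u y₂ = 0 ∧ polar Q y₁ y₂ = 1 := by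
      let P : Submodule F U := Submodule.span F (Set.range ![(⟨u, hu⟩ : U), ⟨x, hx⟩])
      have hP : Module.finrank F P ≤ 2 :=
        le_of_le_of_eq (finrank_range_le_card (R := F) ![(⟨u, hu⟩ : U), ⟨x, hx⟩]) (Fintype.card_fin 2)
      obtain ⟨S, hSP, hS, hSd⟩ := exists_nondeg_subspace hU.comp P
      have hpos : 0 < Module.finrank F S := by omega
      rw [Module.finrank_pos_iff_exists_ne_zero] at hpos
      obtain ⟨y, hy0⟩ := hpos
      obtain ⟨y', hyy', -⟩ := exists_sep_polar hS (U := ⊥) (x := y) (by simpa using hy0)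
      refine ⟨((y : U) : V), (y : U).2, ((y' : U) : V), (y' : U).2, ?_, ?_, ?_, ?_, ?_⟩
      · rw [← polar_comp U ⟨x, hx⟩ y]; exact hSP _ y.2 _ (Submodule.subset_span ⟨1, rfl⟩)
      · rw [← polar_comp U ⟨u, hu⟩ y]; exact hSP _ y.2 _ (Submodule.subset_span ⟨0, rfl⟩)
      · rw [← polar_comp U ⟨x, hx⟩ y']; exact hSP _ y'.2 _ (Submodule.subset_span ⟨1, rfl⟩)
      · rw [← polar_comp U ⟨u, hu⟩ y']; exact hSP _ y'.2 _ (Submodule.subset_span ⟨0, rfl⟩)
      · rw [← polar_comp U (y : U) (y' : U), ← polar_comp S y y']; exact hyy'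
    have hx₁₂ : polar Q x (y₁ + y₂) = 0 := by rw [polar_add_right', hx₁, hx₂, add_zero]
    have hu₁₂ : polar Q u (y₁ + y₂) = 0 := by rw [polar_add_right', hu₁, hu₂, add_zero]
    have hsum : Has hQ K (w + u) (-δ (y₁ + y₂)) := fun hw' _ => by
      rw [← eich_inv hQ hw' (hδz _ (U.add_mem hy₁ hy₂) hx₁₂ hu₁₂)]
      exact K.inv_mem (hδK _ (U.add_mem hy₁ hy₂) hx₁₂ hu₁₂ hw' _)
    have hx3 : Has hQ K (w + u) x := by
      have := (hδK y₁ hy₁ hx₁ hu₁).add hQ ((hδK y₂ hy₂ hx₂ hu₂).add hQ hsum (hδz y₂ hy₂ hx₂ hu₂))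
        (hδz y₁ hy₁ hx₁ hu₁)
      have e : δ y₁ + (δ y₂ + -δ (y₁ + y₂)) = x := by
        simp only [hδ, apply_add, polar_add_right', hy₁₂]
        module
      rwa [e] at this
    have hx4 : Has hQ K x (-(w + u)) := by
      intro h h'
      rw [← eich_swap hQ hqz hzx h]
      exact hx3 hqz hzx
    have hxu : Has hQ K x u := has_stab hQ hn hK (Or.inr ⟨hx, hu⟩)
    have hx5 := hx4.add hQ hxu (by rw [QuadraticMap.polar_neg_right, QuadraticMap.polar_comm, hzx, neg_zero])
    rw [show -(w + u) + u = -w by abel] at hx5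
    refine ⟨x, hx, fun e => ?_, hqx, -w, W.neg_mem hw, neg_ne_zero.2 hw0, hx5⟩
    rw [e, QuadraticMap.polar_zero_right] at hdx
    exact zero_ne_one hdx

/-- Singular vectors of `U` are exchanged by elements of `K` fixing `W` pointwise. -/
theorem exists_stab_move (hU4 : 4 ≤ Module.finrank F (perp Q W)) {p p' : V} (hp : p ∈ perp Q W)
    (hqp : Q p = 0) (hp0 : p ≠ 0) (hp' : p' ∈ perp Q W) (hqp' : Q p' = 0) (hp'0 : p' ≠ 0) :
    ∃ h ∈ K, (∀ w ∈ W, (h : V ≃ₗ[F] V) w = w) ∧ (h : V ≃ₗ[F] V) p = p' := by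
  have hU := hW.perp hQ
  set U := perp Q W
  have step : ∀ p p' z, p ∈ U → p' ∈ U → z ∈ U → Q p = 0 → Q p' = 0 → Q z = 0 → polar Q z p = 1 →
      polar Q z p' = 1 → ∃ h ∈ K, (∀ w ∈ W, (h : V ≃ₗ[F] V) w = w) ∧ (h : V ≃ₗ[F] V) p = p' := by
    intro p p' z hp hp' hz hqp hqp' hqz hzp hzp'
    have hza : polar Q z (p - p') = 0 := by rw [QuadraticMap.polar_sub_right, hzp, hzp', sub_self]
    refine ⟨eich hQ hqz hza, has_stab hQ hn hK (Or.inr ⟨hz, U.sub_mem hp hp'⟩) hqz hza,
      fun w hw => ?_, ?_⟩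
    · rw [eich_apply, mem_perp.1 hz w hw, mem_perp.1 (U.sub_mem hp hp') w hw]
      simp
    · rw [eich_apply, QuadraticMap.polar_sub_right, sub_eq_add_neg p p', apply_add,
        QuadraticMap.map_neg, QuadraticMap.polar_neg_right, polar_self', hqp, hqp',
        QuadraticMap.polar_comm (⇑Q) p z, hzp]
      module
  have indep : ∀ p p', p ∈ U → p' ∈ U → Q p = 0 → Q p' = 0 → p ∉ Submodule.span F {p'} →
      p' ∉ Submodule.span F {p} →
      ∃ h ∈ K, (∀ w ∈ W, (h : V ≃ₗ[F] V) w = w) ∧ (h : V ≃ₗ[F] V) p = p' := by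
    intro p p' hp hp' hqp hqp' hne hne'
    by_cases hβ : polar Q p p' = 0
    · obtain ⟨a, ha, hpa, ha'⟩ := hU.exists_sep (P := Submodule.span F {p'})
        (Submodule.span_le.2 (Set.singleton_subset_iff.2 hp')) hp hne
      obtain ⟨b, hb, hpb, hb'⟩ := hU.exists_sep (P := Submodule.span F {p})
        (Submodule.span_le.2 (Set.singleton_subset_iff.2 hp)) hp' hne'
      have hap' := ha' p' (Submodule.mem_span_singleton_self _)
      have hbp := hb' p (Submodule.mem_span_singleton_self _)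
      have hβ' : polar Q p' p = 0 := by rw [QuadraticMap.polar_comm, hβ]
      have h1 : polar Q p (a + b) = 1 := by rw [polar_add_right', hpa, hbp, add_zero]
      refine step p p' (a + b + (-Q (a + b)) • p) hp hp' (U.add_mem (U.add_mem ha hb) (U.smul_mem _ hp))
        hqp hqp' ?_ ?_ ?_
      · rw [apply_add (a + b), apply_smul, hqp, polar_smul_right', QuadraticMap.polar_comm, h1]
        ring
      · rw [QuadraticMap.polar_comm, polar_add_right', polar_smul_right', h1, polar_self', hqp]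
        ring
      · rw [QuadraticMap.polar_comm, polar_add_right', polar_add_right', polar_smul_right', hap', hpb, hβ']
        ring
    · set β := polar Q p p' with hβdef
      set U' := U ⊓ LinearMap.ker ((polarBilin Q) p) ⊓ LinearMap.ker ((polarBilin Q) p') with hU'
      have hmem : ∀ x, x ∈ U' ↔ x ∈ U ∧ polar Q p x = 0 ∧ polar Q p' x = 0 := fun x => and_assoc
      have hβ' : polar Q p' p = β := by rw [QuadraticMap.polar_comm]
      have hnd : Nondeg Q U' := fun x hx h => by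
        obtain ⟨hxU, hpx, hpx'⟩ := (hmem x).1 hx
        refine hU x hxU fun y hy => ?_
        set r := y + (-(polar Q p' y / β)) • p + (-(polar Q p y / β)) • p' with hr
        have hrU : r ∈ U' := by
          rw [hmem]
          refine ⟨U.add_mem (U.add_mem hy (U.smul_mem _ hp)) (U.smul_mem _ hp'), ?_, ?_⟩ <;>
            rw [hr, polar_add_right', polar_add_right', polar_smul_right', polar_smul_right', polar_self'] <;>
            simp only [hqp, hqp', ← hβdef, hβ'] <;> field_simp <;> ring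
        have h1 := h r hrU
        rw [hr, polar_add_right', polar_add_right', polar_smul_right', polar_smul_right',
          QuadraticMap.polar_comm (⇑Q) x p, hpx, QuadraticMap.polar_comm (⇑Q) x p', hpx'] at h1
        linear_combination h1
      have hdim : 2 ≤ Module.finrank F U' := by
        let φ : U →ₗ[F] F × F := (((polarBilin Q) p).comp U.subtype).prod (((polarBilin Q) p').comp U.subtype)
        have h1 := LinearMap.finrank_range_add_finrank_ker φ
        have h2 := Submodule.finrank_le (LinearMap.range φ)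
        rw [Module.finrank_prod, Module.finrank_self] at h2
        have h3 : (LinearMap.ker φ).map U.subtype ≤ U' := by
          rintro _ ⟨y, hy, rfl⟩
          exact (hmem _).2 ⟨y.2, Prod.ext_iff.1 hy⟩
        have h4 := Submodule.finrank_mono h3
        rw [LinearEquiv.finrank_eq (Submodule.equivMapOfInjective U.subtype U.injective_subtype
          (LinearMap.ker φ)).symm] at h4
        omega
      obtain ⟨m, hm⟩ := exists_apply_eq hnd.comp hdim (neg_ne_zero.2 (inv_ne_zero hβ))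
      have hm' : Q (m : V) = -β⁻¹ := hm
      obtain ⟨hmU, hpm, hpm'⟩ := (hmem _).1 m.2
      refine step p p' (β⁻¹ • p + β⁻¹ • p' + (m : V)) hp hp'
        (U.add_mem (U.add_mem (U.smul_mem _ hp) (U.smul_mem _ hp')) hmU) hqp hqp' ?_ ?_ ?_
      · simp only [apply_add, apply_smul, polar_add_left', polar_smul_left', polar_smul_right', hqp, hqp',
          hm', hpm, hpm', ← hβdef]
        field_simp
        ring
      · rw [QuadraticMap.polar_comm, polar_add_right', polar_add_right', polar_smul_right', polar_smul_right',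
          polar_self', hqp, hpm, ← hβdef, inv_mul_cancel₀ hβ]
        ring
      · rw [QuadraticMap.polar_comm, polar_add_right', polar_add_right', polar_smul_right', polar_smul_right',
          polar_self', hqp', hpm', hβ', inv_mul_cancel₀ hβ]
        ring
  by_cases hdep : p' ∈ Submodule.span F {p}
  · obtain ⟨f, hf, hqf, hpf⟩ := hU.exists_pair hp hqp hp0
    obtain ⟨c, rfl⟩ := Submodule.mem_span_singleton.1 hdep
    have hc : c ≠ 0 := fun e => hp'0 (by rw [e, zero_smul])
    have hpp : polar Q p p = 0 := by rw [polar_self', hqp, mul_zero]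
    have hnp : f ∉ Submodule.span F {p} := fun h => by
      obtain ⟨t, rfl⟩ := Submodule.mem_span_singleton.1 h
      rw [polar_smul_right', hpp, mul_zero] at hpf
      exact zero_ne_one hpf
    have hnf : p ∉ Submodule.span F {f} := fun h => by
      obtain ⟨t, ht⟩ := Submodule.mem_span_singleton.1 h
      rw [← ht, polar_smul_left', polar_self', hqf, mul_zero, mul_zero] at hpf
      exact zero_ne_one hpf
    obtain ⟨h₁, k₁, v₁, e₁⟩ := indep p f hp hf hqp hqf hnf hnp
    obtain ⟨h₂, k₂, v₂, e₂⟩ := indep f (c • p) hf hp' hqf hqp'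
      (fun h => hnp (Submodule.span_singleton_smul_le F c p h))
      (fun h => hnf ((Submodule.smul_mem_iff _ hc).1 h))
    refine ⟨h₂ * h₁, K.mul_mem k₂ k₁, fun w hw => ?_, ?_⟩
    · show (h₂ : V ≃ₗ[F] V) ((h₁ : V ≃ₗ[F] V) w) = w
      rw [v₁ w hw, v₂ w hw]
    · show (h₂ : V ≃ₗ[F] V) ((h₁ : V ≃ₗ[F] V) p) = _
      rw [e₁, e₂]
  · refine indep p p' hp hp' hqp hqp' (fun h => hdep ?_) hdep
    obtain ⟨c, hc⟩ := Submodule.mem_span_singleton.1 h
    refine Submodule.mem_span_singleton.2 ⟨c⁻¹, ?_⟩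
    rw [← hc, inv_smul_smul₀ fun e => hp0 (by rw [← hc, e, zero_smul])]

/-- All the groups `(p, b)` for `p` singular in `U`. -/
theorem full_of_one (hU4 : 4 ≤ Module.finrank F (perp Q W)) {p₀ : V} (hp₀ : p₀ ∈ perp Q W)
    (hq₀ : Q p₀ = 0) (h0 : p₀ ≠ 0) {b : V} (hb : b ∈ W) (hT : Has hQ K p₀ b) :
    ∀ p ∈ perp Q W, Q p = 0 → Has hQ K p b := by
  intro p hp hqp
  by_cases hpz : p = 0
  · subst hpz
    intro _ _
    rw [eich_zero_left]
    exact K.one_mem
  obtain ⟨g, hgK, hfix, hgp⟩ := exists_stab_move hQ hn hW hK hU4 hp₀ hq₀ h0 hp hqp hpz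
  have h := hT.conj hQ hgK
  rwa [hfix b hb, hgp] at h

theorem full_all (hU4 : 4 ≤ Module.finrank F (perp Q W)) {p₀ : V} (hp₀ : p₀ ∈ perp Q W)
    (hq₀ : Q p₀ = 0) (h0 : p₀ ≠ 0) {b : V} (hb : b ∈ W) (hb0 : b ≠ 0) (hT : Has hQ K p₀ b)
    (hex : Module.finrank F W = 2 → (∃ u ∈ W, u ≠ 0 ∧ Q u = 0) → 4 ≤ Nat.card F) :
    ∀ b ∈ W, ∀ p ∈ perp Q W, Q p = 0 → Has hQ K p b := by
  let B : Submodule F V :=
    { carrier := {b | b ∈ W ∧ ∀ p ∈ perp Q W, Q p = 0 → Has hQ K p b}
      zero_mem' := ⟨W.zero_mem, fun p _ hqp _ _ => by rw [eich_zero_right hQ hqp]; exact K.one_mem⟩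
      add_mem' := fun {a a'} ha ha' => ⟨W.add_mem ha.1 ha'.1, fun p hp hqp =>
        (ha.2 p hp hqp).add hQ (ha'.2 p hp hqp) (perp_left hp ha.1)⟩
      smul_mem' := fun c a ha => ⟨W.smul_mem _ ha.1, fun p hp hqp => by
        rcases eq_or_ne c 0 with rfl | hc
        · intro _ _
          simp_rw [zero_smul]
          rw [eich_zero_right hQ hqp]
          exact K.one_mem
        · exact (ha.2 (c • p) (Submodule.smul_mem _ _ hp)
            (by rw [apply_smul, hqp, mul_zero])).smul_left hQ hc⟩ }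
  have hbB : b ∈ B := ⟨hb, full_of_one hQ hn hW hK hU4 hp₀ hq₀ h0 hb hT⟩
  have hBW : B ≤ W := fun x hx => hx.1
  suffices W ≤ B from fun x hx => (this hx).2
  have move : ∀ h ∈ K, ∀ (x x' : V), x ∈ B → x' ∈ W → (h : V ≃ₗ[F] V) p₀ = p₀ →
      (h : V ≃ₗ[F] V) x = x' → x' ∈ B := by
    intro h hh x x' hx hx' hp e
    refine ⟨hx', full_of_one hQ hn hW hK hU4 hp₀ hq₀ h0 hx' ?_⟩
    have := (hx.2 p₀ hp₀ hq₀).conj hQ hh
    rwa [hp, e] at this
  rcases Nat.lt_or_ge (Module.finrank F W) 2 with h1 | h2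
  · intro x hx
    have hd : Module.finrank F W = 1 := by
      have : W ≠ ⊥ := fun e => hb0 (by rw [e] at hb; exact (Submodule.mem_bot F).1 hb)
      have : Module.finrank F W ≠ 0 := fun e => this (Submodule.finrank_eq_zero.1 e)
      omega
    obtain ⟨c, hc⟩ := exists_smul_eq_of_finrank_eq_one hd (x := (⟨b, hb⟩ : W))
      (fun e => hb0 (congrArg Subtype.val e)) ⟨x, hx⟩
    rw [← show c • b = x from congrArg Subtype.val hc]
    exact B.smul_mem _ hbB
  rcases Nat.lt_or_ge (Module.finrank F W) 3 with h3 | h3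
  · refine le_of_invariant_two hW (by omega) hBW hbB hb0 (hex (by omega)) fun v hv hqv x hx => ?_
    have hU := hW.perp hQ
    obtain ⟨r, hqr, hr⟩ := exists_apply_eq_perp hU.comp
      (Submodule.span F {(⟨p₀, hp₀⟩ : perp Q W)})
      (by rw [finrank_span_singleton fun e => h0 (congrArg Subtype.val e)]; omega) hqv
    have hqr' : Q (r : V) = Q v := hqr
    have hpr : polar Q p₀ (r : V) = 0 := by
      have := hr _ (Submodule.mem_span_singleton_self _)
      rwa [polar_comp] at this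
    have hr0 : Q (r : V) ≠ 0 := by rw [hqr']; exact hqv
    have hm := refl_mul_refl_mem hQ hn hqv hr0 hqr'.symm
    have happ : ∀ z, ((refl hqv * refl hr0 : OQ Q) : V ≃ₗ[F] V) z =
        (refl hqv : V ≃ₗ[F] V) ((refl hr0 : V ≃ₗ[F] V) z) := fun z => rfl
    have hrW : ∀ z ∈ W, (refl hr0 : V ≃ₗ[F] V) z = z := fun z hz => by
      rw [refl_apply, mem_perp.1 r.2 z hz, mul_zero, zero_smul, sub_zero]
    have hmK : refl hqv * refl hr0 ∈ K := hK ⟨mem_oStab_of_maps fun z hz => by
      rw [happ, hrW z hz, refl_apply]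
      exact W.sub_mem hz (W.smul_mem _ hv), hm⟩
    refine move _ hmK x _ hx (W.add_mem (hBW hx) (W.smul_mem _ hv)) ?_ ?_
    · rw [happ, refl_apply hr0, hpr, mul_zero, zero_smul, sub_zero, refl_apply,
        perp_left hp₀ hv, mul_zero, zero_smul, sub_zero]
    · rw [happ, hrW x (hBW hx), refl_apply, neg_smul, sub_eq_add_neg]
  · refine le_of_invariant_three hW h3 hBW hbB hb0 fun x hx hqx a ha hxa => ?_
    refine move (eich hQ hqx hxa) (has_stab hQ hn hK (Or.inl ⟨hx, ha⟩) hqx hxa) b _ hbB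
      (W.add_mem (W.add_mem hb (W.smul_mem _ hx)) (W.smul_mem _ ha)) ?_ (eich_apply hQ hqx hxa b)
    rw [eich_apply, perp_left hp₀ hx, perp_left hp₀ ha]
    simp

theorem le_of_full (hU3 : 3 ≤ Module.finrank F (perp Q W))
    (hall : ∀ b ∈ W, ∀ p ∈ perp Q W, Q p = 0 → Has hQ K p b) : eichGroup hQ ≤ K := by
  have hU := hW.perp hQ
  have rootU : ∀ q ∈ perp Q W, Q q = 0 → HasRoot hQ K q := by
    intro q hq hqq a
    obtain ⟨b, hb, c, hc, rfl⟩ := hW.exists_add hQ a
    exact (hall b hb q hq hqq).add hQ (has_stab hQ hn hK (Or.inr ⟨hq, hc⟩)) (perp_left hq hb)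
  have rootAll : ∀ z, Q z = 0 → z ∉ W → HasRoot hQ K z := by
    intro z hqz hzW
    obtain ⟨w, hw, u, hu, rfl⟩ := hW.exists_add hQ z
    have hu0 : u ≠ 0 := fun e => hzW (by rwa [e, add_zero])
    obtain ⟨p, hp, hqp, hup⟩ : ∃ p ∈ perp Q W, Q p = 0 ∧ polar Q u p = 1 := by
      obtain ⟨p, hp, hqp, hup⟩ : ∃ p ∈ perp Q W, Q p = 0 ∧ polar Q u p ≠ 0 := by
        by_contra! hc
        exact hu0 (hU u hu fun y hy => hU.le_of_singular hU3
          (P := LinearMap.ker ((polarBilin Q) u)) hc hy)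
      exact ⟨(polar Q u p)⁻¹ • p, Submodule.smul_mem _ _ hp, by rw [apply_smul, hqp, mul_zero],
        by rw [polar_smul_right', inv_mul_cancel₀ hup]⟩
    have hzq : Q w + Q u = 0 := by
      rw [← hqz, apply_add, mem_perp.1 hu w hw, add_zero]
    set q := u + Q w • p with hq
    have hqq : Q q = 0 := by
      rw [hq, apply_add, apply_smul, polar_smul_right', hqp, hup]
      linear_combination hzq
    have hpw : polar Q p (-w) = 0 := by rw [QuadraticMap.polar_neg_right, perp_left hp hw, neg_zero]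
    have he : eich hQ hqp hpw ∈ K := hall (-w) (W.neg_mem hw) p hp hqp hqp hpw
    have h := (rootU q (Submodule.add_mem _ hu (Submodule.smul_mem _ _ hp)) hqq).conj hQ he
    have e : (eich hQ hqp hpw : V ≃ₗ[F] V) q = w + u := by
      have hqw : polar Q q w = 0 :=
        perp_left (Submodule.add_mem _ hu (Submodule.smul_mem _ _ hp)) hw
      have hqp' : polar Q q p = 1 := by
        rw [hq, polar_add_left', polar_smul_left', polar_self', hqp, hup]; ring
      rw [eich_apply, QuadraticMap.polar_neg_right, hqw, QuadraticMap.map_neg, hqp', hq]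
      module
    rwa [e] at h
  refine le_of_has hQ hn fun w a hqw hqa hwa => ?_
  by_cases hw : w ∈ W
  swap
  · exact rootAll w hqw hw a
  by_cases ha : a ∈ W
  swap
  · exact (rootAll a hqa ha (-w)).swap hQ hqw hqa
  exact has_stab hQ hn hK (Or.inl ⟨hw, ha⟩)

end

theorem le_of_stab_nondeg_lt {W : Submodule F V} (hW : Nondeg Q W)
    (h5 : 5 ≤ Module.finrank F (perp Q W))
    (hkm : Module.finrank F W ≤ Module.finrank F (perp Q W))
    (hiso : 2 * Module.finrank F W = Module.finrank F V →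
      ∀ g : OQ Q, (perp Q W).map ((g : V ≃ₗ[F] V) : V →ₗ[F] V) ≠ W)
    (hex : Module.finrank F W = 2 → (∃ u ∈ W, u ≠ 0 ∧ Q u = 0) → 4 ≤ Nat.card F)
    {K : Subgroup (OQ Q)} (hlt : stab hQ W < K) (hKE : K ≤ eichGroup hQ) : eichGroup hQ ≤ K := by
  have hn : 5 ≤ Module.finrank F V := by have := Submodule.finrank_le (perp Q W); omega
  obtain ⟨g, hgK, hg⟩ := SetLike.exists_of_lt hlt
  obtain ⟨p, hp, hp0, hqp, b, hb, hb0, hT⟩ := exists_seed hQ hn hW hlt.le h5 hkm hiso hgK
    fun h => hg ⟨h, hKE hgK⟩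
  exact le_of_full hQ hn hW hlt.le (by omega)
    (full_all hQ hn hW hlt.le (by omega) hp hqp hp0 hb hb0 hT hex)

/-- Halves exchanged by an isometry give a totally singular subspace of half the dimension. -/
theorem exists_singular_half {W : Submodule F V} (hW : Nondeg Q W)
    (hev : Even (Module.finrank F W)) {g : OQ Q}
    (hg : (perp Q W).map ((g : V ≃ₗ[F] V) : V →ₗ[F] V) = W) :
    ∃ S : Submodule F V, (∀ s ∈ S, Q s = 0) ∧ 2 * Module.finrank F S = Module.finrank F V := by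
  have hU := hW.perp hQ
  have hfW : Module.finrank F W = Module.finrank F (perp Q W) := by
    conv_lhs => rw [← hg]
    rw [LinearEquiv.finrank_map_eq]
  obtain ⟨J, hJ⟩ := exists_neg_similitude (Q.comp (perp Q W).subtype) hU.comp (hfW ▸ hev)
  let φ : perp Q W →ₗ[F] V := (perp Q W).subtype +
    ((g : V ≃ₗ[F] V) : V →ₗ[F] V) ∘ₗ (perp Q W).subtype ∘ₗ J.toLinearMap
  have hφ : ∀ u, φ u = (u : V) + (g : V ≃ₗ[F] V) (J u : V) := fun u => rfl
  have hmem : ∀ u : perp Q W, (g : V ≃ₗ[F] V) (J u : V) ∈ W := fun u =>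
    hg.le ⟨_, (J u).2, rfl⟩
  have hinj : Function.Injective φ := by
    rw [injective_iff_map_eq_zero]
    intro u hu
    rw [hφ] at hu
    refine Subtype.ext (Submodule.disjoint_def.1 (hW.isCompl hQ).disjoint _ ?_ u.2)
    rw [eq_neg_of_add_eq_zero_left hu]
    exact W.neg_mem (hmem u)
  refine ⟨LinearMap.range φ, ?_, ?_⟩
  · rintro _ ⟨u, rfl⟩
    have h := hJ u
    simp only [QuadraticMap.comp_apply, Submodule.subtype_apply] at h
    rw [hφ, apply_add, OQ.map_apply, h, perp_left u.2 (hmem u)]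
    ring
  · rw [LinearMap.finrank_range_of_inj hinj]
    have h2 := finrank_perp hQ W
    have h3 := Submodule.finrank_le W
    omega

end CfsgLib.Geo.OrthMax

namespace CfsgLib.Geo.OrthMax

open CfsgLib.Classical CfsgLib.Classical.Quad
open QuadraticMap (polar polarBilin)

variable {F : Type*} [Field F] [Finite F] {ι : Type} [Fintype ι] [DecidableEq ι]

theorem isMaximalIn_nondeg' {Q : QuadraticForm F (ι → F)} (hQ : (polarBilin Q).Nondegenerate)
    (hn : 8 ≤ Fintype.card ι) {W : Submodule F (ι → F)} (hW : Nondeg Q W) (h0 : W ≠ ⊥) (h1 : W ≠ ⊤)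
    (h8 : Fintype.card ι = 8 → Module.finrank F W ≠ 4)
    (hex : Module.finrank F W = 2 → (∃ u ∈ W, u ≠ 0 ∧ Q u = 0) → 4 ≤ Nat.card F)
    (hexU : Module.finrank F (perp Q W) = 2 → (∃ u ∈ perp Q W, u ≠ 0 ∧ Q u = 0) → 4 ≤ Nat.card F)
    (hiso : 2 * Module.finrank F W = Fintype.card ι →
      ∀ g : OQ Q, (perp Q W).map ((g : (ι → F) ≃ₗ[F] (ι → F)) : (ι → F) →ₗ[F] (ι → F)) ≠ W) :
    Cfsg.Geo.IsMaximalIn (Cfsg.Geo.omegaGL (⇑Q))
      (Cfsg.Geo.subspaceStabilizer W ⊓ Cfsg.Geo.omegaGL (⇑Q)) := by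
  have hn' : Module.finrank F (ι → F) = Fintype.card ι := Module.finrank_pi F
  have hd := finrank_perp hQ W
  have hle := Submodule.finrank_le W
  have hU := hW.perp hQ
  have hst : stab hQ (perp Q W) = stab hQ W := by rw [stab, stab, oStab_perp hQ]
  have hpp := perp_perp hQ W
  by_cases hcase : Module.finrank F W ≤ Module.finrank F (perp Q W)
  · refine isMaximalIn_omega hQ (by omega) W (stab_nondeg_ne hQ (by omega) hW h0 (by omega))
      fun K hK hKE => le_of_stab_nondeg_lt hQ hW (by omega) hcase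
        (fun h => hiso (by omega)) hex hK hKE
  · have h0' : perp Q W ≠ ⊥ := fun e => h1 (by
      rw [← hpp, e]
      exact eq_top_iff.2 fun x _ => mem_perp.2 fun w hw => by
        rw [(Submodule.mem_bot F).1 hw, QuadraticMap.polar_zero_left])
    refine isMaximalIn_omega hQ (by omega) W ?_ fun K hK hKE => ?_
    · rw [← hst]
      exact stab_nondeg_ne hQ (by omega) hU h0' (by rw [hpp]; omega)
    · rw [← hst] at hK
      exact le_of_stab_nondeg_lt hQ hU (by rw [hpp]; omega) (by rw [hpp]; omega)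
        (fun h => absurd h (by omega)) hexU hK hKE

theorem isMaximalIn_nondeg {Q : QuadraticForm F (ι → F)} (hQ : (polarBilin Q).Nondegenerate)
    (hn : 9 ≤ Fintype.card ι) {W : Submodule F (ι → F)} (hW : Nondeg Q W) (h0 : W ≠ ⊥) (h1 : W ≠ ⊤)
    (hex : Module.finrank F W = 2 → (∃ u ∈ W, u ≠ 0 ∧ Q u = 0) → 4 ≤ Nat.card F)
    (hexU : Module.finrank F (perp Q W) = 2 → (∃ u ∈ perp Q W, u ≠ 0 ∧ Q u = 0) → 4 ≤ Nat.card F)
    (hiso : 2 * Module.finrank F W = Fintype.card ι →
      ∀ g : OQ Q, (perp Q W).map ((g : (ι → F) ≃ₗ[F] (ι → F)) : (ι → F) →ₗ[F] (ι → F)) ≠ W) :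
    Cfsg.Geo.IsMaximalIn (Cfsg.Geo.omegaGL (⇑Q))
      (Cfsg.Geo.subspaceStabilizer W ⊓ Cfsg.Geo.omegaGL (⇑Q)) :=
  isMaximalIn_nondeg' hQ (by omega) hW h0 h1 (fun h => by omega) hex hexU hiso

end CfsgLib.Geo.OrthMax
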