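/-
Stabilisers of non-degenerate four-spaces in eight-dimensional minus spaces are maximal in `Ω`.
-/
import Cfsg.Agent.Lib.Geo.OrthNondeg
import Cfsg.Agent.Lib.Geo.Asch.OrthType

set_option autoImplicit false

namespace CfsgLib.Geo.OrthMax

open CfsgLib.Classical CfsgLib.Classical.Quad
open QuadraticMap (polar polarBilin)

section

variable {F : Type*} [Field F] [Finite F] {V : Type*} [AddCommGroup V] [Module F V]
  [FiniteDimensional F V] {Q : QuadraticForm F V} (hQ : (polarBilin Q).Nondegenerate)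
  (hn : 5 ≤ Module.finrank F V) {W : Submodule F V} (hW : Nondeg Q W)
  {K : Subgroup (OQ Q)} (hK : stab hQ W ≤ K)
include hQ hn hW hK

/-- A singular `e` in `U`, orthogonal to the part `u` of `w + u`, gives the root element `(e, -w)`. -/
theorem seed_of_singular {w u e : V} (hw : w ∈ W) (hu : u ∈ perp Q W) (he : e ∈ perp Q W)
    (hqz : Q (w + u) = 0) (hqe : Q e = 0) (hue : polar Q u e = 0) (h : Has hQ K (w + u) e) :
    Has hQ K e (-w) := by
  have hze : polar Q (w + u) e = 0 := by rw [polar_add_left', mem_perp.1 he w hw, hue, add_zero]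
  have h1 : Has hQ K e (-(w + u)) := by
    intro h' h''
    rw [← eich_swap hQ hqz hze h']
    exact h hqz hze
  have h2 := h1.add hQ (has_stab hQ hn hK (Or.inr ⟨he, hu⟩))
    (by rw [QuadraticMap.polar_neg_right, QuadraticMap.polar_comm, hze, neg_zero])
  rwa [show -(w + u) + u = -w by abel] at h2

/-- The case of a singular part `u`. -/
theorem seed_of_singular_part (h3 : 3 ≤ Module.finrank F (perp Q W))
    (another : ∀ p ∈ perp Q W, Q p = 0 → p ≠ 0 →
      ∃ q ∈ perp Q W, Q q = 0 ∧ polar Q p q = 0 ∧ q ∉ Submodule.span F {p})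
    {w u c d : V} (hw : w ∈ W) (hu : u ∈ perp Q W) (hc : c ∈ W) (hd : d ∈ perp Q W) (hqz : Q (w + u) = 0)
    (hza : polar Q (w + u) (c + d) = 0) (h1 : Has hQ K (w + u) (c + d)) (hqu : Q u = 0)
    (hdu : d ∉ Submodule.span F {u}) :
    ∃ e ∈ perp Q W, e ≠ 0 ∧ Q e = 0 ∧ Has hQ K e (-w) := by
  have hU := hW.perp hQ
  set U := perp Q W
  obtain ⟨x, hx, hqx, hux, hdx⟩ : ∃ x ∈ U, Q x = 0 ∧ polar Q u x = 0 ∧ polar Q d x ≠ 0 := by
    by_contra! hcon
    obtain ⟨v, hv, hqv, huv, v', hv', hqv', huv', hvv'⟩ : ∃ v ∈ U, Q v = 0 ∧ polar Q u v = 0 ∧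
        ∃ v' ∈ U, Q v' = 0 ∧ polar Q u v' = 0 ∧ polar Q v v' = 1 := by
      obtain ⟨v, hv, hqv, huv, hvu⟩ : ∃ v ∈ U, Q v = 0 ∧ polar Q u v = 0 ∧ v ∉ Submodule.span F {u} := by
        by_cases hu0 : u = 0
        · obtain ⟨v, hv, hv0, hqv⟩ := hU.exists_singular h3
          refine ⟨v, hv, hqv, by rw [hu0, QuadraticMap.polar_zero_left], ?_⟩
          rw [hu0, Submodule.span_zero_singleton, Submodule.mem_bot]
          exact hv0
        · exact another u hu hqu hu0
      obtain ⟨y, hy, hvy, hy'⟩ := hU.exists_sep (P := Submodule.span F {u})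
        (Submodule.span_le.2 (Set.singleton_subset_iff.2 hu)) hv hvu
      refine ⟨v, hv, hqv, huv, y + (-Q y) • v, U.add_mem hy (U.smul_mem _ hv), ?_, ?_, ?_⟩
      · rw [apply_add, apply_smul, hqv, polar_smul_right', QuadraticMap.polar_comm, hvy]
        ring
      · rw [polar_add_right', polar_smul_right', hy' u (Submodule.mem_span_singleton_self u), huv,
          mul_zero, add_zero]
      · rw [polar_add_right', polar_smul_right', hvy, polar_self', hqv]
        ring
    obtain ⟨y, hy, hdy, hy'⟩ := hU.exists_sep (P := Submodule.span F {u})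
      (Submodule.span_le.2 (Set.singleton_subset_iff.2 hu)) hd hdu
    have huy := hy' u (Submodule.mem_span_singleton_self u)
    have hle : U ⊓ LinearMap.ker ((polarBilin Q) u) ≤ LinearMap.ker ((polarBilin Q) d) :=
      OrthMax.le_of_singular (Q := Q) (u := v) (f := v') ⟨hv, huv⟩ ⟨hv', huv'⟩ hqv hqv' hvv'
        fun x hx hqx => hcon x hx.1 hqx hx.2
    exact one_ne_zero (hdy ▸ hle ⟨hy, huy⟩ : (1 : F) = 0)
  have hx0 : x ≠ 0 := fun e => hdx (by rw [e, QuadraticMap.polar_zero_right])
  obtain ⟨y, hy, hqy, hxy, huy, hyx⟩ : ∃ y ∈ U, Q y = 0 ∧ polar Q x y = 0 ∧ polar Q u y = 0 ∧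
      y ∉ Submodule.span F {x} := by
    by_cases hux' : u ∈ Submodule.span F {x}
    · obtain ⟨y, hy, hqy, hxy, hyx⟩ := another x hx hqx hx0
      obtain ⟨t, rfl⟩ := Submodule.mem_span_singleton.1 hux'
      exact ⟨y, hy, hqy, hxy, by rw [polar_smul_left', hxy, mul_zero], hyx⟩
    · exact ⟨u, hu, hqu, by rw [QuadraticMap.polar_comm, hux],
        by rw [polar_self', hqu, mul_zero], hux'⟩
  set e := polar Q d y • x + (-polar Q d x) • y with he
  have heU : e ∈ U := U.add_mem (U.smul_mem _ hx) (U.smul_mem _ hy)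
  have hqe : Q e = 0 := by
    rw [he, apply_add, apply_smul, apply_smul, polar_smul_left', polar_smul_right', hqx, hqy, hxy]
    ring
  have hue : polar Q u e = 0 := by
    rw [he, polar_add_right', polar_smul_right', polar_smul_right', hux, huy]
    ring
  have he0 : e ≠ 0 := fun h0 => by
    refine hyx (Submodule.mem_span_singleton.2 ⟨polar Q d y / polar Q d x, ?_⟩)
    rw [he, neg_smul, ← sub_eq_add_neg, sub_eq_zero] at h0
    rw [div_eq_inv_mul, mul_smul, h0, inv_smul_smul₀ hdx]
  refine ⟨e, heU, he0, hqe, seed_of_singular hQ hn hW hK hw hu heU hqz hqe hue ?_⟩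
  have hk : eich hQ hqx hxy ∈ K := has_stab hQ hn hK (Or.inr ⟨hx, hy⟩) hqx hxy
  have h2 := h1.conj hQ hk
  have ez : (eich hQ hqx hxy : V ≃ₗ[F] V) (w + u) = w + u := by
    rw [eich_apply, polar_add_left', polar_add_left', mem_perp.1 hx w hw, mem_perp.1 hy w hw, hux, huy]
    simp
  have ea : (eich hQ hqx hxy : V ≃ₗ[F] V) (c + d) = (c + d) + e := by
    rw [eich_apply, polar_add_left', polar_add_left', mem_perp.1 hx c hc, mem_perp.1 hy c hc, hqy, he]
    simp only [zero_add, zero_mul, sub_zero]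
    module
  rw [ez, ea] at h2
  have hneg : Has hQ K (w + u) (-(c + d)) := fun hw' ha' => by
    rw [← eich_inv hQ hqz hza]
    exact K.inv_mem (h1 hqz hza)
  have h3' := hneg.add hQ h2 (by rw [QuadraticMap.polar_neg_right, hza, neg_zero])
  rwa [neg_add_cancel_left] at h3'

/-- A singular vector of `W` orthogonal to `w` and `c`. -/
theorem seed_of_side {w u c d s : V} (hw : w ∈ W) (hu : u ∈ perp Q W) (hc : c ∈ W) (hd : d ∈ perp Q W)
    (hqz : Q (w + u) = 0) (hza : polar Q (w + u) (c + d) = 0) (h1 : Has hQ K (w + u) (c + d)) (hs : s ∈ W)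
    (hqs : Q s = 0) (hws : polar Q w s = 0) (hcs : polar Q c s = 0) (hcsw : c ∉ Submodule.span F {s, w}) :
    Has hQ K s (-u) := by
  obtain ⟨y, hy, hcy, hy'⟩ := hW.exists_sep (P := Submodule.span F {s, w})
    (Submodule.span_le.2 (Set.insert_subset_iff.2 ⟨hs, Set.singleton_subset_iff.2 hw⟩)) hc hcsw
  have hsy := hy' s (Submodule.subset_span (Set.mem_insert _ _))
  have hwy := hy' w (Submodule.subset_span (Set.mem_insert_of_mem _ rfl))
  have hzs : polar Q (w + u) s = 0 := by rw [polar_add_left', hws, perp_left hu hs, add_zero]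
  have hk : eich hQ hqs hsy ∈ K := has_stab hQ hn hK (Or.inl ⟨hs, hy⟩) hqs hsy
  have h2 := h1.conj hQ hk
  have ez : (eich hQ hqs hsy : V ≃ₗ[F] V) (w + u) = w + u := by
    rw [eich_apply, polar_add_left', polar_add_left', perp_left hu hs, perp_left hu hy, hws, hwy]
    simp
  have ea : (eich hQ hqs hsy : V ≃ₗ[F] V) (c + d) = (c + d) + s := by
    rw [eich_apply, polar_add_left', polar_add_left', perp_left hd hs, perp_left hd hy, hcs, hcy]
    simp
  rw [ez, ea] at h2
  have hneg : Has hQ K (w + u) (-(c + d)) := fun hw' ha' => by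
    rw [← eich_inv hQ hqz hza]
    exact K.inv_mem (h1 hqz hza)
  have h3 := hneg.add hQ h2 (by rw [QuadraticMap.polar_neg_right, hza, neg_zero])
  rw [neg_add_cancel_left] at h3
  have h4 : Has hQ K s (-(w + u)) := by
    intro h' h''
    rw [← eich_swap hQ hqz hzs h']
    exact h3 hqz hzs
  have h5 := h4.add hQ (has_stab hQ hn hK (Or.inl ⟨hs, hw⟩))
    (by rw [QuadraticMap.polar_neg_right, QuadraticMap.polar_comm, hzs, neg_zero])
  rwa [show -(w + u) + w = -u by abel] at h5

end

section

variable {F : Type*} [Field F] [Finite F] {ι : Type} [Fintype ι] [DecidableEq ι]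
  {Q : QuadraticForm F (ι → F)}

theorem ndOn_of_nondeg {W : Submodule F (ι → F)} (hW : Nondeg Q W) :
    Cfsg.Geo.IsNondegenerateOn (polar Q) W := fun x hx hx0 => by
  obtain ⟨y, hy, hxy⟩ := hW.exists_polar_one hx hx0
  exact ⟨⟨y, hy, by rw [QuadraticMap.polar_comm, hxy]; exact one_ne_zero⟩,
    ⟨y, hy, by rw [hxy]; exact one_ne_zero⟩⟩

/-- A four-space of minus type has a singular vector orthogonal to an anisotropic plane inside it. -/
theorem exists_singular_beside {W : Submodule F (ι → F)} (hW : Nondeg Q W)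
    (h4 : Module.finrank F W = 4) (hm : ¬ Cfsg.Geo.IsPlusTypeOn (⇑Q) W) {w c : ι → F} (hw : w ∈ W) (hc : c ∈ W)
    (hdet : polar Q w c * polar Q w c - 4 * Q w * Q c ≠ 0)
    (haniso : ∀ a b : F, Q (a • w + b • c) = 0 → a = 0 ∧ b = 0) :
    ∃ s ∈ W, s ≠ 0 ∧ Q s = 0 ∧ polar Q w s = 0 ∧ polar Q c s = 0 := by
  by_contra hno
  set P := Submodule.span F {w, c} with hP
  set M := W ⊓ LinearMap.ker ((polarBilin Q) w) ⊓ LinearMap.ker ((polarBilin Q) c) with hM
  have hmem : ∀ x, x ∈ M ↔ x ∈ W ∧ polar Q w x = 0 ∧ polar Q c x = 0 := fun x => and_assoc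
  have hPW : P ≤ W := Submodule.span_le.2 (Set.insert_subset_iff.2 ⟨hw, Set.singleton_subset_iff.2 hc⟩)
  have hcw : polar Q c w = polar Q w c := QuadraticMap.polar_comm _ _ _
  have solve : ∀ α β : F, ∃ a b : F, a * polar Q w w + b * polar Q w c = α ∧
      a * polar Q c w + b * polar Q c c = β := fun α β =>
    ⟨(2 * Q c * α - polar Q w c * β) / (4 * Q w * Q c - polar Q w c * polar Q w c),
      (2 * Q w * β - polar Q w c * α) / (4 * Q w * Q c - polar Q w c * polar Q w c), by
        have : 4 * Q w * Q c - polar Q w c * polar Q w c ≠ 0 := fun h => hdet (by linear_combination -h)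
        rw [polar_self', div_mul_eq_mul_div, div_mul_eq_mul_div, ← add_div, div_eq_iff this]
        ring, by
        have : 4 * Q w * Q c - polar Q w c * polar Q w c ≠ 0 := fun h => hdet (by linear_combination -h)
        rw [polar_self', hcw, div_mul_eq_mul_div, div_mul_eq_mul_div, ← add_div, div_eq_iff this]
        ring⟩
  have hdec : ∀ x ∈ W, ∃ p ∈ P, ∃ r ∈ M, p + r = x := by
    intro x hx
    obtain ⟨a, b, ha, hb⟩ := solve (polar Q w x) (polar Q c x)
    refine ⟨a • w + b • c, Submodule.mem_span_pair.2 ⟨a, b, rfl⟩, x - (a • w + b • c), (hmem _).2 ⟨?_, ?_, ?_⟩,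
      add_sub_cancel _ _⟩
    · exact W.sub_mem hx (W.add_mem (W.smul_mem _ hw) (W.smul_mem _ hc))
    · rw [QuadraticMap.polar_sub_right, polar_add_right', polar_smul_right', polar_smul_right']
      linear_combination -ha
    · rw [QuadraticMap.polar_sub_right, polar_add_right', polar_smul_right', polar_smul_right']
      linear_combination -hb
  have horth : Cfsg.Geo.AreOrthogonalFor (polar Q) P M := by
    intro p hp r hr
    obtain ⟨a, b, rfl⟩ := Submodule.mem_span_pair.1 hp
    obtain ⟨-, h1, h2⟩ := (hmem r).1 hr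
    rw [polar_add_left', polar_smul_left', polar_smul_left', h1, h2]
    ring
  have hPn : Nondeg Q P := fun x hx h => by
    refine hW x (hPW hx) fun y hy => ?_
    obtain ⟨p, hp, r, hr, rfl⟩ := hdec y hy
    rw [polar_add_right', h p hp, horth x hx r hr, add_zero]
  have hMn : Nondeg Q M := fun x hx h => by
    refine hW x ((hmem x).1 hx).1 fun y hy => ?_
    obtain ⟨p, hp, r, hr, rfl⟩ := hdec y hy
    rw [polar_add_right', h r hr, QuadraticMap.polar_comm, horth p hp x hx, add_zero]
  have hsup : P ⊔ M = W := le_antisymm (sup_le hPW (inf_le_left.trans inf_le_left)) fun y hy => by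
    obtain ⟨p, hp, r, hr, rfl⟩ := hdec y hy
    exact Submodule.add_mem_sup hp hr
  have hli : LinearIndependent F ![w, c] := LinearIndependent.pair_iff.2 fun a b hab => by
    exact haniso a b (by rw [hab, QuadraticMap.map_zero])
  have hP2 : Module.finrank F P = 2 := by
    have h := finrank_span_eq_card hli
    rw [Fintype.card_fin] at h
    rwa [show Set.range ![w, c] = {w, c} from by simp [Set.pair_comm]] at h
  have hM2 : Module.finrank F M = 2 := by
    have h := Asch.finrank_sup_of_orth (ndOn_of_nondeg hPn) horth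
    rw [hsup, h4, hP2] at h
    omega
  have np : ∀ X : Submodule F (ι → F), Module.finrank F X = 2 → (∀ x ∈ X, Q x = 0 → x = 0) →
      ¬ Cfsg.Geo.IsPlusTypeOn (⇑Q) X := by
    rintro X hX hX0 ⟨T, hTX, hT, hT1⟩
    obtain ⟨t, ht, ht0⟩ := Submodule.exists_mem_ne_zero_of_ne_bot (p := T) fun e => by
      rw [e, finrank_bot, hX] at hT1
      omega
    exact ht0 (hX0 t (hTX ht) (hT t ht))
  refine hm (hsup ▸ Asch.plus_of_not_plus (m := 1) (ndOn_of_nondeg hPn) (ndOn_of_nondeg hMn) hP2 hM2 horth
    (np P hP2 fun x hx hqx => ?_) (np M hM2 fun x hx hqx => ?_))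
  · obtain ⟨a, b, rfl⟩ := Submodule.mem_span_pair.1 hx
    obtain ⟨rfl, rfl⟩ := haniso a b hqx
    simp
  · by_contra hx0
    obtain ⟨h1, h2, h3⟩ := (hmem x).1 hx
    exact hno ⟨x, h1, hx0, hqx, h2, h3⟩

variable (hQ : (polarBilin Q).Nondegenerate)
include hQ

theorem le_of_stab_four_lt (hcard : Fintype.card ι = 8) {W : Submodule F (ι → F)} (hW : Nondeg Q W)
    (h4 : Module.finrank F W = 4) (hm : ¬ Cfsg.Geo.IsPlusTypeOn (⇑Q) W)
    (hp : Cfsg.Geo.IsPlusTypeOn (⇑Q) (perp Q W))
    {K : Subgroup (OQ Q)} (hlt : stab hQ W < K) (hKE : K ≤ eichGroup hQ) : eichGroup hQ ≤ K := by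
  have hV : Module.finrank F (ι → F) = 8 := by rw [Module.finrank_pi, hcard]
  have hn : 5 ≤ Module.finrank F (ι → F) := by omega
  have hU := hW.perp hQ
  have hU4 : Module.finrank F (perp Q W) = 4 := by rw [finrank_perp hQ, hV, h4]
  have hK := hlt.le
  have hK' : stab hQ (perp Q W) ≤ K := by rw [stab, oStab_perp hQ W]; exact hK
  have hpp := perp_perp hQ W
  obtain ⟨T, hTU, hT, hT2⟩ := hp
  have hT2' : Module.finrank F T = 2 := by omega
  have another : ∀ p ∈ perp Q W, Q p = 0 → p ≠ 0 →
      ∃ q ∈ perp Q W, Q q = 0 ∧ polar Q p q = 0 ∧ q ∉ Submodule.span F {p} := by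
    intro p hpU hqp hp0
    by_cases hpT : p ∈ T
    · obtain ⟨q, hq, hqn⟩ : ∃ q ∈ T, q ∉ Submodule.span F {p} := by
        by_contra! hc
        have := Submodule.finrank_mono (show T ≤ Submodule.span F {p} from hc)
        rw [finrank_span_singleton hp0] at this
        omega
      exact ⟨q, hTU hq, hT q hq, Asch.polar_zero_of_singular hT hpT hq, hqn⟩
    · let φ : T →ₗ[F] F := ((polarBilin Q) p).comp T.subtype
      obtain ⟨q, hq, hq0⟩ := Submodule.exists_mem_ne_zero_of_ne_bot (p := LinearMap.ker φ) fun e => by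
        have h1 := LinearMap.finrank_range_add_finrank_ker φ
        rw [e, finrank_bot] at h1
        have := Submodule.finrank_le (LinearMap.range φ)
        rw [Module.finrank_self] at this
        omega
      refine ⟨q, hTU q.2, hT q q.2, hq, fun h => hpT ?_⟩
      obtain ⟨t, ht⟩ := Submodule.mem_span_singleton.1 h
      have ht0 : t ≠ 0 := fun e => hq0 (Subtype.ext (by rw [← ht, e, zero_smul]; rfl))
      exact (T.smul_mem_iff ht0).1 (ht ▸ q.2)
  have fullU : ∀ e ∈ perp Q W, e ≠ 0 → Q e = 0 → ∀ b ∈ W, b ≠ 0 → Has hQ K e b → eichGroup hQ ≤ K :=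
    fun e he he0 hqe b hb hb0 h => le_of_full hQ hn hW hK (by omega)
      (full_all hQ hn hW hK (by omega) he hqe he0 hb hb0 h (fun h2 => by omega))
  have fullW : ∀ e ∈ W, e ≠ 0 → Q e = 0 → ∀ b ∈ perp Q W, b ≠ 0 → Has hQ K e b → eichGroup hQ ≤ K := by
    intro e he he0 hqe b hb hb0 h
    have he' : e ∈ perp Q (perp Q W) := by rw [hpp]; exact he
    exact le_of_full hQ hn hU hK' (by rw [hpp]; omega)
      (full_all hQ hn hU hK' (by rw [hpp]; omega) he' hqe he0 hb hb0 h (fun h2 => by omega))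
  obtain ⟨g, hgK, hg'⟩ := SetLike.exists_of_lt hlt
  have hg : g ∉ oStab Q W := fun h => hg' ⟨h, hKE hgK⟩
  refine seed_reduce hQ hn hW hK (by omega) another (by omega) (fun _ g hmap => hm ?_) hg ?_
  · refine ⟨T.map ((g : (ι → F) ≃ₗ[F] (ι → F)) : (ι → F) →ₗ[F] (ι → F)),
      (Submodule.map_mono hTU).trans hmap.le, ?_, by rw [LinearEquiv.finrank_map_eq]; omega⟩
    rintro _ ⟨x, hx, rfl⟩
    exact (OQ.map_apply g x).trans (hT x hx)
  intro p a w u c d hpU haU hqp hor hpa hw hu hc hd hw0 ewu ecd hdu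
  have h1 : Has hQ K (w + u) (c + d) := by
    rw [ewu, ecd]
    exact (has_stab hQ hn hK (Or.inr ⟨hpU, haU⟩)).conj hQ hgK
  have hqz : Q (w + u) = 0 := by rw [ewu, OQ.map_apply, hqp]
  have hza : polar Q (w + u) (c + d) = 0 := by rw [ewu, ecd, OQ.map_polar, hpa]
  by_cases hqu : Q u = 0
  · obtain ⟨e, he, he0, hqe, hh⟩ :=
      seed_of_singular_part hQ hn hW hK (by omega) another hw hu hc hd hqz hza h1 hqu hdu
    exact fullU e he he0 hqe _ (W.neg_mem hw) (neg_ne_zero.2 hw0) hh
  have hu0 : u ≠ 0 := fun e => hqu (by rw [e, QuadraticMap.map_zero])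
  have hqa : Q (c + d) = 0 := by rw [ecd, OQ.map_apply]; exact hor.resolve_right hu0
  have hqw : Q w = -Q u := by
    rw [apply_add, mem_perp.1 hu w hw, add_zero] at hqz
    exact eq_neg_of_add_eq_zero_left hqz
  have hqc : Q c = -Q d := by
    have := hqa
    rw [apply_add, mem_perp.1 hd c hc, add_zero] at this
    exact eq_neg_of_add_eq_zero_left this
  have hwc : polar Q w c = -polar Q u d := by
    have := hza
    rw [polar_add_left', polar_add_right', polar_add_right', mem_perp.1 hd w hw, perp_left hu hc, add_zero,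
      zero_add] at this
    exact eq_neg_of_add_eq_zero_left this
  by_cases hroot : ∃ t : F, Q (d + t • u) = 0
  · obtain ⟨t, ht⟩ := hroot
    set c' := c + t • w with hc'
    set e := d + t • u with he
    have hzz : polar Q (w + u) (w + u) = 0 := by rw [polar_self', hqz, mul_zero]
    have hz' : c' + e = (c + d) + t • (w + u) := by rw [hc', he]; module
    have hqz' : Q (c' + e) = 0 := by
      rw [hz', apply_add, apply_smul, hqa, hqz, polar_smul_right', QuadraticMap.polar_comm, hza]
      ring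
    have hzz' : polar Q (w + u) (c' + e) = 0 := by
      rw [hz', polar_add_right', polar_smul_right', hza, hzz]
      ring
    have h2 : Has hQ K (w + u) (c' + e) := by
      rw [hz']
      refine h1.add hQ (fun hw' ht' => ?_) hza
      convert K.one_mem
      refine Subtype.ext (LinearEquiv.ext fun v => ?_)
      rw [eich_apply, polar_smul_right', apply_smul, hqz]
      show v + (t * polar Q v (w + u) - t * t * 0 * polar Q v (w + u)) • (w + u) +
        (-polar Q v (w + u)) • t • (w + u) = v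
      module
    have hc'W : c' ∈ W := W.add_mem hc (W.smul_mem _ hw)
    have heU : e ∈ perp Q W := Submodule.add_mem _ hd (Submodule.smul_mem _ _ hu)
    have he0 : e ≠ 0 := fun h0 => hdu (Submodule.mem_span_singleton.2 ⟨-t, by
      rw [neg_smul, eq_comm, ← add_eq_zero_iff_eq_neg]; exact h0⟩)
    by_cases hc0 : c' = 0
    · rw [hc0, zero_add] at h2 hzz'
      rw [polar_add_left', mem_perp.1 heU w hw, zero_add] at hzz'
      exact fullU e heU he0 ht _ (W.neg_mem hw) (neg_ne_zero.2 hw0)
        (seed_of_singular hQ hn hW hK hw hu heU hqz ht hzz' h2)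
    · have h3 : Has hQ K (c' + e) (-w + -u) := fun h' h'' => by
        have e1 := eich_swap hQ hqz hzz' h'
        have e2 := h2 hqz hzz'
        rw [e1] at e2
        convert e2 using 2
        abel
      obtain ⟨e', he', he'0, hqe', hh⟩ := seed_of_singular_part hQ hn hW hK (by omega) another hc'W heU
        (W.neg_mem hw) (Submodule.neg_mem _ hu) hqz'
        (by rw [show -w + -u = -(w + u) by abel, QuadraticMap.polar_neg_right, QuadraticMap.polar_comm, hzz',
          neg_zero]) h3 ht (fun h => by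
            obtain ⟨k, hk⟩ := Submodule.mem_span_singleton.1 h
            rcases eq_or_ne k 0 with rfl | hk0
            · rw [zero_smul, eq_comm, neg_eq_zero] at hk
              exact hu0 hk
            · refine hdu (Submodule.mem_span_singleton.2 ⟨-k⁻¹ - t, ?_⟩)
              have : d + t • u = k⁻¹ • (-u) := by rw [← hk, inv_smul_smul₀ hk0]
              rw [sub_smul, neg_smul, ← smul_neg, ← this, add_sub_cancel_right])
      exact fullU e' he' he'0 hqe' _ (W.neg_mem hc'W) (neg_ne_zero.2 hc0) hh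
  push Not at hroot
  have hanisoW : ∀ α β : F, Q (α • w + β • c) = 0 → α = 0 ∧ β = 0 := by
    intro α β h
    rw [apply_add, apply_smul, apply_smul, polar_smul_left', polar_smul_right', hqw, hqc, hwc] at h
    rcases eq_or_ne β 0 with rfl | hβ
    · refine ⟨?_, rfl⟩
      have h' : α * α * Q u = 0 := by linear_combination -h
      exact mul_self_eq_zero.1 ((mul_eq_zero.1 h').resolve_right hqu)
    · refine absurd ?_ (hroot (α / β))
      rw [apply_add, apply_smul, polar_smul_right', QuadraticMap.polar_comm (⇑Q) d u]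
      field_simp
      linear_combination -h
  have hdet : polar Q w c * polar Q w c - 4 * Q w * Q c ≠ 0 := by
    rw [hwc, hqw, hqc]
    intro h
    by_cases h2 : (2 : F) = 0
    · have hud : polar Q u d = 0 := mul_self_eq_zero.1 (by linear_combination h + 2 * Q u * Q d * h2)
      have := charP_two_of_eq_zero h2
      obtain ⟨t, ht⟩ := isSquare_of_charTwo' (Q d / Q u)
      refine hroot t ?_
      rw [apply_add, apply_smul, polar_smul_right', QuadraticMap.polar_comm, hud, ← ht]
      field_simp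
      linear_combination Q d * h2
    · have h4' : (4 : F) ≠ 0 := by
        rw [show (4 : F) = 2 * 2 by norm_num]
        exact mul_ne_zero h2 h2
      refine hroot (-polar Q u d / (2 * Q u)) ?_
      rw [apply_add, apply_smul, polar_smul_right', QuadraticMap.polar_comm (⇑Q) d u]
      field_simp
      linear_combination -h
  obtain ⟨s, hs, hs0, hqs, hws, hcs⟩ := exists_singular_beside hW h4 hm hw hc hdet hanisoW
  have hcsw : c ∉ Submodule.span F {s, w} := fun h => by
    obtain ⟨α, β, hαβ⟩ := Submodule.mem_span_pair.1 h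
    have hq : Q ((-β) • w + (1 : F) • c) = 0 := by
      rw [show (-β) • w + (1 : F) • c = α • s by rw [← hαβ]; module, apply_smul, hqs, mul_zero]
    exact one_ne_zero (hanisoW _ _ hq).2
  exact fullW s hs hs0 hqs _ (Submodule.neg_mem _ hu) (neg_ne_zero.2 hu0)
    (seed_of_side hQ hn hW hK hw hu hc hd hqz hza h1 hs hqs hws hcs hcsw)

theorem isMaximalIn_four (hcard : Fintype.card ι = 8) (hminus : ¬ Cfsg.Geo.IsPlusTypeOn (⇑Q) ⊤)
    {W : Submodule F (ι → F)} (hW : Nondeg Q W) (h4 : Module.finrank F W = 4) :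
    Cfsg.Geo.IsMaximalIn (Cfsg.Geo.omegaGL (⇑Q))
      (Cfsg.Geo.subspaceStabilizer W ⊓ Cfsg.Geo.omegaGL (⇑Q)) := by
  have hV : Module.finrank F (ι → F) = 8 := by rw [Module.finrank_pi, hcard]
  have hU := hW.perp hQ
  have hU4 : Module.finrank F (perp Q W) = 4 := by rw [finrank_perp hQ, hV, h4]
  have hpp := perp_perp hQ W
  have hst : stab hQ (perp Q W) = stab hQ W := by rw [stab, stab, oStab_perp hQ]
  have horth : Cfsg.Geo.AreOrthogonalFor (polar Q) W (perp Q W) := fun x hx y hy => mem_perp.1 hy x hx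
  have hsup : W ⊔ perp Q W = ⊤ := (hW.isCompl hQ).sup_eq_top
  refine isMaximalIn_omega hQ (by omega) W (stab_nondeg_ne hQ (by omega) hW
    (fun e => by rw [e, finrank_bot] at h4; omega) (by omega)) fun K hK hKE => ?_
  by_cases hp : Cfsg.Geo.IsPlusTypeOn (⇑Q) (perp Q W)
  · refine le_of_stab_four_lt hQ hcard hW h4 (fun hp' => hminus ?_) hp hK hKE
    rw [← hsup]
    exact Asch.plus_sup (ndOn_of_nondeg hW) horth hp' hp
  · refine le_of_stab_four_lt hQ hcard hU hU4 hp ?_ (hst ▸ hK) hKE
    rw [hpp]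
    by_contra hp'
    refine hminus ?_
    rw [← hsup]
    exact Asch.plus_of_not_plus (m := 2) (ndOn_of_nondeg hW) (ndOn_of_nondeg hU) h4 hU4 horth hp' hp

end

end CfsgLib.Geo.OrthMax
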