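/-
Stabilisers of non-degenerate subspaces in odd characteristic when the larger part has dimension four.
-/
import Cfsg.Agent.Lib.Geo.OrthNondegFour

set_option autoImplicit false

namespace CfsgLib.Geo.OrthMax

open CfsgLib.Classical CfsgLib.Classical.Quad
open QuadraticMap (polar polarBilin)

variable {F : Type*} [Field F] [Finite F] {V : Type*} [AddCommGroup V] [Module F V]
  [FiniteDimensional F V] {Q : QuadraticForm F V}

/-- The radical of the perpendicular space of a singular vector. -/
theorem mem_span_of_perp_singular {U : Submodule F V} (hU : Nondeg Q U) {x a : V} (hx : x ∈ U) (hqx : Q x = 0)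
    (hx0 : x ≠ 0) (ha : a ∈ U) (h : ∀ y ∈ U, polar Q x y = 0 → polar Q a y = 0) :
    a ∈ Submodule.span F {x} := by
  obtain ⟨f, hf, hqf, hxf⟩ := hU.exists_pair hx hqx hx0
  have hax : polar Q a x = 0 := h x hx (by rw [polar_self', hqx, mul_zero])
  suffices a - polar Q a f • x = 0 from Submodule.mem_span_singleton.2 ⟨polar Q a f, (sub_eq_zero.1 this).symm⟩
  refine hU _ (U.sub_mem ha (U.smul_mem _ hx)) fun y hy => ?_
  have hfix : polar Q x (y - polar Q x y • f) = 0 := by
    rw [QuadraticMap.polar_sub_right, polar_smul_right', hxf, mul_one, sub_self]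
  have h1 := h _ (U.sub_mem hy (U.smul_mem _ hf)) hfix
  rw [QuadraticMap.polar_sub_right, polar_smul_right'] at h1
  rw [QuadraticMap.polar_sub_left, polar_smul_left']
  linear_combination h1

/-- An anisotropic vector orthogonal to a singular one. -/
theorem exists_aniso_beside {U : Submodule F V} (hU : Nondeg Q U) (h3 : 3 ≤ Module.finrank F U) {x : V}
    (hx : x ∈ U) (hqx : Q x = 0) (hx0 : x ≠ 0) : ∃ y ∈ U, polar Q x y = 0 ∧ Q y ≠ 0 := by
  by_contra! hc
  obtain ⟨f, hf, hqf, hxf⟩ := hU.exists_pair hx hqx hx0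
  have hle : U ≤ Submodule.span F {x} ⊔ Submodule.span F {f} := by
    intro v hv
    have h1 : polar Q x (v - polar Q x v • f) = 0 := by
      rw [QuadraticMap.polar_sub_right, polar_smul_right', hxf, mul_one, sub_self]
    have hv' := U.sub_mem hv (U.smul_mem (polar Q x v) hf)
    have h2 := mem_span_of_perp_singular hU hx hqx hx0 hv' fun y hy hxy => by
      have e := hc _ (U.add_mem hv' hy) (by rw [polar_add_right', h1, hxy, add_zero])
      rw [apply_add, hc _ hv' h1, hc y hy hxy, zero_add, zero_add] at e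
      exact e
    have h3 := Submodule.add_mem_sup h2
      (Submodule.smul_mem _ (polar Q x v) (Submodule.mem_span_singleton_self f))
    rwa [sub_add_cancel] at h3
  have := (Submodule.finrank_mono hle).trans (Submodule.finrank_add_le_finrank_add_finrank _ _)
  have := finrank_span_le_card (R := F) ({x} : Set V)
  have := finrank_span_le_card (R := F) ({f} : Set V)
  simp at *
  omega

variable (hQ : (polarBilin Q).Nondegenerate) (hn : 5 ≤ Module.finrank F V) {W : Submodule F V} (hW : Nondeg Q W)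
  {K : Subgroup (OQ Q)} (hK : stab hQ W ≤ K)
include hQ hn hW hK

/-- The difference of two conjugates of a root element. -/
theorem has_delta {w u c d x y : V} (hw : w ∈ W) (hu : u ∈ perp Q W) (hc : c ∈ W) (hd : d ∈ perp Q W)
    (hqz : Q (w + u) = 0) (hza : polar Q (w + u) (c + d) = 0) (h1 : Has hQ K (w + u) (c + d))
    (hx : x ∈ perp Q W) (hy : y ∈ perp Q W) (hqx : Q x = 0) (hux : polar Q u x = 0) (huy : polar Q u y = 0)
    (hxy : polar Q x y = 0) :
    Has hQ K (w + u) ((polar Q d y - Q y * polar Q d x) • x + (-polar Q d x) • y) := by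
  have hk : eich hQ hqx hxy ∈ K := has_stab hQ hn hK (Or.inr ⟨hx, hy⟩) hqx hxy
  have h2 := h1.conj hQ hk
  have ez : (eich hQ hqx hxy : V ≃ₗ[F] V) (w + u) = w + u := by
    rw [eich_apply, polar_add_left', polar_add_left', mem_perp.1 hx w hw, mem_perp.1 hy w hw, hux, huy]
    simp
  rw [ez, eich_apply, polar_add_left', polar_add_left', mem_perp.1 hx c hc, mem_perp.1 hy c hc, zero_add,
    zero_add, add_assoc (c + d)] at h2
  have hneg : Has hQ K (w + u) (-(c + d)) := fun hw' ha' => by
    rw [← eich_inv hQ hqz hza]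
    exact K.inv_mem (h1 hqz hza)
  have h3 := hneg.add hQ h2 (by rw [QuadraticMap.polar_neg_right, hza, neg_zero])
  rwa [neg_add_cancel_left] at h3

/-- The root elements of a singular vector moved out of the four-space. -/
theorem seed_of_moved (h2 : (2 : F) ≠ 0) (h4 : 4 ≤ Module.finrank F (perp Q W))
    (hkm : Module.finrank F W + 1 ≤ Module.finrank F (perp Q W)) {g : OQ Q} (hgK : g ∈ K) {p : V}
    (hp : p ∈ perp Q W) (hqp : Q p = 0) {w u : V} (hw : w ∈ W) (hu : u ∈ perp Q W) (hw0 : w ≠ 0)
    (ewu : w + u = (g : V ≃ₗ[F] V) p) :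
    ∃ x ∈ perp Q W, x ≠ 0 ∧ Q x = 0 ∧ Has hQ K x (-w) := by
  have hU := hW.perp hQ
  set U := perp Q W
  have hd0 := Submodule.disjoint_def.1 (hW.isCompl hQ).disjoint
  have hp0 : p ≠ 0 := fun e => hw0 (hd0 w hw (by
    rw [e, map_zero] at ewu
    rw [eq_neg_of_add_eq_zero_left ewu]
    exact U.neg_mem hu))
  have hqz : Q (w + u) = 0 := by rw [ewu, OQ.map_apply, hqp]
  have hsq : Q w + Q u = 0 := by rw [← hqz, apply_add, mem_perp.1 hu w hw, add_zero]
  have step : ∀ a ∈ U, polar Q p a = 0 → ∀ c d, c ∈ W → d ∈ U → c + d = (g : V ≃ₗ[F] V) a →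
      polar Q (w + u) (c + d) = 0 ∧ Has hQ K (w + u) (c + d) := fun a ha hpa c d _ _ ecd => by
    rw [ewu, ecd, OQ.map_polar]
    exact ⟨hpa, (has_stab hQ hn hK (Or.inr ⟨hp, ha⟩)).conj hQ hgK⟩
  have finish : ∀ x ∈ U, x ≠ 0 → Q x = 0 → polar Q u x = 0 → Has hQ K (w + u) x →
      ∃ x ∈ U, x ≠ 0 ∧ Q x = 0 ∧ Has hQ K x (-w) := fun x hx hx0 hqx hux hh =>
    ⟨x, hx, hx0, hqx, seed_of_singular hQ hn hW hK hw hu hx hqz hqx hux hh⟩
  have sep : ∀ a ∈ U, polar Q p a = 0 → ∀ c d, c ∈ W → d ∈ U → c + d = (g : V ≃ₗ[F] V) a →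
      ∀ x ∈ U, Q x = 0 → polar Q u x = 0 → polar Q d x ≠ 0 → ∀ y ∈ U, polar Q x y = 0 → polar Q u y = 0 →
      Q y ≠ 0 → ∃ x ∈ U, x ≠ 0 ∧ Q x = 0 ∧ Has hQ K x (-w) := by
    intro a ha hpa c d hc hd ecd x hx hqx hux hdx y hy hxy huy hqy
    obtain ⟨hza, h1⟩ := step a ha hpa c d hc hd ecd
    have e1 := has_delta hQ hn hW hK hw hu hc hd hqz hza h1 hx hy hqx hux huy hxy
    have e2 := has_delta hQ hn hW hK hw hu hc hd hqz hza h1 hx (U.neg_mem hy) hqx hux
      (by rw [QuadraticMap.polar_neg_right, huy, neg_zero]) (by rw [QuadraticMap.polar_neg_right, hxy, neg_zero])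
    have e3 := e1.add hQ e2 (by
      rw [polar_add_right', polar_smul_right', polar_smul_right', polar_add_left', polar_add_left',
        mem_perp.1 hx w hw, mem_perp.1 hy w hw, hux, huy]
      ring)
    have hx0 : x ≠ 0 := fun e => hdx (by rw [e, QuadraticMap.polar_zero_right])
    refine finish ((-(2 * Q y * polar Q d x)) • x) (U.smul_mem _ hx) (smul_ne_zero (neg_ne_zero.2
      (mul_ne_zero (mul_ne_zero h2 hqy) hdx)) hx0) (by rw [apply_smul, hqx, mul_zero])
      (by rw [polar_smul_right', hux, mul_zero]) ?_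
    convert e3 using 1
    rw [QuadraticMap.map_neg, QuadraticMap.polar_neg_right]
    module
  have hN : Module.finrank F U ≤
      Module.finrank F (U ⊓ LinearMap.ker ((polarBilin Q) p) : Submodule F V) + 1 := by
    obtain ⟨f, hf, hqf, hpf⟩ := hU.exists_pair hp hqp hp0
    have hle : U ≤ U ⊓ LinearMap.ker ((polarBilin Q) p) ⊔ Submodule.span F {f} := fun v hv => by
      have h1 : v - polar Q p v • f ∈ U ⊓ LinearMap.ker ((polarBilin Q) p) :=
        ⟨U.sub_mem hv (U.smul_mem _ hf), by simp [hpf]⟩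
      have h2 := Submodule.add_mem_sup h1
        (Submodule.smul_mem _ (polar Q p v) (Submodule.mem_span_singleton_self f))
      rwa [sub_add_cancel] at h2
    have := finrank_span_le_card (R := F) ({f} : Set V)
    simp at this
    exact ((Submodule.finrank_mono hle).trans (Submodule.finrank_add_le_finrank_add_finrank _ _)).trans (by omega)
  by_cases hqu : Q u = 0
  · -- some image has a component outside the line of `u`
    have hqw : Q w = 0 := by rw [hqu, add_zero] at hsq; exact hsq
    have hout : ∃ a ∈ U, polar Q p a = 0 ∧ ∃ c d, c ∈ W ∧ d ∈ U ∧ c + d = (g : V ≃ₗ[F] V) a ∧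
        (polar Q u d ≠ 0 ∨ d ∉ Submodule.span F {u}) := by
      by_contra! hc
      set L := W ⊓ LinearMap.ker ((polarBilin Q) w)
      have hL : Module.finrank F L < Module.finrank F W := by
        obtain ⟨y, hy, hwy⟩ := hW.exists_polar_one hw hw0
        refine Submodule.finrank_lt_finrank_of_lt (lt_of_le_of_ne inf_le_left fun e => ?_)
        have h := (e.symm ▸ hy : y ∈ L).2
        exact one_ne_zero (hwy.symm.trans h)
      have hle : (U ⊓ LinearMap.ker ((polarBilin Q) p)).map ((g : V ≃ₗ[F] V) : V →ₗ[F] V) ≤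
          L ⊔ Submodule.span F {u} := by
        rintro _ ⟨a, ⟨ha, hpa⟩, rfl⟩
        obtain ⟨c, hcW, d, hd, ecd⟩ := hW.exists_add hQ ((g : V ≃ₗ[F] V) a)
        obtain ⟨h0, hdu⟩ := hc a ha hpa c d hcW hd ecd
        have hza := (step a ha hpa c d hcW hd ecd).1
        rw [polar_add_left', polar_add_right', polar_add_right', mem_perp.1 hd w hw, perp_left hu hcW, h0,
          add_zero, add_zero, add_zero] at hza
        show (g : V ≃ₗ[F] V) a ∈ _
        rw [← ecd]
        exact Submodule.add_mem_sup ⟨hcW, hza⟩ hdu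
      have h1 := Submodule.finrank_mono hle
      rw [LinearEquiv.finrank_map_eq] at h1
      have h2 := Submodule.finrank_add_le_finrank_add_finrank L (Submodule.span F {u})
      by_cases hu0 : u = 0
      · rw [hu0, Submodule.span_zero_singleton, sup_bot_eq] at h1
        omega
      rw [finrank_span_singleton hu0] at h2
      have heq := Submodule.eq_of_le_of_finrank_le hle (by rw [LinearEquiv.finrank_map_eq]; omega)
      have hwL : w ∈ L ⊔ Submodule.span F {u} := Submodule.mem_sup_left ⟨hw, by simp [hqw]⟩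
      rw [← heq] at hwL
      obtain ⟨a, ⟨ha, hpa⟩, ea⟩ := hwL
      obtain ⟨t, ht⟩ := Submodule.mem_span_singleton.1
        (mem_span_of_perp_singular hU hp hqp hp0 ha fun y hy hpy => by
          obtain ⟨c, hcW, d, hd, ecd⟩ := hW.exists_add hQ ((g : V ≃ₗ[F] V) y)
          obtain ⟨h0, -⟩ := hc y hy hpy c d hcW hd ecd
          have hza := (step y hy hpy c d hcW hd ecd).1
          rw [polar_add_left', polar_add_right', polar_add_right', mem_perp.1 hd w hw, perp_left hu hcW, h0,
            add_zero, add_zero, add_zero] at hza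
          rw [← OQ.map_polar g, ← ecd, show ((g : V ≃ₗ[F] V) a) = w from ea, polar_add_right', hza,
            mem_perp.1 hd w hw, add_zero])
      have ew : t • (w + u) = w := by rw [ewu, ← map_smul, ht]; exact ea
      have htu : t • u = (1 - t) • w := by
        rw [sub_smul, one_smul]
        conv_rhs => arg 1; rw [← ew]
        module
      have h0 := hd0 (t • u) (htu ▸ W.smul_mem _ hw) (U.smul_mem _ hu)
      rcases smul_eq_zero.1 h0 with rfl | h
      · exact hw0 (by rw [← ew, zero_smul])
      · exact hu0 h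
    obtain ⟨a, ha, hpa, c, d, hc, hd, ecd, hor⟩ := hout
    by_cases hu0 : u = 0
    · have hdz : d ≠ 0 := fun e => by
        rcases hor with h | h
        · exact h (by rw [e, QuadraticMap.polar_zero_right])
        · exact h (by rw [e]; exact Submodule.zero_mem _)
      obtain ⟨x, hx, hqx, hdx⟩ : ∃ x ∈ U, Q x = 0 ∧ polar Q d x ≠ 0 := by
        by_contra! hcon
        exact hdz (hU d hd fun y hy => hU.le_of_singular (by omega)
          (P := LinearMap.ker ((polarBilin Q) d)) hcon hy)
      obtain ⟨y, hy, hxy, hqy⟩ := exists_aniso_beside hU (by omega) hx hqx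
        (fun e => hdx (by rw [e, QuadraticMap.polar_zero_right]))
      exact sep a ha hpa c d hc hd ecd x hx hqx (by rw [hu0, QuadraticMap.polar_zero_left]) hdx y hy hxy
        (by rw [hu0, QuadraticMap.polar_zero_left]) hqy
    · have huu : polar Q u u = 0 := by rw [polar_self', hqu, mul_zero]
      by_cases hud : polar Q d u = 0
      · obtain ⟨hza, h1⟩ := step a ha hpa c d hc hd ecd
        have hdu : d ∉ Submodule.span F {u} :=
          hor.resolve_left (fun h => h (by rw [QuadraticMap.polar_comm, hud]))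
        obtain ⟨y, hy, huy, hdy⟩ : ∃ y ∈ U, polar Q u y = 0 ∧ polar Q d y ≠ 0 := by
          by_contra! hcon
          exact hdu (mem_span_of_perp_singular hU hu hqu hu0 hd hcon)
        refine finish (polar Q d y • u) (U.smul_mem _ hu) (smul_ne_zero hdy hu0)
          (by rw [apply_smul, hqu, mul_zero]) (by rw [polar_smul_right', huu, mul_zero]) ?_
        have h := has_delta hQ hn hW hK hw hu hc hd hqz hza h1 hu hy hqu huu huy huy
        rwa [hud, mul_zero, sub_zero, neg_zero, zero_smul, add_zero] at h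
      · obtain ⟨y, hy, huy, hqy⟩ := exists_aniso_beside hU (by omega) hu hqu hu0
        exact sep a ha hpa c d hc hd ecd u hu hqu huu hud y hy huy huy hqy
  -- an anisotropic component
  set M := U ⊓ LinearMap.ker ((polarBilin Q) u) with hM
  have hMn : Nondeg Q M := fun x hx h => by
    refine hU x hx.1 fun v hv => ?_
    have hmem : v - (polar Q u v / (2 * Q u)) • u ∈ M := ⟨U.sub_mem hv (U.smul_mem _ hu), by
      simp [polar_self']
      field_simp
      ring⟩
    have h1 := h _ hmem
    rw [QuadraticMap.polar_sub_right, polar_smul_right', QuadraticMap.polar_comm (⇑Q) x u,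
      show polar Q u x = 0 from hx.2, mul_zero, sub_zero] at h1
    exact h1
  have hM3 : 3 ≤ Module.finrank F M := by
    have hle : U ≤ M ⊔ Submodule.span F {u} := fun v hv => by
      have h1 : v - (polar Q u v / (2 * Q u)) • u ∈ M := ⟨U.sub_mem hv (U.smul_mem _ hu), by
        simp [polar_self']
        field_simp
        ring⟩
      have h3 := Submodule.add_mem_sup h1
        (Submodule.smul_mem _ (polar Q u v / (2 * Q u)) (Submodule.mem_span_singleton_self u))
      rwa [sub_add_cancel] at h3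
    have := finrank_span_le_card (R := F) ({u} : Set V)
    simp at this
    have := (Submodule.finrank_mono hle).trans (Submodule.finrank_add_le_finrank_add_finrank _ _)
    omega
  obtain ⟨x, hx, hx0, hqx⟩ := hMn.exists_singular hM3
  have hux : polar Q u x = 0 := hx.2
  obtain ⟨a, ha, hpa, hqa⟩ := exists_aniso_beside hU (by omega) hp hqp hp0
  obtain ⟨c, hc, d, hd, ecd⟩ := hW.exists_add hQ ((g : V ≃ₗ[F] V) a)
  by_cases hdx : polar Q d x = 0
  swap
  · obtain ⟨y, hy, hxy, hqy⟩ := exists_aniso_beside hMn hM3 hx hqx hx0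
    exact sep a ha hpa c d hc hd ecd x hx.1 hqx hux hdx y hy.1 hxy hy.2 hqy
  obtain ⟨hza, h1⟩ := step a ha hpa c d hc hd ecd
  set y := (2 * Q u)⁻¹ • u
  have hy : y ∈ U := U.smul_mem _ hu
  have hxy : polar Q x y = 0 := by rw [polar_smul_right', QuadraticMap.polar_comm, hux, mul_zero]
  have hk : eich hQ hqx hxy ∈ K := has_stab hQ hn hK (Or.inr ⟨hx.1, hy⟩) hqx hxy
  have ez : (eich hQ hqx hxy : V ≃ₗ[F] V) (w + u) = (w + u) + x := by
    rw [eich_apply, polar_add_left', polar_add_left', mem_perp.1 hx.1 w hw, mem_perp.1 hy w hw, hux,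
      polar_smul_right', polar_self', inv_mul_cancel₀ (mul_ne_zero h2 hqu)]
    simp
  obtain ⟨s, ea⟩ : ∃ s : F, (eich hQ hqx hxy : V ≃ₗ[F] V) (c + d) = (c + d) + s • x := by
    refine ⟨polar Q d y, ?_⟩
    rw [eich_apply, polar_add_left', polar_add_left', mem_perp.1 hx.1 c hc, mem_perp.1 hy c hc, hdx]
    simp
  have h2' := h1.conj hQ hk
  rw [ez, ea] at h2'
  have hzx : polar Q (w + u) x = 0 := by rw [polar_add_left', mem_perp.1 hx.1 w hw, hux, add_zero]
  have hax : polar Q (c + d) x = 0 := by rw [polar_add_left', mem_perp.1 hx.1 c hc, hdx, add_zero]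
  have hzz : polar Q (w + u) (w + u) = 0 := by rw [polar_self', hqz, mul_zero]
  have hqz' : Q (w + u + x) = 0 := by rw [apply_add (w + u), hqz, hqx, hzx]; ring
  have hza' : polar Q (w + u + x) (c + d + s • x) = 0 := by
    simp only [polar_add_left' (w + u), polar_add_right' _ (c + d), polar_smul_right', hza, hzx,
      QuadraticMap.polar_comm (⇑Q) x (c + d), hax, polar_self', hqx]
    ring
  have hzx' : polar Q (w + u + x) (w + u) = 0 := by
    rw [polar_add_left', hzz, QuadraticMap.polar_comm, hzx, add_zero]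
  have h3 := h2'.conj hQ (h1 hqz hza)
  have e1 : (eich hQ hqz hza : V ≃ₗ[F] V) (w + u + x) = w + u + x := by
    rw [eich_apply, polar_add_left' (w + u), polar_add_left' (w + u), hzz, hza,
      QuadraticMap.polar_comm (⇑Q) x (w + u), hzx, QuadraticMap.polar_comm (⇑Q) x (c + d), hax]
    simp
  have e2 : (eich hQ hqz hza : V ≃ₗ[F] V) (c + d + s • x) = (c + d + s • x) + (2 * Q (c + d)) • (w + u) := by
    rw [eich_apply, polar_add_left' (c + d), polar_add_left' (c + d), polar_self',
      QuadraticMap.polar_comm (⇑Q) (c + d) (w + u), hza, polar_smul_left', polar_smul_left',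
      QuadraticMap.polar_comm (⇑Q) x (w + u), hzx, QuadraticMap.polar_comm (⇑Q) x (c + d), hax]
    simp
  rw [e1, e2] at h3
  have hneg : Has hQ K (w + u + x) (-(c + d + s • x)) := fun hw' ha' => by
    rw [← eich_inv hQ hqz' hza']
    exact K.inv_mem (h2' hqz' hza')
  have h4 := hneg.add hQ h3 (by rw [QuadraticMap.polar_neg_right, hza', neg_zero])
  rw [neg_add_cancel_left] at h4
  set r := 2 * Q (c + d)
  have hr : r ≠ 0 := mul_ne_zero h2 (by rw [ecd, OQ.map_apply]; exact hqa)
  have h5 : Has hQ K (w + u) (r • -(w + u + x)) := fun hq' ha' => by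
    rw [← eich_smul_left hQ hqz (by rw [QuadraticMap.polar_neg_right, QuadraticMap.polar_comm, hzx', neg_zero]) r,
      ← eich_swap hQ hqz' (by rw [polar_smul_right', hzx', mul_zero]) (by rw [apply_smul, hqz, mul_zero])]
    exact h4 _ _
  have h6 : Has hQ K (w + u) (r • (w + u)) := fun hw' ht' => by
    convert K.one_mem
    refine Subtype.ext (LinearEquiv.ext fun v => ?_)
    rw [eich_apply, polar_smul_right', apply_smul, hqz]
    show v + (r * polar Q v (w + u) - r * r * 0 * polar Q v (w + u)) • (w + u) +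
      (-polar Q v (w + u)) • r • (w + u) = v
    module
  have h7 := h5.add hQ h6 (by
    rw [polar_smul_right', QuadraticMap.polar_neg_right, QuadraticMap.polar_comm, hzx', neg_zero, mul_zero])
  refine finish ((-r) • x) (U.smul_mem _ hx.1) (smul_ne_zero (neg_ne_zero.2 hr) hx0)
    (by rw [apply_smul, hqx, mul_zero]) (by rw [polar_smul_right', hux, mul_zero]) ?_
  convert h7 using 1
  module

/-- The stabiliser of a subspace whose complement has dimension four. -/
theorem le_of_stab_nondeg_lt_four (h2 : (2 : F) ≠ 0) (h4 : 4 ≤ Module.finrank F (perp Q W))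
    (hkm : Module.finrank F W + 1 ≤ Module.finrank F (perp Q W)) (hW3 : 3 ≤ Module.finrank F W) {g : OQ Q}
    (hgK : g ∈ K) (hg : g ∉ oStab Q W) : eichGroup hQ ≤ K := by
  have hU := hW.perp hQ
  obtain ⟨p, hp, hqp, hgp⟩ : ∃ p ∈ perp Q W, Q p = 0 ∧ (g : V ≃ₗ[F] V) p ∉ perp Q W := by
    by_contra! hc
    refine hg ?_
    rw [← oStab_perp hQ W]
    exact mem_oStab_of_maps fun x hx => hU.le_of_singular (by omega)
      (P := (perp Q W).comap ((g : V ≃ₗ[F] V) : V →ₗ[F] V)) hc hx
  obtain ⟨w, hw, u, hu, ewu⟩ := hW.exists_add hQ ((g : V ≃ₗ[F] V) p)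
  have hw0 : w ≠ 0 := fun e => hgp (by rw [← ewu, e, zero_add]; exact hu)
  obtain ⟨x, hx, hx0, hqx, h⟩ := seed_of_moved hQ hn hW hK h2 h4 hkm hgK hp hqp hw hu hw0 ewu
  exact le_of_full hQ hn hW hK (by omega)
    (full_all hQ hn hW hK h4 hx hqx hx0 (W.neg_mem hw) (neg_ne_zero.2 hw0) h (fun h => by omega))

end CfsgLib.Geo.OrthMax
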