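/-
Stabilisers of pairs of complementary totally singular subspaces of even dimension are maximal in `Ω`.
-/
import Cfsg.Agent.Lib.Geo.OrthSingular

set_option autoImplicit false

namespace CfsgLib.Geo.OrthPair

open CfsgLib.Classical CfsgLib.Classical.Quad CfsgLib.Geo.OrthMax
open QuadraticMap (polar polarBilin)

variable {F : Type*} [Field F] [Finite F] {V : Type*} [AddCommGroup V] [Module F V]
  [FiniteDimensional F V] {Q : QuadraticForm F V}

/-- The element preserves or interchanges the two subspaces. -/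
def Pres (L₀ L₁ : Submodule F V) (g : OQ Q) : Prop :=
  ((∀ x ∈ L₀, (g : V ≃ₗ[F] V) x ∈ L₀) ∧ ∀ x ∈ L₁, (g : V ≃ₗ[F] V) x ∈ L₁) ∨
    ((∀ x ∈ L₀, (g : V ≃ₗ[F] V) x ∈ L₁) ∧ ∀ x ∈ L₁, (g : V ≃ₗ[F] V) x ∈ L₀)

omit [Finite F] [FiniteDimensional F V] in
theorem Pres.symm {L₀ L₁ : Submodule F V} {g : OQ Q} (h : Pres L₀ L₁ g) : Pres L₁ L₀ g :=
  h.imp And.symm And.symm

/-- The hypotheses on the pair. -/
structure IsPair (Q : QuadraticForm F V) (k : ℕ) (L₀ L₁ : Submodule F V) : Prop where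
  compl : IsCompl L₀ L₁
  rank₀ : Module.finrank F L₀ = k
  rank₁ : Module.finrank F L₁ = k
  sing₀ : ∀ x ∈ L₀, Q x = 0
  sing₁ : ∀ x ∈ L₁, Q x = 0
  five : 5 ≤ k

variable {k : ℕ} {L₀ L₁ : Submodule F V}

section
omit [Finite F] [FiniteDimensional F V]

theorem IsPair.symm (h : IsPair Q k L₀ L₁) : IsPair Q k L₁ L₀ :=
  ⟨h.compl.symm, h.rank₁, h.rank₀, h.sing₁, h.sing₀, h.five⟩

theorem IsPair.split (h : IsPair Q k L₀ L₁) (z : V) : ∃ a ∈ L₀, ∃ b ∈ L₁, a + b = z :=
  Submodule.mem_sup.1 (h.compl.sup_eq_top.ge (Submodule.mem_top : z ∈ ⊤))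

theorem IsPair.eq_zero (h : IsPair Q k L₀ L₁) {x : V} (h0 : x ∈ L₀) (h1 : x ∈ L₁) : x = 0 :=
  Submodule.disjoint_def.1 h.compl.disjoint x h0 h1

theorem IsPair.parts (h : IsPair Q k L₀ L₁) {a a' b b' : V} (ha : a ∈ L₀) (ha' : a' ∈ L₀) (hb : b ∈ L₁)
    (hb' : b' ∈ L₁) (he : a + b = a' + b') : a = a' ∧ b = b' := by
  have h1 : a - a' = b' - b := sub_eq_sub_iff_add_eq_add.2 (he.trans (add_comm a' b'))
  have h2 := h.eq_zero (L₀.sub_mem ha ha') (by rw [h1]; exact L₁.sub_mem hb' hb)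
  exact ⟨sub_eq_zero.1 h2, (sub_eq_zero.1 (h1.symm.trans h2)).symm⟩

theorem IsPair.polar₀ (h : IsPair Q k L₀ L₁) {x y : V} (hx : x ∈ L₀) (hy : y ∈ L₀) : polar Q x y = 0 :=
  polar_eq_zero_of_singular h.sing₀ hx hy

theorem IsPair.polar₁ (h : IsPair Q k L₀ L₁) {x y : V} (hx : x ∈ L₁) (hy : y ∈ L₁) : polar Q x y = 0 :=
  polar_eq_zero_of_singular h.sing₁ hx hy

end

variable (hQ : (polarBilin Q).Nondegenerate)
include hQ

omit [Finite F] in
theorem exists_sep (h : IsPair Q k L₀ L₁) {S : Submodule F V} (hS : S ≤ L₀) {x : V} (hxL : x ∈ L₀) (hx : x ∉ S) :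
    ∃ w ∈ L₁, polar Q x w = 1 ∧ ∀ y ∈ S, polar Q y w = 0 := by
  obtain ⟨b, hb, hb'⟩ := exists_sep_polar hQ hx
  obtain ⟨b₀, hb₀, b₁, hb₁, rfl⟩ := h.split b
  refine ⟨b₁, hb₁, ?_, fun y hy => ?_⟩
  · rwa [polar_add_right', h.polar₀ hxL hb₀, zero_add] at hb
  · have := hb' y hy
    rwa [polar_add_right', h.polar₀ (hS hy) hb₀, zero_add] at this

omit [Finite F] in
theorem finrank_V (h : IsPair Q k L₀ L₁) : 5 ≤ Module.finrank F V := by
  have := Submodule.finrank_add_eq_of_isCompl h.compl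
  rw [h.rank₀, h.rank₁] at this
  have := h.five
  omega

omit [Finite F] in
theorem perp_inf_rank (h : IsPair Q k L₀ L₁) (S : Submodule F V) :
    k ≤ Module.finrank F ↥(L₀ ⊓ perp Q S) + Module.finrank F S := by
  have h1 := Submodule.finrank_sup_add_finrank_inf_eq L₀ (perp Q S)
  have h2 := Submodule.finrank_le (L₀ ⊔ perp Q S)
  have h3 := Submodule.finrank_le S
  rw [h.rank₀, finrank_perp hQ] at h1
  omega

/-- An element of `Ω` interchanging the two subspaces. -/
theorem exists_swap (h : IsPair Q k L₀ L₁) (hk : Even k) : ∃ g ∈ eichGroup hQ,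
    (∀ x ∈ L₀, (g : V ≃ₗ[F] V) x ∈ L₁) ∧ ∀ x ∈ L₁, (g : V ≃ₗ[F] V) x ∈ L₀ := by
  classical
  obtain ⟨l, hl⟩ := hk
  have hn := finrank_V hQ h
  let e : Module.Basis (Fin 2 × Fin l) F L₀ := (Module.finBasisOfFinrankEq F L₀ h.rank₀).reindex
    (Fintype.equivOfCardEq (by simp; omega))
  have hsep : ∀ p, ∃ w ∈ L₁, polar Q (e p : V) w = 1 ∧ ∀ q, q ≠ p → polar Q (e q : V) w = 0 := by
    intro p
    have hle : (Submodule.span F (e '' {q | q ≠ p})).map L₀.subtype ≤ L₀ := Submodule.map_subtype_le _ _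
    have hni : (e p : V) ∉ (Submodule.span F (e '' {q | q ≠ p})).map L₀.subtype := by
      rintro ⟨y, hy, hye⟩
      rw [Submodule.injective_subtype L₀ hye] at hy
      exact e.linearIndependent.notMem_span_image (by simp) hy
    obtain ⟨w, hw, h1, h2⟩ := exists_sep hQ h hle (e p).2 hni
    exact ⟨w, hw, h1, fun q hq => h2 _ ⟨e q, Submodule.subset_span ⟨q, hq, rfl⟩, rfl⟩⟩
  choose f hf hf1 hf0 using hsep
  have hpe : ∀ p q, polar Q (e p : V) (f q) = if p = q then 1 else 0 := fun p q => by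
    split_ifs with hpq
    · rw [hpq, hf1]
    · exact hf0 q p hpq
  have hpf : ∀ p q, polar Q (f q) (e p : V) = if p = q then 1 else 0 := fun p q => by
    rw [QuadraticMap.polar_comm, hpe]
  have key : ∀ S : Finset (Fin l), ∃ g ∈ eichGroup hQ, ∀ p : Fin 2 × Fin l,
      (p.2 ∈ S → (g : V ≃ₗ[F] V) (e p) ∈ L₁ ∧ (g : V ≃ₗ[F] V) (f p) ∈ L₀) ∧
        (p.2 ∉ S → (g : V ≃ₗ[F] V) (e p) = (e p : V) ∧ (g : V ≃ₗ[F] V) (f p) = f p) := by
    intro S
    induction S using Finset.induction with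
    | empty => exact ⟨1, one_mem _, fun p => ⟨fun hp => absurd hp (Finset.notMem_empty _), fun _ => ⟨rfl, rfl⟩⟩⟩
    | insert j S hj ih =>
      obtain ⟨g, hg, hgp⟩ := ih
      have hX : polar Q (e (0, j) : V) (e (1, j) : V) = 0 := h.polar₀ (e _).2 (e _).2
      have hY : polar Q (f (0, j)) (f (1, j)) = 0 := h.polar₁ (hf _) (hf _)
      set X := eich hQ (h.sing₀ _ (e (0, j)).2) hX
      set Y := eich hQ (h.sing₁ _ (hf (0, j))) hY
      have hXY : ∀ z, (X : V ≃ₗ[F] V) z = z + polar Q z (e (1, j) : V) • (e (0, j) : V) +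
          (-polar Q z (e (0, j) : V)) • (e (1, j) : V) ∧
          (Y : V ≃ₗ[F] V) z = z + polar Q z (f (1, j)) • f (0, j) + (-polar Q z (f (0, j))) • f (1, j) := fun z => by
        rw [eich_apply, eich_apply, h.sing₀ _ (e (1, j)).2, h.sing₁ _ (hf (1, j))]
        simp
      have hXm : ∀ z, polar Q z (e (0, j) : V) = 0 → polar Q z (e (1, j) : V) = 0 → (X : V ≃ₗ[F] V) z = z :=
        fun z h0 h1 => by rw [(hXY z).1, h0, h1]; simp
      have hYm : ∀ z, polar Q z (f (0, j)) = 0 → polar Q z (f (1, j)) = 0 → (Y : V ≃ₗ[F] V) z = z :=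
        fun z h0 h1 => by rw [(hXY z).2, h0, h1]; simp
      have hXe : ∀ q, (X : V ≃ₗ[F] V) (e q) = (e q : V) :=
        fun q => hXm _ (h.polar₀ (e q).2 (e _).2) (h.polar₀ (e q).2 (e _).2)
      have hYf : ∀ q, (Y : V ≃ₗ[F] V) (f q) = f q :=
        fun q => hYm _ (h.polar₁ (hf q) (hf _)) (h.polar₁ (hf q) (hf _))
      have hXf0 : (X : V ≃ₗ[F] V) (f (0, j)) = f (0, j) - (e (1, j) : V) := by
        rw [(hXY _).1, hpf, hpf]; simp [sub_eq_add_neg]
      have hXf1 : (X : V ≃ₗ[F] V) (f (1, j)) = f (1, j) + (e (0, j) : V) := by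
        rw [(hXY _).1, hpf, hpf]; simp
      have hYe0 : (Y : V ≃ₗ[F] V) (e (0, j)) = (e (0, j) : V) - f (1, j) := by
        rw [(hXY _).2, hpe, hpe]; simp [sub_eq_add_neg]
      have hYe1 : (Y : V ≃ₗ[F] V) (e (1, j)) = (e (1, j) : V) + f (0, j) := by
        rw [(hXY _).2, hpe, hpe]; simp
      have hXmem : X ∈ eichGroup hQ := eich_mem hQ hn _ _
      have hYmem : Y ∈ eichGroup hQ := eich_mem hQ hn _ _
      refine ⟨g * (X * Y * X), mul_mem hg (mul_mem (mul_mem hXmem hYmem) hXmem), fun p => ?_⟩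
      have happ : ∀ z, ((g * (X * Y * X) : OQ Q) : V ≃ₗ[F] V) z =
          (g : V ≃ₗ[F] V) ((X : V ≃ₗ[F] V) ((Y : V ≃ₗ[F] V) ((X : V ≃ₗ[F] V) z))) := fun z => rfl
      rcases eq_or_ne p.2 j with hpj | hpj
      · have hfix : ∀ a, (g : V ≃ₗ[F] V) (e (a, j)) = (e (a, j) : V) ∧ (g : V ≃ₗ[F] V) (f (a, j)) = f (a, j) :=
          fun a => (hgp (a, j)).2 hj
        refine ⟨fun _ => ?_, fun hp => absurd (by rw [hpj]; exact Finset.mem_insert_self j S) hp⟩
        obtain ⟨a, b⟩ := p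
        obtain rfl : b = j := hpj
        rw [happ, happ]
        fin_cases a
        · simp only [Fin.zero_eta, hXe, hYe0, hXf0, map_sub, hXf1, hYf, hYe1, map_add]
          simp [hXf0, hXe, (hfix 1).1, (hfix 1).2, hf, sub_eq_add_neg]
        · simp only [Fin.mk_one, hXe, hYe1, hXf1, map_add, hXf0, hYf, hYe0, map_sub]
          simp [hXf0, hXe, (hfix 0).1, (hfix 0).2, hf, sub_eq_add_neg]
      · have hne : ∀ a, p ≠ (a, j) := fun a hp => hpj (by rw [hp])
        have h1 : (X : V ≃ₗ[F] V) (f p) = f p := hXm _ (by rw [hpf, if_neg (hne 0).symm])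
          (by rw [hpf, if_neg (hne 1).symm])
        have h2 : (Y : V ≃ₗ[F] V) (e p) = (e p : V) := hYm _ (by rw [hpe, if_neg (hne 0)])
          (by rw [hpe, if_neg (hne 1)])
        rw [happ, happ, hXe, h2, hXe, h1, hYf, h1]
        simpa [Finset.mem_insert, hpj] using hgp p
  obtain ⟨g, hg, hgp⟩ := key Finset.univ
  have h0 : ∀ x ∈ L₀, (g : V ≃ₗ[F] V) x ∈ L₁ := by
    intro x hx
    have hx' := congrArg Subtype.val (e.sum_repr ⟨x, hx⟩)
    rw [show x = _ from hx'.symm, Submodule.coe_sum, map_sum]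
    refine Submodule.sum_mem _ fun q _ => ?_
    rw [Submodule.coe_smul, map_smul]
    exact L₁.smul_mem _ ((hgp q).1 (Finset.mem_univ _)).1
  refine ⟨g, hg, h0, fun w hw => ?_⟩
  have hw' : w = ∑ q, polar Q (e q : V) w • f q := by
    refine sub_eq_zero.1 (hQ.1 _ fun z => ?_)
    have hd : w - ∑ q, polar Q (e q : V) w • f q ∈ L₁ :=
      L₁.sub_mem hw (Submodule.sum_mem _ fun q _ => L₁.smul_mem _ (hf q))
    obtain ⟨a, ha, b, hb, rfl⟩ := h.split z
    rw [map_add, QuadraticMap.polarBilin_apply_apply, QuadraticMap.polarBilin_apply_apply, h.polar₁ hd hb, add_zero]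
    have h0 : ∀ p, polar Q (e p : V) (w - ∑ q, polar Q (e q : V) w • f q) = 0 := fun p => by
      rw [← QuadraticMap.polarBilin_apply_apply, map_sub, map_sum, Finset.sum_eq_single p]
      · rw [map_smul]; simp [hpe]
      · intro q _ hq
        rw [map_smul]; simp [hpe, Ne.symm hq]
      · simp
    have hsum : a = ((∑ p, e.repr ⟨a, ha⟩ p • e p : L₀) : V) := (congrArg Subtype.val (e.sum_repr ⟨a, ha⟩)).symm
    rw [QuadraticMap.polar_comm, hsum, Submodule.coe_sum,
      ← QuadraticMap.polarBilin_apply_apply, LinearMap.map_sum₂]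
    refine Finset.sum_eq_zero fun p _ => ?_
    rw [Submodule.coe_smul, LinearMap.map_smul₂, QuadraticMap.polarBilin_apply_apply, h0, smul_zero]
  rw [hw', map_sum]
  refine Submodule.sum_mem _ fun q _ => ?_
  rw [map_smul]
  exact L₀.smul_mem _ ((hgp q).1 (Finset.mem_univ _)).2

variable {K : Subgroup (OQ Q)}

/-- All Eichler transformations supported on a plane. -/
def Pl (K : Subgroup (OQ Q)) (P : Submodule F V) : Prop := ∀ x ∈ P, ∀ y ∈ P, Has hQ K x y

omit [Finite F] in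
theorem has_self {x : V} (c : F) : Has hQ K x (c • x) := by
  intro hx hc
  have : eich hQ hx hc = 1 := Subtype.ext <| LinearEquiv.ext fun z => by
    rw [eich_apply, apply_smul, hx, polar_smul_right']
    show _ = z
    module
  rw [this]
  exact one_mem K

omit [Finite F] in
theorem pl_pair {c d : V} (hc : Q c = 0) (hd : Q d = 0) (hcd : polar Q c d = 0)
    (h : ∀ t : F, Has hQ K c (t • d)) : Pl hQ K (Submodule.span F {c, d}) := by
  have hdc : ∀ s t : F, Has hQ K d (s • c + t • d) := by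
    intro s t
    refine Has.add hQ ?_ (has_self hQ t) (by rw [polar_smul_right', QuadraticMap.polar_comm, hcd, mul_zero])
    refine Has.swap hQ hd ?_ (by rw [apply_smul, hc, mul_zero])
    intro hw ha
    have ha' : polar Q c (-d) = 0 := by rw [QuadraticMap.polar_neg_right, hcd, neg_zero]
    have he := eich_smul_left hQ hc ha' s
    rw [he]
    have hm := h (-s) hc (by rw [polar_smul_right', hcd, mul_zero])
    rwa [eich_congr hQ rfl (show (-s) • d = s • (-d) by module)] at hm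
  intro x hx y hy
  obtain ⟨a, b, rfl⟩ := Submodule.mem_span_pair.1 hx
  obtain ⟨a', b', rfl⟩ := Submodule.mem_span_pair.1 hy
  have hpl : ∀ s t s' t' : F, polar Q (s • c + t • d) (s' • c + t' • d) = 0 := fun s t s' t' => by
    rw [polar_add_left', polar_add_right', polar_add_right', polar_smul_left', polar_smul_left', polar_smul_left',
      polar_smul_left', polar_smul_right', polar_smul_right', polar_smul_right', polar_smul_right', polar_self',
      polar_self', hc, hd, hcd, QuadraticMap.polar_comm _ d c, hcd]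
    ring
  have hpd : ∀ s t : F, polar Q d (s • c + t • d) = 0 := fun s t => by
    have := hpl 0 1 s t
    rwa [zero_smul, zero_add, one_smul] at this
  have hqp : ∀ s t : F, Q (s • c + t • d) = 0 := fun s t => by
    rw [apply_add, apply_smul, apply_smul, polar_smul_left', polar_smul_right', hc, hd, hcd]
    ring
  rcases eq_or_ne a 0 with rfl | ha
  · intro hw hp
    have hd' : polar Q d (a' • c + b' • d) = 0 := hpd _ _
    have he := eich_smul_left hQ hd hd' b
    rw [eich_congr hQ (show (0 : F) • c + b • d = b • d by module) rfl, he]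
    have hm := hdc (b * a') (b * b') hd (hpd _ _)
    rwa [eich_congr hQ rfl (show (b * a') • c + (b * b') • d = b • (a' • c + b' • d) by module)] at hm
  · set x := a • c + b • d
    set r := b' - a' / a * b
    have hy' : a' • c + b' • d = (a' / a) • x + r • d := by
      simp only [x, r, smul_add, smul_smul, sub_smul, div_mul_cancel₀ _ ha]
      abel
    rw [hy']
    refine Has.add hQ (has_self hQ _) ?_ (by rw [polar_smul_right', polar_self', hqp]; ring)
    refine Has.swap hQ (hqp a b) ?_ (by rw [apply_smul, hd, mul_zero])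
    intro hw hp
    have hd' : polar Q d (-x) = 0 := by
      rw [QuadraticMap.polar_neg_right, neg_eq_zero]; exact hpd a b
    rw [eich_smul_left hQ hd hd' r]
    have hm := hdc (-(r * a)) (-(r * b)) hd (hpd _ _)
    rwa [eich_congr hQ rfl (show (-(r * a)) • c + (-(r * b)) • d = r • (-x) by simp only [x]; module)] at hm

omit [Finite F] in
theorem Pl.conj {g : OQ Q} (hg : g ∈ K) {P : Submodule F V} (h : Pl hQ K P) :
    Pl hQ K (P.map ((g : V ≃ₗ[F] V) : V →ₗ[F] V)) := by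
  rintro _ ⟨x, hx, rfl⟩ _ ⟨y, hy, rfl⟩
  exact (h x hx y hy).conj hQ hg

variable (h : IsPair Q k L₀ L₁)
  (hM : ∀ {w a : V} (hw : Q w = 0) (ha : polar Q w a = 0), Pres L₀ L₁ (eich hQ hw ha) → eich hQ hw ha ∈ K)
include h hM

/-- Mixed root elements lie in the stabiliser. -/
theorem has_mixed {u w : V} (hu : u ∈ L₀) (hw : w ∈ L₁) : Has hQ K u w ∧ Has hQ K w u := by
  constructor <;> intro h1 h2 <;> refine hM h1 h2 (Or.inl ⟨?_, ?_⟩)
  all_goals intro x hx; rw [eich_apply]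
  · rw [h.polar₀ hx hu, h.sing₁ w hw]
    simpa using L₀.add_mem hx (L₀.smul_mem _ hu)
  · rw [h.polar₁ hx hw, h.sing₁ w hw]
    simpa using L₁.add_mem hx (L₁.neg_mem (L₁.smul_mem _ hw))
  · rw [h.polar₀ hx hu, h.sing₀ u hu]
    simpa using L₀.add_mem hx (L₀.neg_mem (L₀.smul_mem _ hu))
  · rw [h.polar₁ hx hw, h.sing₀ u hu]
    simpa using L₁.add_mem hx (L₁.smul_mem _ hw)

/-- A plane meeting `L₁` but not `L₀` yields one inside `L₁`. -/
theorem seed_of_meet {c d : V} (hc : c ∈ L₁) (hqd : Q d = 0) (hcd : polar Q c d = 0)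
    (hpl : Pl hQ K (Submodule.span F {c, d}))
    (hno : ∀ s t : F, s • c + t • d ∈ L₀ → s = 0 ∧ t = 0) :
    ∃ a ∈ L₁, ∃ b ∈ L₁, a ≠ 0 ∧ b ∉ Submodule.span F {a} ∧ Pl hQ K (Submodule.span F {a, b}) := by
  obtain ⟨d₀, hd₀, d₁, hd₁, hd⟩ := h.split d
  have hp0 : polar Q c d₀ = 0 := by
    rw [← hd, polar_add_right', h.polar₁ hc hd₁, add_zero] at hcd
    exact hcd
  refine ⟨c, hc, d₁, hd₁, fun h0 => one_ne_zero (hno 1 0 (by simp [h0])).1, fun hs => ?_,
    pl_pair hQ (h.sing₁ c hc) (h.sing₁ d₁ hd₁) (h.polar₁ hc hd₁) fun t => ?_⟩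
  · obtain ⟨s, hs⟩ := Submodule.mem_span_singleton.1 hs
    exact one_ne_zero (hno (-s) 1 (by rw [one_smul, ← hd, ← hs, neg_smul]; simpa using hd₀)).2
  · rw [show t • d₁ = (-t) • d₀ + t • d by rw [← hd]; module]
    refine Has.add hQ (has_mixed hQ h hM (L₀.smul_mem _ hd₀) hc).2 ?_ (by rw [polar_smul_right', hp0, mul_zero])
    exact hpl c (Submodule.subset_span (by simp)) _ (Submodule.smul_mem _ _ (Submodule.subset_span (by simp)))

/-- A generic plane yields one meeting `L₀` but not `L₁`. -/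
theorem meet_of_generic {c d : V} (hqc : Q c = 0) (hqd : Q d = 0) (hcd : polar Q c d = 0)
    (hpl : Pl hQ K (Submodule.span F {c, d}))
    (hno : ∀ s t : F, s • c + t • d ∈ L₁ → s = 0 ∧ t = 0) :
    ∃ u ∈ L₀, polar Q u d = 0 ∧ Pl hQ K (Submodule.span F {u, d}) ∧
      ∀ s t : F, s • u + t • d ∈ L₁ → s = 0 ∧ t = 0 := by
  obtain ⟨c₀, hc₀, c₁, hc₁, hc⟩ := h.split c
  obtain ⟨d₀, hd₀, d₁, hd₁, hd⟩ := h.split d
  have hli : ∀ s t : F, s • c₀ + t • d₀ = 0 → s = 0 ∧ t = 0 := fun s t hst => hno s t (by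
    rw [← hc, ← hd, show s • (c₀ + c₁) + t • (d₀ + d₁) = (s • c₀ + t • d₀) + (s • c₁ + t • d₁) by module, hst,
      zero_add]
    exact L₁.add_mem (L₁.smul_mem _ hc₁) (L₁.smul_mem _ hd₁))
  obtain ⟨u, ⟨hu, hu'⟩, hun⟩ : ∃ u ∈ L₀ ⊓ perp Q (Submodule.span F {c₁, d₁}), u ∉ Submodule.span F {c₀, d₀} := by
    by_contra! hc'
    have h1 := perp_inf_rank hQ h (Submodule.span F {c₁, d₁})
    have h2 := Submodule.finrank_mono (show L₀ ⊓ perp Q (Submodule.span F {c₁, d₁}) ≤ Submodule.span F {c₀, d₀}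
      from hc')
    have h3 : ∀ p q : V, Module.finrank F ↥(Submodule.span F {p, q}) ≤ 2 := fun p q => by
      classical
      have h4 := finrank_span_finset_le_card (R := F) ({p, q} : Finset V)
      rw [Finset.coe_pair] at h4
      exact h4.trans Finset.card_le_two
    have := h3 c₀ d₀
    have := h3 c₁ d₁
    have := h.five
    omega
  have huc : polar Q c u = 0 := by
    rw [← hc, polar_add_left', h.polar₀ hc₀ hu, zero_add]
    exact mem_perp.1 hu' c₁ (Submodule.subset_span (by simp))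
  have hud : polar Q d u = 0 := by
    rw [← hd, polar_add_left', h.polar₀ hd₀ hu, zero_add]
    exact mem_perp.1 hu' d₁ (Submodule.subset_span (by simp))
  obtain ⟨w, hw, hcw, hw'⟩ := exists_sep hQ h (S := Submodule.span F {d₀, u})
    (Submodule.span_le.2 (by simp [Set.insert_subset_iff, hd₀, hu])) hc₀ (fun hm => by
      obtain ⟨s, t, hst⟩ := Submodule.mem_span_pair.1 hm
      rcases eq_or_ne t 0 with rfl | ht
      · exact one_ne_zero (hli 1 (-s) (by rw [← hst]; module)).1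
      · refine hun (Submodule.mem_span_pair.2 ⟨t⁻¹, -(t⁻¹ * s), ?_⟩)
        rw [← hst]
        simp [smul_smul, inv_mul_cancel₀ ht])
  have huw : polar Q u w = 0 := hw' u (Submodule.subset_span (by simp))
  have hdw : polar Q d w = 0 := by
    rw [← hd, polar_add_left', hw' d₀ (Submodule.subset_span (by simp)), h.polar₁ hd₁ hw, add_zero]
  have hcw' : polar Q c w = 1 := by rw [← hc, polar_add_left', hcw, h.polar₁ hc₁ hw, add_zero]
  have hh : eich hQ (h.sing₀ u hu) huw ∈ K := (has_mixed hQ h hM hu hw).1 _ _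
  refine ⟨u, hu, by rw [QuadraticMap.polar_comm, hud], pl_pair hQ (h.sing₀ u hu) hqd
    (by rw [QuadraticMap.polar_comm, hud]) fun t => ?_, fun s t hst => ?_⟩
  · refine Has.swap hQ (h.sing₀ u hu) ?_ (by rw [apply_smul, hqd, mul_zero])
    intro hw1 hw2
    have hdu' : polar Q d (-u) = 0 := by rw [QuadraticMap.polar_neg_right, hud, neg_zero]
    rw [eich_smul_left hQ hqd hdu' t]
    have hcu : (eich hQ (h.sing₀ u hu) huw : V ≃ₗ[F] V) c = c + u := by
      rw [eich_apply, hcw', huc, h.sing₁ w hw]; simp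
    have hdd : (eich hQ (h.sing₀ u hu) huw : V ≃ₗ[F] V) d = d := by
      rw [eich_apply, hdw, hud, h.sing₁ w hw]; simp
    have hpc : polar Q d (t • c) = 0 := by rw [polar_smul_right', QuadraticMap.polar_comm, hcd, mul_zero]
    have h1 : Has hQ K d (t • c) := hpl d (Submodule.subset_span (by simp)) _
      (Submodule.smul_mem _ _ (Submodule.subset_span (by simp)))
    have h2 : Has hQ K d ((-t) • (c + u)) := by
      have := (hpl d (Submodule.subset_span (by simp)) ((-t) • c)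
        (Submodule.smul_mem _ _ (Submodule.subset_span (by simp)))).conj hQ hh
      rwa [map_smul, hcu, hdd] at this
    have h3 := h1.add hQ h2 hpc hqd (by
      rw [polar_add_right', hpc, polar_smul_right', polar_add_right', QuadraticMap.polar_comm _ d c, hcd, hud]
      ring)
    rwa [eich_congr hQ rfl (show t • c + (-t) • (c + u) = t • (-u) by module)] at h3
  · rw [← hd, show s • u + t • (d₀ + d₁) = (s • u + t • d₀) + t • d₁ by module] at hst
    have h0 : s • u + t • d₀ = 0 := h.eq_zero (L₀.add_mem (L₀.smul_mem _ hu) (L₀.smul_mem _ hd₀))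
      ((L₁.add_mem_iff_left (L₁.smul_mem _ hd₁)).1 hst)
    rcases eq_or_ne s 0 with rfl | hs
    · exact ⟨rfl, (hli 0 t (by simpa using h0)).2⟩
    · refine absurd (Submodule.mem_span_pair.2 ⟨0, -(s⁻¹ * t), ?_⟩) hun
      rw [zero_smul, zero_add, ← sub_eq_zero,
        show (-(s⁻¹ * t)) • d₀ - u = (-s⁻¹) • (s • u + t • d₀) by
          simp [smul_smul, inv_mul_cancel₀ hs]; module, h0, smul_zero]

omit hM in
/-- If all images of mixed planes meet both subspaces then the pair is preserved. -/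
theorem pres_of_meet {g : OQ Q}
    (hall : ∀ u ∈ L₀, ∀ w ∈ L₁, u ≠ 0 → w ≠ 0 → polar Q u w = 0 →
      (∃ s t : F, (s ≠ 0 ∨ t ≠ 0) ∧ s • (g : V ≃ₗ[F] V) u + t • (g : V ≃ₗ[F] V) w ∈ L₀) ∧
        ∃ s t : F, (s ≠ 0 ∨ t ≠ 0) ∧ s • (g : V ≃ₗ[F] V) u + t • (g : V ≃ₗ[F] V) w ∈ L₁) :
    (∀ x ∈ L₀, (g : V ≃ₗ[F] V) x ∈ L₀) ∨ ∀ x ∈ L₀, (g : V ≃ₗ[F] V) x ∈ L₁ := by
  have key : ∀ u ∈ L₀, (g : V ≃ₗ[F] V) u ∈ L₀ ∨ (g : V ≃ₗ[F] V) u ∈ L₁ := by
    intro u hu
    rcases eq_or_ne u 0 with rfl | hu0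
    · simp
    set T := L₁ ⊓ perp Q (Submodule.span F {u})
    have hT : 2 ≤ Module.finrank F T := by
      have h1 := perp_inf_rank hQ h.symm (Submodule.span F {u})
      rw [finrank_span_singleton hu0] at h1
      have := h.five
      show 2 ≤ Module.finrank F ↥(L₁ ⊓ _)
      omega
    obtain ⟨w, hw, hw0⟩ := Submodule.exists_mem_ne_zero_of_ne_bot (p := T) (fun e => by
      rw [e, finrank_bot] at hT; omega)
    obtain ⟨w', hw', hww'⟩ : ∃ w' ∈ T, w' ∉ Submodule.span F {w} := by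
      by_contra! hc
      have := Submodule.finrank_mono (show T ≤ Submodule.span F {w} from hc)
      rw [finrank_span_singleton hw0] at this
      omega
    have comp : ∀ z ∈ T, z ≠ 0 → ∃ s t : F, ∃ y ∈ L₁,
        s • (g : V ≃ₗ[F] V) u + t • (g : V ≃ₗ[F] V) z ∈ L₀ ∧
          (g : V ≃ₗ[F] V) u = (s • (g : V ≃ₗ[F] V) u + t • (g : V ≃ₗ[F] V) z) + y := by
      intro z hz hz0
      obtain ⟨⟨s, t, hst, h0⟩, s', t', hst', h1⟩ := hall u hu z hz.1 hu0 hz0
        (mem_perp.1 hz.2 u (Submodule.mem_span_singleton_self u))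
      set a := s • (g : V ≃ₗ[F] V) u + t • (g : V ≃ₗ[F] V) z with ha
      set b := s' • (g : V ≃ₗ[F] V) u + t' • (g : V ≃ₗ[F] V) z with hb
      have hindep : ∀ s t : F, s • (g : V ≃ₗ[F] V) u + t • (g : V ≃ₗ[F] V) z = 0 → s = 0 ∧ t = 0 := by
        intro s t hst
        rw [← map_smul, ← map_smul, ← map_add, LinearEquiv.map_eq_zero_iff] at hst
        obtain ⟨e1, e2⟩ := h.parts (L₀.smul_mem s hu) L₀.zero_mem (L₁.smul_mem t hz.1) L₁.zero_mem
          (by rw [hst, add_zero])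
        exact ⟨(smul_eq_zero.1 e1).resolve_right hu0, (smul_eq_zero.1 e2).resolve_right hz0⟩
      have hdet : s * t' - t * s' ≠ 0 := by
        intro hd
        have e1 : t' • a = t • b := by
          rw [ha, hb, smul_add, smul_add, smul_smul, smul_smul, smul_smul, smul_smul,
            show t' * s = t * s' by linear_combination hd, mul_comm t' t]
        have e2 : s' • a = s • b := by
          rw [ha, hb, smul_add, smul_add, smul_smul, smul_smul, smul_smul, smul_smul,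
            show s' * t = s * t' by linear_combination -hd, mul_comm s' s]
        have z1 := h.eq_zero (L₀.smul_mem t' h0) (by rw [e1]; exact L₁.smul_mem _ h1)
        have z2 := h.eq_zero (L₀.smul_mem s' h0) (by rw [e2]; exact L₁.smul_mem _ h1)
        have ha0 : a ≠ 0 := fun e => by rcases hindep s t e with ⟨rfl, rfl⟩; simp at hst
        rw [smul_eq_zero, or_iff_left ha0] at z1 z2
        simp [z1, z2] at hst'
      refine ⟨t' / (s * t' - t * s') * s, t' / (s * t' - t * s') * t, (-t / (s * t' - t * s')) • b,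
        L₁.smul_mem _ h1, ?_, ?_⟩
      · rw [← smul_smul, ← smul_smul, ← smul_add]
        exact L₀.smul_mem _ h0
      · rw [hb, smul_add, smul_smul, smul_smul, add_add_add_comm, ← add_smul, ← add_smul,
          show t' / (s * t' - t * s') * s + -t / (s * t' - t * s') * s' = 1 by
            rw [div_mul_eq_mul_div, div_mul_eq_mul_div, ← add_div, div_eq_one_iff_eq hdet]; ring,
          show t' / (s * t' - t * s') * t + -t / (s * t' - t * s') * t' = 0 by ring]
        simp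
    obtain ⟨s, t, y, hy, ha, he⟩ := comp w hw hw0
    obtain ⟨s', t', y', hy', ha', he'⟩ := comp w' hw' (fun e => hww' (e ▸ Submodule.zero_mem _))
    have hq := (h.parts ha ha' hy hy' (he.symm.trans he')).1
    rw [← map_smul, ← map_smul, ← map_add, ← map_smul, ← map_smul, ← map_add] at hq
    have hq' := (h.parts (L₀.smul_mem s hu) (L₀.smul_mem s' hu) (L₁.smul_mem t hw.1) (L₁.smul_mem t' hw'.1)
      ((g : V ≃ₗ[F] V).injective hq)).2
    have ht : t = 0 := by
      rcases eq_or_ne t' 0 with rfl | ht'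
      · simpa [hw0] using hq'
      · exact absurd (Submodule.mem_span_singleton.2 ⟨t'⁻¹ * t, by
          rw [← smul_smul, hq', inv_smul_smul₀ ht']⟩) hww'
    subst ht
    rw [zero_smul, add_zero] at he ha
    rcases eq_or_ne s 0 with rfl | hs
    · right
      rw [he]; simpa using hy
    · exact Or.inl ((L₀.smul_mem_iff hs).1 ha)
  by_contra! hc
  obtain ⟨⟨p, hp, hp0⟩, q, hq, hq1⟩ := hc
  have hp1 := (key p hp).resolve_left hp0
  have hq0 := (key q hq).resolve_right hq1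
  rcases key (p + q) (L₀.add_mem hp hq) with h1 | h1 <;> rw [map_add] at h1
  · exact hp0 ((L₀.add_mem_iff_left hq0).1 h1)
  · exact hq1 ((L₁.add_mem_iff_right hp1).1 h1)

/-- All root elements inside `L₁`, from one plane. -/
theorem all_of_seed {a b : V} (ha : a ∈ L₁) (hb : b ∈ L₁) (ha0 : a ≠ 0) (hab : b ∉ Submodule.span F {a})
    (hpl : Pl hQ K (Submodule.span F {a, b})) : ∀ x ∈ L₁, ∀ y ∈ L₁, Has hQ K x y := by
  have step : ∀ {a b : V}, a ∈ L₁ → b ∈ L₁ → b ∉ Submodule.span F {a} → Pl hQ K (Submodule.span F {a, b}) →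
      ∀ c ∈ L₁, Pl hQ K (Submodule.span F {a, c}) := by
    intro a b ha hb hab hpl c hc
    refine pl_pair hQ (h.sing₁ a ha) (h.sing₁ c hc) (h.polar₁ ha hc) fun t => ?_
    by_cases hc' : c ∈ Submodule.span F {a, b}
    · exact hpl a (Submodule.subset_span (by simp)) _ (Submodule.smul_mem _ _ hc')
    have hni : b ∉ Submodule.span F {a, c - b} := fun hm => by
      obtain ⟨s, r, hsr⟩ := Submodule.mem_span_pair.1 hm
      rcases eq_or_ne r 0 with rfl | hr
      · exact hab (Submodule.mem_span_singleton.2 ⟨s, by simpa using hsr⟩)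
      · refine hc' (Submodule.mem_span_pair.2 ⟨-(r⁻¹ * s), 1 + r⁻¹, ?_⟩)
        have h1 : r⁻¹ • b = (r⁻¹ * s) • a + (c - b) := by
          conv_lhs => rw [← hsr]
          rw [smul_add, smul_smul, inv_smul_smul₀ hr]
        rw [add_smul, one_smul, h1, neg_smul]
        abel
    obtain ⟨u, hu, hbu, hu'⟩ := exists_sep hQ h.symm (S := Submodule.span F {a, c - b})
      (Submodule.span_le.2 (by simp [Set.insert_subset_iff, ha, L₁.sub_mem hc hb])) hb hni
    have hau := hu' a (Submodule.subset_span (by simp))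
    have hwu : polar Q (-u) (c - b) = 0 := by
      rw [QuadraticMap.polar_neg_left, QuadraticMap.polar_comm, hu' _ (Submodule.subset_span (by simp)), neg_zero]
    have hh : eich hQ (h.sing₀ _ (L₀.neg_mem hu)) hwu ∈ K :=
      (has_mixed hQ h hM (L₀.neg_mem hu) (L₁.sub_mem hc hb)).1 _ _
    have := (hpl a (Submodule.subset_span (by simp)) (t • b)
      (Submodule.smul_mem _ _ (Submodule.subset_span (by simp)))).conj hQ hh
    rw [map_smul, eich_apply, eich_apply, QuadraticMap.polar_neg_right, QuadraticMap.polar_neg_right, hbu, hau,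
      h.polar₁ ha (L₁.sub_mem hc hb), h.polar₁ hb (L₁.sub_mem hc hb), h.sing₁ _ (L₁.sub_mem hc hb)] at this
    simpa using this
  intro x hx y hy
  by_cases hxa : x ∈ Submodule.span F {a}
  · obtain ⟨s, rfl⟩ := Submodule.mem_span_singleton.1 hxa
    exact step ha hb hab hpl y hy _ (Submodule.smul_mem _ _ (Submodule.subset_span (by simp))) _
      (Submodule.subset_span (by simp))
  · have h1 : Pl hQ K (Submodule.span F {x, a}) := by
      rw [Set.pair_comm]; exact step ha hb hab hpl x hx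
    have hax : a ∉ Submodule.span F {x} := fun hm => by
      obtain ⟨s, rfl⟩ := Submodule.mem_span_singleton.1 hm
      refine hxa (Submodule.mem_span_singleton.2 ⟨s⁻¹, inv_smul_smul₀ (fun e => ha0 (by simp [e])) x⟩)
    exact step hx ha hax h1 y hy x (Submodule.subset_span (by simp)) y (Submodule.subset_span (by simp))

/-- The group generated by the stabiliser and an element outside it is the whole of `Ω`. -/
theorem le_of_not_pres (hsw : ∃ n ∈ K, (∀ x ∈ L₀, (n : V ≃ₗ[F] V) x ∈ L₁) ∧ ∀ x ∈ L₁, (n : V ≃ₗ[F] V) x ∈ L₀) {g : OQ Q} (hgK : g ∈ K) (hg : ¬ Pres L₀ L₁ g) : eichGroup hQ ≤ K := by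
  have hn := finrank_V hQ h
  have hM' : ∀ {w a : V} (hw : Q w = 0) (ha : polar Q w a = 0), Pres L₁ L₀ (eich hQ hw ha) → eich hQ hw ha ∈ K :=
    fun hw ha hp => hM hw ha hp.symm
  obtain ⟨u, hu, w, hw, hu0, hw0, huw, hbad⟩ : ∃ u ∈ L₀, ∃ w ∈ L₁, u ≠ 0 ∧ w ≠ 0 ∧ polar Q u w = 0 ∧
      ¬ ((∃ s t : F, (s ≠ 0 ∨ t ≠ 0) ∧ s • (g : V ≃ₗ[F] V) u + t • (g : V ≃ₗ[F] V) w ∈ L₀) ∧
        ∃ s t : F, (s ≠ 0 ∨ t ≠ 0) ∧ s • (g : V ≃ₗ[F] V) u + t • (g : V ≃ₗ[F] V) w ∈ L₁) := by
    by_contra hc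
    push_neg at hc
    have a0 := pres_of_meet hQ h (g := g) fun u hu w hw hu0 hw0 huw => hc u hu w hw hu0 hw0 huw
    have a1 := pres_of_meet hQ h.symm (g := g) fun u hu w hw hu0 hw0 huw => by
      obtain ⟨⟨s, t, hst, h1⟩, s', t', hst', h2⟩ := hc w hw u hu hw0 hu0 (by rw [QuadraticMap.polar_comm, huw])
      exact ⟨⟨t', s', hst'.symm, by rwa [add_comm]⟩, t, s, hst.symm, by rwa [add_comm]⟩
    have both : ∀ L L' : Submodule F V, IsPair Q k L L' →
        ((∀ x ∈ L₀, (g : V ≃ₗ[F] V) x ∈ L) ∧ ∀ x ∈ L₁, (g : V ≃ₗ[F] V) x ∈ L) → False := by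
      rintro L L' hp ⟨h0, h1⟩
      have hall : ∀ z, (g : V ≃ₗ[F] V) z ∈ L := fun z => by
        obtain ⟨a, ha, b, hb, rfl⟩ := h.split z
        rw [map_add]
        exact L.add_mem (h0 a ha) (h1 b hb)
      have hL : L = ⊤ := eq_top_iff.2 fun z _ => by
        obtain ⟨z', rfl⟩ := (g : V ≃ₗ[F] V).surjective z
        exact hall z'
      have h2 := hp.compl.disjoint
      rw [hL, top_disjoint] at h2
      have h3 := hp.rank₁
      rw [h2, finrank_bot] at h3
      have := hp.five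
      omega
    rcases a0 with a0 | a0 <;> rcases a1 with a1 | a1
    · exact hg (Or.inl ⟨a0, a1⟩)
    · exact both _ _ h ⟨a0, a1⟩
    · exact both _ _ h.symm ⟨a0, a1⟩
    · exact hg (Or.inr ⟨a0, a1⟩)
  set c := (g : V ≃ₗ[F] V) u
  set d := (g : V ≃ₗ[F] V) w
  have hqc : Q c = 0 := by rw [OQ.map_apply]; exact h.sing₀ u hu
  have hqd : Q d = 0 := by rw [OQ.map_apply]; exact h.sing₁ w hw
  have hcd : polar Q c d = 0 := by rw [OQ.map_polar]; exact huw
  have hind : ∀ s t : F, s • c + t • d = 0 → s = 0 ∧ t = 0 := by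
    intro s t hst
    rw [← map_smul, ← map_smul, ← map_add, LinearEquiv.map_eq_zero_iff] at hst
    obtain ⟨e1, e2⟩ := h.parts (L₀.smul_mem s hu) L₀.zero_mem (L₁.smul_mem t hw) L₁.zero_mem
      (by rw [hst, add_zero])
    exact ⟨(smul_eq_zero.1 e1).resolve_right hu0, (smul_eq_zero.1 e2).resolve_right hw0⟩
  have hpl : Pl hQ K (Submodule.span F {c, d}) :=
    pl_pair hQ hqc hqd hcd fun t => by
      have := (has_mixed hQ h hM hu (L₁.smul_mem t hw)).1.conj hQ hgK
      rwa [map_smul] at this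
  -- normal forms of planes meeting exactly one of the two subspaces
  have seed : ∀ L L' : Submodule F V, IsPair Q k L L' → (∀ {w a : V} (hw : Q w = 0) (ha : polar Q w a = 0), Pres L L' (eich hQ hw ha) → eich hQ hw ha ∈ K) →
      ∀ c d : V, Q d = 0 → Q c = 0 → polar Q c d = 0 → Pl hQ K (Submodule.span F {c, d}) →
        (∀ s t : F, s • c + t • d ∈ L → s = 0 ∧ t = 0) →
        (∃ s t : F, (s ≠ 0 ∨ t ≠ 0) ∧ s • c + t • d ∈ L') → ∀ x ∈ L', ∀ y ∈ L', Has hQ K x y := by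
    intro L L' hp hMp c d hqd hqc hcd hpl hno ⟨s, t, hst, hm⟩
    have hsub : ∀ a b : F, a • c + b • d ∈ Submodule.span F {c, d} := fun a b =>
      Submodule.mem_span_pair.2 ⟨a, b, rfl⟩
    have hcomm : polar Q d c = 0 := by rw [QuadraticMap.polar_comm, hcd]
    set m := s • c + t • d with hm'
    have make : ∀ d' ∈ Submodule.span F {c, d},
        (∀ a b : F, a • m + b • d' ∈ L → a = 0 ∧ b = 0) → ∀ x ∈ L', ∀ y ∈ L', Has hQ K x y := by
      intro d' hd' hno'
      obtain ⟨p, q, rfl⟩ := Submodule.mem_span_pair.1 hd'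
      obtain ⟨a, ha, b, hb, ha0, hab, hsd⟩ := seed_of_meet hQ hp hMp hm
        (d := p • c + q • d)
        (by rw [apply_add, apply_smul, apply_smul, polar_smul_left', polar_smul_right', hqc, hqd, hcd]; ring)
        (by
          rw [hm', polar_add_left', polar_add_right', polar_add_right', polar_smul_left', polar_smul_left',
            polar_smul_left', polar_smul_left', polar_smul_right', polar_smul_right', polar_smul_right',
            polar_smul_right', polar_self', polar_self', hqc, hqd, hcd, hcomm]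
          ring)
        (fun x hx y hy => hpl x (Submodule.span_le.2 (by simp [Set.insert_subset_iff, hsub, hm']) hx) y
          (Submodule.span_le.2 (by simp [Set.insert_subset_iff, hsub, hm']) hy)) hno'
      exact all_of_seed hQ hp hMp ha hb ha0 hab hsd
    rcases eq_or_ne s 0 with rfl | hs
    · refine make c (Submodule.subset_span (by simp)) fun a b hab => ?_
      have ht : t ≠ 0 := hst.resolve_left (not_not.2 rfl)
      obtain ⟨e1, e2⟩ := hno b (a * t) (by rwa [hm', zero_smul, zero_add, smul_smul, add_comm] at hab)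
      exact ⟨(mul_eq_zero.1 e2).resolve_right ht, e1⟩
    · refine make d (Submodule.subset_span (by simp)) fun a b hab => ?_
      obtain ⟨e1, e2⟩ := hno (a * s) (a * t + b) (by
        rwa [hm', smul_add, smul_smul, smul_smul, add_assoc, ← add_smul] at hab)
      have ha := (mul_eq_zero.1 e1).resolve_right hs
      refine ⟨ha, ?_⟩
      simpa [ha] using e2
  obtain ⟨n, hnK, hn0, hn1⟩ := hsw
  have flip : ∀ L L' : Submodule F V, (∀ x ∈ L, (n : V ≃ₗ[F] V) x ∈ L') →
      (∀ x ∈ L', ∀ y ∈ L', Has hQ K x y) → ∀ x ∈ L, ∀ y ∈ L, Has hQ K x y := by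
    intro L L' hLL hL x hx y hy
    have := (hL _ (hLL x hx) _ (hLL y hy)).conj hQ (K.inv_mem hnK)
    have hc : ∀ z, ((n⁻¹ : OQ Q) : V ≃ₗ[F] V) ((n : V ≃ₗ[F] V) z) = z := fun z =>
      (n : V ≃ₗ[F] V).symm_apply_apply z
    rwa [hc, hc] at this
  obtain ⟨hL₀, hL₁⟩ : (∀ x ∈ L₀, ∀ y ∈ L₀, Has hQ K x y) ∧ ∀ x ∈ L₁, ∀ y ∈ L₁, Has hQ K x y := by
    by_cases h0 : ∃ s t : F, (s ≠ 0 ∨ t ≠ 0) ∧ s • c + t • d ∈ L₀
    · have hno : ∀ s t : F, s • c + t • d ∈ L₁ → s = 0 ∧ t = 0 := fun s t hst => by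
        by_contra hne
        exact hbad ⟨h0, s, t, not_and_or.1 hne, hst⟩
      have := seed L₁ L₀ h.symm hM' c d hqd hqc hcd hpl hno h0
      exact ⟨this, flip L₁ L₀ hn1 this⟩
    · push_neg at h0
      have hno : ∀ s t : F, s • c + t • d ∈ L₀ → s = 0 ∧ t = 0 := fun s t hst => by
        by_contra hne
        exact h0 s t (not_and_or.1 hne) hst
      by_cases h1 : ∃ s t : F, (s ≠ 0 ∨ t ≠ 0) ∧ s • c + t • d ∈ L₁
      · have := seed L₀ L₁ h hM c d hqd hqc hcd hpl hno h1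
        exact ⟨flip L₀ L₁ hn0 this, this⟩
      · obtain ⟨v, hv, hvd, hvpl, hvno⟩ := meet_of_generic hQ h hM hqc hqd hcd hpl (fun s t hst => by
          by_contra hne
          exact h1 ⟨s, t, not_and_or.1 hne, hst⟩)
        have := seed L₁ L₀ h.symm hM' v d hqd (h.sing₀ v hv) hvd hvpl hvno
          ⟨1, 0, Or.inl one_ne_zero, by simpa using hv⟩
        exact ⟨this, flip L₁ L₀ hn1 this⟩
  have root : ∀ (L L' : Submodule F V), IsPair Q k L L' → (∀ {w a : V} (hw : Q w = 0) (ha : polar Q w a = 0), Pres L L' (eich hQ hw ha) → eich hQ hw ha ∈ K) →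
      (∀ x ∈ L, ∀ y ∈ L, Has hQ K x y) → ∀ x ∈ L, HasRoot hQ K x := by
    intro L L' hp hMp hL x hx a hqx ha
    obtain ⟨a₀, ha₀, a₁, ha₁, rfl⟩ := hp.split a
    exact (hL x hx a₀ ha₀).add hQ (has_mixed hQ hp hMp hx ha₁).1 (hp.polar₀ hx ha₀) hqx ha
  refine le_of_has hQ hn fun x a hqx hqa hxa => ?_
  obtain ⟨x₀, hx₀, x₁, hx₁, rfl⟩ := h.split x
  rcases eq_or_ne x₀ 0 with rfl | hx0
  · rw [zero_add]
    exact root L₁ L₀ h.symm hM' hL₁ x₁ hx₁ a
  obtain ⟨b, hb, hxb, -⟩ := exists_sep hQ h (S := ⊥) bot_le hx₀ (by simpa using hx0)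
  have hpp : polar Q x₀ x₁ = 0 := by
    rw [apply_add, h.sing₀ x₀ hx₀, h.sing₁ x₁ hx₁, zero_add, zero_add] at hqx
    exact hqx
  have hbK : eich hQ (h.sing₁ x₁ hx₁) (h.polar₁ hx₁ hb) ∈ K := hL₁ x₁ hx₁ b hb _ _
  have := (root L₀ L₁ h hM hL₀ x₀ hx₀).conj hQ hbK
  rw [eich_apply, hxb, hpp, h.sing₁ b hb] at this
  simpa using this a

omit h hM in
/-- Some element of `Ω` moves the pair. -/
theorem exists_not_pres (h : IsPair Q k L₀ L₁) : ∃ g ∈ eichGroup hQ, ¬ Pres L₀ L₁ g := by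
  obtain ⟨u, hu, hu0⟩ := Submodule.exists_mem_ne_zero_of_ne_bot (p := L₀) (fun e => by
    have h1 := h.rank₀; rw [e, finrank_bot] at h1; have := h.five; omega)
  obtain ⟨u', hu', hu''⟩ : ∃ u' ∈ L₀, u' ∉ Submodule.span F {u} := by
    by_contra! hc
    have h1 := Submodule.finrank_mono (show L₀ ≤ Submodule.span F {u} from hc)
    rw [finrank_span_singleton hu0, h.rank₀] at h1
    have := h.five
    omega
  obtain ⟨w, hw, hu'w, huw⟩ := exists_sep hQ h (S := Submodule.span F {u})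
    (Submodule.span_le.2 (by simp [hu])) hu' hu''
  refine ⟨eich hQ (h.sing₀ u hu) (h.polar₀ hu hu'), eich_mem hQ (finrank_V hQ h) _ _, ?_⟩
  have hw' : (eich hQ (h.sing₀ u hu) (h.polar₀ hu hu') : V ≃ₗ[F] V) w = w + u := by
    rw [eich_apply, QuadraticMap.polar_comm _ w u', hu'w, QuadraticMap.polar_comm _ w u,
      huw u (Submodule.mem_span_singleton_self u), h.sing₀ u' hu']
    simp
  rintro (⟨-, h1⟩ | ⟨-, h1⟩) <;> have h2 := h1 w hw <;> rw [hw'] at h2
  · exact hu0 (h.eq_zero hu ((L₁.add_mem_iff_right hw).1 h2))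
  · have hw0 := h.eq_zero ((L₀.add_mem_iff_left hu).1 h2) hw
    rw [hw0] at hu'w
    simp at hu'w

end CfsgLib.Geo.OrthPair

namespace CfsgLib.Geo.OrthPair

open CfsgLib.Classical CfsgLib.Classical.Quad CfsgLib.Geo.OrthMax
open QuadraticMap (polar polarBilin)

variable {F : Type*} [Field F] [Finite F] {ι : Type} [Fintype ι] [DecidableEq ι]

omit [Finite F] in
theorem mem_decomp_iff {Q : QuadraticForm F (ι → F)} {k : ℕ} (D : Fin 2 → Submodule F (ι → F))
    (h : IsPair Q k (D 0) (D 1)) (g : Cfsg.isometryGroup F (⇑Q)) :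
    (g : Matrix.GeneralLinearGroup ι F) ∈ Cfsg.Geo.decompositionStabilizer D ↔ Pres (D 0) (D 1) (oEquiv Q g) := by
  have happ : ∀ x, (oEquiv Q g : (ι → F) ≃ₗ[F] (ι → F)) x =
      Matrix.toLin' ((g : Matrix.GeneralLinearGroup ι F) : Matrix ι ι F) x := fun x => by
    rw [oEquiv_apply]; rfl
  constructor
  · rintro ⟨σ, hσ⟩
    have hm : ∀ i, ∀ x ∈ D i, (oEquiv Q g : (ι → F) ≃ₗ[F] (ι → F)) x ∈ D (σ i) := fun i x hx => by
      rw [happ, ← hσ i]; exact Submodule.mem_map_of_mem hx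
    have hne : σ 0 ≠ σ 1 := σ.injective.ne (by decide)
    by_cases h0 : σ 0 = 0
    · have h1 : σ 1 = 1 := by omega
      exact Or.inl ⟨fun x hx => h0 ▸ hm 0 x hx, fun x hx => h1 ▸ hm 1 x hx⟩
    · have h0' : σ 0 = 1 := by omega
      have h1 : σ 1 = 0 := by omega
      exact Or.inr ⟨fun x hx => h0' ▸ hm 0 x hx, fun x hx => h1 ▸ hm 1 x hx⟩
  · intro hp
    have key : ∀ L L' : Submodule F (ι → F), Module.finrank F L = k → Module.finrank F L' = k →
        (∀ x ∈ L, (oEquiv Q g : (ι → F) ≃ₗ[F] (ι → F)) x ∈ L') →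
        L.map (Matrix.toLin' ((g : Matrix.GeneralLinearGroup ι F) : Matrix ι ι F)) = L' := by
      intro L L' hL hL' hm
      have he : L.map (Matrix.toLin' ((g : Matrix.GeneralLinearGroup ι F) : Matrix ι ι F)) =
          L.map ((oEquiv Q g : (ι → F) ≃ₗ[F] (ι → F)) : (ι → F) →ₗ[F] (ι → F)) := by
        congr 1
      rw [he]
      refine Submodule.eq_of_le_of_finrank_eq (Submodule.map_le_iff_le_comap.2 hm) ?_
      rw [LinearEquiv.finrank_map_eq, hL, hL']
    rcases hp with ⟨h0, h1⟩ | ⟨h0, h1⟩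
    · refine ⟨1, fun i => ?_⟩
      fin_cases i
      · exact key _ _ h.rank₀ h.rank₀ h0
      · exact key _ _ h.rank₁ h.rank₁ h1
    · refine ⟨Equiv.swap 0 1, fun i => ?_⟩
      fin_cases i
      · exact key _ _ h.rank₀ h.rank₁ h0
      · exact key _ _ h.rank₁ h.rank₀ h1

theorem isMaximalIn_omega {Q : QuadraticForm F (ι → F)} (hQ : (polarBilin Q).Nondegenerate) {k : ℕ}
    (D : Fin 2 → Submodule F (ι → F)) (h : IsPair Q k (D 0) (D 1)) (hk : Even k) :
    Cfsg.Geo.IsMaximalIn (Cfsg.Geo.omegaGL (⇑Q))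
      (Cfsg.Geo.decompositionStabilizer D ⊓ Cfsg.Geo.omegaGL (⇑Q)) := by
  have hn' := finrank_V hQ h
  let e := oEquiv Q
  have hΩ : ∀ g : Cfsg.isometryGroup F (⇑Q),
      (g : Matrix.GeneralLinearGroup ι F) ∈ Cfsg.Geo.omegaGL (⇑Q) ↔ e g ∈ eichGroup hQ := by
    intro g
    have hmap : (commutator ↥(Cfsg.isometryGroup F (⇑Q))).map e.toMonoidHom = commutator (OQ Q) := by
      rw [commutator_def, commutator_def, Subgroup.map_commutator,
        Subgroup.map_top_of_surjective _ e.surjective]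
    rw [eichGroup_eq_commutator hQ hn', ← hmap, Subgroup.mem_map_equiv, MulEquiv.symm_apply_apply]
    exact ⟨fun ⟨g', hg', hgg⟩ => by rw [← Subtype.ext hgg]; exact hg', fun h => ⟨g, h, rfl⟩⟩
  have hmem : ∀ x, x ∈ Cfsg.Geo.omegaGL (⇑Q) → x ∈ Cfsg.isometryGroup F (⇑Q) := by
    rintro _ ⟨g, -, rfl⟩
    exact g.2
  refine ⟨lt_of_le_of_ne inf_le_right fun he => ?_, fun M hM hMS => ?_⟩
  · obtain ⟨x, hx, hnp⟩ := exists_not_pres hQ h
    obtain ⟨g, rfl⟩ := e.surjective x
    exact hnp ((mem_decomp_iff D h g).1 (he.ge ((hΩ g).2 hx)).1)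
  refine (eq_or_lt_of_le hM).imp Eq.symm fun hlt => le_antisymm hMS ?_
  obtain ⟨g₀, hgM, hgn⟩ := SetLike.exists_of_lt hlt
  set K := (M.subgroupOf (Cfsg.isometryGroup F (⇑Q))).map e.toMonoidHom
  have hmK : ∀ g : Cfsg.isometryGroup F (⇑Q), e g ∈ K ↔ (g : Matrix.GeneralLinearGroup ι F) ∈ M :=
    fun g => by
      rw [Subgroup.mem_map_equiv, MulEquiv.symm_apply_apply, Subgroup.mem_subgroupOf]
  have hK : ∀ x ∈ eichGroup hQ, Pres (D 0) (D 1) x → x ∈ K := by
    intro x hx hp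
    obtain ⟨g, rfl⟩ := e.surjective x
    exact (hmK g).2 (hM ⟨(mem_decomp_iff D h g).2 hp, (hΩ g).2 hx⟩)
  set g : Cfsg.isometryGroup F (⇑Q) := ⟨g₀, hmem _ (hMS hgM)⟩
  obtain ⟨n, hnE, hn0, hn1⟩ := exists_swap hQ h hk
  have htop := le_of_not_pres hQ h (fun hw ha hp => hK _ (eich_mem hQ hn' hw ha) hp)
    ⟨n, hK n hnE (Or.inr ⟨hn0, hn1⟩), hn0, hn1⟩ (g := e g) ((hmK g).2 hgM)
    fun hp => hgn ⟨(mem_decomp_iff D h g).2 hp, hMS hgM⟩
  intro x hx
  exact (hmK ⟨x, hmem x hx⟩).1 (htop ((hΩ ⟨x, _⟩).1 hx))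

end CfsgLib.Geo.OrthPair
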