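/-
Orthogonal decompositions into isometric nondegenerate planes: components, vectors of given value, reflections
supported on the planes, and elements interchanging two planes.
-/
import Cfsg.Agent.Lib.Geo.OrthBlockRoots

set_option autoImplicit false

namespace CfsgLib.Geo.OrthPlane

open CfsgLib.Classical CfsgLib.Classical.Quad CfsgLib.Geo.OrthMax CfsgLib.Geo.OrthBlock
open QuadraticMap (polar polarBilin)

variable {F : Type*} [Field F] {V : Type*} [AddCommGroup V] [Module F V] [FiniteDimensional F V]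
  {Q : QuadraticForm F V} {t : ℕ} {D : Fin t → Submodule F V}

/-- The hypotheses on the decomposition into planes. -/
structure IsPlanes (Q : QuadraticForm F V) (D : Fin t → Submodule F V) : Prop where
  nondeg : (polarBilin Q).Nondegenerate
  nd : ∀ i, Nondeg Q (D i)
  orth : ∀ i j, i ≠ j → ∀ u ∈ D i, ∀ v ∈ D j, polar Q u v = 0
  rank : ∀ i, Module.finrank F (D i) = 2
  span : iSup D = ⊤
  iso : ∀ i j, ∃ e : D i ≃ₗ[F] D j, ∀ u, Q (e u : V) = Q (u : V)
  five_le : 5 ≤ t
  five : 5 ≤ Module.finrank F V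
  type : (∀ i, ∀ v ∈ D i, Q v = 0 → v = 0) ∧ Nat.card F ≠ 3 ∨
    (∀ i, ∃ v ∈ D i, v ≠ 0 ∧ Q v = 0) ∧ 7 ≤ Nat.card F

/-- The element maps each plane into itself. -/
def Keep (D : Fin t → Submodule F V) (g : OQ Q) : Prop :=
  ∀ j, ∀ x ∈ D j, (g : V ≃ₗ[F] V) x ∈ D j

omit [FiniteDimensional F V] in
theorem Keep.permutes {g : OQ Q} (hg : Keep D g) : Permutes D g := fun i => ⟨i, hg i⟩

omit [FiniteDimensional F V] in
theorem Keep.mul {g g' : OQ Q} (hg : Keep D g) (hg' : Keep D g') : Keep D (g * g') :=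
  fun j x hx => hg j _ (hg' j x hx)

omit [FiniteDimensional F V] in
theorem refl_congr {v v' : V} (hv : Q v ≠ 0) (hv' : Q v' ≠ 0) (e : v = v') : refl hv = refl hv' := by
  subst e; rfl

omit [FiniteDimensional F V] in
theorem refl_smul {v : V} (hv : Q v ≠ 0) {c : F} (hcv : Q (c • v) ≠ 0) : refl hcv = refl hv := by
  have hc : c ≠ 0 := fun e => hcv (by rw [e, zero_smul, QuadraticMap.map_zero])
  refine Subtype.ext (LinearEquiv.ext fun z => ?_)
  rw [refl_apply, refl_apply, apply_smul, polar_smul_right', smul_smul]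
  congr 2
  field_simp

omit [FiniteDimensional F V] in
theorem refl_perp {v : V} (hv : Q v ≠ 0) {z : V} (hz : polar Q z v = 0) : (refl hv : V ≃ₗ[F] V) z = z := by
  rw [refl_apply, hz, mul_zero, zero_smul, sub_zero]

theorem refl_conj' (g : OQ Q) {v : V} (hv : Q v ≠ 0) (hgv : Q ((g : V ≃ₗ[F] V) v) ≠ 0) :
    g * refl hv * g⁻¹ = refl hgv := by
  rw [refl_conj]

variable (h : IsPlanes Q D)
include h

/-- The component in a plane. -/
noncomputable def comp (i : Fin t) : V →ₗ[F] V :=
  (D i).projection (perp Q (D i)) ((h.nd i).isCompl h.nondeg)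

theorem comp_mem (i : Fin t) (z : V) : comp h i z ∈ D i := Submodule.projection_apply_mem _ z

theorem mem_perp_plane {i j : Fin t} (hij : i ≠ j) {z : V} (hz : z ∈ D j) : z ∈ perp Q (D i) :=
  mem_perp.2 fun w hw => h.orth i j hij w hw z hz

theorem comp_of_mem {i : Fin t} {z : V} (hz : z ∈ D i) : comp h i z = z :=
  Submodule.projection_apply_of_mem_left _ hz

theorem comp_of_ne {i j : Fin t} (hij : i ≠ j) {z : V} (hz : z ∈ D j) : comp h i z = 0 :=
  Submodule.projection_apply_of_mem_right _ (mem_perp_plane h hij hz)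

theorem sub_comp (i : Fin t) (z : V) : z - comp h i z ∈ perp Q (D i) := Submodule.sub_projection_mem _ z

theorem polar_comp' {i : Fin t} {v : V} (hv : v ∈ D i) (z : V) : polar Q z v = polar Q (comp h i z) v := by
  have h1 := perp_left (sub_comp h i z) hv
  rwa [QuadraticMap.polar_sub_left, sub_eq_zero] at h1

theorem polar_comp_right {i : Fin t} {v : V} (hv : v ∈ D i) (z : V) : polar Q v z = polar Q v (comp h i z) := by
  rw [QuadraticMap.polar_comm, polar_comp' h hv, QuadraticMap.polar_comm]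

theorem sum_comp (z : V) : ∑ i, comp h i z = z := by
  refine sub_eq_zero.1 (h.nondeg.1 _ fun y => ?_)
  suffices (⊤ : Submodule F V) ≤ LinearMap.ker (polarBilin Q (∑ i, comp h i z - z)) from
    LinearMap.mem_ker.1 (this (Submodule.mem_top (x := y)))
  rw [← h.span, iSup_le_iff]
  intro j v hv
  rw [LinearMap.mem_ker, QuadraticMap.polarBilin_apply_apply, QuadraticMap.polar_sub_left,
    ← QuadraticMap.polarBilin_apply_apply, map_sum, LinearMap.sum_apply, Finset.sum_eq_single j]
  · rw [QuadraticMap.polarBilin_apply_apply, polar_comp' h hv z, sub_self]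
  · exact fun i _ hi => h.orth i j hi _ (comp_mem h i z) v hv
  · exact fun hn => absurd (Finset.mem_univ j) hn

theorem apply_eq_sum (x : V) : Q x = ∑ i, Q (comp h i x) := by
  classical
  suffices ∀ S : Finset (Fin t), Q (∑ i ∈ S, comp h i x) = ∑ i ∈ S, Q (comp h i x) by
    rw [← this Finset.univ, sum_comp]
  intro S
  induction S using Finset.induction with
  | empty => simp
  | insert j S hj ih =>
    have h0 : ∀ i ∈ S, polarBilin Q (comp h j x) (comp h i x) = 0 := fun i hi =>
      h.orth j i (fun e => hj (e ▸ hi)) _ (comp_mem h j x) _ (comp_mem h i x)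
    rw [Finset.sum_insert hj, Finset.sum_insert hj, apply_add, ih, ← QuadraticMap.polarBilin_apply_apply,
      map_sum, Finset.sum_eq_zero h0, add_zero]

theorem exists_comp_ne {x : V} (hx : x ≠ 0) : ∃ i, comp h i x ≠ 0 := by
  by_contra! hc
  exact hx ((sum_comp h x).symm.trans (Finset.sum_eq_zero fun i _ => hc i))

theorem eq_comp_of_forall {x : V} {i : Fin t} (hx : ∀ j, j ≠ i → comp h j x = 0) : x = comp h i x := by
  conv_lhs => rw [← sum_comp h x]
  exact Finset.sum_eq_single i (fun j _ hj => hx j hj) (fun hn => absurd (Finset.mem_univ i) hn)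

theorem exists_index_avoid (S : Finset (Fin t)) (hS : S.card < 5) : ∃ n, n ∉ S := by
  obtain ⟨n, -, hn⟩ := Finset.exists_mem_notMem_of_card_lt_card (s := S) (t := (Finset.univ : Finset (Fin t)))
    (by rw [Finset.card_univ, Fintype.card_fin]; have := h.five_le; omega)
  exact ⟨n, hn⟩

theorem polar_eq_zero_of_perp {p : Fin t} {x : V} (hx : x ∈ D p) {a b : V} (ha : a ∈ D p) (hb : b ∈ D p)
    (hab : b ∉ Submodule.span F {a}) (ha0 : a ≠ 0) (hxa : polar Q x a = 0) (hxb : polar Q x b = 0) : x = 0 := by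
  have hle : Submodule.span F {a, b} ≤ D p := Submodule.span_le.2 (by simp [Set.insert_subset_iff, ha, hb])
  have heq : Submodule.span F {a, b} = D p := by
    refine Submodule.eq_of_le_of_finrank_le hle ?_
    have hlt : Submodule.span F {a} < Submodule.span F {a, b} :=
      lt_of_le_of_ne (Submodule.span_mono (by simp)) fun e => hab (e.ge (Submodule.subset_span (by simp)))
    have h1 := Submodule.finrank_lt_finrank_of_lt hlt
    rw [finrank_span_singleton ha0] at h1
    rw [h.rank]
    omega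
  refine h.nd p x hx fun y hy => ?_
  rw [← heq, Submodule.mem_span_pair] at hy
  obtain ⟨s, r, rfl⟩ := hy
  rw [polar_add_right', polar_smul_right', polar_smul_right', hxa, hxb]
  ring

theorem eq_span_of_indep {p : Fin t} {a b y : V} (ha : a ∈ D p) (hb : b ∈ D p) (hy : y ∈ D p)
    (hab : b ∉ Submodule.span F {a}) (ha0 : a ≠ 0) : ∃ s r : F, s • a + r • b = y := by
  have hle : Submodule.span F {a, b} ≤ D p := Submodule.span_le.2 (by simp [Set.insert_subset_iff, ha, hb])
  have heq : Submodule.span F {a, b} = D p := by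
    refine Submodule.eq_of_le_of_finrank_le hle ?_
    have hlt : Submodule.span F {a} < Submodule.span F {a, b} :=
      lt_of_le_of_ne (Submodule.span_mono (by simp)) fun e => hab (e.ge (Submodule.subset_span (by simp)))
    have h1 := Submodule.finrank_lt_finrank_of_lt hlt
    rw [finrank_span_singleton ha0] at h1
    rw [h.rank]
    omega
  exact Submodule.mem_span_pair.1 (heq.ge hy)

theorem exists_perp_line (p : Fin t) {a : V} (ha : a ∈ D p) : ∃ v ∈ D p, v ≠ 0 ∧ polar Q a v = 0 := by
  by_contra! hc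
  have h1 := Submodule.finrank_sup_add_finrank_inf_eq (D p) (perp Q (Submodule.span F {a}))
  have h2 := Submodule.finrank_le (D p ⊔ perp Q (Submodule.span F {a}))
  have h3 : D p ⊓ perp Q (Submodule.span F {a}) = ⊥ := by
    refine (Submodule.eq_bot_iff _).2 fun v hv => ?_
    by_contra h0
    exact hc v hv.1 h0 (mem_perp_span.1 hv.2)
  rw [h3, h.rank, finrank_perp h.nondeg, finrank_bot] at h1
  have h4 : Module.finrank F (Submodule.span F {a}) ≤ 1 := by
    rcases eq_or_ne a 0 with rfl | ha0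
    · rw [Submodule.span_zero_singleton, finrank_bot]; exact Nat.zero_le 1
    · rw [finrank_span_singleton ha0]
  have := h.five
  omega

theorem perp_line_unique {p : Fin t} {a v w : V} (ha : a ∈ D p) (ha0 : a ≠ 0) (hv : v ∈ D p) (hv0 : v ≠ 0)
    (hw : w ∈ D p) (hav : polar Q a v = 0) (haw : polar Q a w = 0) : w ∈ Submodule.span F {v} := by
  by_contra hni
  exact ha0 (polar_eq_zero_of_perp h ha hv hw hni hv0 hav haw)

theorem perp_ne_of_ne {p : Fin t} {a v : V} (ha : a ∈ D p) (hqa : Q a ≠ 0) (hv : v ∈ D p) (hv0 : v ≠ 0)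
    (hav : polar Q a v = 0) : Q v ≠ 0 := by
  intro hqv
  have hva : a ∉ Submodule.span F {v} := fun hm => by
    obtain ⟨c, rfl⟩ := Submodule.mem_span_singleton.1 hm
    rw [apply_smul, hqv, mul_zero] at hqa
    exact hqa rfl
  refine hv0 (polar_eq_zero_of_perp h hv hv ha hva hv0 ?_ (by rw [QuadraticMap.polar_comm]; exact hav))
  rw [polar_self', hqv, mul_zero]

/-- A plane with a singular vector has a hyperbolic pair. -/
theorem exists_hyp {p : Fin t} {u : V} (hu : u ∈ D p) (hu0 : u ≠ 0) (hqu : Q u = 0) :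
    ∃ f ∈ D p, Q f = 0 ∧ polar Q u f = 1 := (h.nd p).exists_pair hu hqu hu0

/-- Three distinct singular lines do not fit in a plane. -/
theorem singular_lines {p : Fin t} {u f y : V} (hu : u ∈ D p) (hf : f ∈ D p) (hy : y ∈ D p) (hqu : Q u = 0)
    (hqf : Q f = 0) (hqy : Q y = 0) (huf : polar Q u f = 1) :
    y ∈ Submodule.span F {u} ∨ y ∈ Submodule.span F {f} := by
  have hu0 : u ≠ 0 := fun e => by rw [e, QuadraticMap.polar_zero_left] at huf; exact zero_ne_one huf
  obtain ⟨s, r, rfl⟩ := eq_span_of_indep h hu hf hy (fun hm => by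
    obtain ⟨c, rfl⟩ := Submodule.mem_span_singleton.1 hm
    rw [polar_smul_right', polar_self', hqu] at huf
    simp at huf) hu0
  rw [apply_add, apply_smul, apply_smul, hqu, hqf, polar_smul_left', polar_smul_right', huf] at hqy
  rcases mul_eq_zero.1 (show s * r = 0 by linear_combination hqy) with h0 | h0
  · right; rw [h0, zero_smul, zero_add]; exact Submodule.smul_mem _ _ (Submodule.mem_span_singleton_self f)
  · left; rw [h0, zero_smul, add_zero]; exact Submodule.smul_mem _ _ (Submodule.mem_span_singleton_self u)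

theorem keep_refl {p : Fin t} {v : V} (hv : v ∈ D p) (hqv : Q v ≠ 0) : Keep D (refl hqv) := by
  intro j x hx
  rcases eq_or_ne j p with rfl | hjp
  · exact (intl_refl hv hqv).1 x hx
  · rw [refl_perp hqv (h.orth j p hjp x hx v hv)]; exact hx

theorem comp_refl {p : Fin t} {v : V} (hv : v ∈ D p) (hqv : Q v ≠ 0) (z : V) (j : Fin t) :
    comp h j ((refl hqv : V ≃ₗ[F] V) z) = if j = p then (refl hqv : V ≃ₗ[F] V) (comp h j z) else comp h j z := by
  rw [refl_apply, map_sub, map_smul]
  split_ifs with hjp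
  · subst hjp
    rw [comp_of_mem h hv, refl_apply, ← polar_comp' h hv]
  · rw [comp_of_ne h hjp hv, smul_zero, sub_zero]

variable [Finite F]

theorem exists_value (p : Fin t) {c : F} (hc : c ≠ 0) : ∃ v ∈ D p, Q v = c := by
  obtain ⟨v, hv⟩ := exists_apply_eq (h.nd p).comp (by rw [h.rank]) hc
  exact ⟨v, v.2, hv⟩

theorem exists_anti (l m : Fin t) : ∃ J : D l ≃ₗ[F] D m, ∀ v, Q (J v : V) = -Q (v : V) := by
  obtain ⟨J, hJ⟩ := exists_neg_similitude (Q.comp (D l).subtype) (h.nd l).comp (by rw [h.rank]; exact even_two)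
  obtain ⟨e, he⟩ := h.iso l m
  refine ⟨J.trans e, fun v => ?_⟩
  rw [LinearEquiv.trans_apply, he]
  exact hJ v

theorem refl_mul_mem {a b : V} (ha : Q a ≠ 0) (hb : Q b ≠ 0) (hsq : IsSquare (Q a * Q b)) :
    refl ha * refl hb ∈ eichGroup h.nondeg := by
  obtain ⟨r, hr⟩ := hsq
  have hr0 : r ≠ 0 := fun e => by rw [e, mul_zero] at hr; exact mul_ne_zero ha hb hr
  have hq : Q ((r / Q b) • b) = Q a := by
    rw [apply_smul]
    field_simp
    linear_combination -hr
  rw [← refl_smul hb (c := r / Q b) (by rw [hq]; exact ha)]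
  exact refl_mul_refl_mem h.nondeg h.five ha _ hq.symm

/-- Modulo `Ω` every isometry is supported on one plane. -/
theorem exists_corr (l : Fin t) (g : OQ Q) : ∃ s, Intl D l s ∧ g * s⁻¹ ∈ eichGroup h.nondeg := by
  have hn := (eichGroup_normal h.nondeg)
  have hg : g ∈ reflGroup Q := by
    rw [reflGroup_eq_top h.nondeg (Or.inr (by have := h.five; omega))]; exact Subgroup.mem_top g
  induction hg using Subgroup.closure_induction with
  | mem r hr =>
    obtain ⟨v, hv, rfl⟩ := hr
    obtain ⟨v', hv', hqv'⟩ := exists_value h l hv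
    refine ⟨refl (v := v') (by rw [hqv']; exact hv), intl_refl hv' _, ?_⟩
    rw [inv_eq_of_mul_eq_one_left (refl_mul_self _)]
    exact refl_mul_refl_mem h.nondeg h.five hv _ hqv'.symm
  | one => exact ⟨1, Intl.one l, by simp⟩
  | mul x y _ _ hx hy =>
    obtain ⟨s, hs, hxs⟩ := hx
    obtain ⟨s', hs', hys⟩ := hy
    refine ⟨s * s', hs.mul hs', ?_⟩
    rw [show x * y * (s * s')⁻¹ = x * s⁻¹ * (s * (y * s'⁻¹) * s⁻¹) by group]
    exact mul_mem hxs (hn.conj_mem _ hys s)
  | inv x _ hx =>
    obtain ⟨s, hs, hxs⟩ := hx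
    refine ⟨s⁻¹, hs.inv, ?_⟩
    rw [show x⁻¹ * s⁻¹⁻¹ = s⁻¹ * (x * s⁻¹)⁻¹ * s⁻¹⁻¹ by group]
    exact hn.conj_mem _ (inv_mem hxs) s⁻¹

/-- An element of `Ω` interchanging two planes and fixing all the others. -/
theorem exists_transposition {l m : Fin t} :
    ∃ g ∈ eichGroup h.nondeg, Permutes D g ∧ (∀ i, i ≠ l → i ≠ m → ∀ u ∈ D i, (g : V ≃ₗ[F] V) u = u) ∧
      ∀ z ∈ D m, ∃ y ∈ D l, (g : V ≃ₗ[F] V) y = z := by
  classical
  set σ := Equiv.swap l m with hσ
  have hφ : ∀ j, ∃ e : D j ≃ₗ[F] D (σ j), (∀ u, Q (e u : V) = Q (u : V)) ∧ (σ j = j → ∀ u, (e u : V) = u) := by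
    intro j
    by_cases hj : σ j = j
    · exact ⟨LinearEquiv.ofEq _ _ (by rw [hj]), fun u => rfl, fun _ u => rfl⟩
    · obtain ⟨e, he⟩ := h.iso j (σ j)
      exact ⟨e, he, fun hj' => absurd hj' hj⟩
  choose φ hφ hφ' using hφ
  let P : ∀ j, V →ₗ[F] D j := fun j => (comp h j).codRestrict (D j) (comp_mem h j)
  let T : V →ₗ[F] V := ∑ j, (D (σ j)).subtype ∘ₗ (φ j).toLinearMap ∘ₗ P j
  have hT : ∀ z, T z = ∑ j, ((φ j (P j z) : D (σ j)) : V) := fun z => by
    simp [T, LinearMap.sum_apply]
  have hTQ : ∀ z, Q (T z) = Q z := by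
    intro z
    rw [hT, apply_eq_sum h z]
    have key : ∀ S : Finset (Fin t), Q (∑ j ∈ S, ((φ j (P j z) : D (σ j)) : V)) = ∑ j ∈ S, Q (comp h j z) := by
      intro S
      induction S using Finset.induction with
      | empty => simp
      | insert j S hj ih =>
        have h0 : ∀ i ∈ S, polarBilin Q ((φ j (P j z) : D (σ j)) : V) ((φ i (P i z) : D (σ i)) : V) = 0 := fun i hi =>
          h.orth (σ j) (σ i) (fun e => hj (σ.injective e ▸ hi)) _ (Subtype.coe_prop _) _ (Subtype.coe_prop _)
        rw [Finset.sum_insert hj, Finset.sum_insert hj, apply_add, ih, ← QuadraticMap.polarBilin_apply_apply,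
          map_sum, Finset.sum_eq_zero h0, add_zero, hφ]
        rfl
    exact key Finset.univ
  set τ := ofPreserves h.nondeg T hTQ
  have hτ : ∀ j, ∀ z (hz : z ∈ D j), (τ : V ≃ₗ[F] V) z = (φ j ⟨z, hz⟩ : V) := by
    intro j z hz
    rw [ofPreserves_apply, hT, Finset.sum_eq_single j]
    · rw [show P j z = ⟨z, hz⟩ from Subtype.ext (comp_of_mem h hz)]
    · intro i _ hi
      rw [show P i z = 0 from Subtype.ext (comp_of_ne h hi hz), map_zero, ZeroMemClass.coe_zero]
    · exact fun hn => absurd (Finset.mem_univ j) hn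
  obtain ⟨s, hs, hsE⟩ := exists_corr h l τ
  have hτm : ∀ j, ∀ z ∈ D j, (τ : V ≃ₗ[F] V) z ∈ D (σ j) := fun j z hz => by
    rw [hτ j z hz]; exact Subtype.coe_prop _
  refine ⟨τ * s⁻¹, hsE, fun j => ⟨σ j, fun x hx => hτm j _ ?_⟩, fun i hil him u hu => ?_, fun z hz => ?_⟩
  · rcases eq_or_ne j l with rfl | hjl
    · exact hs.inv.1 x hx
    · have e := hs.inv.2 x (mem_perp_plane h hjl.symm hx)
      exact e.symm ▸ hx
  · show (τ : V ≃ₗ[F] V) (((s⁻¹ : OQ Q) : V ≃ₗ[F] V) u) = u
    rw [hs.inv.2 u (mem_perp_plane h hil.symm hu), hτ i u hu]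
    exact hφ' i (Equiv.swap_apply_of_ne_of_ne hil him) _
  · obtain ⟨y, hy⟩ := (φ l).surjective ⟨z, by rw [hσ, Equiv.swap_apply_left]; exact hz⟩
    refine ⟨(s : V ≃ₗ[F] V) (y : V), hs.1 _ y.2, ?_⟩
    show (τ : V ≃ₗ[F] V) ((s : V ≃ₗ[F] V).symm ((s : V ≃ₗ[F] V) (y : V))) = z
    rw [LinearEquiv.symm_apply_apply, hτ l y y.2]
    exact congrArg Subtype.val hy

/-! ### Vectors of a given value in a plane -/

/-- The vectors of value `c` in a plane. -/
def circle (p : Fin t) (c : F) : Set V := {v | v ∈ D p ∧ Q v = c}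

theorem two_zero_or (p : Fin t) : (∀ v ∈ D p, Q v = 0 → v = 0) ∨ 7 ≤ Nat.card F :=
  h.type.imp (fun h' => h'.1 p) (fun h' => h'.2)

theorem card_ne_three : Nat.card F ≠ 3 := by
  rcases h.type with h' | h'
  · exact h'.2
  · have := h'.2; omega

/-- A vector of given value avoiding few lines. -/
theorem exists_circle_avoid {p : Fin t} {c : F} (hc : c ≠ 0) (L : Finset V)
    (hL : L.card ≤ 2 ∨ ((2 : F) = 0 ∧ L.card ≤ 3 ∧ 7 ≤ Nat.card F) ∨ (L.card ≤ 4 ∧ 11 ≤ Nat.card F))
    : ∃ v ∈ D p, Q v = c ∧ ∀ a ∈ L, v ∉ Submodule.span F {a} := by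
  classical
  have : Fintype F := Fintype.ofFinite F
  obtain ⟨v, hv, hqv⟩ := exists_value h p hc
  have hv0 : v ≠ 0 := fun e => hc (by rw [← hqv, e, QuadraticMap.map_zero])
  obtain ⟨z, hz, hvz⟩ := (h.nd p).exists_polar_one hv hv0
  have hzv : z ∉ Submodule.span F {v} ∨ (2 : F) ≠ 0 := by
    by_cases h2 : (2 : F) = 0
    · refine Or.inl fun hm => ?_
      obtain ⟨s, rfl⟩ := Submodule.mem_span_singleton.1 hm
      rw [polar_smul_right', polar_self', h2, zero_mul, mul_zero] at hvz
      exact zero_ne_one hvz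
    · exact Or.inr h2
  obtain ⟨w, hw, hwv⟩ : ∃ w ∈ D p, w ∉ Submodule.span F {v} := by
    by_contra! hc'
    have h1 := Submodule.finrank_mono (show D p ≤ Submodule.span F {v} from hc')
    rw [finrank_span_singleton hv0, h.rank] at h1
    omega
  -- reflecting `v` in the nonsingular lines
  set S : Finset F := Finset.univ.filter fun s => Q (w + s • v) ≠ 0
  let R : F → V := fun s => v - ((Q (w + s • v))⁻¹ * polar Q v (w + s • v)) • (w + s • v)
  have hRD : ∀ s, R s ∈ D p := fun s =>
    (D p).sub_mem hv ((D p).smul_mem _ ((D p).add_mem hw ((D p).smul_mem _ hv)))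
  have hRq : ∀ s ∈ S, Q (R s) = c := fun s hs => by
    have hs' : Q (w + s • v) ≠ 0 := (Finset.mem_filter.1 hs).2
    have : R s = (refl hs' : V ≃ₗ[F] V) v := by rw [refl_apply]
    rw [this, OQ.map_apply, hqv]
  have hli : ∀ a b : F, a • w + b • v = 0 → a = 0 ∧ b = 0 := by
    intro a b hab
    rcases eq_or_ne a 0 with rfl | ha
    · exact ⟨rfl, (smul_eq_zero.1 (by simpa using hab)).resolve_right hv0⟩
    · exfalso
      refine hwv (Submodule.mem_span_singleton.2 ⟨-(a⁻¹ * b), ?_⟩)
      have h1 : a⁻¹ • (a • w + b • v) = 0 := by rw [hab, smul_zero]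
      rw [smul_add, inv_smul_smul₀ ha, smul_smul, add_eq_zero_iff_eq_neg, ← neg_smul] at h1
      exact h1.symm
  have hinj : Set.InjOn R S := by
    intro s hs s' hs' he
    have h1 := sub_right_inj.1 he
    set k := (Q (w + s • v))⁻¹ * polar Q v (w + s • v)
    set k' := (Q (w + s' • v))⁻¹ * polar Q v (w + s' • v)
    obtain ⟨e1, e2⟩ := hli (k - k') (k * s - k' * s') (by
      rw [← sub_eq_zero] at h1
      rw [← h1]; module)
    rcases eq_or_ne k 0 with hk | hk
    · have hk' : k' = 0 := by linear_combination hk - e1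
      have z1 := (mul_eq_zero.1 hk).resolve_left (inv_ne_zero (Finset.mem_filter.1 hs).2)
      have z2 := (mul_eq_zero.1 hk').resolve_left (inv_ne_zero (Finset.mem_filter.1 hs').2)
      rw [polar_add_right', polar_smul_right'] at z1 z2
      by_contra hne
      have z3 : polar Q v v = 0 :=
        (mul_eq_zero.1 (show (s - s') * polar Q v v = 0 by linear_combination z1 - z2)).resolve_left
          (sub_ne_zero.2 hne)
      have z4 : polar Q v w = 0 := by linear_combination z1 - s * z3
      exact hv0 (polar_eq_zero_of_perp h hv hv hw hwv hv0 z3 z4)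
    · exact sub_eq_zero.1 ((mul_eq_zero.1 (show k * (s - s') = 0 by linear_combination e2 - s' * e1)).resolve_left hk)
  set C : Finset V := insert (-v) (S.image R)
  have hCmem : ∀ y ∈ C, y ∈ D p ∧ Q y = c := by
    intro y hy
    rcases Finset.mem_insert.1 hy with rfl | hy
    · exact ⟨(D p).neg_mem hv, by rw [QuadraticMap.map_neg, hqv]⟩
    · obtain ⟨s, hs, rfl⟩ := Finset.mem_image.1 hy
      exact ⟨hRD s, hRq s hs⟩
  have hnotin : -v ∉ S.image R := by
    intro hm
    obtain ⟨s, hs, he⟩ := Finset.mem_image.1 hm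
    set k := (Q (w + s • v))⁻¹ * polar Q v (w + s • v)
    obtain ⟨e1, e2⟩ := hli k (k * s - 2) (by
      rw [← sub_eq_zero] at he
      have h1 : v - k • (w + s • v) - -v = 0 := he
      rw [← neg_eq_zero, ← h1]; module)
    rw [e1, zero_mul, zero_sub, neg_eq_zero] at e2
    have z1 := (mul_eq_zero.1 e1).resolve_left (inv_ne_zero (Finset.mem_filter.1 hs).2)
    rw [polar_add_right', polar_smul_right', polar_self', e2, zero_mul, mul_zero, add_zero] at z1
    exact hv0 (polar_eq_zero_of_perp h hv hv hw hwv hv0 (by rw [polar_self', e2, zero_mul]) z1)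
  have hC : S.card + 1 = C.card := by
    rw [Finset.card_insert_of_notMem hnotin, Finset.card_image_of_injOn hinj]
  -- few parameters give singular vectors
  have hS2 : Fintype.card F ≤ S.card + 2 := by
    have hroots : ∀ s₁ s₂ s₃ : F, s₁ ≠ s₂ → s₁ ≠ s₃ → s₂ ≠ s₃ → Q (w + s₁ • v) = 0 → Q (w + s₂ • v) = 0 →
        Q (w + s₃ • v) = 0 → False := by
      intro s₁ s₂ s₃ h12 h13 h23 e1 e2 e3
      rw [apply_add, apply_smul, polar_smul_right', hqv] at e1 e2 e3
      have f1 : (s₁ + s₂) * c + polar Q w v = 0 :=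
        (mul_eq_zero.1 (show (s₁ - s₂) * ((s₁ + s₂) * c + polar Q w v) = 0 by
          linear_combination e1 - e2)).resolve_left (sub_ne_zero.2 h12)
      have f2 : (s₁ + s₃) * c + polar Q w v = 0 :=
        (mul_eq_zero.1 (show (s₁ - s₃) * ((s₁ + s₃) * c + polar Q w v) = 0 by
          linear_combination e1 - e3)).resolve_left (sub_ne_zero.2 h13)
      exact h23 (sub_eq_zero.1 ((mul_eq_zero.1 (show (s₂ - s₃) * c = 0 by linear_combination f1 - f2)).resolve_right hc))
    have h1 : (Finset.univ \ S).card ≤ 2 := by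
      by_contra! hlt
      obtain ⟨a, b, d, ha, hb, hd, hab, had, hbd⟩ := Finset.two_lt_card_iff.1 hlt
      simp only [S, Finset.mem_sdiff, Finset.mem_univ, Finset.mem_filter, true_and, not_not] at ha hb hd
      exact hroots a b d hab had hbd ha hb hd
    have h2 := Finset.card_sdiff_add_card_eq_card (Finset.subset_univ S)
    rw [Finset.card_univ] at h2
    omega
  have haniso : (∀ y ∈ D p, Q y = 0 → y = 0) → Fintype.card F = S.card := fun ha => by
    have : S = Finset.univ := Finset.filter_true_of_mem fun s _ hs => hwv (by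
      have h1 := ha _ ((D p).add_mem hw ((D p).smul_mem s hv)) hs
      rw [eq_neg_of_add_eq_zero_left h1]
      exact neg_mem (Submodule.smul_mem _ _ (Submodule.mem_span_singleton_self v)))
    rw [this, Finset.card_univ]
  by_contra! hcon
  have hline : ∀ a ∈ L, (C.filter fun y => y ∈ Submodule.span F {a}).card ≤ if (2 : F) = 0 then 1 else 2 := by
    intro a _
    rcases (C.filter fun y => y ∈ Submodule.span F {a}).eq_empty_or_nonempty with he | ⟨y, hy⟩
    · rw [he]; split_ifs <;> simp
    obtain ⟨hyC, hya⟩ := Finset.mem_filter.1 hy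
    obtain ⟨hyD, hqy⟩ := hCmem y hyC
    have hsub : ∀ y' ∈ C.filter (fun y => y ∈ Submodule.span F {a}), y' = y ∨ y' = -y := by
      intro y' hy'
      obtain ⟨hyC', hya'⟩ := Finset.mem_filter.1 hy'
      obtain ⟨r, rfl⟩ := Submodule.mem_span_singleton.1 hya
      obtain ⟨r', rfl⟩ := Submodule.mem_span_singleton.1 hya'
      have h1 := (hCmem _ hyC').2
      rw [apply_smul] at h1 hqy
      have hqa : Q a ≠ 0 := fun e => hc (by rw [← hqy, e, mul_zero])
      rcases mul_self_eq_mul_self_iff.1 (mul_right_cancel₀ hqa (h1.trans hqy.symm)) with e | e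
      · exact Or.inl (by rw [e])
      · exact Or.inr (by rw [e, neg_smul])
    split_ifs with h2
    · refine Finset.card_le_one.2 fun y₁ h₁ y₂ h₂ => ?_
      have hneg : -y = y := by
        rw [← sub_eq_zero, show -y - y = (-(2 : F)) • y by module, h2, neg_zero, zero_smul]
      rcases hsub y₁ h₁ with e | e <;> rcases hsub y₂ h₂ with e' | e' <;> simp [e, e', hneg]
    · exact le_trans (Finset.card_le_card fun y' hy' => by simpa using hsub y' hy') Finset.card_le_two
  have hcov : C ⊆ L.biUnion fun a => C.filter fun y => y ∈ Submodule.span F {a} := fun y hy => by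
    obtain ⟨a, ha, hya⟩ := hcon y (hCmem y hy).1 (hCmem y hy).2
    exact Finset.mem_biUnion.2 ⟨a, ha, Finset.mem_filter.2 ⟨hy, hya⟩⟩
  have hle := (Finset.card_le_card hcov).trans (Finset.card_biUnion_le_card_mul _ _ _ hline)
  have hq3 := card_ne_three h
  have hq2 : 2 ≤ Fintype.card F := Fintype.one_lt_card
  rw [Nat.card_eq_fintype_card] at hq3 hL
  split_ifs at hle with h2
  · have hL' : L.card ≤ 2 ∨ (L.card ≤ 3 ∧ 7 ≤ Fintype.card F) ∨ (L.card ≤ 4 ∧ 11 ≤ Fintype.card F) := by
      rcases hL with h' | h' | h'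
      · exact Or.inl h'
      · exact Or.inr (Or.inl ⟨h'.2.1, h'.2.2⟩)
      · exact Or.inr (Or.inr h')
    rcases two_zero_or h p with ha | ha
    · have := haniso ha; omega
    · rw [Nat.card_eq_fintype_card] at ha; omega
  · have hodd : Fintype.card F ≠ 2 ∧ Fintype.card F ≠ 4 := by
      constructor <;>
      · intro e
        have h0 := FiniteField.cast_card_eq_zero F
        rw [e] at h0
        push_cast at h0
        first
          | exact h2 h0
          | exact h2 (mul_self_eq_zero.1 (show (2 : F) * 2 = 0 by linear_combination h0))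
    rcases two_zero_or h p with ha | ha
    · have := haniso ha; omega
    · rw [Nat.card_eq_fintype_card] at ha
      rcases hL with h' | h' | h'
      · omega
      · exact absurd h'.1 h2
      · omega

end CfsgLib.Geo.OrthPlane
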