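/-
Root elements of the decomposition stabiliser for planes: from one mixed root group to `Ω`.
-/
import Cfsg.Agent.Lib.Geo.OrthPlaneBasic

set_option autoImplicit false

namespace CfsgLib.Geo.OrthPlane

open CfsgLib.Classical CfsgLib.Classical.Quad CfsgLib.Geo.OrthMax CfsgLib.Geo.OrthBlock
open QuadraticMap (polar polarBilin)

variable {F : Type*} [Field F] [Finite F] {V : Type*} [AddCommGroup V] [Module F V] [FiniteDimensional F V]
  {Q : QuadraticForm F V} {t : ℕ} {D : Fin t → Submodule F V} (h : IsPlanes Q D)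
  {K : Subgroup (OQ Q)} (hM : ∀ g ∈ eichGroup h.nondeg, Permutes D g → g ∈ K)
include h hM

theorem pair_mem {p q : Fin t} {a b : V} (ha : a ∈ D p) (hb : b ∈ D q) (hqa : Q a ≠ 0) (hqb : Q b ≠ 0)
    (hsq : IsSquare (Q a * Q b)) : refl hqa * refl hqb ∈ K :=
  hM _ (refl_mul_mem h hqa hqb hsq) ((keep_refl h ha hqa).mul (keep_refl h hb hqb)).permutes

/-- A reflection of a plane, corrected in another one. -/
theorem exists_refl_mem {p : Fin t} (n : Fin t) {v : V} (hv : v ∈ D p) (hqv : Q v ≠ 0) :
    ∃ (w : V) (_ : w ∈ D n) (hw : Q w ≠ 0), refl hqv * refl hw ∈ K := by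
  obtain ⟨w, hw, hqw⟩ := exists_value h n hqv
  exact ⟨w, hw, by rw [hqw]; exact hqv,
    pair_mem h hM hv hw hqv _ ⟨Q v, by rw [hqw]⟩⟩

omit hM in
theorem self_mem_rootSpace {x : V} (hqx : Q x = 0) : x ∈ rootSpace h.nondeg K x :=
  ⟨by rw [polar_self', hqx, mul_zero], fun s hw ha => by
    have : eich h.nondeg hw ha = 1 := Subtype.ext <| LinearEquiv.ext fun z => by
      rw [eich_apply, apply_smul, hqx, polar_smul_right']
      show _ = z
      module
    rw [this]; exact one_mem K⟩

/-- A root vector with a component in a plane where `x` vanishes puts the plane in the root space. -/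
theorem plane_le_rootSpace {p n : Fin t} (hpn : p ≠ n) {x b : V} (hxp : comp h p x = 0) (hxn : comp h n x = 0)
    (hb : b ∈ rootSpace h.nondeg K x) (hbp : comp h p b ≠ 0) : D p ≤ rootSpace h.nondeg K x := by
  classical
  set bp := comp h p b
  have hbpD : bp ∈ D p := comp_mem h p b
  obtain ⟨e, he, he0, hbe⟩ := exists_perp_line h p hbpD
  obtain ⟨v, hv, hqv, hvL⟩ := exists_circle_avoid h (p := p) one_ne_zero {e} (Or.inl (by simp))
  have hbv : polar Q bp v ≠ 0 := fun h0 =>
    hvL e (by simp) (perp_line_unique h hbpD hbp he he0 hv hbe h0)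
  obtain ⟨v', hv', hqv', hv'L⟩ := exists_circle_avoid h (p := p) one_ne_zero {v} (Or.inl (by simp))
  have hqv0 : Q v ≠ 0 := by rw [hqv]; exact one_ne_zero
  have hqv0' : Q v' ≠ 0 := by rw [hqv']; exact one_ne_zero
  have hxperp : ∀ {j : Fin t} {y : V}, comp h j x = 0 → y ∈ D j → polar Q x y = 0 := fun hj hy => by
    rw [polar_comp' h hy, hj, QuadraticMap.polar_zero_left]
  set g := refl hqv0 * refl hqv0'
  have hgK : g ∈ K := pair_mem h hM hv hv' hqv0 hqv0' ⟨1, by rw [hqv, hqv']⟩
  have happ : ∀ z, (g : V ≃ₗ[F] V) z = (refl hqv0 : V ≃ₗ[F] V) ((refl hqv0' : V ≃ₗ[F] V) z) := fun z => rfl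
  have hgx : (g : V ≃ₗ[F] V) x = x := by
    rw [happ, refl_perp hqv0' (hxperp hxp hv'), refl_perp hqv0 (hxperp hxp hv)]
  set c := (g : V ≃ₗ[F] V) b - b
  have hc : c ∈ rootSpace h.nondeg K x := rootSpace_diff hgK hgx hb
  have hce : c = (-polar Q b v') • v' + (-(polar Q b v - polar Q b v' * polar Q v' v)) • v := by
    simp only [c, happ, refl_apply, hqv, hqv', inv_one, one_mul, QuadraticMap.polar_sub_left, polar_smul_left']
    module
  have hcD : c ∈ D p := by rw [hce]; exact (D p).add_mem ((D p).smul_mem _ hv') ((D p).smul_mem _ hv)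
  have hc0 : c ≠ 0 := by
    intro h0
    rw [hce] at h0
    rcases eq_or_ne (polar Q b v') 0 with h1 | h1
    · rw [h1, neg_zero, zero_smul, zero_add, zero_mul, sub_zero, smul_eq_zero, neg_eq_zero] at h0
      rcases h0 with h2 | h2
      · exact hbv (by rw [← polar_comp' h hv]; exact h2)
      · exact hqv0 (by rw [h2, QuadraticMap.map_zero])
    · refine hv'L v (by simp) ?_
      rw [add_eq_zero_iff_eq_neg, ← neg_smul] at h0
      exact (Submodule.smul_mem_iff _ (neg_ne_zero.2 h1)).1
        (by rw [h0]; exact Submodule.smul_mem _ _ (Submodule.mem_span_singleton_self v))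
  obtain ⟨e', he', he'0, hce'⟩ := exists_perp_line h p hcD
  obtain ⟨u, hu, hqu, huL⟩ := exists_circle_avoid h (p := p) one_ne_zero {c, e'}
    (Or.inl Finset.card_le_two)
  have hqu0 : Q u ≠ 0 := by rw [hqu]; exact one_ne_zero
  have hcu : polar Q c u ≠ 0 := fun h0 => huL e' (by simp) (perp_line_unique h hcD hc0 he' he'0 hu hce' h0)
  obtain ⟨w, hw, hqw, hgK'⟩ := exists_refl_mem h hM n hu hqu0
  have hgx' : ((refl hqu0 * refl hqw : OQ Q) : V ≃ₗ[F] V) x = x := by
    show (refl hqu0 : V ≃ₗ[F] V) ((refl hqw : V ≃ₗ[F] V) x) = x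
    rw [refl_perp hqw (hxperp hxn hw), refl_perp hqu0 (hxperp hxp hu)]
  have h1 := rootSpace_diff hgK' hgx' hc
  have h2 : ((refl hqu0 * refl hqw : OQ Q) : V ≃ₗ[F] V) c - c = (-polar Q c u) • u := by
    show (refl hqu0 : V ≃ₗ[F] V) ((refl hqw : V ≃ₗ[F] V) c) - c = _
    rw [refl_perp hqw (h.orth p n hpn c hcD w hw), refl_apply, hqu, inv_one, one_mul]
    module
  rw [h2] at h1
  have huA : u ∈ rootSpace h.nondeg K x := (Submodule.smul_mem_iff _ (neg_ne_zero.2 hcu)).1 h1
  intro z hz
  obtain ⟨s, r, rfl⟩ := eq_span_of_indep h hcD hu hz (huL c (by simp)) hc0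
  exact Submodule.add_mem _ (Submodule.smul_mem _ _ hc) (Submodule.smul_mem _ _ huA)

/-- A root vector of a singular vector of a plane with a component elsewhere suffices. -/
theorem le_of_singular_plane {i l : Fin t} (hil : i ≠ l) {u z : V} (hu : u ∈ D i) (hqu : Q u = 0) (hu0 : u ≠ 0)
    (hz : z ∈ rootSpace h.nondeg K u) (hzl : comp h l z ≠ 0) : eichGroup h.nondeg ≤ K := by
  classical
  obtain ⟨n, hn⟩ := exists_index_avoid h {i, l} (by have := Finset.card_le_two (a := i) (b := l); omega)
  simp only [Finset.mem_insert, Finset.mem_singleton, not_or] at hn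
  have full : ∀ {i l : Fin t}, i ≠ l → ∀ {u : V}, u ∈ D i → Q u = 0 → u ≠ 0 →
      D l ≤ rootSpace h.nondeg K u → HasRoot h.nondeg K u := by
    intro i l hil u hu hqu hu0 hl a hqu' hua
    have hparts : ∀ m, comp h m a ∈ rootSpace h.nondeg K u := by
      intro m
      rcases eq_or_ne m i with rfl | hmi
      · obtain ⟨c, hc⟩ := Submodule.mem_span_singleton.1 (perp_line_unique h hu hu0 hu hu0 (comp_mem h m a)
          (by rw [polar_self', hqu, mul_zero]) (by rw [← polar_comp_right h hu, hua]))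
        rw [← hc]
        exact Submodule.smul_mem _ _ (self_mem_rootSpace h hqu)
      · obtain ⟨g, hgE, hgP, hgi, hgm⟩ := exists_transposition h (l := l) (m := m)
        obtain ⟨y, hy, hy'⟩ := hgm _ (comp_mem h m a)
        have h1 := mem_rootSpace_conj (hM g hgE hgP) (hl hy)
        rwa [hgi i hil hmi.symm u hu, hy'] at h1
    have hsum := (rootSpace h.nondeg K u).sum_mem (t := Finset.univ) fun m _ => hparts m
    rw [sum_comp] at hsum
    have := hsum.2 1
    rw [one_smul] at this
    exact this hqu' hua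
  have hl : D l ≤ rootSpace h.nondeg K u :=
    plane_le_rootSpace h hM (Ne.symm hn.2) (comp_of_ne h hil.symm hu) (comp_of_ne h hn.1 hu) hz hzl
  obtain ⟨hsing, -⟩ : (∀ j, ∃ v ∈ D j, v ≠ 0 ∧ Q v = 0) ∧ 7 ≤ Nat.card F := by
    rcases h.type with h' | h'
    · exact absurd (h'.1 i u hu hqu) hu0
    · exact h'
  obtain ⟨s, hs, hs0, hqs⟩ := hsing l
  obtain ⟨f, hf, hqf, huf⟩ := exists_hyp h hu hu0 hqu
  have hf0 : f ≠ 0 := fun e => by rw [e, QuadraticMap.polar_zero_right] at huf; exact zero_ne_one huf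
  have hus : u ∈ rootSpace h.nondeg K s := mem_rootSpace_swap hqu hqs (hl hs)
  have hi : D i ≤ rootSpace h.nondeg K s :=
    plane_le_rootSpace h hM (Ne.symm hn.1) (comp_of_ne h hil hs) (comp_of_ne h hn.2 hs) hus
      (by rwa [comp_of_mem h hu])
  have hsf : s ∈ rootSpace h.nondeg K f := mem_rootSpace_swap hqs hqf (hi hf)
  have hlf : D l ≤ rootSpace h.nondeg K f :=
    plane_le_rootSpace h hM (Ne.symm hn.2) (comp_of_ne h hil.symm hf) (comp_of_ne h hn.1 hf) hsf
      (by rwa [comp_of_mem h hs])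
  exact le_of_pair h.five hqu hqf huf (full hil hu hqu hu0 hl) (full hil hf hqf hf0 hlf)

/-- One root element in a plane gives the whole plane. -/
theorem plane_le_of_has {p n : Fin t} (hpn : p ≠ n) {x b₀ : V} (hxp : comp h p x = 0) (hxn : comp h n x = 0)
    (hb₀ : b₀ ∈ D p) (hqb₀ : Q b₀ ≠ 0) (hhas : Has h.nondeg K x b₀) : D p ≤ rootSpace h.nondeg K x := by
  classical
  have : Fintype F := Fintype.ofFinite F
  have hperp : ∀ y ∈ D p, polar Q x y = 0 := fun y hy => by
    rw [polar_comp' h hy, hxp, QuadraticMap.polar_zero_left]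
  set H : AddSubgroup V :=
    { carrier := {b | b ∈ D p ∧ Has h.nondeg K x b}
      zero_mem' := ⟨(D p).zero_mem, fun hw ha => by rw [eich_zero_right h.nondeg hw]; exact one_mem K⟩
      add_mem' := fun {a b} ha hb => ⟨(D p).add_mem ha.1 hb.1, Has.add h.nondeg ha.2 hb.2 (hperp a ha.1)⟩
      neg_mem' := fun {a} ha => ⟨(D p).neg_mem ha.1, fun hw hna => by
        have h1 := K.inv_mem (ha.2 hw (hperp a ha.1))
        rwa [eich_inv] at h1⟩ } with hH
  have hinv : ∀ b ∈ H, ∀ w ∈ D p, Q w ≠ 0 → (-((Q w)⁻¹ * polar Q b w)) • w ∈ H := by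
    intro b hb w hw hqw
    obtain ⟨w', hw', hqw', hgK⟩ := exists_refl_mem h hM n hw hqw
    have hgx : ((refl hqw * refl hqw' : OQ Q) : V ≃ₗ[F] V) x = x := by
      show (refl hqw : V ≃ₗ[F] V) ((refl hqw' : V ≃ₗ[F] V) x) = x
      rw [refl_perp hqw' (by rw [polar_comp' h hw', hxn, QuadraticMap.polar_zero_left]),
        refl_perp hqw (hperp w hw)]
    have hgb : ((refl hqw * refl hqw' : OQ Q) : V ≃ₗ[F] V) b = b - ((Q w)⁻¹ * polar Q b w) • w := by
      show (refl hqw : V ≃ₗ[F] V) ((refl hqw' : V ≃ₗ[F] V) b) = _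
      rw [refl_perp hqw' (h.orth p n hpn b hb.1 w' hw'), refl_apply]
    have h1 : b - ((Q w)⁻¹ * polar Q b w) • w ∈ H := by
      refine ⟨(D p).sub_mem hb.1 ((D p).smul_mem _ hw), ?_⟩
      have h2 := hb.2.conj h.nondeg hgK
      rwa [hgx, hgb] at h2
    have h3 := H.sub_mem h1 hb
    rwa [sub_sub_cancel_left, ← neg_smul] at h3
  set A := Q b₀ with hA
  let R : Subring F :=
    { carrier := {k | ∀ s : F, s • b₀ ∈ H → (k * s) • b₀ ∈ H}
      one_mem' := fun s hs => by rwa [one_mul]
      mul_mem' := fun {a b} ha hb s hs => by rw [mul_assoc]; exact ha _ (hb s hs)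
      zero_mem' := fun s _ => by rw [zero_mul, zero_smul]; exact H.zero_mem
      add_mem' := fun {a b} ha hb s hs => by rw [add_mul, add_smul]; exact H.add_mem (ha s hs) (hb s hs)
      neg_mem' := fun {a} ha s hs => by rw [neg_mul, neg_smul]; exact H.neg_mem (ha s hs) }
  have hk : ∀ w ∈ D p, Q w ≠ 0 → polar Q b₀ w * polar Q b₀ w / (Q w * A) ∈ R := by
    intro w hw hqw s hs
    have h1 := hinv _ (hinv _ hs w hw hqw) b₀ hb₀ hqb₀
    convert h1 using 2
    rw [polar_smul_left', polar_smul_left', QuadraticMap.polar_comm _ w b₀, ← hA]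
    field_simp
  obtain ⟨z, hz, hbz, hdisc⟩ : ∃ z ∈ D p, polar Q b₀ z = 1 ∧ 4 * A * Q z ≠ 1 := by
    obtain ⟨z, hz, hbz⟩ := (h.nd p).exists_polar_one hb₀ (fun e => hqb₀ (by rw [hA, e, QuadraticMap.map_zero]))
    by_cases hd : 4 * A * Q z = 1
    swap
    · exact ⟨z, hz, hbz, hd⟩
    have h4 : (4 : F) ≠ 0 := fun e => by rw [e, zero_mul, zero_mul] at hd; exact zero_ne_one hd
    have h2 : (2 : F) ≠ 0 := fun e => h4 (by rw [show (4 : F) = 2 * 2 by norm_num, e, zero_mul])
    obtain ⟨v, hv, hv0, hbv⟩ := exists_perp_line h p hb₀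
    have hqv := perp_ne_of_ne h hb₀ hqb₀ hv hv0 hbv
    set c := (2 * A)⁻¹
    have hc : c * (2 * A) = 1 := inv_mul_cancel₀ (mul_ne_zero h2 hqb₀)
    set d := z + (-c) • b₀
    have hd0 : polar Q b₀ d = 0 := by
      simp only [d, polar_add_right', polar_smul_right', polar_self', hbz, ← hA]
      linear_combination -hc
    have hqd : Q d = 0 := by
      simp only [d, apply_add, apply_smul, polar_smul_right', QuadraticMap.polar_comm _ z b₀, hbz, ← hA]
      refine mul_left_cancel₀ (mul_ne_zero h4 hqb₀) ?_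
      linear_combination hd + (c * (2 * A) - 1) * hc
    have hd0' : d = 0 := by
      by_contra hne
      exact perp_ne_of_ne h hb₀ hqb₀ ((D p).add_mem hz ((D p).smul_mem _ hb₀)) hne hd0 hqd
    have hzv : polar Q z v = 0 := by
      rw [show z = c • b₀ from sub_eq_zero.1 (by rw [← hd0']; simp only [d]; module), polar_smul_left', hbv, mul_zero]
    refine ⟨z + v, (D p).add_mem hz hv, by rw [polar_add_right', hbz, hbv, add_zero], fun e => ?_⟩
    rw [apply_add, hzv] at e
    exact mul_ne_zero (mul_ne_zero h4 hqb₀) hqv (by linear_combination e - hd)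
  set S : Finset F := Finset.univ.filter fun s => Q (z + s • b₀) ≠ 0 with hS
  let κ : F → F := fun s => polar Q b₀ (z + s • b₀) * polar Q b₀ (z + s • b₀) / (Q (z + s • b₀) * A)
  have hκR : ∀ s ∈ S, κ s ∈ R := fun s hs =>
    hk _ ((D p).add_mem hz ((D p).smul_mem _ hb₀)) (Finset.mem_filter.1 hs).2
  have hexp : ∀ s, polar Q b₀ (z + s • b₀) = 1 + s * (2 * A) ∧ Q (z + s • b₀) = Q z + (s + s * s * A) := fun s =>
    ⟨by rw [polar_add_right', polar_smul_right', polar_self', hbz],
      by rw [apply_add, apply_smul, polar_smul_right', QuadraticMap.polar_comm _ z b₀, hbz, ← hA]; ring⟩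
  have hne4 : ∀ s ∈ S, κ s ≠ 4 := by
    intro s hs e
    have hq := (Finset.mem_filter.1 hs).2
    simp only [κ] at e
    rw [div_eq_iff (mul_ne_zero hq hqb₀), (hexp s).1, (hexp s).2] at e
    exact hdisc (by linear_combination -e)
  have hfib : ∀ k ∈ S.image κ, (S.filter fun s => κ s = k).card ≤ 2 := by
    intro k hk
    obtain ⟨s, hs, rfl⟩ := Finset.mem_image.1 hk
    refine le_trans (Finset.card_le_card (t := ({s, -A⁻¹ - s} : Finset F)) fun s' hs' => ?_) Finset.card_le_two
    obtain ⟨hs'S, he⟩ := Finset.mem_filter.1 hs'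
    have hq := (Finset.mem_filter.1 hs).2
    have hq' := (Finset.mem_filter.1 hs'S).2
    simp only [κ] at he
    rw [div_eq_div_iff (mul_ne_zero hq' hqb₀) (mul_ne_zero hq hqb₀), (hexp s).1, (hexp s').1, (hexp s).2,
      (hexp s').2] at he
    have h1 : A * (4 * A * Q z - 1) * ((s' - s) * (1 + A * (s' + s))) = 0 := by linear_combination he
    rcases mul_eq_zero.1 ((mul_eq_zero.1 h1).resolve_left (mul_ne_zero hqb₀ (sub_ne_zero.2 hdisc))) with e | e
    · simp [sub_eq_zero.1 e]
    · simp only [Finset.mem_insert, Finset.mem_singleton]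
      right
      field_simp
      linear_combination e
  have hcount := Finset.card_le_mul_card_image S 2 hfib
  set T : Finset F := insert 4 (S.image κ)
  have h4R : (4 : F) ∈ R := by
    rw [show (4 : F) = 1 + 1 + 1 + 1 by norm_num]
    exact add_mem (add_mem (add_mem (one_mem R) (one_mem R)) (one_mem R)) (one_mem R)
  have hTR : T ⊆ Finset.univ.filter fun k => k ∈ R := by
    intro k hk
    rw [Finset.mem_filter]
    refine ⟨Finset.mem_univ _, ?_⟩
    rcases Finset.mem_insert.1 hk with rfl | hk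
    · exact h4R
    · obtain ⟨s, hs, rfl⟩ := Finset.mem_image.1 hk
      exact hκR s hs
  have hT : (S.image κ).card + 1 = T.card := by
    rw [Finset.card_insert_of_notMem fun hm => ?_]
    obtain ⟨s, hs, e⟩ := Finset.mem_image.1 hm
    exact hne4 s hs e
  have hRcard : T.card ≤ Fintype.card R := by
    refine (Finset.card_le_card hTR).trans (le_of_eq ?_)
    rw [Fintype.card_subtype]
  have hS2 : Fintype.card F ≤ S.card + 2 := by
    have h1 : (Finset.univ \ S).card ≤ 2 := by
      by_contra! hlt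
      obtain ⟨a, b, d, ha, hb, hd, hab, had, hbd⟩ := Finset.two_lt_card_iff.1 hlt
      simp only [S, Finset.mem_sdiff, Finset.mem_univ, Finset.mem_filter, true_and, not_not] at ha hb hd
      rw [(hexp _).2] at ha hb hd
      have f1 : 1 + A * (a + b) = 0 :=
        (mul_eq_zero.1 (show (a - b) * (1 + A * (a + b)) = 0 by linear_combination ha - hb)).resolve_left
          (sub_ne_zero.2 hab)
      have f2 : 1 + A * (a + d) = 0 :=
        (mul_eq_zero.1 (show (a - d) * (1 + A * (a + d)) = 0 by linear_combination ha - hd)).resolve_left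
          (sub_ne_zero.2 had)
      exact hbd (sub_eq_zero.1 ((mul_eq_zero.1 (show A * (b - d) = 0 by linear_combination f1 - f2)).resolve_left hqb₀))
    have h2 := Finset.card_sdiff_add_card_eq_card (Finset.subset_univ S)
    rw [Finset.card_univ] at h2
    omega
  have hbig : Fintype.card F < Fintype.card R * Fintype.card R := by
    have h2F : 2 ≤ Fintype.card F := Fintype.one_lt_card
    rcases two_zero_or h p with ha | ha
    · have hSu : S = Finset.univ := Finset.filter_true_of_mem fun s _ hs => by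
        have h0 := ha _ ((D p).add_mem hz ((D p).smul_mem s hb₀)) hs
        have hsA : s * (2 * A) = -1 := by
          have h1 := congrArg (polar Q b₀) h0
          rw [(hexp s).1, QuadraticMap.polar_zero_right] at h1
          linear_combination h1
        have h2' := (hexp s).2
        rw [hs] at h2'
        exact hdisc (by linear_combination -(4 * A) * h2' - (s * (2 * A) + 1) * hsA)
      rw [hSu, Finset.card_univ] at hcount
      rw [hSu] at hT
      nlinarith
    · rw [Nat.card_eq_fintype_card] at ha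
      nlinarith
  have hR : ∀ k : F, k ∈ R := by
    let R' : Subfield F :=
      { R with
        inv_mem' := fun x hx => by
          rcases eq_or_ne x 0 with rfl | hx0
          · rw [inv_zero]; exact zero_mem R
          · have h1 : x⁻¹ = x ^ (Fintype.card F - 2) := by
              refine inv_eq_of_mul_eq_one_right ?_
              rw [← pow_succ', show Fintype.card F - 2 + 1 = Fintype.card F - 1 by
                have : 2 ≤ Fintype.card F := Fintype.one_lt_card
                omega]
              exact FiniteField.pow_card_sub_one_eq_one x hx0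
            rw [h1]; exact pow_mem (show x ∈ R from hx) _ }
    have hc : Fintype.card F = Fintype.card R' ^ Module.finrank R' F := Module.card_eq_pow_finrank
    have hcR : Fintype.card R' = Fintype.card R := Fintype.card_congr (Equiv.refl _)
    have hd : Module.finrank R' F ≤ 1 := by
      by_contra! hd
      have h1 : Fintype.card R' ^ 2 ≤ Fintype.card R' ^ Module.finrank R' F :=
        Nat.pow_le_pow_right Fintype.card_pos hd
      rw [← hc, hcR, sq] at h1
      omega
    have hd0 : 0 < Module.finrank R' F := Module.finrank_pos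
    rw [show Module.finrank R' F = 1 by omega, pow_one] at hc
    intro k
    obtain ⟨⟨k', hk'⟩, e⟩ := ((Fintype.bijective_iff_injective_and_card (Subtype.val : R' → F)).2
      ⟨Subtype.val_injective, hc.symm⟩).2 k
    rw [← e]; exact hk'
  have hb₀H : (1 : F) • b₀ ∈ H := by rw [one_smul]; exact ⟨hb₀, hhas⟩
  have hline : ∀ k : F, k • b₀ ∈ H := fun k => by
    have := hR k 1 hb₀H
    rwa [mul_one] at this
  -- a second line
  obtain ⟨e, he, he0, hbe⟩ := exists_perp_line h p hb₀
  obtain ⟨w, hw, hqw, hwL⟩ := exists_circle_avoid h (p := p) one_ne_zero {b₀, e}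
    (Or.inl Finset.card_le_two)
  have hqw0 : Q w ≠ 0 := by rw [hqw]; exact one_ne_zero
  have hb00 : b₀ ≠ 0 := fun e' => hqb₀ (by rw [hA, e', QuadraticMap.map_zero])
  have hbw : polar Q b₀ w ≠ 0 := fun h0 => hwL e (by simp) (perp_line_unique h hb₀ hb00 he he0 hw hbe h0)
  have hline2 : ∀ k : F, k • w ∈ H := fun k => by
    have h1 := hinv _ (hline (-(k * (polar Q b₀ w)⁻¹))) w hw hqw0
    rw [hqw, inv_one, one_mul, polar_smul_left', neg_mul, neg_neg, mul_assoc, inv_mul_cancel₀ hbw, mul_one] at h1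
    exact h1
  intro y hy
  refine ⟨hperp y hy, fun c => ?_⟩
  obtain ⟨s, r, rfl⟩ := eq_span_of_indep h hb₀ hw hy (hwL b₀ (by simp)) hb00
  rw [smul_add, smul_smul, smul_smul]
  exact (H.add_mem (hline _) (hline2 _)).2

/-- Without singular vectors in the planes: a two-component singular vector suffices. -/
theorem le_of_two_plane {l m : Fin t} (hlm : l ≠ m) (haniso : ∀ i, ∀ v ∈ D i, Q v = 0 → v = 0) {d : V}
    (hqd : Q d = 0) (hdl : comp h l d ≠ 0) (hdm : comp h m d ≠ 0)
    (hrest : ∀ j, j ≠ l → j ≠ m → comp h j d = 0)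
    (hall : ∀ p, p ≠ l → p ≠ m → D p ≤ rootSpace h.nondeg K d) : eichGroup h.nondeg ≤ K := by
  classical
  set a := comp h l d with ha
  set a' := comp h m d with ha'
  have haD : a ∈ D l := comp_mem h l d
  have ha'D : a' ∈ D m := comp_mem h m d
  have hsum : d = a + a' := by
    conv_lhs => rw [← sum_comp h d]
    rw [← Finset.sum_subset (Finset.subset_univ ({l, m} : Finset (Fin t))) fun j _ hj => ?_, Finset.sum_pair hlm]
    simp only [Finset.mem_insert, Finset.mem_singleton, not_or] at hj
    exact hrest j hj.1 hj.2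
  have hqa' : Q a' ≠ 0 := fun e => hdm (haniso m a' ha'D e)
  have hqa : Q a ≠ 0 := fun e => hdl (haniso l a haD e)
  have hδ : Q a + Q a' = 0 := by
    rw [hsum, apply_add, h.orth l m hlm a haD a' ha'D, add_zero] at hqd
    exact hqd
  obtain ⟨y, hy, hqy, hyL⟩ := exists_circle_avoid h (p := m) hqa' {a'} (Or.inl (by simp))
  obtain ⟨p, hp⟩ := exists_index_avoid h {l, m} (by have := Finset.card_le_two (a := l) (b := m); omega)
  obtain ⟨n, hn⟩ := exists_index_avoid h {l, m, p} (by have := Finset.card_le_three (a := l) (b := m) (c := p); omega)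
  simp only [Finset.mem_insert, Finset.mem_singleton, not_or] at hp hn
  set v := a' - y with hv
  have hvD : v ∈ D m := (D m).sub_mem ha'D hy
  have hqv : Q v ≠ 0 := fun e => hyL a' (by simp) (by
    rw [← sub_eq_zero.1 (haniso m v hvD e)]; exact Submodule.mem_span_singleton_self a')
  obtain ⟨w₁, hw₁, hqw₁, hg₁⟩ := exists_refl_mem h hM n haD hqa
  obtain ⟨w₂, hw₂, hqw₂, hg₂⟩ := exists_refl_mem h hM n hvD hqv
  set g := (refl hqa * refl hqw₁) * (refl hqv * refl hqw₂)
  have happ : ∀ z, (g : V ≃ₗ[F] V) z = (refl hqa : V ≃ₗ[F] V) ((refl hqw₁ : V ≃ₗ[F] V)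
      ((refl hqv : V ≃ₗ[F] V) ((refl hqw₂ : V ≃ₗ[F] V) z))) := fun z => rfl
  have hav : (refl hqv : V ≃ₗ[F] V) a' = y := by
    have h1 : polar Q a' v = Q v := by
      rw [hv, QuadraticMap.polar_sub_right, polar_self', sub_eq_add_neg a', apply_add, QuadraticMap.map_neg,
        QuadraticMap.polar_neg_right, hqy]
      ring
    rw [refl_apply, h1, inv_mul_cancel₀ hqv, one_smul, hv, sub_sub_cancel]
  have hgd : (g : V ≃ₗ[F] V) d = -a + y := by
    rw [happ, hsum, map_add, refl_perp hqw₂ (h.orth l n (Ne.symm hn.1) a haD w₂ hw₂),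
      refl_perp hqw₂ (h.orth m n (Ne.symm hn.2.1) a' ha'D w₂ hw₂), map_add, hav,
      refl_perp hqv (h.orth l m hlm a haD v hvD), map_add,
      refl_perp hqw₁ (h.orth l n (Ne.symm hn.1) a haD w₁ hw₁),
      refl_perp hqw₁ (h.orth m n (Ne.symm hn.2.1) y hy w₁ hw₁), map_add,
      refl_perp hqa (h.orth m l hlm.symm y hy a haD)]
    congr 1
    rw [refl_apply, polar_self', ← mul_assoc, mul_comm _ (2 : F), mul_assoc, inv_mul_cancel₀ hqa]
    module
  have hgfix : ∀ z ∈ D p, (g : V ≃ₗ[F] V) z = z := fun z hz => by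
    rw [happ, refl_perp hqw₂ (h.orth p n (Ne.symm hn.2.2) z hz w₂ hw₂),
      refl_perp hqv (h.orth p m hp.2 z hz v hvD), refl_perp hqw₁ (h.orth p n (Ne.symm hn.2.2) z hz w₁ hw₁),
      refl_perp hqa (h.orth p l hp.1 z hz a haD)]
  set e := a' + y with he
  have heD : e ∈ D m := (D m).add_mem ha'D hy
  have he0 : e ≠ 0 := fun e0 => hyL a' (by simp) (by
    rw [eq_neg_of_add_eq_zero_right e0]; exact neg_mem (Submodule.mem_span_singleton_self a'))
  have hβ0 : Q e ≠ 0 := fun h' => he0 (haniso m e heD h')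
  obtain ⟨b, hb, hqb⟩ := exists_value h p (neg_ne_zero.2 (inv_ne_zero hβ0))
  set d' := -a + y with hd'
  have hqd' : Q d' = 0 := by rw [← hgd, OQ.map_apply, hqd]
  have hperp : ∀ {j : Fin t}, j ≠ l → j ≠ m → ∀ z ∈ D j, polar Q d' z = 0 := fun hjl hjm z hz => by
    rw [hd', polar_add_left', QuadraticMap.polar_neg_left, h.orth l _ (Ne.symm hjl) a haD z hz,
      h.orth m _ (Ne.symm hjm) y hy z hz, neg_zero, add_zero]
  have hd'b : polar Q d' b = 0 := hperp hp.1 hp.2 b hb
  have hhe : eich h.nondeg hqd' hd'b ∈ K := by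
    have h1 := (mem_rootSpace_conj (mul_mem hg₁ hg₂) (hall p hp.1 hp.2 hb)).2 1
    rw [show ((refl hqa * refl hqw₁ * (refl hqv * refl hqw₂) : OQ Q) : V ≃ₗ[F] V) d = d' from hgd,
      show ((refl hqa * refl hqw₁ * (refl hqv * refl hqw₂) : OQ Q) : V ≃ₗ[F] V) b = b from hgfix b hb, one_smul] at h1
    exact h1 _ _
  set H := eich h.nondeg hqd' hd'b
  have hdb : polar Q d b = 0 := by
    rw [hsum, polar_add_left', h.orth l p (Ne.symm hp.1) a haD b hb, h.orth m p (Ne.symm hp.2) a' ha'D b hb, add_zero]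
  have hdd : polar Q d d' = Q e := by
    rw [hsum, hd', he, polar_add_left', polar_add_right', polar_add_right', QuadraticMap.polar_neg_right,
      QuadraticMap.polar_neg_right, polar_self', h.orth l m hlm a haD y hy, h.orth m l hlm.symm a' ha'D a haD,
      apply_add, hqy]
    linear_combination (-2 : F) * hδ
  have hx : (H : V ≃ₗ[F] V) d = e + (-Q e) • b := by
    rw [eich_apply, hdb, hdd, hqb]
    rw [show (0 : F) - -(Q e)⁻¹ * Q e = 1 by rw [neg_mul, inv_mul_cancel₀ hβ0]; ring, one_smul, hsum, hd', he]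
    abel
  set x := (H : V ≃ₗ[F] V) d
  have hqx : Q x = 0 := by simp only [x]; rw [OQ.map_apply, hqd]
  have hxc : ∀ j, j ≠ m → j ≠ p → comp h j x = 0 := fun j hjm hjp => by
    rw [hx, map_add, map_smul, comp_of_ne h hjm heD, comp_of_ne h hjp hb, smul_zero, add_zero]
  have hImg : ∀ j, j ≠ l → j ≠ m → ∀ z ∈ D j, z + polar Q z b • d' ∈ rootSpace h.nondeg K x := by
    intro j hjl hjm z hz
    have h1 := mem_rootSpace_conj hhe (hall j hjl hjm hz)
    have h2 : (H : V ≃ₗ[F] V) z = z + polar Q z b • d' := by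
      rw [eich_apply, QuadraticMap.polar_comm _ z d', hperp hjl hjm z hz]
      simp
    rwa [h2] at h1
  have hD : ∀ j, j ≠ m → j ≠ p → D j ≤ rootSpace h.nondeg K x := by
    intro j hjm hjp
    by_cases hjl : j = l
    · subst hjl
      obtain ⟨z, hz, hzb⟩ := (h.nd p).exists_polar_one hb (fun e' => by
        rw [e', QuadraticMap.map_zero, eq_comm, neg_eq_zero, inv_eq_zero] at hqb; exact hβ0 hqb)
      have h1 := hImg p hjp.symm hp.2 z hz
      rw [QuadraticMap.polar_comm, hzb, one_smul] at h1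
      refine plane_le_rootSpace h hM (Ne.symm hn.1) (hxc j hjm hjp) (hxc n hn.2.1 hn.2.2) h1 ?_
      rw [hd', map_add, map_add, map_neg, comp_of_ne h hjp hz, comp_of_mem h haD, comp_of_ne h hjm hy,
        zero_add, add_zero, neg_ne_zero]
      exact hdl
    · intro z hz
      have h1 := hImg j hjl hjm z hz
      rw [h.orth j p hjp z hz b hb, zero_smul, add_zero] at h1
      exact h1
  have hzy : ∀ z ∈ D p, z + polar Q z b • y ∈ rootSpace h.nondeg K x := fun z hz => by
    have h1 := Submodule.add_mem _ (hImg p hp.1 hp.2 z hz)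
      (Submodule.smul_mem _ (polar Q z b) (hD l hlm (Ne.symm hp.1) haD))
    convert h1 using 1
    rw [hd']; module
  have hw : a' - y ∈ rootSpace h.nondeg K x := by
    have h1 := Submodule.sub_mem _ (self_mem_rootSpace h hqx) (hzy ((-Q e) • b) ((D p).smul_mem _ hb))
    convert h1 using 1
    rw [hx, polar_smul_left', polar_self', hqb, show -Q e * (2 * -(Q e)⁻¹) = 2 by field_simp, he]
    module
  have hroot : HasRoot h.nondeg K x := by
    intro z hqx' hxz
    set r := z - comp h m z - comp h p z with hr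
    have hrA : r ∈ rootSpace h.nondeg K x := by
      rw [← sum_comp h r]
      refine Submodule.sum_mem _ fun j _ => ?_
      rcases eq_or_ne j m with rfl | hjm
      · rw [hr, map_sub, map_sub, comp_of_mem h (comp_mem h j z), comp_of_ne h (Ne.symm hp.2) (comp_mem h p z)]
        simp
      rcases eq_or_ne j p with rfl | hjp
      · rw [hr, map_sub, map_sub, comp_of_ne h hp.2 (comp_mem h m z), comp_of_mem h (comp_mem h j z)]
        simp
      exact hD j hjm hjp (comp_mem h j r)
    set z₁ := comp h m z - polar Q (comp h p z) b • y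
    have hz₁ : z₁ ∈ D m := (D m).sub_mem (comp_mem h m z) ((D m).smul_mem _ hy)
    have hdiff : polar Q x z₁ = 0 := by
      have h1 : z₁ = z - r - (comp h p z + polar Q (comp h p z) b • y) := by
        simp only [z₁, hr]; abel
      rw [h1, QuadraticMap.polar_sub_right, QuadraticMap.polar_sub_right, hxz, hrA.1,
        (hzy _ (comp_mem h p z)).1]
      ring
    have hev : polar Q e z₁ = 0 := by
      rw [polar_comp' h hz₁] at hdiff
      rw [hx, map_add, map_smul, comp_of_mem h heD, comp_of_ne h (Ne.symm hp.2) hb, smul_zero, add_zero] at hdiff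
      exact hdiff
    have hev' : polar Q e v = 0 := by
      rw [he, hv, polar_add_left', QuadraticMap.polar_sub_right, QuadraticMap.polar_sub_right, polar_self',
        polar_self', hqy, QuadraticMap.polar_comm _ y a']
      ring
    obtain ⟨c, hc⟩ := Submodule.mem_span_singleton.1
      (perp_line_unique h heD he0 hvD (fun e0 => hqv (by rw [e0, QuadraticMap.map_zero])) hz₁ hev' hev)
    have hzmem : z ∈ rootSpace h.nondeg K x := by
      have h1 : z = r + (comp h p z + polar Q (comp h p z) b • y) + z₁ := by simp only [z₁, hr]; abel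
      rw [h1]
      exact Submodule.add_mem _ (Submodule.add_mem _ hrA (hzy _ (comp_mem h p z)))
        (by rw [← hc]; exact Submodule.smul_mem _ _ hw)
    have := hzmem.2 1
    rw [one_smul] at this
    exact this hqx' hxz
  obtain ⟨e', he'', he'0, hee'⟩ := exists_perp_line h m heD
  obtain ⟨u, hu, hqu, huL⟩ := exists_circle_avoid h (p := m) one_ne_zero {e'} (Or.inl (by simp))
  have hqu0 : Q u ≠ 0 := by rw [hqu]; exact one_ne_zero
  have heu : polar Q e u ≠ 0 := fun h0 => huL e' (by simp) (perp_line_unique h heD he0 he'' he'0 hu hee' h0)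
  obtain ⟨w, hw', hqw, hgK⟩ := exists_refl_mem h hM n hu hqu0
  have hxu : polar Q x u = polar Q e u := by
    rw [hx, polar_add_left', polar_smul_left', h.orth p m hp.2 b hb u hu, mul_zero, add_zero]
  have hx' : ((Quad.refl hqu0 * Quad.refl hqw : OQ Q) : V ≃ₗ[F] V) x = x - polar Q e u • u := by
    show (refl hqu0 : V ≃ₗ[F] V) ((refl hqw : V ≃ₗ[F] V) x) = _
    rw [refl_perp hqw (by rw [polar_comp' h hw', hxc n hn.2.1 hn.2.2, QuadraticMap.polar_zero_left]),
      refl_apply, hqu, inv_one, one_mul, hxu]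
  have hroot' := hroot.conj h.nondeg hgK
  rw [hx'] at hroot'
  set x' := x - polar Q e u • u
  have hqx'' : Q x' = 0 := by rw [← hx', OQ.map_apply, hqx]
  set β := polar Q x x'
  have hβ : β ≠ 0 := by
    simp only [β, x', QuadraticMap.polar_sub_right, polar_smul_right', polar_self', hqx, hxu]
    simpa using heu
  refine le_of_pair h.five hqx (f := β⁻¹ • x') (by rw [apply_smul, hqx'', mul_zero])
    (by rw [polar_smul_right', inv_mul_cancel₀ hβ]) hroot (HasRoot.of_smul h.nondeg (c := β) hβ ?_)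
  rw [smul_inv_smul₀ hβ]
  exact hroot'

end CfsgLib.Geo.OrthPlane
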