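/-
From a pair of reflections with a moved root to the whole of `Ω`, planes.
-/
import Cfsg.Agent.Lib.Geo.OrthPlaneFinish

set_option autoImplicit false

namespace CfsgLib.Geo.OrthPlane

open CfsgLib.Classical CfsgLib.Classical.Quad CfsgLib.Geo.OrthMax CfsgLib.Geo.OrthBlock
open QuadraticMap (polar polarBilin)

variable {F : Type*} [Field F] {V : Type*} [AddCommGroup V] [Module F V] [FiniteDimensional F V]
  {Q : QuadraticForm F V} {t : ℕ} {D : Fin t → Submodule F V} {K : Subgroup (OQ Q)}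

omit [FiniteDimensional F V] in
theorem refl_inv {v : V} (hv : Q v ≠ 0) : (refl hv)⁻¹ = refl hv := inv_eq_of_mul_eq_one_left (refl_mul_self hv)

theorem refl_comm {a b : V} (ha : Q a ≠ 0) (hb : Q b ≠ 0) (hab : polar Q a b = 0) :
    refl ha * refl hb = refl hb * refl ha := by
  refine Subtype.ext (LinearEquiv.ext fun z => ?_)
  show (refl ha : V ≃ₗ[F] V) ((refl hb : V ≃ₗ[F] V) z) = (refl hb : V ≃ₗ[F] V) ((refl ha : V ≃ₗ[F] V) z)
  rw [refl_apply, refl_apply, refl_apply, refl_apply, QuadraticMap.polar_sub_left, QuadraticMap.polar_sub_left,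
    polar_smul_left', polar_smul_left', hab, QuadraticMap.polar_comm _ b a, hab]
  module

theorem isSquare_mul_nonsq' [Finite F] (h2 : (2 : F) ≠ 0) {a b : F} (ha : ¬ IsSquare a) (hb : ¬ IsSquare b) :
    IsSquare (a * b) := by
  have : Fintype F := Fintype.ofFinite F
  have hc : ringChar F ≠ 2 := fun h => h2 (by
    have : CharP F 2 := ringChar.eq_iff.1 h
    exact_mod_cast CharP.cast_eq_zero F 2)
  have ha0 : a ≠ 0 := fun h => ha (h ▸ IsSquare.zero)
  have hb0 : b ≠ 0 := fun h => hb (h ▸ IsSquare.zero)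
  rw [FiniteField.isSquare_iff hc (mul_ne_zero ha0 hb0), mul_pow,
    (FiniteField.pow_dichotomy hc ha0).resolve_left fun h => ha ((FiniteField.isSquare_iff hc ha0).2 h),
    (FiniteField.pow_dichotomy hc hb0).resolve_left fun h => hb ((FiniteField.isSquare_iff hc hb0).2 h)]
  simp

/-- Vectors whose reflections agree modulo `K` with that of `v₀`. -/
def Cls (K : Subgroup (OQ Q)) (v₀ w : V) : Prop :=
  ∃ (h₀ : Q v₀ ≠ 0) (hw : Q w ≠ 0), Q w = Q v₀ ∧ refl h₀ * refl hw ∈ K

theorem Cls.reflect {v₀ e w : V} (he : Cls K v₀ e) (hw : Cls K v₀ w) (hqe : Q e ≠ 0) :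
    Cls K v₀ ((refl hqe : V ≃ₗ[F] V) w) := by
  obtain ⟨h₀, he', hqe', heK⟩ := he
  obtain ⟨_, hw', hqw, hwK⟩ := hw
  have hqi : Q ((refl hqe : V ≃ₗ[F] V) w) ≠ 0 := by rw [OQ.map_apply]; exact hw'
  refine ⟨h₀, hqi, by rw [OQ.map_apply, hqw], ?_⟩
  rw [← refl_conj' (refl hqe) hw' hqi, refl_inv]
  have h1 := K.mul_mem (K.mul_mem heK (K.inv_mem hwK)) heK
  rw [mul_inv_rev, refl_inv, refl_inv] at h1
  convert h1 using 1
  rw [show refl he' = refl hqe from rfl]
  simp only [mul_assoc]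
  rw [← mul_assoc (refl h₀) (refl h₀), refl_mul_self, one_mul]

theorem Cls.map {v₀ w : V} {g : OQ Q} (hg : g ∈ K) (hgv : Cls K v₀ ((g : V ≃ₗ[F] V) v₀)) (hw : Cls K v₀ w) :
    Cls K v₀ ((g : V ≃ₗ[F] V) w) := by
  obtain ⟨h₀, hg₀, -, hgK⟩ := hgv
  obtain ⟨_, hw', hqw, hwK⟩ := hw
  have hqi : Q ((g : V ≃ₗ[F] V) w) ≠ 0 := by rw [OQ.map_apply]; exact hw'
  refine ⟨h₀, hqi, by rw [OQ.map_apply, hqw], ?_⟩
  have h1 := K.mul_mem hgK (K.mul_mem (K.mul_mem hg hwK) (K.inv_mem hg))
  rw [← refl_conj' g hw' hqi]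
  convert h1 using 1
  rw [← refl_conj' g h₀ hg₀]
  simp only [mul_assoc]
  rw [inv_mul_cancel_left, ← mul_assoc (refl h₀) (refl h₀) (refl hw' * g⁻¹), refl_mul_self, one_mul]

variable [Finite F] (h : IsPlanes Q D) (hM : ∀ g ∈ eichGroup h.nondeg, Permutes D g → g ∈ K)
include h

omit K in
/-- Two vectors of opposite values in two planes with opposite nonzero products. -/
theorem exists_move_pair {l m : Fin t} {a a' : V} (ha : a ∈ D l) (ha' : a' ∈ D m) (ha0 : a ≠ 0) (ha'0 : a' ≠ 0) :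
    ∃ v ∈ D l, ∃ v' ∈ D m, Q v ≠ 0 ∧ Q v' = -Q v ∧ polar Q a v ≠ 0 ∧ polar Q a' v' = -polar Q a v := by
  classical
  have basic : ∀ {p : Fin t} {a : V}, a ∈ D p → a ≠ 0 → ∃ v ∈ D p, Q v ≠ 0 ∧ polar Q a v ≠ 0 := by
    intro p a ha ha0
    obtain ⟨e, he, he0, hae⟩ := exists_perp_line h p ha
    obtain ⟨v, hv, hqv, hvL⟩ := exists_circle_avoid h (p := p) one_ne_zero {e} (Or.inl (by simp))
    exact ⟨v, hv, by rw [hqv]; exact one_ne_zero,
      fun h0 => hvL e (by simp) (perp_line_unique h ha ha0 he he0 hv hae h0)⟩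
  have sing : ∀ {p : Fin t} {a : V}, a ∈ D p → a ≠ 0 → Q a = 0 → ∀ B C : F, B ≠ 0 →
      ∃ v ∈ D p, Q v = C ∧ polar Q a v = B := by
    intro p a ha ha0 hqa B C hB
    obtain ⟨f, hf, hqf, haf⟩ := exists_hyp h ha ha0 hqa
    refine ⟨B • f + (C / B) • a, (D p).add_mem ((D p).smul_mem _ hf) ((D p).smul_mem _ ha), ?_, ?_⟩
    · rw [apply_add, apply_smul, apply_smul, polar_smul_left', polar_smul_right', hqf, hqa,
        QuadraticMap.polar_comm _ f a, haf]
      field_simp
      ring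
    · rw [polar_add_right', polar_smul_right', polar_smul_right', haf, polar_self', hqa]; ring
  by_cases hqa' : Q a' = 0
  · obtain ⟨v, hv, hqv, hav⟩ := basic ha ha0
    obtain ⟨v', hv', hqv', hav'⟩ := sing ha' ha'0 hqa' (-polar Q a v) (-Q v) (neg_ne_zero.2 hav)
    exact ⟨v, hv, v', hv', hqv, hqv', hav, hav'⟩
  by_cases hqa : Q a = 0
  · obtain ⟨v', hv', hqv', hav'⟩ := basic ha' ha'0
    obtain ⟨v, hv, hqv, hav⟩ := sing ha ha0 hqa (-polar Q a' v') (-Q v') (neg_ne_zero.2 hav')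
    refine ⟨v, hv, v', hv', by rw [hqv]; exact neg_ne_zero.2 hqv', by rw [hqv, neg_neg], ?_, by rw [hav, neg_neg]⟩
    rw [hav]; exact neg_ne_zero.2 hav'
  obtain ⟨J, hJ⟩ := exists_anti h l m
  have hJp : ∀ x y : D l, polar Q (J x : V) (J y : V) = -polar Q (x : V) y := fun x y => by
    simp only [polar, ← Submodule.coe_add, ← map_add, hJ]
    ring
  set y₀ : D l := J.symm ⟨a', ha'⟩
  have hy₀ : Q (y₀ : V) = -Q a' := by
    have := hJ y₀
    simp only [y₀, LinearEquiv.apply_symm_apply] at this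
    rw [this, neg_neg]
  -- a target `y`
  obtain ⟨y, hy, hqy, hgood⟩ : ∃ y ∈ D l, Q y = -Q a' ∧ (y = a ∨ (Q (a - y) ≠ 0 ∧ y ∉ Submodule.span F {a})) := by
    obtain ⟨e, he, he0, hae⟩ := exists_perp_line h l ha
    obtain ⟨y, hy, hqy, hyL⟩ := exists_circle_avoid h (p := l) (neg_ne_zero.2 hqa') {a, e} (Or.inl Finset.card_le_two)
    by_cases h1 : Q (a - y) = 0
    · have hay : polar Q a y ≠ 0 := fun h0 => hyL e (by simp) (perp_line_unique h ha ha0 he he0 hy hae h0)
      have hexp : ∀ y', Q y' = -Q a' → Q (a - y') = Q a + -Q a' - polar Q a y' := fun y' hy' => by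
        rw [sub_eq_add_neg, apply_add, QuadraticMap.map_neg, QuadraticMap.polar_neg_right, hy']
        ring
      have e1 := hexp y hqy
      by_cases h22 : (2 : F) = 0
      · have hne : a - y ≠ 0 := fun e0 => hyL a (by simp) (by
          rw [← sub_eq_zero.1 e0]; exact Submodule.mem_span_singleton_self a)
        have hq7 : 7 ≤ Nat.card F :=
          (two_zero_or h l).resolve_left fun hz => hne (hz _ ((D l).sub_mem ha hy) h1)
        set y₁ := (refl hqa : V ≃ₗ[F] V) y
        obtain ⟨y', hy', hqy', hy'L⟩ := exists_circle_avoid h (p := l) (neg_ne_zero.2 hqa') {a, y, y₁}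
          (Or.inr (Or.inl ⟨h22, Finset.card_le_three, hq7⟩))
        refine ⟨y', hy', hqy', Or.inr ⟨fun h2 => ?_, hy'L a (by simp)⟩⟩
        rw [hexp y' hqy'] at h2
        rw [e1] at h1
        have hd : polar Q a (y' - y) = 0 := by
          rw [QuadraticMap.polar_sub_right]; linear_combination h1 - h2
        obtain ⟨μ, hμ⟩ := Submodule.mem_span_singleton.1 (perp_line_unique h ha ha0 ha ha0 ((D l).sub_mem hy' hy)
          (by rw [polar_self', h22, zero_mul]) hd)
        have hy'' : y' = y + μ • a := by rw [hμ]; abel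
        have hqq : μ * (μ * Q a + polar Q a y) = 0 := by
          have h3 := hqy'
          rw [hy'', apply_add, apply_smul, polar_smul_right', hqy, QuadraticMap.polar_comm _ y a] at h3
          linear_combination h3
        rcases mul_eq_zero.1 hqq with hμ0 | hμ0
        · exact hy'L y (by simp) (by
            rw [hy'', hμ0, zero_smul, add_zero]; exact Submodule.mem_span_singleton_self y)
        · refine hy'L y₁ (by simp) ?_
          have hμ' : μ = -((Q a)⁻¹ * polar Q a y) := by field_simp; linear_combination hμ0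
          rw [show y' = y₁ by
            simp only [y₁]
            rw [refl_apply, hy'', hμ', QuadraticMap.polar_comm _ y a, neg_smul]; abel]
          exact Submodule.mem_span_singleton_self y₁
      · refine ⟨-y, (D l).neg_mem hy, by rw [QuadraticMap.map_neg, hqy],
          Or.inr ⟨fun h2 => ?_, fun h2 => hyL a (by simp) (by simpa using neg_mem h2)⟩⟩
        rw [e1] at h1
        rw [hexp _ (by rw [QuadraticMap.map_neg, hqy]), QuadraticMap.polar_neg_right] at h2
        exact hay (mul_left_cancel₀ h22 (by linear_combination h2 - h1))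
    · exact ⟨y, hy, hqy, Or.inr ⟨h1, hyL a (by simp)⟩⟩
  -- an isometry of the plane sending `y` to `y₀`
  obtain ⟨T, hT, hTy⟩ : ∃ T : V →ₗ[F] V, (∀ z ∈ D l, T z ∈ D l ∧ Q (T z) = Q z) ∧ T y = y₀ := by
    by_cases h1 : Q (y - y₀) = 0
    · by_cases h2 : Q (y + y₀) = 0
      · have he0 : y - y₀ = 0 := by
          by_contra hne
          rw [sub_eq_add_neg, apply_add, QuadraticMap.map_neg, QuadraticMap.polar_neg_right, hqy, hy₀] at h1
          rw [apply_add, hqy, hy₀] at h2
          have h22 : (2 : F) = 0 := by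
            by_contra h22
            exact mul_ne_zero (mul_ne_zero h22 h22) hqa' (by linear_combination -h1 - h2)
          have hq : Q y ≠ 0 := by rw [hqy]; exact neg_ne_zero.2 hqa'
          refine perp_ne_of_ne h hy hq ((D l).sub_mem hy y₀.2) hne ?_ ?_
          · rw [QuadraticMap.polar_sub_right, polar_self', hqy]
            linear_combination h1
          · rw [sub_eq_add_neg, apply_add, QuadraticMap.map_neg, QuadraticMap.polar_neg_right, hqy, hy₀]
            exact h1
        exact ⟨LinearMap.id, fun z hz => ⟨hz, rfl⟩, sub_eq_zero.1 he0⟩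
      · refine ⟨-((refl h2 : V ≃ₗ[F] V) : V →ₗ[F] V), fun z hz => ⟨(D l).neg_mem
          ((intl_refl ((D l).add_mem hy y₀.2) h2).1 z hz), ?_⟩, ?_⟩
        · rw [LinearMap.neg_apply, QuadraticMap.map_neg]; exact OQ.map_apply _ z
        · show -((refl h2 : V ≃ₗ[F] V) y) = y₀
          have h3 : polar Q y (y + y₀) = Q (y + y₀) := by
            rw [polar_add_right', polar_self', apply_add, hy₀, hqy]; ring
          rw [refl_apply, h3, inv_mul_cancel₀ h2, one_smul, sub_add_cancel_left, neg_neg]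
    · refine ⟨((refl h1 : V ≃ₗ[F] V) : V →ₗ[F] V), fun z hz => ⟨(intl_refl ((D l).sub_mem hy y₀.2) h1).1 z hz,
        OQ.map_apply _ z⟩, ?_⟩
      show (refl h1 : V ≃ₗ[F] V) y = y₀
      have h3 : polar Q y (y - y₀) = Q (y - y₀) := by
        rw [QuadraticMap.polar_sub_right, polar_self', sub_eq_add_neg y, apply_add, QuadraticMap.map_neg,
          QuadraticMap.polar_neg_right, hy₀, hqy]
        ring
      rw [refl_apply, h3, inv_mul_cancel₀ h1, one_smul, sub_sub_cancel]
  obtain ⟨v, hv, hqv, hav, huv⟩ : ∃ v ∈ D l, Q v ≠ 0 ∧ polar Q a v ≠ 0 ∧ polar Q (a - y) v = 0 := by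
    rcases hgood with rfl | ⟨hu, hya⟩
    · obtain ⟨v, hv, hqv, hav⟩ := basic ha ha0
      exact ⟨v, hv, hqv, hav, by rw [sub_self, QuadraticMap.polar_zero_left]⟩
    · obtain ⟨v, hv, hv0, huv⟩ := exists_perp_line h l ((D l).sub_mem ha hy)
      refine ⟨v, hv, perp_ne_of_ne h ((D l).sub_mem ha hy) hu hv hv0 huv, fun h0 => ?_, huv⟩
      obtain ⟨c, hc⟩ := Submodule.mem_span_singleton.1 (perp_line_unique h hv hv0 ha ha0 ((D l).sub_mem ha hy)
        (by rw [QuadraticMap.polar_comm]; exact h0) (by rw [QuadraticMap.polar_comm]; exact huv))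
      refine hya (Submodule.mem_span_singleton.2 ⟨1 - c, ?_⟩)
      rw [sub_smul, one_smul, hc, sub_sub_cancel]
  have hTv := hT v hv
  refine ⟨v, hv, (J ⟨T v, hTv.1⟩ : V), Subtype.coe_prop _, hqv, by rw [hJ]; exact congrArg Neg.neg hTv.2, hav, ?_⟩
  have h1 : a' = (J y₀ : V) := by simp [y₀]
  rw [h1, hJp, ← hTy]
  have h2 : polar Q (T y) (T v) = polar Q y v := by
    simp only [polar, ← map_add, (hT _ hv).2, (hT _ hy).2, (hT _ ((D l).add_mem hy hv)).2]
  show -polar Q (T y) (T v) = _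
  rw [h2]
  rw [QuadraticMap.polar_sub_left, sub_eq_zero] at huv
  rw [huv]

include hM

theorem cls_plane {p q : Fin t} {v₀ w : V} (hv₀ : v₀ ∈ D p) (hq₀ : Q v₀ ≠ 0) (hw : w ∈ D q) (hqw : Q w = Q v₀) :
    Cls K v₀ w :=
  ⟨hq₀, by rw [hqw]; exact hq₀, hqw, pair_mem h hM hv₀ hw hq₀ _ ⟨Q v₀, by rw [hqw]⟩⟩

theorem cls_map {p : Fin t} {v₀ w : V} (hv₀ : v₀ ∈ D p) (hq₀ : Q v₀ ≠ 0) {g : OQ Q} (hgE : g ∈ eichGroup h.nondeg)
    (hgP : Permutes D g) (hw : Cls K v₀ w) : Cls K v₀ ((g : V ≃ₗ[F] V) w) := by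
  obtain ⟨q, hq⟩ := hgP p
  exact Cls.map (hM g hgE hgP) (cls_plane h hM hv₀ hq₀ (hq v₀ hv₀) (OQ.map_apply g v₀)) hw

/-- Shift a class vector in two planes, with a plane to spare. -/
theorem cls_shift_free {p₀ l m n : Fin t} (hlm : l ≠ m) (hln : l ≠ n) (hmn : m ≠ n) {v₀ e v v' : V} (hv₀ : v₀ ∈ D p₀)
    (hq₀ : Q v₀ ≠ 0) (he : Cls K v₀ e) (hen : comp h n e = 0) (hv : v ∈ D l) (hv' : v' ∈ D m) (hqv : Q v ≠ 0)
    (hqv' : Q v' = -Q v) (hev : polar Q (comp h m e) v' = -polar Q (comp h l e) v) :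
    Cls K v₀ (e + (-((Q v)⁻¹ * polar Q (comp h l e) v)) • (v + v')) := by
  have hq' : Q v' ≠ 0 := by rw [hqv']; exact neg_ne_zero.2 hqv
  obtain ⟨w, hw, hqw⟩ := exists_value h n hqv
  obtain ⟨w', hw', hqw'⟩ := exists_value h n hq'
  have hqw0 : Q w ≠ 0 := by rw [hqw]; exact hqv
  have hqw'0 : Q w' ≠ 0 := by rw [hqw']; exact hq'
  have hE : refl hqv * refl hqw0 * (refl hq' * refl hqw'0) ∈ eichGroup h.nondeg :=
    mul_mem (refl_mul_refl_mem h.nondeg h.five hqv hqw0 hqw.symm)
      (refl_mul_refl_mem h.nondeg h.five hq' hqw'0 hqw'.symm)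
  have hk : Keep D (refl hqv * refl hqw0 * (refl hq' * refl hqw'0)) :=
    ((keep_refl h hv hqv).mul (keep_refl h hw hqw0)).mul ((keep_refl h hv' hq').mul (keep_refl h hw' hqw'0))
  have h1 := cls_map h hM hv₀ hq₀ hE hk.permutes he
  convert h1 using 1
  show _ = (Quad.refl hqv : V ≃ₗ[F] V) ((refl hqw0 : V ≃ₗ[F] V) ((refl hq' : V ≃ₗ[F] V) ((refl hqw'0 : V ≃ₗ[F] V) e)))
  rw [refl_perp hqw'0 (by rw [polar_comp' h hw', hen, QuadraticMap.polar_zero_left]), refl_apply hq',
    polar_comp' h hv' e, hev, hqv']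
  have h2 : polar Q (e - ((-Q v)⁻¹ * -polar Q (comp h l e) v) • v') w = 0 := by
    rw [QuadraticMap.polar_sub_left, polar_smul_left', h.orth m n hmn v' hv' w hw, polar_comp' h hw, hen,
      QuadraticMap.polar_zero_left]
    ring
  rw [refl_perp hqw0 h2, refl_apply hqv, QuadraticMap.polar_sub_left, polar_smul_left',
    h.orth m l hlm.symm v' hv' v hv, mul_zero, sub_zero, polar_comp' h hv e, inv_neg]
  module

/-- Shift a class vector in four planes. -/
theorem cls_shift_four {p₀ l m l' m' : Fin t} (hlm : l ≠ m) (hll : l ≠ l') (hlm' : l ≠ m') (hml : m ≠ l')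
    (hmm : m ≠ m') (hlm'' : l' ≠ m') {v₀ e v v' u u' : V} (hv₀ : v₀ ∈ D p₀) (hq₀ : Q v₀ ≠ 0) (he : Cls K v₀ e)
    (hv : v ∈ D l) (hv' : v' ∈ D m) (hu : u ∈ D l') (hu' : u' ∈ D m') (hqv : Q v ≠ 0) (hqv' : Q v' = -Q v)
    (hqu : Q u ≠ 0) (hqu' : Q u' = -Q u) (hev : polar Q (comp h m e) v' = -polar Q (comp h l e) v)
    (heu : polar Q (comp h m' e) u' = -polar Q (comp h l' e) u) :
    Cls K v₀ (e + ((-((Q v)⁻¹ * polar Q (comp h l e) v)) • (v + v') +
      (-((Q u)⁻¹ * polar Q (comp h l' e) u)) • (u + u'))) := by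
  have hq1 : Q v' ≠ 0 := by rw [hqv']; exact neg_ne_zero.2 hqv
  have hq2 : Q u' ≠ 0 := by rw [hqu']; exact neg_ne_zero.2 hqu
  have c1 : polar Q v' u = 0 := h.orth m l' hml v' hv' u hu
  have c2 : polar Q v' u' = 0 := h.orth m m' hmm v' hv' u' hu'
  have c3 : polar Q u u' = 0 := h.orth l' m' hlm'' u hu u' hu'
  have hE : refl hqv * refl hq1 * (refl hqu * refl hq2) ∈ eichGroup h.nondeg := by
    by_cases hs : IsSquare (Q v * Q u)
    · rw [show refl hqv * refl hq1 * (refl hqu * refl hq2) = refl hqv * refl hqu * (refl hq1 * refl hq2) by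
        simp only [mul_assoc]; rw [← mul_assoc (refl hq1) (refl hqu), refl_comm hq1 hqu c1, mul_assoc]]
      exact mul_mem (refl_mul_mem h hqv hqu hs) (refl_mul_mem h hq1 hq2 (by rw [hqv', hqu', neg_mul_neg]; exact hs))
    by_cases hs' : IsSquare (-(Q v * Q u))
    · rw [show refl hqv * refl hq1 * (refl hqu * refl hq2) = refl hqv * refl hq2 * (refl hq1 * refl hqu) by
        simp only [mul_assoc]
        congr 1
        rw [refl_comm hqu hq2 c3, ← mul_assoc, refl_comm hq1 hq2 c2, mul_assoc]]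
      exact mul_mem (refl_mul_mem h hqv hq2 (by rw [hqu', mul_neg]; exact hs'))
        (refl_mul_mem h hq1 hqu (by rw [hqv', neg_mul]; exact hs'))
    have hm1 : IsSquare (-1 : F) := by
      have h2 : (2 : F) ≠ 0 := fun e => hs (by
        have := charP_two_of_eq_zero e
        exact isSquare_of_charTwo' _)
      obtain ⟨r, hr⟩ := isSquare_mul_nonsq' h2 hs hs'
      exact ⟨r / (Q v * Q u), by field_simp; linear_combination hr⟩
    exact mul_mem (refl_mul_mem h hqv hq1 (by rw [hqv', mul_neg, ← neg_one_mul]; exact hm1.mul (IsSquare.mul_self _)))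
      (refl_mul_mem h hqu hq2 (by rw [hqu', mul_neg, ← neg_one_mul]; exact hm1.mul (IsSquare.mul_self _)))
  have hk : Keep D (refl hqv * refl hq1 * (refl hqu * refl hq2)) :=
    ((keep_refl h hv hqv).mul (keep_refl h hv' hq1)).mul ((keep_refl h hu hqu).mul (keep_refl h hu' hq2))
  have h1 := cls_map h hM hv₀ hq₀ hE hk.permutes he
  convert h1 using 1
  show _ = (Quad.refl hqv : V ≃ₗ[F] V) ((refl hq1 : V ≃ₗ[F] V) ((refl hqu : V ≃ₗ[F] V) ((refl hq2 : V ≃ₗ[F] V) e)))
  rw [refl_apply hq2, polar_comp' h hu' e, heu, hqu', refl_apply hqu, QuadraticMap.polar_sub_left, polar_smul_left',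
    h.orth m' l' hlm''.symm u' hu' u hu, polar_comp' h hu e, mul_zero, sub_zero, refl_apply hq1,
    QuadraticMap.polar_sub_left, QuadraticMap.polar_sub_left, polar_smul_left', polar_smul_left',
    h.orth m' m hmm.symm u' hu' v' hv', h.orth l' m hml.symm u hu v' hv', polar_comp' h hv' e, hev, hqv',
    refl_apply hqv, QuadraticMap.polar_sub_left, QuadraticMap.polar_sub_left, QuadraticMap.polar_sub_left,
    polar_smul_left', polar_smul_left', polar_smul_left', h.orth m' l hlm'.symm u' hu' v hv,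
    h.orth l' l hll.symm u hu v hv, h.orth m l hlm.symm v' hv' v hv, polar_comp' h hv e, mul_zero, mul_zero,
    sub_zero, sub_zero, inv_neg, inv_neg]
  module

omit hM in
/-- An orthogonal pair of a plane recovers twice each vector. -/
theorem two_proj {p : Fin t} {x x' a : V} (h2 : (2 : F) ≠ 0) (hx : x ∈ D p) (hx' : x' ∈ D p) (ha : a ∈ D p)
    (hqx : Q x ≠ 0) (hqx' : Q x' ≠ 0) (hxx : polar Q x x' = 0) :
    ((Q x)⁻¹ * polar Q a x) • x + ((Q x')⁻¹ * polar Q a x') • x' = (2 : F) • a := by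
  obtain ⟨s, r, rfl⟩ := eq_span_of_indep h hx hx' ha (fun hm => by
    obtain ⟨c, rfl⟩ := Submodule.mem_span_singleton.1 hm
    rw [polar_smul_right', polar_self'] at hxx
    rcases mul_eq_zero.1 hxx with hc | hc
    · exact hqx' (by rw [hc, zero_smul, QuadraticMap.map_zero])
    · exact (mul_ne_zero h2 hqx) hc) (fun e => hqx (by rw [e, QuadraticMap.map_zero]))
  rw [polar_add_left', polar_add_left', polar_smul_left', polar_smul_left', polar_smul_left', polar_smul_left',
    polar_self', polar_self', hxx, QuadraticMap.polar_comm _ x' x, hxx]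
  match_scalars <;> field_simp <;> ring

/-- Negate a class vector in two planes. -/
theorem cls_negate {p₀ l m : Fin t} (hlm : l ≠ m) (h2 : (2 : F) ≠ 0) {v₀ e : V} (hv₀ : v₀ ∈ D p₀) (hq₀ : Q v₀ ≠ 0)
    (he : Cls K v₀ e) : Cls K v₀ (e + (-2 : F) • (comp h l e + comp h m e)) := by
  obtain ⟨x, hx, hqx1⟩ := exists_value h l (one_ne_zero : (1 : F) ≠ 0)
  have hqx : Q x ≠ 0 := by rw [hqx1]; exact one_ne_zero
  obtain ⟨x', hx', hx'0, hxx⟩ := exists_perp_line h l hx
  have hqx' : Q x' ≠ 0 := perp_ne_of_ne h hx hqx hx' hx'0 hxx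
  obtain ⟨J, hJ⟩ := h.iso l m
  have hqy : Q (J ⟨x, hx⟩ : V) ≠ 0 := by rw [hJ]; exact hqx
  have hqy' : Q (J ⟨x', hx'⟩ : V) ≠ 0 := by rw [hJ]; exact hqx'
  have hyy : polar Q (J ⟨x, hx⟩ : V) (J ⟨x', hx'⟩ : V) = 0 := by
    simp only [polar, ← Submodule.coe_add, ← map_add, hJ]
    exact hxx
  have hE : refl hqx * refl hqy * (refl hqx' * refl hqy') ∈ eichGroup h.nondeg :=
    mul_mem (refl_mul_refl_mem h.nondeg h.five hqx hqy (hJ ⟨x, hx⟩).symm)
      (refl_mul_refl_mem h.nondeg h.five hqx' hqy' (hJ ⟨x', hx'⟩).symm)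
  have hkeep : Keep D (refl hqx * refl hqy * (refl hqx' * refl hqy')) :=
    ((keep_refl h hx hqx).mul (keep_refl h (Subtype.coe_prop _) hqy)).mul
      ((keep_refl h hx' hqx').mul (keep_refl h (Subtype.coe_prop _) hqy'))
  have h1 := cls_map h hM hv₀ hq₀ hE hkeep.permutes he
  convert h1 using 1
  show _ = (Quad.refl hqx : V ≃ₗ[F] V) ((refl hqy : V ≃ₗ[F] V) ((refl hqx' : V ≃ₗ[F] V) ((refl hqy' : V ≃ₗ[F] V) e)))
  have hal := two_proj h h2 hx hx' (comp_mem h l e) hqx hqx' hxx
  have ham := two_proj h h2 (J ⟨x, hx⟩).2 (J ⟨x', hx'⟩).2 (comp_mem h m e) hqy hqy' hyy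
  set y := (J ⟨x, hx⟩ : V)
  set y' := (J ⟨x', hx'⟩ : V)
  have hyD : y ∈ D m := Subtype.coe_prop _
  have hy'D : y' ∈ D m := Subtype.coe_prop _
  rw [refl_apply hqy', refl_apply hqx', QuadraticMap.polar_sub_left, polar_smul_left',
    h.orth m l hlm.symm y' hy'D x' hx', mul_zero, sub_zero, refl_apply hqy, QuadraticMap.polar_sub_left,
    QuadraticMap.polar_sub_left, polar_smul_left', polar_smul_left', QuadraticMap.polar_comm _ y' y, hyy,
    h.orth l m hlm x' hx' y hyD, mul_zero, mul_zero, sub_zero, sub_zero, refl_apply hqx, QuadraticMap.polar_sub_left,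
    QuadraticMap.polar_sub_left, QuadraticMap.polar_sub_left, polar_smul_left', polar_smul_left', polar_smul_left',
    h.orth m l hlm.symm y' hy'D x hx, QuadraticMap.polar_comm _ x' x, hxx, h.orth m l hlm.symm y hyD x hx,
    mul_zero, mul_zero, mul_zero, sub_zero, sub_zero, sub_zero, polar_comp' h hy'D e, polar_comp' h hx' e,
    polar_comp' h hyD e, polar_comp' h hx e]
  rw [smul_add, neg_smul, neg_smul, ← hal, ← ham]
  abel

/-- Shift a class vector in two planes when minus one is a square. -/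
theorem cls_shift_sq {p₀ l m : Fin t} (hlm : l ≠ m) (hm1 : IsSquare (-1 : F)) {v₀ e v v' : V} (hv₀ : v₀ ∈ D p₀)
    (hq₀ : Q v₀ ≠ 0) (he : Cls K v₀ e) (hv : v ∈ D l) (hv' : v' ∈ D m) (hqv : Q v ≠ 0)
    (hqv' : Q v' = -Q v) (hev : polar Q (comp h m e) v' = -polar Q (comp h l e) v) :
    Cls K v₀ (e + (-((Q v)⁻¹ * polar Q (comp h l e) v)) • (v + v')) := by
  have hq' : Q v' ≠ 0 := by rw [hqv']; exact neg_ne_zero.2 hqv
  have hE : refl hqv * refl hq' ∈ eichGroup h.nondeg :=
    refl_mul_mem h hqv hq' (by rw [hqv', mul_neg, ← neg_one_mul]; exact hm1.mul (IsSquare.mul_self _))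
  have h1 := cls_map h hM hv₀ hq₀ hE ((keep_refl h hv hqv).mul (keep_refl h hv' hq')).permutes he
  convert h1 using 1
  show _ = (Quad.refl hqv : V ≃ₗ[F] V) ((refl hq' : V ≃ₗ[F] V) e)
  rw [refl_apply hq', refl_apply hqv, QuadraticMap.polar_sub_left, polar_smul_left',
    h.orth m l hlm.symm v' hv' v hv, mul_zero, sub_zero, polar_comp' h hv' e, hev, hqv', polar_comp' h hv e, inv_neg]
  module

omit hM in
/-- Reflecting a plane vector twice moves it by the difference. -/
theorem cls_image {p : Fin t} {v₀ e d w : V} (he : Cls K v₀ e) (hy : Cls K v₀ (e + d)) (hw : Cls K v₀ w)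
    (hwD : w ∈ D p) (hdp : comp h p d = 0) (hed : polar Q e d = 0) :
    Cls K v₀ (w + ((Q v₀)⁻¹ * polar Q (comp h p e) w) • d) := by
  obtain ⟨h₀, hqe, hqe', -⟩ := id he
  obtain ⟨-, hqy, hqy', -⟩ := id hy
  have h1 := Cls.reflect hy (Cls.reflect he hw hqe) hqy
  convert h1 using 1
  have hwd : polar Q w d = 0 := by rw [polar_comp_right h hwD, hdp, QuadraticMap.polar_zero_right]
  rw [refl_apply hqy, refl_apply hqe, hqy', hqe', QuadraticMap.polar_sub_left, polar_smul_left', polar_add_right',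
    polar_add_right', polar_self', hqe', hwd, hed, QuadraticMap.polar_comm _ w e, polar_comp' h hwD e]
  match_scalars <;> field_simp <;> ring

/-- A class vector with two nonzero components generates. -/
theorem le_of_cls {p₀ i j : Fin t} {v₀ e₀ : V} (hv₀ : v₀ ∈ D p₀) (hq₀ : Q v₀ ≠ 0) (he₀ : Cls K v₀ e₀) (hij : i ≠ j)
    (hei : comp h i e₀ ≠ 0) (hej : comp h j e₀ ≠ 0) : eichGroup h.nondeg ≤ K := by
  classical
  have hw : ∀ (p : Fin t) (e : V), comp h p e ≠ 0 → ∃ w ∈ D p, Q w = Q v₀ ∧ polar Q (comp h p e) w ≠ 0 := by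
    intro p e hep
    obtain ⟨f, hf, hf0, haf⟩ := exists_perp_line h p (comp_mem h p e)
    obtain ⟨w, hw, hqw, hwL⟩ := exists_circle_avoid h (p := p) hq₀ {f} (Or.inl (by simp))
    exact ⟨w, hw, hqw, fun h0 => hwL f (by simp) (perp_line_unique h (comp_mem h p e) hep hf hf0 hw haf h0)⟩
  -- a zero component
  obtain ⟨e, he, n, hen, i, j, hij, hei, hej⟩ : ∃ e, Cls K v₀ e ∧ ∃ n, comp h n e = 0 ∧ ∃ i j, i ≠ j ∧
      comp h i e ≠ 0 ∧ comp h j e ≠ 0 := by
    by_cases hz : ∃ n, comp h n e₀ = 0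
    · obtain ⟨n, hn⟩ := hz
      exact ⟨e₀, he₀, n, hn, i, j, hij, hei, hej⟩
    push Not at hz
    have h7 := h.five_le
    let ix : Fin 5 → Fin t := fun k => ⟨k, by omega⟩
    have hix : ∀ {a b : Fin 5}, a ≠ b → ix a ≠ ix b := fun hab e => hab (Fin.ext (Fin.mk.inj_iff.1 e))
    obtain ⟨v, hv, v', hv', hqv, hqv', hav, hav'⟩ := exists_move_pair h (comp_mem h (ix 0) e₀) (comp_mem h (ix 1) e₀)
      (hz _) (hz _)
    set s := -((Q v)⁻¹ * polar Q (comp h (ix 0) e₀) v) with hs
    have hs0 : s ≠ 0 := neg_ne_zero.2 (mul_ne_zero (inv_ne_zero hqv) hav)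
    by_cases hm1 : IsSquare (-1 : F)
    · -- a shift inside two planes
      have hy := cls_shift_sq h hM (hix (by decide)) hm1 hv₀ hq₀ he₀ hv hv' hqv hqv' hav'
      rw [← hs] at hy
      obtain ⟨w, hwD, hqw, hbw⟩ := hw (ix 2) e₀ (hz _)
      have hdj : ∀ a : Fin 5, a ≠ 0 → a ≠ 1 → comp h (ix a) (s • (v + v')) = 0 := fun a a0 a1 => by
        rw [map_smul, map_add, comp_of_ne h (hix a0) hv, comp_of_ne h (hix a1) hv']
        simp
      have hed : polar Q e₀ (s • (v + v')) = 0 := by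
        rw [polar_smul_right', polar_add_right', polar_comp' h hv e₀, polar_comp' h hv' e₀, hav']
        ring
      have he' := cls_image h he₀ hy (cls_plane h hM hv₀ hq₀ hwD hqw) hwD (hdj 2 (by decide) (by decide)) hed
      refine ⟨_, he', ix 3, ?_, ix 2, ix 0, hix (by decide), ?_, ?_⟩
      · rw [map_add, map_smul, comp_of_ne h (hix (by decide)) hwD, hdj 3 (by decide) (by decide)]
        simp
      · rw [map_add, map_smul, comp_of_mem h hwD, hdj 2 (by decide) (by decide), smul_zero, add_zero]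
        exact fun e => hq₀ (by rw [← hqw, e, QuadraticMap.map_zero])
      · rw [map_add, map_smul, comp_of_ne h (hix (by decide)) hwD, zero_add, map_smul, map_add,
          comp_of_mem h hv, comp_of_ne h (hix (by decide)) hv', add_zero, smul_smul, smul_ne_zero_iff]
        exact ⟨mul_ne_zero (mul_ne_zero (inv_ne_zero hq₀) hbw) hs0,
          fun e => hqv (by rw [e, QuadraticMap.map_zero])⟩
    have h2 : (2 : F) ≠ 0 := fun e => hm1 (by
      have := charP_two_of_eq_zero e
      exact isSquare_of_charTwo' _)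
    -- two steps: first two planes with opposite values, then negate them
    obtain ⟨u, hu, u', hu', hqu, hqu', hau, hau'⟩ := exists_move_pair h (comp_mem h (ix 2) e₀) (comp_mem h (ix 3) e₀)
      (hz _) (hz _)
    obtain ⟨w, hwD, hqw, hbw⟩ := hw (ix 4) e₀ (hz _)
    set d := s • (v + v') + (-((Q u)⁻¹ * polar Q (comp h (ix 2) e₀) u)) • (u + u') with hd
    have hy := cls_shift_four h hM (hix (by decide)) (hix (by decide)) (hix (by decide)) (hix (by decide))
      (hix (by decide)) (hix (by decide)) hv₀ hq₀ he₀ hv hv' hu hu' hqv hqv' hqu hqu' hav' hau'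
    have hd4 : comp h (ix 4) d = 0 := by
      rw [hd, map_add, map_smul, map_smul, map_add, map_add, comp_of_ne h (hix (by decide)) hv,
        comp_of_ne h (hix (by decide)) hv', comp_of_ne h (hix (by decide)) hu, comp_of_ne h (hix (by decide)) hu']
      simp
    have hed : polar Q e₀ d = 0 := by
      rw [hd, polar_add_right', polar_smul_right', polar_smul_right', polar_add_right', polar_add_right',
        polar_comp' h hv e₀, polar_comp' h hv' e₀, polar_comp' h hu e₀, polar_comp' h hu' e₀, hav', hau']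
      ring
    have he' := cls_image h he₀ hy (cls_plane h hM hv₀ hq₀ hwD hqw) hwD hd4 hed
    set k := (Q v₀)⁻¹ * polar Q (comp h (ix 4) e₀) w with hk
    have hk0 : k ≠ 0 := mul_ne_zero (inv_ne_zero hq₀) hbw
    set e₁ := w + k • d with he1
    have c0 : comp h (ix 0) e₁ = (k * s) • v := by
      rw [he1, map_add, map_smul, comp_of_ne h (hix (by decide)) hwD, zero_add, hd, map_add, map_smul, map_smul,
        map_add, map_add, comp_of_mem h hv, comp_of_ne h (hix (by decide)) hv', comp_of_ne h (hix (by decide)) hu,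
        comp_of_ne h (hix (by decide)) hu', add_zero, add_zero, smul_zero, add_zero, smul_smul]
    have c1 : comp h (ix 1) e₁ = (k * s) • v' := by
      rw [he1, map_add, map_smul, comp_of_ne h (hix (by decide)) hwD, zero_add, hd, map_add, map_smul, map_smul,
        map_add, map_add, comp_of_mem h hv', comp_of_ne h (hix (by decide)) hv, comp_of_ne h (hix (by decide)) hu,
        comp_of_ne h (hix (by decide)) hu', zero_add, add_zero, smul_zero, add_zero, smul_smul]
    have hz2 : comp h (ix 2) e₁ ≠ 0 := by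
      rw [he1, map_add, map_smul, comp_of_ne h (hix (by decide)) hwD, zero_add, hd, map_add, map_smul, map_smul,
        map_add, map_add, comp_of_mem h hu, comp_of_ne h (hix (by decide)) hv', comp_of_ne h (hix (by decide)) hv,
        comp_of_ne h (hix (by decide)) hu', zero_add, add_zero, smul_zero, zero_add, smul_smul, smul_ne_zero_iff]
      exact ⟨mul_ne_zero hk0 (neg_ne_zero.2 (mul_ne_zero (inv_ne_zero hqu) hau)),
        fun e => hqu (by rw [e, QuadraticMap.map_zero])⟩
    have hy₁ := cls_negate h hM (hix (by decide : (0 : Fin 5) ≠ 1)) h2 hv₀ hq₀ he'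
    rw [c0, c1] at hy₁
    obtain ⟨w₂, hw₂D, hqw₂, hbw₂⟩ := hw (ix 2) e₁ hz2
    have hdj : ∀ a : Fin 5, a ≠ 0 → a ≠ 1 → comp h (ix a) ((-2 : F) • ((k * s) • v + (k * s) • v')) = 0 :=
      fun a a0 a1 => by
        rw [map_smul, map_add, map_smul, map_smul, comp_of_ne h (hix a0) hv, comp_of_ne h (hix a1) hv']
        simp
    have hed₁ : polar Q e₁ ((-2 : F) • ((k * s) • v + (k * s) • v')) = 0 := by
      rw [polar_smul_right', polar_add_right', polar_smul_right', polar_smul_right', polar_comp' h hv e₁,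
        polar_comp' h hv' e₁, c0, c1, polar_smul_left', polar_smul_left', polar_self', polar_self', hqv']
      ring
    have he₂ := cls_image h he' hy₁ (cls_plane h hM hv₀ hq₀ hw₂D hqw₂) hw₂D (hdj 2 (by decide) (by decide)) hed₁
    refine ⟨_, he₂, ix 3, ?_, ix 2, ix 0, hix (by decide), ?_, ?_⟩
    · rw [map_add, map_smul, comp_of_ne h (hix (by decide)) hw₂D, hdj 3 (by decide) (by decide)]
      simp
    · rw [map_add, map_smul, comp_of_mem h hw₂D, hdj 2 (by decide) (by decide), smul_zero, add_zero]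
      exact fun e => hq₀ (by rw [← hqw₂, e, QuadraticMap.map_zero])
    · have hd0 : comp h (ix 0) ((-2 : F) • ((k * s) • v + (k * s) • v')) = (-2 : F) • (k * s) • v := by
        rw [map_smul, map_add, map_smul, map_smul, comp_of_mem h hv, comp_of_ne h (hix (by decide)) hv', smul_zero,
          add_zero]
      rw [map_add, map_smul, comp_of_ne h (hix (by decide)) hw₂D, zero_add, hd0]
      refine smul_ne_zero (mul_ne_zero (inv_ne_zero hq₀) hbw₂) (smul_ne_zero (neg_ne_zero.2 h2)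
        (smul_ne_zero (mul_ne_zero hk0 hs0) fun e => hqv ?_))
      rw [e, QuadraticMap.map_zero]
  -- three components
  obtain ⟨e, he, n, hen, l, m, p, hlm, hlp, hmp, hel, hem, hep⟩ : ∃ e, Cls K v₀ e ∧ ∃ n, comp h n e = 0 ∧
      ∃ l m p, l ≠ m ∧ l ≠ p ∧ m ≠ p ∧ comp h l e ≠ 0 ∧ comp h m e ≠ 0 ∧ comp h p e ≠ 0 := by
    by_cases hs : ∃ p, p ≠ i ∧ p ≠ j ∧ comp h p e ≠ 0
    · obtain ⟨p, hpi, hpj, hep⟩ := hs
      exact ⟨e, he, n, hen, i, j, p, hij, hpi.symm, hpj.symm, hei, hej, hep⟩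
    push Not at hs
    obtain ⟨-, hqe, hqe', -⟩ := id he
    obtain ⟨l, m, hlm, hqal, hem, hrest⟩ : ∃ l m, l ≠ m ∧ Q (comp h l e) ≠ 0 ∧ comp h m e ≠ 0 ∧
        ∀ q, q ≠ l → q ≠ m → comp h q e = 0 := by
      by_cases hqi : Q (comp h i e) = 0
      · refine ⟨j, i, hij.symm, fun hqj => hqe ?_, hei, fun q h1 h2 => hs q h2 h1⟩
        rw [apply_eq_sum h e]
        refine Finset.sum_eq_zero fun q _ => ?_
        rcases eq_or_ne q i with rfl | hqi'
        · exact hqi
        rcases eq_or_ne q j with rfl | hqj'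
        · exact hqj
        rw [hs q hqi' hqj', QuadraticMap.map_zero]
      · exact ⟨i, j, hij, hqi, hej, hs⟩
    set a := comp h l e
    set b := comp h m e
    have hal : a ∈ D l := comp_mem h l e
    have ha0 : a ≠ 0 := fun e0 => hqal (by rw [e0, QuadraticMap.map_zero])
    obtain ⟨f, hf, hf0, haf⟩ := exists_perp_line h l hal
    obtain ⟨a₂, ha₂, hqa₂, ha₂L⟩ := exists_circle_avoid h (p := l) hqal {a, f} (Or.inl Finset.card_le_two)
    have hB : polar Q a a₂ ≠ 0 := fun h0 => ha₂L f (by simp) (perp_line_unique h hal ha0 hf hf0 ha₂ haf h0)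
    obtain ⟨a₃, ha₃, hqa₃, hB₃, ha₃L, hu⟩ : ∃ a₃ ∈ D l, Q a₃ = Q a ∧ polar Q a a₃ ≠ 0 ∧
        a₃ ∉ Submodule.span F {a} ∧ Q (a - a₃) ≠ 0 := by
      by_cases h1 : Q (a - a₂) = 0
      · refine ⟨-a₂, (D l).neg_mem ha₂, by rw [QuadraticMap.map_neg, hqa₂],
          by rw [QuadraticMap.polar_neg_right, neg_ne_zero]; exact hB,
          fun hm => ha₂L a (by simp) (by simpa using neg_mem hm), fun h2 => ?_⟩
        rw [sub_eq_add_neg, apply_add, QuadraticMap.map_neg, QuadraticMap.polar_neg_right, hqa₂] at h1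
        rw [sub_neg_eq_add, apply_add, hqa₂] at h2
        by_cases h22 : (2 : F) = 0
        · exact hB (by linear_combination h2 - Q a * h22)
        · exact hqal (mul_left_cancel₀ (mul_ne_zero h22 h22) (by linear_combination h1 + h2))
      · exact ⟨a₂, ha₂, hqa₂, hB, ha₂L a (by simp), h1⟩
    obtain ⟨p, hp⟩ := exists_index_avoid h {l, m} (by have := Finset.card_le_two (a := l) (b := m); omega)
    obtain ⟨n', hn'⟩ := exists_index_avoid h {l, m, p}
      (by have := Finset.card_le_three (a := l) (b := m) (c := p); omega)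
    simp only [Finset.mem_insert, Finset.mem_singleton, not_or] at hp hn'
    obtain ⟨g, hgE, hgP, hgfix, hgm⟩ := exists_transposition h (l := p) (m := m)
    have hsum : e = a + b := by
      conv_lhs => rw [← sum_comp h e]
      rw [← Finset.sum_subset (Finset.subset_univ ({l, m} : Finset (Fin t))) fun q _ hq => ?_, Finset.sum_pair hlm]
      simp only [Finset.mem_insert, Finset.mem_singleton, not_or] at hq
      exact hrest q hq.1 hq.2
    obtain ⟨z, hz, hgz⟩ := hgm b (comp_mem h m e)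
    have hgi : ((g⁻¹ : OQ Q) : V ≃ₗ[F] V) b = z := by
      show (g : V ≃ₗ[F] V).symm b = z
      rw [LinearEquiv.symm_apply_eq, hgz]
    have hgia : ((g⁻¹ : OQ Q) : V ≃ₗ[F] V) a = a := by
      show (g : V ≃ₗ[F] V).symm a = a
      rw [LinearEquiv.symm_apply_eq, hgfix l (Ne.symm hp.1) hlm a hal]
    have he' : Cls K v₀ (a + z) := by
      obtain ⟨q, hq⟩ := hgP p₀
      have hv₁ : ∃ q', ((g⁻¹ : OQ Q) : V ≃ₗ[F] V) v₀ ∈ D q' := by
        classical
        choose σ hσ using hgP
        have hinj : Function.Injective σ := fun a b hab => by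
          by_contra hne
          obtain ⟨x, hx, hqx⟩ := exists_value h a (c := (1 : F)) one_ne_zero
          obtain ⟨x', hx', hxx⟩ := (h.nd a).exists_polar_one hx (fun e0 => by
            rw [e0, QuadraticMap.map_zero] at hqx; exact zero_ne_one hqx)
          have hsub : ∀ q, D q ≤ (D (σ q)).comap ((g : V ≃ₗ[F] V) : V →ₗ[F] V) := fun q y hy => hσ q y hy
          obtain ⟨y, hy, hqy⟩ := exists_value h b (c := (1 : F)) one_ne_zero
          have hmap : ∀ q, (D q).map ((g : V ≃ₗ[F] V) : V →ₗ[F] V) = D (σ q) := fun q =>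
            Submodule.eq_of_le_of_finrank_eq (Submodule.map_le_iff_le_comap.2 (hsub q))
              (by rw [LinearEquiv.finrank_map_eq, h.rank, h.rank])
          have hab' : D a = D b := Submodule.map_injective_of_injective (g : V ≃ₗ[F] V).injective
            (by rw [hmap, hmap, hab])
          have h0 := h.orth a b hne x hx x' (hab' ▸ hx')
          rw [h0] at hxx
          exact zero_ne_one hxx
        obtain ⟨q', hq'⟩ := hinj.bijective_of_finite.2 p₀
        refine ⟨q', ?_⟩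
        have hmap : (D q').map ((g : V ≃ₗ[F] V) : V →ₗ[F] V) = D p₀ :=
          Submodule.eq_of_le_of_finrank_eq (Submodule.map_le_iff_le_comap.2 fun y hy => hq' ▸ hσ q' y hy)
            (by rw [LinearEquiv.finrank_map_eq, h.rank, h.rank])
        obtain ⟨y, hy, hgy⟩ := hmap.ge hv₀
        show (g : V ≃ₗ[F] V).symm v₀ ∈ D q'
        rw [← hgy]
        show (g : V ≃ₗ[F] V).symm ((g : V ≃ₗ[F] V) y) ∈ D q'
        rw [LinearEquiv.symm_apply_apply]
        exact hy
      obtain ⟨q', hq'⟩ := hv₁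
      have h1 := Cls.map (K.inv_mem (hM g hgE hgP)) (cls_plane h hM hv₀ hq₀ hq' (OQ.map_apply _ v₀)) he
      rwa [hsum, map_add, hgia, hgi] at h1
    obtain ⟨w, hw', hqw, -⟩ := exists_refl_mem h hM n' ((D l).sub_mem hal ha₃) hu
    obtain ⟨w, hw', hqw⟩ := exists_value h n' hu
    have hqw0 : Q w ≠ 0 := by rw [hqw]; exact hu
    have he'' := cls_map h hM hv₀ hq₀ (refl_mul_refl_mem h.nondeg h.five hu hqw0 hqw.symm)
      ((keep_refl h ((D l).sub_mem hal ha₃) hu).mul (keep_refl h hw' hqw0)).permutes he'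
    have himg : ((Quad.refl hu * Quad.refl hqw0 : OQ Q) : V ≃ₗ[F] V) (a + z) = a₃ + z := by
      show (refl hu : V ≃ₗ[F] V) ((refl hqw0 : V ≃ₗ[F] V) (a + z)) = _
      rw [map_add, refl_perp hqw0 (h.orth l n' (Ne.symm hn'.1) a hal w hw'),
        refl_perp hqw0 (h.orth p n' (Ne.symm hn'.2.2) z hz w hw'), map_add,
        refl_perp hu (h.orth p l hp.1 z hz _ ((D l).sub_mem hal ha₃))]
      congr 1
      have h1 : polar Q a (a - a₃) = Q (a - a₃) := by
        rw [QuadraticMap.polar_sub_right, polar_self', sub_eq_add_neg a, apply_add, QuadraticMap.map_neg,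
          QuadraticMap.polar_neg_right, hqa₃]
        ring
      rw [refl_apply, h1, inv_mul_cancel₀ hu, one_smul, sub_sub_cancel]
    rw [himg] at he''
    have h3 := Cls.reflect he he'' hqe
    have hβ : polar Q (a₃ + z) e = polar Q a a₃ := by
      rw [hsum, polar_add_left', polar_add_right', polar_add_right', h.orth p l hp.1 z hz a hal,
        h.orth p m hp.2 z hz b (comp_mem h m e), h.orth l m hlm a₃ ha₃ b (comp_mem h m e),
        QuadraticMap.polar_comm _ a₃ a]
      ring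
    rw [refl_apply, hβ] at h3
    set β := (Q e)⁻¹ * polar Q a a₃
    have hβ0 : β ≠ 0 := mul_ne_zero (inv_ne_zero hqe) hB₃
    refine ⟨_, h3, n', ?_, l, m, p, hlm, Ne.symm hp.1, Ne.symm hp.2, ?_, ?_, ?_⟩
    · rw [map_sub, map_smul, map_add, comp_of_ne h hn'.1 ha₃, comp_of_ne h hn'.2.2 hz, hrest n' hn'.1 hn'.2.1]
      simp
    · rw [map_sub, map_smul, map_add, comp_of_mem h ha₃, comp_of_ne h (Ne.symm hp.1) hz, add_zero, sub_ne_zero]
      exact fun e0 => ha₃L (Submodule.mem_span_singleton.2 ⟨β, e0.symm⟩)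
    · rw [map_sub, map_smul, map_add, comp_of_ne h hlm.symm ha₃, comp_of_ne h (Ne.symm hp.2) hz, add_zero, zero_sub,
        neg_ne_zero, smul_ne_zero_iff]
      exact ⟨hβ0, hem⟩
    · rw [map_sub, map_smul, map_add, comp_of_ne h hp.1 ha₃, comp_of_mem h hz, hrest p hp.1 hp.2, smul_zero,
        sub_zero, zero_add]
      intro e0
      rw [e0, map_zero] at hgz
      exact hem hgz.symm
  -- the root element
  have hln : l ≠ n := fun e' => hel (e' ▸ hen)
  have hmn : m ≠ n := fun e' => hem (e' ▸ hen)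
  have hpn : p ≠ n := fun e' => hep (e' ▸ hen)
  obtain ⟨v, hv, v', hv', hqv, hqv', hav, hav'⟩ := exists_move_pair h (comp_mem h l e) (comp_mem h m e) hel hem
  obtain ⟨w, hwD, hqw, hbw⟩ := hw p e hep
  set s := -((Q v)⁻¹ * polar Q (comp h l e) v)
  set d := v + v' with hd
  have hy := cls_shift_free h hM hlm hln hmn hv₀ hq₀ he hen hv hv' hqv hqv' hav'
  have hdc : ∀ q, q ≠ l → q ≠ m → comp h q d = 0 := fun q h1 h2 => by
    rw [hd, map_add, comp_of_ne h h1 hv, comp_of_ne h h2 hv', add_zero]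
  have hdl : comp h l d = v := by rw [hd, map_add, comp_of_mem h hv, comp_of_ne h hlm hv', add_zero]
  have hdm : comp h m d = v' := by rw [hd, map_add, comp_of_mem h hv', comp_of_ne h hlm.symm hv, zero_add]
  have hed : polar Q e (s • d) = 0 := by
    rw [polar_smul_right', hd, polar_add_right', polar_comp' h hv e, polar_comp' h hv' e, hav']; ring
  have he1 := cls_image h he hy (cls_plane h hM hv₀ hq₀ hwD hqw) hwD
    (by rw [map_smul, hdc p hlp.symm hmp.symm, smul_zero]) hed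
  rw [smul_smul] at he1
  set r := (Q v₀)⁻¹ * polar Q (comp h p e) w * s
  have hr0 : r ≠ 0 := mul_ne_zero (mul_ne_zero (inv_ne_zero hq₀) hbw)
    (neg_ne_zero.2 (mul_ne_zero (inv_ne_zero hqv) hav))
  have hqd : Q d = 0 := by rw [hd, apply_add, hqv', h.orth l m hlm v hv v' hv']; ring
  obtain ⟨h₀, hqe1, -, he1K⟩ := he1
  obtain ⟨h₀', hqw', -, hwK⟩ := cls_plane h hM hv₀ hq₀ hwD hqw
  have hK : Quad.refl hqw' * Quad.refl hqe1 ∈ K := by
    have := K.mul_mem (K.inv_mem hwK) he1K
    rw [mul_inv_rev, refl_inv, refl_inv, mul_assoc, ← mul_assoc (Quad.refl hq₀) (Quad.refl h₀)] at this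
    rwa [show Quad.refl hq₀ * Quad.refl h₀ = 1 from refl_mul_self hq₀, one_mul] at this
  have hdw : polar Q d w = 0 := by
    rw [polar_comp' h hwD, hdc p hlp.symm hmp.symm, QuadraticMap.polar_zero_left]
  set c := -(r * (Q w)⁻¹)
  have hc0 : c ≠ 0 := neg_ne_zero.2 (mul_ne_zero hr0 (inv_ne_zero hqw'))
  obtain ⟨hb, -, heq⟩ := eich_eq_refl_mul h.nondeg (w := c • d) (a := w) (by rw [apply_smul, hqd, mul_zero])
    (by rw [polar_smul_left', hdw, mul_zero]) hqw'
  have hvec : w + (-Q w) • c • d = w + r • d := by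
    congr 1
    rw [smul_smul, show -Q w * c = r by simp only [c]; field_simp]
  rw [refl_congr hb hqe1 hvec, eich_smul_left h.nondeg hqd hdw c] at heq
  have hhas : Has h.nondeg K d (c • w) := fun _ _ => by
    rw [show eich h.nondeg _ _ = eich h.nondeg hqd (a := c • w) (by rw [polar_smul_right', hdw, mul_zero]) from rfl,
      heq]
    exact hK
  have hDp : D p ≤ rootSpace h.nondeg K d := plane_le_of_has h hM hpn (hdc p hlp.symm hmp.symm)
    (hdc n hln.symm hmn.symm) ((D p).smul_mem c hwD)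
    (by rw [apply_smul]; exact mul_ne_zero (mul_ne_zero hc0 hc0) hqw') hhas
  have hall : ∀ q, q ≠ l → q ≠ m → D q ≤ rootSpace h.nondeg K d := by
    intro q hql hqm
    obtain ⟨g, hgE, hgP, hgfix, hgq⟩ := exists_transposition h (l := p) (m := q)
    have hgd : (g : V ≃ₗ[F] V) d = d := by
      rw [hd, map_add, hgfix l hlp hql.symm v hv, hgfix m hmp hqm.symm v' hv']
    intro z hz
    obtain ⟨y, hy', hgy⟩ := hgq z hz
    have h1 := mem_rootSpace_conj (hM g hgE hgP) (hDp hy')
    rwa [hgd, hgy] at h1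
  rcases h.type with ⟨haniso, -⟩ | ⟨hsing, -⟩
  · refine le_of_two_plane h hM hlm haniso hqd ?_ ?_ hdc hall
    · rw [hdl]; exact fun e0 => hqv (by rw [e0, QuadraticMap.map_zero])
    · rw [hdm]; exact fun e0 => hav (by
        rw [e0, QuadraticMap.polar_zero_right, eq_comm, neg_eq_zero] at hav'; exact hav')
  · obtain ⟨u, hu, hu0, hqu⟩ := hsing p
    refine le_of_singular_plane h hM hlp.symm hu hqu hu0 (mem_rootSpace_swap hqd hqu (hDp hu)) ?_
    rw [hdl]
    exact fun e0 => hqv (by rw [e0, QuadraticMap.map_zero])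

end CfsgLib.Geo.OrthPlane
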