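/-
Stabilisers of orthogonal decompositions into planes are maximal in `Ω`.
-/
import Cfsg.Agent.Lib.Geo.OrthPlaneChain
import Cfsg.Agent.Lib.Geo.OrthBlockMax

set_option autoImplicit false

namespace CfsgLib.Geo.OrthPlane

open CfsgLib.Classical CfsgLib.Classical.Quad CfsgLib.Geo.OrthMax CfsgLib.Geo.OrthBlock
open QuadraticMap (polar polarBilin)

variable {F : Type*} [Field F] [Finite F] {V : Type*} [AddCommGroup V] [Module F V] [FiniteDimensional F V]
  {Q : QuadraticForm F V} {t : ℕ} {D : Fin t → Submodule F V}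

/-- Every element is a difference of two nonzero squares in a field of at least seven elements. -/
theorem exists_square_diff (h7 : 7 ≤ Nat.card F) (c : F) :
    ∃ a b : F, a ≠ 0 ∧ b ≠ 0 ∧ a * a - b * b = c := by
  classical
  have : Fintype F := Fintype.ofFinite F
  rw [Nat.card_eq_fintype_card] at h7
  by_cases h2 : (2 : F) = 0
  · have := charP_two_of_eq_zero h2
    obtain ⟨r, hr⟩ := isSquare_of_charTwo' c
    obtain ⟨a, -, ha⟩ := Finset.exists_mem_notMem_of_card_lt_card (s := ({0, r} : Finset F)) (t := Finset.univ)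
      (by rw [Finset.card_univ]; exact lt_of_le_of_lt Finset.card_le_two (by omega))
    simp only [Finset.mem_insert, Finset.mem_singleton, not_or] at ha
    refine ⟨a, a + r, ha.1, fun e => ha.2 ?_, ?_⟩
    · linear_combination e - r * h2
    · rw [hr]; linear_combination (-(a * r + r * r)) * h2
  · rcases eq_or_ne c 0 with rfl | hc
    · exact ⟨1, 1, one_ne_zero, one_ne_zero, sub_self _⟩
    set B : Finset F := insert 0 (Finset.univ.filter fun d => d * d = c ∨ d * d = -c)
    have hB : B.card ≤ 5 := by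
      have h1 : ∀ e : F, (Finset.univ.filter fun d : F => d * d = e).card ≤ 2 := by
        intro e
        rcases (Finset.univ.filter fun d : F => d * d = e).eq_empty_or_nonempty with he | ⟨d, hd⟩
        · rw [he]; simp
        · refine le_trans (Finset.card_le_card (t := ({d, -d} : Finset F)) fun d' hd' => ?_) Finset.card_le_two
          simp only [Finset.mem_filter, Finset.mem_univ, true_and] at hd hd'
          simpa using mul_self_eq_mul_self_iff.1 (hd'.trans hd.symm)
      refine (Finset.card_insert_le _ _).trans ?_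
      rw [Finset.filter_or]
      have := Finset.card_union_le (Finset.univ.filter fun d : F => d * d = c) (Finset.univ.filter fun d : F => d * d = -c)
      have := h1 c
      have := h1 (-c)
      omega
    obtain ⟨d, -, hd⟩ := Finset.exists_mem_notMem_of_card_lt_card (s := B) (t := Finset.univ)
      (by rw [Finset.card_univ]; omega)
    simp only [B, Finset.mem_insert, Finset.mem_filter, Finset.mem_univ, true_and, not_or] at hd
    obtain ⟨hd0, hdc, hdc'⟩ := hd
    refine ⟨(d + c / d) / 2, (d - c / d) / 2, div_ne_zero (fun e => hdc' ?_) h2, div_ne_zero (fun e => hdc ?_) h2, ?_⟩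
    · field_simp at e; linear_combination e
    · field_simp at e; linear_combination e
    · field_simp; ring

variable (h : IsPlanes Q D)
include h

/-- Two vectors of a given value spanning a plane, not perpendicular. -/
theorem exists_two (j : Fin t) {c : F} (hc : c ≠ 0) : ∃ a b : V, a ∈ D j ∧ b ∈ D j ∧ Q a = c ∧ Q b = c ∧
    b ∉ Submodule.span F {a} ∧ polar Q a b ≠ 0 := by
  classical
  obtain ⟨a, ha, hqa⟩ := exists_value h j hc
  have ha0 : a ≠ 0 := fun e => hc (by rw [← hqa, e, QuadraticMap.map_zero])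
  obtain ⟨f, hf, hf0, haf⟩ := exists_perp_line h j ha
  obtain ⟨b, hb, hqb, hbL⟩ := exists_circle_avoid h (p := j) hc {a, f} (Or.inl Finset.card_le_two)
  exact ⟨a, b, ha, hb, hqa, hqb, hbL a (by simp),
    fun h0 => hbL f (by simp) (perp_line_unique h ha ha0 hf hf0 hb haf h0)⟩

omit [Finite F] in
theorem eq_of_mem_both {p q : Fin t} (hpq : p ≠ q) {x : V} (hp : x ∈ D p) (hq : x ∈ D q) : x = 0 :=
  (comp_of_mem h hp).symm.trans (comp_of_ne h hpq hq)

omit [Finite F] in
theorem single_of_comps {x : V} (hx : ∀ a b, comp h a x ≠ 0 → comp h b x ≠ 0 → a = b) : ∃ q, x ∈ D q := by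
  rcases eq_or_ne x 0 with rfl | hx0
  · exact ⟨⟨0, by have := h.five_le; omega⟩, Submodule.zero_mem _⟩
  · obtain ⟨q, hq⟩ := exists_comp_ne h hx0
    refine ⟨q, ?_⟩
    rw [eq_comp_of_forall h (x := x) (i := q) fun a ha => by
      by_contra h0; exact ha (hx a q h0 hq)]
    exact comp_mem h q x

omit [Finite F] in
theorem same_plane {p q : Fin t} {x y : V} (hx : x ∈ D p) (hy : y ∈ D q) (hxy : polar Q x y ≠ 0) : q = p := by
  by_contra hne
  exact hxy (h.orth p q (Ne.symm hne) x hx y hy)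

variable {K : Subgroup (OQ Q)} (hM : ∀ g ∈ eichGroup h.nondeg, Permutes D g → g ∈ K)
include hM

/-- A pair of reflections in `K`, fixing a vector of a plane, whose axes spread over three planes. -/
theorem le_of_useful {l : Fin t} {v x z : V} (hv : v ∈ D l) (hqv : Q v ≠ 0) (hxv : polar Q x v = 0)
    (hzv : polar Q z v = 0) (hqx : Q x ≠ 0) (hqz : Q z ≠ 0) (hK : refl hqx * refl hqz ∈ K)
    (hxz : x ∉ Submodule.span F {z})
    (hbig : ¬ ∃ p q, ∀ a, a ≠ p → a ≠ q → comp h a x = 0 ∧ comp h a z = 0) : eichGroup h.nondeg ≤ K := by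
  classical
  by_contra hfail
  set H := refl hqx * refl hqz with hH
  have happ : ∀ w, (H : V ≃ₗ[F] V) w = (refl hqx : V ≃ₗ[F] V) ((refl hqz : V ≃ₗ[F] V) w) := fun w => rfl
  have hHv : (H : V ≃ₗ[F] V) v = v := by
    rw [happ, refl_perp hqz (by rw [QuadraticMap.polar_comm]; exact hzv),
      refl_perp hqx (by rw [QuadraticMap.polar_comm]; exact hxv)]
  have himg : ∀ p, ∀ w ∈ D p, Q w = Q v → ∃ q, (H : V ≃ₗ[F] V) w ∈ D q := fun p w hw hqw => by
    have hcl : Cls K v ((H : V ≃ₗ[F] V) w) :=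
      Cls.map hK (by rw [hHv]; exact cls_plane h hM hv hqv hv rfl) (cls_plane h hM hv hqv hw hqw)
    refine single_of_comps h fun a b ha hb => ?_
    by_contra hne
    exact hfail (le_of_cls h hM hv hqv hcl hne ha hb)
  have hperm : ∀ p, ∃ q, ∀ w ∈ D p, (H : V ≃ₗ[F] V) w ∈ D q := by
    intro p
    obtain ⟨a, b, ha, hb, hqa, hqb, hab, hpab⟩ := exists_two h p hqv
    obtain ⟨q, hq⟩ := himg p a ha hqa
    obtain ⟨q', hq'⟩ := himg p b hb hqb
    obtain rfl := same_plane h hq hq' (by rw [OQ.map_polar]; exact hpab)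
    refine ⟨q', fun w hw => ?_⟩
    obtain ⟨s, r, rfl⟩ := eq_span_of_indep h ha hb hw hab (fun e => hqv (by rw [← hqa, e, QuadraticMap.map_zero]))
    rw [map_add, map_smul, map_smul]
    exact (D q').add_mem ((D q').smul_mem _ hq) ((D q').smul_mem _ hq')
  set S := Submodule.span F {x, z} with hS
  have hS2 : Module.finrank F S ≤ 2 := by
    have h4 := finrank_span_finset_le_card (R := F) ({x, z} : Finset V)
    rw [Finset.coe_pair] at h4
    exact h4.trans Finset.card_le_two
  have hmove : ∀ w, (H : V ≃ₗ[F] V) w - w ∈ S := fun w => by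
    refine Submodule.mem_span_pair.2
      ⟨-((Q x)⁻¹ * polar Q ((refl hqz : V ≃ₗ[F] V) w) x), -((Q z)⁻¹ * polar Q w z), ?_⟩
    rw [happ, refl_apply hqx, refl_apply hqz]
    module
  have hkeep : ∀ p, ∀ w ∈ D p, (H : V ≃ₗ[F] V) w ∈ D p := by
    intro p
    obtain ⟨q, hq⟩ := hperm p
    rcases eq_or_ne q p with rfl | hqp
    · exact hq
    exfalso
    let L : D p →ₗ[F] V := (((H : V ≃ₗ[F] V) : V →ₗ[F] V) - LinearMap.id) ∘ₗ (D p).subtype
    have hinj : Function.Injective L := by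
      rw [injective_iff_map_eq_zero]
      intro w hw
      have h1 : (H : V ≃ₗ[F] V) w = (w : V) := sub_eq_zero.1 hw
      exact Subtype.ext (eq_of_mem_both h hqp.symm w.2 (h1 ▸ hq w w.2))
    have hle : LinearMap.range L ≤ S := by
      rintro _ ⟨w, rfl⟩; exact hmove w
    have heq : LinearMap.range L = S := Submodule.eq_of_le_of_finrank_le hle
      (by rw [LinearMap.finrank_range_of_inj hinj, h.rank]; exact hS2)
    have hsup : ∀ y ∈ S, ∀ a, a ≠ p → a ≠ q → comp h a y = 0 := fun y hy a hap haq => by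
      rw [← heq] at hy
      obtain ⟨w, rfl⟩ := hy
      show comp h a ((H : V ≃ₗ[F] V) (w : V) - (w : V)) = 0
      rw [map_sub, comp_of_ne h haq (hq w w.2), comp_of_ne h hap w.2, sub_zero]
    exact hbig ⟨p, q, fun a hap haq =>
      ⟨hsup x (Submodule.subset_span (by simp)) a hap haq, hsup z (Submodule.subset_span (by simp)) a hap haq⟩⟩
  have hcommute : ∀ a w, comp h a ((H : V ≃ₗ[F] V) w) = (H : V ≃ₗ[F] V) (comp h a w) := by
    intro a w
    conv_lhs => rw [← sum_comp h w, map_sum, map_sum]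
    rw [Finset.sum_eq_single a]
    · exact comp_of_mem h (hkeep a _ (comp_mem h a w))
    · exact fun b _ hb => comp_of_ne h (Ne.symm hb) (hkeep b _ (comp_mem h b w))
    · exact fun hn => absurd (Finset.mem_univ a) hn
  have hcompS : ∀ w a, comp h a ((H : V ≃ₗ[F] V) w - w) ∈ S := fun w a => by
    rw [map_sub, hcommute]; exact hmove _
  obtain ⟨w, hxw, hzw⟩ := exists_sep_polar h.nondeg hxz
  have hxS : ∀ a, comp h a x ∈ S := by
    intro a
    have h1 := hcompS w a
    have h2 : (H : V ≃ₗ[F] V) w - w = (-(Q x)⁻¹) • x := by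
      rw [happ, refl_perp hqz (by rw [QuadraticMap.polar_comm]; exact hzw z (Submodule.mem_span_singleton_self z)),
        refl_apply, QuadraticMap.polar_comm _ w x, hxw, mul_one]
      module
    rw [h2, map_smul] at h1
    exact (Submodule.smul_mem_iff _ (neg_ne_zero.2 (inv_ne_zero hqx))).1 h1
  have hzx : z ∉ Submodule.span F {x} := fun hm => hxz (by
    obtain ⟨c, hc⟩ := Submodule.mem_span_singleton.1 hm
    refine Submodule.mem_span_singleton.2 ⟨c⁻¹, ?_⟩
    rw [← hc, inv_smul_smul₀ fun e => hqz (by rw [← hc, e, zero_smul, QuadraticMap.map_zero])])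
  obtain ⟨w', hzw', hxw'⟩ := exists_sep_polar h.nondeg hzx
  have hzS : ∀ a, comp h a z ∈ S := by
    intro a
    have h1 := hcompS w' a
    have h2 : (H : V ≃ₗ[F] V) w' - w' =
        (-((Q x)⁻¹ * polar Q ((refl hqz : V ≃ₗ[F] V) w') x)) • x + (-(Q z)⁻¹) • z := by
      rw [happ, refl_apply hqx, refl_apply hqz, QuadraticMap.polar_comm _ w' z, hzw', mul_one]
      module
    rw [h2, map_add, map_smul, map_smul] at h1
    exact (Submodule.smul_mem_iff _ (neg_ne_zero.2 (inv_ne_zero hqz))).1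
      ((Submodule.add_mem_iff_right _ (S.smul_mem _ (hxS a))).1 h1)
  set U : Finset (Fin t) := Finset.univ.filter fun a => comp h a x ≠ 0 ∨ comp h a z ≠ 0
  have hU : U.card ≤ 2 := by
    have hy : ∀ a ∈ U, ∃ y ∈ S, y ∈ D a ∧ y ≠ 0 := fun a ha => by
      rcases (Finset.mem_filter.1 ha).2 with h1 | h1
      · exact ⟨_, hxS a, comp_mem h a x, h1⟩
      · exact ⟨_, hzS a, comp_mem h a z, h1⟩
    choose y hyS hyD hy0 using hy
    have hli : LinearIndependent F (fun a : {a // a ∈ U} => (⟨y a.1 a.2, hyS a.1 a.2⟩ : S)) := by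
      rw [Fintype.linearIndependent_iff]
      intro c hc b
      have h1 : comp h b.1 (((∑ a : {a // a ∈ U}, c a • (⟨y a.1 a.2, hyS a.1 a.2⟩ : S)) : S) : V) = 0 := by
        rw [hc, ZeroMemClass.coe_zero, map_zero]
      rw [Submodule.coe_sum, map_sum, Finset.sum_eq_single b] at h1
      · rw [Submodule.coe_smul, map_smul, comp_of_mem h (hyD b.1 b.2)] at h1
        exact (smul_eq_zero.1 h1).resolve_right (hy0 b.1 b.2)
      · intro a _ hab
        rw [Submodule.coe_smul, map_smul, comp_of_ne h (fun e => hab (Subtype.ext e.symm)) (hyD a.1 a.2), smul_zero]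
      · exact fun hn => absurd (Finset.mem_univ b) hn
    have h5 := hli.fintype_card_le_finrank
    rw [Fintype.card_coe] at h5
    omega
  obtain ⟨p, q, hpq⟩ : ∃ p q, U ⊆ {p, q} := by
    obtain ⟨U', hUU', hU'⟩ := Finset.exists_superset_card_eq hU (by
      rw [Fintype.card_fin]; have := h.five_le; omega)
    obtain ⟨p, q, -, rfl⟩ := Finset.card_eq_two.1 hU'
    exact ⟨p, q, hUU'⟩
  refine hbig ⟨p, q, fun a hap haq => ?_⟩
  by_contra hne
  have := hpq (show a ∈ U from Finset.mem_filter.2 ⟨Finset.mem_univ _, not_and_or.1 hne⟩)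
  simp [hap, haq] at this

variable {g : OQ Q} (hgK : g ∈ K)
include hgK

theorem moved_pair {j j' : Fin t} {a b : V} (ha : a ∈ D j) (hb : b ∈ D j') (hqga : Q ((g : V ≃ₗ[F] V) a) ≠ 0)
    (hqgb : Q ((g : V ≃ₗ[F] V) b) ≠ 0) (hsq : IsSquare (Q a * Q b)) : refl hqga * refl hqgb ∈ K := by
  have hqa : Q a ≠ 0 := by rwa [OQ.map_apply] at hqga
  have hqb : Q b ≠ 0 := by rwa [OQ.map_apply] at hqgb
  rw [← refl_conj' g hqa hqga, ← refl_conj' g hqb hqgb]
  convert K.mul_mem (K.mul_mem hgK (pair_mem h hM ha hb hqa hqb hsq)) (K.inv_mem hgK) using 1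
  simp only [mul_assoc, inv_mul_cancel_left]

/-- A moved plane projecting onto a singular line. -/
theorem le_of_singular_image {j l : Fin t} {E : V} (hE : E ∈ D l) (hE0 : E ≠ 0) (hqE : Q E = 0)
    (him : ∀ b ∈ D j, comp h l ((g : V ≃ₗ[F] V) b) ∈ Submodule.span F {E})
    (hnz : ∃ b ∈ D j, comp h l ((g : V ≃ₗ[F] V) b) ≠ 0) : eichGroup h.nondeg ≤ K := by
  have h7 : 7 ≤ Nat.card F := (two_zero_or h l).resolve_left fun ha => hE0 (ha E hE hqE)
  obtain ⟨E', hE', hqE', hEE'⟩ := exists_hyp h hE hE0 hqE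
  -- the functional and its vector in the plane
  obtain ⟨z₁, hz₁, z₂, hz₂, hsum⟩ := (h.nd j).exists_add h.nondeg (((g⁻¹ : OQ Q) : V ≃ₗ[F] V) E')
  set a₀ := (g : V ≃ₗ[F] V) z₁
  have hbE : ∀ b ∈ D j, polar Q ((g : V ≃ₗ[F] V) b) E = 0 := fun b hb => by
    obtain ⟨c, hc⟩ := Submodule.mem_span_singleton.1 (him b hb)
    rw [polar_comp' h hE, ← hc, polar_smul_left', polar_self', hqE, mul_zero, mul_zero]
  have hphi : ∀ b ∈ D j, comp h l ((g : V ≃ₗ[F] V) b) =
      polar Q ((g : V ≃ₗ[F] V) b) a₀ • E := fun b hb => by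
    obtain ⟨c, hc⟩ := Submodule.mem_span_singleton.1 (him b hb)
    have h1 : polar Q ((g : V ≃ₗ[F] V) b) E' = c := by
      rw [polar_comp' h hE', ← hc, polar_smul_left', hEE', mul_one]
    have h2 : polar Q ((g : V ≃ₗ[F] V) b) E' = polar Q ((g : V ≃ₗ[F] V) b) a₀ := by
      have h3 : E' = (g : V ≃ₗ[F] V) (z₁ + z₂) := by
        rw [hsum]; exact ((g : V ≃ₗ[F] V).apply_symm_apply E').symm
      rw [h3, map_add, polar_add_right', OQ.map_polar, OQ.map_polar, mem_perp.1 hz₂ b hb, add_zero]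
    rw [← h2, h1, hc]
  have hz₁0 : z₁ ≠ 0 := fun e => by
    obtain ⟨b, hb, hb0⟩ := hnz
    refine hb0 ?_
    rw [hphi b hb]
    simp [a₀, e]
  obtain ⟨a, b, ha, hb, hqa, hqb, hab, -⟩ := exists_two h j (one_ne_zero : (1 : F) ≠ 0)
  have hqga : Q ((g : V ≃ₗ[F] V) a) ≠ 0 := by rw [OQ.map_apply, hqa]; exact one_ne_zero
  have hqgb : Q ((g : V ≃ₗ[F] V) b) ≠ 0 := by rw [OQ.map_apply, hqb]; exact one_ne_zero
  set R := Quad.refl hqga * Quad.refl hqgb with hR
  have hRK : R ∈ K := moved_pair h hM hgK ha hb hqga hqgb ⟨1, by rw [hqa, hqb]⟩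
  have hRE : (R : V ≃ₗ[F] V) E = E := by
    show (Quad.refl hqga : V ≃ₗ[F] V) ((Quad.refl hqgb : V ≃ₗ[F] V) E) = E
    rw [refl_perp hqgb (by rw [QuadraticMap.polar_comm]; exact hbE b hb),
      refl_perp hqga (by rw [QuadraticMap.polar_comm]; exact hbE a ha)]
  set d := a₀ - (R : V ≃ₗ[F] V) a₀ with hd
  have hEd : polar Q E d = 0 := by
    rw [hd, QuadraticMap.polar_sub_right, QuadraticMap.polar_comm _ E a₀, hbE z₁ hz₁]
    conv_lhs => rw [← hRE]
    rw [OQ.map_polar, QuadraticMap.polar_comm, hbE z₁ hz₁, sub_self]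
  have key : ∀ κ : F, κ ≠ 0 → IsSquare κ → Has h.nondeg K E ((κ - 1) • d) := by
    intro κ hκ hsq hw hd'
    have hq1 : Q (E + E') ≠ 0 := by rw [apply_add, hqE, hqE', hEE']; simp
    have hq2 : Q (E + κ • E') = κ := by rw [apply_add, apply_smul, polar_smul_right', hqE, hqE', hEE']; ring
    have hq2' : Q (E + κ • E') ≠ 0 := by rw [hq2]; exact hκ
    have hm : refl hq1 * refl hq2' ∈ K := pair_mem h hM ((D l).add_mem hE hE')
      ((D l).add_mem hE ((D l).smul_mem _ hE')) hq1 hq2' (by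
        rw [hq2, apply_add, hqE, hqE', hEE']; simpa using hsq)
    set m := refl hq1 * refl hq2'
    have hmE : (m : V ≃ₗ[F] V) E = κ • E := by
      show (refl hq1 : V ≃ₗ[F] V) ((refl hq2' : V ≃ₗ[F] V) E) = _
      rw [refl_apply hq2', hq2, polar_add_right', polar_smul_right', polar_self', hqE, hEE', refl_apply,
        apply_add E E', hqE, hqE', hEE', QuadraticMap.polar_sub_left, polar_smul_left', polar_add_left',
        polar_smul_left', polar_add_right', polar_add_right', polar_self', polar_self', hqE, hqE', hEE',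
        QuadraticMap.polar_comm _ E' E, hEE']
      match_scalars <;> field_simp <;> ring
    have hsa : polar Q E ((κ - 1) • a₀) = 0 := by
      rw [polar_smul_right', QuadraticMap.polar_comm, hbE z₁ hz₁, mul_zero]
    set e := eich h.nondeg hqE hsa
    have hagree : ∀ b ∈ D j, (m : V ≃ₗ[F] V) ((g : V ≃ₗ[F] V) b) = (e : V ≃ₗ[F] V) ((g : V ≃ₗ[F] V) b) := by
      intro b hb
      set y := (g : V ≃ₗ[F] V) b
      have hmy : (m : V ≃ₗ[F] V) y - y = (m : V ≃ₗ[F] V) (comp h l y) - comp h l y := by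
        have h1 : (m : V ≃ₗ[F] V) (y - comp h l y) = y - comp h l y := by
          show (refl hq1 : V ≃ₗ[F] V) ((refl hq2' : V ≃ₗ[F] V) _) = _
          rw [refl_perp hq2' (perp_left (sub_comp h l y) ((D l).add_mem hE ((D l).smul_mem _ hE'))),
            refl_perp hq1 (perp_left (sub_comp h l y) ((D l).add_mem hE hE'))]
        rw [map_sub, sub_eq_iff_eq_add] at h1
        rw [h1]; abel
      rw [sub_eq_iff_eq_add] at hmy
      rw [hmy, hphi b hb, map_smul, hmE, eich_apply, polar_smul_right', hbE b hb]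
      module
    have hma : Q ((m : V ≃ₗ[F] V) ((g : V ≃ₗ[F] V) a)) ≠ 0 := by rw [OQ.map_apply]; exact hqga
    have hmb : Q ((m : V ≃ₗ[F] V) ((g : V ≃ₗ[F] V) b)) ≠ 0 := by rw [OQ.map_apply]; exact hqgb
    have hea : Q ((e : V ≃ₗ[F] V) ((g : V ≃ₗ[F] V) a)) ≠ 0 := by rw [OQ.map_apply]; exact hqga
    have heb : Q ((e : V ≃ₗ[F] V) ((g : V ≃ₗ[F] V) b)) ≠ 0 := by rw [OQ.map_apply]; exact hqgb
    have hconj : m * R * m⁻¹ = e * R * e⁻¹ := by
      rw [hR]
      calc m * (refl hqga * refl hqgb) * m⁻¹ = (m * refl hqga * m⁻¹) * (m * refl hqgb * m⁻¹) := by group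
        _ = (e * refl hqga * e⁻¹) * (e * refl hqgb * e⁻¹) := by
          rw [refl_conj' m hqga hma, refl_conj' m hqgb hmb, refl_conj' e hqga hea, refl_conj' e hqgb heb,
            refl_congr hma hea (hagree a ha), refl_congr hmb heb (hagree b hb)]
        _ = e * (refl hqga * refl hqgb) * e⁻¹ := by group
    have hneg : polar Q E (-((κ - 1) • a₀)) = 0 := by rw [QuadraticMap.polar_neg_right, hsa, neg_zero]
    have hmem : e * (R * eich h.nondeg hqE hneg * R⁻¹) ∈ K := by
      have h1 := K.mul_mem (K.mul_mem (K.mul_mem hm hRK) (K.inv_mem hm)) (K.inv_mem hRK)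
      rw [hconj] at h1
      convert h1 using 1
      simp only [e, eich_inv, mul_assoc]
    have hRd : polar Q E (-((κ - 1) • (R : V ≃ₗ[F] V) a₀)) = 0 := by
      rw [QuadraticMap.polar_neg_right, polar_smul_right', neg_eq_zero]
      conv_lhs => rw [← hRE]
      rw [OQ.map_polar, QuadraticMap.polar_comm, hbE z₁ hz₁, mul_zero]
    rw [eich_conj, eich_congr h.nondeg hRE (show (R : V ≃ₗ[F] V) (-((κ - 1) • a₀)) = -((κ - 1) • (R : V ≃ₗ[F] V) a₀) by
      rw [map_neg, map_smul]), eich_mul h.nondeg hqE hsa hRd] at hmem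
    rwa [eich_congr h.nondeg rfl (show (κ - 1) • d = (κ - 1) • a₀ + -((κ - 1) • (R : V ≃ₗ[F] V) a₀) by
      rw [hd]; module)]
  have hdA : d ∈ rootSpace h.nondeg K E := by
    refine ⟨hEd, fun c => ?_⟩
    obtain ⟨u, u', hu, hu', huc⟩ := exists_square_diff h7 c
    have h1 := key _ (mul_self_ne_zero.2 hu) ⟨u, rfl⟩
    have h2 := key _ (mul_self_ne_zero.2 hu') ⟨u', rfl⟩
    intro hw hcd
    have hp1 : polar Q E ((u * u - 1) • d) = 0 := by rw [polar_smul_right', hEd, mul_zero]
    have hp2 : polar Q E ((u' * u' - 1) • d) = 0 := by rw [polar_smul_right', hEd, mul_zero]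
    have h3 := K.mul_mem (h1 hqE hp1) (K.inv_mem (h2 hqE hp2))
    rw [eich_inv, eich_mul] at h3
    rwa [eich_congr h.nondeg rfl (show (u * u - 1) • d + -((u' * u' - 1) • d) = c • d by rw [← huc]; module)] at h3
  -- the difference leaves the plane
  have hdb : d = (g : V ≃ₗ[F] V) (z₁ - (refl (v := a) (by rw [hqa]; exact one_ne_zero) : V ≃ₗ[F] V)
      ((refl (v := b) (by rw [hqb]; exact one_ne_zero) : V ≃ₗ[F] V) z₁)) := by
    rw [map_sub, hd]
    congr 1
    show (refl hqga : V ≃ₗ[F] V) ((refl hqgb : V ≃ₗ[F] V) ((g : V ≃ₗ[F] V) z₁)) = _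
    simp only [refl_apply, map_sub, map_smul, OQ.map_apply, OQ.map_polar, QuadraticMap.polar_sub_left,
      polar_smul_left']
  set ρ := z₁ - (refl (v := a) (by rw [hqa]; exact one_ne_zero) : V ≃ₗ[F] V)
      ((refl (v := b) (by rw [hqb]; exact one_ne_zero) : V ≃ₗ[F] V) z₁) with hρ
  have ha0 : a ≠ 0 := fun e => by rw [e, QuadraticMap.map_zero] at hqa; exact zero_ne_one hqa
  have hρD : ρ ∈ D j := (D j).sub_mem hz₁ ((intl_refl ha _).1 _ ((intl_refl hb _).1 _ hz₁))
  have hρ0 : ρ ≠ 0 := by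
    intro e
    have h1 : (polar Q z₁ b) • b + (polar Q z₁ a - polar Q z₁ b * polar Q b a) • a = 0 := by
      rw [← e, hρ]
      simp only [refl_apply, hqa, hqb, inv_one, one_mul, QuadraticMap.polar_sub_left, polar_smul_left']
      module
    rcases eq_or_ne (polar Q z₁ b) 0 with h0 | h0
    · rw [h0, zero_smul, zero_add, zero_mul, sub_zero, smul_eq_zero, or_iff_left ha0] at h1
      exact hz₁0 (polar_eq_zero_of_perp h hz₁ ha hb hab ha0 h1 h0)
    · refine hab ((Submodule.smul_mem_iff _ h0).1 ?_)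
      rw [eq_neg_of_add_eq_zero_left h1]
      exact neg_mem (Submodule.smul_mem _ _ (Submodule.mem_span_singleton_self a))
  obtain ⟨q, hql, hq⟩ : ∃ q, q ≠ l ∧ comp h q d ≠ 0 := by
    by_contra! hc
    have h1 : d = comp h l d := eq_comp_of_forall h fun q hq => hc q hq
    obtain ⟨y, hy, hρy⟩ := (h.nd j).exists_polar_one hρD hρ0
    have h2 : polar Q d ((g : V ≃ₗ[F] V) y) = 1 := by rw [hdb, OQ.map_polar, hρy]
    rw [h1, hdb, hphi ρ hρD, polar_smul_left', QuadraticMap.polar_comm _ E, hbE y hy, mul_zero] at h2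
    exact zero_ne_one h2
  exact le_of_singular_plane h hM hql.symm hE hqE hE0 hdA hq

/-- A vector of given value in a moved plane with good component. -/
theorem exists_good_value (hfail : ¬ eichGroup h.nondeg ≤ K) (j l : Fin t) {c : F} (hc : c ≠ 0) :
    ∃ b ∈ D j, Q b = c ∧ (comp h l ((g : V ≃ₗ[F] V) b) = 0 ∨ Q (comp h l ((g : V ≃ₗ[F] V) b)) ≠ 0) := by
  classical
  rcases h.type with ⟨haniso, -⟩ | ⟨hsing, -⟩
  · obtain ⟨b, hb, hqb⟩ := exists_value h j hc
    refine ⟨b, hb, hqb, ?_⟩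
    by_contra! hcon
    exact hcon.1 (haniso l _ (comp_mem h l _) hcon.2)
  obtain ⟨E, hE, hE0, hqE⟩ := hsing l
  obtain ⟨E', hE', hqE', hEE'⟩ := exists_hyp h hE hE0 hqE
  let π : V →ₗ[F] V := (comp h l) ∘ₗ ((g : V ≃ₗ[F] V) : V →ₗ[F] V)
  have line : ∀ E : V, E ∈ D l → E ≠ 0 → Q E = 0 → (∀ b ∈ D j, π b = 0) ∨
      ∃ s, ∀ b ∈ D j, π b ∈ Submodule.span F {E} → b ∈ Submodule.span F {s} := by
    intro E hE hE0 hqE
    by_cases hall : ∀ b ∈ D j, π b ∈ Submodule.span F {E}
    · refine Or.inl ?_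
      by_contra! hne
      exact hfail (le_of_singular_image h hM hgK hE hE0 hqE hall hne)
    push Not at hall
    obtain ⟨b₀, hb₀, hb₀'⟩ := hall
    refine Or.inr ?_
    by_cases hex : ∃ s ∈ D j, s ≠ 0 ∧ π s ∈ Submodule.span F {E}
    · obtain ⟨s, hs, hs0, hsE⟩ := hex
      refine ⟨s, fun b hb hbE => ?_⟩
      by_contra hni
      obtain ⟨x, y, hxy⟩ := eq_span_of_indep h hs hb hb₀ hni hs0
      refine hb₀' ?_
      rw [← hxy, map_add, map_smul, map_smul]
      exact add_mem (Submodule.smul_mem _ _ hsE) (Submodule.smul_mem _ _ hbE)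
    · refine ⟨0, fun b hb hbE => ?_⟩
      rcases eq_or_ne b 0 with rfl | hb0
      · exact Submodule.zero_mem _
      · exact absurd ⟨b, hb, hb0, hbE⟩ hex
  have hE'0 : E' ≠ 0 := fun e => by rw [e, QuadraticMap.polar_zero_right] at hEE'; exact zero_ne_one hEE'
  rcases line E hE hE0 hqE with h1 | ⟨s, hs⟩
  · obtain ⟨b, hb, hqb⟩ := exists_value h j hc
    exact ⟨b, hb, hqb, Or.inl (h1 b hb)⟩
  rcases line E' hE' hE'0 hqE' with h1 | ⟨s', hs'⟩
  · obtain ⟨b, hb, hqb⟩ := exists_value h j hc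
    exact ⟨b, hb, hqb, Or.inl (h1 b hb)⟩
  obtain ⟨b, hb, hqb, hbL⟩ := exists_circle_avoid h (p := j) hc {s, s'} (Or.inl Finset.card_le_two)
  refine ⟨b, hb, hqb, Or.inr fun h0 => ?_⟩
  rcases singular_lines h hE hE' (comp_mem h l _) hqE hqE' h0 hEE' with hm | hm
  · exact hbL s (by simp) (hs b hb hm)
  · exact hbL s' (by simp) (hs' b hb hm)

omit hM hgK in
theorem exists_perp_good {l : Fin t} {y : V} (hy : comp h l y = 0 ∨ Q (comp h l y) ≠ 0) :
    ∃ v ∈ D l, Q v ≠ 0 ∧ polar Q y v = 0 := by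
  rcases hy with hy | hy
  · obtain ⟨v, hv, hqv⟩ := exists_value h l (one_ne_zero : (1 : F) ≠ 0)
    exact ⟨v, hv, by rw [hqv]; exact one_ne_zero, by rw [polar_comp' h hv, hy, QuadraticMap.polar_zero_left]⟩
  · obtain ⟨v, hv, hv0, hyv⟩ := exists_perp_line h l (comp_mem h l y)
    exact ⟨v, hv, perp_ne_of_ne h (comp_mem h l y) hy hv hv0 hyv, by rw [polar_comp' h hv]; exact hyv⟩

/-- A moved vector supported on two planes. -/
theorem le_of_two_support {j₀ p q : Fin t} {a : V} (ha : a ∈ D j₀) (hqa : Q a ≠ 0) (hpq : p ≠ q)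
    (hsup : ∀ b, b ≠ p → b ≠ q → comp h b ((g : V ≃ₗ[F] V) a) = 0)
    (hp : comp h p ((g : V ≃ₗ[F] V) a) ≠ 0) (hq : comp h q ((g : V ≃ₗ[F] V) a) ≠ 0) : eichGroup h.nondeg ≤ K := by
  classical
  by_contra hfail
  obtain ⟨l, hl⟩ := exists_index_avoid h {p, q} (by have := Finset.card_le_two (a := p) (b := q); omega)
  simp only [Finset.mem_insert, Finset.mem_singleton, not_or] at hl
  set x := (g : V ≃ₗ[F] V) a with hx
  have hqx : Q x ≠ 0 := by rw [hx, OQ.map_apply]; exact hqa
  have hlx : comp h l x = 0 := hsup l hl.1 hl.2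
  have key : ∀ j, j ≠ j₀ → ∃ b ∈ D j, Q b = Q a ∧ ∀ i, i ≠ p → i ≠ q → comp h i ((g : V ≃ₗ[F] V) b) = 0 := by
    intro j hj
    obtain ⟨b, hb, hqb, hgood⟩ := exists_good_value h hM hgK hfail j l hqa
    refine ⟨b, hb, hqb, ?_⟩
    obtain ⟨v, hv, hqv, hzv⟩ := exists_perp_good h hgood
    have hqgb : Q ((g : V ≃ₗ[F] V) b) ≠ 0 := by rw [OQ.map_apply, hqb]; exact hqa
    by_contra hout
    refine hfail (le_of_useful h hM hv hqv (by rw [polar_comp' h hv, hlx, QuadraticMap.polar_zero_left]) hzv hqx hqgb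
      (moved_pair h hM hgK ha hb hqx hqgb ⟨Q a, by rw [hqb]⟩) (fun hm => ?_) fun ⟨p', q', hpq'⟩ => ?_)
    · obtain ⟨c, hc⟩ := Submodule.mem_span_singleton.1 hm
      rw [hx, ← map_smul] at hc
      have hc' : a = c • b := ((g : V ≃ₗ[F] V).injective hc).symm
      refine hqa ?_
      rw [eq_of_mem_both h (Ne.symm hj) ha (hc' ▸ (D j).smul_mem c hb), QuadraticMap.map_zero]
    · have hp' : p = p' ∨ p = q' := by
        by_contra! hne; exact hp (hpq' p hne.1 hne.2).1
      have hq' : q = p' ∨ q = q' := by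
        by_contra! hne; exact hq (hpq' q hne.1 hne.2).1
      refine hout fun i hip hiq => (hpq' i (fun e => ?_) fun e => ?_).2
      · rcases hp' with e1 | e1
        · exact hip (e.trans e1.symm)
        · rcases hq' with e2 | e2
          · exact hiq (e.trans e2.symm)
          · exact hpq (e1.trans e2.symm)
      · rcases hp' with e1 | e1
        · rcases hq' with e2 | e2
          · exact hpq (e1.trans e2.symm)
          · exact hiq (e.trans e2.symm)
        · exact hip (e.trans e1.symm)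
  choose b hb hqb hsupb using key
  let z : Fin t → V := fun j => if hj : j = j₀ then x else (g : V ≃ₗ[F] V) (b j hj)
  have hz : ∀ j, z j ∈ (D p ⊔ D q : Submodule F V) ∧ ∃ y ∈ D j, Q y = Q a ∧ z j = (g : V ≃ₗ[F] V) y := by
    intro j
    have hmem : ∀ y : V, (∀ i, i ≠ p → i ≠ q → comp h i y = 0) → y ∈ (D p ⊔ D q : Submodule F V) := fun y hy => by
      rw [← sum_comp h y]
      refine Submodule.sum_mem _ fun i _ => ?_
      rcases eq_or_ne i p with rfl | hip
      · exact Submodule.mem_sup_left (comp_mem h i y)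
      rcases eq_or_ne i q with rfl | hiq
      · exact Submodule.mem_sup_right (comp_mem h i y)
      rw [hy i hip hiq]; exact Submodule.zero_mem _
    by_cases hj : j = j₀
    · subst hj
      simp only [z, dif_pos]
      exact ⟨hmem _ hsup, a, ha, rfl, rfl⟩
    · simp only [z, dif_neg hj]
      exact ⟨hmem _ (hsupb j hj), b j hj, hb j hj, hqb j hj, rfl⟩
  choose y hy hqy hzy using fun j => (hz j).2
  have hli : LinearIndependent F (fun j => (⟨z j, (hz j).1⟩ : (D p ⊔ D q : Submodule F V))) := by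
    rw [Fintype.linearIndependent_iff]
    intro c hc i
    have h1 : comp h i (∑ j, c j • y j) = 0 := by
      have h2 : (g : V ≃ₗ[F] V) (∑ j, c j • y j) = 0 := by
        rw [map_sum]
        simp only [map_smul, ← hzy]
        have h3 := congrArg Subtype.val hc
        simpa using h3
      rw [(LinearEquiv.map_eq_zero_iff _).1 h2, map_zero]
    rw [map_sum, Finset.sum_eq_single i] at h1
    · rw [map_smul, comp_of_mem h (hy i)] at h1
      exact (smul_eq_zero.1 h1).resolve_right fun e => hqa (by rw [← hqy i, e, QuadraticMap.map_zero])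
    · intro j _ hji; rw [map_smul, comp_of_ne h hji.symm (hy j), smul_zero]
    · exact fun hn => absurd (Finset.mem_univ i) hn
  have h1 := hli.fintype_card_le_finrank
  have h2 := Submodule.finrank_add_le_finrank_add_finrank (D p) (D q)
  rw [h.rank, h.rank] at h2
  rw [Fintype.card_fin] at h1
  have := h.five_le
  omega

omit hgK in
/-- An element outside the stabiliser and the stabiliser generate `Ω`. -/
theorem le_of_not_permutes (hgK : g ∈ K) (hg : ¬ Permutes D g) : eichGroup h.nondeg ≤ K := by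
  classical
  by_contra hfail
  let Blk : Fin t → Prop := fun j => ∃ q, ∀ b ∈ D j, (g : V ≃ₗ[F] V) b ∈ D q
  have hblkne : ∃ j, ¬ Blk j := by
    by_contra! hc
    exact hg hc
  -- nonsingular vectors of moved planes have one or at least three components
  have three : ∀ j (a : V), a ∈ D j → Q a ≠ 0 → ∀ p q, p ≠ q → comp h p ((g : V ≃ₗ[F] V) a) ≠ 0 →
      comp h q ((g : V ≃ₗ[F] V) a) ≠ 0 → ¬ ∀ b, b ≠ p → b ≠ q → comp h b ((g : V ≃ₗ[F] V) a) = 0 :=
    fun j a ha hqa p q hpq hp hq hsup => hfail (le_of_two_support h hM hgK ha hqa hpq hsup hp hq)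
  have useful : ∀ {j j' l : Fin t} {a b v : V}, a ∈ D j → b ∈ D j' → Q a ≠ 0 → IsSquare (Q a * Q b) → Q b ≠ 0 →
      v ∈ D l → Q v ≠ 0 → polar Q ((g : V ≃ₗ[F] V) a) v = 0 → polar Q ((g : V ≃ₗ[F] V) b) v = 0 →
      a ∉ Submodule.span F {b} → (∀ q, (g : V ≃ₗ[F] V) a ∉ D q) → False := by
    intro j j' l a b v ha hb hqa hsq hqb hv hqv hav hbv hab hna
    have hqga : Q ((g : V ≃ₗ[F] V) a) ≠ 0 := by rw [OQ.map_apply]; exact hqa
    have hqgb : Q ((g : V ≃ₗ[F] V) b) ≠ 0 := by rw [OQ.map_apply]; exact hqb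
    refine hfail (le_of_useful h hM hv hqv hav hbv hqga hqgb (moved_pair h hM hgK ha hb hqga hqgb hsq)
      (fun hm => hab ?_) fun ⟨p, q, hpq⟩ => ?_)
    · obtain ⟨c, hc⟩ := Submodule.mem_span_singleton.1 hm
      rw [← map_smul] at hc
      exact Submodule.mem_span_singleton.2 ⟨c, (g : V ≃ₗ[F] V).injective hc⟩
    · by_cases hp : comp h p ((g : V ≃ₗ[F] V) a) = 0
      · refine hna q ?_
        rw [eq_comp_of_forall h (x := (g : V ≃ₗ[F] V) a) (i := q) fun i hi => ?_]
        · exact comp_mem h q _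
        · rcases eq_or_ne i p with rfl | hip
          · exact hp
          · exact (hpq i hip hi).1
      by_cases hq : comp h q ((g : V ≃ₗ[F] V) a) = 0
      · refine hna p ?_
        rw [eq_comp_of_forall h (x := (g : V ≃ₗ[F] V) a) (i := p) fun i hi => ?_]
        · exact comp_mem h p _
        · rcases eq_or_ne i q with rfl | hiq
          · exact hq
          · exact (hpq i hi hiq).1
      rcases eq_or_ne p q with rfl | hne
      · refine hna p ?_
        rw [eq_comp_of_forall h (x := (g : V ≃ₗ[F] V) a) (i := p) fun i hi => (hpq i hi hi).1]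
        exact comp_mem h p _
      exact three j a ha hqa p q hne hp hq fun i hip hiq => (hpq i hip hiq).1
  -- moved planes project injectively
  have hinj : ∀ j, ¬ Blk j → ∀ l, ∀ b ∈ D j, comp h l ((g : V ≃ₗ[F] V) b) = 0 → b = 0 := by
    intro j hj l s hs hsl
    by_contra hs0
    obtain ⟨a, b, ha, hb, hqa, hqb, hab, hpab⟩ := exists_two h j (one_ne_zero : (1 : F) ≠ 0)
    have ha0 : a ≠ 0 := fun e => by rw [e, QuadraticMap.map_zero] at hqa; exact zero_ne_one hqa
    obtain ⟨c, c', hc, hc', hqc, hqc', hcc, hnb⟩ : ∃ c c' : V, c ∈ D j ∧ c' ∈ D j ∧ Q c = 1 ∧ Q c' = 1 ∧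
        c ∉ Submodule.span F {c'} ∧ ∀ q, (g : V ≃ₗ[F] V) c ∉ D q := by
      by_cases h1 : ∃ q, (g : V ≃ₗ[F] V) a ∈ D q
      · by_cases h2 : ∃ q, (g : V ≃ₗ[F] V) b ∈ D q
        · exfalso
          obtain ⟨q, hq⟩ := h1
          obtain ⟨q', hq'⟩ := h2
          obtain rfl := same_plane h hq hq' (by rw [OQ.map_polar]; exact hpab)
          refine hj ⟨q', fun w hw => ?_⟩
          obtain ⟨x, y, rfl⟩ := eq_span_of_indep h ha hb hw hab ha0
          rw [map_add, map_smul, map_smul]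
          exact (D q').add_mem ((D q').smul_mem _ hq) ((D q').smul_mem _ hq')
        · exact ⟨b, a, hb, ha, hqb, hqa, hab, not_exists.1 h2⟩
      · refine ⟨a, b, ha, hb, hqa, hqb, fun hm => ?_, not_exists.1 h1⟩
        obtain ⟨r, hr⟩ := Submodule.mem_span_singleton.1 hm
        exact hab (Submodule.mem_span_singleton.2 ⟨r⁻¹, by
          rw [← hr, inv_smul_smul₀ fun e => ha0 (by rw [← hr, e, zero_smul])]⟩)
    -- all components at `l` lie on one line
    obtain ⟨r, hr, hline⟩ : ∃ r ∈ D l, ∀ w ∈ D j, comp h l ((g : V ≃ₗ[F] V) w) ∈ Submodule.span F {r} := by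
      by_cases hz : ∀ w ∈ D j, comp h l ((g : V ≃ₗ[F] V) w) = 0
      · exact ⟨0, Submodule.zero_mem _, fun w hw => by rw [hz w hw]; exact Submodule.zero_mem _⟩
      push Not at hz
      obtain ⟨w₀, hw₀, hw₀'⟩ := hz
      refine ⟨_, comp_mem h l ((g : V ≃ₗ[F] V) w₀), fun w hw => ?_⟩
      have hws : w₀ ∉ Submodule.span F {s} := fun hm => hw₀' (by
        obtain ⟨x, rfl⟩ := Submodule.mem_span_singleton.1 hm
        rw [map_smul, map_smul, hsl, smul_zero])
      obtain ⟨x, y, rfl⟩ := eq_span_of_indep h hs hw₀ hw hws hs0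
      rw [map_add, map_add, map_smul, map_smul, map_smul, map_smul, hsl, smul_zero, zero_add]
      exact Submodule.smul_mem _ _ (Submodule.mem_span_singleton_self _)
    rcases eq_or_ne r 0 with rfl | hr0
    · have hzero : ∀ w ∈ D j, comp h l ((g : V ≃ₗ[F] V) w) = 0 := fun w hw => by
        simpa using hline w hw
      obtain ⟨v, hv, hqv⟩ := exists_value h l (one_ne_zero : (1 : F) ≠ 0)
      exact useful hc hc' (by rw [hqc]; exact one_ne_zero) ⟨1, by rw [hqc, hqc']⟩ (by rw [hqc']; exact one_ne_zero)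
        hv (by rw [hqv]; exact one_ne_zero) (by rw [polar_comp' h hv, hzero c hc, QuadraticMap.polar_zero_left])
        (by rw [polar_comp' h hv, hzero c' hc', QuadraticMap.polar_zero_left]) hcc hnb
    by_cases hqr : Q r = 0
    · by_cases hz : ∀ w ∈ D j, comp h l ((g : V ≃ₗ[F] V) w) = 0
      · obtain ⟨v, hv, hqv⟩ := exists_value h l (one_ne_zero : (1 : F) ≠ 0)
        exact useful hc hc' (by rw [hqc]; exact one_ne_zero) ⟨1, by rw [hqc, hqc']⟩ (by rw [hqc']; exact one_ne_zero)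
          hv (by rw [hqv]; exact one_ne_zero) (by rw [polar_comp' h hv, hz c hc, QuadraticMap.polar_zero_left])
          (by rw [polar_comp' h hv, hz c' hc', QuadraticMap.polar_zero_left]) hcc hnb
      push Not at hz
      exact hfail (le_of_singular_image h hM hgK hr hr0 hqr hline hz)
    obtain ⟨v, hv, hv0, hrv⟩ := exists_perp_line h l hr
    have hperp : ∀ w ∈ D j, polar Q ((g : V ≃ₗ[F] V) w) v = 0 := fun w hw => by
      obtain ⟨x, hx⟩ := Submodule.mem_span_singleton.1 (hline w hw)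
      rw [polar_comp' h hv, ← hx, polar_smul_left', hrv, mul_zero]
    exact useful hc hc' (by rw [hqc]; exact one_ne_zero) ⟨1, by rw [hqc, hqc']⟩ (by rw [hqc']; exact one_ne_zero) hv
      (perp_ne_of_ne h hr hqr hv hv0 hrv) (hperp c hc) (hperp c' hc') hcc hnb
  -- vectors of moved planes have full support
  have hfull : ∀ j, ¬ Blk j → ∀ a ∈ D j, a ≠ 0 → ∀ q, (g : V ≃ₗ[F] V) a ∉ D q := fun j hj a ha ha0 q hq => by
    obtain ⟨l, hl⟩ := exists_index_avoid h {q} (by simp)
    exact ha0 (hinj j hj l a ha (comp_of_ne h (by simpa using hl) hq))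
  -- no plane goes to a plane
  have hall : ∀ j, ¬ Blk j := by
    rintro j' ⟨p, hp⟩
    obtain ⟨j, hj⟩ := hblkne
    obtain ⟨l, hl⟩ := exists_index_avoid h {p} (by simp)
    obtain ⟨a, ha, hqa, hgood⟩ := exists_good_value h hM hgK hfail j l (one_ne_zero : (1 : F) ≠ 0)
    obtain ⟨v, hv, hqv, hav⟩ := exists_perp_good h hgood
    obtain ⟨b, hb, hqb⟩ := exists_value h j' (one_ne_zero : (1 : F) ≠ 0)
    have hjj : j ≠ j' := fun e => hj (e ▸ ⟨p, hp⟩)
    refine useful ha hb (by rw [hqa]; exact one_ne_zero) ⟨1, by rw [hqa, hqb]⟩ (by rw [hqb]; exact one_ne_zero) hv hqv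
      hav (h.orth p l (Ne.symm (by simpa using hl)) _ (hp b hb) v hv) (fun hm => ?_)
      (hfull j hj a ha fun e => by rw [e, QuadraticMap.map_zero] at hqa; exact zero_ne_one hqa)
    have h0 := eq_of_mem_both h hjj ha ((Submodule.span_le.2 (by simpa using hb)) hm)
    rw [h0, QuadraticMap.map_zero] at hqa
    exact zero_ne_one hqa
  have h7 := h.five_le
  let ix : Fin 4 → Fin t := fun k => ⟨k, by omega⟩
  have hix : ∀ {a b : Fin 4}, a ≠ b → ix a ≠ ix b := fun hab e => hab (Fin.ext (Fin.mk.inj_iff.1 e))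
  let l : Fin t := ⟨4, by omega⟩
  -- a line with three nonsingular preimages
  have hsur : ∀ j, ∀ r ∈ D l, ∃ b ∈ D j, comp h l ((g : V ≃ₗ[F] V) b) = r := by
    intro j r hr
    let π : D j →ₗ[F] D l := (((comp h l) ∘ₗ ((g : V ≃ₗ[F] V) : V →ₗ[F] V)) ∘ₗ (D j).subtype).codRestrict (D l)
      fun b => comp_mem h l _
    have hi : Function.Injective π := by
      rw [injective_iff_map_eq_zero]
      intro b hb
      exact Subtype.ext (hinj j (hall j) l b b.2 (congrArg Subtype.val hb))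
    obtain ⟨b, hb⟩ := (LinearMap.injective_iff_surjective_of_finrank_eq_finrank (by rw [h.rank, h.rank])).1 hi ⟨r, hr⟩
    exact ⟨b, b.2, congrArg Subtype.val hb⟩
  choose pre hpreD hpre using hsur
  obtain ⟨r, hr, hqr, i₁, i₂, i₃, h12, h13, h23, g1, g2, g3⟩ : ∃ r : V, ∃ hr : r ∈ D l, Q r ≠ 0 ∧ ∃ i₁ i₂ i₃ : Fin 4,
      i₁ ≠ i₂ ∧ i₁ ≠ i₃ ∧ i₂ ≠ i₃ ∧ Q (pre (ix i₁) r hr) ≠ 0 ∧ Q (pre (ix i₂) r hr) ≠ 0 ∧
        Q (pre (ix i₃) r hr) ≠ 0 := by
    rcases h.type with ⟨haniso, -⟩ | ⟨hsing, h7'⟩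
    · obtain ⟨r, hr, hqr⟩ := exists_value h l (one_ne_zero : (1 : F) ≠ 0)
      have hne : ∀ j, Q (pre j r hr) ≠ 0 := fun j e => by
        have h0 := hpre j r hr
        rw [haniso j _ (hpreD j r hr) e, map_zero, map_zero] at h0
        rw [← h0, QuadraticMap.map_zero] at hqr
        exact zero_ne_one hqr
      exact ⟨r, hr, by rw [hqr]; exact one_ne_zero, 0, 1, 2, by decide, by decide, by decide, hne _, hne _, hne _⟩
    obtain ⟨E, hE, hE0, hqE⟩ := hsing l
    obtain ⟨E', hE', hqE', hEE'⟩ := exists_hyp h hE hE0 hqE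
    have : Fintype F := Fintype.ofFinite F
    set S : Finset F := Finset.univ.erase 0 with hSdef
    have hrD : ∀ s : F, E + s • E' ∈ D l := fun s => (D l).add_mem hE ((D l).smul_mem _ hE')
    let bad : F → Fin 4 → Prop := fun s i => Q (pre (ix i) _ (hrD s)) = 0
    have hq : ∀ s : F, Q (E + s • E') = s := fun s => by
      rw [apply_add, apply_smul, polar_smul_right', hqE, hqE', hEE']; ring
    have htwo : ∀ i, (S.filter fun s => bad s i).card ≤ 2 := by
      intro i
      by_contra! hlt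
      obtain ⟨s₁, s₂, s₃, h1, h2, h3, e12, e13, e23⟩ := Finset.two_lt_card_iff.1 hlt
      simp only [Finset.mem_filter, bad] at h1 h2 h3
      obtain ⟨e, he, he0, hqe⟩ := hsing (ix i)
      obtain ⟨e', he', hqe', hee'⟩ := exists_hyp h he he0 hqe
      have img : ∀ (s : F) (w : V), pre (ix i) _ (hrD s) ∈ Submodule.span F {w} →
          E + s • E' ∈ Submodule.span F {comp h l ((g : V ≃ₗ[F] V) w)} := by
        intro s w hm
        obtain ⟨c, hc⟩ := Submodule.mem_span_singleton.1 hm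
        refine Submodule.mem_span_singleton.2 ⟨c, ?_⟩
        rw [← map_smul, ← map_smul, hc, hpre]
      have same : ∀ (s s' : F) (w : V), s ≠ s' → pre (ix i) _ (hrD s) ∈ Submodule.span F {w} →
          pre (ix i) _ (hrD s') ∈ Submodule.span F {w} → False := by
        intro s s' w hne hs hs'
        obtain ⟨c, hc⟩ := Submodule.mem_span_singleton.1 (img s w hs)
        obtain ⟨c', hc'⟩ := Submodule.mem_span_singleton.1 (img s' w hs')
        have e1 := congrArg (polar Q E') hc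
        have e2 := congrArg (polar Q E') hc'
        have e3 := congrArg (polar Q E) hc
        have e4 := congrArg (polar Q E) hc'
        simp only [polar_smul_right', polar_add_right', polar_self', hqE, hqE', hEE',
          QuadraticMap.polar_comm _ E' E] at e1 e2 e3 e4
        refine hne ?_
        linear_combination c * polar Q E' (comp h l ((g : V ≃ₗ[F] V) w)) * e4 -
          c' * polar Q E' (comp h l ((g : V ≃ₗ[F] V) w)) * e3 - s * e2 + s' * e1
      have cl : ∀ s : F, Q (pre (ix i) _ (hrD s)) = 0 → pre (ix i) _ (hrD s) ∈ Submodule.span F {e} ∨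
          pre (ix i) _ (hrD s) ∈ Submodule.span F {e'} := fun s h0 =>
        singular_lines h he he' (hpreD _ _ (hrD s)) hqe hqe' h0 hee'
      rcases cl _ h1.2 with a1 | a1 <;> rcases cl _ h2.2 with a2 | a2 <;> rcases cl _ h3.2 with a3 | a3
      all_goals first
        | exact same _ _ _ e12 a1 a2
        | exact same _ _ _ e13 a1 a3
        | exact same _ _ _ e23 a2 a3
    obtain ⟨s, hsS, hs⟩ : ∃ s ∈ S, (Finset.univ.filter fun i => bad s i).card ≤ 1 := by
      by_contra! hc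
      have h1 : ∑ s ∈ S, (Finset.univ.filter fun i => bad s i).card = ∑ i, (S.filter fun s => bad s i).card := by
        simp only [Finset.card_filter]
        exact Finset.sum_comm
      have h2 : 2 * S.card ≤ ∑ s ∈ S, (Finset.univ.filter fun i => bad s i).card := by
        have := Finset.card_nsmul_le_sum S (fun s => (Finset.univ.filter fun i => bad s i).card) 2 fun s hs => hc s hs
        rw [smul_eq_mul] at this
        omega
      have h3 : ∑ i, (S.filter fun s => bad s i).card ≤ 4 * 2 := by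
        have := Finset.sum_le_card_nsmul Finset.univ (fun i => (S.filter fun s => bad s i).card) 2 fun i _ => htwo i
        rw [Finset.card_univ, Fintype.card_fin, smul_eq_mul] at this
        exact this
      have hS4 : S.card = Fintype.card F - 1 := by simp [hSdef]
      rw [Nat.card_eq_fintype_card] at h7'
      omega
    obtain ⟨i₁, i₂, i₃, g1, g2, g3, e12, e13, e23⟩ :
        ∃ i₁ i₂ i₃, ¬ bad s i₁ ∧ ¬ bad s i₂ ∧ ¬ bad s i₃ ∧ i₁ ≠ i₂ ∧ i₁ ≠ i₃ ∧ i₂ ≠ i₃ := by
      have hc : 2 < (Finset.univ.filter fun i => ¬ bad s i).card := by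
        have := Finset.card_filter_add_card_filter_not (s := (Finset.univ : Finset (Fin 4))) (fun i => bad s i)
        rw [Finset.card_univ, Fintype.card_fin] at this
        omega
      obtain ⟨i₁, i₂, i₃, g1, g2, g3, e⟩ := Finset.two_lt_card_iff.1 hc
      exact ⟨i₁, i₂, i₃, (Finset.mem_filter.1 g1).2, (Finset.mem_filter.1 g2).2, (Finset.mem_filter.1 g3).2, e⟩
    exact ⟨_, hrD s, by rw [hq]; exact Finset.ne_of_mem_erase hsS, i₁, i₂, i₃, e12, e13, e23, g1, g2, g3⟩
  obtain ⟨v, hv, hv0, hrv⟩ := exists_perp_line h l hr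
  have hqv := perp_ne_of_ne h hr hqr hv hv0 hrv
  have pair : ∀ i i' : Fin 4, i ≠ i' → Q (pre (ix i) r hr) ≠ 0 → Q (pre (ix i') r hr) ≠ 0 →
      IsSquare (Q (pre (ix i) r hr) * Q (pre (ix i') r hr)) → False := by
    intro i i' hne hi hi' hsq
    have hperp : ∀ j, polar Q ((g : V ≃ₗ[F] V) (pre j r hr)) v = 0 := fun j => by
      rw [polar_comp' h hv, hpre, hrv]
    refine useful (hpreD _ r hr) (hpreD _ r hr) hi hsq hi' hv hqv (hperp _) (hperp _) (fun hm => hi ?_)
      (hfull _ (hall _) _ (hpreD _ r hr) fun e => hi (by rw [e, QuadraticMap.map_zero]))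
    rw [eq_of_mem_both h (hix hne) (hpreD _ r hr)
      ((Submodule.span_le.2 (by simpa using hpreD (ix i') r hr)) hm), QuadraticMap.map_zero]
  by_cases h2 : (2 : F) = 0
  · have := charP_two_of_eq_zero h2
    exact pair i₁ i₂ h12 g1 g2 (isSquare_of_charTwo' _)
  by_cases s12 : IsSquare (Q (pre (ix i₁) r hr) * Q (pre (ix i₂) r hr))
  · exact pair i₁ i₂ h12 g1 g2 s12
  by_cases s13 : IsSquare (Q (pre (ix i₁) r hr) * Q (pre (ix i₃) r hr))
  · exact pair i₁ i₃ h13 g1 g3 s13
  refine pair i₂ i₃ h23 g2 g3 ?_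
  obtain ⟨c, hc⟩ := isSquare_mul_nonsq' h2 s12 s13
  exact ⟨c / Q (pre (ix i₁) r hr), by field_simp; linear_combination hc⟩

omit hM hgK in
/-- Some element of `Ω` moves the decomposition. -/
theorem exists_not_permutes : ∃ g ∈ eichGroup h.nondeg, ¬ Permutes D g := by
  classical
  have h7 := h.five_le
  let ix : Fin 3 → Fin t := fun k => ⟨k, by omega⟩
  have hix : ∀ {a b : Fin 3}, a ≠ b → ix a ≠ ix b := fun hab e => hab (Fin.ext (Fin.mk.inj_iff.1 e))
  obtain ⟨x, hx, hqx⟩ := exists_value h (ix 0) (one_ne_zero : (1 : F) ≠ 0)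
  obtain ⟨y, hy, hqy⟩ := exists_value h (ix 1) (neg_ne_zero.2 (one_ne_zero : (1 : F) ≠ 0))
  obtain ⟨z, hz, hqz⟩ := exists_value h (ix 2) (one_ne_zero : (1 : F) ≠ 0)
  have hqw : Q (x + y) = 0 := by rw [apply_add, hqx, hqy, h.orth _ _ (hix (by decide)) x hx y hy]; ring
  have hwz : polar Q (x + y) z = 0 := by
    rw [polar_add_left', h.orth _ _ (hix (by decide)) x hx z hz, h.orth _ _ (hix (by decide)) y hy z hz, add_zero]
  refine ⟨eich h.nondeg hqw hwz, eich_mem h.nondeg h.five _ _, fun hp => ?_⟩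
  have hx0 : x ≠ 0 := fun e => by rw [e, QuadraticMap.map_zero] at hqx; exact zero_ne_one hqx
  obtain ⟨u, hu, hxu⟩ := (h.nd _).exists_polar_one hx hx0
  obtain ⟨q, hq⟩ := hp (ix 0)
  have h1 := hq u hu
  rw [eich_apply, h.orth _ _ (hix (by decide)) u hu z hz, polar_add_right', h.orth _ _ (hix (by decide)) u hu y hy,
    QuadraticMap.polar_comm _ u x, hxu, hqz, add_zero] at h1
  have hne : q ≠ ix 1 ∨ q ≠ ix 2 := by
    by_contra! hc
    exact hix (by decide : (1 : Fin 3) ≠ 2) (hc.1.symm.trans hc.2)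
  rcases hne with hq1 | hq2
  · have h2 := comp_of_ne h (Ne.symm hq1) h1
    rw [map_add, map_add, map_smul, map_smul, map_add, comp_of_ne h (hix (by decide)) hu,
      comp_of_ne h (hix (by decide)) hx, comp_of_mem h hy, comp_of_ne h (hix (by decide)) hz] at h2
    simp only [zero_sub, zero_add, smul_zero, add_zero, mul_one, neg_smul, one_smul, neg_eq_zero] at h2
    rw [h2, QuadraticMap.map_zero] at hqy
    exact neg_ne_zero.2 one_ne_zero hqy.symm
  · have h2 := comp_of_ne h (Ne.symm hq2) h1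
    rw [map_add, map_add, map_smul, map_smul, map_add, comp_of_ne h (hix (by decide)) hu,
      comp_of_ne h (hix (by decide)) hx, comp_of_ne h (hix (by decide)) hy, comp_of_mem h hz] at h2
    simp only [zero_sub, zero_add, smul_zero, add_zero, neg_smul, one_smul, neg_eq_zero] at h2
    rw [h2, QuadraticMap.map_zero] at hqz
    exact zero_ne_one hqz

end CfsgLib.Geo.OrthPlane

namespace CfsgLib.Geo.OrthPlane

open CfsgLib.Classical CfsgLib.Classical.Quad CfsgLib.Geo.OrthMax CfsgLib.Geo.OrthBlock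
open QuadraticMap (polar polarBilin)

variable {F : Type*} [Field F] [Finite F] {ι : Type} [Fintype ι] [DecidableEq ι]

/-- Maximality in `Ω`, matrix form. -/
theorem isMaximalIn_omega_of_nine {Q : QuadraticForm F (ι → F)} (hQ : (polarBilin Q).Nondegenerate)
    (hn : 9 ≤ Fintype.card ι) {t : ℕ} {D : Fin t → Submodule F (ι → F)}
    (hD : Cfsg.Geo.IsOrthogonalMDecomposition (⇑Q) 2 D) (h3 : Nat.card F ≠ 3)
    (hplus : (∀ i, Cfsg.Geo.IsPlusTypeOn (⇑Q) (D i)) → 7 ≤ Nat.card F) :
    Cfsg.Geo.IsMaximalIn (Cfsg.Geo.omegaGL (⇑Q))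
      (Cfsg.Geo.decompositionStabilizer D ⊓ Cfsg.Geo.omegaGL (⇑Q)) := by
  have hrk := hD.decomp.decomp.finrank_eq
  have hn' : 5 ≤ Module.finrank F (ι → F) := by rw [Module.finrank_fintype_fun_eq_card]; omega
  have hfive : 5 ≤ t := by
    obtain ⟨b, -⟩ := CfsgLib.Geo.exists_adapted_basis hD.decomp.decomp
    have hcard := Module.finrank_eq_card_basis b
    rw [Module.finrank_fintype_fun_eq_card, Fintype.card_prod, Fintype.card_fin, Fintype.card_fin] at hcard
    omega
  have htype : (∀ i, ∀ v ∈ D i, Q v = 0 → v = 0) ∧ Nat.card F ≠ 3 ∨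
      (∀ i, ∃ v ∈ D i, v ≠ 0 ∧ Q v = 0) ∧ 7 ≤ Nat.card F := by
    by_cases hs : ∃ i, ∃ v ∈ D i, v ≠ 0 ∧ Q v = 0
    · obtain ⟨i, v, hv, hv0, hqv⟩ := hs
      have hall : ∀ j, ∃ w ∈ D j, w ≠ 0 ∧ Q w = 0 := fun j => by
        obtain ⟨e, he⟩ := hD.isometric i j
        refine ⟨e ⟨v, hv⟩, Subtype.coe_prop _, fun e0 => hv0 ?_, (he ⟨v, hv⟩).trans hqv⟩
        exact congrArg Subtype.val ((LinearEquiv.map_eq_zero_iff e).1 (Subtype.ext e0))
      refine Or.inr ⟨hall, hplus fun j => ?_⟩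
      obtain ⟨w, hw, hw0, hqw⟩ := hall j
      refine ⟨Submodule.span F {w}, Submodule.span_le.2 (by simp [hw]), fun y hy => ?_,
        by rw [finrank_span_singleton hw0, hrk]⟩
      obtain ⟨c, rfl⟩ := Submodule.mem_span_singleton.1 hy
      rw [apply_smul, hqw, mul_zero]
    · push Not at hs
      exact Or.inl ⟨fun i v hv hqv => by
        by_contra h0
        exact hs i v hv h0 hqv, h3⟩
  have h : IsPlanes Q D :=
    { nondeg := hQ
      nd := fun i x hx hperp => by
        by_contra h0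
        obtain ⟨y, hy, hxy⟩ := (hD.decomp.nondegenerate i x hx h0).2
        exact hxy (hperp y hy)
      orth := hD.decomp.orthogonal
      rank := hrk
      span := hD.decomp.decomp.iSup_eq_top
      iso := hD.isometric
      five_le := hfive
      five := hn'
      type := htype }
  let e := oEquiv Q
  have hΩ : ∀ g : Cfsg.isometryGroup F (⇑Q),
      (g : Matrix.GeneralLinearGroup ι F) ∈ Cfsg.Geo.omegaGL (⇑Q) ↔ e g ∈ eichGroup hQ := by
    intro g
    have hmap : (commutator ↥(Cfsg.isometryGroup F (⇑Q))).map e.toMonoidHom = commutator (OQ Q) := by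
      rw [commutator_def, commutator_def, Subgroup.map_commutator,
        Subgroup.map_top_of_surjective _ e.surjective]
    rw [eichGroup_eq_commutator hQ hn', ← hmap, Subgroup.mem_map_equiv, MulEquiv.symm_apply_apply]
    exact ⟨fun ⟨g', hg', hgg⟩ => by rw [← Subtype.ext hgg]; exact hg', fun h => ⟨g, h, rfl⟩⟩
  have hmem : ∀ x, x ∈ Cfsg.Geo.omegaGL (⇑Q) → x ∈ Cfsg.isometryGroup F (⇑Q) := by
    rintro _ ⟨g, -, rfl⟩
    exact g.2
  refine ⟨lt_of_le_of_ne inf_le_right fun he => ?_, fun M hM hMS => ?_⟩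
  · obtain ⟨x, hx, hnp⟩ := exists_not_permutes h
    obtain ⟨g, rfl⟩ := e.surjective x
    exact hnp ((mem_decomp_iff hD.decomp.decomp g).1 (he.ge ((hΩ g).2 hx)).1)
  refine (eq_or_lt_of_le hM).imp Eq.symm fun hlt => le_antisymm hMS ?_
  obtain ⟨g₀, hgM, hgn⟩ := SetLike.exists_of_lt hlt
  set K := (M.subgroupOf (Cfsg.isometryGroup F (⇑Q))).map e.toMonoidHom
  have hmK : ∀ g : Cfsg.isometryGroup F (⇑Q), e g ∈ K ↔ (g : Matrix.GeneralLinearGroup ι F) ∈ M :=
    fun g => by
      rw [Subgroup.mem_map_equiv, MulEquiv.symm_apply_apply, Subgroup.mem_subgroupOf]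
  have hK : ∀ x ∈ eichGroup h.nondeg, Permutes D x → x ∈ K := by
    intro x hx hp
    obtain ⟨g, rfl⟩ := e.surjective x
    exact (hmK g).2 (hM ⟨(mem_decomp_iff hD.decomp.decomp g).2 hp, (hΩ g).2 hx⟩)
  set g : Cfsg.isometryGroup F (⇑Q) := ⟨g₀, hmem _ (hMS hgM)⟩
  have htop := le_of_not_permutes h hK (g := e g) ((hmK g).2 hgM)
    fun hp => hgn ⟨(mem_decomp_iff hD.decomp.decomp g).2 hp, hMS hgM⟩
  intro x hx
  exact (hmK ⟨x, hmem x hx⟩).1 (htop ((hΩ ⟨x, _⟩).1 hx))

/-- The same in dimension at least thirteen. -/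
theorem isMaximalIn_omega {Q : QuadraticForm F (ι → F)} (hQ : (polarBilin Q).Nondegenerate)
    (hn : 13 ≤ Fintype.card ι) {t : ℕ} {D : Fin t → Submodule F (ι → F)}
    (hD : Cfsg.Geo.IsOrthogonalMDecomposition (⇑Q) 2 D) (h3 : Nat.card F ≠ 3)
    (hplus : (∀ i, Cfsg.Geo.IsPlusTypeOn (⇑Q) (D i)) → 7 ≤ Nat.card F) :
    Cfsg.Geo.IsMaximalIn (Cfsg.Geo.omegaGL (⇑Q))
      (Cfsg.Geo.decompositionStabilizer D ⊓ Cfsg.Geo.omegaGL (⇑Q)) :=
  isMaximalIn_omega_of_nine hQ (by omega) hD h3 hplus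

end CfsgLib.Geo.OrthPlane
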