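/-
Wrappers for subgroups of orthogonal groups of dimensions nine to twelve: subspaces, halves, planes.
-/
import Cfsg.Prelude.Def_GeometricClasses
import Cfsg.Agent.Lib.Geo.OrthSingular
import Cfsg.Agent.Lib.Geo.OrthNondeg
import Cfsg.Agent.Lib.Geo.OrthVector
import Cfsg.Agent.Lib.Classical.Quad.NegOne
import Cfsg.Agent.Lib.Geo.DecompCoords

set_option autoImplicit false

namespace CfsgLib.Geo.OrthTypes

open CfsgLib.Classical CfsgLib.Classical.Quad CfsgLib.Geo.OrthMax
open QuadraticMap (polar polarBilin)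

variable {F : Type*} [Field F] {ι : Type} [Fintype ι] [DecidableEq ι] {Q' : QuadraticForm F (ι → F)}

omit [Fintype ι] [DecidableEq ι] in
theorem nondeg_of {W : Submodule F (ι → F)} (hW : Cfsg.Geo.IsNondegenerateOn (polar ⇑Q') W) : Nondeg Q' W :=
  fun x hx hy => by
    by_contra h0
    obtain ⟨-, y, hy', hne⟩ := hW x hx h0
    exact hne (hy y hy')

variable [Finite F]

/-- Stabilisers of non-degenerate subspaces, unequal dimensions. -/
theorem isMaximalIn_sub (hQ' : (polarBilin Q').Nondegenerate) (hn : 9 ≤ Fintype.card ι) {W : Submodule F (ι → F)}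
    (h0 : W ≠ ⊥) (hW : Cfsg.Geo.IsNondegenerateOn (polar ⇑Q') W)
    (hlt : Module.finrank F W < Fintype.card ι) (hhalf : 2 * Module.finrank F W ≠ Fintype.card ι)
    (hperp : Module.finrank F W + 2 ≠ Fintype.card ι)
    (hex : Module.finrank F W = 2 → Cfsg.Geo.IsPlusTypeOn (⇑Q') W → 4 ≤ Nat.card F) :
    Cfsg.Geo.IsMaximalIn (Cfsg.Geo.omegaGL ⇑Q') (Cfsg.Geo.subspaceStabilizer W ⊓ Cfsg.Geo.omegaGL ⇑Q') := by
  have hn' : Module.finrank F (ι → F) = Fintype.card ι := Module.finrank_pi F
  have hU := finrank_perp hQ' W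
  refine isMaximalIn_nondeg hQ' hn (nondeg_of hW) h0 (fun e => ?_)
    (fun h ⟨u, hu, hu0, hqu⟩ => hex h ⟨Submodule.span F {u}, by simpa using hu, ?_, ?_⟩)
    (fun h _ => by omega) (fun h => absurd h hhalf)
  · rw [e, finrank_top, hn'] at hlt
    omega
  · intro x hx
    obtain ⟨c, rfl⟩ := Submodule.mem_span_singleton.1 hx
    rw [Quad.apply_smul, hqu, mul_zero]
  · rw [finrank_span_singleton hu0, h]

/-- Stabilisers of totally singular subspaces. -/
theorem isMaximalIn_singular (hQ' : (polarBilin Q').Nondegenerate) (hn : 5 ≤ Fintype.card ι) {W : Submodule F (ι → F)}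
    (h0 : W ≠ ⊥) (hW : Cfsg.Geo.IsTotallySingularQuad (⇑Q') W)
    (hex : 2 * (Module.finrank F W + 1) = Fintype.card ι → ¬ Cfsg.Geo.IsPlusTypeOn (⇑Q') ⊤) :
    Cfsg.Geo.IsMaximalIn (Cfsg.Geo.omegaGL ⇑Q') (Cfsg.Geo.subspaceStabilizer W ⊓ Cfsg.Geo.omegaGL ⇑Q') := by
  have hn' : Module.finrank F (ι → F) = Fintype.card ι := Module.finrank_pi F
  exact isMaximalIn_omega hQ' (by omega) W (stab_singular_ne hQ' (by omega) h0 hW) fun K hK hKE =>
    le_of_stab_singular_lt hQ' (by omega) hW
      (fun h U hU hf => hex (by omega) ⟨U, le_top, hU, by rw [finrank_top]; exact hf⟩) hK hKE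

/-- Stabilisers of non-singular points in even characteristic. -/
theorem isMaximalIn_vector [Fintype F] (hQ' : (polarBilin Q').Nondegenerate) (hn : 8 ≤ Fintype.card ι)
    (hq : ¬ Odd (Fintype.card F)) {v : ι → F} (hv : Q' v ≠ 0) :
    Cfsg.Geo.IsMaximalIn (Cfsg.Geo.omegaGL ⇑Q')
      (Cfsg.Geo.subspaceStabilizer (Submodule.span F {v}) ⊓ Cfsg.Geo.omegaGL ⇑Q') := by
  have hn' : Module.finrank F (ι → F) = Fintype.card ι := Module.finrank_pi F
  have h2 : (2 : F) = 0 := by
    by_contra h2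
    refine hq (Nat.odd_iff.2 (FiniteField.odd_card_of_char_ne_two ?_))
    intro hc
    have := ringChar.eq_iff.1 hc
    exact h2 CharTwo.two_eq_zero
  exact isMaximalIn_omega hQ' (by omega) _ (stab_vector_ne hQ' (by omega) hv) fun K hK hKE =>
    le_of_stab_vector_lt hQ' (by omega) h2 hv hK hKE

/-- Decompositions into two non-isometric halves of odd dimension. -/
theorem isMaximalIn_halves (hQ' : (polarBilin Q').Nondegenerate) (hn : 9 ≤ Fintype.card ι) {k : ℕ}
    (hk : 2 * k = Fintype.card ι) {D : Fin 2 → Submodule F (ι → F)}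
    (hD : Cfsg.Geo.IsNondegenerateMDecomposition (polar ⇑Q') k D)
    (hni : ¬ Cfsg.Geo.AreIsometricFor (⇑Q') (D 0) (D 1)) :
    Cfsg.Geo.IsMaximalIn (Cfsg.Geo.omegaGL ⇑Q') (Cfsg.Geo.decompositionStabilizer D ⊓ Cfsg.Geo.omegaGL ⇑Q') := by
  have hn' : Module.finrank F (ι → F) = Fintype.card ι := Module.finrank_pi F
  have hnd : CfsgLib.Geo.OrthMax.Nondeg Q' (D 0) := fun x hx hy => by
    by_contra h0
    obtain ⟨-, y, hy', hne⟩ := hD.nondegenerate 0 x hx h0
    exact hne (hy y hy')
  have hd := hD.decomp.finrank_eq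
  have hperp : CfsgLib.Geo.OrthMax.perp Q' (D 0) = D 1 := by
    refine (Submodule.eq_of_le_of_finrank_le (fun x hx => CfsgLib.Geo.OrthMax.mem_perp.2 fun w hw => ?_) ?_).symm
    · exact hD.orthogonal 0 1 (by decide) w hw x hx
    · rw [CfsgLib.Geo.OrthMax.finrank_perp hQ', hd, hd, hn']; omega
  have h0 : D 0 ≠ ⊥ := fun h => by
    have := hd 0
    rw [h, finrank_bot] at this
    omega
  have h1 : D 0 ≠ ⊤ := fun h => by
    have := hd 0
    rw [h, finrank_top, hn'] at this
    omega
  have key : Cfsg.Geo.decompositionStabilizer D ⊓ Cfsg.Geo.omegaGL (⇑Q') =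
      Cfsg.Geo.subspaceStabilizer (D 0) ⊓ Cfsg.Geo.omegaGL (⇑Q') := by
    ext g
    constructor
    · rintro ⟨⟨σ, hσ⟩, hg⟩
      refine ⟨?_, hg⟩
      obtain ⟨g', -, rfl⟩ := id hg
      have hinj : Function.Injective (Matrix.toLin' ((g' : Matrix.GeneralLinearGroup ι F) :
          Matrix ι ι F)) := fun a b hab => by
        have := congrArg (((g' : Matrix.GeneralLinearGroup ι F)⁻¹ : Matrix.GeneralLinearGroup ι F) :
          Matrix ι ι F).mulVec hab
        simpa [Matrix.mulVec_mulVec] using this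
      have hfix : σ 0 = 0 := by
        by_contra hne
        have h01 : σ 0 = 1 := by omega
        refine hni ⟨(Submodule.equivMapOfInjective _ hinj (D 0)).trans (LinearEquiv.ofEq _ _ ((hσ 0).trans (by rw [h01]))),
          fun w => ?_⟩
        show Q' (Matrix.toLin' _ (w : ι → F)) = _
        rw [Matrix.toLin'_apply]
        exact g'.2 (w : ι → F) (w : ι → F)
      intro v
      constructor
      · intro hv
        exact (hσ 0).trans (by rw [hfix]) ▸ Submodule.mem_map_of_mem (f := Matrix.toLin' _) hv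
      · intro hv
        obtain ⟨w, hw, hwv⟩ := ((hσ 0).trans (congrArg D hfix)).ge hv
        exact hinj (a₁ := w) (a₂ := v) (hwv.trans (Matrix.toLin'_apply _ _).symm) ▸ hw
    · rintro ⟨hs, hg⟩
      refine ⟨⟨1, fun i => ?_⟩, hg⟩
      obtain ⟨g', -, rfl⟩ := id hg
      have hmap0 : ∀ v ∈ D 0, ((g' : Matrix.GeneralLinearGroup ι F) : Matrix ι ι F).mulVec v ∈ D 0 :=
        fun v hv => (hs v).1 hv
      have hpol : ∀ a b : ι → F, QuadraticMap.polar ⇑Q'
          (((g' : Matrix.GeneralLinearGroup ι F) : Matrix ι ι F).mulVec a)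
          (((g' : Matrix.GeneralLinearGroup ι F) : Matrix ι ι F).mulVec b) =
          QuadraticMap.polar ⇑Q' a b := fun a b => by
        have hQg : ∀ v : ι → F, Q' (((g' : Matrix.GeneralLinearGroup ι F) : Matrix ι ι F).mulVec v) = Q' v :=
          fun v => g'.2 v v
        simp only [QuadraticMap.polar, ← Matrix.mulVec_add, hQg]
      have hinv : ∀ a, ∃ b, ((g' : Matrix.GeneralLinearGroup ι F) : Matrix ι ι F).mulVec b = a :=
        fun a => ⟨(((g' : Matrix.GeneralLinearGroup ι F)⁻¹ : Matrix.GeneralLinearGroup ι F) :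
          Matrix ι ι F).mulVec a, by simp [Matrix.mulVec_mulVec]⟩
      have hmap1 : ∀ v ∈ D 1, ((g' : Matrix.GeneralLinearGroup ι F) : Matrix ι ι F).mulVec v ∈ D 1 := by
        intro v hv
        rw [← hperp] at hv ⊢
        refine CfsgLib.Geo.OrthMax.mem_perp.2 fun w hw => ?_
        obtain ⟨b, rfl⟩ := hinv w
        rw [hpol]
        exact CfsgLib.Geo.OrthMax.mem_perp.1 hv b ((hs b).2 hw)
      have hle : (D i).map (Matrix.toLin' ((g' : Matrix.GeneralLinearGroup ι F) :
          Matrix ι ι F)) ≤ D i := by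
        rintro _ ⟨v, hv, rfl⟩
        rw [Matrix.toLin'_apply]
        fin_cases i
        · exact hmap0 v hv
        · exact hmap1 v hv
      rw [Equiv.Perm.one_apply]
      refine Submodule.eq_of_le_of_finrank_eq hle (Submodule.equivMapOfInjective _ ?_ (D i)).finrank_eq.symm
      intro a b hab
      have := congrArg (((g' : Matrix.GeneralLinearGroup ι F)⁻¹ : Matrix.GeneralLinearGroup ι F) :
          Matrix ι ι F).mulVec hab
      simpa [Matrix.mulVec_mulVec] using this
  rw [key]
  refine CfsgLib.Geo.OrthMax.isMaximalIn_nondeg hQ' hn hnd h0 h1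
    (fun h _ => by rw [hd] at h; omega) (fun h _ => by rw [hperp, hd] at h; omega) (fun _ g hg => hni ?_)
  rw [hperp] at hg
  let e : (D 1) ≃ₗ[F] (D 0) :=
    (Submodule.equivMapOfInjective _ (g : (ι → F) ≃ₗ[F] (ι → F)).injective (D 1)).trans
      (LinearEquiv.ofEq _ _ hg)
  refine ⟨e.symm, fun w => ?_⟩
  obtain ⟨v, rfl⟩ := e.surjective w
  rw [LinearEquiv.symm_apply_apply]
  exact (CfsgLib.Classical.Quad.mem_OQ.1 g.2 (v : ι → F)).symm

omit [Finite F] in
/-- An orthogonal sum of plus planes is of plus type. -/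
theorem plus_top_of_planes {t : ℕ} {D : Fin t → Submodule F (ι → F)}
    (hD : Cfsg.Geo.IsOrthogonalMDecomposition (⇑Q') 2 D) (hp : ∀ i, Cfsg.Geo.IsPlusTypeOn (⇑Q') (D i)) :
    Cfsg.Geo.IsPlusTypeOn (⇑Q') ⊤ := by
  classical
  choose U hUle hU hUd using hp
  have hrk := hD.decomp.decomp.finrank_eq
  have hts : ∀ x ∈ iSup U, Q' x = 0 ∧ ∀ i, ∀ u ∈ U i, polar Q' x u = 0 := by
    have hpair : ∀ i j, ∀ u ∈ U i, ∀ v ∈ U j, polar Q' u v = 0 := by
      intro i j u hu v hv
      rcases eq_or_ne i j with rfl | hij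
      · rw [polar, hU i _ ((U i).add_mem hu hv), hU i u hu, hU i v hv]; ring
      · exact hD.decomp.orthogonal i j hij u (hUle i hu) v (hUle j hv)
    intro x hx
    induction hx using Submodule.iSup_induction' with
    | mem i x hx => exact ⟨hU i x hx, fun j u hu => hpair i j x hx u hu⟩
    | zero => exact ⟨QuadraticMap.map_zero _, fun i u _ => QuadraticMap.polar_zero_left _ _⟩
    | add x y hx hy hx' hy' =>
      refine ⟨?_, fun i u hu => by rw [polar_add_left', hx'.2 i u hu, hy'.2 i u hu, add_zero]⟩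
      have hxy : polar Q' x y = 0 := by
        have hle : iSup U ≤ perp Q' (Submodule.span F {x}) := iSup_le fun i u hu => mem_perp.2 fun w hw => by
          obtain ⟨c, rfl⟩ := Submodule.mem_span_singleton.1 hw
          rw [polar_smul_left', hx'.2 i u hu, mul_zero]
        exact hle hy x (Submodule.mem_span_singleton_self x)
      rw [Quad.apply_add, hx'.1, hy'.1, hxy]
      ring
  have hind : iSupIndep U := hD.decomp.decomp.indep.mono fun i => hUle i
  refine ⟨iSup U, le_top, fun x hx => (hts x hx).1, ?_⟩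
  have hU1 : ∀ i, Module.finrank F (U i) = 1 := fun i => by
    have := hUd i
    rw [hrk i] at this
    omega
  have hex : ∀ i, ∃ w ∈ U i, w ≠ 0 ∧ Submodule.span F {w} = U i := fun i => by
    obtain ⟨w, hw, hw0⟩ := Submodule.exists_mem_ne_zero_of_ne_bot
      (show U i ≠ ⊥ from fun e => by have := hU1 i; rw [e, finrank_bot] at this; exact zero_ne_one this)
    exact ⟨w, hw, hw0, Submodule.eq_of_le_of_finrank_eq (Submodule.span_le.2 (by simpa using hw))
      (by rw [finrank_span_singleton hw0, hU1])⟩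
  choose w hw hw0 hws using hex
  have hli : LinearIndependent F w := hind.linearIndependent U hw hw0
  have h1 : Module.finrank F (iSup U : Submodule F (ι → F)) = t := by
    have e : (iSup U : Submodule F (ι → F)) = Submodule.span F (Set.range w) := by
      rw [Submodule.span_range_eq_iSup]
      exact iSup_congr fun i => (hws i).symm
    rw [e, finrank_span_eq_card hli, Fintype.card_fin]
  obtain ⟨b, -⟩ := CfsgLib.Geo.exists_adapted_basis hD.decomp.decomp
  have hcard := Module.finrank_eq_card_basis b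
  rw [Fintype.card_prod, Fintype.card_fin, Fintype.card_fin] at hcard
  rw [h1, finrank_top, hcard, mul_comm]

end CfsgLib.Geo.OrthTypes
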