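/-
`Sp₂(2) ⊗ Sp_n(2)` normalises a structure of vector space over the field with four elements.
-/
import Cfsg.Agent.Lib.Geo.OrthTensorThree

set_option autoImplicit false

namespace CfsgLib.Geo.OrthMax

open CfsgLib.Classical CfsgLib.Classical.Quad
open QuadraticMap (polar polarBilin)
open Matrix

/-- The elements conjugating `t` to itself or to its inverse. -/
def pairStab {G : Type*} [Group G] (t : G) : Subgroup G where
  carrier := {g | g * t * g⁻¹ = t ∨ g * t * g⁻¹ = t⁻¹}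
  one_mem' := Or.inl (by simp)
  mul_mem' {a b} ha hb := by
    have hinv : (a * t * a⁻¹)⁻¹ = a * t⁻¹ * a⁻¹ := by group
    have key : a * b * t * (a * b)⁻¹ = a * (b * t * b⁻¹) * a⁻¹ := by group
    show a * b * t * (a * b)⁻¹ = t ∨ a * b * t * (a * b)⁻¹ = t⁻¹
    rw [key]
    rcases hb with hb | hb <;> rw [hb]
    · exact ha
    · rcases ha with ha | ha
      · exact Or.inr (by rw [← hinv, ha])
      · exact Or.inl (by rw [← hinv, ha, inv_inv])
  inv_mem' {a} ha := by
    show a⁻¹ * t * a⁻¹⁻¹ = t ∨ a⁻¹ * t * a⁻¹⁻¹ = t⁻¹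
    rcases ha with ha | ha
    · refine Or.inl ?_
      conv_lhs => rw [← ha]
      group
    · refine Or.inr ?_
      have h1 : a * t⁻¹ * a⁻¹ = t := by
        rw [show a * t⁻¹ * a⁻¹ = (a * t * a⁻¹)⁻¹ by group, ha, inv_inv]
      conv_lhs => rw [← h1]
      group

variable {F : Type*} [Field F] [Finite F] {ι : Type} [Fintype ι] [DecidableEq ι]

theorem exists_between_tensor_two {Q : QuadraticForm F (ι → F)} (hQ : (polarBilin Q).Nondegenerate)
    (hn : 13 ≤ Fintype.card ι) (hF : ∀ a : F, a = 0 ∨ a = 1) (h2 : (2 : F) = 0)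
    {n₂ : ℕ} (hn₂ : 3 ≤ n₂) (e : ι ≃ Fin 2 × Fin n₂) (P : Matrix.GeneralLinearGroup ι F)
    {f₁ : (Fin 2 → F) → (Fin 2 → F) → F} {f₂ : (Fin n₂ → F) → (Fin n₂ → F) → F}
    (hf₁ : Cfsg.Geo.IsSymplecticForm f₁) (hf₂ : Cfsg.Geo.IsSymplecticForm f₂)
    (hT : Cfsg.Geo.IsTensorFormStructure id (polar ⇑Q) f₁ f₂ e P)
    (hpure : ∀ x y, Q (pureTensor e P x y) = 0) :
    ∃ K : Subgroup (Matrix.GeneralLinearGroup ι F),
      Cfsg.Geo.tensorProductSubgroup 2 n₂ e P ⊓ Cfsg.Geo.omegaGL (⇑Q) < K ∧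
        K < Cfsg.Geo.omegaGL (⇑Q) := by
  obtain ⟨c, hc, hT⟩ := hT
  obtain rfl : c = 1 := (hF c).resolve_left hc
  have hn5 : 5 ≤ Module.finrank F (ι → F) := by rw [Module.finrank_pi]; omega
  let B₂ : LinearMap.BilinForm F (Fin n₂ → F) :=
    LinearMap.mk₂ F f₂ hf₂.bilinear.add_left hf₂.bilinear.smul_left hf₂.bilinear.add_right
      hf₂.bilinear.smul_right
  have hsymm : ∀ a b, f₂ a b = f₂ b a := fun a b => by
    linear_combination hf₂.skew a b - f₂ b a * h2
  let e₀ : Fin 2 → F := Pi.single 0 1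
  let e₁ : Fin 2 → F := Pi.single 1 1
  have h00 : f₁ e₀ e₀ = 0 := hf₁.alternating _
  have h11 : f₁ e₁ e₁ = 0 := hf₁.alternating _
  have h01 : f₁ e₀ e₁ = 1 := by
    refine (hF _).resolve_left fun h => ?_
    obtain ⟨x, hx⟩ := (hf₁.nondegenerate e₀ (fun h0 => by simpa [e₀] using congrFun h0 0)).2
    refine hx ?_
    have e : x = x 0 • e₀ + x 1 • e₁ := by funext i; fin_cases i <;> simp [e₀, e₁]
    rw [e, hf₁.bilinear.add_right, hf₁.bilinear.smul_right, hf₁.bilinear.smul_right, h00, h, mul_zero,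
      mul_zero, add_zero]
  have h10 : f₁ e₁ e₀ = 1 := by
    rw [hf₁.skew, h01]
    linear_combination -h2
  -- coordinates
  obtain ⟨Φ, hΦ⟩ : ∃ Φ : (Fin n₂ → F) → (Fin n₂ → F) → ι → F,
      ∀ a b, Φ a b = pureTensor e P e₀ a + pureTensor e P e₁ b := ⟨_, fun _ _ => rfl⟩
  have hpol : ∀ a b a' b', polar ⇑Q (Φ a b) (Φ a' b') = f₂ a b' + f₂ b a' := by
    intro a b a' b'
    have h := polar_pureTensor e P hf₁.bilinear hf₂.bilinear hT
    rw [hΦ, hΦ, polar_add_left', polar_add_right', polar_add_right', h, h, h, h, h00, h01, h10, h11]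
    ring
  have hQΦ : ∀ a b, Q (Φ a b) = f₂ a b := by
    intro a b
    rw [hΦ, apply_add, hpure, hpure, polar_pureTensor e P hf₁.bilinear hf₂.bilinear hT, h01]
    ring
  have hΦeq : ∀ a b a' b', Φ a b = Φ a' b' → a = a' ∧ b = b' := by
    intro a b a' b' h
    rw [hΦ, hΦ] at h
    simp only [pureTensor, ← Matrix.mulVec_add] at h
    have h' := Matrix.mulVec_injective_iff_isUnit.2 P.isUnit h
    refine ⟨funext fun i => ?_, funext fun i => ?_⟩
    · simpa [e₀, e₁] using congrFun h' (e.symm (0, i))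
    · simpa [e₀, e₁] using congrFun h' (e.symm (1, i))
  have hsurj : ∀ v : ι → F, ∃ a b, v = Φ a b := by
    intro v
    set u := ((P⁻¹ : Matrix.GeneralLinearGroup ι F) : Matrix ι ι F) *ᵥ v
    refine ⟨fun i => u (e.symm (0, i)), fun i => u (e.symm (1, i)), ?_⟩
    rw [hΦ, pureTensor, pureTensor, ← Matrix.mulVec_add]
    have hv : (P : Matrix ι ι F) *ᵥ u = v := by
      rw [Matrix.mulVec_mulVec, Units.mul_inv, Matrix.one_mulVec]
    conv_lhs => rw [← hv]
    congr 1
    funext j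
    obtain ⟨⟨i, k⟩, rfl⟩ := e.symm.surjective j
    fin_cases i <;> simp [e₀, e₁]
  have hpureΦ : ∀ x y, pureTensor e P x y = Φ (x 0 • y) (x 1 • y) := by
    intro x y
    rw [hΦ, pureTensor, pureTensor, pureTensor, ← Matrix.mulVec_add]
    congr 1
    funext j
    obtain ⟨⟨i, k⟩, rfl⟩ := e.symm.surjective j
    fin_cases i <;> simp [e₀, e₁]
  have hadd : ∀ a b a' b', Φ (a + a') (b + b') = Φ a b + Φ a' b' := by
    intro a b a' b'
    rw [hΦ, hΦ, hΦ, pureTensor_add_right, pureTensor_add_right]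
    abel
  have hsmul : ∀ (s : F) a b, Φ (s • a) (s • b) = s • Φ a b := by
    intro s a b
    rw [hΦ, hΦ, pureTensor_smul_right, pureTensor_smul_right, smul_add]
  -- the element of order three
  let Ω3 : Matrix.GeneralLinearGroup (Fin 2) F := ⟨!![0, 1; 1, 1], !![1, 1; 1, 0],
    by rw [Matrix.mul_fin_two, Matrix.one_fin_two]; congr 1; ext i j; fin_cases i <;> fin_cases j <;>
      simp <;> linear_combination h2,
    by rw [Matrix.mul_fin_two, Matrix.one_fin_two]; congr 1; ext i j; fin_cases i <;> fin_cases j <;>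
      simp <;> linear_combination h2⟩
  let K₀ : Matrix.GeneralLinearGroup (Fin 2 × Fin n₂) F :=
    ⟨Matrix.kronecker (Ω3 : Matrix (Fin 2) (Fin 2) F) 1,
      Matrix.kronecker ((Ω3⁻¹ : Matrix.GeneralLinearGroup (Fin 2) F) : Matrix (Fin 2) (Fin 2) F) 1,
      by rw [Matrix.kronecker, ← Matrix.mul_kronecker_mul, Units.mul_inv, one_mul, Matrix.one_kronecker_one],
      by rw [Matrix.kronecker, ← Matrix.mul_kronecker_mul, Units.inv_mul, one_mul, Matrix.one_kronecker_one]⟩
  let t : Matrix.GeneralLinearGroup ι F := MulAut.conj P (Cfsg.Geo.glReindex e.symm K₀)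
  have htT : ∀ x y, (t : Matrix ι ι F) *ᵥ pureTensor e P x y =
      pureTensor e P ((Ω3 : Matrix (Fin 2) (Fin 2) F) *ᵥ x) y := by
    intro x y
    show ((P * Cfsg.Geo.glReindex e.symm K₀ * P⁻¹ : Matrix.GeneralLinearGroup ι F) : Matrix ι ι F) *ᵥ _ = _
    rw [pureTensor, pureTensor, Units.val_mul, Matrix.mulVec_mulVec, Matrix.mul_assoc, Units.inv_mul,
      Matrix.mul_one, Units.val_mul, ← Matrix.mulVec_mulVec]
    congr 1
    funext i
    show (Matrix.reindex e.symm e.symm (K₀ : Matrix (Fin 2 × Fin n₂) (Fin 2 × Fin n₂) F) *ᵥ _) i = _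
    simp only [Matrix.mulVec, dotProduct, Matrix.reindex_apply, Matrix.submatrix_apply, Equiv.symm_symm,
      Function.comp_apply]
    rw [e.sum_comp (fun q => (K₀ : Matrix (Fin 2 × Fin n₂) (Fin 2 × Fin n₂) F) (e i) q * (x q.1 * y q.2)),
      Fintype.sum_prod_type, Finset.sum_mul]
    refine Finset.sum_congr rfl fun p _ => ?_
    simp [K₀, Matrix.one_apply, mul_assoc]
  have hΩe : (Ω3 : Matrix (Fin 2) (Fin 2) F) *ᵥ e₀ = e₁ ∧
      (Ω3 : Matrix (Fin 2) (Fin 2) F) *ᵥ e₁ = e₀ + e₁ := by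
    constructor <;> funext i <;> fin_cases i <;> simp [Ω3, e₀, e₁, Matrix.mulVec, dotProduct]
  have htΦ : ∀ a b, (t : Matrix ι ι F) *ᵥ Φ a b = Φ b (a + b) := by
    intro a b
    rw [hΦ, Matrix.mulVec_add, htT, htT, hΩe.1, hΩe.2, hΦ, pureTensor_add_right]
    rw [show pureTensor e P (e₀ + e₁) b = pureTensor e P e₀ b + pureTensor e P e₁ b by
      simp only [pureTensor, ← Matrix.mulVec_add]
      congr 1
      funext i
      simp [add_mul]]
    abel
  let e' := oEquiv Q
  have hΩ : ∀ g : Cfsg.isometryGroup F (⇑Q),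
      (g : Matrix.GeneralLinearGroup ι F) ∈ Cfsg.Geo.omegaGL (⇑Q) ↔ e' g ∈ eichGroup hQ := by
    intro g
    have hmap : (commutator ↥(Cfsg.isometryGroup F (⇑Q))).map e'.toMonoidHom = commutator (OQ Q) := by
      rw [commutator_def, commutator_def, Subgroup.map_commutator,
        Subgroup.map_top_of_surjective _ e'.surjective]
    rw [eichGroup_eq_commutator hQ hn5, ← hmap, Subgroup.mem_map_equiv, MulEquiv.symm_apply_apply]
    exact ⟨fun ⟨g', hg', hgg⟩ => by rw [← Subtype.ext hgg]; exact hg', fun h => ⟨g, h, rfl⟩⟩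
  have hact : ∀ (h : OQ Q) v, (((e'.symm h : Cfsg.isometryGroup F (⇑Q)) :
      Matrix.GeneralLinearGroup ι F) : Matrix ι ι F) *ᵥ v = (h : (ι → F) ≃ₗ[F] (ι → F)) v := fun h v => by
    rw [← oEquiv_apply, MulEquiv.apply_symm_apply]
  -- vectors
  obtain ⟨a₁, a₂, h12⟩ : ∃ a₁ a₂, f₂ a₁ a₂ = 1 := by
    obtain ⟨r, hr⟩ := (hf₂.nondegenerate (Pi.single (⟨0, by omega⟩ : Fin n₂) 1)
      (fun h0 => by simpa using congrFun h0 ⟨0, by omega⟩)).2
    exact ⟨_, r, (hF _).resolve_left hr⟩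
  obtain ⟨p, hp0, hp1, hp2⟩ : ∃ p, p ≠ 0 ∧ f₂ p a₁ = 0 ∧ f₂ p a₂ = 0 := by
    let L : (Fin n₂ → F) →ₗ[F] F × F := (B₂.flip a₁).prod (B₂.flip a₂)
    by_contra! hcp
    have hinj : Function.Injective L := by
      rw [injective_iff_map_eq_zero]
      intro p hp
      by_contra h0
      exact hcp p h0 (congrArg Prod.fst hp) (congrArg Prod.snd hp)
    have h := LinearMap.finrank_le_finrank_of_injective hinj
    rw [Module.finrank_fin_fun, Module.finrank_prod, Module.finrank_self] at h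
    omega
  have h1p : f₂ a₁ p = 0 := by rw [hsymm, hp1]
  have h2p : f₂ a₂ p = 0 := by rw [hsymm, hp2]
  have h21 : f₂ a₂ a₁ = 1 := by rw [hsymm, h12]
  refine ⟨pairStab t ⊓ Cfsg.Geo.omegaGL (⇑Q), lt_of_le_of_ne ?_ ?_, lt_of_le_of_ne inf_le_right ?_⟩
  · refine le_inf ?_ inf_le_right
    refine inf_le_left.trans ?_
    rintro _ ⟨K, ⟨L, ⟨a, b, hab⟩, rfl⟩, rfl⟩
    show MulAut.conj P (Cfsg.Geo.glReindex e.symm L) * t * (MulAut.conj P (Cfsg.Geo.glReindex e.symm L))⁻¹ = t ∨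
      MulAut.conj P (Cfsg.Geo.glReindex e.symm L) * t * (MulAut.conj P (Cfsg.Geo.glReindex e.symm L))⁻¹ = t⁻¹
    simp only [t, ← map_mul, ← map_inv, (MulAut.conj P).injective.eq_iff,
      (Cfsg.Geo.glReindex e.symm).injective.eq_iff, mul_inv_eq_iff_eq_mul]
    have hdet : (a : Matrix (Fin 2) (Fin 2) F).det ≠ 0 := Matrix.GeneralLinearGroup.det_ne_zero a
    have ha : (a : Matrix (Fin 2) (Fin 2) F) * (Ω3 : Matrix (Fin 2) (Fin 2) F) = (Ω3 : Matrix (Fin 2) (Fin 2) F) * a ∨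
        (a : Matrix (Fin 2) (Fin 2) F) * (Ω3 : Matrix (Fin 2) (Fin 2) F) =
          ((Ω3⁻¹ : Matrix.GeneralLinearGroup (Fin 2) F) : Matrix (Fin 2) (Fin 2) F) * a := by
      rw [Matrix.det_fin_two] at hdet
      show (a : Matrix (Fin 2) (Fin 2) F) * !![0, 1; 1, 1] = !![0, 1; 1, 1] * (a : Matrix (Fin 2) (Fin 2) F) ∨
        (a : Matrix (Fin 2) (Fin 2) F) * !![0, 1; 1, 1] = !![1, 1; 1, 0] * (a : Matrix (Fin 2) (Fin 2) F)
      generalize (a : Matrix (Fin 2) (Fin 2) F) = M at hdet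
      have e2 : (1 : F) + 1 = 0 := by linear_combination h2
      rcases hF (M 0 0) with h00' | h00' <;> rcases hF (M 0 1) with h01' | h01' <;>
        rcases hF (M 1 0) with h10' | h10' <;> rcases hF (M 1 1) with h11' | h11' <;>
        simp [h00', h01', h10', h11'] at hdet <;>
        first
          | (left; ext i j; fin_cases i <;> fin_cases j <;>
              simp [Matrix.mul_apply, Fin.sum_univ_two, h00', h01', h10', h11', e2] <;> done)
          | (right; ext i j; fin_cases i <;> fin_cases j <;>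
              simp [Matrix.mul_apply, Fin.sum_univ_two, h00', h01', h10', h11', e2] <;> done)
    rcases ha with ha | ha
    · refine Or.inl (Units.ext ?_)
      show (L : Matrix (Fin 2 × Fin n₂) (Fin 2 × Fin n₂) F) * (K₀ : Matrix (Fin 2 × Fin n₂) (Fin 2 × Fin n₂) F) =
        (K₀ : Matrix (Fin 2 × Fin n₂) (Fin 2 × Fin n₂) F) * (L : Matrix (Fin 2 × Fin n₂) (Fin 2 × Fin n₂) F)
      rw [hab]
      show Matrix.kronecker _ _ * Matrix.kronecker _ 1 = Matrix.kronecker _ 1 * Matrix.kronecker _ _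
      unfold Matrix.kronecker
      rw [← Matrix.mul_kronecker_mul, ← Matrix.mul_kronecker_mul, ha,
        mul_one, one_mul]
    · refine Or.inr (Units.ext ?_)
      show (L : Matrix (Fin 2 × Fin n₂) (Fin 2 × Fin n₂) F) * (K₀ : Matrix (Fin 2 × Fin n₂) (Fin 2 × Fin n₂) F) =
        ((K₀⁻¹ : Matrix.GeneralLinearGroup (Fin 2 × Fin n₂) F) : Matrix (Fin 2 × Fin n₂) (Fin 2 × Fin n₂) F) *
          (L : Matrix (Fin 2 × Fin n₂) (Fin 2 × Fin n₂) F)
      rw [hab]
      show Matrix.kronecker _ _ * Matrix.kronecker _ 1 = Matrix.kronecker _ 1 * Matrix.kronecker _ _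
      unfold Matrix.kronecker
      rw [← Matrix.mul_kronecker_mul, ← Matrix.mul_kronecker_mul, ha,
        mul_one, one_mul]
  · intro heq
    set w := Φ a₁ a₂ with hw
    set tw := Φ a₂ (a₁ + a₂) with htw
    have hqw : Q w = 1 := by rw [hw, hQΦ, h12]
    have hqtw : Q tw = 1 := by
      rw [htw, hQΦ, hf₂.bilinear.add_right, h21, hf₂.alternating, add_zero]
    have hw0 : Q w ≠ 0 := by rw [hqw]; exact one_ne_zero
    have htw0 : Q tw ≠ 0 := by rw [hqtw]; exact one_ne_zero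
    set h := Quad.refl hw0 * Quad.refl htw0
    have hh : h ∈ eichGroup hQ := refl_mul_refl_mem hQ hn5 hw0 htw0 (by rw [hqw, hqtw])
    have hwtw : polar Q tw w = 1 := by
      rw [htw, hw, hpol, hf₂.alternating, hf₂.bilinear.add_left, hf₂.alternating, h21, zero_add, zero_add]
    have hhz : ∀ z, (h : (ι → F) ≃ₗ[F] (ι → F)) z =
        z + (polar Q z w + polar Q z tw) • w + polar Q z tw • tw := by
      intro z
      show (Quad.refl hw0 : (ι → F) ≃ₗ[F] (ι → F)) ((Quad.refl htw0 : (ι → F) ≃ₗ[F] (ι → F)) z) = _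
      rw [refl_apply htw0, refl_apply hw0, hqw, hqtw, inv_one, one_mul, one_mul,
        QuadraticMap.polar_sub_left, polar_smul_left', hwtw]
      match_scalars <;> first | ring1 | linear_combination -(polar Q z w) * h2 |
        linear_combination -(polar Q z tw) * h2
    set g := e'.symm h
    have hcomm : (g : Matrix.GeneralLinearGroup ι F) * t * (g : Matrix.GeneralLinearGroup ι F)⁻¹ = t := by
      rw [mul_inv_eq_iff_eq_mul]
      refine Units.ext (Matrix.toLin'.injective (LinearMap.ext fun v => ?_))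
      obtain ⟨a, b, rfl⟩ := hsurj v
      rw [Units.val_mul, Units.val_mul, Matrix.toLin'_apply, Matrix.toLin'_apply, ← Matrix.mulVec_mulVec,
        ← Matrix.mulVec_mulVec, htΦ, hact, hact, hhz, hhz, Matrix.mulVec_add, Matrix.mulVec_add,
        Matrix.mulVec_smul, Matrix.mulVec_smul, hw, htw, htΦ, htΦ, htΦ, hpol, hpol, hpol, hpol,
        ← hsmul, ← hsmul, ← hsmul, ← hsmul, ← hadd, ← hadd, ← hadd, ← hadd]
      simp only [hf₂.bilinear.add_left, hf₂.bilinear.add_right]
      congr 1 <;>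
      · match_scalars <;> ring_nf <;> simp [h2, show (4 : F) = 0 by linear_combination 2 * h2,
          show (3 : F) = 1 by linear_combination h2, show (5 : F) = 1 by linear_combination 2 * h2]
    have hgA : (g : Matrix.GeneralLinearGroup ι F) ∈ Cfsg.Geo.tensorProductSubgroup 2 n₂ e P :=
      (heq.ge ⟨Or.inl hcomm, (hΩ g).2 (by rw [MulEquiv.apply_symm_apply]; exact hh)⟩).1
    obtain ⟨A, B, hAB⟩ := exists_of_mem_tensor e P hgA
    have h3 := hAB e₀ (a₁ + p)
    rw [hact, hpureΦ, hpureΦ, hhz, hw, htw, hpol, hpol, ← hsmul, ← hsmul, ← hadd, ← hadd] at h3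
    simp only [e₀, Pi.single_eq_same, one_smul, Pi.single_eq_of_ne (show (1 : Fin 2) ≠ 0 by decide),
      zero_smul] at h3
    simp only [hf₂.bilinear.add_left, hf₂.bilinear.add_right, h12, hp1, hp2, hf₂.alternating,
      show f₂ 0 a₁ = 0 from (B₂.map_zero₂ a₁), show f₂ 0 a₂ = 0 from (B₂.map_zero₂ a₂),
      add_zero, zero_add] at h3
    obtain ⟨e1, e2⟩ := hΦeq _ _ _ _ h3
    set x := (A : Matrix (Fin 2) (Fin 2) F) *ᵥ Pi.single 0 1
    set y := (B : Matrix (Fin n₂) (Fin n₂) F) *ᵥ (a₁ + p)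
    have q1 := congrArg (fun z => B₂ z a₁) e1
    have q2 := congrArg (fun z => B₂ z a₁) e2
    simp only [map_add, map_smul, LinearMap.add_apply, LinearMap.smul_apply, smul_eq_mul] at q1 q2
    change _ = _ * f₂ y a₁ at q1
    change _ = _ * f₂ y a₁ at q2
    simp only [show B₂ a₁ a₁ = 0 from hf₂.alternating _, show B₂ p a₁ = 0 from hp1,
      show B₂ a₂ a₁ = 1 from h21, map_zero, LinearMap.zero_apply] at q1 q2
    rcases hF (x 0) with hx0 | hx0 <;> rcases hF (x 1) with hx1 | hx1 <;> rw [hx0] at e1 q1 <;>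
      rw [hx1] at e2 q2
    · rw [zero_mul] at q1
      exact one_ne_zero (α := F) (by linear_combination q1)
    · rw [zero_mul] at q1
      exact one_ne_zero (α := F) (by linear_combination q1)
    · rw [zero_mul] at q2
      exact one_ne_zero (α := F) (by linear_combination q2 - h2)
    · have h4 := congrArg₂ (· - ·) e1 e2
      simp only [sub_self] at h4
      refine hp0 (Eq.trans ?_ h4)
      match_scalars <;> first | ring1 | linear_combination h2 | linear_combination -h2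
  · intro heq
    set u := Φ a₂ 0 with hu
    set s := Φ p 0 with hs
    have hf0 : ∀ z, f₂ z 0 = 0 := fun z => (B₂ z).map_zero
    have hf0' : ∀ z, f₂ 0 z = 0 := fun z => B₂.map_zero₂ z
    have hqu : Q u = 0 := by rw [hu, hQΦ, hf0]
    have hqs : Q s = 0 := by rw [hs, hQΦ, hf0]
    have hus : polar Q u s = 0 := by rw [hu, hs, hpol, hf0, hf0', add_zero]
    set g := e'.symm (eich hQ hqu hus)
    have hgmem := (heq.ge ((hΩ g).2 (by rw [MulEquiv.apply_symm_apply]; exact eich_mem hQ hn5 hqu hus))).1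
    have hgv : ∀ a b, ((g : Matrix.GeneralLinearGroup ι F) : Matrix ι ι F) *ᵥ Φ a b =
        Φ (a + f₂ b p • a₂ - f₂ b a₂ • p) b := by
      intro a b
      rw [hact, eich_apply, hqs, hu, hs, hpol, hpol, hf0, zero_add, zero_add, zero_mul, sub_zero,
        ← hsmul, ← hsmul, smul_zero, smul_zero, ← hadd, ← hadd, add_zero, add_zero, neg_smul, ← sub_eq_add_neg]
    have hgtv : ∀ v, (((g : Matrix.GeneralLinearGroup ι F) * t : Matrix.GeneralLinearGroup ι F) : Matrix ι ι F) *ᵥ v =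
        ((g : Matrix.GeneralLinearGroup ι F) : Matrix ι ι F) *ᵥ ((t : Matrix ι ι F) *ᵥ v) := fun v => by
      rw [Units.val_mul, ← Matrix.mulVec_mulVec]
    rcases hgmem with h | h <;> rw [mul_inv_eq_iff_eq_mul] at h
    · have h4 := congrArg (fun M : Matrix.GeneralLinearGroup ι F => (M : Matrix ι ι F) *ᵥ Φ a₁ 0) h
      simp only [hgtv] at h4
      rw [Units.val_mul, ← Matrix.mulVec_mulVec, htΦ, hgv, hgv, htΦ] at h4
      obtain ⟨e1, -⟩ := hΦeq _ _ _ _ h4
      simp only [hf0', add_zero, h12, h1p, zero_smul, zero_sub, one_smul, zero_add] at e1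
      exact hp0 (neg_eq_zero.1 e1)
    · have h4 := congrArg (fun M : Matrix.GeneralLinearGroup ι F => (t : Matrix ι ι F) *ᵥ ((M : Matrix ι ι F) *ᵥ Φ a₁ 0)) h
      simp only [hgtv] at h4
      rw [Units.val_mul, ← Matrix.mulVec_mulVec, Matrix.mulVec_mulVec (M := (t : Matrix ι ι F)) (N := ((t⁻¹ : Matrix.GeneralLinearGroup ι F) : Matrix ι ι F)),
        Units.mul_inv, Matrix.one_mulVec, htΦ, hgv, hgv, htΦ] at h4
      obtain ⟨-, e2⟩ := hΦeq _ _ _ _ h4
      have h9 := congrArg (fun z => B₂ a₂ z) e2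
      simp [show ∀ y z, B₂ y z = f₂ y z from fun _ _ => rfl, hf₂.alternating, hf0, hf0', h12, h21, h2p, h1p] at h9
      rw [← neg_one_smul F p, hf₂.bilinear.add_right, hf₂.bilinear.smul_right, h2p, h21, mul_zero, zero_add] at h9
      exact one_ne_zero h9

end CfsgLib.Geo.OrthMax
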