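/-
Maximal subgroups of `PGL(2, q)`, q odd, not containing `PSL(2, q)`.
-/
import Cfsg.Agent.Lib.Geo.PGLTwoBasic
import Cfsg.Agent.Lib.Classical.Dickson.KleinClasses

set_option autoImplicit false

namespace CfsgLib.Geo.PGLTwo

open Matrix
open CfsgLib.Classical CfsgLib.Classical.Dickson
open scoped LinearAlgebra.Projectivization MatrixGroups

variable {F : Type*} [Field F]

local notation "PSL₂" => ProjectiveSpecialLinearGroup (Fin 2) F
local notation "PGL₂" => ProjGenLinGroup (Fin 2) F
local notation "ι₂" => ProjectiveSpecialLinearGroup.toPGL (n := Fin 2) (R := F)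

/-- The copy of `PGL₂` of a subfield. -/
abbrev subRange (K : Subfield F) : Subgroup (ProjGenLinGroup (Fin 2) F) :=
  (ProjGenLinGroup.map (n := Fin 2) K.subtype).range

theorem ptMap_pt {L : Type*} [Field L] (f : F →+* L) (c : F) : ptMap f (pt c) = pt (f c) := by
  rw [pt, ptMap_mk, pt, Projectivization.mk_eq_mk_iff']
  exact ⟨1, funext fun i => by fin_cases i <;> simp⟩

theorem ptMap_injective {L : Type*} [Field L] (f : F →+* L) : Function.Injective (ptMap f) := by
  intro x y
  induction x using Projectivization.ind with | h v hv =>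
  induction y using Projectivization.ind with | h w hw =>
  rw [ptMap_mk, ptMap_mk, Projectivization.mk_eq_mk_iff', Projectivization.mk_eq_mk_iff']
  rintro ⟨c, hc⟩
  obtain ⟨i, hi⟩ : ∃ i, w i ≠ 0 := Function.ne_iff.1 hw
  refine ⟨v i / w i, funext fun j => f.injective ?_⟩
  have hci := congrFun hc i
  have hcj := congrFun hc j
  simp only [Pi.smul_apply, smul_eq_mul, Function.comp_apply] at hci hcj
  rw [Pi.smul_apply, smul_eq_mul, map_mul, map_div₀, ← hci, ← hcj, mul_div_assoc, div_self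
    ((map_ne_zero f).2 hi), mul_one]

instance [Finite F] : Finite (ProjGenLinGroup (Fin 2) F) :=
  Finite.of_surjective _ ProjGenLinGroup.mk_surjective

variable [Fintype F] (p : ℕ) [Fact p.Prime] [CharP F p]

section facts

variable (hodd : Odd (Fintype.card F)) (h4 : 4 ≤ Fintype.card F) {M : Subgroup (ProjGenLinGroup (Fin 2) F)}

include hodd in
theorem char_ne_two : p ≠ 2 := by
  intro h
  obtain ⟨n, hn, hn'⟩ := FiniteField.card F p
  rw [hn', h, Nat.odd_pow_iff n.ne_zero] at hodd
  exact absurd hodd (by decide)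

include hodd in
omit [Fact p.Prime] [CharP F p] in
theorem exists_outside (hL : ¬ pslRange F ≤ M) (hM : IsCoatom M) : ∃ m ∈ M, m ∉ pslRange F := by
  by_contra h
  push Not at h
  rcases hM.le_iff.1 (h : M ≤ pslRange F) with e | e
  · have := index_pslRange (F := F) hodd
    rw [e, Subgroup.index_top] at this
    omega
  · exact hL (le_of_eq e)

include hodd in
omit [Fact p.Prime] [CharP F p] in
theorem index_in (hm : ∃ m ∈ M, m ∉ pslRange F) : ((pslRange F).subgroupOf M).index = 2 := by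
  obtain ⟨m, hm, hmL⟩ := hm
  refine Subgroup.index_eq_two_iff.2 ⟨⟨m, hm⟩, fun b => ?_⟩
  have h := Subgroup.mul_mem_iff_of_index_two (index_pslRange hodd) (a := (b : PGL₂)) (b := m)
  simp only [Subgroup.mem_subgroupOf, Subgroup.coe_mul]
  by_cases hb : (b : PGL₂) ∈ pslRange F
  · exact Or.inr ⟨hb, fun hc => hmL ((h.1 hc).1 hb)⟩
  · exact Or.inl ⟨h.2 (iff_of_false hb hmL), hb⟩

theorem card_comap (M : Subgroup PGL₂) :
    Nat.card (M.comap ι₂) = Nat.card ((pslRange F).subgroupOf M) := by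
  refine Nat.card_eq_of_bijective (fun x => ⟨⟨ι₂ x, x.2⟩, ⟨(x : PSL₂), rfl⟩⟩) ⟨fun a b h => ?_, ?_⟩
  · exact Subtype.ext (ProjectiveSpecialLinearGroup.toPGL_injective (congrArg (fun z => z.1.1) h))
  · rintro ⟨⟨z, hz⟩, x, hx⟩
    change ι₂ x = z at hx
    exact ⟨⟨x, by show ι₂ x ∈ M; rw [hx]; exact hz⟩, Subtype.ext (Subtype.ext hx)⟩

include hodd in
omit [Fact p.Prime] [CharP F p] in
theorem card_eq (hm : ∃ m ∈ M, m ∉ pslRange F) : Nat.card M = 2 * Nat.card (M.comap ι₂) := by
  have h := ((pslRange F).subgroupOf M).index_mul_card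
  rw [index_in hodd hm] at h
  rw [card_comap]
  exact h.symm

include hodd h4 in
omit [Fact p.Prime] [CharP F p] in
/-- The normaliser of a small subgroup normalised by `M` is inside `M`. -/
theorem normalizer_le (hM : IsCoatom M) (K : Subgroup PGL₂) (hK : ∃ x, x ≠ 1 ∧ x ∈ K ∧ x ∈ pslRange F)
    (hKL : ¬ pslRange F ≤ K) (hMK : M ≤ Subgroup.normalizer (K : Set PGL₂)) :
    Subgroup.normalizer (K : Set PGL₂) ≤ M := by
  rcases hM.le_iff.1 hMK with h | h
  · exfalso
    have : IsSimpleGroup PSL₂ := isSimpleGroup_PSL_two h4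
    have hN : (K.comap ι₂).Normal := by
      have : K.Normal := Subgroup.normalizer_eq_top_iff.1 h
      infer_instance
    rcases hN.eq_bot_or_eq_top with e | e
    · obtain ⟨x, hx1, hxK, y, rfl⟩ := hK
      have : y ∈ (K.comap ι₂) := hxK
      rw [e, Subgroup.mem_bot] at this
      exact hx1 (by rw [this, map_one])
    · refine hKL ?_
      rintro _ ⟨y, rfl⟩
      exact (eq_top_iff.1 e (Subgroup.mem_top y) : y ∈ K.comap ι₂)
  · exact le_of_eq h

omit [Fact p.Prime] [CharP F p] in
theorem mem_normalizer_of_le {K : Subgroup PGL₂} {g : PGL₂} (h : ∀ x ∈ K, g * x * g⁻¹ ∈ K) :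
    g ∈ Subgroup.normalizer (K : Set PGL₂) := by
  have e : K.map (MulAut.conj g).toMonoidHom = K := Subgroup.eq_of_le_of_card_ge
    (by rintro _ ⟨x, hx, rfl⟩; exact h x hx)
    (le_of_eq (Subgroup.card_map_of_injective (MulAut.conj g).injective).symm)
  rw [Subgroup.mem_normalizer_iff]
  intro x
  constructor
  · exact h x
  · intro hx
    rw [← e] at hx
    obtain ⟨y, hy, hyx⟩ := hx
    rwa [← (MulAut.conj g).injective hyx]

include hodd h4 in
omit [Fact p.Prime] [CharP F p] in
/-- What normalises `M ∩ L` lies in `M`. -/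
theorem mem_of_normalises (hM : IsCoatom M) (hL : ¬ pslRange F ≤ M) (hne : M.comap ι₂ ≠ ⊥) {g : PGL₂}
    (hg : ∀ x, x ∈ M → x ∈ pslRange F → g * x * g⁻¹ ∈ M) : g ∈ M := by
  have hnL := Subgroup.normal_of_index_eq_two (index_pslRange (F := F) hodd)
  refine normalizer_le hodd h4 hM (M ⊓ pslRange F) ?_ (fun h => hL (h.trans inf_le_left)) ?_
    (mem_normalizer_of_le fun x hx => ⟨hg x hx.1 hx.2, hnL.conj_mem x hx.2 g⟩)
  · obtain ⟨⟨y, hy⟩, hy1'⟩ := (M.comap ι₂).ne_bot_iff_exists_ne_one.1 hne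
    have hy1 : y ≠ 1 := fun h => hy1' (Subtype.ext h)
    exact ⟨ι₂ y, fun h => hy1 (ProjectiveSpecialLinearGroup.toPGL_injective (h.trans (map_one _).symm)),
      ⟨hy, y, rfl⟩, y, rfl⟩
  · exact fun m hm => mem_normalizer_of_le fun x hx =>
      ⟨M.mul_mem (M.mul_mem hm hx.1) (M.inv_mem hm), hnL.conj_mem x hx.2 m⟩

include hodd h4 in
theorem card_big : 2 * (Fintype.card F + 1) < Nat.card PGL₂ := by
  rw [card_pgl]
  have h5 : 5 ≤ Fintype.card F := by obtain ⟨t, ht⟩ := hodd; omega
  have e : Fintype.card F ^ 2 - 1 = (Fintype.card F + 1) * (Fintype.card F - 1) := by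
    rw [← Nat.sq_sub_sq, one_pow]
  rw [e]
  calc 2 * (Fintype.card F + 1) < 5 * (Fintype.card F + 1) := by omega
    _ ≤ Fintype.card F * (Fintype.card F + 1) := Nat.mul_le_mul_right _ h5
    _ ≤ Fintype.card F * ((Fintype.card F + 1) * (Fintype.card F - 1)) :=
      Nat.mul_le_mul_left _ (Nat.le_mul_of_pos_right _ (by omega))

include p hodd h4 in
theorem not_cyclic (hM : IsCoatom M) (hm : ∃ m ∈ M, m ∉ pslRange F) (hC : IsCyclic M) (hpM : ¬ p ∣ Nat.card M) :
    False := by
  have hp2 := char_ne_two p hodd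
  obtain ⟨⟨m, hmM⟩, hgen⟩ := hC.exists_generator
  have hMz : M = Subgroup.zpowers m := by
    refine le_antisymm (fun x hx => ?_) (Subgroup.zpowers_le.2 hmM)
    obtain ⟨i, hi⟩ := Subgroup.mem_zpowers_iff.1 (hgen ⟨x, hx⟩)
    exact ⟨i, by simpa using congrArg Subtype.val hi⟩
  have hm1 : m ≠ 1 := by
    rintro rfl
    obtain ⟨x, hx, hxL⟩ := hm
    rw [hMz, Subgroup.zpowers_one_eq_bot, Subgroup.mem_bot] at hx
    exact hxL (hx ▸ one_mem _)
  have h2 : (2 : F) ≠ 0 := two_ne_zero_of_char p hp2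
  obtain ⟨w, hw, hinv, hw1, hwm⟩ := exists_inverting h2 hm1
  have hwM : w ∉ Subgroup.zpowers m := by
    rintro ⟨i, rfl⟩
    have hc : m ^ i * m * (m ^ i)⁻¹ = m := by rw [(Commute.refl m).zpow_left i |>.eq, mul_inv_cancel_right]
    rw [hc] at hinv
    have hmm : m * m = 1 := mul_eq_one_iff_eq_inv.2 hinv
    obtain ⟨j, rfl | rfl⟩ := Int.even_or_odd' i
    · exact hw1 (by show m ^ (2 * j) = 1; rw [_root_.zpow_mul, _root_.zpow_two, hmm, _root_.one_zpow])
    · exact hwm (by
        show m ^ (2 * j + 1) = m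
        rw [_root_.zpow_add, _root_.zpow_mul, _root_.zpow_two, hmm, _root_.one_zpow, one_mul, _root_.zpow_one])
  let E := extendInvol (Subgroup.zpowers m) w hw (conj_mem_zpowers hinv)
  have hlt : M < E := hMz ▸ lt_of_le_not_ge le_extendInvol fun h => hwM (h mem_extendInvol_self)
  have hE := hM.2 E hlt
  have hc : Nat.card E = 2 * orderOf m := by rw [card_extendInvol hwM, Nat.card_zpowers]
  rw [hE, Subgroup.card_top] at hc
  have := card_big hodd h4 (F := F)
  have := orderOf_le p hp2 m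
  omega

include p hodd h4 in
theorem dihedral_case (hM : IsCoatom M) (hL : ¬ pslRange F ≤ M) {n : ℕ} (hn2 : 2 ≤ n) (hpn : ¬ p ∣ n)
    (ψ : M ≃* DihedralGroup n) :
    (n = Fintype.card F - 1 ∧ Fintype.card F ≠ 5) ∨ n = Fintype.card F + 1 := by
  have hp2 := char_ne_two p hodd
  have hm := exists_outside hodd hL hM
  have hnH : Nat.card (M.comap ι₂) = n := by
    have h := card_eq hodd hm
    rw [Nat.card_congr ψ.toEquiv, DihedralGroup.nat_card] at h
    omega
  have hne : M.comap ι₂ ≠ ⊥ := fun e => by rw [e, Subgroup.card_bot] at hnH; omega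
  rcases Nat.lt_or_ge n 3 with hn3 | hn3
  · exfalso
    obtain rfl : n = 2 := by omega
    obtain ⟨z, hz⟩ := exists_prime_orderOf_dvd_card' (G := M.comap ι₂) 2 (by rw [hnH])
    obtain ⟨A, hA⟩ := QuotientGroup.mk_surjective (z : PSL₂)
    have ho : orderOf (A : PSL₂) = 2 := by rw [hA, Subgroup.orderOf_coe, hz]
    have hA1 : (A : PSL₂) ≠ 1 := fun e => by rw [e, orderOf_one] at ho; omega
    obtain ⟨w, hw, hinv, hwz⟩ := exists_inverter (trc_sq_ne_four p hA1 (by rw [ho]; exact hpn))
    have hAA : (A : PSL₂) * A = 1 := by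
      have := pow_orderOf_eq_one (A : PSL₂)
      rwa [ho, pow_two] at this
    classical
    have := Fintype.ofFinite (M.comap ι₂)
    have hzz : ∀ x : M.comap ι₂, x = 1 ∨ x = z := by
      intro x
      by_contra hx
      push Not at hx
      have h3 : ({1, z, x} : Finset (M.comap ι₂)).card = 3 := by
        rw [Finset.card_insert_of_notMem, Finset.card_pair hx.2.symm]
        simp only [Finset.mem_insert, Finset.mem_singleton, not_or]
        exact ⟨fun e => by rw [← e, orderOf_one] at hz; omega, hx.1.symm⟩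
      have := Nat.card_eq_fintype_card (α := M.comap ι₂)
      have h4' := Finset.card_le_univ ({1, z, x} : Finset (M.comap ι₂))
      omega
    have hwM : ι₂ w ∈ M := by
      refine mem_of_normalises hodd h4 hM hL hne ?_
      rintro _ hxM ⟨x, rfl⟩
      rw [← map_mul, ← map_inv, ← map_mul]
      rcases hzz ⟨x, hxM⟩ with e | e <;> have e' : x = _ := congrArg Subtype.val e <;> rw [e']
      · simp
      · rw [← hA, hinv, inv_eq_of_mul_eq_one_left hAA, hA]; exact z.2
    rcases hzz ⟨w, hwM⟩ with e | e <;> have e' : w = _ := congrArg Subtype.val e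
    · exact hwz (e' ▸ one_mem _)
    · exact hwz (by rw [e', ← hA]; exact Subgroup.mem_zpowers _)
  have : NeZero n := ⟨by omega⟩
  have : Fact (1 < n) := ⟨by omega⟩
  set r : PGL₂ := (ψ.symm (DihedralGroup.r 1) : PGL₂) with hr
  have hro : orderOf r = n := by rw [hr, Subgroup.orderOf_coe, ψ.symm.orderOf_eq, DihedralGroup.orderOf_r_one]
  have hr1 : r ≠ 1 := fun e => by rw [e, orderOf_one] at hro; omega
  have hrp : r ^ p ≠ 1 := fun e => by
    rcases (Nat.dvd_prime Fact.out).1 (hro ▸ orderOf_dvd_of_pow_eq_one e) with e' | e'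
    · omega
    · exact hpn (e' ▸ dvd_rfl)
  have hrr : r * r ≠ 1 := fun e => by
    have := Nat.le_of_dvd two_pos (hro ▸ orderOf_dvd_of_pow_eq_one ((pow_two r).trans e))
    omega
  obtain ⟨S, -, hS, hSeq⟩ := card_commuting p hp2 hr1 hrp
  rw [hSeq hrr] at hS
  have hN : Subgroup.normalizer (Subgroup.zpowers r : Set PGL₂) ≤ M := by
    refine normalizer_le hodd h4 hM _ ⟨r ^ 2, fun e => hrr ((pow_two r).symm.trans e),
      pow_mem (Subgroup.mem_zpowers r) 2, sq_mem_range_toPGL r⟩ ?_ ?_
    · intro h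
      have h1 := Subgroup.card_le_of_le h
      rw [Nat.card_zpowers, hro, ← Nat.card_congr (MonoidHom.ofInjective
        ProjectiveSpecialLinearGroup.toPGL_injective).toEquiv] at h1
      have := orderOf_le p hp2 r
      have := card_big hodd h4 (F := F)
      rw [card_pgl, ← two_mul_card_psl hodd] at this
      omega
    · intro m hmM
      refine mem_normalizer_of_le ?_
      rintro _ ⟨i, rfl⟩
      show m * r ^ i * m⁻¹ ∈ _
      rw [← conj_zpow]
      refine zpow_mem ?_ i
      obtain ⟨y, hy⟩ : ∃ y, y = ψ ⟨m, hmM⟩ := ⟨_, rfl⟩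
      have e : m * r * m⁻¹ = (ψ.symm (y * DihedralGroup.r 1 * y⁻¹) : PGL₂) := by
        rw [hy, map_mul, map_mul, map_inv, MulEquiv.symm_apply_apply]; rfl
      rw [e]
      rcases y with i' | i'
      · rw [show DihedralGroup.r i' * DihedralGroup.r 1 * (DihedralGroup.r i')⁻¹ = DihedralGroup.r (1 : ZMod n) by simp]
        exact Subgroup.mem_zpowers r
      · rw [show DihedralGroup.sr i' * DihedralGroup.r 1 * (DihedralGroup.sr i')⁻¹ = (DihedralGroup.r (1 : ZMod n))⁻¹ by simp]
        rw [map_inv, Subgroup.coe_inv]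
        exact inv_mem (Subgroup.mem_zpowers r)
  have hCeq : Subgroup.centralizer {r} = Subgroup.zpowers r := by
    refine le_antisymm (fun c hc => ?_) (Subgroup.zpowers_le.2 (Subgroup.mem_centralizer_singleton_iff.2 rfl))
    have hc' := Subgroup.mem_centralizer_singleton_iff.1 hc
    have hcM : c ∈ M := hN (mem_normalizer_of_le (by
      rintro _ ⟨i, rfl⟩
      show c * r ^ i * c⁻¹ ∈ _
      rw [((show Commute c r from hc').zpow_right i).eq, mul_inv_cancel_right]
      exact zpow_mem (Subgroup.mem_zpowers r) i))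
    have e : ψ ⟨c, hcM⟩ * DihedralGroup.r 1 = DihedralGroup.r 1 * ψ ⟨c, hcM⟩ := by
      apply ψ.symm.injective
      rw [map_mul, map_mul, MulEquiv.symm_apply_apply]
      exact Subtype.ext hc'
    rcases hy : ψ ⟨c, hcM⟩ with i | i
    · refine ⟨(i.val : ℤ), ?_⟩
      show r ^ (i.val : ℤ) = c
      have e1 : ψ.symm ((DihedralGroup.r (1 : ZMod n)) ^ i.val) = ⟨c, hcM⟩ := by
        rw [DihedralGroup.r_one_pow, ZMod.natCast_zmod_val, ← hy, MulEquiv.symm_apply_apply]
      rw [_root_.zpow_natCast, hr, ← Subgroup.coe_pow, ← map_pow, e1]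
    · rw [hy] at e
      simp only [DihedralGroup.sr_mul_r, DihedralGroup.r_mul_sr, DihedralGroup.sr.injEq] at e
      have h20 : ((2 : ℕ) : ZMod n) = 0 := by push_cast; linear_combination e
      have := Nat.le_of_dvd two_pos ((ZMod.natCast_eq_zero_iff 2 n).1 h20)
      omega
  rw [hCeq, Nat.card_zpowers, hro] at hS
  rcases hS with hS | hS
  · refine Or.inl ⟨hS, fun hq5 => ?_⟩
    -- order four in `PSL₂(5)`
    obtain rfl : n = 4 := by omega
    obtain ⟨f, hf, hqf⟩ := FiniteField.card F p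
    have hp5 : p = 5 := by
      rw [hq5] at hqf
      exact (Nat.prime_dvd_prime_iff_eq Fact.out (by norm_num)).1 (hqf ▸ dvd_pow_self p f.ne_zero)
    have hexp : ∀ x : M.comap ι₂, x ^ 2 = 1 := by
      intro x
      have hd : orderOf x ∣ 4 := hnH ▸ orderOf_dvd_natCard x
      have hnp : ¬ p ∣ orderOf (x : PSL₂) := by
        rw [Subgroup.orderOf_coe]
        intro h
        have := h.trans hd
        rw [hp5] at this
        norm_num at this
      rcases orderOf_dvd_psl p _ hnp hq5 with h | h <;> norm_num at h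
      · have h1 : orderOf x ∣ 1 := by
          have := Nat.dvd_gcd h hd
          norm_num at this
          rw [this, orderOf_one]
        rw [orderOf_eq_one_iff.1 (Nat.dvd_one.1 h1), one_pow]
      · exact orderOf_dvd_iff_pow_eq_one.1 h
    have hHne : Nontrivial (M.comap ι₂) := (Subgroup.nontrivial_iff_ne_bot _).2 hne
    have hK : IsKleinFour (M.comap ι₂) := ⟨hnH, by
      rcases (Nat.dvd_prime Nat.prime_two).1 (Monoid.exponent_dvd_of_forall_pow_eq_one hexp) with h | h
      · exact absurd (Monoid.exp_eq_one_iff.1 h) (not_subsingleton _)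
      · exact h⟩
    obtain ⟨N, ⟨φ⟩⟩ := (alt_four_iff p f (F := F) hqf).2 fun h => hp2 h.1
    let e₀ : alternatingGroup (Fin 4) →* PSL₂ := N.subtype.comp φ.symm.toMonoidHom
    have he₀ : Function.Injective e₀ := N.subtype_injective.comp φ.symm.injective
    let V : Subgroup (alternatingGroup (Fin 4)) :=
      { carrier := {x | x * x = 1}
        one_mem' := one_mul 1
        mul_mem' := fun {a b} ha hb => (by decide +kernel :
          ∀ a b : alternatingGroup (Fin 4), a * a = 1 → b * b = 1 → a * b * (a * b) = 1) a b ha hb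
        inv_mem' := fun {a} ha => by show a⁻¹ * a⁻¹ = 1; rw [← _root_.mul_inv_rev, ha, inv_one] }
    have hV4 : Nat.card V = 4 := by
      show Nat.card {x : alternatingGroup (Fin 4) // x * x = 1} = 4
      rw [Nat.card_eq_fintype_card]; decide +kernel
    have hVn : ∀ a : alternatingGroup (Fin 4), ∀ v ∈ V, a * v * a⁻¹ ∈ V := fun a v hv => by
      show a * v * a⁻¹ * (a * v * a⁻¹) = 1
      rw [show a * v * a⁻¹ * (a * v * a⁻¹) = a * (v * v) * a⁻¹ by group, show v * v = 1 from hv, mul_one, mul_inv_cancel]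
    have hVc : Nat.card (V.map e₀) = 4 := by rw [Subgroup.card_map_of_injective he₀, hV4]
    have hVK : IsKleinFour (V.map e₀) := ⟨hVc, by
      have hV2 : ∀ x : V.map e₀, x ^ 2 = 1 := by
        rintro ⟨_, v, hv, rfl⟩
        refine Subtype.ext ?_
        rw [Subgroup.coe_pow, pow_two, ← map_mul, show v * v = 1 from hv, map_one, Subgroup.coe_one]
      rcases (Nat.dvd_prime Nat.prime_two).1 (Monoid.exponent_dvd_of_forall_pow_eq_one hV2) with h | h
      · have := Monoid.exp_eq_one_iff.1 h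
        rw [Nat.card_of_subsingleton (1 : V.map e₀)] at hVc
        omega
      · exact h⟩
    obtain ⟨g, hg⟩ := exists_pslConj_kleinFour (two_ne_zero_of_char p hp2) hVK hK
    have hall : ∀ a, pslConj g (e₀ a) ∈ M.comap ι₂ := by
      intro a
      refine mem_of_normalises hodd h4 hM hL hne ?_
      rintro _ hxM ⟨x, rfl⟩
      have hx : x ∈ M.comap ι₂ := hxM
      rw [hg] at hx
      obtain ⟨_, ⟨v, hv, rfl⟩, rfl⟩ := hx
      rw [← map_inv, ← map_mul, ← map_mul]
      show _ ∈ M.comap ι₂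
      rw [hg]
      refine ⟨e₀ (a * v * a⁻¹), ⟨_, hVn a v hv, rfl⟩, ?_⟩
      simp only [map_mul, map_inv, MulEquiv.coe_toMonoidHom]
    have h12 : Nat.card (alternatingGroup (Fin 4)) ≤ Nat.card (M.comap ι₂) :=
      Nat.card_le_card_of_injective (fun a => (⟨pslConj g (e₀ a), hall a⟩ : M.comap ι₂))
        fun a b h => he₀ ((pslConj g).injective (congrArg Subtype.val h))
    rw [natCard_alt_four, hnH] at h12
    omega
  · exact Or.inr hS

include p hodd h4 in
theorem fixed_case (hM : IsCoatom M) (hpM : p ∣ Nat.card M) {x : Pt (AlgebraicClosure F)}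
    (hx : ∀ g ∈ M, ProjGenLinGroup.map (algebraMap F (AlgebraicClosure F)) g • x = x) :
    ∃ x₀ : ℙ F (Fin 2 → F), M = MulAction.stabilizer PGL₂ x₀ := by
  have : CharP (AlgebraicClosure F) p := charP_of_injective_algebraMap (algebraMap F _).injective p
  set f := algebraMap F (AlgebraicClosure F)
  obtain ⟨u, hu⟩ := exists_prime_orderOf_dvd_card' (G := M) p hpM
  have hup : (u : PGL₂) ^ p = 1 := by rw [← Subgroup.coe_pow, ← hu, pow_orderOf_eq_one, Subgroup.coe_one]
  have hu1 : (u : PGL₂) ≠ 1 := fun h => by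
    rw [show u = 1 from Subtype.ext h, orderOf_one] at hu
    exact (Fact.out : p.Prime).one_lt.ne hu
  obtain ⟨x₀, hx₀⟩ : ∃ x₀ : ℙ F (Fin 2 → F), (u : PGL₂) • x₀ = x₀ := by
    have hP : IsPGroup p (Subgroup.zpowers (u : PGL₂)) :=
      IsPGroup.of_card (n := 1) (by rw [Nat.card_zpowers, Subgroup.orderOf_coe, hu, pow_one])
    obtain ⟨x₀, hx₀⟩ := hP.nonempty_fixed_point_of_prime_not_dvd_card (ℙ F (Fin 2 → F)) (by
      rw [Two.card_line]
      intro h
      obtain ⟨n, hn, hn'⟩ := FiniteField.card F p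
      exact (Fact.out : p.Prime).not_dvd_one
        ((Nat.dvd_add_right (hn' ▸ dvd_pow_self p n.ne_zero : p ∣ Fintype.card F)).1 h))
    exact ⟨x₀, hx₀ ⟨_, Subgroup.mem_zpowers _⟩⟩
  have hX : x = ptMap f x₀ := unip_fix_unique p (hx _ u.2) (by rw [← ptMap_smul, hx₀])
    (by rw [← map_pow, hup, map_one]) fun h => hu1 (pglMap_injective f (h.trans (map_one _).symm))
  refine ⟨x₀, ?_⟩
  have hle : M ≤ MulAction.stabilizer PGL₂ x₀ := fun g hg => by
    refine MulAction.mem_stabilizer_iff.2 (ptMap_injective f ?_)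
    rw [ptMap_smul, ← hX, hx g hg]
  rcases hM.le_iff.1 hle with h | h
  · exfalso
    have h1 : (MulAction.stabilizer PSL₂ x₀) = ⊤ := eq_top_iff.2 fun y _ => by
      refine MulAction.mem_stabilizer_iff.2 ?_
      rw [← psl_smul]
      exact MulAction.mem_stabilizer_iff.1 (h ▸ Subgroup.mem_top (ι₂ y))
    have h2 := index_stabilizer_psl (F := F) rfl x₀
    rw [h1, Subgroup.index_top] at h2
    omega
  · exact h.symm

end facts

end CfsgLib.Geo.PGLTwo
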