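/-
The classification of the maximal subgroups of `PGL(2, q)`, q odd, not containing `PSL(2, q)`.
-/
import Cfsg.Agent.Lib.Geo.PGLTwoMaximal

set_option autoImplicit false

namespace CfsgLib.Geo.PGLTwo

open Matrix
open CfsgLib.Classical CfsgLib.Classical.Dickson
open scoped LinearAlgebra.Projectivization MatrixGroups

variable {F : Type*} [Field F]

local notation "PSL₂" => ProjectiveSpecialLinearGroup (Fin 2) F
local notation "PGL₂" => ProjGenLinGroup (Fin 2) F
local notation "ι₂" => ProjectiveSpecialLinearGroup.toPGL (n := Fin 2) (R := F)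

theorem index_two_of_mulEquiv {Γ Δ : Type*} [Group Γ] [Group Δ] (ψ : Γ ≃* Δ) {H : Subgroup Δ} (h : H.index = 2) :
    (H.comap ψ.toMonoidHom).index = 2 :=
  (Subgroup.index_comap_of_surjective (f := ψ.toMonoidHom) H ψ.surjective).trans h

theorem card_pgl' {K : Type*} [Field K] [Finite K] :
    Nat.card (ProjGenLinGroup (Fin 2) K) = Nat.card K * (Nat.card K ^ 2 - 1) := by
  classical
  have : Fintype K := Fintype.ofFinite K
  rw [card_pgl, Nat.card_eq_fintype_card]

theorem psl_no_index_two {K : Type*} [Field K] [Finite K] (h3 : 3 ≤ Nat.card K)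
    (H : Subgroup (ProjectiveSpecialLinearGroup (Fin 2) K)) : H.index ≠ 2 := by
  classical
  have : Fintype K := Fintype.ofFinite K
  rw [Nat.card_eq_fintype_card] at h3
  intro h
  rcases Nat.lt_or_ge (Fintype.card K) 4 with h4 | h4
  · obtain ⟨φ⟩ := psl_three_equiv K (by omega)
    exact alt_four_no_index_two _ (index_two_of_mulEquiv φ h)
  · have := isSimpleGroup_PSL_two (F := K) h4
    refine simple_no_index_two ?_ _ h
    have h1 := card_psl_mul_two (F := K) rfl
    have h2 : 4 * 15 ≤ Fintype.card K * (Fintype.card K ^ 2 - 1) :=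
      Nat.mul_le_mul h4 (by have := Nat.pow_le_pow_left h4 2; omega)
    omega

theorem pgl_card_strict_mono {a b : ℕ} (ha : 2 ≤ a) (h : a < b) : a * (a ^ 2 - 1) < b * (b ^ 2 - 1) := by
  have h1 : a ^ 2 - 1 ≤ b ^ 2 - 1 := Nat.sub_le_sub_right (Nat.pow_le_pow_left h.le 2) 1
  have h2 : 0 < a ^ 2 - 1 := by have := Nat.pow_le_pow_left ha 2; omega
  calc a * (a ^ 2 - 1) < b * (a ^ 2 - 1) := Nat.mul_lt_mul_of_pos_right h h2
    _ ≤ b * (b ^ 2 - 1) := Nat.mul_le_mul_left _ h1

theorem ptMap_inf {L : Type*} [Field L] (f : F →+* L) : ptMap f (inf F) = inf L := by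
  rw [inf, inf, Two.basePoint, Two.basePoint, ptMap_mk, Projectivization.mk_eq_mk_iff']
  exact ⟨1, funext fun i => by fin_cases i <;> simp⟩

theorem swp_conj_aff {L : Type*} [Field L] : swp (1 : Lˣ) * aff 1 1 * (swp (1 : Lˣ))⁻¹ = low L := by
  rw [mul_inv_eq_iff_eq_mul, swp, aff, low, ← map_mul, ← map_mul]
  congr 1
  apply Units.ext
  ext i j
  fin_cases i <;> fin_cases j <;> simp [Matrix.mul_apply]

theorem card_subRange [Finite F] (K : Subfield F) : Nat.card (subRange K) = Nat.card K * (Nat.card K ^ 2 - 1) := by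
  rw [← Nat.card_congr (MonoidHom.ofInjective (pglMap_injective K.subtype)).toEquiv, card_pgl']

theorem subRange_mono {K K' : Subfield F} (h : K ≤ K') : subRange K ≤ subRange K' := by
  rintro _ ⟨x, rfl⟩
  refine ⟨ProjGenLinGroup.map (Subfield.inclusion h) x, ?_⟩
  rw [pglMap_comp]
  rfl

variable [Fintype F] (p : ℕ) [Fact p.Prime] [CharP F p]

section facts

variable (hodd : Odd (Fintype.card F)) (h4 : 4 ≤ Fintype.card F) {M : Subgroup (ProjGenLinGroup (Fin 2) F)}

include p hodd h4 in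
theorem subfield_degree (hM : IsCoatom M) (hL : ¬ pslRange F ≤ M) {K : Subfield F} {g : GL (Fin 2) F}
    (hK3 : 3 ≤ Nat.card K) (hc : M.map (MulAut.conj (ProjGenLinGroup.mk g : PGL₂)).toMonoidHom = subRange K) :
    ∃ j, j.Prime ∧ Odd j ∧ Nat.card K ^ j = Fintype.card F := by
  have hp := (Fact.out : p.Prime)
  obtain ⟨j, hj, hjF⟩ := exists_card_pow K
  have hM' : IsCoatom (M.map (MulAut.conj (ProjGenLinGroup.mk g : PGL₂)).toMonoidHom) :=
    ((MulAut.conj (ProjGenLinGroup.mk g : PGL₂)).mapSubgroup.isCoatom_iff M).2 hM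
  rw [hc] at hM'
  refine ⟨j, ?_, ?_, hjF⟩
  · by_contra hnp
    rcases (by omega : j = 1 ∨ 2 ≤ j) with rfl | hj2
    · refine hM'.1 (Subgroup.eq_top_of_card_eq _ ?_)
      rw [card_subRange, card_pgl, ← hjF, pow_one]
    obtain ⟨l, m, hl, hm, e⟩ := exists_factor hj2 hnp
    obtain ⟨a, ha⟩ : ∃ a, Nat.card K = p ^ a := by
      have hkq : Nat.card K ∣ Fintype.card F := hjF ▸ dvd_pow_self _ (by omega)
      obtain ⟨f, -, hf⟩ := exists_char_pow (F := F) p
      obtain ⟨a, -, ha⟩ := (Nat.dvd_prime_pow hp).1 (hf ▸ hkq)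
      exact ⟨a, ha⟩
    have ha0 : a ≠ 0 := by rintro rfl; rw [pow_zero] at ha; omega
    obtain ⟨L, hL'⟩ := exists_subfield_card (F := F) p (l := a * l) (m := m)
      (Nat.mul_ne_zero ha0 (by omega)) (by omega) (by rw [pow_mul, ← ha, ← pow_mul, ← e, hjF])
    rw [pow_mul, ← ha] at hL'
    have hKL : K ≤ L := subfield_le_of_card_pow (i := l) hL'.symm
    have hk1 : 1 < Nat.card K := by omega
    have hlt1 : Nat.card K < Nat.card L := by
      rw [hL']
      calc Nat.card K = Nat.card K ^ 1 := (pow_one _).symm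
        _ < Nat.card K ^ l := Nat.pow_lt_pow_right hk1 (by omega)
    have hlt2 : Nat.card L < Fintype.card F := by
      rw [hL', ← hjF, e]
      exact Nat.pow_lt_pow_right hk1 (by nlinarith)
    rcases hM'.le_iff.1 (subRange_mono hKL) with h | h
    · have := congrArg (fun S : Subgroup PGL₂ => Nat.card S) h
      simp only [card_subRange, Subgroup.card_top, card_pgl] at this
      have := pgl_card_strict_mono (by omega) hlt2
      omega
    · have := congrArg (fun S : Subgroup PGL₂ => Nat.card S) h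
      simp only [card_subRange] at this
      have := pgl_card_strict_mono (by omega) hlt1
      omega
  · rcases Nat.even_or_odd j with he | ho
    · exfalso
      obtain ⟨m, hm, hmL⟩ := exists_outside hodd hL hM
      have hle : subRange K ≤ pslRange F := by
        rintro _ ⟨x, rfl⟩
        exact range_map_le_toPGL_of_isSquare _ (squares_of_even_degree hodd he hjF) x
      have hnL := Subgroup.normal_of_index_eq_two (index_pslRange (F := F) hodd)
      have hmem : (MulAut.conj (ProjGenLinGroup.mk g : PGL₂)) m ∈ subRange K := by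
        rw [← hc]; exact ⟨m, hm, rfl⟩
      have := hnL.conj_mem _ (hle hmem) (ProjGenLinGroup.mk g : PGL₂)⁻¹
      refine hmL ?_
      simpa [MulAut.conj_apply, mul_assoc] using this
    · exact ho

include p hodd h4 in
theorem subfield_data (hM : IsCoatom M) (hL : ¬ pslRange F ≤ M)
    [Finite (M.map (ProjGenLinGroup.map (algebraMap F (AlgebraicClosure F))))]
    [CharP (AlgebraicClosure F) p]
    (hS : SubfieldData (M.map (ProjGenLinGroup.map (algebraMap F (AlgebraicClosure F)))) p) :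
    ∃ (K : Subfield F) (g : GL (Fin 2) F), 3 ≤ Nat.card K ∧
      M.map (MulAut.conj (ProjGenLinGroup.mk g : PGL₂)).toMonoidHom = subRange K := by
  have hp2 := char_ne_two p hodd
  have hp := (Fact.out : p.Prime)
  set f := algebraMap F (AlgebraicClosure F)
  set φ := ProjGenLinGroup.map (n := Fin 2) f
  have hφ : Function.Injective φ := pglMap_injective f
  obtain ⟨K, h, hKfin, hcase⟩ := exists_subfield hS
  have hK3 : 3 ≤ Nat.card K := by
    classical
    have : Fintype K := Fintype.ofFinite K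
    have : CharP K p := (RingHom.charP_iff (K.subtype) K.subtype.injective p).2 inferInstance
    obtain ⟨n, hn1, hn⟩ := exists_char_pow (F := K) p
    rw [Nat.card_eq_fintype_card, hn]
    calc 3 ≤ p := by have := hp.two_le; omega
      _ ≤ p ^ n := Nat.le_self_pow (by omega) p
  rcases hcase with hc | ⟨-, hc⟩
  swap
  · exfalso
    let ψ : M ≃* ProjectiveSpecialLinearGroup (Fin 2) K :=
      (((M.equivMapOfInjective φ hφ).trans
        ((M.map φ).equivMapOfInjective (MulAut.conj h).toMonoidHom (MulAut.conj h).injective)).trans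
        (MulEquiv.subgroupCongr hc)).trans (MonoidHom.ofInjective (mapPSL_injective K)).symm
    exact psl_no_index_two hK3 _ (index_two_of_mulEquiv ψ.symm (index_in hodd (exists_outside hodd hL hM)))
  -- the conjugating element comes from `F`
  have hmemM : ∀ x ∈ (mapPGL K).range, x ^ p = 1 →
      x ∈ (M.comap ι₂).map ((MulAut.conj h).toMonoidHom.comp (φ.comp ι₂)) := by
    intro x hx hxp
    rw [← hc] at hx
    obtain ⟨_, ⟨m, hm, rfl⟩, rfl⟩ := hx
    have hmp : m ^ p = 1 := by
      refine hφ ((MulAut.conj h).injective ?_)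
      rw [map_pow, map_pow, map_one, map_one]
      exact hxp
    obtain ⟨y, rfl⟩ := mem_pslRange_of_pow (hp.odd_of_ne_two hp2) hmp
    exact ⟨y, hm, rfl⟩
  have h11 : aff (1 : (AlgebraicClosure F)ˣ) 1 ∈ (mapPGL K).range :=
    aff_mem_range K (by simp [K.one_mem]) K.one_mem
  have hU := hmemM _ h11 (aff_pow_char p 1)
  have hV := hmemM (low (AlgebraicClosure F))
    (swp_conj_aff (L := AlgebraicClosure F) ▸ (mapPGL K).range.mul_mem
      ((mapPGL K).range.mul_mem (swp_mem_range K (by simp [K.one_mem])) h11)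
      ((mapPGL K).range.inv_mem (swp_mem_range K (by simp [K.one_mem]))))
    (by rw [← swp_conj_aff, conj_pow, aff_pow_char p, mul_one, mul_inv_cancel])
  obtain ⟨g, rfl⟩ := exists_descend f h hU hV
  set M' := M.map (MulAut.conj (ProjGenLinGroup.mk g : PGL₂)).toMonoidHom with hM'
  have hMc : M'.map φ = (mapPGL K).range := by
    rw [← hc, hM', Subgroup.map_map, Subgroup.map_map]
    congr 1
    ext x
    simp [φ, MulAut.conj_apply]
  have hKr : ∀ k ∈ K, ∃ y : F, f y = k := by
    intro k hk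
    have : aff (1 : (AlgebraicClosure F)ˣ) k ∈ M'.map φ := hMc ▸ aff_mem_range K (by simp [K.one_mem]) hk
    obtain ⟨m, -, hm⟩ := this
    have e : ptMap f (m • pt (0 : F)) = pt k := by
      rw [ptMap_smul, ptMap_pt, map_zero]
      show φ m • _ = _
      rw [hm, aff_smul_pt, mul_zero, zero_add]
    rcases eq_inf_or_pt (m • pt (0 : F)) with e' | ⟨y, e'⟩ <;> rw [e'] at e
    · rw [ptMap_inf] at e
      exact absurd e.symm (pt_ne_inf k)
    · rw [ptMap_pt] at e
      exact ⟨y, pt_injective e⟩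
  let K' : Subfield F := K.comap f
  let j : K' →+* K :=
    { toFun := fun x => ⟨f x, x.2⟩
      map_one' := Subtype.ext (map_one f)
      map_mul' := fun a b => Subtype.ext (map_mul f _ _)
      map_zero' := Subtype.ext (map_zero f)
      map_add' := fun a b => Subtype.ext (map_add f _ _) }
  have hjb : Function.Bijective j := by
    refine ⟨j.injective, fun k => ?_⟩
    obtain ⟨y, hy⟩ := hKr k k.2
    exact ⟨⟨y, show f y ∈ K from hy.symm ▸ k.2⟩, Subtype.ext hy⟩
  refine ⟨K', g, ?_, ?_⟩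
  · rw [Nat.card_eq_of_bijective j hjb]; exact hK3
  refine Subgroup.map_injective hφ ?_
  rw [hMc, MonoidHom.map_range]
  have e : φ.comp (ProjGenLinGroup.map K'.subtype) =
      (mapPGL K).comp (pglCongr (RingEquiv.ofBijective j hjb)).toMonoidHom := by
    refine MonoidHom.ext fun x => ?_
    show φ (ProjGenLinGroup.map K'.subtype x) = ProjGenLinGroup.map K.subtype (ProjGenLinGroup.map _ x)
    rw [pglMap_comp, pglMap_comp]
    rfl
  rw [e, MonoidHom.range_comp, MonoidHom.range_eq_map (mapPGL K)]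
  congr 1
  exact (MonoidHom.range_eq_top.2 (pglCongr (RingEquiv.ofBijective j hjb)).surjective).symm

include hodd h4 in
omit [Fact p.Prime] [CharP F p] in
/-- An `S₄` in `PGL₂` is conjugate to any `S₄` maximal subgroup. -/
theorem perm_four_eq (h2 : (2 : F) ≠ 0) (hM : IsCoatom M) (hL : ¬ pslRange F ≤ M)
    (ψ : M ≃* Equiv.Perm (Fin 4)) {j : Equiv.Perm (Fin 4) →* PGL₂} (hj : Function.Injective j) :
    ∃ g : GL (Fin 2) F, M = j.range.map (MulAut.conj (ProjGenLinGroup.mk g : PGL₂)).toMonoidHom := by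
  have hm := exists_outside hodd hL hM
  have hsq : ∀ x : alternatingGroup (Fin 4), ∃ y z, x = y ^ 2 * z ^ 2 := by decide +kernel
  have hlift : ∀ i : Equiv.Perm (Fin 4) →* PGL₂, Function.Injective i →
      ∃ e : alternatingGroup (Fin 4) →* PSL₂, Function.Injective e ∧ ∀ a, ι₂ (e a) = i a := by
    intro i hi
    have hmem : ∀ a : alternatingGroup (Fin 4), i a ∈ pslRange F := by
      intro a
      obtain ⟨y, z, rfl⟩ := hsq a
      rw [Subgroup.coe_mul, Subgroup.coe_pow, Subgroup.coe_pow, map_mul, map_pow, map_pow]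
      exact mul_mem (sq_mem_range_toPGL _) (sq_mem_range_toPGL _)
    let ω := MonoidHom.ofInjective (ProjectiveSpecialLinearGroup.toPGL_injective (n := Fin 2) (R := F))
    refine ⟨ω.symm.toMonoidHom.comp ((i.comp (alternatingGroup (Fin 4)).subtype).codRestrict (pslRange F) hmem),
      ω.symm.injective.comp fun a b h => Subtype.ext (hi (congrArg Subtype.val h)), fun a => ?_⟩
    show (ω (ω.symm ⟨i a, hmem a⟩) : PGL₂) = i a
    rw [MulEquiv.apply_symm_apply]
  obtain ⟨e, he, hea⟩ := hlift (M.subtype.comp ψ.symm.toMonoidHom) (M.subtype_injective.comp ψ.symm.injective)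
  obtain ⟨e₀, he₀, he₀a⟩ := hlift j hj
  have hHc : Nat.card (M.comap ι₂) = 12 := by
    have := card_eq hodd hm
    rw [Nat.card_congr ψ.toEquiv, natCard_perm_four] at this
    omega
  have hHe : e.range = M.comap ι₂ := by
    refine Subgroup.eq_of_le_of_card_ge ?_ (le_of_eq ?_)
    · rintro _ ⟨a, rfl⟩
      show ι₂ (e a) ∈ M
      rw [hea]
      exact (ψ.symm (a : Equiv.Perm (Fin 4))).2
    · rw [hHc, ← Nat.card_congr (MonoidHom.ofInjective he).toEquiv, natCard_alt_four]
  obtain ⟨g, θ, hg⟩ := conj_alt_four h2 e e₀ he he₀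
  refine ⟨g, (Subgroup.eq_of_le_of_card_ge ?_ (le_of_eq ?_)).symm⟩
  · rintro _ ⟨_, ⟨s, rfl⟩, rfl⟩
    refine mem_of_normalises hodd h4 hM hL (fun h => by rw [h, Subgroup.card_bot] at hHc; omega) ?_
    rintro _ hxM ⟨y, rfl⟩
    have hy : y ∈ e.range := hHe ▸ hxM
    obtain ⟨a, rfl⟩ := hy
    have hn : (alternatingGroup (Fin 4)).Normal := inferInstance
    have hs : s * (θ a : Equiv.Perm (Fin 4)) * s⁻¹ ∈ alternatingGroup (Fin 4) := hn.conj_mem _ (θ a).2 s
    have hmem : ι₂ (e (θ.symm ⟨_, hs⟩)) ∈ M := by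
      have : e (θ.symm ⟨_, hs⟩) ∈ M.comap ι₂ := hHe ▸ ⟨_, rfl⟩
      exact this
    rw [hg, MulEquiv.apply_symm_apply, toPGL_pslConj, he₀a] at hmem
    rw [hg, toPGL_pslConj, he₀a]
    show ProjGenLinGroup.mk g * j s * (ProjGenLinGroup.mk g)⁻¹ * _ *
      (ProjGenLinGroup.mk g * j s * (ProjGenLinGroup.mk g)⁻¹)⁻¹ ∈ M
    convert hmem using 1
    simp only [map_mul, map_inv]
    group
  · rw [Subgroup.card_map_of_injective (MulAut.conj _).injective,
      ← Nat.card_congr (MonoidHom.ofInjective hj).toEquiv, Nat.card_congr ψ.toEquiv]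

include p hodd h4 in
theorem perm_four_case (hM : IsCoatom M) (hL : ¬ pslRange F ≤ M) (ψ : M ≃* Equiv.Perm (Fin 4)) :
    (Fintype.card F = p ∧ (p % 8 = 3 ∨ p % 8 = 5)) ∨
    ∃ (K : Subfield F) (g : GL (Fin 2) F), 3 ≤ Nat.card K ∧
      M.map (MulAut.conj (ProjGenLinGroup.mk g : PGL₂)).toMonoidHom = subRange K := by
  have hp := (Fact.out : p.Prime)
  have hp2 := char_ne_two p hodd
  have h2 := two_ne_zero_of_char (F := F) p hp2
  obtain ⟨f, hf, hqf⟩ := exists_char_pow (F := F) p
  obtain ⟨m, hm, hmL⟩ := exists_outside hodd hL hM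
  have h8 : ¬ (Fintype.card F % 8 = 1 ∨ Fintype.card F % 8 = 7) := by
    intro h
    obtain ⟨S, ⟨φ⟩⟩ := (perm_four_iff (F := F) rfl).2 (sixteen_of_mod h)
    obtain ⟨g, hg⟩ := perm_four_eq hodd h4 h2 hM hL ψ
      (j := (ι₂).comp (S.subtype.comp φ.symm.toMonoidHom))
      (ProjectiveSpecialLinearGroup.toPGL_injective.comp (S.subtype_injective.comp φ.symm.injective))
    rw [hg] at hm
    obtain ⟨_, ⟨s, rfl⟩, rfl⟩ := hm
    exact hmL ((Subgroup.normal_of_index_eq_two (index_pslRange (F := F) hodd)).conj_mem _ ⟨_, rfl⟩ _)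
  by_cases hf1 : f = 1
  · subst hf1
    rw [pow_one] at hqf
    refine Or.inl ⟨hqf, ?_⟩
    rw [hqf] at h8
    have := Nat.odd_iff.1 (hp.odd_of_ne_two hp2)
    omega
  right
  obtain ⟨K, hK⟩ := exists_subfield_card (F := F) p (l := 1) (m := f) one_ne_zero hf (by rw [pow_one, hqf])
  rw [pow_one] at hK
  have : Fintype K := Fintype.ofFinite K
  obtain ⟨a, b, hab⟩ := exists_sq_add_sq_eq_neg_one (F := K)
  have h2K : (2 : K) ≠ 0 := fun h =>
    h2 ((map_ofNat K.subtype 2).symm.trans ((congrArg K.subtype h).trans (map_zero _)))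
  obtain ⟨j₀, hj₀⟩ := exists_perm_four_mob hab h2K
  obtain ⟨g, hg⟩ := perm_four_eq hodd h4 h2 hM hL ψ (j := (ProjGenLinGroup.map K.subtype).comp j₀)
    ((pglMap_injective _).comp hj₀)
  have hle : M.map (MulAut.conj (ProjGenLinGroup.mk g : PGL₂)⁻¹).toMonoidHom ≤ subRange K := by
    rw [hg, Subgroup.map_map]
    rintro _ ⟨_, ⟨s, rfl⟩, rfl⟩
    refine ⟨j₀ s, ?_⟩
    simp [MulAut.conj_apply, mul_assoc]
  have hM' : IsCoatom (M.map (MulAut.conj (ProjGenLinGroup.mk g : PGL₂)⁻¹).toMonoidHom) :=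
    ((MulAut.conj (ProjGenLinGroup.mk g : PGL₂)⁻¹).mapSubgroup.isCoatom_iff M).2 hM
  refine ⟨K, g⁻¹, by rw [hK]; have := hp.two_le; omega, ?_⟩
  rw [map_inv]
  rcases hM'.le_iff.1 hle with h | h
  · exfalso
    have := congrArg (fun S : Subgroup PGL₂ => Nat.card S) h
    simp only [card_subRange, Subgroup.card_top, card_pgl, hK] at this
    have hlt : p < Fintype.card F := by
      rw [hqf]
      calc p = p ^ 1 := (pow_one _).symm
        _ < p ^ f := Nat.pow_lt_pow_right hp.one_lt (by omega)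
    have := pgl_card_strict_mono hp.two_le hlt
    omega
  · exact h.symm

include p hodd h4 in
/-- The maximal subgroups of `PGL₂(q)` not containing `PSL₂(q)`. -/
theorem classify (hM : IsCoatom M) (hL : ¬ pslRange F ≤ M) :
    (∃ x₀ : ℙ F (Fin 2 → F), M = MulAction.stabilizer PGL₂ x₀) ∨
    (∃ n, ((n = Fintype.card F - 1 ∧ Fintype.card F ≠ 5) ∨ n = Fintype.card F + 1) ∧
      Nonempty (M ≃* DihedralGroup n)) ∨
    (Fintype.card F = p ∧ (p % 8 = 3 ∨ p % 8 = 5) ∧ Nonempty (M ≃* Equiv.Perm (Fin 4))) ∨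
    (∃ (K : Subfield F) (g : GL (Fin 2) F) (j : ℕ), 3 ≤ Nat.card K ∧ j.Prime ∧ Odd j ∧
      Nat.card K ^ j = Fintype.card F ∧
      M.map (MulAut.conj (ProjGenLinGroup.mk g : PGL₂)).toMonoidHom = subRange K) := by
  classical
  have hm := exists_outside hodd hL hM
  let L := AlgebraicClosure F
  have : CharP L p := charP_of_injective_algebraMap (algebraMap F L).injective p
  let φ := ProjGenLinGroup.map (n := Fin 2) (algebraMap F L)
  let ε : M ≃* M.map φ := M.equivMapOfInjective φ (pglMap_injective _)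
  have : Finite (M.map φ) := Finite.of_equiv M ε.toEquiv
  have hcard : Nat.card (M.map φ) = Nat.card M := (Nat.card_congr ε.toEquiv).symm
  have hsub : (∃ (K : Subfield F) (g : GL (Fin 2) F), 3 ≤ Nat.card K ∧
      M.map (MulAut.conj (ProjGenLinGroup.mk g : PGL₂)).toMonoidHom = subRange K) →
      ∃ (K : Subfield F) (g : GL (Fin 2) F) (j : ℕ), 3 ≤ Nat.card K ∧ j.Prime ∧ Odd j ∧
        Nat.card K ^ j = Fintype.card F ∧
        M.map (MulAut.conj (ProjGenLinGroup.mk g : PGL₂)).toMonoidHom = subRange K := by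
    rintro ⟨K, g, hK3, hc⟩
    obtain ⟨j, hj, hjo, hjF⟩ := subfield_degree p hodd h4 hM hL hK3 hc
    exact ⟨K, g, j, hK3, hj, hjo, hjF, hc⟩
  rcases structure_cases (G := M.map φ) (p := p) with
      ⟨hC, hp⟩ | ⟨hp, x, hx⟩ | ⟨n, hn, hpn, -, ⟨ψ⟩⟩ | ⟨⟨ψ⟩⟩ | ⟨⟨ψ⟩⟩ | ⟨⟨ψ⟩⟩ | hs
  · exact (not_cyclic p hodd h4 hM hm (ε.isCyclic.2 hC) (hcard ▸ hp)).elim
  · exact Or.inl (fixed_case p hodd h4 hM (hcard ▸ hp) (x := x) fun g hg => hx ⟨φ g, g, hg, rfl⟩)
  · exact Or.inr (Or.inl ⟨n, dihedral_case p hodd h4 hM hL hn hpn (ε.trans ψ), ⟨ε.trans ψ⟩⟩)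
  · exact absurd (index_two_of_mulEquiv (ε.trans ψ).symm (index_in hodd hm)) (alt_four_no_index_two _)
  · rcases perm_four_case p hodd h4 hM hL (ε.trans ψ) with ⟨h1, h2⟩ | h
    · exact Or.inr (Or.inr (Or.inl ⟨h1, h2, ⟨ε.trans ψ⟩⟩))
    · exact Or.inr (Or.inr (Or.inr (hsub h)))
  · have := alternatingGroup.isSimpleGroup_five
    exact absurd (index_two_of_mulEquiv (ε.trans ψ).symm (index_in hodd hm))
      (simple_no_index_two (by rw [natCard_alt_five]; norm_num) _)
  · exact Or.inr (Or.inr (Or.inr (hsub (subfield_data p hodd h4 hM hL hs))))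

end facts

end CfsgLib.Geo.PGLTwo
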