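/-
The maximal subgroups of `PGL(2, q)`: types, and their intersections with `PSL(2, q)`.
-/
import Cfsg.Agent.Lib.Geo.PGLTwoClassify

set_option autoImplicit false

namespace CfsgLib.Geo.PGLTwo

open Matrix
open CfsgLib.Classical CfsgLib.Classical.Dickson
open scoped LinearAlgebra.Projectivization MatrixGroups

variable {F : Type*} [Field F] [Fintype F]

local notation "PSL₂" => ProjectiveSpecialLinearGroup (Fin 2) F
local notation "PGL₂" => ProjGenLinGroup (Fin 2) F
local notation "ι₂" => ProjectiveSpecialLinearGroup.toPGL (n := Fin 2) (R := F)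

theorem card_stabilizer_pgl (x : ℙ F (Fin 2 → F)) :
    Nat.card (MulAction.stabilizer PGL₂ x) = Fintype.card F * (Fintype.card F - 1) := by
  have ht := isPretransitive_psl (F := F)
  have ho : MulAction.orbit PGL₂ x = Set.univ := Set.eq_univ_of_forall fun y => by
    obtain ⟨g, hg⟩ := MulAction.exists_smul_eq PSL₂ x y
    exact ⟨ι₂ g, (psl_smul g x).trans hg⟩
  have hi : (MulAction.stabilizer PGL₂ x).index = Fintype.card F + 1 := by
    rw [MulAction.index_stabilizer, ho, Set.ncard_univ, Two.card_line]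
  have h := (MulAction.stabilizer PGL₂ x).card_mul_index
  rw [hi, card_pgl] at h
  refine Nat.eq_of_mul_eq_mul_right (Nat.succ_pos (Fintype.card F)) (h.trans ?_)
  have e : Fintype.card F ^ 2 - 1 = (Fintype.card F + 1) * (Fintype.card F - 1) := by
    rw [← Nat.sq_sub_sq, one_pow]
  rw [e, Nat.succ_eq_add_one]
  ring

theorem types (hodd : Odd (Fintype.card F)) (h3 : 3 < Fintype.card F) (M : Subgroup PGL₂) (hM : IsCoatom M)
    (hL : ¬ pslRange F ≤ M) :
    Nat.card M = Fintype.card F * (Fintype.card F - 1) ∨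
    (Fintype.card F ≠ 5 ∧ Nonempty (M ≃* DihedralGroup (Fintype.card F - 1))) ∨
    Nonempty (M ≃* DihedralGroup (Fintype.card F + 1)) ∨
    ((Fintype.card F).Prime ∧ (Fintype.card F % 8 = 3 ∨ Fintype.card F % 8 = 5) ∧ Nonempty (M ≃* Equiv.Perm (Fin 4))) ∨
    (∃ (F₀ : Type) (_ : Field F₀) (_ : Fintype F₀) (r : ℕ), r.Prime ∧ Odd r ∧ Fintype.card F = Fintype.card F₀ ^ r ∧
        Nonempty (M ≃* ProjGenLinGroup (Fin 2) F₀)) := by
  obtain ⟨p, hp⟩ := CharP.exists F
  have : Fact p.Prime := ⟨CharP.char_is_prime F p⟩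
  rcases classify p hodd h3 hM hL with ⟨x₀, rfl⟩ | ⟨n, hn, ψ⟩ | ⟨hq, h8, ψ⟩ | ⟨K, g, j, -, hj, hjo, hjF, hc⟩
  · exact Or.inl (card_stabilizer_pgl x₀)
  · rcases hn with ⟨rfl, h5⟩ | rfl
    · exact Or.inr (Or.inl ⟨h5, ψ⟩)
    · exact Or.inr (Or.inr (Or.inl ψ))
  · exact Or.inr (Or.inr (Or.inr (Or.inl ⟨hq ▸ (Fact.out : p.Prime), by rw [hq]; exact h8, ψ⟩)))
  · obtain ⟨F₀, i₁, i₂, hc₀, ⟨e⟩⟩ := exists_small_field (K := K)
    refine Or.inr (Or.inr (Or.inr (Or.inr ⟨F₀, i₁, i₂, j, hj, hjo, by rw [hc₀, hjF], ⟨?_⟩⟩)))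
    exact (((M.equivMapOfInjective _ (MulAut.conj (ProjGenLinGroup.mk g : PGL₂)).injective).trans
      (MulEquiv.subgroupCongr hc)).trans (MonoidHom.ofInjective (pglMap_injective K.subtype)).symm).trans
      (pglCongr e).symm

theorem isCoatom_stabilizer_psl (x : ℙ F (Fin 2 → F)) : IsCoatom (MulAction.stabilizer PSL₂ x) := by
  have h2 : MulAction.IsMultiplyPretransitive SL(2, F) (ℙ F (Fin 2 → F)) 2 := inferInstance
  have := MulAction.isPreprimitive_of_is_two_pretransitive h2
  have : Nontrivial (ℙ F (Fin 2 → F)) := Finite.one_lt_card_iff_nontrivial.1 (by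
    rw [Two.card_line]; have := Fintype.one_lt_card (α := F); omega)
  have hS := MulAction.IsPreprimitive.isCoatom_stabilizer_of_isPreprimitive (G := SL(2, F)) x
  let π : SL(2, F) →* PSL₂ := QuotientGroup.mk' _
  have hπ : Function.Surjective π := QuotientGroup.mk'_surjective _
  have hcomap : (MulAction.stabilizer PSL₂ x).comap π = MulAction.stabilizer SL(2, F) x := by
    ext A
    simp only [Subgroup.mem_comap, MulAction.mem_stabilizer_iff]
    exact Iff.rfl
  refine ⟨fun h => hS.1 ?_, fun N hN => Subgroup.comap_injective hπ ?_⟩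
  · rw [← hcomap, h, Subgroup.comap_top]
  · rw [Subgroup.comap_top]
    exact hS.2 _ (hcomap ▸ lt_of_le_of_ne (Subgroup.comap_mono hN.le) fun e => hN.ne (Subgroup.comap_injective hπ e))

theorem orderOf_alt_five_le (g : alternatingGroup (Fin 5)) : orderOf g ≤ 5 := by
  rcases (by decide +kernel : ∀ g : alternatingGroup (Fin 5), g ^ 3 = 1 ∨ g ^ 4 = 1 ∨ g ^ 5 = 1) g with h | h | h <;>
    exact (orderOf_le_of_pow_eq_one (by norm_num) h).trans (by norm_num)

theorem orderOf_perm_four_le (g : Equiv.Perm (Fin 4)) : orderOf g ≤ 4 := by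
  rcases (by decide +kernel : ∀ g : Equiv.Perm (Fin 4), g ^ 3 = 1 ∨ g ^ 4 = 1) g with h | h <;>
    exact (orderOf_le_of_pow_eq_one (by norm_num) h).trans (by norm_num)

theorem orderOf_small_pgl {F₀ : Type} [Field F₀] [Fintype F₀] (h : Odd (Fintype.card F₀))
    (g : ProjGenLinGroup (Fin 2) F₀) : orderOf g ≤ Fintype.card F₀ + 1 := by
  obtain ⟨p, hp⟩ := CharP.exists F₀
  have : Fact p.Prime := ⟨CharP.char_is_prime F₀ p⟩
  exact orderOf_le p (char_ne_two p h) g

section meets

variable (p : ℕ) [Fact p.Prime] [CharP F p] (hodd : Odd (Fintype.card F)) {M : Subgroup (ProjGenLinGroup (Fin 2) F)}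

include p hodd in
theorem dihedral_meets (h4 : 4 ≤ Fintype.card F) (h7 : Fintype.card F ≠ 7) (h9 : Fintype.card F ≠ 9)
    (h11 : Fintype.card F ≠ 11) (hm : ∃ m ∈ M, m ∉ pslRange F) (hne : M.comap ι₂ ≠ ⊤) {n : ℕ}
    (hn : (n = Fintype.card F - 1 ∧ Fintype.card F ≠ 5) ∨ n = Fintype.card F + 1) (ψ : M ≃* DihedralGroup n) :
    IsCoatom (M.comap ι₂) := by
  set q := Fintype.card F with hq
  have hodd' := Nat.odd_iff.1 hodd
  have hq5 : q = 5 ∨ 13 ≤ q := by
    have : ¬ q = 6 ∧ ¬ q = 8 ∧ ¬ q = 10 ∧ ¬ q = 12 := by omega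
    omega
  set H := M.comap ι₂ with hH
  have hHn : Nat.card H = n := by
    have : Nat.card M = 2 * Nat.card H := card_eq hodd hm
    rw [Nat.card_congr ψ.toEquiv, DihedralGroup.nat_card] at this
    omega
  obtain ⟨k, rfl⟩ : ∃ k, n = 2 * k := ⟨n / 2, by omega⟩
  obtain ⟨c, hcH, hck⟩ : ∃ c ∈ H, orderOf c = k := by
    have : NeZero (2 * k) := ⟨by omega⟩
    obtain ⟨y, hy⟩ := sq_mem_range_toPGL ((ψ.symm (DihedralGroup.r 1) : M) : PGL₂)
    refine ⟨y, ?_, ?_⟩
    · show ι₂ y ∈ M
      rw [hy]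
      exact pow_mem (ψ.symm (DihedralGroup.r 1)).2 2
    · have : Fact (1 < 2 * k) := ⟨by omega⟩
      rw [← orderOf_injective _ ProjectiveSpecialLinearGroup.toPGL_injective y, hy,
        orderOf_pow' _ two_ne_zero, Subgroup.orderOf_coe, ψ.symm.orderOf_eq, DihedralGroup.orderOf_r_one,
        Nat.gcd_eq_right (Dvd.intro k rfl), Nat.mul_div_cancel_left _ two_pos]
  obtain ⟨N, hN, hHN⟩ : ∃ N, IsCoatom N ∧ H ≤ N := (eq_top_or_exists_le_coatom H).resolve_left hne
  suffices hle : Nat.card N ≤ 2 * k by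
    rwa [Subgroup.eq_of_le_of_card_ge hHN (hle.trans hHn.ge)]
  have hdvd : 2 * k ∣ Nat.card N := hHn ▸ Subgroup.card_dvd_of_le hHN
  have hord : ∀ {Γ : Type} [Group Γ] (φ : N ≃* Γ), ∃ γ : Γ, orderOf γ = k := fun φ =>
    ⟨φ ⟨c, hHN hcH⟩, by rw [φ.orderOf_eq, Subgroup.orderOf_mk, hck]⟩
  rcases odd_cases p hodd (by omega) N hN with h | ⟨h13, k', hk', ⟨φ⟩⟩ | ⟨-, -, k', hk', ⟨φ⟩⟩ |
      ⟨F₀, i₁, i₂, h0, ⟨φ⟩⟩ | ⟨F₀, i₁, i₂, r, hr, hro, h0, ⟨φ⟩⟩ | ⟨h10, -, ⟨φ⟩⟩ | ⟨-, -, -, ⟨φ⟩⟩ |
      ⟨hqp, h8, ⟨φ⟩⟩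
  · exfalso
    obtain ⟨t, ht⟩ := hdvd
    rw [ht, ← hq] at h
    rcases hn with ⟨e, -⟩ | e <;> rw [e] at h
    · have : 2 * t = q := Nat.eq_of_mul_eq_mul_left (show 0 < q - 1 by omega) (by linarith [h])
      omega
    · obtain ⟨s, hs⟩ : ∃ s, q = s + 2 := ⟨q - 2, by omega⟩
      rw [hs, show s + 2 - 1 = s + 1 by omega] at h
      have h1 : (s + 3) ∣ (s + 3) * s + 2 := ⟨2 * t, by linarith [h]⟩
      rw [Nat.dvd_add_right (dvd_mul_right _ _)] at h1
      have := Nat.le_of_dvd two_pos h1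
      omega
  · rw [Nat.card_congr φ.toEquiv, DihedralGroup.nat_card, hk', ← hq] at hdvd ⊢
    have := Nat.le_of_dvd (by omega) hdvd
    omega
  · rw [Nat.card_congr φ.toEquiv, DihedralGroup.nat_card, hk', ← hq] at hdvd ⊢
    rcases hn with ⟨e, -⟩ | e
    · exfalso
      rw [e] at hdvd
      obtain ⟨t, ht⟩ := hdvd
      rcases Nat.lt_or_ge t 2 with h | h
      · interval_cases t <;> omega
      · have := Nat.mul_le_mul_left (q - 1) h
        omega
    · omega
  · exfalso
    obtain ⟨γ, hγ⟩ := hord φ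
    have h0o : Odd (Fintype.card F₀) := by
      rw [← hq] at h0; rw [h0] at hodd; exact (Nat.odd_pow_iff two_ne_zero).1 hodd
    have h1 := orderOf_small_pgl h0o γ
    have hk1 : q - 1 ≤ 2 * k := by omega
    rw [← hq] at h0
    have : 4 ≤ Fintype.card F₀ ∨ q ≤ 9 := by
      by_contra hc
      push Not at hc
      have := Nat.pow_le_pow_left (Nat.le_of_lt_succ hc.1) 2
      omega
    rcases this with h4' | h4'
    · have : 4 * Fintype.card F₀ ≤ q := by rw [h0, pow_two]; exact Nat.mul_le_mul_right _ h4'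
      omega
    · have : q = 5 := by omega
      rcases Nat.lt_or_ge (Fintype.card F₀) 3 with h' | h'
      · interval_cases (Fintype.card F₀) <;> omega
      · have := Nat.pow_le_pow_left h' 2
        omega
  · exfalso
    obtain ⟨γ, hγ⟩ := hord φ
    rw [← hq] at h0
    have h0o : Odd (Fintype.card F₀) := by
      have := hodd
      rw [h0] at this
      exact (Nat.odd_pow_iff hr.ne_zero).1 this
    have h1 := orderOf_small_pgl h0o (ProjectiveSpecialLinearGroup.toPGL γ)
    rw [orderOf_injective _ ProjectiveSpecialLinearGroup.toPGL_injective, hγ] at h1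
    have h03 : 3 ≤ Fintype.card F₀ := by
      have := Fintype.one_lt_card (α := F₀)
      have := Nat.odd_iff.1 h0o
      omega
    have h9' : 9 * Fintype.card F₀ ≤ q := by
      rw [h0]
      refine le_trans ?_ (Nat.pow_le_pow_right (by omega) (show 3 ≤ r by
        have := hr.two_le; have := Nat.odd_iff.1 hro; omega))
      calc 9 * Fintype.card F₀ ≤ Fintype.card F₀ ^ 2 * Fintype.card F₀ :=
            Nat.mul_le_mul_right _ (by simpa using Nat.pow_le_pow_left h03 2)
        _ = Fintype.card F₀ ^ 3 := (pow_succ _ 2).symm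
    omega
  · exfalso
    obtain ⟨γ, hγ⟩ := hord φ
    have := orderOf_alt_five_le γ
    omega
  · rcases hq5 with h5 | h13
    · exfalso
      have hk : k = 3 := by omega
      have h12 : Nat.card N = 12 := card_of_equiv φ natCard_alt_four
      have hidx : (H.subgroupOf N).index = 2 := by
        have h := (H.subgroupOf N).card_mul_index
        rw [Nat.card_congr (Subgroup.subgroupOfEquivOfLe hHN).toEquiv, hHn, h12, hk] at h
        omega
      exact alt_four_no_index_two _ (index_two_of_mulEquiv φ.symm hidx)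
    · exfalso
      obtain ⟨γ, hγ⟩ := hord φ
      have := orderOf_perm_four_le γ
      rw [Subgroup.orderOf_coe] at this
      omega
  · exfalso
    obtain ⟨γ, hγ⟩ := hord φ
    have := orderOf_perm_four_le γ
    rw [← hq] at hqp
    omega

include p hodd in
theorem perm_four_meets (hq : Fintype.card F = p) (h5 : 5 ≤ p) (h8 : p % 8 = 3 ∨ p % 8 = 5)
    (h40 : p % 40 ∉ ({11, 19, 21, 29} : Finset ℕ)) (hm : ∃ m ∈ M, m ∉ pslRange F) (ψ : M ≃* Equiv.Perm (Fin 4)) :
    IsCoatom (M.comap ι₂) := by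
  have hp2 := char_ne_two p hodd
  simp only [Finset.mem_insert, Finset.mem_singleton, not_or] at h40
  obtain ⟨H₀, hH₀, ⟨φ₀⟩⟩ := alt_four_maximal (F := F) p hq h5 h8 (by omega)
  set H := M.comap ι₂
  let f : H →* Equiv.Perm (Fin 4) := ψ.toMonoidHom.comp
    (((ι₂).comp H.subtype).codRestrict M fun x => x.2)
  have hf : Function.Injective f := ψ.injective.comp fun a b h =>
    Subtype.ext (ProjectiveSpecialLinearGroup.toPGL_injective (congrArg Subtype.val h))
  have hHc : Nat.card H = 12 := by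
    have : Nat.card M = 2 * Nat.card H := card_eq hodd hm
    rw [Nat.card_congr ψ.toEquiv, natCard_perm_four] at this
    omega
  have hrange : f.range = alternatingGroup (Fin 4) := by
    refine Equiv.Perm.eq_alternatingGroup_of_index_eq_two ?_
    have h := f.range.card_mul_index
    rw [← Nat.card_congr (MonoidHom.ofInjective hf).toEquiv, hHc, natCard_perm_four] at h
    omega
  let φ : H ≃* alternatingGroup (Fin 4) := (MonoidHom.ofInjective hf).trans (MulEquiv.subgroupCongr hrange)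
  obtain ⟨g, θ, hg⟩ := conj_alt_four (two_ne_zero_of_char p hp2) (H.subtype.comp φ.symm.toMonoidHom)
    (H₀.subtype.comp φ₀.symm.toMonoidHom) (H.subtype_injective.comp φ.symm.injective)
    (H₀.subtype_injective.comp φ₀.symm.injective)
  have hle : H ≤ H₀.map (pslConj g).toMonoidHom := fun x hx =>
    ⟨φ₀.symm (θ (φ ⟨x, hx⟩)), SetLike.coe_mem _, by
      have := hg (φ ⟨x, hx⟩)
      simp only [MonoidHom.comp_apply, MulEquiv.coe_toMonoidHom, MulEquiv.symm_apply_apply,
        Subgroup.subtype_apply] at this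
      exact this.symm⟩
  rw [Subgroup.eq_of_le_of_card_ge hle (by
    rw [card_map_pslConj, card_of_equiv φ₀ natCard_alt_four, hHc])]
  exact ((pslConj g).mapSubgroup.isCoatom_iff H₀).2 hH₀

include p in
theorem subfield_meets {K : Subfield F} {g : GL (Fin 2) F} {j : ℕ} (hK3 : 3 ≤ Nat.card K) (hj : j.Prime)
    (hjF : Nat.card K ^ j = Fintype.card F)
    (hc : M.map (MulAut.conj (ProjGenLinGroup.mk g : PGL₂)).toMonoidHom = subRange K) :
    IsCoatom (M.comap ι₂) := by
  have e : (M.comap ι₂).map (pslConj g).toMonoidHom = pglImage K.subtype := by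
    ext x
    constructor
    · rintro ⟨y, hy, rfl⟩
      show ι₂ (pslConj g y) ∈ subRange K
      rw [← hc, toPGL_pslConj]
      exact ⟨ι₂ y, hy, rfl⟩
    · intro hx
      have hx' : ι₂ x ∈ subRange K := hx
      rw [← hc] at hx'
      obtain ⟨m, hm, hmx⟩ := hx'
      refine ⟨(pslConj g).symm x, ?_, (pslConj g).apply_symm_apply x⟩
      show ι₂ _ ∈ M
      have : ι₂ ((pslConj g).symm x) = m := by
        refine (MulAut.conj (ProjGenLinGroup.mk g : PGL₂)).injective ?_
        rw [MulAut.conj_apply, ← toPGL_pslConj, MulEquiv.apply_symm_apply]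
        exact hmx.symm
      rwa [this]
  have h := pglImage_maximal p (K := K) rfl hK3 hj hjF
  rw [← e] at h
  exact ((pslConj g).mapSubgroup.isCoatom_iff _).1 h

end meets

theorem meets_maximally (h4 : 4 ≤ Fintype.card F) (h7 : Fintype.card F ≠ 7) (h9 : Fintype.card F ≠ 9)
    (h11 : Fintype.card F ≠ 11) (h40 : (Fintype.card F).Prime → Fintype.card F % 40 ∉ ({11, 19, 21, 29} : Finset ℕ))
    (M : Subgroup PGL₂) (hM : IsCoatom M) (hL : ¬ pslRange F ≤ M) :
    IsCoatom ((M ⊓ pslRange F).subgroupOf (pslRange F)) := by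
  suffices h : IsCoatom (M.comap ι₂) by
    let ω := MonoidHom.ofInjective (ProjectiveSpecialLinearGroup.toPGL_injective (n := Fin 2) (R := F))
    have e : (M ⊓ pslRange F).subgroupOf (pslRange F) = (M.comap ι₂).map ω.toMonoidHom := by
      ext z
      constructor
      · intro hz
        obtain ⟨y, rfl⟩ := ω.surjective z
        exact ⟨y, hz.1, rfl⟩
      · rintro ⟨y, hy, rfl⟩
        exact ⟨hy, (ω y).2⟩
    rw [e]
    exact (ω.mapSubgroup.isCoatom_iff _).2 h
  obtain ⟨p, hp⟩ := CharP.exists F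
  have : Fact p.Prime := ⟨CharP.char_is_prime F p⟩
  rcases Nat.even_or_odd (Fintype.card F) with he | hodd
  · have hsurj : Function.Surjective ι₂ := by
      refine ((Nat.bijective_iff_injective_and_card _).2 ⟨ProjectiveSpecialLinearGroup.toPGL_injective, ?_⟩).2
      have h := gcd_mul_card_psl (F := F) rfl
      rcases gcd_two_cases (q := Fintype.card F) Fintype.one_lt_card with ⟨e, -⟩ | ⟨-, e⟩
      · rwa [e, one_mul, ← card_pgl] at h
      · have := Nat.even_iff.1 he; omega
    refine ⟨fun h => hM.1 ?_, fun N hN => ?_⟩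
    · exact Subgroup.comap_injective hsurj (h.trans (Subgroup.comap_top _).symm)
    · have h1 : M < N.map ι₂ := by
        have := Subgroup.map_comap_eq_self_of_surjective hsurj M
        rw [← this]
        exact lt_of_le_of_ne (Subgroup.map_mono hN.le) fun e =>
          hN.ne (Subgroup.map_injective ProjectiveSpecialLinearGroup.toPGL_injective e)
      have h2 := hM.2 _ h1
      rw [← Subgroup.comap_map_eq_self_of_injective ProjectiveSpecialLinearGroup.toPGL_injective N, h2,
        Subgroup.comap_top]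
  have hm := exists_outside hodd hL hM
  rcases classify p hodd h4 hM hL with ⟨x₀, rfl⟩ | ⟨n, hn, ⟨ψ⟩⟩ | ⟨hq, h8, ⟨ψ⟩⟩ | ⟨K, g, j, hK3, hj, -, hjF, hc⟩
  · have e : (MulAction.stabilizer PGL₂ x₀).comap ι₂ = MulAction.stabilizer PSL₂ x₀ := by
      ext y
      simp only [Subgroup.mem_comap, MulAction.mem_stabilizer_iff, psl_smul]
    rw [e]
    exact isCoatom_stabilizer_psl x₀
  · refine dihedral_meets p hodd h4 h7 h9 h11 hm (fun h => hL ?_) hn ψ
    rintro _ ⟨y, rfl⟩
    exact (h ▸ Subgroup.mem_top y : y ∈ M.comap ι₂)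
  · refine perm_four_meets p hodd hq ?_ h8 ?_ hm ψ
    · have := Nat.odd_iff.1 hodd
      omega
    · have := h40 (hq ▸ (Fact.out : p.Prime))
      rwa [hq] at this
  · exact subfield_meets p hK3 hj hjF hc

end CfsgLib.Geo.PGLTwo
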