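/-
The pairs partition stabiliser in `A₈` lies in the affine group of `F₂³`.
-/
import Mathlib

namespace CfsgLib.Geo.PairsEight

open Equiv

/-- The block set. -/
abbrev B := ZMod 2 × ZMod 2
/-- The point set. -/
abbrev V := B × ZMod 2

/-- The affine group, as the permutations commuting with `a + b + c`. -/
def affine : Subgroup (Perm V) where
  carrier := {g | ∀ a b c : V, g (a + b + c) = g a + g b + g c}
  one_mem' := fun _ _ _ => rfl
  mul_mem' := fun {g h} hg hh a b c => by show g (h _) = _; rw [hh a b c]; exact hg _ _ _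
  inv_mem' := fun {g} hg a b c => by
    apply g.injective
    rw [hg]
    simp

set_option maxRecDepth 10000 in
theorem block_affine : ∀ σ : B → B, Function.Injective σ → ∀ i j k : B, σ (i + j + k) = σ i + σ j + σ k := by
  decide

set_option maxRecDepth 10000 in
theorem flip_affine : ∀ ε : B → ZMod 2, ε (0,0) + ε (0,1) + ε (1,0) + ε (1,1) = 0 →
    ∀ i j k : B, ε (i + j + k) = ε i + ε j + ε k := by
  decide

theorem sign_addRight : ∀ e : ZMod 2, Perm.sign (Equiv.addRight e) = (-1) ^ e.val := by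
  decide

/-- An even permutation preserving the pairs is affine. -/
theorem mem_affine (g : Perm V) (hg : ∀ x y : V, x.1 = y.1 ↔ (g x).1 = (g y).1) (hs : Perm.sign g = 1) :
    g ∈ affine := by
  let σ : B → B := fun i => (g (i, 0)).1
  have h1 : ∀ x : V, (g x).1 = σ x.1 := fun x => (hg x (x.1, 0)).1 rfl
  have hσ : Function.Injective σ := fun i j h => (hg (i, 0) (j, 0)).2 h
  let ε : B → ZMod 2 := fun i => (g (i, 0)).2
  have h2 : ∀ x : V, (g x).2 = x.2 + ε x.1 := by
    rintro ⟨i, b⟩
    have key : ∀ b u v : ZMod 2, (b = 0 → u = v) → (b ≠ 0 → u ≠ v) → u = b + v := by decide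
    refine key b _ (ε i) (fun h => by subst h; rfl) (fun h he => h ?_)
    have := g.injective (Prod.ext ((hg (i, b) (i, 0)).1 rfl) he)
    exact congrArg Prod.snd this
  let s : Perm B := Equiv.ofBijective σ (Finite.injective_iff_bijective.1 hσ)
  have hdec : g = Equiv.prodCongrLeft (fun _ : ZMod 2 => s) * Equiv.prodCongrRight (fun i : B => Equiv.addRight (ε i)) := by
    ext1 x
    obtain ⟨i, b⟩ := x
    refine Prod.ext ?_ ?_
    · rw [h1]; rfl
    · rw [h2]; rfl
  have hsum : ε (0,0) + ε (0,1) + ε (1,0) + ε (1,1) = 0 := by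
    rw [hdec, Perm.sign_mul, Perm.sign_prodCongrLeft, Perm.sign_prodCongrRight, Finset.prod_const,
      Finset.card_univ, ZMod.card, Int.units_sq, one_mul,
      Fintype.prod_prod_type] at hs
    have two : ∀ f : ZMod 2 → ℤˣ, ∏ x, f x = f 0 * f 1 := Fin.prod_univ_two
    simp only [two, sign_addRight] at hs
    revert hs
    have key : ∀ a b c d : ZMod 2, ((-1 : ℤˣ) ^ a.val * (-1) ^ b.val) * ((-1) ^ c.val * (-1) ^ d.val) = 1 →
        a + b + c + d = 0 := by decide
    exact fun hs => key _ _ _ _ hs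
  intro a b c
  refine Prod.ext ?_ ?_
  · simp only [Prod.fst_add, h1]
    exact block_affine σ hσ _ _ _
  · simp only [Prod.snd_add, Prod.fst_add, h2, flip_affine ε hsum]
    ring

/-- A linear involution mixing the pairs. -/
def mix : Perm V := Function.Involutive.toPerm (fun x => ((x.2, x.1.2), x.1.1)) (fun _ => rfl)

theorem mix_mem : mix ∈ affine := fun _ _ _ => rfl

theorem sign_mix : Perm.sign mix = 1 := by decide

/-- A 3-cycle which is not affine. -/
def cyc : Perm V := swap ((0,0),0) ((0,0),1) * swap ((0,0),1) ((0,1),0)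

theorem cyc_not_mem : cyc ∉ affine := by
  intro h
  exact absurd (h ((0,0),0) ((0,0),1) ((1,1),0)) (by decide)

theorem sign_cyc : Perm.sign cyc = 1 := by decide

theorem not_isCoatom {Ω : Type*} [Fintype Ω] [DecidableEq Ω] (h8 : Fintype.card Ω = 8)
    (f : Ω → Fin 4) (hf : ∀ i : Fin 4, Nat.card {x : Ω // f x = i} = 2) :
    ¬ IsCoatom ((Subgroup.closure {g : Equiv.Perm Ω | ∀ x y : Ω, f x = f y ↔ f (g x) = f (g y)} ⊓
      alternatingGroup Ω).subgroupOf (alternatingGroup Ω)) := by
  classical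
  let ι : Fin 4 ≃ B := (Fintype.equivFinOfCardEq (by simp : Fintype.card B = 4)).symm
  let fib : ∀ i, {x : Ω // f x = i} ≃ ZMod 2 := fun i =>
    Fintype.equivOfCardEq (by rw [← Nat.card_eq_fintype_card, hf i, ZMod.card])
  let e : Ω ≃ V := ((Equiv.sigmaFiberEquiv f).symm.trans (Equiv.sigmaCongrRight fib)).trans
    ((Equiv.sigmaEquivProd (Fin 4) (ZMod 2)).trans (ι.prodCongr (Equiv.refl _)))
  have he : ∀ x, (e x).1 = ι (f x) := fun x => rfl
  let φ : Perm Ω ≃* Perm V := e.permCongrHom
  have hφ : ∀ g x, φ g (e x) = e (g x) := fun g x => by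
    show e (g (e.symm (e x))) = _
    rw [Equiv.symm_apply_apply]
  have hsign : ∀ g, Perm.sign (φ g) = Perm.sign g := fun g => Perm.sign_permCongr e g
  set A := alternatingGroup Ω
  set S := Subgroup.closure {g : Equiv.Perm Ω | ∀ x y : Ω, f x = f y ↔ f (g x) = f (g y)}
  let P : Subgroup (Perm Ω) :=
    { carrier := {g | ∀ x y : Ω, f x = f y ↔ f (g x) = f (g y)}
      one_mem' := fun _ _ => Iff.rfl
      mul_mem' := fun {g h} hg hh x y => (hh x y).trans (hg _ _)
      inv_mem' := fun {g} hg x y => by rw [hg (g⁻¹ x) (g⁻¹ y)]; simp }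
  have hS : S = P := le_antisymm ((Subgroup.closure_le P).2 fun g hg => hg) fun g hg => Subgroup.subset_closure hg
  let K : Subgroup (Perm Ω) := affine.comap φ.toMonoidHom
  have hle : S ⊓ A ≤ K := by
    rintro g ⟨hgS, hgA⟩
    rw [hS] at hgS
    refine mem_affine (φ g) (fun x y => ?_) ((hsign g).trans (Perm.mem_alternatingGroup.1 hgA))
    obtain ⟨x, rfl⟩ := e.surjective x
    obtain ⟨y, rfl⟩ := e.surjective y
    simp only [hφ, he, ι.injective.eq_iff]
    exact hgS x y
  intro hco
  have hlt : (S ⊓ A).subgroupOf A < K.subgroupOf A := by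
    refine lt_of_le_of_ne (Subgroup.comap_mono hle) fun heq => ?_
    have hmA : φ.symm mix ∈ A := Perm.mem_alternatingGroup.2 (by
      rw [← hsign, MulEquiv.apply_symm_apply]; exact sign_mix)
    have h1 : (⟨φ.symm mix, hmA⟩ : A) ∈ K.subgroupOf A := by
      show φ (φ.symm mix) ∈ affine
      rw [MulEquiv.apply_symm_apply]; exact mix_mem
    rw [← heq] at h1
    have h2 : φ.symm mix ∈ P := hS ▸ h1.1
    have h3 := (h2 (e.symm ((0,0),0)) (e.symm ((0,0),1))).1 (ι.injective (by rw [← he, ← he]; simp))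
    have h4 : (e (φ.symm mix (e.symm ((0,0),0)))).1 = (e (φ.symm mix (e.symm ((0,0),1)))).1 := by
      rw [he, he, h3]
    rw [← hφ, ← hφ, MulEquiv.apply_symm_apply, Equiv.apply_symm_apply, Equiv.apply_symm_apply] at h4
    exact absurd h4 (by decide)
  have htop := hco.2 _ hlt
  have hcA : φ.symm cyc ∈ A := Perm.mem_alternatingGroup.2 (by
    rw [← hsign, MulEquiv.apply_symm_apply]; exact sign_cyc)
  have : (⟨φ.symm cyc, hcA⟩ : A) ∈ K.subgroupOf A := htop ▸ Subgroup.mem_top _
  apply cyc_not_mem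
  have h5 : φ (φ.symm cyc) ∈ affine := this
  rwa [MulEquiv.apply_symm_apply] at h5

end CfsgLib.Geo.PairsEight
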