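/-
Maximality of the stabilizer of a partition into blocks of equal size (imprimitive wreath product).
-/
import Mathlib

namespace CfsgLib.Geo

open MulAction Pointwise

variable {Ω : Type*} {b : ℕ} (f : Ω → Fin b)

/-- The permutations preserving the partition given by the fibres of f. -/
def partStab : Subgroup (Equiv.Perm Ω) where
  carrier := {g | ∀ x y : Ω, f x = f y ↔ f (g x) = f (g y)}
  mul_mem' {g h} hg hh := fun x y => (hh x y).trans (hg (h x) (h y))
  one_mem' := fun _ _ => Iff.rfl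
  inv_mem' {g} hg := fun x y => by simpa using (hg (g⁻¹ x) (g⁻¹ y)).symm

theorem mem_partStab {g : Equiv.Perm Ω} : g ∈ partStab f ↔ ∀ x y : Ω, f x = f y ↔ f (g x) = f (g y) := Iff.rfl

theorem closure_eq_partStab :
    Subgroup.closure {g : Equiv.Perm Ω | ∀ x y : Ω, f x = f y ↔ f (g x) = f (g y)} = partStab f :=
  le_antisymm ((Subgroup.closure_le _).2 fun _ h => h) fun _ h => Subgroup.subset_closure h

theorem swap_mem_partStab [DecidableEq Ω] {x y : Ω} (h : f x = f y) : Equiv.swap x y ∈ partStab f := by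
  have key : ∀ z, f (Equiv.swap x y z) = f z := fun z => by
    rw [Equiv.swap_apply_def]
    split_ifs with h1 h2
    · rw [h1, h]
    · rw [h2, h]
    · rfl
  intro u v
  rw [key, key]

variable [Finite Ω] {a : ℕ}

theorem exists_perm_blocks (hf : ∀ i : Fin b, Nat.card {x : Ω // f x = i} = a) (σ : Equiv.Perm (Fin b)) :
    ∃ g : Equiv.Perm Ω, g ∈ partStab f ∧ (∀ x, f (g x) = σ (f x)) ∧ ∀ x, σ (f x) = f x → g x = x := by
  have e : ∀ i, {x : Ω // f x = i} ≃ Fin a := fun i => Finite.equivFinOfCardEq (hf i)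
  let c : Ω ≃ Fin b × Fin a :=
    (Equiv.sigmaFiberEquiv f).symm.trans ((Equiv.sigmaCongrRight e).trans (Equiv.sigmaEquivProd _ _))
  have hc1 : ∀ x, (c x).1 = f x := fun x => rfl
  have hc2 : ∀ p, f (c.symm p) = p.1 := fun p => by rw [← hc1, Equiv.apply_symm_apply]
  let g : Equiv.Perm Ω := c.trans ((σ.prodCongr (Equiv.refl _)).trans c.symm)
  have hg : ∀ x, f (g x) = σ (f x) := fun x => hc2 _
  refine ⟨g, ?_, hg, fun x hx => ?_⟩
  · intro u v
    rw [hg, hg, σ.injective.eq_iff]
  · apply c.injective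
    show c (c.symm (σ (c x).1, (c x).2)) = c x
    rw [Equiv.apply_symm_apply, hc1, hx, ← hc1]

theorem isCoatom_partStab [DecidableEq Ω] (ha : 2 ≤ a) (hb : 2 ≤ b)
    (hf : ∀ i : Fin b, Nat.card {x : Ω // f x = i} = a) : IsCoatom (partStab f) := by
  have hsurj : ∀ i, ∃ x, f x = i := fun i => by
    have h : 0 < Nat.card {x : Ω // f x = i} := by rw [hf]; omega
    obtain ⟨⟨x, hx⟩⟩ := (Nat.card_pos_iff.1 h).1
    exact ⟨x, hx⟩
  have hother : ∀ x, ∃ y, f y = f x ∧ y ≠ x := fun x => by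
    have h : 1 < Nat.card {y : Ω // f y = f x} := by rw [hf]; omega
    haveI := Finite.one_lt_card_iff_nontrivial.1 h
    obtain ⟨⟨y, hy⟩, hne⟩ := exists_ne (⟨x, rfl⟩ : {y : Ω // f y = f x})
    exact ⟨y, hy, fun h => hne (Subtype.ext h)⟩
  refine ⟨?_, fun L hL => ?_⟩
  · intro htop
    obtain ⟨x, hx⟩ := hsurj ⟨0, by omega⟩
    obtain ⟨y, hy⟩ := hsurj ⟨1, by omega⟩
    obtain ⟨x', hx', hne⟩ := hother x
    have h := mem_partStab f |>.1 (htop ▸ Subgroup.mem_top (Equiv.swap x y)) x x'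
    have hxy : f x ≠ f y := by rw [hx, hy]; simp [Fin.ext_iff]
    have hx'y : x' ≠ y := fun h => hxy (by rw [← hx', h])
    rw [Equiv.swap_apply_left, Equiv.swap_apply_of_ne_of_ne hne hx'y, hx'] at h
    exact hxy (h.1 rfl).symm
  · obtain ⟨x₀, -⟩ := hsurj ⟨0, by omega⟩
    obtain ⟨x₁, hx₁, hne₁⟩ := hother x₀
    refine Equiv.Perm.subgroup_eq_top_of_isPreprimitive_of_isSwap_mem ?_ (Equiv.swap x₁ x₀)
      ⟨x₁, x₀, hne₁, rfl⟩ (hL.le (swap_mem_partStab f hx₁))
    haveI : IsPretransitive L Ω := ⟨fun x y => by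
      obtain ⟨g, hg, hgf, -⟩ := exists_perm_blocks f hf (Equiv.swap (f x) (f y))
      refine ⟨⟨Equiv.swap (g x) y * g, hL.le ((partStab f).mul_mem (swap_mem_partStab f ?_) hg)⟩, ?_⟩
      · rw [hgf, Equiv.swap_apply_left]
      · exact Equiv.swap_apply_left (g x) y⟩
    refine ⟨fun {B} hB => ?_⟩
    rw [IsTrivialBlock, or_iff_not_imp_left, Set.not_subsingleton_iff]
    intro hB2
    -- an element of L mapping some point of B into B fixes B
    have hfix : ∀ (g : Equiv.Perm Ω) (u : Ω), g ∈ L → u ∈ B → g u ∈ B → ∀ z ∈ B, g z ∈ B := by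
      intro g u hg hu hgu z hz
      have h := isBlock_iff_smul_eq_of_mem.1 hB (g := ⟨g, hg⟩) hu hgu
      rw [← h]
      exact ⟨z, hz, rfl⟩
    have hswap : ∀ u v z, u ∈ B → v ∈ B → u ≠ v → z ≠ v → f u = f z → z ∈ B := by
      intro u v z hu hv huv hzv huz
      have h := hfix (Equiv.swap u z) v (hL.le (swap_mem_partStab f huz)) hv
        (by rw [Equiv.swap_apply_of_ne_of_ne huv.symm hzv.symm]; exact hv) u hu
      rwa [Equiv.swap_apply_left] at h
    by_cases hcross : ∃ x ∈ B, ∃ y ∈ B, f x ≠ f y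
    · obtain ⟨x, hx, y, hy, hxy⟩ := hcross
      have hne : x ≠ y := fun h => hxy (h ▸ rfl)
      have hBx : ∀ z, f z = f x → z ∈ B := fun z hz => hswap x y z hx hy hne (fun h => hxy (h ▸ hz).symm) hz.symm
      have hBy : ∀ z, f z = f y → z ∈ B :=
        fun z hz => hswap y x z hy hx hne.symm (fun h => hxy (h ▸ hz)) hz.symm
      refine Set.eq_univ_of_forall fun w => ?_
      by_cases hwx : f w = f x
      · exact hBx w hwx
      by_cases hwy : f w = f y
      · exact hBy w hwy
      obtain ⟨g, hg, hgf, hgfix⟩ := exists_perm_blocks f hf (Equiv.swap (f y) (f w))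
      have hgx : g x = x := hgfix x (Equiv.swap_apply_of_ne_of_ne hxy (Ne.symm hwx))
      have h := hfix g x (hL.le hg) hx (by rw [hgx]; exact hx) (g.symm w)
        (hBy _ ((Equiv.swap (f y) (f w)).injective (by rw [← hgf, Equiv.apply_symm_apply, Equiv.swap_apply_left])))
      rwa [Equiv.apply_symm_apply] at h
    · push Not at hcross
      obtain ⟨x, hx, y, hy, hne⟩ := hB2
      have hBeq : ∀ z, z ∈ B ↔ f z = f x := by
        intro z
        refine ⟨fun hz => hcross z hz x hx, fun hz => ?_⟩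
        rcases eq_or_ne z x with rfl | hzx
        · exact hx
        · exact hswap y x z hy hx hne.symm hzx ((hcross y hy x hx).trans hz.symm)
      exfalso
      refine hL.not_ge fun l hl => ?_
      have key : ∀ g : Equiv.Perm Ω, g ∈ L → ∀ u v, f u = f v → f (g u) = f (g v) := by
        intro g hg u v huv
        obtain ⟨h, hh, hhf, -⟩ := exists_perm_blocks f hf (Equiv.swap (f x) (f u))
        obtain ⟨k, hk, hkf, -⟩ := exists_perm_blocks f hf (Equiv.swap (f x) (f (g u)))
        have hhB : ∀ z, f z = f u → h z ∈ B := fun z hz => by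
          rw [hBeq, hhf, hz, Equiv.swap_apply_right]
        have hh' := hfix (k * g * h⁻¹) (h u) (L.mul_mem (L.mul_mem (hL.le hk) hg) (L.inv_mem (hL.le hh)))
          (hhB u rfl) (by rw [hBeq]; simp [hkf]) (h v) (hhB v huv.symm)
        rw [hBeq] at hh'
        simp [hkf] at hh'
        exact (Equiv.swap (f x) (f (g u))).injective (by rw [hh', Equiv.swap_apply_right])
      intro u v
      refine ⟨key l hl u v, fun h => ?_⟩
      simpa using key l⁻¹ (L.inv_mem hl) _ _ h

end CfsgLib.Geo
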