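/-
The stabiliser of a uniform partition in the alternating group is maximal, except in degree 8.
-/
import Cfsg.Agent.Lib.Geo.PartitionStabilizer

namespace CfsgLib.Geo

open MulAction Pointwise Equiv

variable {Ω : Type*} [Fintype Ω] [DecidableEq Ω] {a b : ℕ} (f : Ω → Fin b)

theorem mem_alt {g : Perm Ω} : g ∈ alternatingGroup Ω ↔ Perm.sign g = 1 := Perm.mem_alternatingGroup

omit [DecidableEq Ω] in
theorem exists_point (ha : 1 ≤ a) (hf : ∀ i : Fin b, Nat.card {x : Ω // f x = i} = a) (i : Fin b) : ∃ x, f x = i := by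
  have h : 0 < Nat.card {x : Ω // f x = i} := by rw [hf]; omega
  obtain ⟨⟨x, hx⟩⟩ := (Nat.card_pos_iff.1 h).1
  exact ⟨x, hx⟩

omit [DecidableEq Ω] in
theorem exists_mate (ha : 2 ≤ a) (hf : ∀ i : Fin b, Nat.card {x : Ω // f x = i} = a) (x : Ω) :
    ∃ y, f y = f x ∧ y ≠ x := by
  have h : 1 < Nat.card {y : Ω // f y = f x} := by rw [hf]; omega
  haveI := Finite.one_lt_card_iff_nontrivial.1 h
  obtain ⟨⟨y, hy⟩, hne⟩ := exists_ne (⟨x, rfl⟩ : {y : Ω // f y = f x})
  exact ⟨y, hy, fun h => hne (Subtype.ext h)⟩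

theorem exists_third (ha : 3 ≤ a) (hf : ∀ i : Fin b, Nat.card {x : Ω // f x = i} = a) (x y : Ω) :
    ∃ w, f w = f x ∧ w ≠ x ∧ w ≠ y := by
  by_contra! hc
  have h : Nat.card {z : Ω // f z = f x} ≤ Nat.card ({x, y} : Finset Ω) :=
    Nat.card_le_card_of_injective (fun z => ⟨z.1, by
      by_cases hz : z.1 = x
      · simp [hz]
      · simp [hc z.1 z.2 hz]⟩) fun u v huv => Subtype.ext (congrArg (fun w : ({x, y} : Finset Ω) => w.1) huv)
  rw [hf, Nat.card_eq_finsetCard] at h
  have := Finset.card_le_two (a := x) (b := y)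
  omega

/-- A swap inside some block avoiding a given point. -/
theorem exists_swap_avoid (ha : 2 ≤ a) (hb : 2 ≤ b) (hf : ∀ i : Fin b, Nat.card {x : Ω // f x = i} = a) (x : Ω) :
    ∃ u v, u ≠ v ∧ f u = f v ∧ u ≠ x ∧ v ≠ x := by
  haveI : Nontrivial (Fin b) := Fin.nontrivial_iff_two_le.2 hb
  obtain ⟨j, hj⟩ := exists_ne (f x)
  obtain ⟨u, hu⟩ := exists_point f (by omega) hf j
  obtain ⟨v, hv, hvu⟩ := exists_mate f ha hf u
  exact ⟨u, v, hvu.symm, hv.symm, fun h => hj (by rw [← hu, h]), fun h => hj (by rw [← hu, ← hv, h])⟩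

/-- Correct the parity, keeping the block action and one value. -/
theorem exists_even (ha : 2 ≤ a) (hb : 2 ≤ b) (hf : ∀ i : Fin b, Nat.card {x : Ω // f x = i} = a)
    (g : Perm Ω) (hg : g ∈ partStab f) (x : Ω) :
    ∃ g', g' ∈ partStab f ⊓ alternatingGroup Ω ∧ (∀ z, f (g' z) = f (g z)) ∧ g' x = g x := by
  rcases Int.units_eq_one_or (Perm.sign g) with h | h
  · exact ⟨g, ⟨hg, mem_alt.2 h⟩, fun z => rfl, rfl⟩
  · obtain ⟨u, v, huv, hfuv, hu, hv⟩ := exists_swap_avoid f ha hb hf (g x)
    refine ⟨swap u v * g, ⟨(partStab f).mul_mem (swap_mem_partStab f hfuv) hg, mem_alt.2 ?_⟩, fun z => ?_, ?_⟩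
    · rw [Perm.sign_mul, Perm.sign_swap huv, h]; rfl
    · show f (swap u v (g z)) = f (g z)
      rw [swap_apply_def]
      split_ifs with h1 h2
      · rw [h1, hfuv]
      · rw [h2, hfuv]
      · rfl
    · show swap u v (g x) = g x
      exact swap_apply_of_ne_of_ne hu.symm hv.symm

/-- An even element of the stabiliser moving `u` to `z` in the same block and keeping `v` in `{u, v}`. -/
theorem exists_shift (ha : 2 ≤ a) (hab : 3 ≤ a ∨ 3 ≤ b) (hf : ∀ i : Fin b, Nat.card {x : Ω // f x = i} = a)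
    {u v z : Ω} (huv : u ≠ v) (hzv : z ≠ v) (huz : u ≠ z) (hf' : f u = f z) :
    ∃ c, c ∈ partStab f ⊓ alternatingGroup Ω ∧ c u = z ∧ (c v = v ∨ c v = u) := by
  by_cases hv : f v = f u
  · refine ⟨swap u v * swap u z, ⟨(partStab f).mul_mem (swap_mem_partStab f hv.symm) (swap_mem_partStab f hf'),
      mem_alt.2 (by rw [Perm.sign_mul, Perm.sign_swap huv, Perm.sign_swap huz]; rfl)⟩, ?_, Or.inr ?_⟩
    · rw [Perm.mul_apply, swap_apply_left, swap_apply_of_ne_of_ne huz.symm hzv]
    · rw [Perm.mul_apply, swap_apply_of_ne_of_ne huv.symm hzv.symm, swap_apply_right]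
  rcases Nat.lt_or_ge a 3 with ha3 | ha3
  · have hb3 : 3 ≤ b := hab.resolve_left (by omega)
    obtain ⟨j, hj1, hj2⟩ : ∃ j : Fin b, j ≠ f u ∧ j ≠ f v := by
      by_contra! hc
      have := Finset.card_le_card (show (Finset.univ : Finset (Fin b)) ⊆ {f u, f v} from fun j _ => by
        by_cases h : j = f u
        · simp [h]
        · simp [hc j h])
      have h2 := Finset.card_le_two (a := f u) (b := f v)
      rw [Finset.card_univ, Fintype.card_fin] at this
      omega
    obtain ⟨r, hr⟩ := exists_point f (by omega) hf j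
    obtain ⟨r', hr', hne⟩ := exists_mate f ha hf r
    refine ⟨swap u z * swap r r', ⟨(partStab f).mul_mem (swap_mem_partStab f hf') (swap_mem_partStab f hr'.symm),
      mem_alt.2 (by rw [Perm.sign_mul, Perm.sign_swap huz, Perm.sign_swap hne.symm]; rfl)⟩, ?_, Or.inl ?_⟩
    · rw [Perm.mul_apply, swap_apply_of_ne_of_ne (show u ≠ r from fun h => hj1 (by rw [← hr, h]))
        (show u ≠ r' from fun h => hj1 (by rw [← hr, ← hr', h])), swap_apply_left]
    · rw [Perm.mul_apply, swap_apply_of_ne_of_ne (show v ≠ r from fun h => hj2 (by rw [← hr, h]))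
        (show v ≠ r' from fun h => hj2 (by rw [← hr, ← hr', h])),
        swap_apply_of_ne_of_ne huv.symm hzv.symm]
  · obtain ⟨w, hw, hwu, hwz⟩ := exists_third f ha3 hf u z
    refine ⟨swap z w * swap u w, ⟨(partStab f).mul_mem (swap_mem_partStab f (hf'.symm.trans hw.symm))
      (swap_mem_partStab f hw.symm), mem_alt.2 (by
        rw [Perm.sign_mul, Perm.sign_swap hwz.symm, Perm.sign_swap hwu.symm]; rfl)⟩, ?_, Or.inl ?_⟩
    · rw [Perm.mul_apply, swap_apply_left, swap_apply_right]
    · have hvw : v ≠ w := fun h => hv (by rw [h, hw])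
      rw [Perm.mul_apply, swap_apply_of_ne_of_ne huv.symm hvw, swap_apply_of_ne_of_ne hzv.symm hvw]

theorem isPreprimitive_of_lt (ha : 2 ≤ a) (hb : 2 ≤ b) (hab : 3 ≤ a ∨ 3 ≤ b)
    (hf : ∀ i : Fin b, Nat.card {x : Ω // f x = i} = a) (L : Subgroup (Perm Ω))
    (hle : partStab f ⊓ alternatingGroup Ω ≤ L) (hnot : ¬ L ≤ partStab f) : IsPreprimitive L Ω := by
  haveI : IsPretransitive L Ω := ⟨fun x y => by
    obtain ⟨g, hg, hgf, -⟩ := exists_perm_blocks f hf (Equiv.swap (f x) (f y))
    have h1 : swap (g x) y * g ∈ partStab f := (partStab f).mul_mem (swap_mem_partStab f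
      (by rw [hgf, Equiv.swap_apply_left])) hg
    obtain ⟨g', hg', -, hgx⟩ := exists_even f ha hb hf _ h1 x
    exact ⟨⟨g', hle hg'⟩, hgx.trans (Equiv.swap_apply_left (g x) y)⟩⟩
  refine ⟨fun {B} hB => ?_⟩
  rw [IsTrivialBlock, or_iff_not_imp_left, Set.not_subsingleton_iff]
  intro hB2
  have hfix : ∀ (g : Perm Ω) (u : Ω), g ∈ L → u ∈ B → g u ∈ B → ∀ z ∈ B, g z ∈ B := by
    intro g u hg hu hgu z hz
    have h := isBlock_iff_smul_eq_of_mem.1 hB (g := ⟨g, hg⟩) hu hgu
    rw [← h]
    exact ⟨z, hz, rfl⟩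
  have hmove : ∀ u v z, u ∈ B → v ∈ B → u ≠ v → z ≠ v → f u = f z → z ∈ B := by
    intro u v z hu hv huv hzv huz
    rcases eq_or_ne u z with rfl | hne
    · exact hu
    obtain ⟨c, hc, hcu, hcv⟩ := exists_shift f ha hab hf huv hzv hne huz
    have hcB : c v ∈ B := by rcases hcv with h | h <;> rw [h] <;> assumption
    exact hcu ▸ hfix c v (hle hc) hv hcB u hu
  by_cases hcross : ∃ x ∈ B, ∃ y ∈ B, f x ≠ f y
  · obtain ⟨x, hx, y, hy, hxy⟩ := hcross
    have hne : x ≠ y := fun h => hxy (h ▸ rfl)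
    have hBx : ∀ z, f z = f x → z ∈ B := fun z hz => hmove x y z hx hy hne (fun h => hxy (h ▸ hz).symm) hz.symm
    have hBy : ∀ z, f z = f y → z ∈ B :=
      fun z hz => hmove y x z hy hx hne.symm (fun h => hxy (h ▸ hz)) hz.symm
    refine Set.eq_univ_of_forall fun w => ?_
    by_cases hwx : f w = f x
    · exact hBx w hwx
    by_cases hwy : f w = f y
    · exact hBy w hwy
    obtain ⟨g, hg, hgf, hgfix⟩ := exists_perm_blocks f hf (Equiv.swap (f y) (f w))
    obtain ⟨g', hg', hgf', hgx'⟩ := exists_even f ha hb hf g hg x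
    have hgx : g' x = x := hgx'.trans (hgfix x (Equiv.swap_apply_of_ne_of_ne hxy (Ne.symm hwx)))
    have h := hfix g' x (hle hg') hx (by rw [hgx]; exact hx) (g'.symm w)
      (hBy _ ((Equiv.swap (f y) (f w)).injective (by
        rw [← hgf, ← hgf', Equiv.apply_symm_apply, Equiv.swap_apply_left])))
    rwa [Equiv.apply_symm_apply] at h
  · push Not at hcross
    obtain ⟨x, hx, y, hy, hne⟩ := hB2
    have hBeq : ∀ z, z ∈ B ↔ f z = f x := by
      intro z
      refine ⟨fun hz => hcross z hz x hx, fun hz => ?_⟩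
      rcases eq_or_ne z x with rfl | hzx
      · exact hx
      · exact hmove y x z hy hx hne.symm hzx ((hcross y hy x hx).trans hz.symm)
    exfalso
    refine hnot fun l hl => ?_
    have key : ∀ g : Perm Ω, g ∈ L → ∀ u v, f u = f v → f (g u) = f (g v) := by
      intro g hg u v huv
      obtain ⟨h₀, hh₀, hhf₀, -⟩ := exists_perm_blocks f hf (Equiv.swap (f x) (f u))
      obtain ⟨k₀, hk₀, hkf₀, -⟩ := exists_perm_blocks f hf (Equiv.swap (f x) (f (g u)))
      obtain ⟨h, hh, hhf', -⟩ := exists_even f ha hb hf h₀ hh₀ x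
      obtain ⟨k, hk, hkf', -⟩ := exists_even f ha hb hf k₀ hk₀ x
      have hhf : ∀ z, f (h z) = Equiv.swap (f x) (f u) (f z) := fun z => (hhf' z).trans (hhf₀ z)
      have hkf : ∀ z, f (k z) = Equiv.swap (f x) (f (g u)) (f z) := fun z => (hkf' z).trans (hkf₀ z)
      have hhB : ∀ z, f z = f u → h z ∈ B := fun z hz => by
        rw [hBeq, hhf, hz, Equiv.swap_apply_right]
      have hh' := hfix (k * g * h⁻¹) (h u) (L.mul_mem (L.mul_mem (hle hk) hg) (L.inv_mem (hle hh)))
        (hhB u rfl) (by rw [hBeq]; simp [hkf]) (h v) (hhB v huv.symm)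
      rw [hBeq] at hh'
      simp [hkf] at hh'
      exact (Equiv.swap (f x) (f (g u))).injective (by rw [hh', Equiv.swap_apply_right])
    intro u v
    refine ⟨key l hl u v, fun h => ?_⟩
    simpa using key l⁻¹ (L.inv_mem hl) _ _ h

/-- With at least five pairs, an overgroup contains a 3-cycle. -/
theorem exists_three_cycle_pairs (hb : 5 ≤ b) (hf : ∀ i : Fin b, Nat.card {x : Ω // f x = i} = 2)
    (L : Subgroup (Perm Ω)) (hle : partStab f ⊓ alternatingGroup Ω ≤ L) (hnot : ¬ L ≤ partStab f) :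
    ∃ g ∈ L, g.IsThreeCycle := by
  obtain ⟨g, hgL, hg⟩ := SetLike.not_le_iff_exists.1 hnot
  obtain ⟨x, x', hxx', hgx⟩ : ∃ x x', f x = f x' ∧ f (g x) ≠ f (g x') := by
    by_contra! hc
    refine hg fun u v => ⟨hc u v, fun h => ?_⟩
    -- a surjective self map of the finite block set is injective
    have hsurj : ∀ i, ∃ u, f u = i := exists_point f (by norm_num) hf
    choose rep hrep using hsurj
    let σ : Fin b → Fin b := fun i => f (g (rep i))
    have hσ : ∀ u, f (g u) = σ (f u) := fun u => hc u (rep (f u)) (hrep _).symm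
    have hs : Function.Surjective σ := fun i => ⟨f (g.symm (rep i)), by
      rw [← hσ, Equiv.apply_symm_apply, hrep]⟩
    rw [hσ u, hσ v] at h
    exact (Finite.injective_iff_surjective.2 hs) h
  have hne : x ≠ x' := fun h => hgx (h ▸ rfl)
  set u := g x with hu
  set v := g x' with hv
  obtain ⟨y, hy, hyu⟩ := exists_mate f le_rfl hf u
  obtain ⟨y', hy', hyv⟩ := exists_mate f le_rfl hf v
  have huv : u ≠ v := fun h => hgx (by rw [h])
  -- a second pair whose image avoids the blocks of u and v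
  obtain ⟨i, hi⟩ : ∃ i : Fin b, i ∉ ({f x, f (g.symm y), f (g.symm y')} : Finset (Fin b)) := by
    refine Finset.exists_mem_notMem_of_card_lt_card (t := Finset.univ) ?_ |>.imp fun i h => h.2
    rw [Finset.card_univ, Fintype.card_fin]
    exact lt_of_le_of_lt Finset.card_le_three (by omega)
  simp only [Finset.mem_insert, Finset.mem_singleton, not_or] at hi
  obtain ⟨w, hw⟩ := exists_point f (by norm_num) hf i
  obtain ⟨w', hw', hww'⟩ := exists_mate f le_rfl hf w
  have hwf : ∀ z, f z = i → g z ≠ u ∧ g z ≠ v ∧ g z ≠ y ∧ g z ≠ y' := fun z hz =>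
    ⟨fun h => hi.1 (by rw [← hz, g.injective h]), fun h => hi.1 (by rw [← hz, g.injective h, ← hxx']),
      fun h => hi.2.1 (by rw [← hz, ← h, Equiv.symm_apply_apply]),
      fun h => hi.2.2 (by rw [← hz, ← h, Equiv.symm_apply_apply])⟩
  set s := g w
  set t := g w'
  obtain ⟨hsu, hsv, hsy, hsy'⟩ := hwf w hw
  obtain ⟨htu, htv, hty, hty'⟩ := hwf w' (hw'.trans hw)
  -- a third block avoiding u, v, s, t
  obtain ⟨j, hj⟩ : ∃ j : Fin b, j ∉ ({f u, f v, f s, f t} : Finset (Fin b)) := by
    refine Finset.exists_mem_notMem_of_card_lt_card (t := Finset.univ) ?_ |>.imp fun i h => h.2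
    rw [Finset.card_univ, Fintype.card_fin]
    exact lt_of_le_of_lt Finset.card_le_four (by omega)
  simp only [Finset.mem_insert, Finset.mem_singleton, not_or] at hj
  obtain ⟨r, hr⟩ := exists_point f (by norm_num) hf j
  obtain ⟨r', hr', hrr'⟩ := exists_mate f le_rfl hf r
  have hrf : ∀ z, f z = j → z ≠ u ∧ z ≠ v ∧ z ≠ s ∧ z ≠ t := fun z hz =>
    ⟨fun h => hj.1 (by rw [← hz, h]), fun h => hj.2.1 (by rw [← hz, h]), fun h => hj.2.2.1 (by rw [← hz, h]),
      fun h => hj.2.2.2 (by rw [← hz, h])⟩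
  obtain ⟨hru, hrv, hrs, hrt⟩ := hrf r hr
  obtain ⟨hru', hrv', hrs', hrt'⟩ := hrf r' (hr'.trans hr)
  set d := swap x x' * swap w w'
  set e := swap u y * swap r r'
  have hd : d ∈ L := hle ⟨(partStab f).mul_mem (swap_mem_partStab f hxx') (swap_mem_partStab f hw'.symm),
    mem_alt.2 (by rw [Perm.sign_mul, Perm.sign_swap hne, Perm.sign_swap hww'.symm]; rfl)⟩
  have he : e ∈ L := hle ⟨(partStab f).mul_mem (swap_mem_partStab f hy.symm) (swap_mem_partStab f hr'.symm),
    mem_alt.2 (by rw [Perm.sign_mul, Perm.sign_swap hyu.symm, Perm.sign_swap hrr'.symm]; rfl)⟩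
  set D := g * d * g⁻¹
  have hD : D ∈ L := L.mul_mem (L.mul_mem hgL hd) (L.inv_mem hgL)
  have hDeq : D = swap u v * swap s t := by
    show g * (swap x x' * swap w w') * g⁻¹ = _
    rw [← conj_mul, ← Equiv.swap_apply_apply, ← Equiv.swap_apply_apply]
  have hyv' : y ≠ v := fun h => hgx (by rw [← hy, h])
  have hDu : D u = v := by
    rw [hDeq, Perm.mul_apply, swap_apply_of_ne_of_ne hsu.symm htu.symm, swap_apply_left]
  have hDy : D y = y := by
    rw [hDeq, Perm.mul_apply, swap_apply_of_ne_of_ne hsy.symm hty.symm, swap_apply_of_ne_of_ne hyu hyv']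
  have hDr : ∀ z, z ≠ u → z ≠ v → z ≠ s → z ≠ t → D z = z := fun z h1 h2 h3 h4 => by
    rw [hDeq, Perm.mul_apply, swap_apply_of_ne_of_ne h3 h4, swap_apply_of_ne_of_ne h1 h2]
  refine ⟨e * (D * e * D⁻¹), L.mul_mem he (L.mul_mem (L.mul_mem hD he) (L.inv_mem hD)), ?_⟩
  have hconj : D * e * D⁻¹ = swap v y * swap r r' := by
    show D * (swap u y * swap r r') * D⁻¹ = _
    rw [← conj_mul, ← Equiv.swap_apply_apply, ← Equiv.swap_apply_apply, hDu, hDy, hDr r hru hrv hrs hrt,
      hDr r' hru' hrv' hrs' hrt']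
  have hcomm : swap r r' * swap v y = swap v y * swap r r' := by
    have h1 : f v ≠ j := fun h => hj.2.1 h.symm
    have h2 : f y ≠ j := fun h => hj.1 (by rw [← hy, h])
    refine (Perm.Disjoint.commute fun z => ?_).eq
    by_cases hz : z = r ∨ z = r'
    · refine Or.inr ?_
      rcases hz with rfl | rfl
      · exact swap_apply_of_ne_of_ne hrv (fun h => h2 (by rw [← h, hr]))
      · exact swap_apply_of_ne_of_ne hrv' (fun h => h2 (by rw [← h, hr', hr]))
    · rw [not_or] at hz
      exact Or.inl (swap_apply_of_ne_of_ne hz.1 hz.2)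
  have : e * (D * e * D⁻¹) = swap u y * swap v y := by
    rw [hconj]
    show swap u y * swap r r' * (swap v y * swap r r') = _
    rw [mul_assoc, ← mul_assoc (swap r r'), hcomm, mul_assoc (swap v y), swap_mul_self, mul_one]
  rw [this, swap_comm u y, swap_comm v y]
  exact Perm.isThreeCycle_swap_mul_swap_same hyu hyv' huv

theorem not_alt_le (ha : 2 ≤ a) (hb : 2 ≤ b) (hf : ∀ i : Fin b, Nat.card {x : Ω // f x = i} = a) :
    ¬ alternatingGroup Ω ≤ partStab f := by
  intro hle
  haveI : Nontrivial (Fin b) := Fin.nontrivial_iff_two_le.2 hb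
  obtain ⟨x, -⟩ := exists_point f (by omega) hf ⟨0, by omega⟩
  obtain ⟨j, hj⟩ := exists_ne (f x)
  obtain ⟨y, hy⟩ := exists_point f (by omega) hf j
  obtain ⟨x', hx', hne⟩ := exists_mate f ha hf x
  have hyx : y ≠ x := fun h => hj (by rw [← hy, h])
  have hyx' : y ≠ x' := fun h => hj (by rw [← hy, h, hx'])
  have hmem : swap x y * swap x x' ∈ alternatingGroup Ω :=
    mem_alt.2 (by rw [Perm.sign_mul, Perm.sign_swap hyx.symm, Perm.sign_swap hne.symm]; rfl)
  have h := (hle hmem x x').1 hx'.symm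
  rw [Perm.mul_apply, Perm.mul_apply, swap_apply_left, swap_apply_right, swap_apply_of_ne_of_ne hne hyx'.symm,
    swap_apply_left] at h
  exact hj (by rw [← hy, ← h, hx'])

theorem card_partStab (hf : ∀ i : Fin b, Nat.card {x : Ω // f x = i} = a) (ha : 1 ≤ a) :
    Nat.card (partStab f) = a.factorial ^ b * b.factorial := by
  classical
  choose rep hrep using exists_point f ha hf
  let blockAct : partStab f → Perm (Fin b) := fun g =>
    { toFun := fun i => f (g.1 (rep i))
      invFun := fun i => f ((g.1⁻¹ : Perm Ω) (rep i))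
      left_inv := fun i => by
        have h := ((partStab f).inv_mem g.2 (rep (f (g.1 (rep i)))) (g.1 (rep i))).1 (hrep _)
        simp only at h ⊢
        rw [h]
        simp [hrep]
      right_inv := fun i => by
        have h := (g.2 (rep (f ((g.1⁻¹ : Perm Ω) (rep i)))) ((g.1⁻¹ : Perm Ω) (rep i))).1 (hrep _)
        simp only at h ⊢
        rw [h]
        simp [hrep] }
  have hact : ∀ g : partStab f, ∀ x, f (g.1 x) = blockAct g (f x) := fun g x =>
    (g.2 x (rep (f x))).1 (hrep _).symm
  let φ : partStab f →* Perm (Fin b) :=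
    { toFun := blockAct
      map_one' := Equiv.ext fun i => hrep i
      map_mul' := fun g h => Equiv.ext fun i => hact g (h.1 (rep i)) }
  have hsurj : Function.Surjective φ := fun σ => by
    obtain ⟨g, hg, hgf, -⟩ := exists_perm_blocks f hf σ
    exact ⟨⟨g, hg⟩, Equiv.ext fun i => (hgf (rep i)).trans (by rw [hrep])⟩
  have hker : Nat.card φ.ker = a.factorial ^ b := by
    have e : φ.ker ≃ {g : Perm Ω // f ∘ g = f} :=
      { toFun := fun g => ⟨g.1.1, funext fun x => by
          rw [Function.comp_apply, hact g.1 x]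
          exact congrArg (fun σ : Perm (Fin b) => σ (f x)) (MonoidHom.mem_ker.1 g.2)⟩
        invFun := fun g => ⟨⟨g.1, fun x y => by
          have h := fun z => congrFun g.2 z
          simp only [Function.comp_apply] at h
          rw [h, h]⟩, MonoidHom.mem_ker.2 (Equiv.ext fun i => (congrFun g.2 (rep i)).trans (hrep i))⟩
        left_inv := fun g => rfl
        right_inv := fun g => rfl }
    rw [Nat.card_congr e, Nat.card_eq_fintype_card, DomMulAct.stabilizer_card]
    have : ∀ i : Fin b, Fintype.card {x : Ω // f x = i} = a := fun i => by rw [← Nat.card_eq_fintype_card, hf]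
    simp [this]
  rw [Subgroup.card_eq_card_quotient_mul_card_subgroup φ.ker,
    Nat.card_congr (QuotientGroup.quotientKerEquivOfSurjective φ hsurj).toEquiv, Nat.card_perm, Nat.card_fin, hker,
    mul_comm]

theorem card_fibres (hf : ∀ i : Fin b, Nat.card {x : Ω // f x = i} = a) : Fintype.card Ω = b * a := by
  rw [← Nat.card_eq_fintype_card, Nat.card_congr (Equiv.sigmaFiberEquiv f).symm, Nat.card_sigma]
  simp only [hf, Finset.sum_const, Finset.card_univ, Fintype.card_fin, smul_eq_mul]

theorem eq_alternating_of_lt (ha : 2 ≤ a) (hb : 2 ≤ b) (h8 : Fintype.card Ω ≠ 8)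
    (hf : ∀ i : Fin b, Nat.card {x : Ω // f x = i} = a) (L : Subgroup (Perm Ω))
    (hLA : L ≤ alternatingGroup Ω) (hlt : partStab f ⊓ alternatingGroup Ω < L) : L = alternatingGroup Ω := by
  have hnot : ¬ L ≤ partStab f := fun h => hlt.not_ge (le_inf h hLA)
  refine le_antisymm hLA ?_
  by_cases hsmall : a = 2 ∧ b ≤ 4
  · obtain ⟨rfl, hb4⟩ := hsmall
    have hn := card_fibres f hf
    have hb23 : b = 2 ∨ b = 3 := by
      rcases Nat.lt_or_ge b 4 with h | h
      · omega
      · exfalso; apply h8; rw [hn]; omega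
    haveI : Nontrivial Ω := Fintype.one_lt_card_iff_nontrivial.1 (by omega)
    set P := partStab f
    set A := alternatingGroup Ω
    set H := P ⊓ A
    have hcardA : 2 * Nat.card A = (b * 2).factorial := by
      rw [two_mul_nat_card_alternatingGroup, Nat.card_perm, Nat.card_eq_fintype_card, hn]
    have hcardH : 2 * Nat.card H = 2 ^ b * b.factorial := by
      have h1 : A.relIndex P ∣ 2 := by
        have := Subgroup.relIndex_dvd_index_of_normal A P
        rwa [alternatingGroup.index_eq_two] at this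
      have h2 : A.relIndex P ≠ 1 := by
        intro h
        obtain ⟨x, -⟩ := exists_point f (by omega) hf ⟨0, by omega⟩
        obtain ⟨x', hx', hne⟩ := exists_mate f le_rfl hf x
        have := mem_alt.1 (Subgroup.relIndex_eq_one.1 h (swap_mem_partStab f hx'))
        rw [Perm.sign_swap hne] at this
        exact absurd this (by decide)
      have h3 : A.relIndex P = 2 := ((Nat.dvd_prime Nat.prime_two).1 h1).resolve_left h2
      have h4 := Subgroup.card_mul_index (A.subgroupOf P)
      rw [← Subgroup.relIndex, h3] at h4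
      have h5 : Nat.card (A.subgroupOf P) = Nat.card H := by
        rw [← Subgroup.inf_subgroupOf_left, Nat.card_congr (Subgroup.subgroupOfEquivOfLe inf_le_left).toEquiv]
      rw [h5, card_partStab f hf (by omega)] at h4
      simpa [Nat.factorial, mul_comm] using h4
    let L' := L.subgroupOf A
    have hidx : Nat.card L * L'.index = Nat.card A := by
      rw [← Nat.card_congr (Subgroup.subgroupOfEquivOfLe hLA).toEquiv]
      exact L'.card_mul_index
    have hHL : Nat.card H ∣ Nat.card L := Subgroup.card_dvd_of_le hlt.le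
    have hne : Nat.card H ≠ Nat.card L := fun h => hlt.ne (Subgroup.eq_of_le_of_card_ge hlt.le h.ge)
    suffices L'.index = 1 by
      exact Subgroup.subgroupOf_eq_top.1 (Subgroup.index_eq_one.1 this)
    obtain ⟨k, hk⟩ := hHL
    rw [hk] at hidx hne
    rcases hb23 with rfl | rfl
    · rw [show Nat.factorial (2 * 2) = 24 from rfl] at hcardA
      rw [show 2 ^ 2 * Nat.factorial 2 = 8 from rfl] at hcardH
      rw [show Nat.card H = 4 by omega, show Nat.card A = 12 by omega] at hidx
      rw [show Nat.card H = 4 by omega] at hne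
      have : k * L'.index = 3 := by rw [mul_assoc] at hidx; omega
      rcases (Nat.dvd_prime Nat.prime_three).1 (Dvd.intro _ this) with rfl | rfl
      · simp at hne
      · omega
    · rw [show Nat.factorial (3 * 2) = 720 from rfl] at hcardA
      rw [show 2 ^ 3 * Nat.factorial 3 = 48 from rfl] at hcardH
      rw [show Nat.card H = 24 by omega, show Nat.card A = 360 by omega] at hidx
      rw [show Nat.card H = 24 by omega] at hne
      have h15 : k * L'.index = 15 := by rw [mul_assoc] at hidx; omega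
      have hk1 : k ≠ 1 := fun h => by subst h; simp at hne
      by_contra hi1
      have hle5 : L'.index ≤ 5 := by
        have h2 := Nat.le_of_dvd (by norm_num) (Dvd.intro _ h15)
        interval_cases k <;> omega
      haveI : IsSimpleGroup A := alternatingGroup.isSimpleGroup (by rw [Nat.card_eq_fintype_card, hn]; omega)
      rcases L'.normalCore_normal.eq_bot_or_eq_top with hbot | htop
      · have hinj : Function.Injective (MulAction.toPermHom A (A ⧸ L')) := by
          rw [← MonoidHom.ker_eq_bot_iff, ← Subgroup.normalCore_eq_ker, hbot]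
        have h1 := Nat.card_le_card_of_injective _ hinj
        rw [Nat.card_perm, ← Subgroup.index_eq_card, show Nat.card A = 360 by omega] at h1
        have := Nat.factorial_le hle5
        norm_num [Nat.factorial] at this
        omega
      · exact hi1 (Subgroup.index_eq_one.2 (top_le_iff.1 (htop ▸ L'.normalCore_le)))
  · rw [not_and_or, not_le] at hsmall
    have hab : 3 ≤ a ∨ 3 ≤ b := by rcases hsmall with h | h <;> omega
    have hprim := isPreprimitive_of_lt f ha hb hab hf L hlt.le hnot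
    obtain ⟨g, hgL, hg3⟩ : ∃ g ∈ L, g.IsThreeCycle := by
      rcases Nat.lt_or_ge a 3 with ha3 | ha3
      · obtain rfl : a = 2 := by omega
        exact exists_three_cycle_pairs f (by omega) hf L hlt.le hnot
      · obtain ⟨x, -⟩ := exists_point f (by omega) hf ⟨0, by omega⟩
        obtain ⟨y, hy, hyx⟩ := exists_mate f ha hf x
        obtain ⟨z, hz, hzx, hzy⟩ := exists_third f ha3 hf x y
        exact ⟨swap x y * swap x z, hlt.le ⟨(partStab f).mul_mem (swap_mem_partStab f hy.symm)
          (swap_mem_partStab f hz.symm), mem_alt.2 (by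
            rw [Perm.sign_mul, Perm.sign_swap hyx.symm, Perm.sign_swap hzx.symm]; rfl)⟩,
          Perm.isThreeCycle_swap_mul_swap_same hyx.symm hzx.symm hzy.symm⟩
    exact Equiv.Perm.alternatingGroup_le_of_isPreprimitive_of_isThreeCycle_mem hprim hg3 hgL

theorem isCoatom_partStab_alternating (h8 : Fintype.card Ω ≠ 8) (ha : 2 ≤ a) (hb : 2 ≤ b)
    (hf : ∀ i : Fin b, Nat.card {x : Ω // f x = i} = a) :
    IsCoatom ((partStab f ⊓ alternatingGroup Ω).subgroupOf (alternatingGroup Ω)) := by
  set A := alternatingGroup Ω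
  refine ⟨fun h => not_alt_le f ha hb hf ((Subgroup.subgroupOf_eq_top.1 h).trans inf_le_left), fun L hL => ?_⟩
  have h1 : (L.map A.subtype).subgroupOf A = L := Subgroup.comap_map_eq_self_of_injective A.subtype_injective L
  have hle : partStab f ⊓ A ≤ L.map A.subtype := fun g hg =>
    ⟨⟨g, hg.2⟩, hL.le (show (⟨g, hg.2⟩ : A) ∈ (partStab f ⊓ A).subgroupOf A from hg), rfl⟩
  have hlt : partStab f ⊓ A < L.map A.subtype := lt_of_le_of_ne hle fun h => hL.ne (by rw [h, h1])
  rw [← h1, eq_alternating_of_lt f ha hb h8 hf _ (Subgroup.map_subtype_le L) hlt, Subgroup.subgroupOf_self]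

end CfsgLib.Geo
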