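/-
Tools for the three families of normalisers of two-groups of symplectic type in dimension four.
-/
import Cfsg.Agent.Lib.Geo.PauliApply
import Cfsg.Agent.Lib.Geo.Asch.SpForms
import Cfsg.Agent.Lib.Geo.Asch.UnitNine
import Cfsg.Agent.Lib.Classical.ClassTheory.Semisimple

set_option autoImplicit false

namespace CfsgLib.Geo.Pauli

open Matrix Cfsg.Geo Polynomial

variable {F : Type*} [Field F] [Fintype F] {p : ℕ} [Fact p.Prime] [CharP F p]

section Roots

variable {ι : Type} [Fintype ι] [DecidableEq ι] [Nonempty ι]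

theorem spec_reduce (x : Matrix ι ι F) {r : ℕ} (hr : (r : F) ≠ 0) (hx : x ^ r = 1) (a : ℕ) :
    (PauliRoots.spec x).map (· ^ a) = (PauliRoots.spec x).map (· ^ (a % r)) :=
  Multiset.map_congr rfl fun b hb => by
    conv_lhs => rw [pow_eq_pow_mod a (PauliRoots.root_pow x hr hx hb)]

theorem spec_frob (hF : Fintype.card F = p) (x : Matrix ι ι F) :
    (PauliRoots.spec x).map (· ^ p) = PauliRoots.spec x :=
  PauliRoots.spec_map_fix x fun a => by conv_lhs => rw [← hF]; exact FiniteField.pow_card a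

end Roots

theorem spec_unitary {n : ℕ} [Nonempty (Fin n)] (hF : Fintype.card F = p ^ 2) {x : GL (Fin n) F}
    (hx : x ∈ Cfsg.GU n F p) {r : ℕ} (hr : (r : F) ≠ 0) (hr1 : 2 ≤ r) (hxr : x ^ r = 1) :
    (PauliRoots.spec (x : Matrix (Fin n) (Fin n) F)).map (· ^ (p * (r - 1))) =
      PauliRoots.spec (x : Matrix (Fin n) (Fin n) F) := by
  obtain ⟨σ, hq⟩ := CfsgLib.Geo.Asch.exists_isQPow (F := F) hF
  set X := (x : Matrix (Fin n) (Fin n) F) with hX
  have hXr : X ^ r = 1 := by rw [hX, ← Units.val_pow_eq_pow_val, hxr, Units.val_one]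
  have h1 : Xᵀ * X.map σ = 1 := by
    ext i j
    have h : Cfsg.hermForm n F p (X *ᵥ Pi.single i 1) (X *ᵥ Pi.single j 1) =
        Cfsg.hermForm n F p (Pi.single i 1) (Pi.single j 1) := hx _ _
    rw [CfsgLib.Geo.Asch.hermForm_eq hq, CfsgLib.Geo.Asch.hermForm_eq hq] at h
    rw [mul_apply, one_apply]
    simpa [Pi.single_apply, eq_comm] using h
  have h2 : X.map σ = (X ^ (r - 1))ᵀ := by
    have e : (X ^ (r - 1))ᵀ * Xᵀ = 1 := by
      rw [← transpose_mul, ← pow_succ', Nat.sub_add_cancel (by omega), hXr, transpose_one]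
    calc X.map σ = (X ^ (r - 1))ᵀ * (Xᵀ * X.map σ) := by rw [← mul_assoc, e, one_mul]
      _ = _ := by rw [h1, mul_one]
  have h3 : X.charpoly.map σ.toRingHom = (X ^ (r - 1)).charpoly := by
    rw [← Matrix.charpoly_map, show X.map σ.toRingHom = X.map σ from rfl, h2, charpoly_transpose]
  have h4 := PauliRoots.spec_map_conj (p := p) σ hq.eq_pow X (X ^ (r - 1)) h3
  rw [PauliRoots.spec_pow X hr hXr] at h4
  have h5 := congrArg (fun M => Multiset.map (· ^ (r - 1)) M) h4
  simp only [Multiset.map_map, Function.comp_def, ← pow_mul] at h5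
  rw [← h5]
  conv_rhs => rw [← Multiset.map_id' (PauliRoots.spec X)]
  refine Multiset.map_congr rfl fun b hb => ?_
  have e1 : (r - 1) * (r - 1) % r = 1 % r := by
    obtain ⟨s, rfl⟩ : ∃ s, r = s + 2 := ⟨r - 2, by omega⟩
    rw [show (s + 2 - 1) * (s + 2 - 1) = 1 + (s + 2) * s by rw [Nat.add_sub_assoc (by norm_num)]; ring,
      Nat.add_mul_mod_self_left]
  rw [pow_eq_pow_mod _ (PauliRoots.root_pow X hr hXr hb), e1, ← pow_eq_pow_mod 1 (PauliRoots.root_pow X hr hXr hb),
    pow_one]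

theorem isConj_of_charpoly {n : ℕ} {x y : GL (Fin n) F} {N : ℕ} (hN : N.Coprime p) (hx : x ^ N = 1) (hy : y ^ N = 1)
    (h : (x : Matrix (Fin n) (Fin n) F).charpoly = (y : Matrix (Fin n) (Fin n) F).charpoly) : IsConj x y :=
  Known.SemisimpleClass.isConj_of_charpoly_eq (p := p) x y (Nat.Coprime.coprime_dvd_left (orderOf_dvd_of_pow_eq_one hx) hN)
    (Nat.Coprime.coprime_dvd_left (orderOf_dvd_of_pow_eq_one hy) hN) h

section Sq

variable {ι : Type} [Fintype ι] [DecidableEq ι]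

/-- The two shapes of a square root of a scalar. -/
theorem two_data (hp2 : p ≠ 2) (h4 : Fintype.card ι = 4) (x : Matrix ι ι F) {z : F}
    (hx : x ^ 2 = z • (1 : Matrix ι ι F)) (hdet : x.det = 1) (h8 : x ^ 8 = 1) (hns : ∀ c : F, x ≠ c • (1 : Matrix ι ι F)) :
    (x.trace = 0 ∧ z ^ 2 = 1) ∨ (x.trace ≠ 0 ∧ x.trace ^ 2 = 4 * z ∧ z ^ 2 = -1) := by
  haveI : Nonempty ι := Fintype.card_pos_iff.1 (by omega)
  have h2F : (2 : F) ≠ 0 := Ring.two_ne_zero (by rw [ringChar.eq F p]; exact hp2)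
  have hN : ((8 : ℕ) : F) ≠ 0 := by
    rw [show ((8 : ℕ) : F) = 2 * 2 * 2 by norm_num]
    exact mul_ne_zero (mul_ne_zero h2F h2F) h2F
  obtain ⟨s, hs⟩ := IsAlgClosed.exists_pow_nat_eq (algebraMap F (AlgebraicClosure F) z) (n := 2) (by norm_num)
  obtain ⟨a, ha, -, ht, hd⟩ := PauliRoots.square_roots hp2 x h4 hx hN h8 hns hs
  rw [hdet, map_one, show s ^ 4 = (s ^ 2) ^ 2 by ring, hs] at hd
  set A := algebraMap F (AlgebraicClosure F)
  have h2K : (2 : AlgebraicClosure F) ≠ 0 := by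
    rw [← map_ofNat A 2]
    exact (_root_.map_ne_zero A).2 h2F
  have hs0 : s ≠ 0 := by
    intro e
    rw [e] at hs
    have : z = 0 := A.injective (by rw [← hs, map_zero]; simp)
    rw [this] at hd
    simp at hd
  rcases ha with rfl | rfl | rfl
  · refine Or.inr ⟨fun e => ?_, A.injective ?_, A.injective ?_⟩
    · rw [e, map_zero] at ht
      exact mul_ne_zero h2K hs0 (by push_cast at ht; linear_combination ht)
    · rw [map_pow, ht, map_mul, map_ofNat, ← hs]; push_cast; ring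
    · rw [map_pow, map_neg, map_one]; norm_num at hd; linear_combination hd
  · refine Or.inl ⟨A.injective ?_, A.injective ?_⟩
    · rw [ht, map_zero]; push_cast; ring
    · rw [map_pow, map_one]; norm_num at hd; exact hd.symm
  · refine Or.inr ⟨fun e => ?_, A.injective ?_, A.injective ?_⟩
    · rw [e, map_zero] at ht
      exact mul_ne_zero h2K hs0 (by push_cast at ht; linear_combination -ht)
    · rw [map_pow, ht, map_mul, map_ofNat, ← hs]; push_cast; ring
    · rw [map_pow, map_neg, map_one]; norm_num at hd; linear_combination hd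

variable {R : Subgroup (GL ι F)}

/-- Elements of the normaliser with given square and trace. -/
theorem exists_two (h : IsPauli R) (f : Frame R) (hp2 : p ≠ 2) {x : GL ι F} {z : F}
    (hx : (x : Matrix ι ι F) ^ 2 = z • (1 : Matrix ι ι F)) (hdet : (x : Matrix ι ι F).det = 1)
    (h8 : x ^ 8 = 1) (hns : ∀ c : F, (x : Matrix ι ι F) ≠ c • (1 : Matrix ι ι F))
    (hi : z ^ 2 = -1 → (x : Matrix ι ι F).trace ≠ 0 → ∃ i ∈ R, i ∈ scalars ι F ∧ i * i = -1) :
    ∃ y ∈ subgroupNormalizer R, y ^ 8 = 1 ∧ (x : Matrix ι ι F).charpoly = (y : Matrix ι ι F).charpoly ∧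
      (y ∈ R ∨ (x : Matrix ι ι F).trace ≠ 0) := by
  haveI := h.nonempty
  have h2F := h.two
  have hN : ((8 : ℕ) : F) ≠ 0 := by
    rw [show ((8 : ℕ) : F) = 2 * 2 * 2 by norm_num]
    exact mul_ne_zero (mul_ne_zero h2F h2F) h2F
  have h8' : (x : Matrix ι ι F) ^ 8 = 1 := by rw [← Units.val_pow_eq_pow_val, h8, Units.val_one]
  have key : ∀ y ∈ subgroupNormalizer R, (y : Matrix ι ι F) ^ 2 = z • (1 : Matrix ι ι F) →
      (y : Matrix ι ι F).trace = (x : Matrix ι ι F).trace → (∀ c : F, (y : Matrix ι ι F) ≠ c • (1 : Matrix ι ι F)) →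
      y ^ 8 = 1 ∧ (x : Matrix ι ι F).charpoly = (y : Matrix ι ι F).charpoly := by
    intro y _ hy ht hny
    have hy8 : (y : Matrix ι ι F) ^ 8 = 1 := by
      rw [show 8 = 2 * 4 from rfl, pow_mul] at h8' ⊢
      rw [hx] at h8'
      rw [hy, h8']
    exact ⟨Units.ext (by rw [Units.val_pow_eq_pow_val, hy8, Units.val_one]),
      PauliRoots.square_eq hp2 _ _ h.card4 hx hy hN h8' hy8 hns hny ht.symm⟩
  have hnsc : ∀ y : GL ι F, y ∉ scalars ι F → ∀ c : F, (y : Matrix ι ι F) ≠ c • (1 : Matrix ι ι F) := by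
    intro y hy c e
    have hc : c ≠ 0 := by
      rintro rfl
      rw [zero_smul] at e
      exact y.isUnit.ne_zero e
    exact hy ((mem_scalars_iff y).2 ⟨Units.mk0 c hc, e⟩)
  rcases two_data hp2 h.card4 _ hx hdet h8' hns with ⟨ht, hz⟩ | ⟨ht, ht2, hz⟩
  · rcases sq_eq_one_iff.1 hz with rfl | rfl
    · have hns' := h.not_scalar_of_ac f.ab₂
      obtain ⟨h8y, hc⟩ := key f.a₂ (Subgroup.le_normalizer f.a₂R) (by rw [sq, ← Units.val_mul, f.a₂s, one_smul]; rfl)
        (by rw [h.trace_zero f.a₂R hns', ht]) (hnsc _ hns')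
      exact ⟨f.a₂, Subgroup.le_normalizer f.a₂R, h8y, hc, Or.inl f.a₂R⟩
    · have hns' := h.not_scalar_of_ac f.ab₁
      obtain ⟨h8y, hc⟩ := key f.a₁ (Subgroup.le_normalizer f.a₁R) (by rw [sq, ← Units.val_mul, f.a₁s, neg_smul, one_smul]; simp)
        (by rw [h.trace_zero f.a₁R hns', ht]) (hnsc _ hns')
      exact ⟨f.a₁, Subgroup.le_normalizer f.a₁R, h8y, hc, Or.inl f.a₁R⟩
  · obtain ⟨i, hiR, his, hii⟩ := hi hz ht
    obtain ⟨V, hV, hV2, hVt, hVns⟩ := f.exists_reflection h hiR his hii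
    set t := (x : Matrix ι ι F).trace
    have hc0 : t / 2 ≠ 0 := div_ne_zero ht h2F
    let S : GL ι F := Units.map (Matrix.scalar ι : F →+* Matrix ι ι F).toMonoidHom (Units.mk0 _ hc0)
    have hval : ((S * V : GL ι F) : Matrix ι ι F) = (t / 2) • (V : Matrix ι ι F) := by
      rw [Units.val_mul]
      show Matrix.scalar ι (t / 2) * _ = _
      rw [Matrix.scalar_apply, ← Matrix.smul_one_eq_diagonal, smul_mul_assoc, one_mul]
    have hN' : S * V ∈ subgroupNormalizer R := mul_mem (scalars_le_normalizer R ⟨_, rfl⟩) hV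
    obtain ⟨h8y, hc⟩ := key _ hN'
      (by rw [hval, _root_.smul_pow, hV2, show (t / 2) ^ 2 = z by field_simp; linear_combination ht2])
      (by rw [hval, trace_smul, hVt, smul_eq_mul, div_mul_cancel₀ t h2F])
      (fun c e => by
        rw [hval] at e
        have e' := congrArg ((t / 2)⁻¹ • ·) e
        simp only [smul_smul, inv_mul_cancel₀ hc0, one_smul] at e'
        exact hVns _ e')
    exact ⟨_, hN', h8y, hc, Or.inr ht⟩

end Sq

end CfsgLib.Geo.Pauli
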