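/-
Prime order elements and normalisers of two-groups of symplectic type in dimension four: the three primes.
-/
import Cfsg.Agent.Lib.Geo.PauliTools

set_option autoImplicit false

namespace CfsgLib.Geo.Pauli

open Matrix Cfsg.Geo

variable {ι : Type} [Fintype ι] [DecidableEq ι] {F : Type*} [Field F] [Fintype F]
  {p : ℕ} [Fact p.Prime] [CharP F p] {R T : Subgroup (GL ι F)}

/-- Every element of order `r` modulo scalars fixes a point. -/
def Fixes (R T : Subgroup (GL ι F)) (r : ℕ) : Prop :=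
  ∀ x ∈ T, (∃ z : F, ((x ^ r : GL ι F) : Matrix ι ι F) = z • (1 : Matrix ι ι F)) →
    (∀ z : F, (x : Matrix ι ι F) ≠ z • (1 : Matrix ι ι F)) → ∃ g ∈ T, g⁻¹ * x * g ∈ subgroupNormalizer R

/-- Some element of order `r` modulo scalars moves every point. -/
def Moves (R T : Subgroup (GL ι F)) (r : ℕ) : Prop :=
  ∃ x ∈ T, (∃ z : F, ((x ^ r : GL ι F) : Matrix ι ι F) = z • (1 : Matrix ι ι F)) ∧
    (∀ z : F, (x : Matrix ι ι F) ≠ z • (1 : Matrix ι ι F)) ∧ ∀ g : GL ι F, g⁻¹ * x * g ∉ subgroupNormalizer R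

/-- Conjugation into the normaliser of elements with given characteristic polynomial. -/
def Movable (R T : Subgroup (GL ι F)) (p : ℕ) : Prop :=
  ∀ (x : GL ι F) (y : GL ι F) (N : ℕ), x ∈ T → y ∈ subgroupNormalizer R → N.Coprime p → x ^ N = 1 → y ^ N = 1 →
    (x : Matrix ι ι F).charpoly = (y : Matrix ι ι F).charpoly → (y ∈ R ∨ (x : Matrix ι ι F).trace ≠ 0) →
      ∃ g ∈ T, g⁻¹ * x * g ∈ subgroupNormalizer R

theorem not_scalar_of_val {x : GL ι F} (h : ∀ z : F, (x : Matrix ι ι F) ≠ z • (1 : Matrix ι ι F)) :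
    x ∉ scalars ι F := fun hs => by
  obtain ⟨c, hc⟩ := (mem_scalars_iff x).1 hs
  exact h _ hc

theorem val_ne_of_not_scalar {x : GL ι F} (h : x ∉ scalars ι F) :
    ∀ z : F, (x : Matrix ι ι F) ≠ z • (1 : Matrix ι ι F) := fun z e => by
  by_cases hι : Nonempty ι
  · have hz : z ≠ 0 := by
      rintro rfl
      rw [zero_smul] at e
      exact x.isUnit.ne_zero e
    exact h ((mem_scalars_iff x).2 ⟨Units.mk0 z hz, e⟩)
  · rw [not_nonempty_iff] at hι
    exact h ((mem_scalars_iff x).2 ⟨1, Subsingleton.elim _ _⟩)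

/-- Elements with scalar prime power in determinant one. -/
theorem power_data (h : IsPauli R) (hdet : ∀ x ∈ T, (x : Matrix ι ι F).det = 1) {x : GL ι F} (hx : x ∈ T) {r : ℕ}
    (hxr : ∃ z : F, ((x ^ r : GL ι F) : Matrix ι ι F) = z • (1 : Matrix ι ι F)) :
    x ^ r ∈ scalars ι F ∧ x ^ (4 * r) = 1 := by
  obtain ⟨z, hz⟩ := hxr
  have hd := congrArg Matrix.det hz
  rw [hdet _ (pow_mem hx r), det_smul, h.card4, det_one, mul_one] at hd
  have hz0 : z ≠ 0 := by rintro rfl; rw [zero_pow (by norm_num)] at hd; exact one_ne_zero hd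
  refine ⟨(mem_scalars_iff _).2 ⟨Units.mk0 z hz0, hz⟩, Units.ext ?_⟩
  rw [mul_comm, pow_mul, Units.val_pow_eq_pow_val, hz, _root_.smul_pow, ← hd, one_pow, one_smul, Units.val_one]

theorem fixes_two (h : IsPauli R) (f : Frame R) (hp2 : p ≠ 2) (hdet : ∀ x ∈ T, (x : Matrix ι ι F).det = 1)
    (hi : ∀ x ∈ T, ∀ z : F, (x : Matrix ι ι F) ^ 2 = z • (1 : Matrix ι ι F) → z ^ 2 = -1 →
      ∃ i ∈ R, i ∈ scalars ι F ∧ i * i = -1)
    (move : Movable R T p) : Fixes R T 2 := by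
  intro x hx hx2 hns
  obtain ⟨-, h8⟩ := power_data h hdet hx hx2
  obtain ⟨z, hz⟩ := hx2
  rw [Units.val_pow_eq_pow_val] at hz
  obtain ⟨y, hy, hy8, hc, hor⟩ := exists_two h f hp2 hz (hdet x hx) h8 hns (fun hz2 _ => hi x hx z hz hz2)
  have hco : (8 : ℕ).Coprime p := by
    rw [show (8 : ℕ) = 2 ^ 3 from rfl]
    exact Nat.Coprime.pow_left 3 ((Nat.coprime_primes Nat.prime_two Fact.out).2 (Ne.symm hp2))
  exact move x y 8 hx hy hco h8 hy8 hc hor

/-- Reduction to elements of order exactly `r`. -/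
theorem reduce_order (h : IsPauli R) (hdet : ∀ x ∈ T, (x : Matrix ι ι F).det = 1) {x : GL ι F} (hx : x ∈ T)
    {r a b : ℕ} (hab : a = b + 1) (hra : r ∣ a) (hrb : 4 ∣ b)
    (hxr : ∃ z : F, ((x ^ r : GL ι F) : Matrix ι ι F) = z • (1 : Matrix ι ι F))
    (hns : ∀ z : F, (x : Matrix ι ι F) ≠ z • (1 : Matrix ι ι F)) :
    ∃ x' ∈ T, x' ^ r = 1 ∧ x' ∉ scalars ι F ∧
      ∀ g : GL ι F, g⁻¹ * x' * g ∈ subgroupNormalizer R → g⁻¹ * x * g ∈ subgroupNormalizer R := by
  obtain ⟨hs, hN⟩ := power_data h hdet hx hxr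
  obtain ⟨k, hk⟩ := hra
  have hS : x ^ a ∈ scalars ι F := by rw [hk, pow_mul]; exact pow_mem hs k
  have e : x = x ^ a * x⁻¹ ^ b := by rw [hab, pow_succ', inv_pow, mul_inv_cancel_right]
  refine ⟨x⁻¹ ^ b, pow_mem (inv_mem hx) b, ?_, fun hs' => not_scalar_of_val hns (e ▸ mul_mem hS hs'), fun g hg => ?_⟩
  · obtain ⟨l, hl⟩ := hrb
    rw [← pow_mul, inv_pow, hl, show 4 * l * r = 4 * r * l by ring, pow_mul, hN, one_pow, inv_one]
  · have e' : g⁻¹ * x * g = x ^ a * (g⁻¹ * x⁻¹ ^ b * g) := by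
      conv_lhs => rw [e]
      rw [show g⁻¹ * (x ^ a * x⁻¹ ^ b) * g = (g⁻¹ * x ^ a) * (x⁻¹ ^ b * g) by group, ← scalar_comm hS g⁻¹]
      group
    rw [e']
    exact mul_mem (scalars_le_normalizer R hS) hg

/-- Equal traces of an element of order three and its square force a spectrum closed under inversion. -/
theorem order_three_inv [Nonempty ι] (hp : 5 ≤ p) (x : Matrix ι ι F) (h4 : Fintype.card ι = 4) (hx : x ^ 3 = 1)
    (htr : x.trace = (x * x).trace) : (PauliRoots.spec x).map (· ^ 2) = PauliRoots.spec x := by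
  classical
  haveI : CharP (AlgebraicClosure F) p := (Algebra.charP_iff F (AlgebraicClosure F) p).1 inferInstance
  have hN : ((3 : ℕ) : F) ≠ 0 := by
    rw [Ne, CharP.cast_eq_zero_iff F p]
    intro hd
    have := Nat.le_of_dvd (by norm_num) hd
    omega
  have h3K : (3 : AlgebraicClosure F) ≠ 0 := by
    rw [← map_ofNat (algebraMap F (AlgebraicClosure F)) 3]
    exact (_root_.map_ne_zero _).2 (by exact_mod_cast hN)
  haveI : NeZero ((3 : ℕ) : AlgebraicClosure F) := ⟨by exact_mod_cast h3K⟩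
  obtain ⟨w, hw⟩ := HasEnoughRootsOfUnity.exists_primitiveRoot (AlgebraicClosure F) 3
  have hw3 := hw.pow_eq_one
  have hw1 : w ≠ 1 := hw.ne_one (by norm_num)
  have hw2 : w ^ 2 ≠ 1 := hw.pow_ne_one_of_pos_of_lt two_ne_zero (by norm_num)
  have hw12 : w ≠ w ^ 2 := fun e => hw1 (mul_left_cancel₀ (hw.ne_zero (by norm_num)) (by rw [mul_one, ← sq, ← e]))
  have hw4 : (w ^ 2) ^ 2 = w := by rw [← pow_mul, show 2 * 2 = 3 + 1 from rfl, pow_succ w 3, hw3, one_mul]
  set s := PauliRoots.spec x with hs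
  have hmem : ∀ b ∈ s, b ∈ ({1, w, w ^ 2} : Finset (AlgebraicClosure F)) := fun b hb => by
    obtain ⟨i, hi, rfl⟩ := hw.eq_pow_of_pow_eq_one (PauliRoots.root_pow x hN hx hb)
    interval_cases i <;> simp
  have hcard := PauliRoots.card_eq_sum hmem
  rw [hs, PauliRoots.card_spec, h4, ← hs, Finset.sum_insert (by simp [Ne.symm hw1, Ne.symm hw2]),
    Finset.sum_pair hw12] at hcard
  have hspec : s = Multiset.replicate (s.count 1) 1 +
      (Multiset.replicate (s.count w) w + Multiset.replicate (s.count (w ^ 2)) (w ^ 2)) := by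
    conv_lhs => rw [PauliRoots.eq_sum_of_subset hmem]
    rw [Finset.sum_insert (by simp [Ne.symm hw1, Ne.symm hw2]), Finset.sum_pair hw12]
  have h2 : s.map (· ^ 2) = Multiset.replicate (s.count 1) 1 +
      (Multiset.replicate (s.count w) (w ^ 2) + Multiset.replicate (s.count (w ^ 2)) w) := by
    conv_lhs => rw [hspec]
    simp only [Multiset.map_add, Multiset.map_replicate, one_pow, hw4]
  have ht := congrArg (algebraMap F (AlgebraicClosure F)) htr
  rw [← sq x, PauliRoots.trace_eq, PauliRoots.trace_eq, PauliRoots.spec_pow x hN hx, ← hs, h2] at ht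
  conv_lhs at ht => rw [hspec]
  simp only [Multiset.sum_add, Multiset.sum_replicate, nsmul_eq_mul, mul_one] at ht
  have e : ((s.count w : AlgebraicClosure F) - (s.count (w ^ 2) : AlgebraicClosure F)) * (w - w ^ 2) = 0 := by
    linear_combination ht
  have e' := (mul_eq_zero.1 e).resolve_right (sub_ne_zero.2 hw12)
  rw [sub_eq_zero, CharP.natCast_eq_natCast (AlgebraicClosure F) p, Nat.ModEq,
    Nat.mod_eq_of_lt (by omega), Nat.mod_eq_of_lt (by omega)] at e'
  rw [h2]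
  conv_rhs => rw [hspec]
  rw [e', add_comm (Multiset.replicate (s.count (w ^ 2)) (w ^ 2))]

theorem order_five_trace [Nonempty ι] (h5 : (5 : F) ≠ 0) (x : Matrix ι ι F) (h4 : Fintype.card ι = 4) (hx : x ^ 5 = 1)
    (hx1 : x ≠ 1) {k : ℕ} (hk : k % 5 = 2 ∨ k % 5 = 3)
    (hinv : (PauliRoots.spec x).map (· ^ k) = PauliRoots.spec x) : x.trace = -1 := by
  classical
  obtain ⟨w, hw, hs, hn⟩ := PauliRoots.order_five h5 x h4 hx hx1 hk hinv
  refine (algebraMap F (AlgebraicClosure F)).injective ?_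
  rw [PauliRoots.trace_eq, ← Multiset.toFinset_val (PauliRoots.spec x) |>.trans (Multiset.dedup_eq_self.2 hn), hs]
  have e : ∀ i j : ℕ, i < 5 → j < 5 → i ≠ j → w ^ i ≠ w ^ j := fun i j hi hj hij h => hij (hw.pow_inj hi hj h)
  have e1 : ∀ j : ℕ, j < 5 → 1 ≠ j → w ≠ w ^ j := fun j hj hij h => e 1 j (by norm_num) hj hij (by rw [pow_one]; exact h)
  show (({w, w ^ 2, w ^ 3, w ^ 4} : Finset (AlgebraicClosure F)).val).sum = _
  rw [Finset.sum_val, Finset.sum_insert (by simp [e1]), Finset.sum_insert (by simp [e]),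
    Finset.sum_pair (e 3 4 (by norm_num) (by norm_num) (by norm_num))]
  have hg := hw.geom_sum_eq_zero (by norm_num)
  simp [Finset.sum_range_succ] at hg
  rw [map_neg, map_one]
  simp only [id_eq]
  linear_combination hg

theorem fixes_three (h : IsPauli R) (f : Frame R) (hp2 : p ≠ 2) (hp3 : p ≠ 3)
    (hdet : ∀ x ∈ T, (x : Matrix ι ι F).det = 1) (hi : ∃ i ∈ R, i ∈ scalars ι F ∧ i * i = -1)
    (hinv : ∀ x ∈ T, x ^ 3 = 1 →
      (PauliRoots.spec (x : Matrix ι ι F)).map (· ^ 2) = PauliRoots.spec (x : Matrix ι ι F))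
    (move : Movable R T p) : Fixes R T 3 := by
  haveI := h.nonempty
  intro x hx hx3 hns
  obtain ⟨x', hx', hx'3, hns', hback⟩ :=
    reduce_order h hdet hx (a := 9) (b := 8) rfl (by norm_num) (by norm_num) hx3 hns
  have h3 : (3 : F) ≠ 0 := by
    intro e
    have : p ∣ 3 := by rw [← CharP.cast_eq_zero_iff F p]; exact_mod_cast e
    exact hp3 ((Nat.prime_dvd_prime_iff_eq Fact.out Nat.prime_three).1 this)
  set X := (x' : Matrix ι ι F) with hX
  have hX3 : X ^ 3 = 1 := by rw [hX, ← Units.val_pow_eq_pow_val, hx'3, Units.val_one]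
  have hX1 : X ≠ 1 := fun e => hns' (by rw [show x' = 1 from Units.ext e]; exact one_mem _)
  obtain ⟨w, m, -, -, hm, ht, -⟩ := PauliRoots.order_three h3 X h.card4 hX3 hX1 (hinv x' hx' hx'3)
  obtain ⟨i, hiR, his, hii⟩ := hi
  have h3N : ((3 : ℕ) : F) ≠ 0 := by exact_mod_cast h3
  obtain ⟨y, hy, hy3, hyt, hyt0, hyi⟩ : ∃ y ∈ subgroupNormalizer R, y ^ 3 = 1 ∧
      X.trace = (y : Matrix ι ι F).trace ∧ X.trace ≠ 0 ∧
      ((y : Matrix ι ι F) * y).trace = (y : Matrix ι ι F).trace := by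
    rcases hm with rfl | rfl
    · obtain ⟨y, hy, hy3, hyt, hyy⟩ := f.exists_three_one h hiR his hii
      have e : X.trace = 1 := by rw [ht]; norm_num
      exact ⟨y, hy, hy3, by rw [e, hyt], by rw [e]; exact one_ne_zero, by rw [hyy, hyt]⟩
    · obtain ⟨y, hy, hy3, hyt, hyy⟩ := f.exists_three_two h
      have e : X.trace = -2 := by rw [ht]; norm_num
      exact ⟨y, hy, hy3, by rw [e, hyt], by rw [e]; exact neg_ne_zero.2 h.two, by rw [hyy, hyt]⟩
  have hp5 : 5 ≤ p := by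
    have := (Fact.out : p.Prime).two_le
    have : p ≠ 4 := fun e => by subst e; exact absurd (Fact.out : Nat.Prime 4) (by decide)
    omega
  set Y := (y : Matrix ι ι F) with hY
  have hY3 : Y ^ 3 = 1 := by rw [hY, ← Units.val_pow_eq_pow_val, hy3, Units.val_one]
  have hY1 : Y ≠ 1 := by
    intro e
    rw [e, trace_one, h.card4] at hyt
    rcases hm with rfl | rfl <;> rw [ht] at hyt <;> norm_num at hyt
    · exact h3 (by linear_combination -hyt)
    · exact h3 (mul_left_cancel₀ h.two (by linear_combination -hyt))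
  obtain ⟨g, hg, hgN⟩ := move x' y 3 hx' hy ((Nat.coprime_primes Nat.prime_three Fact.out).2 (Ne.symm hp3)) hx'3 hy3
    (PauliRoots.order_three_eq (p := p) hp2 h3 X Y h.card4 hX3 hX1 (hinv x' hx' hx'3) hY3 hY1
      (order_three_inv hp5 Y h.card4 hY3 hyi.symm) hyt) (Or.inr hyt0)
  exact ⟨g, hg, hback g hgN⟩

theorem fixes_five (h : IsPauli R) (f : Frame R) (hp5 : p ≠ 5)
    (hdet : ∀ x ∈ T, (x : Matrix ι ι F).det = 1) {k : ℕ} (hk : k % 5 = 2 ∨ k % 5 = 3)
    (hinv : ∀ x : GL ι F, x ^ 5 = 1 → (x ∈ T ∨ x ∈ subgroupNormalizer R) →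
      (PauliRoots.spec (x : Matrix ι ι F)).map (· ^ k) = PauliRoots.spec (x : Matrix ι ι F))
    (hno : ∀ c ∈ scalars ι F, c ^ 5 = 1 → c = 1)
    (move : Movable R T p) : Fixes R T 5 := by
  haveI := h.nonempty
  classical
  intro x hx hx5 hns
  obtain ⟨x', hx', hx'5, hns', hback⟩ :=
    reduce_order h hdet hx (a := 5) (b := 4) rfl (by norm_num) (by norm_num) hx5 hns
  have h5 : (5 : F) ≠ 0 := by
    intro e
    have : p ∣ 5 := by rw [← CharP.cast_eq_zero_iff F p]; exact_mod_cast e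
    exact hp5 ((Nat.prime_dvd_prime_iff_eq Fact.out (by norm_num)).1 this)
  obtain ⟨y, hy, hy5, hyns⟩ := f.exists_five h hno
  set X := (x' : Matrix ι ι F) with hX
  have hX5 : X ^ 5 = 1 := by rw [hX, ← Units.val_pow_eq_pow_val, hx'5, Units.val_one]
  have hX1 : X ≠ 1 := fun e => hns' (by rw [show x' = 1 from Units.ext e]; exact one_mem _)
  set Y := (y : Matrix ι ι F) with hY
  have hY5 : Y ^ 5 = 1 := by rw [hY, ← Units.val_pow_eq_pow_val, hy5, Units.val_one]
  have hY1 : Y ≠ 1 := fun e => hyns (by rw [show y = 1 from Units.ext e]; exact one_mem _)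
  have ht : X.trace ≠ 0 := by
    rw [order_five_trace h5 X h.card4 hX5 hX1 hk (hinv x' hx'5 (Or.inl hx'))]
    exact neg_ne_zero.2 one_ne_zero
  obtain ⟨g, hg, hgN⟩ := move x' y 5 hx' hy ((Nat.coprime_primes (by norm_num) Fact.out).2 (Ne.symm hp5)) hx'5 hy5
    (PauliRoots.order_five_eq h5 X Y h.card4 hX5 hX1 hY5 hY1 hk (hinv x' hx'5 (Or.inl hx'))
      (hinv y hy5 (Or.inr hy))) (Or.inr ht)
  exact ⟨g, hg, hback g hgN⟩

theorem moves_large (h : IsPauli R) (hdet : ∀ x ∈ T, (x : Matrix ι ι F).det = 1) {r : ℕ} [Fact r.Prime] (hr : 7 ≤ r)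
    (hΩ : r ∣ (subgroupNormalizer R).relIndex T) : Moves R T r := by
  have hd : r ∣ Nat.card T := hΩ.trans (Subgroup.index_dvd_card _)
  obtain ⟨x, hx, hxr, hns, hm⟩ := h.exists_large T (fun z x hx e => by
    have hd := congrArg Matrix.det e
    rw [hdet x hx, det_smul, h.card4, det_one, mul_one] at hd
    refine Units.ext ?_
    rw [Units.val_pow_eq_pow_val, e, _root_.smul_pow, one_pow, ← hd, one_smul, Units.val_one]) hr hd
  exact ⟨x, hx, ⟨1, by rw [hxr, one_smul, Units.val_one]⟩, hns, hm⟩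

theorem main (h : IsPauli R) (hdet : ∀ x ∈ T, (x : Matrix ι ι F).det = 1) (c3 c5 : Prop) (f2 : Fixes R T 2)
    (f3 : c3 → Fixes R T 3) (n3 : ¬ c3 → Moves R T 3) (f5 : c5 → Fixes R T 5) (n5 : ¬ c5 → Moves R T 5)
    (r : ℕ) [Fact r.Prime] (hΩ : r ∣ (subgroupNormalizer R).relIndex T) :
    Fixes R T r ↔ (r = 2 ∨ (r = 3 ∧ c3) ∨ (r = 5 ∧ c5)) := by
  constructor
  · intro hall
    by_contra hne
    rw [not_or, not_or] at hne
    obtain ⟨h2, h3, h5⟩ := hne
    obtain ⟨x, hx, hxr, hns, hm⟩ : Moves R T r := by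
      by_cases e3 : r = 3
      · subst e3
        exact n3 fun hc => h3 ⟨rfl, hc⟩
      by_cases e5 : r = 5
      · subst e5
        exact n5 fun hc => h5 ⟨rfl, hc⟩
      have hp := (Fact.out : r.Prime)
      have := hp.two_le
      have h4 : r ≠ 4 := fun e => by subst e; exact absurd hp (by decide)
      have h6 : r ≠ 6 := fun e => by subst e; exact absurd hp (by decide)
      exact moves_large h hdet (by omega) hΩ
    obtain ⟨g, -, hg⟩ := hall x hx hxr hns
    exact hm g hg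
  · rintro (rfl | ⟨rfl, hc⟩ | ⟨rfl, hc⟩)
    exacts [f2, f3 hc, f5 hc]

end CfsgLib.Geo.Pauli
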