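/-
Elements moving every point: blocks and pseudo-reflections.
-/
import Cfsg.Agent.Lib.Geo.PauliCases

set_option autoImplicit false

namespace CfsgLib.Geo.Pauli

open Matrix Cfsg.Geo

variable {ι : Type} [Fintype ι] [DecidableEq ι] {F : Type*} [Field F] {R T : Subgroup (GL ι F)}

/-- The block matrix `u ⊕ 1`. -/
def blk (e : Fin 2 ⊕ Fin 2 ≃ ι) (u : Matrix (Fin 2) (Fin 2) F) : Matrix ι ι F :=
  Matrix.reindexAlgEquiv F F e (fromBlocks u 0 0 1)

theorem det_blk (e : Fin 2 ⊕ Fin 2 ≃ ι) (u : Matrix (Fin 2) (Fin 2) F) : (blk e u).det = u.det := by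
  rw [blk, Matrix.reindexAlgEquiv_apply, det_reindex_self, det_fromBlocks_zero₂₁, det_one, mul_one]

theorem blk_one (e : Fin 2 ⊕ Fin 2 ≃ ι) : blk e (1 : Matrix (Fin 2) (Fin 2) F) = 1 := by
  rw [blk, fromBlocks_one, map_one]

theorem blk_mul (e : Fin 2 ⊕ Fin 2 ≃ ι) (u v : Matrix (Fin 2) (Fin 2) F) : blk e (u * v) = blk e u * blk e v := by
  rw [blk, blk, blk, ← map_mul, fromBlocks_multiply]
  simp

theorem blk_pow (e : Fin 2 ⊕ Fin 2 ≃ ι) (u : Matrix (Fin 2) (Fin 2) F) (k : ℕ) : blk e (u ^ k) = blk e u ^ k := by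
  induction k with
  | zero => rw [pow_zero, pow_zero, blk_one]
  | succ k ih => rw [pow_succ, pow_succ, blk_mul, ih]

theorem blk_transpose (e : Fin 2 ⊕ Fin 2 ≃ ι) (u : Matrix (Fin 2) (Fin 2) F) : (blk e u)ᵀ = blk e uᵀ := by
  rw [blk, blk, Matrix.reindexAlgEquiv_apply, Matrix.reindexAlgEquiv_apply, Matrix.transpose_reindex,
    fromBlocks_transpose]
  simp

theorem blk_map (e : Fin 2 ⊕ Fin 2 ≃ ι) (u : Matrix (Fin 2) (Fin 2) F) (σ : F ≃+* F) :
    (blk e u).map σ = blk e (u.map σ) := by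
  rw [blk, blk, Matrix.reindexAlgEquiv_apply, Matrix.reindexAlgEquiv_apply]
  ext i j
  simp only [Matrix.map_apply, Matrix.reindex_apply, Matrix.submatrix_apply]
  rcases e.symm i with a | a <;> rcases e.symm j with b | b <;> simp [Matrix.one_apply, apply_ite σ]

theorem blk_not_scalar (e : Fin 2 ⊕ Fin 2 ≃ ι) {u : Matrix (Fin 2) (Fin 2) F} (hu : u ≠ 1) (z : F) :
    blk e u ≠ z • (1 : Matrix ι ι F) := by
  intro h
  have h' := congrArg (Matrix.reindexAlgEquiv F F e).symm h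
  rw [blk, AlgEquiv.symm_apply_apply, map_smul, map_one, ← fromBlocks_one, fromBlocks_smul, fromBlocks_inj] at h'
  obtain ⟨h11, -, -, h22⟩ := h'
  have hz : z = 1 := by simpa using (congrFun₂ h22 0 0).symm
  exact hu (by rw [h11, hz, one_smul])

theorem blk_fix (e : Fin 2 ⊕ Fin 2 ≃ ι) (u : Matrix (Fin 2) (Fin 2) F) (j : Fin 2) :
    blk e u *ᵥ Pi.single (e (Sum.inr j)) 1 = Pi.single (e (Sum.inr j)) 1 := by
  ext i
  rw [mulVec_single_one, blk, Matrix.reindexAlgEquiv_apply]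
  simp only [Matrix.col_apply, Matrix.reindex_apply, Matrix.submatrix_apply, Equiv.symm_apply_apply]
  obtain ⟨i, rfl⟩ := e.surjective i
  rw [e.symm_apply_apply, Pi.single_apply]
  rcases i with a | a <;> simp [Matrix.one_apply, e.injective.eq_iff]

/-- The matrix of trace `t` and determinant one satisfying `t² + t = 1` has order five. -/
theorem pow_five {u : Matrix (Fin 2) (Fin 2) F} {t : F} (hu : u * u = t • u - 1) (ht : t ^ 2 + t - 1 = 0) :
    u ^ 5 = 1 := by
  have h2 : u ^ 2 = t • u - 1 := by rw [sq, hu]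
  have h4 : u ^ 4 = (t ^ 3 - 2 * t) • u + (1 - t ^ 2) • (1 : Matrix (Fin 2) (Fin 2) F) := by
    rw [show 4 = 2 * 2 from rfl, pow_mul, h2, sq]
    simp only [sub_mul, mul_sub, smul_mul_smul_comm, one_mul, mul_one, hu]
    module
  rw [pow_succ, h4, add_mul, smul_mul_assoc, hu, smul_mul_assoc, one_mul]
  match_scalars
  · linear_combination (t ^ 2 - t - 1) * ht
  · linear_combination -(t - 1) * ht

theorem sq_of_fin_two (u : Matrix (Fin 2) (Fin 2) F) (hd : u.det = 1) : u * u = u.trace • u - 1 := by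
  rw [det_fin_two] at hd
  ext i j
  fin_cases i <;> fin_cases j <;>
    simp [Matrix.mul_apply, Fin.sum_univ_two, trace, Matrix.one_apply] <;>
    first
      | ring1
      | linear_combination -hd
      | linear_combination hd

/-- A block of order five moves every point. -/
theorem moves_five [Fintype F] (h : IsPauli R) (e : Fin 2 ⊕ Fin 2 ≃ ι) {u : Matrix (Fin 2) (Fin 2) F} (hd : u.det = 1)
    {t : F} (htu : u.trace = t) (ht : t ^ 2 + t - 1 = 0) (hu1 : u ≠ 1) {x : GL ι F} (hx : x ∈ T)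
    (hxv : (x : Matrix ι ι F) = blk e u) : Moves R T 5 := by
  have h5 : x ^ 5 = 1 := Units.ext (by
    rw [Units.val_pow_eq_pow_val, hxv, ← blk_pow, pow_five (htu ▸ sq_of_fin_two u hd) ht, blk_one, Units.val_one])
  have hns : ∀ z : F, (x : Matrix ι ι F) ≠ z • (1 : Matrix ι ι F) := fun z => hxv ▸ blk_not_scalar e hu1 z
  refine ⟨x, hx, ⟨1, by rw [h5, one_smul, Units.val_one]⟩, hns, fun g => ?_⟩
  refine h.five_moves h5 (not_scalar_of_val hns) (v := Pi.single (e (Sum.inr 0)) 1) (w := Pi.single (e (Sum.inr 1)) 1)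
    ?_ (hxv ▸ blk_fix e u 0) (hxv ▸ blk_fix e u 1) g
  rw [LinearIndependent.pair_iff]
  intro s t' hst
  have e0 := congrFun hst (e (Sum.inr 0))
  have e1 := congrFun hst (e (Sum.inr 1))
  simp [Pi.single_apply, e.injective.eq_iff] at e0 e1
  exact ⟨e0, e1⟩

/-- A scalar multiple of a pseudo-reflection of odd order moves every point. -/
theorem moves_pseudo (h : IsPauli R) {r : ℕ} (hr : Odd r) {x : GL ι F} (hx : x ∈ T) (hxr : x ^ r = 1)
    (hns : ∀ z : F, (x : Matrix ι ι F) ≠ z • (1 : Matrix ι ι F)) {w : F} (hw : w ^ r = 1) {n φ : ι → F}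
    (hxv : (x : Matrix ι ι F) = w • (1 + vecMulVec n φ)) : Moves R T r := by
  have hw0 : w ≠ 0 := by rintro rfl; rw [zero_pow (by rintro rfl; simp at hr)] at hw; exact zero_ne_one hw
  let S : GL ι F := Units.map (Matrix.scalar ι : F →+* Matrix ι ι F).toMonoidHom (Units.mk0 w hw0)⁻¹
  have hS : S ∈ scalars ι F := ⟨_, rfl⟩
  have hv : ((S * x : GL ι F) : Matrix ι ι F) = 1 + vecMulVec n φ := by
    rw [Units.val_mul, hxv]
    show Matrix.scalar ι (((Units.mk0 w hw0)⁻¹ : Fˣ) : F) * _ = _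
    rw [Matrix.scalar_apply, ← Matrix.smul_one_eq_diagonal, smul_mul_smul_comm, one_mul, Units.val_inv_eq_inv_val,
      Units.val_mk0, inv_mul_cancel₀ hw0, one_smul]
  have hne : S * x ≠ 1 := by
    intro e
    rw [e, Units.val_one] at hv
    exact hns w (by rw [hxv, ← hv])
  have hr' : (S * x) ^ r = 1 := by
    refine Units.ext ?_
    have e : x ^ r = 1 := hxr
    rw [(show Commute S x from scalar_comm hS x).mul_pow, e, mul_one, Units.val_one]
    show ((Units.map (Matrix.scalar ι : F →+* Matrix ι ι F).toMonoidHom _ ^ r : GL ι F) : Matrix ι ι F) = 1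
    rw [← map_pow, inv_pow, show (Units.mk0 w hw0) ^ r = 1 from Units.ext (by simpa using hw), inv_one, map_one,
      Units.val_one]
  refine ⟨x, hx, ⟨1, by rw [hxr, one_smul, Units.val_one]⟩, hns, fun g hg => ?_⟩
  refine h.pseudo_moves hr hr' hv hne g ?_
  have e : g⁻¹ * (S * x) * g = S * (g⁻¹ * x * g) := by rw [← mul_assoc g⁻¹, ← scalar_comm hS g⁻¹]; group
  rw [e]
  exact mul_mem (scalars_le_normalizer R hS) hg

/-- An element `diag(w, w, w, 1)` with `w³ = 1 ≠ w` moves every point. -/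
theorem moves_diag {R T : Subgroup (GL (Fin 4) F)} (h : IsPauli R) {w : F} (hw : w ^ 3 = 1) (hw1 : w ≠ 1)
    {x : GL (Fin 4) F} (hx : x ∈ T) (hxv : (x : Matrix (Fin 4) (Fin 4) F) = diagonal ![w, w, w, 1]) :
    Moves R T 3 := by
  have hw0 : w ≠ 0 := by rintro rfl; simp at hw
  have hns : ∀ z : F, (x : Matrix (Fin 4) (Fin 4) F) ≠ z • (1 : Matrix (Fin 4) (Fin 4) F) := by
    intro z e
    rw [hxv] at e
    have e0 := congrFun₂ e 0 0
    have e3 := congrFun₂ e 3 3
    simp at e0 e3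
    exact hw1 (e0.trans e3.symm)
  refine moves_pseudo h (by decide) hx (Units.ext ?_) hns hw
    (n := Pi.single 3 1) (φ := Pi.single 3 (w⁻¹ - 1)) ?_
  · rw [Units.val_pow_eq_pow_val, hxv, diagonal_pow, Units.val_one, ← diagonal_one]
    congr 1
    funext i
    fin_cases i <;> simp [hw]
  · rw [hxv]
    ext i j
    fin_cases i <;> fin_cases j <;> simp [vecMulVec_apply, hw0]

end CfsgLib.Geo.Pauli
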