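/-
The linear family of normalisers of two-groups of symplectic type in dimension four, and shared arithmetic.
-/
import Cfsg.Agent.Lib.Geo.PauliBlock
import Cfsg.Agent.Lib.Geo.ExtraTwentySevenApply
import Mathlib.NumberTheory.LegendreSymbol.QuadraticReciprocity

set_option autoImplicit false

namespace CfsgLib.Geo.Pauli

open Matrix Cfsg.Geo

variable {F : Type*} [Field F] [Fintype F] {p : ℕ} [Fact p.Prime] [CharP F p]

theorem orderOf_five (p : ℕ) : orderOf (p : ZMod 5) = 4 ↔ (p % 5 = 2 ∨ p % 5 = 3) := by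
  have key : ∀ x : ZMod 5, (x ^ 4 = 1 ∧ ∀ m < 4, 0 < m → x ^ m ≠ 1) ↔ (x.val = 2 ∨ x.val = 3) := by decide
  rw [orderOf_eq_iff (by norm_num), key, ZMod.val_natCast]

theorem scalar_five {ι : Type} [Fintype ι] [DecidableEq ι] [Nonempty ι] (h5 : ¬ 5 ∣ Fintype.card F - 1) :
    ∀ c ∈ scalars ι F, c ^ 5 = 1 → c = 1 := by
  intro c hc h
  obtain ⟨d, hd⟩ := (mem_scalars_iff c).1 hc
  have e := congrArg Units.val h
  rw [Units.val_pow_eq_pow_val, hd, _root_.smul_pow, one_pow, Units.val_one] at e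
  obtain ⟨i⟩ := ‹Nonempty ι›
  have e' := congrFun₂ e i i
  simp at e'
  have hd5 : d ^ 5 = 1 := Units.ext (by rw [Units.val_pow_eq_pow_val, Units.val_one]; exact e')
  have hcop : Nat.Coprime 5 (Nat.card Fˣ) := by
    rw [Nat.card_units, Nat.card_eq_fintype_card]
    exact (Nat.Prime.coprime_iff_not_dvd (by norm_num)).2 h5
  have : d = 1 := orderOf_eq_one_iff.1 (Nat.eq_one_of_dvd_coprimes hcop (orderOf_dvd_of_pow_eq_one hd5) (orderOf_dvd_natCard d))
  exact Units.ext (by rw [hd, this, Units.val_one, one_smul]; rfl)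

theorem isSquare_five : ∀ x : ZMod 5, (x.val = 1 ∨ x.val = 4) → IsSquare x := by decide

omit [Fintype F] in
/-- A solution of `t² + t = 1` in the prime field. -/
theorem exists_five_trace (hp2 : p ≠ 2) (h : ¬ (p % 5 = 2 ∨ p % 5 = 3)) :
    ∃ t : F, t ^ p = t ∧ t ^ 2 + t - 1 = 0 ∧ (p ≠ 5 → t ^ 2 ≠ 4) := by
  have h2 : (2 : ZMod p) ≠ 0 := by
    intro e
    have : p ∣ 2 := by rw [← ZMod.natCast_eq_zero_iff]; exact_mod_cast e
    exact hp2 ((Nat.prime_dvd_prime_iff_eq Fact.out Nat.prime_two).1 this)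
  have hsq : IsSquare (5 : ZMod p) := by
    by_cases e5 : p = 5
    · subst e5; exact ⟨0, by rw [mul_zero]; exact_mod_cast ZMod.natCast_self 5⟩
    · haveI : Fact (Nat.Prime 5) := ⟨by norm_num⟩
      have hiff := ZMod.exists_sq_eq_prime_iff_of_mod_four_eq_one (p := 5) (q := p) (by norm_num) hp2
      refine (show IsSquare ((5 : ℕ) : ZMod p) → IsSquare (5 : ZMod p) by norm_num) (hiff.1 (isSquare_five _ ?_))
      rw [ZMod.val_natCast]
      have hne : p % 5 ≠ 0 := fun e => e5 ((Nat.prime_dvd_prime_iff_eq (by norm_num) Fact.out).1 (Nat.dvd_of_mod_eq_zero e)).symm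
      omega
  obtain ⟨s, hs⟩ := hsq
  set t₀ : ZMod p := (s - 1) / 2 with ht₀
  have ht : t₀ ^ 2 + t₀ - 1 = 0 := by rw [ht₀]; field_simp; linear_combination -hs
  let φ := ZMod.castHom (dvd_refl p) F
  refine ⟨φ t₀, by rw [← map_pow, ZMod.pow_card], by rw [← map_pow, ← map_one φ, ← map_add, ← map_sub, ht, map_zero], ?_⟩
  intro hp5 e
  rw [← map_pow, ← map_ofNat φ 4] at e
  have e4 := φ.injective e
  have e3 : t₀ = -3 := by linear_combination ht - e4
  rw [e3] at e4
  have : p ∣ 5 := by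
    rw [← ZMod.natCast_eq_zero_iff]
    push_cast
    linear_combination e4
  exact hp5 ((Nat.prime_dvd_prime_iff_eq Fact.out (by norm_num)).1 this)

theorem linear_main (hF : Fintype.card F = p) (hp4 : p % 4 = 1) (R : Subgroup (GL (Fin 4) F))
    (hR : IsLinearSymplecticTypeData 2 R) (hR6 : Nat.card R = 2 ^ 6) (r : ℕ) [Fact r.Prime]
    (hΩ : r ∣ (subgroupNormalizer R).relIndex (specialLinear (Fin 4) F)) :
    Fixes R (specialLinear (Fin 4) F) r ↔
      (r = 2 ∨ (r = 3 ∧ p % 3 = 2) ∨ (r = 5 ∧ orderOf (p : ZMod 5) = 4)) := by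
  have hp2 : p ≠ 2 := by omega
  have hp3 : p ≠ 3 := by omega
  obtain ⟨q, e, -, -, hcases⟩ := hR.field
  have hZ : Nat.card (Subgroup.center R) = 4 := by
    rcases hcases with h | h | h
    · exact absurd h.1 (by decide)
    · exact h.2.2.1
    · have := h.2.2.1; rw [Fintype.card_fin] at this; omega
  have h : IsPauli R := isPauli_of hp2 (Fintype.card_fin 4) hR.symplecticType hR.absIrred (by rw [hR6]; norm_num) hZ
  obtain ⟨i, hiR, his, hii⟩ := h.exists_i hZ
  obtain ⟨f⟩ := h.exists_frame_scalar hiR his hii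
  have hdet : ∀ x ∈ specialLinear (Fin 4) F, (x : Matrix (Fin 4) (Fin 4) F).det = 1 := fun x hx =>
    ExtraConj.det_val_eq_one hx
  have move : Movable R (specialLinear (Fin 4) F) p := fun x y N _ hy hN hx' hy' hc _ =>
    ExtraConj.sl_move (p := p) (Nat.Coprime.coprime_dvd_left (orderOf_dvd_of_pow_eq_one hx') hN) hy
      (isConj_of_charpoly hN hx' hy' hc)
  have mk : ∀ M : Matrix (Fin 4) (Fin 4) F, M.det = 1 → ∃ x ∈ specialLinear (Fin 4) F,
      (x : Matrix (Fin 4) (Fin 4) F) = M := fun M hM =>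
    ⟨Matrix.GeneralLinearGroup.mkOfDetNeZero M (by rw [hM]; exact one_ne_zero),
      ExtraConj.mem_specialLinear_of_det hM, rfl⟩
  refine main h hdet _ _ (fixes_two h f hp2 hdet (fun _ _ _ _ _ => ⟨i, hiR, his, hii⟩) move) (fun h3 => ?_)
    (fun h3 => ?_) (fun h5 => ?_) (fun h5 => ?_) r hΩ
  · refine fixes_three h f hp2 hp3 hdet ⟨i, hiR, his, hii⟩ (fun x hx hx3 => ?_) move
    have h3F : ((3 : ℕ) : F) ≠ 0 := natCast_ne_zero_of_coprime ((Nat.coprime_primes Nat.prime_three Fact.out).2 (Ne.symm hp3))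
    have hx3' : (x : Matrix (Fin 4) (Fin 4) F) ^ 3 = 1 := by rw [← Units.val_pow_eq_pow_val, hx3, Units.val_one]
    have e := spec_reduce _ h3F hx3' p
    rw [h3, spec_frob hF] at e
    exact e.symm
  · have h3' : 3 ∣ Fintype.card F - 1 := by
      rw [hF]
      have : p % 3 ≠ 0 := fun e => hp3 ((Nat.prime_dvd_prime_iff_eq Nat.prime_three Fact.out).1 (Nat.dvd_of_mod_eq_zero e)).symm
      omega
    obtain ⟨w, hw⟩ := Extra27.exists_primitive (F := F) h3' (by norm_num)
    have hd : (diagonal ![w, w, w, 1] : Matrix (Fin 4) (Fin 4) F).det = 1 := by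
      simp [Fin.prod_univ_four]
      linear_combination hw.pow_eq_one
    obtain ⟨x, hx, hxv⟩ := mk _ hd
    exact moves_diag h hw.pow_eq_one (hw.ne_one (by norm_num)) hx hxv
  · rw [orderOf_five] at h5
    refine fixes_five h f (by omega) hdet (k := p) h5 (fun x _ _ => spec_frob hF _) (scalar_five ?_) move
    rw [hF]; omega
  · rw [orderOf_five] at h5
    obtain ⟨t, -, ht, -⟩ := exists_five_trace (F := F) hp2 h5
    let u : Matrix (Fin 2) (Fin 2) F := !![0, -1; 1, t]
    have hu : u.det = 1 := by simp [u, det_fin_two]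
    obtain ⟨x, hx, hxv⟩ := mk (blk finSumFinEquiv u) (by rw [det_blk, hu])
    exact moves_five h finSumFinEquiv hu (by simp [u, trace, Fin.sum_univ_two]) ht
      (fun e => by simpa [u] using congrFun₂ e 0 0) hx hxv

end CfsgLib.Geo.Pauli
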