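/-
The symplectic family of normalisers of extraspecial two-groups of minus type in dimension four.
-/
import Cfsg.Agent.Lib.Geo.PauliLinear
import Cfsg.Agent.Lib.Classical.Symplectic.Matrix

set_option autoImplicit false

namespace CfsgLib.Geo.Pauli

open Matrix Cfsg.Geo

variable {F : Type*} [Field F] [Fintype F] {p : ℕ} [Fact p.Prime] [CharP F p]

local notation "II" => (Fin 2 ⊕ Fin 2)

/-- The pairing of the two hyperbolic planes. -/
def pairing : II ≃ II := Equiv.swap (Sum.inl 1) (Sum.inr 0)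

omit [Fintype F] in
theorem J_eq : Matrix.J (Fin 2) F =
    Matrix.reindexAlgEquiv F F pairing (fromBlocks !![0, -1; 1, 0] 0 0 !![0, -1; 1, 0]) := by
  ext i j
  rw [Matrix.reindexAlgEquiv_apply]
  rcases i with i | i <;> rcases j with j | j <;> fin_cases i <;> fin_cases j <;>
    simp [Matrix.J, pairing, Equiv.swap_apply_def]

omit [Fintype F] in
theorem blk_mem {u : Matrix (Fin 2) (Fin 2) F} (hu : u.det = 1) :
    blk pairing u ∈ Matrix.symplecticGroup (Fin 2) F := by
  rw [SymplecticGroup.mem_iff', blk_transpose, blk, blk, J_eq, ← map_mul, ← map_mul, fromBlocks_multiply,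
    fromBlocks_multiply]
  congr 1
  have e : uᵀ * !![0, -1; 1, 0] * u = !![(0 : F), -1; 1, 0] := by
    rw [det_fin_two] at hu
    ext i j
    fin_cases i <;> fin_cases j <;> simp [Matrix.mul_apply, Fin.sum_univ_two] <;>
      first
        | ring1
        | linear_combination hu
        | linear_combination -hu
  simp [e]

theorem trace_adjS (X : Matrix II II F) : (CfsgLib.Geo.Asch.adjS X).trace = X.trace := by
  rw [CfsgLib.Geo.Asch.adjS, trace_neg, trace_mul_cycle, Matrix.J_squared, neg_one_mul, trace_neg, neg_neg,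
    trace_transpose]

theorem trace_inv_of_charpoly {ι : Type} [Fintype ι] [DecidableEq ι] [Nonempty ι] {x y : GL ι F} {N : ℕ}
    (hN : N.Coprime p) (hx : x ^ N = 1) (hy : y ^ N = 1)
    (hc : (x : Matrix ι ι F).charpoly = (y : Matrix ι ι F).charpoly) :
    ((x⁻¹ : GL ι F) : Matrix ι ι F).trace = ((y⁻¹ : GL ι F) : Matrix ι ι F).trace := by
  have hN0 : (N : F) ≠ 0 := natCast_ne_zero_of_coprime hN
  have h1 : 1 ≤ N := Nat.one_le_iff_ne_zero.2 (by rintro rfl; simp at hN0)
  have e : ∀ z : GL ι F, z ^ N = 1 → ((z⁻¹ : GL ι F) : Matrix ι ι F) = (z : Matrix ι ι F) ^ (N - 1) := fun z hz => by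
    rw [← Units.val_pow_eq_pow_val]
    congr 1
    exact inv_eq_of_mul_eq_one_right (by rw [← pow_succ', Nat.sub_add_cancel h1, hz])
  have hxm : (x : Matrix ι ι F) ^ N = 1 := by rw [← Units.val_pow_eq_pow_val, hx, Units.val_one]
  have hym : (y : Matrix ι ι F) ^ N = 1 := by rw [← Units.val_pow_eq_pow_val, hy, Units.val_one]
  refine (algebraMap F (AlgebraicClosure F)).injective ?_
  rw [e x hx, e y hy, PauliRoots.trace_eq, PauliRoots.trace_eq, PauliRoots.spec_pow _ hN0 hxm,
    PauliRoots.spec_pow _ hN0 hym, PauliRoots.spec_of_charpoly hc]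

theorem symplectic_main (hF : Fintype.card F = p) (hodd : Odd p) (R : Subgroup (GL II F))
    (hRs : IsSymplecticTypeGroup 2 R) (hRi : ActsAbsolutelyIrreducibly (matrixSet R)) (hRf : R ≤ Cfsg.spGL 2 F)
    (hR5 : Nat.card R = 2 ^ 5) (hRZ : Nat.card (Subgroup.center R) = 2) (hRm : IsOfMinusType 2 R)
    (r : ℕ) [Fact r.Prime] (hΩ : r ∣ (subgroupNormalizer R).relIndex (Cfsg.spGL 2 F)) :
    Fixes R (Cfsg.spGL 2 F) r ↔ (r = 2 ∨ (r = 5 ∧ orderOf (p : ZMod 5) = 4)) := by
  have hpp := (Fact.out : p.Prime)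
  have hp2 : p ≠ 2 := by rintro rfl; exact absurd hodd (by decide)
  have h : IsPauli R := isPauli_of hp2 (by simp) hRs hRi (by rw [hR5]; norm_num) hRZ
  have hZ := h.scalar_minus hRZ
  obtain ⟨f⟩ := h.exists_frame_minus hRm hZ
  have hval : ∀ x ∈ Cfsg.spGL 2 F, (x : Matrix II II F) ∈ Matrix.symplecticGroup (Fin 2) F := fun x hx =>
    CfsgLib.Classical.Symp.mem_symplecticGroup_iff_form.2 hx
  have hdet : ∀ x ∈ Cfsg.spGL 2 F, (x : Matrix II II F).det = 1 := fun x hx => SymplecticGroup.det_eq_one (hval x hx)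
  have mk : ∀ M : Matrix II II F, M ∈ Matrix.symplecticGroup (Fin 2) F →
      ∃ x ∈ Cfsg.spGL 2 F, (x : Matrix II II F) = M := fun M hM =>
    ⟨_, CfsgLib.Classical.Symp.mkOfDetNeZero_mem 2 F ⟨M, hM⟩, rfl⟩
  have move : Movable R (Cfsg.spGL 2 F) p := by
    intro x y N hx hy hN hx' hy' hc hor
    have hyS : y ∈ Cfsg.spGL 2 F := by
      rcases hor with h' | htr
      · exact hRf h'
      haveI := h.nonempty
      obtain ⟨c, hcy⟩ := CfsgLib.Geo.Asch.le_similarityGroup (H := subgroupNormalizer R)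
        (fun a ha b hb => (Subgroup.mem_normalizer_iff.1 ha b).1 hb) hRi CfsgLib.Geo.Asch.sympSesq
        CfsgLib.Geo.Roots.isSymplecticForm_sympForm.nondegenerate (CfsgLib.Geo.Asch.fixesForm_of_le_spGL hRf) hy
      have hadj : CfsgLib.Geo.Asch.adjS (y : Matrix II II F) = (c : F) • ((y⁻¹ : GL II F) : Matrix II II F) := by
        refine CfsgLib.Geo.Asch.adjS_unique fun u v => ?_
        conv_lhs => rw [← CfsgLib.Geo.Asch.inv_mulVec_cancel y v]
        rw [hcy, smul_mulVec, CfsgLib.Geo.Roots.isSymplecticForm_sympForm.bilinear.smul_right]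
      have e := congrArg Matrix.trace hadj
      rw [trace_adjS, trace_smul, ← trace_inv_of_charpoly hN hx' hy' hc, ← CfsgLib.Geo.Asch.adjS_of_mem hx, trace_adjS,
        Matrix.trace_eq_neg_charpoly_coeff (y : Matrix II II F), ← hc, ← Matrix.trace_eq_neg_charpoly_coeff,
        smul_eq_mul] at e
      have hc1 : (c : F) = 1 := mul_right_cancel₀ htr (by rw [one_mul]; exact e.symm)
      intro u v
      have := hcy u v
      rw [hc1, one_mul] at this
      exact this
    set A : Matrix.symplecticGroup (Fin 2) F := ⟨_, hval x hx⟩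
    set B : Matrix.symplecticGroup (Fin 2) F := ⟨_, hval y hyS⟩
    have hAB : ∀ (z : GL II F) (hz : z ∈ Cfsg.spGL 2 F), z ^ N = 1 →
        (orderOf (⟨_, hval z hz⟩ : Matrix.symplecticGroup (Fin 2) F)).Coprime p := fun z hz hzN =>
      Nat.Coprime.coprime_dvd_left (orderOf_dvd_of_pow_eq_one (Subtype.ext (by
        rw [SubmonoidClass.coe_pow]
        show (z : Matrix II II F) ^ N = 1
        rw [← Units.val_pow_eq_pow_val, hzN, Units.val_one]))) hN
    obtain ⟨g, hg⟩ := isConj_iff.1
      (CfsgLib.Classical.ClassTheory.sp_isConj_of_charpoly A B (hAB x hx hx') (hAB y hyS hy') hc)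
    let G : Cfsg.spGL 2 F := CfsgLib.Classical.Symp.symplecticEquivSpGL 2 F g
    have hGv : ((G : GL II F) : Matrix II II F) = (g : Matrix II II F) := rfl
    refine ⟨(G : GL II F)⁻¹, inv_mem G.2, ?_⟩
    rw [inv_inv, show (G : GL II F) * x * (G : GL II F)⁻¹ = y from mul_inv_eq_iff_eq_mul.2 (Units.ext (by
      rw [Units.val_mul, Units.val_mul, hGv]
      exact congrArg Subtype.val (mul_inv_eq_iff_eq_mul.1 hg)))]
    exact hy
  have hmain := main h hdet False (orderOf (p : ZMod 5) = 4) (fixes_two h f hp2 hdet ?_ move) False.elim ?_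
    (fun h5 => ?_) (fun h5 => ?_) r hΩ
  · rw [hmain]; simp
  · intro x hx z hz hz2
    exfalso
    have e := hval _ (mul_mem hx hx)
    rw [Units.val_mul, ← sq, hz, SymplecticGroup.mem_iff', transpose_smul, transpose_one, smul_mul_assoc, one_mul,
      smul_mul_assoc, mul_smul_comm, mul_one, smul_smul, ← sq, hz2] at e
    have e' := congrFun₂ e (Sum.inl 0) (Sum.inr 0)
    simp [Matrix.J] at e'
    exact h.two (by linear_combination e')
  · intro _
    by_cases hp3 : p = 3
    · subst hp3
      have h3 : (3 : F) = 0 := by exact_mod_cast CharP.cast_eq_zero F 3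
      let u : Matrix (Fin 2) (Fin 2) F := !![1, 0; 1, 1]
      obtain ⟨x, hx, hxv⟩ := mk _ (blk_mem (u := u) (by simp [u, det_fin_two]))
      have hu3 : u ^ 3 = 1 := by
        ext i j
        fin_cases i <;> fin_cases j <;> simp [u, pow_succ, Matrix.mul_apply, Fin.sum_univ_two] <;>
          linear_combination h3
      refine moves_pseudo h (by decide) hx (Units.ext (by
          rw [Units.val_pow_eq_pow_val, hxv, ← blk_pow, hu3, blk_one, Units.val_one]))
        (fun z => hxv ▸ blk_not_scalar pairing (fun e => by simpa [u] using congrFun₂ e 1 0) z) (one_pow 3)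
        (n := Pi.single (Sum.inr 0) 1) (φ := Pi.single (Sum.inl 0) 1) ?_
      rw [hxv, one_smul, blk, Matrix.reindexAlgEquiv_apply]
      ext i j
      rcases i with i | i <;> rcases j with j | j <;> fin_cases i <;> fin_cases j <;>
        simp [u, pairing, Equiv.swap_apply_def, vecMulVec_apply]
    · have h3 : (3 : F) ≠ 0 := by
        intro e
        have : p ∣ 3 := by rw [← CharP.cast_eq_zero_iff F p]; exact_mod_cast e
        exact hp3 ((Nat.prime_dvd_prime_iff_eq hpp Nat.prime_three).1 this)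
      let u : Matrix (Fin 2) (Fin 2) F := !![0, -1; 1, -1]
      have hu3 : u ^ 3 = 1 := by
        ext i j
        fin_cases i <;> fin_cases j <;> simp [u, pow_succ, Matrix.mul_apply, Fin.sum_univ_two]
      have hus : ∀ z : F, u ≠ z • (1 : Matrix (Fin 2) (Fin 2) F) := fun z e => by simpa [u] using congrFun₂ e 1 0
      have hu1 : IsUnit (u - 1) := by
        rw [Matrix.isUnit_iff_isUnit_det, isUnit_iff_ne_zero, det_fin_two]
        simp [u]
        intro e
        exact h3 (by linear_combination e)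
      obtain ⟨x, hx, hxv⟩ := mk _ (blk_mem (u := u) (by simp [u, det_fin_two]))
      have hx3 : x ^ 3 = 1 := Units.ext (by
        rw [Units.val_pow_eq_pow_val, hxv, ← blk_pow, hu3, blk_one, Units.val_one])
      refine ⟨x, hx, ⟨1, by rw [hx3, one_smul, Units.val_one]⟩,
        fun z => hxv ▸ blk_not_scalar pairing (fun e => hus 1 (by rw [e, one_smul])) z, fun g hg => ?_⟩
      have hy3 : (g⁻¹ * x * g) ^ 3 = 1 := by
        rw [show g⁻¹ * x * g = MulAut.conj g⁻¹ x by simp, ← map_pow, hx3, map_one]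
      obtain ⟨a, ha, hans, hya⟩ := h.exists_fixed_minus hRm hZ f hg hy3
      obtain ⟨b, -, hyb, hab⟩ := h.exists_fixed_partner (by decide) hg hy3 ha hya hans
      have tr : ∀ c : GL II F, g⁻¹ * x * g * c = c * (g⁻¹ * x * g) →
          ((g * c * g⁻¹ : GL II F) : Matrix II II F) * blk pairing u = blk pairing u * (g * c * g⁻¹ : GL II F) := by
        intro c hc
        rw [← hxv, ← Units.val_mul, ← Units.val_mul]
        congr 1
        calc g * c * g⁻¹ * x = g * (c * (g⁻¹ * x * g)) * g⁻¹ := by group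
          _ = g * (g⁻¹ * x * g * c) * g⁻¹ := by rw [hc]
          _ = _ := by group
      refine block_contra pairing hu1 hus h.two (tr a hya) (tr b hyb) ?_
      calc g * a * g⁻¹ * (g * b * g⁻¹) = g * (a * b) * g⁻¹ := by group
        _ = -(g * (b * a) * g⁻¹) := by rw [hab, mul_neg, neg_mul]
        _ = _ := by group
  · rw [orderOf_five] at h5
    refine fixes_five h f (by omega) hdet (k := p) h5 (fun x _ _ => spec_frob hF _) (scalar_five ?_) move
    rw [hF]; omega
  · rw [orderOf_five] at h5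
    obtain ⟨t, -, ht, -⟩ := exists_five_trace (F := F) hp2 h5
    let u : Matrix (Fin 2) (Fin 2) F := !![0, -1; 1, t]
    have hu : u.det = 1 := by simp [u, det_fin_two]
    obtain ⟨x, hx, hxv⟩ := mk _ (blk_mem hu)
    exact moves_five h pairing hu (by simp [u, trace, Fin.sum_univ_two]) ht
      (fun e => by simpa [u] using congrFun₂ e 0 0) hx hxv

end CfsgLib.Geo.Pauli
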