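/-
The unitary family of normalisers of two-groups of symplectic type in dimension four.
-/
import Cfsg.Agent.Lib.Geo.PauliLinear

set_option autoImplicit false

namespace CfsgLib.Geo.Pauli

open Matrix Cfsg.Geo

variable {F : Type*} [Field F] [Fintype F] {p : ℕ} [Fact p.Prime] [CharP F p]

omit [CharP F p] in
/-- Elements of the prime field are norms. -/
theorem exists_norm (hF : Fintype.card F = p ^ 2) {c : F} (hc : c ^ p = c) (hc0 : c ≠ 0) :
    ∃ b : F, b ^ (p + 1) = c := by
  classical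
  obtain ⟨g, hg⟩ := IsCyclic.exists_generator (α := Fˣ)
  have ho : orderOf g = (p + 1) * (p - 1) := by
    rw [orderOf_eq_card_of_forall_mem_zpowers hg, Nat.card_units, Nat.card_eq_fintype_card, hF]
    exact Nat.sq_sub_sq p 1
  obtain ⟨k, hk⟩ := (mem_powers_iff_mem_zpowers (x := g)).2 (hg (Units.mk0 c hc0))
  have hp1 := (Fact.out : p.Prime).one_le
  have h1 : g ^ (k * (p - 1)) = 1 := by
    rw [pow_mul, show g ^ k = Units.mk0 c hc0 from hk]
    refine Units.ext (mul_right_cancel₀ hc0 ?_)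
    rw [Units.val_pow_eq_pow_val, Units.val_mk0, ← pow_succ, Nat.sub_add_cancel hp1, hc, Units.val_one, one_mul]
  have hd := orderOf_dvd_of_pow_eq_one h1
  rw [ho] at hd
  obtain ⟨m, hm⟩ := Nat.dvd_of_mul_dvd_mul_right (by have := (Fact.out : p.Prime).two_le; omega) hd
  refine ⟨((g ^ m : Fˣ) : F), ?_⟩
  rw [← Units.val_pow_eq_pow_val, ← pow_mul, mul_comm, ← hm, show g ^ k = Units.mk0 c hc0 from hk, Units.val_mk0]

theorem mul_map_of_mem {n : ℕ} (hF : Fintype.card F = p ^ 2) {σ : F ≃+* F} (hq : CfsgLib.Geo.Asch.IsQPow σ p)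
    {x : GL (Fin n) F} (hx : x ∈ Cfsg.GU n F p) :
    (x : Matrix (Fin n) (Fin n) F)ᵀ * (x : Matrix (Fin n) (Fin n) F).map σ = 1 := by
  have _ := hF
  ext i j
  have h : Cfsg.hermForm n F p ((x : Matrix (Fin n) (Fin n) F) *ᵥ Pi.single i 1)
      ((x : Matrix (Fin n) (Fin n) F) *ᵥ Pi.single j 1) = Cfsg.hermForm n F p (Pi.single i 1) (Pi.single j 1) :=
    hx _ _
  rw [CfsgLib.Geo.Asch.hermForm_eq hq, CfsgLib.Geo.Asch.hermForm_eq hq] at h
  rw [mul_apply, one_apply]
  simpa [Pi.single_apply, eq_comm] using h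

/-- Elements of order five in the normaliser are unitary when five is prime to `p - 1`. -/
theorem five_mem_GU (hF : Fintype.card F = p ^ 2) (hp : ¬ 5 ∣ p - 1) {σ : F ≃+* F} (hq : CfsgLib.Geo.Asch.IsQPow σ p)
    {R : Subgroup (GL (Fin 4) F)} (hR : ActsAbsolutelyIrreducibly (matrixSet R)) (hRU : R ≤ Cfsg.GU 4 F p)
    {y : GL (Fin 4) F} (hy : y ∈ subgroupNormalizer R) (hy5 : y ^ 5 = 1) : y ∈ Cfsg.GU 4 F p := by
  obtain ⟨c, hcσ, hc⟩ := ExtraConj.exists_multiplier hF (by norm_num) hq hR hRU hy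
  set Y := (y : Matrix (Fin 4) (Fin 4) F)
  have hmap : ∀ k : ℕ, (Y ^ k)ᵀ * (Y ^ k).map σ = c ^ k • (1 : Matrix (Fin 4) (Fin 4) F) := by
    intro k
    induction k with
    | zero => simp
    | succ k ih =>
      rw [pow_succ' Y, transpose_mul, Matrix.map_mul, ← mul_assoc, mul_assoc (Y ^ k)ᵀ, hc, mul_smul_comm, mul_one,
        smul_mul_assoc, ih, smul_smul, ← pow_succ']
  have h5 := hmap 5
  rw [show Y ^ 5 = 1 by rw [← Units.val_pow_eq_pow_val, hy5, Units.val_one]] at h5
  simp only [transpose_one, Matrix.map_one σ (map_zero σ) (map_one σ), one_mul] at h5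
  have e5 := congrFun₂ h5 0 0
  simp at e5
  have hc0 : c ≠ 0 := by rintro rfl; simp at e5
  have hcp : c ^ p = c := by rw [← hq.eq_pow, hcσ]
  have hp1 := (Fact.out : p.Prime).one_le
  have hp1' : c ^ (p - 1) = 1 := by
    apply mul_right_cancel₀ hc0
    rw [← pow_succ, Nat.sub_add_cancel hp1, hcp, one_mul]
  have hc1 := pow_gcd_eq_one.2 ⟨e5.symm, hp1'⟩
  rw [(Nat.Prime.coprime_iff_not_dvd (by norm_num : Nat.Prime 5)).2 hp, pow_one] at hc1
  rw [hc1, one_smul] at hc
  exact CfsgLib.Geo.Asch.mem_GU_of_mul hq hc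

theorem unitary_main (hF : Fintype.card F = p ^ 2) (hp4 : p % 4 = 3) (R : Subgroup (GL (Fin 4) F))
    (hRs : IsSymplecticTypeGroup 2 R) (hRi : ActsAbsolutelyIrreducibly (matrixSet R)) (hRU : R ≤ Cfsg.GU 4 F p)
    (hR6 : Nat.card R = 2 ^ 6) (hRZ : Nat.card (Subgroup.center R) = 4) (r : ℕ) [Fact r.Prime]
    (hΩ : r ∣ (subgroupNormalizer R).relIndex (Cfsg.GU 4 F p ⊓ specialLinear (Fin 4) F)) :
    Fixes R (Cfsg.GU 4 F p ⊓ specialLinear (Fin 4) F) r ↔
      (r = 2 ∨ (r = 3 ∧ p % 3 = 1) ∨ (r = 5 ∧ orderOf (p : ZMod 5) = 4)) := by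
  have hp2 : p ≠ 2 := by omega
  have hp5 : p ≠ 5 := by omega
  have hpp := (Fact.out : p.Prime)
  have h2le := hpp.two_le
  obtain ⟨σ, hq⟩ := CfsgLib.Geo.Asch.exists_isQPow (F := F) hF
  have h : IsPauli R := isPauli_of hp2 (Fintype.card_fin 4) hRs hRi (by rw [hR6]; norm_num) hRZ
  obtain ⟨i, hiR, his, hii⟩ := h.exists_i hRZ
  obtain ⟨f⟩ := h.exists_frame_scalar hiR his hii
  set T := Cfsg.GU 4 F p ⊓ specialLinear (Fin 4) F
  have hdet : ∀ x ∈ T, (x : Matrix (Fin 4) (Fin 4) F).det = 1 := fun x hx => ExtraConj.det_val_eq_one hx.2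
  have move : Movable R T p := fun x y N hx hy hN hx' hy' hc hor => by
    have hconj := isConj_of_charpoly hN hx' hy' hc
    have hyU : y ∈ Cfsg.GU 4 F p := by
      rcases hor with h' | h'
      · exact hRU h'
      · exact ExtraConj.mem_GU_of_trace hF (by norm_num) hq hRi hRU hx.1 hy hconj h'
    exact ExtraConj.su_move hF (p := p) hx (Nat.Coprime.coprime_dvd_left (orderOf_dvd_of_pow_eq_one hx') hN) hy hyU hconj
  have mk : ∀ M : Matrix (Fin 4) (Fin 4) F, M.det = 1 → Mᵀ * M.map σ = 1 →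
      ∃ x ∈ T, (x : Matrix (Fin 4) (Fin 4) F) = M := fun M hM hMU => by
    let x : GL (Fin 4) F := Matrix.GeneralLinearGroup.mkOfDetNeZero M (by rw [hM]; exact one_ne_zero)
    exact ⟨x, ⟨CfsgLib.Geo.Asch.mem_GU_of_mul (g := x) hq hMU, ExtraConj.mem_specialLinear_of_det hM⟩, rfl⟩
  have hcard : Fintype.card F - 1 = (p + 1) * (p - 1) := by rw [hF]; exact Nat.sq_sub_sq p 1
  refine main h hdet _ _ (fixes_two h f hp2 hdet (fun _ _ _ _ _ => ⟨i, hiR, his, hii⟩) move) (fun h3 => ?_)
    (fun h3 => ?_) (fun h5 => ?_) (fun h5 => ?_) r hΩ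
  · refine fixes_three h f hp2 (by omega) hdet ⟨i, hiR, his, hii⟩ (fun x hx hx3 => ?_) move
    have h3F : ((3 : ℕ) : F) ≠ 0 :=
      natCast_ne_zero_of_coprime ((Nat.coprime_primes Nat.prime_three hpp).2 (by omega))
    have hx3' : (x : Matrix (Fin 4) (Fin 4) F) ^ 3 = 1 := by rw [← Units.val_pow_eq_pow_val, hx3, Units.val_one]
    have e := spec_reduce _ h3F hx3' (p * (3 - 1))
    rw [show p * (3 - 1) % 3 = 2 by omega, spec_unitary hF hx.1 h3F (by norm_num) hx3] at e
    exact e.symm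
  · by_cases e3 : p = 3
    · -- a transvection
      subst e3
      obtain ⟨g, hg⟩ := Extra27.exists_primitive (F := F) (n := 8) (by rw [hF]; norm_num) (by norm_num)
      have hg4 : g ^ 4 = -1 := by
        have h8 := hg.pow_eq_one
        rw [show 8 = 4 * 2 from rfl, pow_mul] at h8
        exact (sq_eq_one_iff.1 h8).resolve_left (hg.pow_ne_one_of_pos_of_lt (by norm_num) (by norm_num))
      set n : Fin 4 → F := ![1, g, 0, 0]
      set φ : Fin 4 → F := g ^ 2 • ![1, g ^ 3, 0, 0]
      have hnφ : φ ⬝ᵥ n = 0 := by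
        simp [n, φ, dotProduct, Fin.sum_univ_four]
        linear_combination g ^ 2 * hg4
      have hsq : vecMulVec n φ * vecMulVec n φ = 0 := by
        rw [vecMulVec_mul_vecMulVec, hnφ, zero_smul]
        ext a b; simp [vecMulVec_apply]
      have hU : (1 + vecMulVec n φ)ᵀ * (1 + vecMulVec n φ).map σ = (1 : Matrix (Fin 4) (Fin 4) F) := by
        have hgσ : σ g = g ^ 3 := hq.eq_pow g
        have h8 := hg.pow_eq_one
        ext a b
        fin_cases a <;> fin_cases b <;>
          simp [Matrix.mul_apply, Fin.sum_univ_four, vecMulVec_apply, n, φ, hgσ] <;> ring_nf <;>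
          (try simp only [show g ^ 2 * g ^ 2 = -1 by rw [← pow_add]; exact hg4]) <;>
          grind
      obtain ⟨x, hx, hxv⟩ := mk (1 + vecMulVec n φ) (by
        rw [vecMulVec_eq Unit, det_one_add_replicateCol_mul_replicateRow, hnφ, add_zero]) hU
      have hx3 : x ^ 3 = 1 := Units.ext (by
        rw [Units.val_pow_eq_pow_val, hxv, Units.val_one, pow_succ, pow_two]
        simp only [add_mul, mul_add, one_mul, mul_one, hsq, add_zero]
        have h3 : (3 : F) = 0 := by exact_mod_cast CharP.cast_eq_zero F 3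
        generalize vecMulVec n φ = V
        trans (1 + (3 : F) • V)
        · rw [show (3 : F) = 1 + 1 + 1 by norm_num, add_smul, add_smul, one_smul]; abel
        · rw [h3, zero_smul, add_zero])
      refine moves_pseudo h (by decide) hx hx3 (fun z e => ?_) (one_pow 3) (by rw [one_smul]; exact hxv)
      have e01 := congrFun₂ (hxv.symm.trans e) 0 1
      simp [vecMulVec_apply, n, φ, hg.ne_zero] at e01
    · have h3 : p % 3 = 2 := by
        have : p % 3 ≠ 0 := fun e => e3 ((Nat.prime_dvd_prime_iff_eq Nat.prime_three hpp).1 (Nat.dvd_of_mod_eq_zero e)).symm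
        omega
      obtain ⟨w, hw⟩ := Extra27.exists_primitive (F := F) (n := 3)
        (by rw [hcard]; exact Dvd.dvd.mul_right (by omega) _) (by norm_num)
      have hd : (diagonal ![w, w, w, 1] : Matrix (Fin 4) (Fin 4) F).det = 1 := by
        simp [Fin.prod_univ_four]
        linear_combination hw.pow_eq_one
      have hwσ : w * σ w = 1 := by
        rw [hq.eq_pow, ← pow_succ', (hw.pow_eq_one_iff_dvd _).2 (by omega)]
      obtain ⟨x, hx, hxv⟩ := mk _ hd (by
        rw [diagonal_transpose, diagonal_map (map_zero σ), diagonal_mul_diagonal, ← diagonal_one]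
        congr 1
        funext a
        fin_cases a <;> simp [hwσ])
      exact moves_diag h hw.pow_eq_one (hw.ne_one (by norm_num)) hx hxv
  · rw [orderOf_five] at h5
    have h5F : ((5 : ℕ) : F) ≠ 0 := natCast_ne_zero_of_coprime ((Nat.coprime_primes (by norm_num) hpp).2 (Ne.symm hp5))
    refine fixes_five h f hp5 hdet (k := p * (5 - 1)) (by omega) (fun x hx5 hor => ?_) (scalar_five ?_) move
    · refine spec_unitary hF ?_ h5F (by norm_num) hx5
      rcases hor with h' | h'
      · exact h'.1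
      · exact five_mem_GU hF (by omega) hq hRi hRU h' hx5
    · rw [hcard, Nat.Prime.dvd_mul (by norm_num)]
      omega
  · rw [orderOf_five] at h5
    obtain ⟨t, htp, ht, ht4⟩ := exists_five_trace (F := F) hp2 h5
    have h2 : (2 : F) ≠ 0 := h.two
    set a : F := t / 2 with ha
    have hap : a ^ p = a := by
      rw [ha, div_pow, htp]
      congr 1
      have e := map_ofNat σ 2
      rwa [hq.eq_pow] at e
    have hc0 : 1 - a ^ 2 ≠ 0 := by
      intro e
      apply ht4 hp5
      rw [ha] at e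
      field_simp at e
      linear_combination -e
    obtain ⟨b, hb⟩ := exists_norm hF (c := 1 - a ^ 2) (by
      rw [← hq.eq_pow, map_sub, map_one, map_pow, hq.eq_pow, hap]) hc0
    have hbσ : b * σ b = 1 - a ^ 2 := by rw [hq.eq_pow, ← pow_succ', hb]
    have haσ : σ a = a := by rw [hq.eq_pow, hap]
    let u : Matrix (Fin 2) (Fin 2) F := !![a, -(σ b); b, a]
    have hu : u.det = 1 := by simp [u, det_fin_two]; linear_combination hbσ
    have huU : uᵀ * u.map σ = 1 := by
      ext i j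
      fin_cases i <;> fin_cases j <;>
        simp [u, Matrix.mul_apply, Fin.sum_univ_two, haσ, hq.involutive b] <;>
        first
          | ring1
          | linear_combination hbσ
    obtain ⟨x, hx, hxv⟩ := mk (blk finSumFinEquiv u) (by rw [det_blk, hu]) (by
      rw [blk_transpose, blk_map, ← blk_mul, huU, blk_one])
    refine moves_five h finSumFinEquiv hu (by simp [u, trace, Fin.sum_univ_two, ha]; field_simp; ring) ht (fun e => ?_) hx hxv
    have e10 := congrFun₂ e 1 0
    simp [u] at e10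
    rw [e10, zero_pow (by omega)] at hb
    exact hc0 hb.symm

end CfsgLib.Geo.Pauli
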