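/-
Subgroups of index n in the symmetric group of degree n ≠ 6 are point stabilizers.
-/
import Mathlib

namespace CfsgLib.Geo

open MulAction Equiv Pointwise Nat

variable {Ω : Type*} [Fintype Ω] [DecidableEq Ω]

theorem factorial_bound (k : ℕ) (hk : 3 ≤ k) : 2 ^ k * (k + 1)! < (2 * k)! := by
  induction k, hk using Nat.le_induction with
  | base => decide
  | succ k hk ih =>
    rw [show 2 * (k + 1) = 2 * k + 1 + 1 by ring, factorial_succ (2 * k + 1), factorial_succ (2 * k),
      factorial_succ (k + 1), pow_succ]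
    calc 2 ^ k * 2 * ((k + 1 + 1) * (k + 1)!) = 2 * (k + 2) * (2 ^ k * (k + 1)!) := by ring
      _ < 2 * (k + 2) * (2 * k)! := Nat.mul_lt_mul_of_pos_left ih (by omega)
      _ ≤ (2 * k + 1 + 1) * ((2 * k + 1) * (2 * k)!) := by
        rw [← mul_assoc]
        exact Nat.mul_le_mul_right _ (by nlinarith)

theorem centralizer_count_ne (k m : ℕ) (hk : 1 ≤ k) (h : ¬ (k = 2 ∧ m = 0)) :
    m ! * 2 ^ (k + 1) * (k + 1)! ≠ (m + 2 * k)! * 2 := by
  rw [← factorial_mul_ascFactorial m (2 * k)]
  intro he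
  have h0 : (m + 1).ascFactorial (2 * k) = 2 ^ k * (k + 1)! := by
    apply mul_left_cancel₀ (factorial_ne_zero m)
    apply mul_right_cancel₀ two_ne_zero
    rw [← he, pow_succ]
    ring
  rcases Nat.lt_or_ge k 3 with hk3 | hk3
  · interval_cases k
    · simp only [Nat.mul_one, Nat.ascFactorial_succ, Nat.ascFactorial_zero] at h0
      norm_num [Nat.factorial] at h0
      rcases Nat.lt_or_ge m 2 with hm | hm
      · interval_cases m <;> simp_all
      · nlinarith
    · have hm : 1 ≤ m := Nat.pos_of_ne_zero fun hm => h ⟨rfl, hm⟩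
      have h2 : (1 + 1).ascFactorial (2 * 2) ≤ (m + 1).ascFactorial (2 * 2) :=
        Nat.ascFactorial_le _ (by omega)
      rw [h0] at h2
      exact absurd h2 (by decide)
  · have h1 := Nat.ascFactorial_le (2 * k) (show 0 + 1 ≤ m + 1 by omega)
    rw [h0, zero_add, one_ascFactorial] at h1
    exact absurd (factorial_bound k hk3) (not_lt.2 h1)

omit [Fintype Ω] in
theorem card_centralizer_map {G : Type*} [Group G] (ψ : Perm Ω ≃* G) (σ : Perm Ω) :
    Nat.card (Subgroup.centralizer {σ}) = Nat.card (Subgroup.centralizer {ψ σ}) := by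
  refine Nat.card_congr (ψ.toEquiv.subtypeEquiv fun g => ?_)
  simp only [SetLike.mem_coe, Subgroup.mem_centralizer_singleton_iff, MulEquiv.toEquiv_eq_coe, EquivLike.coe_coe]
  rw [← map_mul, ← map_mul, ψ.injective.eq_iff]

/-- An automorphism of the symmetric group of degree ≠ 6 maps transpositions to transpositions. -/
theorem isSwap_of_map_isSwap (h6 : Fintype.card Ω ≠ 6) (ψ : Perm Ω ≃* Perm Ω) (σ : Perm Ω)
    (hσ : (ψ σ).IsSwap) : σ.IsSwap := by
  have ho : orderOf σ = 2 := by rw [← orderOf_injective ψ.toMonoidHom ψ.injective σ]; exact hσ.orderOf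
  obtain ⟨k, hk⟩ := Perm.cycleType_prime_order (σ := σ) (by rw [ho]; exact Nat.prime_two)
  rw [ho] at hk
  rcases Nat.eq_zero_or_pos k with rfl | hk1
  · exact Perm.isSwap_iff_cycleType.2 (by rw [hk]; rfl)
  exfalso
  have hsum : 2 * (k + 1) ≤ Fintype.card Ω := by
    have := σ.sum_cycleType
    rw [hk, Multiset.sum_replicate, smul_eq_mul] at this
    have := σ.support.card_le_univ
    omega
  have h1 := card_centralizer_map ψ σ
  rw [Perm.nat_card_centralizer, Perm.nat_card_centralizer, hk, Perm.isSwap_iff_cycleType.1 hσ] at h1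
  have e1 : (Multiset.replicate (k + 1) 2).toFinset = {2} := by
    rw [Multiset.toFinset_replicate, if_neg (Nat.succ_ne_zero k)]
  rw [e1, Finset.prod_singleton, Multiset.count_replicate_self, Multiset.prod_replicate, Multiset.sum_replicate,
    smul_eq_mul] at h1
  simp only [Multiset.sum_singleton, Multiset.prod_singleton, Multiset.toFinset_singleton, Finset.prod_singleton,
    Multiset.count_singleton_self, Nat.factorial_one, Nat.mul_one] at h1
  obtain ⟨m, hm⟩ := Nat.exists_eq_add_of_le hsum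
  rw [hm, show 2 * (k + 1) + m - (k + 1) * 2 = m by omega, show 2 * (k + 1) + m - 2 = m + 2 * k by omega] at h1
  exact centralizer_count_ne k m hk1 (fun h => h6 (by omega)) h1

theorem factorial_mul_lt (i j : ℕ) : (i + 2)! * (j + 2)! < (i + j + 3)! := by
  induction j with
  | zero =>
    rw [show i + 0 + 3 = (i + 2) + 1 by ring, factorial_succ (i + 2), mul_comm]
    exact Nat.mul_lt_mul_of_pos_right (show (0 + 2)! < i + 2 + 1 by rw [show (0 + 2)! = 2 from rfl]; omega)
      (factorial_pos _)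
  | succ j ih =>
    rw [show j + 1 + 2 = (j + 2) + 1 by ring, show i + (j + 1) + 3 = (i + j + 3) + 1 by ring,
      factorial_succ (j + 2), factorial_succ (i + j + 3), ← mul_assoc, mul_comm ((i + 2)!), mul_assoc]
    exact Nat.mul_lt_mul_of_le_of_lt (by omega) ih (by omega)

/-- A subgroup of index n generated by the transpositions it contains fixes a point. -/
theorem le_stabilizer_of_swaps (hn : 5 ≤ Fintype.card Ω) (H : Subgroup (Perm Ω)) (hH : H.index = Fintype.card Ω)
    (hHT : H = Subgroup.closure {σ | σ.IsSwap ∧ σ ∈ H}) : ∃ x : Ω, H ≤ stabilizer (Perm Ω) x := by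
  classical
  haveI : Nonempty Ω := Fintype.card_pos_iff.1 (by omega)
  have hcard' : Nat.card H = (Fintype.card Ω - 1)! := by
    apply Nat.eq_of_mul_eq_mul_right (show 0 < Fintype.card Ω by omega)
    conv_rhs => rw [mul_comm, Nat.mul_factorial_pred (show Fintype.card Ω ≠ 0 by omega)]
    conv_lhs => rw [← hH]
    rw [H.card_mul_index, Nat.card_eq_fintype_card, Fintype.card_perm]
  let T : Set (Perm Ω) := {σ | σ.IsSwap ∧ σ ∈ H}
  obtain ⟨a⟩ := ‹Nonempty Ω›
  let s : Set Ω := orbit H a
  have hHs : H ≤ stabilizer (Perm Ω) s := by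
    intro g hg
    rw [mem_stabilizer_iff]
    exact smul_orbit (⟨g, hg⟩ : H) a
  have hs1 : s ≠ Set.univ := by
    intro huniv
    haveI : IsPretransitive H Ω := ⟨fun x y => by
      obtain ⟨g₁, hg₁⟩ : x ∈ s := huniv ▸ Set.mem_univ x
      obtain ⟨g₂, hg₂⟩ : y ∈ s := huniv ▸ Set.mem_univ y
      simp only at hg₁ hg₂
      exact ⟨g₂ * g₁⁻¹, by rw [mul_smul, ← hg₁, inv_smul_smul, hg₂]⟩⟩
    haveI : IsPretransitive (Subgroup.closure T) Ω := hHT ▸ inferInstance
    have htop := closure_of_isSwap_of_isPretransitive (S := T) fun _ h => h.1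
    rw [← hHT] at htop
    rw [htop, Subgroup.index_top] at hH
    omega
  have hstab : ∀ g ∈ H, ∀ x, g x ∈ s ↔ x ∈ s := fun g hg => mem_stabilizer_set.1 (hHs hg)
  let m : H → Perm {x // x ∈ s} × Perm {x // x ∉ s} := fun g =>
    (g.1.subtypePerm (hstab g g.2), g.1.subtypePerm fun x => not_congr (hstab g g.2 x))
  have hm : Function.Injective m := by
    intro g g' h
    refine Subtype.ext (Equiv.ext fun x => ?_)
    by_cases hx : x ∈ s
    · exact congrArg Subtype.val (Equiv.congr_fun (Prod.ext_iff.1 h).1 ⟨x, hx⟩)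
    · exact congrArg Subtype.val (Equiv.congr_fun (Prod.ext_iff.1 h).2 ⟨x, hx⟩)
  have hle := Nat.card_le_card_of_injective m hm
  rw [Nat.card_prod, Nat.card_perm, Nat.card_perm, hcard'] at hle
  have hadd : Nat.card {x // x ∈ s} + Nat.card {x // x ∉ s} = Fintype.card Ω := by
    rw [Nat.card_eq_fintype_card, Nat.card_eq_fintype_card, Fintype.card_subtype_compl]
    have := Fintype.card_subtype_le (fun x => x ∈ s)
    omega
  have h1 : Nat.card {x // x ∈ s} ≠ 0 := by
    rw [Nat.card_ne_zero]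
    exact ⟨⟨⟨a, mem_orbit_self a⟩⟩, inferInstance⟩
  have h2 : Nat.card {x // x ∉ s} ≠ 0 := by
    obtain ⟨y, hy⟩ := (Set.ne_univ_iff_exists_notMem s).1 hs1
    rw [Nat.card_ne_zero]
    exact ⟨⟨⟨y, hy⟩⟩, inferInstance⟩
  have hone : Nat.card {x // x ∈ s} = 1 ∨ Nat.card {x // x ∉ s} = 1 := by
    by_contra hcon
    obtain ⟨i, hi⟩ := Nat.exists_eq_add_of_le (show 2 ≤ Nat.card {x // x ∈ s} by omega)
    obtain ⟨j, hj⟩ := Nat.exists_eq_add_of_le (show 2 ≤ Nat.card {x // x ∉ s} by omega)
    rw [hi, hj, add_comm 2 i, add_comm 2 j, show Fintype.card Ω - 1 = i + j + 3 by omega] at hle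
    exact absurd (factorial_mul_lt i j) (not_lt.2 hle)
  rcases hone with h | h
  · obtain ⟨⟨⟨x, hx⟩⟩, huniq⟩ := Nat.card_eq_one_iff_unique.1 h |>.symm
    refine ⟨x, fun g hg => ?_⟩
    exact congrArg Subtype.val (@Subsingleton.elim _ huniq (⟨g x, (hstab g hg x).2 hx⟩ : {x // x ∈ s}) ⟨x, hx⟩)
  · obtain ⟨⟨⟨x, hx⟩⟩, huniq⟩ := Nat.card_eq_one_iff_unique.1 h |>.symm
    refine ⟨x, fun g hg => ?_⟩
    exact congrArg Subtype.val
      (@Subsingleton.elim _ huniq (⟨g x, fun h' => hx ((hstab g hg x).1 h')⟩ : {x // x ∉ s}) ⟨x, hx⟩)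

theorem le_stabilizer_point (h6 : Fintype.card Ω ≠ 6) (H : Subgroup (Perm Ω)) (hH : H.index = Fintype.card Ω) :
    ∃ x : Ω, H ≤ stabilizer (Perm Ω) x := by
  classical
  have hn0 : Fintype.card Ω ≠ 0 := fun h => H.index_ne_zero_of_finite (hH.trans h)
  haveI : Nonempty Ω := Fintype.card_pos_iff.1 (Nat.pos_of_ne_zero hn0)
  have hcard : Nat.card H * Fintype.card Ω = (Fintype.card Ω)! := by
    conv_lhs => rw [← hH]
    rw [H.card_mul_index, Nat.card_eq_fintype_card, Fintype.card_perm]
  have hcard' : Nat.card H = (Fintype.card Ω - 1)! := by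
    apply Nat.eq_of_mul_eq_mul_right (Nat.pos_of_ne_zero hn0)
    rw [hcard, mul_comm, Nat.mul_factorial_pred hn0]
  rcases Nat.lt_or_ge (Fintype.card Ω) 5 with hsmall | hlarge
  · rcases Nat.lt_or_ge (Fintype.card Ω) 3 with h3 | h3
    · have : H = ⊥ := Subgroup.card_eq_one.1 (by
        rw [hcard']
        interval_cases (Fintype.card Ω) <;> rfl)
      exact ⟨Classical.arbitrary Ω, this ▸ bot_le⟩
    · set p := Fintype.card Ω - 1 with hp
      have hpp : p.Prime := by
        have : p = 2 ∨ p = 3 := by omega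
        rcases this with h | h <;> rw [h]
        · exact Nat.prime_two
        · exact Nat.prime_three
      haveI := Fact.mk hpp
      obtain ⟨⟨g, hgH⟩, hg⟩ := exists_prime_orderOf_dvd_card' (G := H) p
        (hcard' ▸ Nat.dvd_factorial hpp.pos le_rfl)
      rw [Subgroup.orderOf_mk] at hg
      have hcyc : g.IsCycle := Perm.isCycle_of_prime_order' (by rw [hg]; exact hpp) (by rw [hg]; omega)
      have hsupp : g.support.card = p := by rw [← hcyc.orderOf, hg]
      obtain ⟨x, hx⟩ : ∃ x, g.supportᶜ = {x} := Finset.card_eq_one.1 (by rw [Finset.card_compl, hsupp]; omega)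
      have hfix : ∀ y, g y = y ↔ y = x := fun y => by
        have h := Finset.ext_iff.1 hx y
        rwa [Finset.mem_compl, Perm.mem_support, not_not, Finset.mem_singleton] at h
      have hN : ((Subgroup.zpowers g).subgroupOf H).Normal := by
        have h1 : ((Subgroup.zpowers g).subgroupOf H).index * p = p ! := by
          have h2 := Subgroup.card_mul_index ((Subgroup.zpowers g).subgroupOf H)
          rw [Nat.card_congr (Subgroup.subgroupOfEquivOfLe (Subgroup.zpowers_le.2 hgH)).toEquiv, Nat.card_zpowers,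
            hg, hcard'] at h2
          rw [mul_comm, h2]
        have : p = 2 ∨ p = 3 := by omega
        rcases this with h | h
        · rw [h, show (2 : ℕ)! = 2 from rfl] at h1
          rw [Subgroup.index_eq_one.1 (by omega : ((Subgroup.zpowers g).subgroupOf H).index = 1)]
          infer_instance
        · rw [h, show (3 : ℕ)! = 6 from rfl] at h1
          exact Subgroup.normal_of_index_eq_two (by omega)
      refine ⟨x, fun h hh => ?_⟩
      have h1 : h * g * h⁻¹ ∈ Subgroup.zpowers g :=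
        hN.conj_mem ⟨g, hgH⟩ (Subgroup.mem_zpowers g) ⟨h, hh⟩
      obtain ⟨i, hi⟩ := h1
      have h2 : (h * g * h⁻¹) x = x := by
        rw [← hi]
        exact Perm.zpow_apply_eq_self_of_apply_eq_self ((hfix x).2 rfl) i
      have h3 : h⁻¹ x = x := (hfix _).1 (h.injective (by simpa using h2))
      rw [mem_stabilizer_iff, Perm.smul_def]
      calc h x = h (h⁻¹ x) := by rw [h3]
        _ = x := Perm.eq_inv_iff_eq.1 rfl
  · -- the action on cosets is faithful
    have hcore : H.normalCore = ⊥ := by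
      by_contra hne
      have hle := Equiv.Perm.alternatingGroup_le_of_normal (N := H.normalCore)
        (by rw [Nat.card_eq_fintype_card]; omega) ((Subgroup.nontrivial_iff_ne_bot _).2 hne)
      haveI : Nontrivial Ω := Fintype.one_lt_card_iff_nontrivial.1 (by omega)
      have h2 := Subgroup.index_dvd_of_le (hle.trans H.normalCore_le)
      rw [alternatingGroup.index_eq_two, hH] at h2
      have := Nat.le_of_dvd two_pos h2
      omega
    let e : Perm Ω ⧸ H ≃ Ω := (Finite.equivFinOfCardEq hH).trans (Fintype.equivFin Ω).symm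
    let ψ₀ : Perm Ω →* Perm Ω := e.permCongrHom.toMonoidHom.comp (MulAction.toPermHom (Perm Ω) (Perm Ω ⧸ H))
    have hψ₀ : Function.Injective ψ₀ := by
      refine e.permCongrHom.injective.comp ?_
      rw [← MonoidHom.ker_eq_bot_iff, ← Subgroup.normalCore_eq_ker, hcore]
    let ψ : Perm Ω ≃* Perm Ω := MulEquiv.ofBijective ψ₀ (Finite.injective_iff_bijective.1 hψ₀)
    set ω₀ : Ω := e ((1 : Perm Ω) : Perm Ω ⧸ H) with hω
    have hmem : ∀ g, g ∈ H ↔ ψ g ω₀ = ω₀ := by
      intro g
      have : ψ g ω₀ = e (g • ((1 : Perm Ω) : Perm Ω ⧸ H)) := by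
        show e (MulAction.toPermHom (Perm Ω) (Perm Ω ⧸ H) g (e.symm (e _))) = _
        rw [Equiv.symm_apply_apply]
        rfl
      rw [this, hω, e.injective.eq_iff]
      show g ∈ H ↔ ((g * 1 : Perm Ω) : Perm Ω ⧸ H) = ((1 : Perm Ω) : Perm Ω ⧸ H)
      rw [QuotientGroup.eq, mul_one, mul_one, inv_mem_iff]
    let T : Set (Perm Ω) := {σ | σ.IsSwap ∧ σ ∈ H}
    have hHT : H = Subgroup.closure T := by
      refine le_antisymm (fun g hg => ?_) ((Subgroup.closure_le _).2 fun σ hσ => hσ.2)
      let S : Set (Perm Ω) := {τ | τ.IsSwap ∧ τ ω₀ = ω₀}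
      have h1 : ψ g ∈ Subgroup.closure S := by
        rw [mem_closure_isSwap fun _ hτ => hτ.1]
        refine ⟨Set.toFinite _, fun x => ?_⟩
        by_cases hx : ψ g x = x
        · rw [hx]
          exact mem_orbit_self x
        · refine ⟨⟨swap x (ψ g x), Subgroup.subset_closure ⟨⟨x, _, Ne.symm hx, rfl⟩, ?_⟩⟩, swap_apply_left _ _⟩
          refine swap_apply_of_ne_of_ne (fun h => hx ?_) fun h => hx ?_
          · rw [← h]; exact (hmem g).1 hg
          · have h' : ψ g ω₀ = ψ g x := ((hmem g).1 hg).trans h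
            rw [← (ψ g).injective h']
            exact (hmem g).1 hg
      have h2 : Subgroup.closure S ≤ (Subgroup.closure T).map ψ.toMonoidHom := by
        refine (Subgroup.closure_le _).2 fun τ hτ => ⟨ψ.symm τ, Subgroup.subset_closure ⟨?_, ?_⟩, by simp⟩
        · exact isSwap_of_map_isSwap h6 ψ _ (by rw [MulEquiv.apply_symm_apply]; exact hτ.1)
        · rw [hmem, MulEquiv.apply_symm_apply]; exact hτ.2
      obtain ⟨y, hy, hy'⟩ := h2 h1
      exact ψ.injective hy' ▸ hy
    exact le_stabilizer_of_swaps (by omega) H hH hHT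

theorem eq_stabilizer_point (h6 : Fintype.card Ω ≠ 6) (H : Subgroup (Perm Ω)) (hH : H.index = Fintype.card Ω) :
    ∃ x : Ω, H = stabilizer (Perm Ω) x := by
  obtain ⟨x, hx⟩ := le_stabilizer_point h6 H hH
  refine ⟨x, Subgroup.eq_of_le_of_card_ge hx (Nat.le_of_mul_le_mul_right ?_
    (Nat.pos_of_ne_zero fun h => H.index_ne_zero_of_finite (hH.trans h)))⟩
  have h := (stabilizer (Perm Ω) x).card_mul_index
  rw [index_stabilizer_of_transitive, Nat.card_eq_fintype_card (α := Ω)] at h
  rw [h, ← hH, H.card_mul_index]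

end CfsgLib.Geo
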