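/-
Elements of prime order of the special linear group preserving no unitary form up to a scalar.
-/
import Cfsg.Agent.Lib.Geo.FormDerangeCommon
import Cfsg.Agent.Lib.Geo.InvolutionSubfield
import Cfsg.Agent.Lib.Classical.LinearOrder
import Cfsg.Agent.Lib.Classical.Unitary.Order

set_option autoImplicit false

namespace CfsgLib.Geo.UnitFormDer

open Matrix Module CfsgLib.Geo.PrimeAct CfsgLib.Geo.PrimeSp CfsgLib.Geo.FormDer CfsgLib.Classical.Herm

variable {F : Type*} [Field F] {n : ℕ}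

/-- The unitary form of the definition, semilinear in the first argument. -/
theorem exists_herm [Fintype F] {q₀ : ℕ} (hF : Fintype.card F = q₀ ^ 2) {f : (Fin n → F) → (Fin n → F) → F}
    (hf : Cfsg.Geo.IsUnitaryFormPow q₀ f) :
    ∃ B : (Fin n → F) →ₛₗ[powHom hF] (Fin n → F) →ₗ[F] F, IsHerm B ∧ ∀ u v, B u v = f v u := by
  let B : (Fin n → F) →ₛₗ[powHom hF] (Fin n → F) →ₗ[F] F :=
    LinearMap.mk₂'ₛₗ (powHom hF) (RingHom.id F) (fun u v => f v u)
      (fun x y v => by
        show f v (x + y) = f v x + f v y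
        rw [hf.herm v, hf.add_left, hf.herm v x, hf.herm v y]
        exact map_add (powHom hF) (f x v) (f y v))
      (fun c x v => by
        show f v (c • x) = c ^ q₀ * f v x
        rw [hf.herm v, hf.smul_left, hf.herm v x, mul_pow])
      (fun u x y => hf.add_left x y u)
      (fun c u x => hf.smul_left c x u)
  refine ⟨B, ⟨powHom_isInvol hF, fun x y => (hf.herm x y).symm, fun x hx => ?_⟩, fun _ _ => rfl⟩
  by_contra h
  obtain ⟨⟨w, hw⟩, -⟩ := hf.nondegenerate x h
  exact hw (hx w)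

variable {σ : F →+* F} {B : (Fin n → F) →ₛₗ[σ] (Fin n → F) →ₗ[F] F}

theorem sim_of_mem (h : IsHerm B) (hn : 0 < n) {f : (Fin n → F) → (Fin n → F) → F} (hB : ∀ u v, B u v = f v u)
    {y : GL (Fin n) F} (hy : y ∈ Cfsg.Geo.similarityGroup f) :
    ∃ c : F, c ≠ 0 ∧ σ c = c ∧ ∀ u v, B (toEnd y u) (toEnd y v) = c * B u v := by
  obtain ⟨c, hc⟩ := hy
  have hsim : ∀ u v, B (toEnd y u) (toEnd y v) = (c : F) * B u v := fun u v => by
    rw [hB, hB, toEnd_apply, toEnd_apply, hc]
  obtain ⟨v, hv⟩ := h.exists_apply_eq_one (x := Pi.single ⟨0, hn⟩ 1) (by simp)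
  refine ⟨c, c.ne_zero, ?_, hsim⟩
  have e := congrArg σ (hsim (Pi.single ⟨0, hn⟩ 1) v)
  rw [map_mul, h.symm, h.symm, hsim, ← h.symm (Pi.single ⟨0, hn⟩ 1), hv, map_one, mul_one, mul_one] at e
  exact e.symm

theorem mem_of_sim {f : (Fin n → F) → (Fin n → F) → F} (hB : ∀ u v, B u v = f v u) {y : GL (Fin n) F} {c : F}
    (hc : c ≠ 0) (hsim : ∀ u v, B (toEnd y u) (toEnd y v) = c * B u v) : y ∈ Cfsg.Geo.similarityGroup f :=
  ⟨Units.mk0 c hc, fun u v => by rw [Units.val_mk0, ← toEnd_apply, ← toEnd_apply, ← hB, ← hB, hsim]⟩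

/-- The Gram matrix of a basis is non-singular. -/
theorem gram_det_ne_zero (h : IsHerm B) (e : Basis (Fin n) F (Fin n → F)) :
    (Matrix.of fun i j => B (e i) (e j)).det ≠ 0 := by
  intro h0
  obtain ⟨c, hc, hMc⟩ := Matrix.exists_mulVec_eq_zero_iff.2 h0
  have hrow : ∀ i, B (e i) (∑ j, c j • e j) = 0 := fun i => by
    have := congrFun hMc i
    rw [map_sum]
    simpa [Matrix.mulVec, dotProduct, mul_comm] using this
  have hs : ∑ j, c j • e j = 0 := h.nondeg _ fun w => by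
    rw [← e.sum_repr w, map_sum]
    exact Finset.sum_eq_zero fun i _ => by
      rw [map_smul, smul_eq_mul, h.eq_zero_symm (hrow i), mul_zero]
  exact hc (funext fun i => Fintype.linearIndependent_iff.1 e.linearIndependent c hs i)

/-- Diagonal derangements. -/
theorem diag_derangement (h : IsHerm B) (hn : 0 < n) {f : (Fin n → F) → (Fin n → F) → F}
    (hB : ∀ u v, B u v = f v u) {d : Fin n → F} (hd : ∀ i, d i ≠ 0) (hdσ : ∀ i, σ (d i) = d i)
    (hsym : ¬ Symmetric' d) {x : GL (Fin n) F}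
    (hx : (x : Matrix (Fin n) (Fin n) F) = Matrix.diagonal d) (g : GL (Fin n) F) :
    g⁻¹ * x * g ∉ Cfsg.Geo.similarityGroup f := by
  intro hy
  obtain ⟨c, hc, -, hp⟩ := sim_of_mem h hn hB hy
  obtain ⟨e, he⟩ := exists_eigenbasis hx g
  refine hsym ⟨c, hc, fun a ha => mult_pair (gram_det_ne_zero h e) (fun i j hij => ?_) hd ha hc⟩
  rw [Matrix.of_apply] at hij
  have e1 := hp (e i) (e j)
  rw [he, he, smul_left, smul_right, hdσ, ← mul_assoc] at e1
  exact mul_right_cancel₀ hij e1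

theorem fix_rest_orth {T : (Fin n → F) →ₗ[F] (Fin n → F)} {r : ℕ} (hrF : (r : F) ≠ 0)
    (hT : ∀ u v, B (T u) (T v) = B u v) {u a : Fin n → F} (hu : u ∈ restSp r T) (ha : T a = a) : B u a = 0 := by
  have h1 : ∀ (k : ℕ), B ((T ^ k) u) a = B u a := fun k => by
    induction k with
    | zero => rfl
    | succ k ih => rw [pow_succ', Module.End.mul_apply]; conv_lhs => rw [← ha, hT]; exact ih
  have hu0 : orbitSum r T u = 0 := hu
  have h2 : B (orbitSum r T u) a = (r : F) * B u a := by simp [orbitSum, LinearMap.sum_apply, map_sum, h1]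
  rw [hu0, zero_left, eq_comm, mul_eq_zero] at h2
  exact h2.resolve_left hrF

variable [Fintype F] {r : ℕ} [Fact r.Prime]

/-- A block of dimension `i` when `(-q₀) ^ i ≠ 1` modulo `r`. -/
theorem block_derangement (h : IsHerm B) (hn : 0 < n) {f : (Fin n → F) → (Fin n → F) → F}
    (hB : ∀ u v, B u v = f v u) (hrF : (r : F) ≠ 0) (hr1 : ¬ r ∣ Fintype.card F - 1)
    (hi : 0 < orderOf (Nat.card F : ZMod r)) (hin : orderOf (Nat.card F : ZMod r) ≤ n)
    (hq0 : (Nat.card (fixedSub σ) : ZMod r) ≠ 0)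
    (hne : (-(Nat.card (fixedSub σ) : ZMod r)) ^ orderOf (Nat.card F : ZMod r) ≠ 1) :
    ∃ x ∈ Cfsg.Geo.specialLinear (Fin n) F, x ^ r = 1 ∧ (∀ z : F, (x : Matrix (Fin n) (Fin n) F) ≠ z • 1) ∧
      ∀ g : GL (Fin n) F, g⁻¹ * x * g ∉ Cfsg.Geo.similarityGroup f := by
  classical
  set i := orderOf (Nat.card F : ZMod r) with hidef
  obtain ⟨x, hx, hxr, hns, hrest⟩ := exists_block (n := n) hrF hr1 hi one_pos (by rwa [one_mul])
  rw [← hidef, one_mul] at hrest
  refine ⟨x, hx, hxr, hns, fun g hy => hne ?_⟩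
  set y := g⁻¹ * x * g with hydef
  obtain ⟨c, -, -, hp⟩ := sim_of_mem h hn hB hy
  have hyr : y ^ r = 1 := by
    rw [hydef, show g⁻¹ * x * g = g⁻¹ * x * (g⁻¹)⁻¹ by rw [inv_inv], conj_pow, hxr, mul_one, mul_inv_cancel]
  set T := toEnd y
  have hTr : T ^ r = 1 := by rw [← toEnd_pow, hyr, toEnd_one]
  have hc : c = 1 := by
    obtain ⟨v, hv⟩ := h.exists_apply_eq_one (x := Pi.single ⟨0, hn⟩ 1) (by simp)
    have hk : ∀ (k : ℕ) u v, B ((T ^ k) u) ((T ^ k) v) = c ^ k * B u v := fun k => by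
      induction k with
      | zero => intro u v; simp
      | succ k ih =>
        intro u v
        rw [pow_succ', Module.End.mul_apply, Module.End.mul_apply, hp, ih]
        ring
    refine root_trivial hr1 ?_
    have e := hk r (Pi.single ⟨0, hn⟩ 1) v
    rwa [hTr, Module.End.one_apply, Module.End.one_apply, hv, mul_one, eq_comm] at e
  subst hc
  have hT : ∀ u v, B (T u) (T v) = B u v := fun u v => by rw [hp, one_mul]
  set W := restSp r T
  have hW : ∀ v ∈ W, T v ∈ W := restSp_invariant hTr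
  have hWdim : finrank F W = i := by
    have h1 := finrank_rest hxr hrF
    have h3 := finrank_rest hyr hrF
    rw [hydef, finrank_fixSp_conj] at h3
    show finrank F (restSp r (toEnd (g⁻¹ * x * g))) = i
    omega
  have hWh : IsHerm (IsHerm.restrict B W) := h.restrict_herm fun u hu hu0 => h.nondeg u fun v => by
    obtain ⟨a, b, ha, hb, rfl⟩ := exists_split hTr hrF v
    rw [map_add, fix_rest_orth hrF hT hu ha, hu0 b hb, add_zero]
  let S := {v : W // IsHerm.restrict B W v v = 1}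
  let φ : S → S := fun v => ⟨⟨T v.1.1, hW _ v.1.2⟩, (hT _ _).trans v.2⟩
  have hφinj : Function.Injective φ := fun v v' hvv => by
    refine Subtype.ext (Subtype.ext ?_)
    have h' : T v.1.1 = T v'.1.1 := congrArg (fun s : S => s.1.1) hvv
    have := congrArg (T ^ (r - 1)) h'
    rwa [← Module.End.mul_apply, ← Module.End.mul_apply, ← pow_succ, Nat.sub_add_cancel (Fact.out : r.Prime).one_le,
      hTr, Module.End.one_apply, Module.End.one_apply] at this
  let π : Equiv.Perm S := Equiv.ofBijective φ (Finite.injective_iff_bijective.1 hφinj)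
  have hπk : ∀ (j : ℕ) (v : S), ((π ^ j) v).1.1 = (T ^ j) v.1.1 := fun j => by
    induction j with
    | zero => intro v; rfl
    | succ j ih =>
      intro v
      rw [pow_succ', pow_succ', Equiv.Perm.mul_apply, Module.End.mul_apply, ← ih]
      rfl
  have hmod := Equiv.Perm.card_compl_support_modEq (p := r) (n := 1) (σ := π) (by
    refine Equiv.ext fun v => Subtype.ext (Subtype.ext ?_)
    rw [pow_one, hπk, hTr]
    rfl)
  have hnone : π.supportᶜ = ∅ := by
    refine Finset.eq_empty_of_forall_notMem fun v hv => ?_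
    rw [Finset.mem_compl, Equiv.Perm.notMem_support] at hv
    have h0 : v.1.1 = 0 := free_of_le_rest hrF v.1.2 (congrArg (fun s : S => s.1.1) hv)
    have := v.2
    rw [IsHerm.restrict_apply, h0, zero_left] at this
    exact zero_ne_one this
  rw [hnone, Finset.card_empty, ← Nat.card_eq_fintype_card,
    show Nat.card S = normCount σ i 1 from hWh.card_norm_eq_count hWdim 1] at hmod
  have hN : (normCount σ i 1 : ZMod r) = 0 := by
    rw [ZMod.natCast_eq_zero_iff]
    exact (Nat.modEq_zero_iff_dvd).1 hmod.symm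
  have hform := congrArg (fun a : ℤ => (a : ZMod r)) (normCount_one_formula h.invol i)
  push_cast at hform
  rw [hN, mul_zero] at hform
  set Q : ZMod r := (Nat.card (fixedSub σ) : ZMod r)
  have hQi : Q ^ i = (-1) ^ i := mul_right_cancel₀ (pow_ne_zero i hq0) (by linear_combination -hform)
  rw [neg_pow, hQi, ← mul_pow, neg_one_mul, neg_neg, one_pow]

/-- The index is measured by the orders of the unitary and linear groups. -/
theorem card_HU_dvd (h : IsHerm B) (hn : 0 < n) {f : (Fin n → F) → (Fin n → F) → F}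
    (hB : ∀ u v, B u v = f v u)
    (hΩ : r ∣ (Cfsg.Geo.similarityGroup f).relIndex (Cfsg.Geo.specialLinear (Fin n) F)) :
    r * Nat.card (HU B) * (Nat.card (fixedSub σ) - 1) ∣ Nat.card (GL (Fin n) F) := by
  classical
  haveI : Nonempty (Fin n) := ⟨⟨0, hn⟩⟩
  set S := Cfsg.Geo.specialLinear (Fin n) F
  let φ : ((Fin n → F) ≃ₗ[F] (Fin n → F)) →* GL (Fin n) F := MonoidHom.mk' ofEquiv fun a b =>
    toEnd_injective (by rw [toEnd_mul, toEnd_ofEquiv, toEnd_ofEquiv, toEnd_ofEquiv]; rfl)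
  let ψ : HSU B →* GL (Fin n) F := φ.comp ((HU B).subtype.comp (HSU B).subtype)
  have hψ : ∀ g : HSU B, toEnd (ψ g) = ((g : HU B) : (Fin n → F) ≃ₗ[F] (Fin n → F)).toLinearMap := fun g =>
    toEnd_ofEquiv _
  have hinj : Function.Injective ψ := fun a b hab => by
    refine Subtype.ext (Subtype.ext (LinearEquiv.toLinearMap_injective ?_))
    rw [← hψ, hab, hψ]
  have hle : ψ.range ≤ Cfsg.Geo.similarityGroup f ⊓ S := by
    rintro _ ⟨g, rfl⟩
    refine ⟨mem_of_sim hB one_ne_zero fun u v => ?_, mem_SL_iff.2 ?_⟩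
    · rw [one_mul, hψ]
      exact HU.map_eq (g : HU B) u v
    · rw [← det_toEnd, hψ, ← LinearEquiv.coe_det]
      exact congrArg Units.val (MonoidHom.mem_ker.1 g.2)
  obtain ⟨t, ht⟩ := Subgroup.card_dvd_of_le hle
  obtain ⟨s, hs⟩ := hΩ
  have hψc : Nat.card ψ.range = Nat.card (HSU B) := (Nat.card_congr (MonoidHom.ofInjective hinj).toEquiv).symm
  have h3 : Nat.card S = Nat.card (Cfsg.Geo.similarityGroup f ⊓ S : Subgroup (GL (Fin n) F)) * (r * s) := by
    rw [← hs, ← Subgroup.card_mul_index ((Cfsg.Geo.similarityGroup f).subgroupOf S)]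
    congr 1
    rw [← Subgroup.inf_subgroupOf_right, Nat.card_congr (Subgroup.subgroupOfEquivOfLe inf_le_right).toEquiv]
  have hGL : (Fintype.card F - 1) * Nat.card S = Nat.card (GL (Fin n) F) := by
    rw [← CfsgLib.Classical.card_SL_mul, Nat.card_congr
      (MonoidHom.ofInjective Matrix.SpecialLinearGroup.toGL_injective).toEquiv,
      CfsgLib.Classical.toGL_range_eq_ker_det]
    rfl
  have hq1 : Fintype.card F - 1 = (Nat.card (fixedSub σ) + 1) * (Nat.card (fixedSub σ) - 1) := by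
    rw [← Nat.card_eq_fintype_card, h.invol.card_sq, ← Nat.sq_sub_sq, one_pow]
  haveI : Nontrivial (Fin n → F) := inferInstance
  rw [← h.card_HSU_mul]
  exact ⟨t * s, by rw [← hGL, h3, hq1, ht, hψc]; ring⟩

/-- What divisibility of the index means. -/
theorem index_cases (h : IsHerm B) (hn : 3 ≤ n) {f : (Fin n → F) → (Fin n → F) → F}
    (hB : ∀ u v, B u v = f v u) (hr2 : r ≠ 2) {q₀ : ℕ} (hq₀ : Nat.card (fixedSub σ) = q₀) (hrq : ¬ r ∣ q₀)
    (hΩ : r ∣ (Cfsg.Geo.similarityGroup f).relIndex (Cfsg.Geo.specialLinear (Fin n) F)) :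
    r ∣ q₀ - 1 ∨ (¬ r ∣ Fintype.card F - 1 ∧ 0 < orderOf (Nat.card F : ZMod r) ∧
      orderOf (Nat.card F : ZMod r) ≤ n ∧ (q₀ : ZMod r) ≠ 0 ∧
      (-(q₀ : ZMod r)) ^ orderOf (Nat.card F : ZMod r) ≠ 1) := by
  classical
  have hrp : r.Prime := Fact.out
  obtain ⟨m, rfl⟩ : ∃ m, n = m + 1 := ⟨n - 1, by omega⟩
  have hq2 : 2 ≤ q₀ := hq₀ ▸ IsInvol.card_ge_two (σ := σ)
  have hF : Fintype.card F = q₀ ^ 2 := by rw [← Nat.card_eq_fintype_card, h.invol.card_sq, hq₀]
  have hdiv := card_HU_dvd h (by omega) hB hΩ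
  rw [h.card_HU (m + 1) (Module.finrank_fin_fun F), CfsgLib.Classical.card_GL, hq₀, hF] at hdiv
  set U : ℕ → ℕ := fun j => if Even j then q₀ ^ (j + 1) + 1 else q₀ ^ (j + 1) - 1
  set U' : ℕ → ℕ := fun j => if Even j then q₀ ^ (j + 1) - 1 else q₀ ^ (j + 1) + 1
  have hU : ∀ j, (q₀ ^ 2) ^ (j + 1) - 1 = U j * U' j := fun j => by
    have e : (q₀ ^ 2) ^ (j + 1) - 1 = (q₀ ^ (j + 1) + 1) * (q₀ ^ (j + 1) - 1) := by
      rw [← Nat.sq_sub_sq, one_pow, ← pow_mul, ← pow_mul, mul_comm]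
    simp only [U, U']
    split_ifs
    · exact e
    · rw [e, mul_comm]
  have hsplit : ∏ i : Fin (m + 1), ((q₀ ^ 2) ^ (m + 1) - (q₀ ^ 2) ^ (i : ℕ)) =
      (∏ i : Fin (m + 1), (q₀ ^ 2) ^ (i : ℕ)) * ((∏ j ∈ Finset.range (m + 1), U j) *
        ((∏ j ∈ Finset.range m, U' (j + 1)) * (q₀ - 1))) := by
    have e0 : U' 0 = q₀ - 1 := by simp [U']
    rw [← e0, ← Finset.prod_range_succ', ← Finset.prod_mul_distrib, ← Finset.prod_congr rfl (fun j _ => hU j),
      Finset.prod_range fun j => (q₀ ^ 2) ^ (j + 1) - 1, ← Equiv.prod_comp Fin.revPerm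
      (fun j : Fin (m + 1) => (q₀ ^ 2) ^ ((j : ℕ) + 1) - 1), ← Finset.prod_mul_distrib]
    refine Finset.prod_congr rfl fun i _ => ?_
    rw [Nat.mul_sub_one, ← pow_add, Fin.revPerm_apply, Fin.val_rev]
    congr 2
    omega
  rw [hsplit] at hdiv
  have hpos : 0 < (∏ j ∈ Finset.range (m + 1), U j) * (q₀ - 1) :=
    Nat.mul_pos (Finset.prod_pos fun j _ => by
      have := one_lt_pow₀ (show 1 < q₀ by omega) (show j + 1 ≠ 0 by omega)
      simp only [U]; split_ifs <;> omega) (by omega)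
  have hX : r ∣ ∏ j ∈ Finset.range m, U' (j + 1) := by
    have h' : r ∣ (∏ i : Fin (m + 1), (q₀ ^ 2) ^ (i : ℕ)) * ∏ j ∈ Finset.range m, U' (j + 1) := by
      refine Nat.dvd_of_mul_dvd_mul_right hpos ?_
      refine (Dvd.intro (q₀ ^ ((m + 1) * (m + 1 - 1) / 2)) ?_).trans (hdiv.trans (dvd_of_eq ?_))
      · simp only [U]; ring
      · ring
    refine (hrp.dvd_mul.1 h').resolve_left fun h => ?_
    obtain ⟨i, -, hi⟩ := (hrp.prime.dvd_finset_prod_iff _).1 h
    exact hrq (hrp.dvd_of_dvd_pow (hrp.dvd_of_dvd_pow hi))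
  obtain ⟨j, hj, hjr⟩ := (hrp.prime.dvd_finset_prod_iff _).1 hX
  rw [Finset.mem_range] at hj
  set Q : ZMod r := (q₀ : ZMod r)
  have hQ0 : Q ≠ 0 := fun h => hrq ((ZMod.natCast_eq_zero_iff _ r).1 h)
  have h10 : (1 : ZMod r) ≠ -1 := fun h => hr2 ((Nat.prime_dvd_prime_iff_eq hrp Nat.prime_two).1
    ((ZMod.natCast_eq_zero_iff 2 r).1 (by push_cast; linear_combination h)))
  have hj' : (-Q) ^ (j + 2) = -1 := by
    have hz := (ZMod.natCast_eq_zero_iff _ r).2 hjr
    simp only [U'] at hz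
    rw [neg_pow]
    split_ifs at hz with he
    · rw [Nat.cast_sub (Nat.one_le_pow _ _ (by omega))] at hz
      push_cast at hz
      rw [show j + 2 = j + 1 + 1 from rfl, (he.add_one).neg_one_pow]
      linear_combination -hz
    · push_cast at hz
      rw [show j + 2 = j + 1 + 1 from rfl, ((Nat.not_even_iff_odd.1 he).add_one).neg_one_pow]
      linear_combination hz
  have hcast : (Nat.card F : ZMod r) = (-Q) ^ 2 := by
    rw [neg_pow_two, Nat.card_eq_fintype_card, hF, Nat.cast_pow]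
  have hdvd : orderOf (Nat.card F : ZMod r) ∣ j + 2 := orderOf_dvd_of_pow_eq_one (by
    rw [hcast, ← pow_mul, mul_comm, pow_mul, hj', neg_one_sq])
  have hne : (-Q) ^ orderOf (Nat.card F : ZMod r) ≠ 1 := fun h => by
    obtain ⟨t, ht⟩ := hdvd
    rw [ht, pow_mul, h, one_pow] at hj'
    exact h10 hj'
  by_cases hr1 : r ∣ q₀ - 1
  · exact Or.inl hr1
  refine Or.inr ⟨fun h1 => ?_, Nat.pos_of_dvd_of_pos hdvd (by omega), (Nat.le_of_dvd (by omega) hdvd).trans (by omega),
    hQ0, hne⟩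
  have hone : (Nat.card F : ZMod r) = 1 := by
    have := (ZMod.natCast_eq_zero_iff _ r).2 h1
    rwa [Nat.cast_sub (Fintype.card_pos), Nat.cast_one, sub_eq_zero, ← Nat.card_eq_fintype_card] at this
  rw [hone, orderOf_one, pow_one] at hne
  rw [hcast, sq_eq_one_iff] at hone
  rcases hone with h' | h'
  · exact hne h'
  · refine hr1 ((ZMod.natCast_eq_zero_iff _ r).1 ?_)
    rw [Nat.cast_sub (by omega), Nat.cast_one]
    linear_combination -h'

omit [Fact r.Prime] in
/-- Fixed elements are squares. -/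
theorem isSquare_of_fixed (h : IsHerm B) (h2 : (2 : F) ≠ 0) {w : F} (hw : σ w = w) : IsSquare w := by
  rcases eq_or_ne w 0 with rfl | hw0
  · exact IsSquare.zero
  have hR : ringChar F ≠ 2 := fun h => h2 (by
    haveI := ringChar.eq_iff.1 h
    exact CharTwo.two_eq_zero)
  have hq := h.invol.card_sq
  obtain ⟨t, ht⟩ : Odd (Nat.card (fixedSub σ)) := by
    have := FiniteField.odd_card_of_char_ne_two (F := F) hR
    rw [← Nat.odd_pow_iff two_ne_zero, ← hq, Nat.card_eq_fintype_card]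
    exact Nat.odd_iff.2 this
  rw [h.invol.apply_eq_pow, ht] at hw
  rw [FiniteField.isSquare_iff hR hw0, show Fintype.card F / 2 = 2 * t * (t + 1) by
    rw [← Nat.card_eq_fintype_card, hq, ht, show (2 * t + 1) ^ 2 = 2 * (2 * t * (t + 1)) + 1 by ring]
    omega, pow_mul, show w ^ (2 * t) = 1 from mul_right_cancel₀ hw0 (by rw [← pow_succ, hw, one_mul]), one_pow]

omit [Fact r.Prime] in
/-- Involutions with non-square square. -/
theorem square_derangement (h : IsHerm B) (h2 : (2 : F) ≠ 0) (hn : 0 < n) {f : (Fin n → F) → (Fin n → F) → F}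
    (hB : ∀ u v, B u v = f v u) (hv : padicValNat 2 (Fintype.card F - 1) < padicValNat 2 n) :
    ∃ x ∈ Cfsg.Geo.specialLinear (Fin n) F, (∃ z : F, ((x ^ 2 : GL (Fin n) F) : Matrix (Fin n) (Fin n) F) = z • 1) ∧
      (∀ z : F, (x : Matrix (Fin n) (Fin n) F) ≠ z • 1) ∧
      ∀ g : GL (Fin n) F, g⁻¹ * x * g ∉ Cfsg.Geo.similarityGroup f := by
  classical
  have hR : ringChar F ≠ 2 := fun h => h2 (by
    haveI := ringChar.eq_iff.1 h
    exact CharTwo.two_eq_zero)
  obtain ⟨m, hm⟩ : 2 ∣ n := by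
    by_contra h
    rw [padicValNat.eq_zero_of_not_dvd h] at hv
    omega
  have hm0 : 0 < m := by omega
  rw [hm, padicValNat.mul two_ne_zero hm0.ne', padicValNat_self] at hv
  obtain ⟨e, he, hen⟩ := CfsgLib.Geo.PrimeAct.exists_nonpower (F := F) (r := 2) (by
      have := FiniteField.odd_card_of_char_ne_two (F := F) hR
      omega) (k := m) (by omega)
  set z := -e with hz
  let φ : Fin n ≃ Fin 2 × Fin m := (finCongr hm).trans finProdFinEquiv.symm
  let M : Matrix (Fin n) (Fin n) F :=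
    (Matrix.blockDiagonal fun _ : Fin m => !![(0 : F), z; 1, 0]).submatrix φ φ
  have hdet : M.det = 1 := by
    rw [Matrix.det_submatrix_equiv_self, Matrix.det_blockDiagonal]
    simp [Matrix.det_fin_two, hz, he]
  have hMM : M * M = z • 1 := by
    rw [Matrix.submatrix_mul_equiv, ← Matrix.blockDiagonal_mul]
    ext i j
    simp only [Matrix.submatrix_apply, Matrix.blockDiagonal_apply, Matrix.smul_apply, Matrix.one_apply]
    rw [show (!![(0 : F), z; 1, 0] * !![(0 : F), z; 1, 0]) = !![z, 0; 0, z] by simp]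
    by_cases hij : i = j
    · subst hij
      generalize (φ i).1 = a
      fin_cases a <;> simp
    · rw [if_neg hij]
      split_ifs with h
      · generalize ha : (φ i).1 = a
        generalize hb : (φ j).1 = b
        fin_cases a <;> fin_cases b <;> simp
        all_goals exact absurd (φ.injective (Prod.ext (ha.trans hb.symm) h)) hij
      · simp
  let x : GL (Fin n) F := Matrix.GeneralLinearGroup.mkOfDetNeZero M (by rw [hdet]; exact one_ne_zero)
  have hxx : ((x ^ 2 : GL (Fin n) F) : Matrix (Fin n) (Fin n) F) = z • 1 := by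
    rw [pow_two, Units.val_mul]
    exact hMM
  have hzne : ¬ IsSquare z := by
    rintro ⟨d, hd⟩
    obtain ⟨i, hi⟩ := isSquare_of_fixed h h2 (w := -1) (by rw [map_neg, map_one])
    exact hen (i * d) (by linear_combination (-(d ^ 2)) * hi + hd + hz)
  refine ⟨x, mem_SL_iff.2 hdet, ⟨z, hxx⟩, fun a ha => hzne ⟨a, ?_⟩, fun g hy => ?_⟩
  · rw [pow_two, Units.val_mul, ha, smul_mul_smul_comm, mul_one] at hxx
    have := congrFun (congrFun hxx ⟨0, hn⟩) ⟨0, hn⟩
    simpa using this.symm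
  · obtain ⟨c, -, hcσ, hp⟩ := sim_of_mem h hn hB hy
    have hTT : ∀ v, toEnd (g⁻¹ * x * g) (toEnd (g⁻¹ * x * g) v) = z • v := fun v => by
      rw [← Module.End.mul_apply, ← toEnd_mul, show g⁻¹ * x * g * (g⁻¹ * x * g) = g⁻¹ * x ^ 2 * g by
        rw [pow_two]; group, toEnd_conj, toEnd_apply (x ^ 2), hxx, Matrix.smul_mulVec, Matrix.one_mulVec, map_smul]
      congr 1
      simp [Matrix.mulVec_mulVec]
    obtain ⟨v, hv⟩ := h.exists_apply_eq_one (x := Pi.single ⟨0, hn⟩ 1) (by simp)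
    have e1 := hp (toEnd (g⁻¹ * x * g) (Pi.single ⟨0, hn⟩ 1)) (toEnd (g⁻¹ * x * g) v)
    rw [hTT, hTT, hp, smul_left, smul_right, hv, mul_one, mul_one] at e1
    have hz0 : z ≠ 0 := fun h => hzne (h ▸ IsSquare.zero)
    obtain ⟨t, ht⟩ : Odd (Nat.card (fixedSub σ)) := by
      have := FiniteField.odd_card_of_char_ne_two (F := F) hR
      rw [← Nat.odd_pow_iff two_ne_zero, ← h.invol.card_sq, Nat.card_eq_fintype_card]
      exact Nat.odd_iff.2 this
    rw [h.invol.apply_eq_pow, ht] at e1 hcσ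
    refine hzne ((FiniteField.isSquare_iff hR hz0).2 ?_)
    have hc0 : c ≠ 0 := by
      rintro rfl
      rw [mul_zero] at e1
      exact (mul_ne_zero (pow_ne_zero _ hz0) hz0) e1
    rw [show Fintype.card F / 2 = (2 * t + 1 + 1) * t by
      rw [← Nat.card_eq_fintype_card, h.invol.card_sq, ht,
        show (2 * t + 1) ^ 2 = 2 * ((2 * t + 1 + 1) * t) + 1 by ring]
      omega, pow_mul, pow_succ, e1, ← pow_two, ← pow_mul]
    exact mul_right_cancel₀ hc0 (by rw [← pow_succ, hcσ, one_mul])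

end CfsgLib.Geo.UnitFormDer
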