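/-
Unitary similitude groups are maximal in SL.
-/
import Cfsg.Agent.Lib.Geo.Roots
import Cfsg.Agent.Lib.Geo.UnitMaximal

set_option autoImplicit false

namespace CfsgLib.Geo.UnitarySim

open Matrix CfsgLib.Classical CfsgLib.Classical.Herm CfsgLib.Geo.Roots

variable {ι : Type} [Fintype ι] [DecidableEq ι] {F : Type*} [Field F] {σ : F →+* F}
  {B : (ι → F) →ₛₗ[σ] (ι → F) →ₗ[F] F}

/-- The functional `B a`, as a vector. -/
def vec (B : (ι → F) →ₛₗ[σ] (ι → F) →ₗ[F] F) (a : ι → F) : ι → F := fun j => B a (Pi.single j 1)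

theorem vec_dot (a y : ι → F) : vec B a ⬝ᵥ y = B a y := by
  conv_rhs => rw [pi_eq_sum_univ' y]
  rw [map_sum]
  refine Finset.sum_congr rfl fun j _ => ?_
  rw [map_smul, smul_eq_mul, mul_comm]
  rfl

theorem vec_add (a b : ι → F) : vec B (a + b) = vec B a + vec B b := funext fun _ => add_left _ _ _

theorem vec_sub (a b : ι → F) : vec B (a - b) = vec B a - vec B b := funext fun _ => sub_left _ _ _

theorem vec_smul (c : F) (a : ι → F) : vec B (c • a) = σ c • vec B a := funext fun _ => smul_left _ _ _

theorem vec_zero : vec B 0 = 0 := funext fun _ => zero_left _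

variable (h : IsHerm B)
include h

omit [Fintype ι] [DecidableEq ι] in
theorem exists_rep [Fintype ι] [Finite F] (φ : (ι → F) →ₗ[F] F) : ∃ a, B a = φ := by
  haveI : Finite ((ι → F) →ₗ[F] F) := Module.finite_of_finite F
  have hinj : Function.Injective fun a : ι → F => B a := fun a b hab =>
    sub_eq_zero.1 (h.nondeg (a - b) fun y => by
      rw [sub_left, sub_eq_zero]
      exact LinearMap.congr_fun hab y)
  refine ((Nat.bijective_iff_injective_and_card _).2 ⟨hinj, ?_⟩).2 φ
  rw [Module.natCard_eq_pow_finrank (K := F) (V := ι → F),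
    Module.natCard_eq_pow_finrank (K := F) (V := (ι → F) →ₗ[F] F), Subspace.dual_finrank_eq]

theorem vec_surjective [Finite F] (φ : ι → F) : ∃ a, vec B a = φ := by
  obtain ⟨a, ha⟩ := exists_rep h (dotProductBilin F F φ)
  exact ⟨a, eq_of_dot fun y => by rw [vec_dot, ha]; rfl⟩

omit [DecidableEq ι] in
theorem exists_values [Finite F] {k : ℕ} {a : Fin k → ι → F} (ha : LinearIndependent F a)
    (c : Fin k → F) : ∃ p, ∀ i, B (a i) p = c i := by
  classical
  obtain ⟨l, hl⟩ := LinearMap.exists_leftInverse_of_injective (Fintype.linearCombination F a)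
    (LinearMap.ker_eq_bot.2 (Fintype.linearIndependent_iff.1 ha |> fun H => by
      rw [injective_iff_map_eq_zero]
      exact fun g hg => funext (H g hg)))
  obtain ⟨p, hp⟩ := exists_rep h ((Fintype.linearCombination F fun i => σ (c i)).comp l)
  refine ⟨p, fun i => ?_⟩
  have e : l (a i) = Pi.single i 1 := by
    have := LinearMap.congr_fun hl (Pi.single i 1)
    rwa [LinearMap.comp_apply, Fintype.linearCombination_apply_single, one_smul] at this
  rw [← h.symm, hp, LinearMap.comp_apply, e, Fintype.linearCombination_apply_single, one_smul, h.invol.invol]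

theorem exists_iso [Finite F] {k : ℕ} (hk : 2 * k ≤ Fintype.card ι) {a : Fin k → ι → F}
    (ha : LinearIndependent F a) (c : Fin k → F) : ∃ z, B z z = 0 ∧ ∀ i, B (a i) z = c i := by
  obtain ⟨p, hp⟩ := exists_values h ha c
  let L : (ι → F) →ₗ[F] Fin k → F := LinearMap.pi fun i => B (a i)
  set R := LinearMap.ker L with hRdef
  have hRdim : Fintype.card ι ≤ Module.finrank F R + k := by
    have h1 := LinearMap.finrank_range_add_finrank_ker L
    have h2 := Submodule.finrank_le (LinearMap.range L)
    rw [Module.finrank_pi] at h1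
    rw [Module.finrank_fin_fun] at h2
    rw [hRdef]
    omega
  have horth : Module.finrank F (h.orth R) ≤ k := by
    have hle : h.orth R ≤ Submodule.span F (Set.range a) := by
      intro y hy
      have hker : ⨅ i, LinearMap.ker (B (a i)) ≤ LinearMap.ker (B y) := fun z hz => by
        rw [Submodule.mem_iInf] at hz
        exact h.eq_zero_symm (h.mem_orth.1 hy z (funext fun i => hz i))
      obtain ⟨d, hd⟩ := Submodule.mem_span_range_iff_exists_fun F |>.1 (mem_span_of_iInf_ker_le_ker hker)
      refine (Submodule.mem_span_range_iff_exists_fun F).2 ⟨fun i => σ (d i), ?_⟩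
      refine sub_eq_zero.1 (h.nondeg _ fun z => ?_)
      rw [sub_left, ← hd, map_sum]
      simp only [LinearMap.sum_apply, smul_left, h.invol.invol, LinearMap.smul_apply, smul_eq_mul, sub_self]
    refine (Submodule.finrank_mono hle).trans ?_
    exact (finrank_range_le_card a).trans (Fintype.card_fin k).le
  obtain ⟨Q, hQ⟩ := (R ⊓ h.orth R).exists_isCompl
  set R₁ := Q ⊓ R with hR₁
  have hsum : R₁ ⊔ (R ⊓ h.orth R) = R := by
    rw [hR₁, sup_comm, ← sup_inf_assoc_of_le Q inf_le_left, hQ.sup_eq_top, top_inf_eq]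
  have hnd : ∀ x ∈ R₁, (∀ y ∈ R₁, B x y = 0) → x = 0 := by
    intro x hx hy
    have hall : ∀ y ∈ R, B x y = 0 := by
      intro y hy'
      rw [← hsum] at hy'
      obtain ⟨r, hr, s, hs, rfl⟩ := Submodule.mem_sup.1 hy'
      rw [map_add, hy r hr, zero_add]
      exact h.mem_orth.1 hs.2 x hx.2
    exact Submodule.disjoint_def.1 hQ.disjoint x
      ⟨hx.2, h.mem_orth.2 fun w hw => h.eq_zero_symm (hall w hw)⟩ hx.1
  have hRz : ∀ r ∈ R, ∀ i, B (a i) r = 0 := fun r hr i => congrFun (LinearMap.mem_ker.1 hr) i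
  by_cases hR0 : R₁ = ⊥
  · rw [hR0, bot_sup_eq, inf_eq_left] at hsum
    by_cases hpR : ∀ r ∈ R, B r p = 0
    · have hRe : R = h.orth R := Submodule.eq_of_le_of_finrank_le hsum (by omega)
      exact ⟨p, hpR p (hRe ▸ h.mem_orth.2 hpR), hp⟩
    push Not at hpR
    obtain ⟨r, hr, hrp⟩ := hpR
    have hrr : B r r = 0 := h.mem_orth.1 (hsum hr) r hr
    obtain ⟨τ, hτ⟩ := h.invol.exists_trace_eq (μ := -B p p) (by rw [map_neg, h.self_fixed])
    have hpr : B p r ≠ 0 := fun e => hrp (h.eq_zero_symm e)
    refine ⟨p + (τ / B p r) • r, ?_, fun i => by rw [map_add, map_smul, hRz r hr i, smul_zero, add_zero, hp]⟩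
    simp only [map_add, LinearMap.add_apply, smul_left, smul_right, hrr, mul_zero, add_zero, map_div₀, h.symm]
    rw [div_mul_cancel₀ _ hpr, div_mul_cancel₀ _ hrp]
    linear_combination hτ
  · obtain ⟨m, p', hm, hp', hmp⟩ :=
      Submodule.codisjoint_iff_exists_add_eq.1 (h.isCompl_orth hnd).codisjoint p
    obtain ⟨v, hv, hvv⟩ := h.exists_norm_in hnd
      (Nat.pos_of_ne_zero fun e => hR0 (Submodule.finrank_eq_zero.1 e)) (μ := -B p' p')
      (by rw [map_neg, h.self_fixed])
    refine ⟨p' + v, ?_, fun i => ?_⟩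
    · have e1 : B v p' = 0 := h.mem_orth.1 hp' v hv
      simp only [map_add, LinearMap.add_apply, e1, h.eq_zero_symm e1, hvv]
      ring
    · rw [← hp i, ← hmp, map_add, map_add, hRz v hv.2 i, hRz m hm.2 i, add_zero, zero_add]

omit h in
theorem li_two {a b : ι → F} (ha : a ≠ 0) (hb : b ∉ Submodule.span F {a}) :
    LinearIndependent F ![b, a] := by
  rw [show (![b, a] : Fin 2 → ι → F) = Fin.cons b ![a] from rfl, linearIndependent_finCons]
  refine ⟨LinearIndependent.of_subsingleton 0 (by simpa using ha), ?_⟩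
  simpa using hb

omit h in
theorem li_three {a b c : ι → F} (ha : a ≠ 0) (hb : b ∉ Submodule.span F {a})
    (hc : c ∉ Submodule.span F {b, a}) : LinearIndependent F ![c, b, a] := by
  rw [show (![c, b, a] : Fin 3 → ι → F) = Fin.cons c ![b, a] from rfl, linearIndependent_finCons]
  refine ⟨li_two ha hb, ?_⟩
  simpa [Set.pair_comm] using hc

theorem root_mem [Finite F] {f : (ι → F) → (ι → F) → F} (hB : ∀ u y, B u y = f y u) {t : F}
    (ht : t + σ t = 0) {w : ι → F} (hw : B w w = 0) (hd : vec B (t • w) ⬝ᵥ w = 0) :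
    transvectionGL (vec B (t • w)) w hd ∈ Cfsg.Geo.similarityGroup f ⊓ Cfsg.Geo.specialLinear ι F := by
  refine ⟨⟨1, fun a b => ?_⟩, transvectionGL_mem_specialLinear _ _ _⟩
  rw [← hB, ← hB, transvectionGL_mulVec, transvectionGL_mulVec, vec_dot, vec_dot]
  simp only [map_add, LinearMap.add_apply, smul_left, smul_right, hw, Units.val_one, map_mul,
    h.invol.invol, h.symm]
  linear_combination (B b w * B w a) * ht

/-- The similitudes of a non-degenerate hermitian form are maximal in SL, given the spreading of one root. -/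
theorem isMaximalIn_unitarySimilitude_of [Finite F] (hn : 4 ≤ Fintype.card ι)
    {f : (ι → F) → (ι → F) → F} (hB : ∀ u y, B u y = f y u)
    (hspread : ∀ M : Subgroup (Matrix.GeneralLinearGroup ι F),
      Cfsg.Geo.similarityGroup f ⊓ Cfsg.Geo.specialLinear ι F ≤ M → ∀ t : F, t ≠ 0 →
      (∀ {x v w : ι → F}, Root M (vec B x) v → B w w = 0 → B v w = 0 →
        Root M (vec B ((-(B w x) * t) • w)) v) →
      ∀ v x : ι → F, B v v = 0 → v ≠ 0 → x ∉ Submodule.span F {v} → Root M (vec B x) v →
      ∀ y, B v y = 0 → Root M (vec B y) v) :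
    Cfsg.Geo.IsMaximalIn (Cfsg.Geo.specialLinear ι F)
      (Cfsg.Geo.similarityGroup f ⊓ Cfsg.Geo.specialLinear ι F) := by
  haveI : Nontrivial ι := Fintype.one_lt_card_iff_nontrivial.1 (by omega)
  have hrk : Module.finrank F (ι → F) = Fintype.card ι := Module.finrank_pi F
  have hout : ∀ W : Submodule F (ι → F), Module.finrank F W < Fintype.card ι → ∃ y, y ∉ W := by
    intro W hW
    by_contra! hc
    have := Submodule.finrank_mono (show ⊤ ≤ W from fun y _ => hc y)
    rw [finrank_top, hrk] at this
    omega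
  obtain ⟨t, ht0, ht⟩ := h.exists_skew
  refine ⟨lt_of_le_of_ne inf_le_right fun heq => ?_, fun M hM hMS => ?_⟩
  · obtain ⟨v, hv0, hvv⟩ := h.exists_isotropic (by omega)
    obtain ⟨x, hxv, hx⟩ : ∃ x, B v x = 0 ∧ x ∉ Submodule.span F {v} := by
      by_contra! hc
      have h1 := Submodule.finrank_mono (show LinearMap.ker (B v) ≤ Submodule.span F {v} from fun x hx => hc x hx)
      have h2 := LinearMap.finrank_range_add_finrank_ker (B v)
      have h3 := Submodule.finrank_le (LinearMap.range (B v))
      rw [finrank_span_singleton hv0] at h1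
      rw [Module.finrank_self] at h3
      omega
    have hd : vec B x ⬝ᵥ v = 0 := by rw [vec_dot]; exact h.eq_zero_symm hxv
    obtain ⟨c, hc⟩ := (heq.ge (transvectionGL_mem_specialLinear _ _ hd)).1
    obtain ⟨a, -, ha⟩ := exists_iso h (k := 2) (by omega) (li_two hv0 hx) ![1, 0]
    obtain ⟨b, hb⟩ := h.exists_apply_eq_one hv0
    have hax : B x a = 1 := ha 0
    have hav : B v a = 0 := ha 1
    have hbv : B b v = 1 := by rw [← h.symm, hb, map_one]
    have h1 := hc b v
    have h2 := hc a b
    simp only [← hB, transvectionGL_mulVec, vec_dot, map_add, LinearMap.add_apply, smul_left, smul_right,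
      h.eq_zero_symm hxv, hvv, hax, hav, hb, hbv, map_zero, map_one, mul_zero, zero_mul, mul_one, add_zero] at h1 h2
    have hc1 : (c : F) = 1 := by linear_combination -h1
    rw [hc1] at h2
    exact one_ne_zero (α := F) (by linear_combination h2)
  refine (eq_or_lt_of_le hM).imp Eq.symm fun hlt => le_antisymm hMS ?_
  obtain ⟨g, hgM, hgn⟩ := SetLike.exists_of_lt hlt
  have hdot : ∀ {a v}, Root M (vec B a) v → B a v = 0 := fun hr => by
    rw [← vec_dot]
    exact hr.dot
  have hroot : ∀ w, B w w = 0 → Root M (vec B (t • w)) w := fun w hw => by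
    have hd : vec B (t • w) ⬝ᵥ w = 0 := by rw [vec_dot, smul_left, hw, mul_zero]
    exact ⟨hd, hM (root_mem h hB ht hw hd)⟩
  -- the two commutator rules
  have rule1 : ∀ {x v w}, Root M (vec B x) v → B w w = 0 → B v w = 0 →
      Root M (vec B ((-(B w x) * t) • w)) v := by
    intro x v w hx hw hvw
    have := (hroot w hw).comm hx (by rw [vec_dot, smul_left, h.eq_zero_symm hvw, mul_zero])
    rw [vec_smul, smul_smul] at this
    rw [vec_smul]
    convert this using 2
    rw [vec_dot, map_mul, map_neg, h.symm]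
  have rule2 : ∀ {x v w}, Root M (vec B x) v → B w w = 0 → B x w = 0 →
      Root M (vec B ((-(t * B v w)) • x)) w := by
    intro x v w hx hw hxw
    have := hx.comm (hroot w hw) (by rw [vec_dot, hxw])
    rw [vec_smul]
    convert this using 2
    rw [vec_dot, smul_left, map_neg, map_mul, h.symm]
  -- a root outside the similitude group
  obtain ⟨v₀, x₀, hv₀, hx₀, hroot₀⟩ : ∃ v x, v ≠ 0 ∧ x ∉ Submodule.span F {v} ∧ Root M (vec B x) v := by
    by_contra! hcon
    apply hgn
    refine ⟨?_, hMS hgM⟩
    set G := (g : Matrix ι ι F) with hG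
    set gi := ((g⁻¹ : Matrix.GeneralLinearGroup ι F) : Matrix ι ι F) with hgi
    have hgg : ∀ y, G *ᵥ (gi *ᵥ y) = y := fun y => by
      rw [hG, hgi, Matrix.mulVec_mulVec, Units.mul_inv, Matrix.one_mulVec]
    have hg0 : ∀ y, G *ᵥ y = 0 → y = 0 := fun y hy => by
      have := congrArg (gi *ᵥ ·) hy
      simpa [hgi, hG, Matrix.mulVec_mulVec] using this
    have hd : ∀ u, B u u = 0 → u ≠ 0 → ∃ d : F, d ≠ 0 ∧ ∀ y, B (G *ᵥ u) (G *ᵥ y) = d * B u y := by
      intro u hu hu0
      obtain ⟨x, hx⟩ := vec_surjective h (vec B (t • u) ᵥ* gi)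
      have hr := (hroot u hu).conj hgM
      rw [← hgi, ← hx] at hr
      obtain ⟨k, hk⟩ : ∃ k : F, k • (G *ᵥ u) = x := Submodule.mem_span_singleton.1 (by
        by_contra hnot
        exact hcon _ x (fun h0 => hu0 (hg0 u h0)) hnot hr)
      have key : ∀ y, σ k * B (G *ᵥ u) (G *ᵥ y) = σ t * B u y := fun y => by
        rw [← smul_left, hk, ← vec_dot, hx, ← Matrix.dotProduct_mulVec, hgi, hG, Matrix.mulVec_mulVec,
          Units.inv_mul, Matrix.one_mulVec, vec_dot, smul_left]
      have hk0 : σ k ≠ 0 := fun h0 => by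
        obtain ⟨y, hy⟩ := h.exists_apply_eq_one hu0
        have := key y
        rw [h0, zero_mul, hy, mul_one] at this
        exact ht0 (IsInvol.apply_eq_zero_iff.1 this.symm)
      refine ⟨σ t / σ k, div_ne_zero (fun h0 => ht0 (IsInvol.apply_eq_zero_iff.1 h0)) hk0, fun y => ?_⟩
      rw [div_mul_eq_mul_div, eq_div_iff hk0, mul_comm, key]
    choose d hd0 hd using hd
    obtain ⟨u₀, hu₀, hu₀₀⟩ := h.exists_isotropic (by omega)
    set c := d u₀ hu₀₀ hu₀ with hcdef
    have hedge : ∀ u w (hu : B u u = 0) (hu0 : u ≠ 0) (hw : B w w = 0) (hw0 : w ≠ 0), B u w ≠ 0 →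
        d u hu hu0 = σ (d w hw hw0) := by
      intro u w hu hu0 hw hw0 hne
      have e1 := hd u hu hu0 w
      have e2 := congrArg σ (hd w hw hw0 u)
      rw [h.symm, map_mul, h.symm, e1] at e2
      exact mul_right_cancel₀ hne e2
    have hall : ∀ u (hu : B u u = 0) (hu0 : u ≠ 0), d u hu hu0 = c := by
      intro u hu hu0
      obtain ⟨z, hzz, huz, hcz⟩ : ∃ z, B z z = 0 ∧ B u z ≠ 0 ∧ B u₀ z ≠ 0 := by
        by_cases hs : u ∈ Submodule.span F {u₀}
        · obtain ⟨z, hz1, hzz⟩ := h.exists_isotropic_partner hu₀ hu₀₀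
          obtain ⟨k, rfl⟩ := Submodule.mem_span_singleton.1 hs
          refine ⟨z, hzz, ?_, by rw [hz1]; exact one_ne_zero⟩
          rw [smul_left, hz1, mul_one]
          exact fun h0 => hu0 (by rw [IsInvol.apply_eq_zero_iff.1 h0, zero_smul])
        · obtain ⟨z, hzz, hz⟩ := exists_iso h (k := 2) (by omega) (li_two hu₀ hs) ![1, 1]
          have h1 : B u z = 1 := hz 0
          have h2 : B u₀ z = 1 := hz 1
          exact ⟨z, hzz, by rw [h1]; exact one_ne_zero, by rw [h2]; exact one_ne_zero⟩
      have hz0 : z ≠ 0 := fun h0 => hcz (by rw [h0, map_zero])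
      rw [hcdef, hedge u z hu hu0 hzz hz0 huz, hedge u₀ z hu₀₀ hu₀ hzz hz0 hcz]
    have hcfix : σ c = c := by
      obtain ⟨z, hz1, hzz⟩ := h.exists_isotropic_partner hu₀ hu₀₀
      have hne : B u₀ z ≠ 0 := by rw [hz1]; exact one_ne_zero
      have hz0 : z ≠ 0 := fun h0 => hne (by rw [h0, map_zero])
      have := hedge u₀ z hu₀₀ hu₀ hzz hz0 hne
      rw [hall z hzz hz0, ← hcdef] at this
      exact this.symm
    let P : Submodule F (ι → F) :=
      { carrier := {u | ∀ y, B (G *ᵥ u) (G *ᵥ y) = c * B u y}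
        add_mem' := fun {a b} ha hb y => by
          rw [Matrix.mulVec_add, add_left, ha y, hb y, add_left, mul_add]
        zero_mem' := fun y => by rw [Matrix.mulVec_zero, zero_left, zero_left, mul_zero]
        smul_mem' := fun k a ha y => by
          rw [Matrix.mulVec_smul, smul_left, ha y, smul_left]
          ring }
    have hP : (⊤ : Submodule F (ι → F)) ≤ P :=
      UnitMax.le_of_isotropic h (fun x _ hx => h.nondeg x fun y => hx y Submodule.mem_top)
        (by rw [finrank_top, hrk]; omega) fun u _ hu y => by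
          rcases eq_or_ne u 0 with rfl | hu0
          · exact P.zero_mem y
          · rw [hd u hu hu0 y, hall u hu hu0]
    refine ⟨Units.mk0 c (hd0 _ _ _), fun a b => ?_⟩
    rw [← hB, ← hB, hP (Submodule.mem_top (x := b)) a, Units.val_mk0]
  -- an isotropic centre
  have hperp₀ : B x₀ v₀ = 0 := hdot hroot₀
  obtain ⟨v, hvv, hv⟩ := exists_iso h (k := 2) (by omega) (li_two hv₀ hx₀) ![0, 1]
  have hxw : B x₀ v = 0 := hv 0
  have hvw : B v₀ v = 1 := hv 1
  have hrootx := rule2 hroot₀ hvv hxw
  rw [hvw, mul_one] at hrootx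
  set x := (-t) • x₀ with hxdef
  have hv0 : v ≠ 0 := fun h0 => one_ne_zero (α := F) (by rw [← hvw, h0, map_zero])
  have hx : x ∉ Submodule.span F {v} := by
    intro hmem
    obtain ⟨k, hk⟩ := Submodule.mem_span_singleton.1 hmem
    have e := congrArg (B v₀) hk
    rw [hxdef, smul_right, smul_right, h.eq_zero_symm hperp₀, hvw, mul_zero, mul_one] at e
    rw [e, zero_smul, hxdef] at hk
    exact hx₀ (by rw [(smul_eq_zero.1 hk.symm).resolve_left (neg_ne_zero.2 ht0)]; exact zero_mem _)
  clear_value x
  have hvx : B v x = 0 := h.eq_zero_symm (hdot hrootx)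
  have hA3 : ∀ y, B v y = 0 → y ∉ Submodule.span F {v} → Root M (vec B y) v := fun y hy _ =>
    hspread M hM t ht0 rule1 v x hvv hv0 hx hrootx y hy
  have hcentre : IsCentre M v := by
    intro φ hφ
    obtain ⟨y, rfl⟩ := vec_surjective h φ
    have hvy : B v y = 0 := h.eq_zero_symm (by rwa [← vec_dot])
    have hr : Root M (vec B y) v := by
      by_cases hy : y ∈ Submodule.span F {v}
      · have hxy : y + x ∉ Submodule.span F {v} := fun hm => hx ((Submodule.add_mem_iff_right _ hy).1 hm)
        have := (hA3 (y + x) (by rw [map_add, hvy, hvx, add_zero]) hxy).sub hrootx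
        rwa [← vec_sub, add_sub_cancel_right] at this
      · exact hA3 y hvy hy
    exact hr.2
  have hzero : IsCentre M (0 : ι → F) := fun φ hφ => by
    convert M.one_mem using 1
    refine ext_mulVec fun z => ?_
    rw [transvectionGL_mulVec, smul_zero, add_zero, Units.val_one, Matrix.one_mulVec]
  let S : Submodule F (ι → F) :=
    { carrier := {u | IsCentre M u}
      add_mem' := fun {a b} ha hb => by
        by_cases hab : a ∈ Submodule.span F {b}
        · obtain ⟨k, rfl⟩ := Submodule.mem_span_singleton.1 hab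
          rcases eq_or_ne (k + 1) 0 with h0 | h0
          · show IsCentre M (k • b + b)
            rw [show k • b + b = (k + 1) • b from by rw [add_smul, one_smul], h0, zero_smul]
            exact hzero
          · show IsCentre M (k • b + b)
            rw [show k • b + b = (k + 1) • b from by rw [add_smul, one_smul]]
            exact IsCentre.smul hb _ h0
        · obtain ⟨φ, h0, h1⟩ := exists_functional b a hab
          have := IsCentre.map ha (hb φ h0)
          rw [transvectionGL_mulVec, h1, one_smul] at this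
          exact this
      zero_mem' := hzero
      smul_mem' := fun k a ha => by
        rcases eq_or_ne k 0 with rfl | hk
        · show IsCentre M ((0 : F) • a)
          rw [zero_smul]
          exact hzero
        · exact IsCentre.smul ha k hk }
  have hstep : ∀ a z, a ∈ S → B z z = 0 → B a z ≠ 0 → z ∈ S := by
    intro a z ha hz hne
    obtain ⟨hd, hmem⟩ := hroot z hz
    have h1 : a + (vec B (t • z) ⬝ᵥ a) • z ∈ S := by
      have := IsCentre.map ha hmem
      rwa [transvectionGL_mulVec] at this
    have h2 := S.sub_mem h1 ha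
    rw [add_sub_cancel_left, vec_dot, smul_left] at h2
    refine (S.smul_mem_iff (mul_ne_zero ?_ ?_)).1 h2
    · exact fun h0 => ht0 (IsInvol.apply_eq_zero_iff.1 h0)
    · exact fun h0 => hne (h.eq_zero_symm h0)
  have hStop : (⊤ : Submodule F (ι → F)) ≤ S :=
    UnitMax.le_of_isotropic h (fun x _ hx => h.nondeg x fun y => hx y Submodule.mem_top)
      (by rw [finrank_top, hrk]; omega) fun z _ hz => by
        by_cases hs : z ∈ Submodule.span F {v}
        · exact Submodule.span_le.2 (Set.singleton_subset_iff.2 (SetLike.mem_coe.2 (show v ∈ S from hcentre))) hs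
        obtain ⟨w, hww, hc⟩ := exists_iso h (k := 2) (by omega) (li_two hv0 hs) ![1, 1]
        have e1 : B z w = 1 := hc 0
        have e2 : B v w = 1 := hc 1
        exact hstep w z (hstep v w hcentre hww (by rw [e2]; exact one_ne_zero)) hz
          (by rw [← h.symm, e1, map_one]; exact one_ne_zero)
  exact specialLinear_le_of_centres M fun u => hStop Submodule.mem_top


/-- The similitudes of a non-degenerate hermitian form are maximal in SL. -/
theorem isMaximalIn_unitarySimilitude [Finite F] (hn : 6 ≤ Fintype.card ι)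
    {f : (ι → F) → (ι → F) → F} (hB : ∀ u y, B u y = f y u) :
    Cfsg.Geo.IsMaximalIn (Cfsg.Geo.specialLinear ι F)
      (Cfsg.Geo.similarityGroup f ⊓ Cfsg.Geo.specialLinear ι F) := by
  haveI : Nontrivial ι := Fintype.one_lt_card_iff_nontrivial.1 (by omega)
  have hrk : Module.finrank F (ι → F) = Fintype.card ι := Module.finrank_pi F
  refine isMaximalIn_unitarySimilitude_of h (by omega) hB fun M _ t ht0 rule1 v x hvv hv0 hx hrootx => ?_
  have hvx : B v x = 0 := h.eq_zero_symm (by rw [← vec_dot]; exact hrootx.dot)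
  have hA2 : ∀ w, B w w = 0 → B v w = 0 → w ∉ Submodule.span F {x, v} → Root M (vec B w) v := by
    intro w hw hvw hnot
    obtain ⟨w₁, hw₁, hc⟩ := exists_iso h (k := 3) (by omega) (li_three hv0 hx hnot) ![(t * t)⁻¹, 1, 0]
    have e1 : B w w₁ = (t * t)⁻¹ := hc 0
    have e2 : B w₁ x = 1 := by
      rw [← h.symm, show B x w₁ = 1 from hc 1, map_one]
    have e3 : B v w₁ = 0 := hc 2
    have := rule1 (rule1 hrootx hw₁ e3) hw hvw
    rw [e2, smul_right, e1] at this
    convert this using 2
    rw [show -(-1 * t * (t * t)⁻¹) * t = (1 : F) from by field_simp, one_smul]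
  have hA3 : ∀ y, B v y = 0 → y ∉ Submodule.span F {v} → Root M (vec B y) v := by
    intro y hvy hy
    let L : (ι → F) →ₗ[F] Fin 3 → F := LinearMap.pi ![B v, B x, B y]
    obtain ⟨u, hu, hunot⟩ : ∃ u, L u = 0 ∧ u ∉ Submodule.span F {y, v} := by
      by_contra! hc
      have h1 := Submodule.finrank_mono (show LinearMap.ker L ≤ Submodule.span F {y, v} from hc)
      have h2 := LinearMap.finrank_range_add_finrank_ker L
      have h3 := Submodule.finrank_le (LinearMap.range L)
      have h4 : Module.finrank F (Submodule.span F ({y, v} : Set (ι → F))) ≤ 2 := by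
        classical
        refine (finrank_span_le_card ({y, v} : Set (ι → F))).trans ?_
        rw [Set.toFinset_insert, Set.toFinset_singleton]
        exact Finset.card_le_two
      rw [Module.finrank_fin_fun] at h3
      omega
    have hvu : B v u = 0 := congrFun hu 0
    have hxu : B x u = 0 := congrFun hu 1
    have hyu : B y u = 0 := congrFun hu 2
    obtain ⟨s, hs⟩ := h.invol.exists_trace_eq (μ := -B y y) (by rw [map_neg, h.self_fixed])
    obtain ⟨w, hw, hc⟩ := exists_iso h (k := 3) (by omega) (li_three hv0 hy hunot) ![1, s, 0]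
    have e1 : B u w = 1 := hc 0
    have e2 : B y w = s := hc 1
    have e3 : B v w = 0 := hc 2
    have hkill : ∀ z ∈ Submodule.span F {x, v}, B u z = 0 := fun z hz => by
      obtain ⟨a, b, rfl⟩ := Submodule.mem_span_pair.1 hz
      rw [map_add, smul_right, smul_right, h.eq_zero_symm hxu, h.eq_zero_symm hvu, mul_zero, mul_zero, add_zero]
    have hyw : B (y + w) (y + w) = 0 := by
      simp only [map_add, LinearMap.add_apply, hw, e2, show B w y = σ s from by rw [← h.symm, e2]]
      linear_combination hs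
    have r1 := hA2 w hw e3 fun hm => one_ne_zero (α := F) (by rw [← e1, hkill _ hm])
    have r2 := hA2 (y + w) hyw (by rw [map_add, hvy, e3, add_zero]) fun hm => one_ne_zero (α := F) (by
      rw [← e1, ← hkill _ hm, map_add, h.eq_zero_symm hyu, zero_add])
    have := r2.sub r1
    rwa [← vec_sub, add_sub_cancel_right] at this
  intro y hvy
  by_cases hy : y ∈ Submodule.span F {v}
  · have hxy : y + x ∉ Submodule.span F {v} := fun hm => hx ((Submodule.add_mem_iff_right _ hy).1 hm)
    have := (hA3 (y + x) (by rw [map_add, hvy, hvx, add_zero]) hxy).sub hrootx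
    rwa [← vec_sub, add_sub_cancel_right] at this
  · exact hA3 y hvy hy

end CfsgLib.Geo.UnitarySim
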