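/-
SL₂(ℤ/5ᵏ): perfect, with solvable maximal subgroup (preimage of a Borel) of large derived length.
-/
import Mathlib

namespace CfsgLib.Geo.SLTwoLevel

open Matrix
open scoped commutatorElement

variable {R : Type*} [CommRing R]

/-- Upper unitriangular. -/
def eU (t : R) : SpecialLinearGroup (Fin 2) R := ⟨!![1, t; 0, 1], by simp [det_fin_two_of]⟩

/-- Lower unitriangular. -/
def eL (t : R) : SpecialLinearGroup (Fin 2) R := ⟨!![1, 0; t, 1], by simp [det_fin_two_of]⟩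

/-- Diagonal. -/
def dg (a : Rˣ) : SpecialLinearGroup (Fin 2) R := ⟨!![(a : R), 0; 0, ((a⁻¹ : Rˣ) : R)], by simp [det_fin_two_of]⟩

theorem coe_eU (t : R) : (eU t : Matrix (Fin 2) (Fin 2) R) = !![1, t; 0, 1] := rfl
theorem coe_eL (t : R) : (eL t : Matrix (Fin 2) (Fin 2) R) = !![1, 0; t, 1] := rfl
theorem coe_dg (a : Rˣ) : (dg a : Matrix (Fin 2) (Fin 2) R) = !![(a : R), 0; 0, ((a⁻¹ : Rˣ) : R)] := rfl

theorem ext2 {x y : SpecialLinearGroup (Fin 2) R} (h : (x : Matrix (Fin 2) (Fin 2) R) = y) : x = y := Subtype.ext h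

theorem eU_mul (s t : R) : eU s * eU t = eU (s + t) := ext2 (by simp [coe_eU, add_comm])

theorem eL_mul (s t : R) : eL s * eL t = eL (s + t) := ext2 (by simp [coe_eL])

theorem eU_zero : eU (0 : R) = 1 := ext2 (by simp [coe_eU, one_fin_two])

theorem eL_zero : eL (0 : R) = 1 := ext2 (by simp [coe_eL, one_fin_two])

theorem eU_inv (t : R) : (eU t)⁻¹ = eU (-t) := inv_eq_of_mul_eq_one_right (by rw [eU_mul, add_neg_cancel, eU_zero])

theorem eL_inv (t : R) : (eL t)⁻¹ = eL (-t) := inv_eq_of_mul_eq_one_right (by rw [eL_mul, add_neg_cancel, eL_zero])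

theorem eL_pow (t : R) : ∀ n : ℕ, eL t ^ n = eL ((n : R) * t)
  | 0 => by simp [eL_zero]
  | n + 1 => by rw [pow_succ, eL_pow t n, eL_mul]; push_cast; ring_nf

theorem dg_comm_eU (a : Rˣ) (t : R) : dg a * eU t * (dg a)⁻¹ * (eU t)⁻¹ = eU (((a : R) ^ 2 - 1) * t) := by
  rw [mul_inv_eq_iff_eq_mul, mul_inv_eq_iff_eq_mul, eU_mul]
  ext i j
  fin_cases i <;> fin_cases j <;> simp [coe_eU, coe_dg, mul_apply, Fin.sum_univ_two]
  linear_combination (-(a : R) * t) * a.mul_inv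

theorem dg_comm_eL (a : Rˣ) (t : R) :
    dg a * eL t * (dg a)⁻¹ * (eL t)⁻¹ = eL ((((a⁻¹ : Rˣ) : R) ^ 2 - 1) * t) := by
  rw [mul_inv_eq_iff_eq_mul, mul_inv_eq_iff_eq_mul, eL_mul]
  ext i j
  fin_cases i <;> fin_cases j <;> simp [coe_eL, coe_dg, mul_apply, Fin.sum_univ_two]
  linear_combination (-((a⁻¹ : Rˣ) : R) * t) * a.inv_mul

theorem eU_eL_comm (x y : R) :
    ((eU x * eL y * (eU x)⁻¹ * (eL y)⁻¹ : SpecialLinearGroup (Fin 2) R) : Matrix (Fin 2) (Fin 2) R) =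
      !![1 + x * y + x * y * (x * y), -(x * x * y); x * y * y, 1 - x * y] := by
  rw [eU_inv, eL_inv]
  ext i j
  fin_cases i <;> fin_cases j <;> simp [coe_eU, coe_eL, mul_apply, Fin.sum_univ_two] <;> ring

theorem decomp (g : SpecialLinearGroup (Fin 2) R) (a : Rˣ) (ha : g.1 0 0 = a) :
    g = eL (g.1 1 0 * ((a⁻¹ : Rˣ) : R)) * dg a * eU (g.1 0 1 * ((a⁻¹ : Rˣ) : R)) := by
  have hd := g.2
  rw [det_fin_two, ha] at hd
  ext i j
  fin_cases i <;> fin_cases j
  · simpa [coe_eU, coe_eL, coe_dg, mul_apply, Fin.sum_univ_two] using ha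
  · simp [coe_eU, coe_eL, coe_dg, mul_apply, Fin.sum_univ_two]
    linear_combination (-(g.1 0 1)) * a.mul_inv
  · simp [coe_eU, coe_eL, coe_dg, mul_apply, Fin.sum_univ_two]
  · simp [coe_eU, coe_eL, coe_dg, mul_apply, Fin.sum_univ_two]
    linear_combination ((a⁻¹ : Rˣ) : R) * hd - (g.1 1 1) * a.mul_inv

theorem dg_eq (a : Rˣ) :
    dg a = eU (a : R) * eL (-((a⁻¹ : Rˣ) : R)) * eU (a : R) * (eU (-1) * eL 1 * eU (-1)) := by
  ext i j
  fin_cases i <;> fin_cases j <;> simp [coe_eU, coe_eL, coe_dg, mul_apply, Fin.sum_univ_two]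

variable (k : ℕ)

/-- Reduction mod 5. -/
def red (hk : k ≠ 0) : ZMod (5 ^ k) →+* ZMod 5 := ZMod.castHom (dvd_pow_self 5 hk) (ZMod 5)

variable {k} (hk : k ≠ 0)

local instance : Fact (Nat.Prime 5) := ⟨by norm_num⟩

theorem isUnit_iff_red (x : ZMod (5 ^ k)) : IsUnit x ↔ red k hk x ≠ 0 := by
  constructor
  · intro h h0
    have := h.map (red k hk)
    rw [h0, isUnit_zero_iff] at this
    exact zero_ne_one this
  · intro h
    haveI : NeZero (5 ^ k) := ⟨pow_ne_zero _ (by norm_num)⟩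
    rw [← ZMod.natCast_zmod_val x, ZMod.isUnit_iff_coprime]
    refine Nat.Coprime.pow_right k ((Nat.Prime.coprime_iff_not_dvd (by norm_num)).2 fun h5 => h ?_).symm
    rw [← ZMod.natCast_zmod_val x, map_natCast, ZMod.natCast_eq_zero_iff]
    exact h5

theorem exists_five_mul {x : ZMod (5 ^ k)} (h : red k hk x = 0) : ∃ y, x = 5 * y := by
  haveI : NeZero (5 ^ k) := ⟨pow_ne_zero _ (by norm_num)⟩
  rw [← ZMod.natCast_zmod_val x, map_natCast, ZMod.natCast_eq_zero_iff] at h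
  obtain ⟨c, hc⟩ := h
  exact ⟨(c : ZMod (5 ^ k)), by rw [← ZMod.natCast_zmod_val x, hc]; push_cast; rfl⟩

theorem red_five : red k hk 5 = 0 := by
  rw [show (5 : ZMod (5 ^ k)) = ((5 : ℕ) : ZMod (5 ^ k)) by norm_num, map_natCast]
  rfl

include hk in
theorem closure_top (S : Subgroup (SpecialLinearGroup (Fin 2) (ZMod (5 ^ k)))) (hU : ∀ t, eU t ∈ S)
    (hL : ∀ t, eL t ∈ S) : S = ⊤ := by
  have hd : ∀ a, dg a ∈ S := fun a => by
    rw [dg_eq]
    exact S.mul_mem (S.mul_mem (S.mul_mem (hU _) (hL _)) (hU _)) (S.mul_mem (S.mul_mem (hU _) (hL _)) (hU _))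
  have hunit : ∀ g, IsUnit (g.1 0 0) → g ∈ S := fun g hg => by
    obtain ⟨a, ha⟩ := hg
    rw [decomp g a ha.symm]
    exact S.mul_mem (S.mul_mem (hL _) (hd a)) (hU _)
  refine eq_top_iff.2 fun g _ => ?_
  by_cases h : IsUnit (g.1 0 0)
  · exact hunit g h
  · have h2 : IsUnit ((eU 1 * g).1 0 0) := by
      rw [isUnit_iff_red (k := k) hk]
      rw [isUnit_iff_red (k := k) hk, ne_eq, not_not] at h
      simp [coe_eU, mul_apply, Fin.sum_univ_two, h]
      intro h10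
      have hd := congrArg (red k hk) g.2
      rw [det_fin_two, map_sub, map_mul, map_mul, h, h10, map_one] at hd
      simp at hd
    have := S.mul_mem (S.inv_mem (hU 1)) (hunit _ h2)
    rwa [inv_mul_cancel_left] at this

include hk in
theorem perfect : commutator (SpecialLinearGroup (Fin 2) (ZMod (5 ^ k))) = ⊤ := by
  obtain ⟨two, h2⟩ : IsUnit (2 : ZMod (5 ^ k)) := by
    rw [isUnit_iff_red hk, map_ofNat]; decide
  obtain ⟨three, h3⟩ : IsUnit ((two : ZMod (5 ^ k)) ^ 2 - 1) := by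
    rw [isUnit_iff_red hk, h2, map_sub, map_pow, map_ofNat, map_one]; decide
  obtain ⟨three', h3'⟩ : IsUnit (((two⁻¹ : (ZMod (5 ^ k))ˣ) : ZMod (5 ^ k)) ^ 2 - 1) := by
    have : ((two⁻¹ : (ZMod (5 ^ k))ˣ) : ZMod (5 ^ k)) ^ 2 - 1 =
        -(((two⁻¹ : (ZMod (5 ^ k))ˣ) : ZMod (5 ^ k)) ^ 2 * ((two : ZMod (5 ^ k)) ^ 2 - 1)) := by
      linear_combination (((two⁻¹ : (ZMod (5 ^ k))ˣ) : ZMod (5 ^ k)) * two + 1) * two.inv_mul
    rw [this, ← h3]
    exact ((two⁻¹.isUnit.pow 2).mul three.isUnit).neg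
  refine closure_top hk _ (fun t => ?_) (fun t => ?_)
  · have : eU t = ⁅dg two, eU (((three⁻¹ : (ZMod (5 ^ k))ˣ) : ZMod (5 ^ k)) * t)⁆ := by
      rw [commutatorElement_def, dg_comm_eU, ← h3, ← mul_assoc, Units.mul_inv, one_mul]
    rw [this, _root_.commutator_def]
    exact Subgroup.commutator_mem_commutator (Subgroup.mem_top _) (Subgroup.mem_top _)
  · have : eL t = ⁅dg two, eL (((three'⁻¹ : (ZMod (5 ^ k))ˣ) : ZMod (5 ^ k)) * t)⁆ := by
      rw [commutatorElement_def, dg_comm_eL, ← h3', ← mul_assoc, Units.mul_inv, one_mul]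
    rw [this, _root_.commutator_def]
    exact Subgroup.commutator_mem_commutator (Subgroup.mem_top _) (Subgroup.mem_top _)

/-- Preimage of the Borel subgroup. -/
def borel : Subgroup (SpecialLinearGroup (Fin 2) (ZMod (5 ^ k))) where
  carrier := {g | red k hk (g.1 1 0) = 0}
  mul_mem' {a b} ha hb := by
    show red k hk ((a.1 * b.1) 1 0) = 0
    replace ha : red k hk (a.1 1 0) = 0 := ha
    replace hb : red k hk (b.1 1 0) = 0 := hb
    rw [mul_apply, Fin.sum_univ_two, map_add, map_mul, map_mul, ha, hb, zero_mul, mul_zero, add_zero]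
  one_mem' := by show red k hk ((1 : Matrix (Fin 2) (Fin 2) _) 1 0) = 0; simp
  inv_mem' {a} ha := by
    show red k hk ((a.1).adjugate 1 0) = 0
    replace ha : red k hk (a.1 1 0) = 0 := ha
    rw [adjugate_fin_two]
    simp [ha]

theorem eU_mem (t : ZMod (5 ^ k)) : eU t ∈ borel hk := by show red k hk 0 = 0; simp
theorem dg_mem (a : (ZMod (5 ^ k))ˣ) : dg a ∈ borel hk := by show red k hk 0 = 0; simp
theorem eL_five_mem (t : ZMod (5 ^ k)) : eL (5 * t) ∈ borel hk := by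
  show red k hk (5 * t) = 0
  rw [map_mul, red_five, zero_mul]

theorem isCoatom_borel : IsCoatom (borel hk) := by
  constructor
  · intro h
    have h1 : red k hk 1 = 0 := show eL (1 : ZMod (5 ^ k)) ∈ borel hk from h ▸ Subgroup.mem_top _
    rw [map_one] at h1
    exact one_ne_zero h1
  · intro L hL
    obtain ⟨g₀, hg₀L, hg₀⟩ := SetLike.exists_of_lt hL
    replace hg₀ : red k hk (g₀.1 1 0) ≠ 0 := hg₀
    obtain ⟨g, hgL, ⟨a, ha⟩, hc⟩ : ∃ g ∈ L, IsUnit (g.1 0 0) ∧ red k hk (g.1 1 0) ≠ 0 := by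
      by_cases h : IsUnit (g₀.1 0 0)
      · exact ⟨g₀, hg₀L, h, hg₀⟩
      · rw [isUnit_iff_red hk, ne_eq, not_not] at h
        refine ⟨eU 1 * g₀, L.mul_mem (hL.le (eU_mem hk 1)) hg₀L, ?_, ?_⟩
        · rw [isUnit_iff_red hk]
          simp [coe_eU, Fin.sum_univ_two, mul_apply, h, hg₀]
        · simp [coe_eU, Fin.sum_univ_two, mul_apply, hg₀]
    set c := g.1 1 0 * ((a⁻¹ : (ZMod (5 ^ k))ˣ) : ZMod (5 ^ k)) with hcdef
    obtain ⟨cu, hcu⟩ : IsUnit c := by
      rw [hcdef, isUnit_iff_red hk, map_mul]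
      exact mul_ne_zero hc ((isUnit_iff_red hk _).1 a⁻¹.isUnit)
    have hLc : eL c ∈ L := by
      have := decomp g a ha.symm
      rw [← hcdef, mul_assoc] at this
      rw [eq_mul_inv_iff_mul_eq.2 this.symm]
      exact L.mul_mem hgL (L.inv_mem (L.mul_mem (hL.le (dg_mem hk a)) (hL.le (eU_mem hk _))))
    refine closure_top hk L (fun t => hL.le (eU_mem hk t)) (fun t => ?_)
    haveI : NeZero (5 ^ k) := ⟨pow_ne_zero _ (by norm_num)⟩
    have h2 := L.pow_mem hLc (t * ((cu⁻¹ : (ZMod (5 ^ k))ˣ) : ZMod (5 ^ k))).val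
    rwa [eL_pow, ZMod.natCast_zmod_val, ← hcu, mul_assoc, Units.inv_mul, mul_one] at h2

theorem pow_five_step (i : ℕ) (hi : 1 ≤ i) (X : Matrix (Fin 2) (Fin 2) (ZMod (5 ^ k))) :
    ∃ Y, (1 + (5 : ZMod (5 ^ k)) ^ i • X) ^ 5 = 1 + (5 : ZMod (5 ^ k)) ^ (i + 1) • Y := by
  obtain ⟨j, rfl⟩ := Nat.exists_eq_add_of_le hi
  let c : ZMod (5 ^ k) := 5 ^ j
  let p : Polynomial (ZMod (5 ^ k)) :=
    Polynomial.X + 2 * Polynomial.C (5 * c) * Polynomial.X ^ 2 + 2 * Polynomial.C (5 * c) ^ 2 * Polynomial.X ^ 3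
      + Polynomial.C (5 * c) ^ 3 * Polynomial.X ^ 4 + Polynomial.C c * Polynomial.C (5 * c) ^ 3 * Polynomial.X ^ 5
  refine ⟨Polynomial.aeval X p, ?_⟩
  have h : (1 + Polynomial.C (5 * c) * Polynomial.X) ^ 5 = 1 + Polynomial.C (5 * (5 * c)) * p := by
    simp only [p, map_mul, map_ofNat]
    ring
  have h2 := congrArg (Polynomial.aeval X) h
  simp only [map_pow, map_add, map_one, map_mul, Polynomial.aeval_C, Polynomial.aeval_X] at h2
  rw [← map_mul, ← map_mul, ← Algebra.smul_def, ← Algebra.smul_def] at h2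
  have e1 : (5 : ZMod (5 ^ k)) ^ (1 + j) = 5 * c := by rw [pow_add, pow_one]
  have e2 : (5 : ZMod (5 ^ k)) ^ (1 + j + 1) = 5 * (5 * c) := by rw [pow_succ, e1]; ring
  rw [e1, e2]
  exact h2

theorem isSolvable_borel : Group.IsSolvable (borel hk) := by
  haveI : NeZero (5 ^ k) := ⟨pow_ne_zero _ (by norm_num)⟩
  haveI : Fact (Nat.Prime 5) := ⟨by norm_num⟩
  let χ₀ : borel hk →* ZMod 5 :=
    { toFun := fun g => red k hk (g.1.1 0 0)
      map_one' := by show red k hk ((1 : Matrix (Fin 2) (Fin 2) (ZMod (5 ^ k))) 0 0) = 1; simp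
      map_mul' := fun a b => by
        show red k hk ((a.1.1 * b.1.1) 0 0) = _
        have hb : red k hk (b.1.1 1 0) = 0 := b.2
        simp [Fin.sum_univ_two, mul_apply, hb] }
  let χ : borel hk →* (ZMod 5)ˣ := χ₀.toHomUnits
  have hp : IsPGroup 5 χ.ker := by
    rintro ⟨g, hg⟩
    have h00 : red k hk (g.1.1 0 0) = 1 := congrArg Units.val (MonoidHom.mem_ker.1 hg)
    have h10 : red k hk (g.1.1 1 0) = 0 := g.2
    have h11 : red k hk (g.1.1 1 1) = 1 := by
      have hd := congrArg (red k hk) g.1.2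
      rwa [det_fin_two, map_sub, map_mul, map_mul, h00, h10, mul_zero, sub_zero, one_mul, map_one] at hd
    set M := g.1.1 with hM
    have hred : ∀ i j, red k hk ((M ^ 5 - 1 : Matrix (Fin 2) (Fin 2) (ZMod (5 ^ k))) i j) = 0 := by
      intro i j
      have h1 : M.map (red k hk) = !![1, red k hk (M 0 1); 0, 1] := by
        ext i j
        fin_cases i <;> fin_cases j <;> simp [h00, h10, h11]
      have h2 : ∀ (b : ZMod 5) (n : ℕ), (!![1, b; 0, 1] : Matrix (Fin 2) (Fin 2) (ZMod 5)) ^ n = !![1, n * b; 0, 1] := by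
        intro b n
        induction n with
        | zero => simp [one_fin_two]
        | succ n ih => rw [pow_succ, ih]; simp; ring
      have h3 : (M ^ 5).map (red k hk) = 1 := by
        have h4 := map_pow (RingHom.mapMatrix (red k hk)) M 5
        simp only [RingHom.mapMatrix_apply] at h4
        rw [h4, h1, h2, show ((5 : ℕ) : ZMod 5) = 0 from rfl, zero_mul, one_fin_two]
      have := congrFun (congrFun h3 i) j
      rw [Matrix.map_apply] at this
      rw [Matrix.sub_apply, map_sub, this]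
      rcases eq_or_ne i j with rfl | h
      · simp
      · simp [h]
    choose y hy using fun i j => exists_five_mul hk (hred i j)
    have hbase : ∀ n, 1 ≤ n → ∃ X, M ^ 5 ^ n = 1 + (5 : ZMod (5 ^ k)) ^ n • X := by
      intro n hn
      induction n, hn using Nat.le_induction with
      | base =>
        refine ⟨Matrix.of y, ?_⟩
        rw [pow_one, pow_one, ← sub_eq_iff_eq_add']
        ext i j
        rw [hy i j]
        rfl
      | succ n hn ih =>
        obtain ⟨X, hX⟩ := ih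
        obtain ⟨Y, hY⟩ := pow_five_step n hn X
        exact ⟨Y, by rw [pow_succ, pow_mul, hX, hY]⟩
    obtain ⟨X, hX⟩ := hbase k (Nat.pos_of_ne_zero hk)
    refine ⟨k, ?_⟩
    have h5 : (5 : ZMod (5 ^ k)) ^ k = 0 := by
      have := ZMod.natCast_self (5 ^ k)
      push_cast at this
      exact this
    rw [h5, zero_smul, add_zero] at hX
    refine Subtype.ext (Subtype.ext (ext2 ?_))
    simp only [SubmonoidClass.coe_pow, SpecialLinearGroup.coe_pow, OneMemClass.coe_one, SpecialLinearGroup.coe_one]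
    exact hX
  haveI : Group.IsNilpotent χ.ker := hp.isNilpotent
  haveI : Group.IsSolvable χ.ker := inferInstance
  exact Group.isSolvable_of_ker_le_range χ.ker.subtype χ (by rw [Subgroup.range_subtype])

theorem derived_ne_bot (d : ℕ) (hd : 2 ^ d < k) : derivedSeries (borel hk) d ≠ ⊥ := by
  let S : ℕ → Subgroup (SpecialLinearGroup (Fin 2) (ZMod (5 ^ k))) := fun n =>
    (derivedSeries (borel hk) n).map (borel hk).subtype
  have hS : ∀ n a b, a ∈ S n → b ∈ S n → a * b * a⁻¹ * b⁻¹ ∈ S (n + 1) := by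
    intro n a b ha hb
    simp only [S, derivedSeries_succ, Subgroup.map_commutator]
    rw [← commutatorElement_def]
    exact Subgroup.commutator_mem_commutator ha hb
  have hP : ∀ n, (∃ a : (ZMod (5 ^ k))ˣ, ∃ u, IsUnit u ∧ (a : ZMod (5 ^ k)) = 1 + 5 ^ 2 ^ n * u ∧ dg a ∈ S n) ∧
      ∀ t, eU (5 ^ 2 ^ n * t) ∈ S n ∧ eL (5 ^ 2 ^ n * t) ∈ S n := by
    intro n
    induction n with
    | zero =>
      have h0 : ∀ g ∈ borel hk, g ∈ S 0 := fun g hg => ⟨⟨g, hg⟩, Subgroup.mem_top _, rfl⟩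
      obtain ⟨six, h6⟩ : IsUnit (1 + 5 * 1 : ZMod (5 ^ k)) := by
        rw [isUnit_iff_red hk, map_add, mul_one, red_five, map_one, add_zero]; exact one_ne_zero
      refine ⟨⟨six, 1, isUnit_one, by rw [h6, pow_zero, pow_one], h0 _ (dg_mem hk six)⟩, fun t => ⟨h0 _ (eU_mem hk _), ?_⟩⟩
      rw [pow_zero, pow_one]
      exact h0 _ (eL_five_mem hk t)
    | succ n ih =>
      obtain ⟨⟨a, u, hu, hau, ha⟩, hE⟩ := ih
      have hpos : (2 : ℕ) ^ n ≠ 0 := pow_ne_zero _ two_ne_zero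
      have hr : red k hk (5 ^ 2 ^ n) = 0 := by rw [map_pow, red_five, zero_pow hpos]
      have e2 : (5 : ZMod (5 ^ k)) ^ 2 ^ (n + 1) = 5 ^ 2 ^ n * 5 ^ 2 ^ n := by
        rw [← pow_add]; congr 1; ring
      obtain ⟨w, hw⟩ : IsUnit (u * (2 + 5 ^ 2 ^ n * u)) := by
        rw [isUnit_iff_red hk, map_mul, map_add, map_mul, hr, zero_mul, add_zero, map_ofNat]
        exact mul_ne_zero ((isUnit_iff_red hk _).1 hu) (by decide)
      have hU : ∀ t, eU (5 ^ 2 ^ (n + 1) * t) ∈ S (n + 1) := fun t => by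
        have h := hS n _ _ ha (hE (((w⁻¹ : (ZMod (5 ^ k))ˣ) : ZMod (5 ^ k)) * t)).1
        rw [dg_comm_eU] at h
        convert h using 2
        rw [e2, hau]
        linear_combination (5 ^ 2 ^ n * 5 ^ 2 ^ n * ((w⁻¹ : (ZMod (5 ^ k))ˣ) : ZMod (5 ^ k)) * t) * hw
          - (5 ^ 2 ^ n * 5 ^ 2 ^ n * t) * w.inv_mul
      have hL : ∀ t, eL (5 ^ 2 ^ (n + 1) * t) ∈ S (n + 1) := fun t => by
        have h := hS n _ _ ha (hE (-((a : ZMod (5 ^ k)) ^ 2) * (((w⁻¹ : (ZMod (5 ^ k))ˣ) : ZMod (5 ^ k)) * t))).2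
        rw [dg_comm_eL] at h
        convert h using 2
        rw [e2]
        linear_combination (5 ^ 2 ^ n * 5 ^ 2 ^ n * ((w⁻¹ : (ZMod (5 ^ k))ˣ) : ZMod (5 ^ k)) * t) * hw
          - (5 ^ 2 ^ n * 5 ^ 2 ^ n * t) * w.inv_mul
          - (5 ^ 2 ^ n * ((w⁻¹ : (ZMod (5 ^ k))ˣ) : ZMod (5 ^ k)) * t * ((a : ZMod (5 ^ k)) + 1 + 5 ^ 2 ^ n * u)) * hau
          + (5 ^ 2 ^ n * ((w⁻¹ : (ZMod (5 ^ k))ˣ) : ZMod (5 ^ k)) * t *
            (((a⁻¹ : (ZMod (5 ^ k))ˣ) : ZMod (5 ^ k)) * a + 1)) * a.inv_mul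
      refine ⟨?_, fun t => ⟨hU t, hL t⟩⟩
      obtain ⟨a', ha'⟩ : IsUnit (1 + 5 ^ 2 ^ (n + 1) * (1 + 5 ^ 2 ^ (n + 1)) : ZMod (5 ^ k)) := by
        rw [isUnit_iff_red hk, e2, map_add, map_mul, map_mul, hr, zero_mul, zero_mul, add_zero, map_one]
        exact one_ne_zero
      refine ⟨a', _, ?_, ha', ?_⟩
      · rw [isUnit_iff_red hk, e2, map_add, map_mul, hr, zero_mul, add_zero, map_one]
        exact one_ne_zero
      · have hx := (hE 1).1
        have hy := (hE 1).2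
        rw [mul_one] at hx hy
        have h := hS n _ _ hx hy
        set g := eU ((5 : ZMod (5 ^ k)) ^ 2 ^ n) * eL (5 ^ 2 ^ n) * (eU (5 ^ 2 ^ n))⁻¹ * (eL (5 ^ 2 ^ n))⁻¹ with hg
        have hgm : g.1 = _ := eU_eL_comm ((5 : ZMod (5 ^ k)) ^ 2 ^ n) (5 ^ 2 ^ n)
        have hd := decomp g a' (by rw [hgm, ha', e2]; simp; ring)
        have h10 : ∀ c, eL (g.1 1 0 * c) ∈ S (n + 1) := fun c => by
          convert hL (5 ^ 2 ^ n * c) using 2
          rw [hgm, e2]; simp; ring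
        have h01 : ∀ c, eU (g.1 0 1 * c) ∈ S (n + 1) := fun c => by
          convert hU (-(5 ^ 2 ^ n * c)) using 2
          rw [hgm, e2]; simp; ring
        rw [hd] at h
        exact ((S (n + 1)).mul_mem_cancel_left (h10 _)).1 (((S (n + 1)).mul_mem_cancel_right (h01 _)).1 h)
  intro hbot
  have h := ((hP d).2 1).1
  simp only [S, hbot, Subgroup.map_bot, Subgroup.mem_bot, mul_one] at h
  have h1 := congrFun (congrFun (congrArg Subtype.val h) 0) 1
  have h2 : ((5 ^ 2 ^ d : ℕ) : ZMod (5 ^ k)) = 0 := by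
    push_cast
    simpa [coe_eU] using h1
  rw [ZMod.natCast_eq_zero_iff] at h2
  have := (Nat.pow_dvd_pow_iff_le_right (by norm_num : 1 < 5)).1 h2
  omega

end CfsgLib.Geo.SLTwoLevel
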