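/-
Stabilisers of pairs of complementary totally isotropic subspaces are maximal in SU.
-/
import Cfsg.Agent.Lib.Geo.UnitMaximal

set_option autoImplicit false

namespace CfsgLib.Geo.UnitPair

open CfsgLib.Classical CfsgLib.Classical.Herm CfsgLib.Geo.UnitMax

variable {F : Type*} [Field F] {V : Type*} [AddCommGroup V] [Module F V] {σ : F →+* F}
  {B : V →ₛₗ[σ] V →ₗ[F] F}

/-- The element preserves or interchanges the two subspaces. -/
def Pres (L₀ L₁ : Submodule F V) (g : HU B) : Prop :=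
  ((∀ x ∈ L₀, (g : V ≃ₗ[F] V) x ∈ L₀) ∧ ∀ x ∈ L₁, (g : V ≃ₗ[F] V) x ∈ L₁) ∨
    ((∀ x ∈ L₀, (g : V ≃ₗ[F] V) x ∈ L₁) ∧ ∀ x ∈ L₁, (g : V ≃ₗ[F] V) x ∈ L₀)

theorem Pres.swap {L₀ L₁ : Submodule F V} {g : HU B} (hg : Pres L₁ L₀ g) : Pres L₀ L₁ g :=
  hg.elim (fun e => Or.inl ⟨e.2, e.1⟩) fun e => Or.inr ⟨e.2, e.1⟩

/-- The hypotheses on the pair. -/
structure IsPair (B : V →ₛₗ[σ] V →ₗ[F] F) (m : ℕ) (L₀ L₁ : Submodule F V) : Prop where
  compl : IsCompl L₀ L₁
  rank₀ : Module.finrank F L₀ = m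
  rank₁ : Module.finrank F L₁ = m
  iso₀ : ∀ x ∈ L₀, ∀ y ∈ L₀, B x y = 0
  iso₁ : ∀ x ∈ L₁, ∀ y ∈ L₁, B x y = 0

theorem IsPair.symm {m : ℕ} {L₀ L₁ : Submodule F V} (hp : IsPair B m L₀ L₁) : IsPair B m L₁ L₀ :=
  ⟨hp.compl.symm, hp.rank₁, hp.rank₀, hp.iso₁, hp.iso₀⟩

theorem exists_avoid {U A A' : Submodule F V} (hA : ¬ U ≤ A) (hA' : ¬ U ≤ A') : ∃ x ∈ U, x ∉ A ∧ x ∉ A' := by
  obtain ⟨p, hp, hpA⟩ := SetLike.not_le_iff_exists.1 hA
  obtain ⟨q, hq, hqA⟩ := SetLike.not_le_iff_exists.1 hA'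
  by_cases h1 : p ∈ A'
  · by_cases h2 : q ∈ A
    · refine ⟨p + q, U.add_mem hp hq, fun h => hpA ?_, fun h => hqA ?_⟩
      · simpa using A.sub_mem h h2
      · simpa using A'.sub_mem h h1
    · exact ⟨q, hq, h2, hqA⟩
  · exact ⟨p, hp, hpA, h1⟩

variable [FiniteDimensional F V] (h : IsHerm B) {m : ℕ} {L₀ L₁ : Submodule F V}
include h

omit [FiniteDimensional F V] in
theorem eq_zero_of_perp (hp : IsPair B m L₀ L₁) {x : V} (hx : x ∈ L₀) (hperp : ∀ w ∈ L₁, B x w = 0) : x = 0 := by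
  refine h.nondeg x fun y => ?_
  obtain ⟨a, ha, b, hb, rfl⟩ := Submodule.mem_sup.1 (hp.compl.sup_eq_top.ge (Submodule.mem_top : y ∈ ⊤))
  rw [map_add, hp.iso₀ x hx a ha, hperp b hb, add_zero]

theorem exists_dual [Finite F] (hp : IsPair B m L₀ L₁) (f : Module.Dual F L₀) :
    ∃ w : L₁, ∀ x : L₀, B (w : V) (x : V) = f x := by
  haveI : Finite L₁ := Module.finite_of_finite F
  haveI : Finite (Module.Dual F L₀) := Module.finite_of_finite F
  have hinj : Function.Injective fun w : L₁ => (B (w : V)).domRestrict L₀ := fun a b hab => by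
    refine Subtype.ext (sub_eq_zero.1 (eq_zero_of_perp h hp.symm (L₁.sub_mem a.2 b.2) fun x hx => ?_))
    rw [sub_left, sub_eq_zero]
    exact LinearMap.congr_fun hab ⟨x, hx⟩
  obtain ⟨w, hw⟩ := ((Nat.bijective_iff_injective_and_card _).2 ⟨hinj, by
    rw [Module.natCard_eq_pow_finrank (K := F) (V := L₁), Module.natCard_eq_pow_finrank (K := F)
      (V := Module.Dual F L₀), Subspace.dual_finrank_eq, hp.rank₀, hp.rank₁]⟩).2 f
  exact ⟨w, fun x => LinearMap.congr_fun hw x⟩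

/-! ### Siegel elements -/

/-- The map `y ↦ y + c B(w,y) u − σ c B(u,y) w`. -/
noncomputable def sgMap (u w : V) (c : F) : V →ₗ[F] V :=
  LinearMap.transvection (c • B w) u ∘ₗ LinearMap.transvection ((-σ c) • B u) w

omit [FiniteDimensional F V] h in
theorem sgMap_apply {u w : V} (hww : B w w = 0) (c : F) (y : V) :
    sgMap (B := B) u w c y = y + (c * B w y) • u - (σ c * B u y) • w := by
  simp only [sgMap, LinearMap.comp_apply, LinearMap.transvection.apply, LinearMap.smul_apply, smul_eq_mul,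
    map_add, map_smul, hww]
  match_scalars <;> ring

omit [FiniteDimensional F V] in
theorem sgMap_preserves {u w : V} (huu : B u u = 0) (hww : B w w = 0) (huw : B u w = 0) (c : F) (y z : V) :
    B (sgMap (B := B) u w c y) (sgMap (B := B) u w c z) = B y z := by
  have hwu := h.eq_zero_symm huw
  simp only [sgMap_apply hww, sub_left, map_sub, map_add, LinearMap.add_apply, LinearMap.sub_apply, smul_left, smul_right, huu, hww,
    huw, hwu, map_mul, h.invol.invol, h.symm]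
  ring

/-- The Siegel element. -/
noncomputable def sg {u w : V} (huu : B u u = 0) (hww : B w w = 0) (huw : B u w = 0) (c : F) : HU B :=
  h.ofPreserves (sgMap (B := B) u w c) (sgMap_preserves h huu hww huw c)

theorem sg_apply {u w : V} (huu : B u u = 0) (hww : B w w = 0) (huw : B u w = 0) (c : F) (y : V) :
    (sg h huu hww huw c : V ≃ₗ[F] V) y = y + (c * B w y) • u - (σ c * B u y) • w := by
  rw [sg, IsHerm.ofPreserves_apply, sgMap_apply hww]

theorem sg_det {u w : V} (huu : B u u = 0) (hww : B w w = 0) (huw : B u w = 0) (c : F) :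
    sg h huu hww huw c ∈ HSU B := by
  rw [MonoidHom.mem_ker]
  ext
  show ((LinearEquiv.det (sg h huu hww huw c : V ≃ₗ[F] V) : Fˣ) : F) = 1
  rw [LinearEquiv.coe_det, sg, IsHerm.coe_ofPreserves, sgMap, LinearMap.det_comp,
    LinearMap.transvection.det, LinearMap.transvection.det, LinearMap.smul_apply, LinearMap.smul_apply,
    huw, h.eq_zero_symm huw, smul_zero, smul_zero, add_zero, mul_one]

theorem conj_sg {u w : V} (huu : B u u = 0) (hww : B w w = 0) (huw : B u w = 0) (c : F) (g : HU B) :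
    g * sg h huu hww huw c * g⁻¹ =
      sg h (u := (g : V ≃ₗ[F] V) u) (w := (g : V ≃ₗ[F] V) w) ((HU.map_eq g u u).trans huu)
        ((HU.map_eq g w w).trans hww) ((HU.map_eq g u w).trans huw) c := by
  rw [mul_inv_eq_iff_eq_mul]
  ext y
  simp only [Subgroup.coe_mul, LinearEquiv.mul_apply, sg_apply, HU.map_eq, map_sub, map_add, LinearEquiv.map_smul]

theorem sg_pres (hp : IsPair B m L₀ L₁) {u w : V} (hu : u ∈ L₀) (hw : w ∈ L₁) (huw : B u w = 0) (c : F) :
    Pres L₀ L₁ (sg h (hp.iso₀ u hu u hu) (hp.iso₁ w hw w hw) huw c) := by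
  refine Or.inl ⟨fun x hx => ?_, fun x hx => ?_⟩
  · rw [sg_apply, hp.iso₀ u hu x hx, mul_zero, zero_smul, sub_zero]
    exact L₀.add_mem hx (L₀.smul_mem _ hu)
  · rw [sg_apply, hp.iso₁ w hw x hx, mul_zero, zero_smul, add_zero]
    exact L₁.sub_mem hx (L₁.smul_mem _ hw)

/-- An element of SU interchanging the two subspaces. -/
theorem exists_swap [Finite F] (hp : IsPair B m L₀ L₁) :
    ∃ g ∈ HSU B, (∀ x ∈ L₀, (g : V ≃ₗ[F] V) x ∈ L₁) ∧ ∀ x ∈ L₁, (g : V ≃ₗ[F] V) x ∈ L₀ := by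
  classical
  obtain ⟨θ, hθ0, hθ⟩ := h.exists_skew
  have hθ' : -θ⁻¹ + σ (-θ⁻¹) = 0 := by
    rw [map_neg, map_inv₀, eq_neg_of_add_eq_zero_right hθ, inv_neg, neg_neg, neg_add_cancel]
  let e := Module.finBasisOfFinrankEq F L₀ hp.rank₀
  choose f hf using fun i => exists_dual h hp (e.coord i)
  have hfe : ∀ i j, B (f i : V) (e j : V) = if j = i then 1 else 0 := fun i j => by
    rw [hf, Module.Basis.coord_apply, Module.Basis.repr_self, Finsupp.single_apply]
  have hef : ∀ i j, B (e j : V) (f i : V) = if j = i then 1 else 0 := fun i j => by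
    rw [← h.symm, hfe, apply_ite σ, map_one, map_zero]
  have hee : ∀ i j, B (e i : V) (e j : V) = 0 := fun i j => hp.iso₀ _ (e i).2 _ (e j).2
  have hff : ∀ i j, B (f i : V) (f j : V) = 0 := fun i j => hp.iso₁ _ (f i).2 _ (f j).2
  have key : ∀ s : Finset (Fin m), ∃ g ∈ HSU B, ∀ i,
      (g : V ≃ₗ[F] V) (e i : V) = (if i ∈ s then θ • (f i : V) else (e i : V)) ∧
      (g : V ≃ₗ[F] V) (f i : V) = (if i ∈ s then (-θ⁻¹) • (e i : V) else (f i : V)) := by
    intro s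
    induction s using Finset.induction_on with
    | empty => exact ⟨1, one_mem _, fun i => by simp⟩
    | @insert a s ha ih =>
      obtain ⟨g, hg, hgi⟩ := ih
      set T := h.tr (hee a a) hθ' * h.tr (hff a a) hθ * h.tr (hee a a) hθ' with hT
      have hTmem : T ∈ HSU B :=
        mul_mem (mul_mem (h.det_tr (hee a a) hθ') (h.det_tr (hff a a) hθ)) (h.det_tr (hee a a) hθ')
      refine ⟨T * g, mul_mem hTmem hg, fun i => ?_⟩
      rw [Subgroup.coe_mul, LinearEquiv.mul_apply, LinearEquiv.mul_apply, (hgi i).1, (hgi i).2]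
      by_cases hia : i = a
      · subst hia
        rw [if_neg ha, if_neg ha, if_pos (Finset.mem_insert_self _ _), if_pos (Finset.mem_insert_self _ _)]
        simp only [hT, Subgroup.coe_mul, LinearEquiv.mul_apply, IsHerm.tr_apply, map_add, LinearEquiv.map_smul,
          map_smul, hee, hff, hef, hfe, if_pos]
        constructor <;> match_scalars <;> field_simp <;> ring
      · have hm : i ∈ insert a s ↔ i ∈ s := by simp [hia]
        simp only [hm]
        constructor <;> split_ifs <;>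
          simp [hT, IsHerm.tr_apply, hee, hff, hef, hfe, hia, Ne.symm hia]
  obtain ⟨g, hg, hgi⟩ := key Finset.univ
  simp only [Finset.mem_univ, if_true] at hgi
  have hspan₀ : ∀ x : L₀, (x : V) = ∑ i, e.repr x i • (e i : V) := fun x => by
    have := congrArg L₀.subtype (e.sum_repr x)
    rw [map_sum] at this
    exact this.symm
  have hspan₁ : ∀ y ∈ L₁, y = ∑ i, B (e i : V) y • (f i : V) := by
    intro y hy
    refine sub_eq_zero.1 (eq_zero_of_perp h hp.symm (L₁.sub_mem hy (Submodule.sum_mem _ fun i _ =>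
      L₁.smul_mem _ (f i).2)) fun x hx => ?_)
    refine h.eq_zero_symm ?_
    rw [map_sub, map_sum]
    simp only [map_smul, smul_eq_mul]
    rw [show x = ((⟨x, hx⟩ : L₀) : V) from rfl, hspan₀ ⟨x, hx⟩]
    simp [map_sum, hef, LinearMap.sum_apply, smul_left, Finset.sum_ite_eq', mul_comm]
  refine ⟨g, hg, fun x hx => ?_, fun x hx => ?_⟩
  · rw [show x = ((⟨x, hx⟩ : L₀) : V) from rfl, hspan₀, map_sum]
    exact Submodule.sum_mem _ fun i _ => by rw [map_smul, (hgi i).1]; exact L₁.smul_mem _ (L₁.smul_mem _ (f i).2)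
  · rw [hspan₁ x hx, map_sum]
    exact Submodule.sum_mem _ fun i _ => by rw [map_smul, (hgi i).2]; exact L₀.smul_mem _ (L₀.smul_mem _ (e i).2)

/-- A line of `L₁` orthogonal to `u` but not to `x`. -/
theorem exists_sep [Finite F] (hp : IsPair B m L₀ L₁) {u x : V} (hu : u ∈ L₀) (hx : x ∈ L₀)
    (hne : x ∉ Submodule.span F {u}) : ∃ w ∈ L₁, B u w = 0 ∧ B x w ≠ 0 := by
  have hnot : (⟨x, hx⟩ : L₀) ∉ Submodule.span F {(⟨u, hu⟩ : L₀)} := fun hh => by
    obtain ⟨k, hk⟩ := Submodule.mem_span_singleton.1 hh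
    exact hne (Submodule.mem_span_singleton.2 ⟨k, congrArg Subtype.val hk⟩)
  obtain ⟨ψ, hψ, hψ'⟩ := Submodule.exists_dual_map_eq_bot_of_notMem hnot inferInstance
  have hψ0 : ψ ⟨u, hu⟩ = 0 := (Submodule.mem_bot F).1 (hψ' ▸ ⟨_, Submodule.mem_span_singleton_self _, rfl⟩)
  obtain ⟨w, hw⟩ := exists_dual h hp ψ
  exact ⟨w, w.2, h.eq_zero_symm (by rw [hw ⟨u, hu⟩, hψ0]), fun e => hψ (by
    rw [← hw ⟨x, hx⟩]
    exact h.eq_zero_symm e)⟩

/-- The transvection when the projection of `a` is orthogonal to both vectors. -/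
theorem exists_tr_deg [Finite F] (hp : IsPair B m L₀ L₁) {K : Subgroup (HU B)}
    (hK : ∀ p ∈ HSU B, Pres L₀ L₁ p → p ∈ K) {a b : V} (haa : B a a = 0) (hbb : B b b = 0)
    (hab : B a b = 0) (hmem : ∀ d, sg h haa hbb hab d ∈ K) {u a₁ b₀ b₁ : V} (hu : u ∈ L₀) (ha₁ : a₁ ∈ L₁)
    (hb₀ : b₀ ∈ L₀) (hb₁ : b₁ ∈ L₁) (hae : u + a₁ = a) (hbe : b₀ + b₁ = b) (hau : B a u = 0) (hbu : B b u = 0)
    (hne : b₀ ∉ Submodule.span F {u}) : HasTr h K u := by
  obtain ⟨w, hw, huw, hbw⟩ := exists_sep h hp hu hb₀ hne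
  intro huu s hs
  have hww : B w w = 0 := hp.iso₁ w hw w hw
  have hua : B u a = 0 := h.eq_zero_symm hau
  have hub : B u b = 0 := h.eq_zero_symm hbu
  have hwu : B w u = 0 := h.eq_zero_symm huw
  have haw : B a w = 0 := by
    rw [← hae, map_add, LinearMap.add_apply, huw, hp.iso₁ a₁ ha₁ w hw, add_zero]
  have hwa : B w a = 0 := h.eq_zero_symm haw
  have hbw' : B b w ≠ 0 := by
    rw [← hbe, map_add, LinearMap.add_apply, hp.iso₁ b₁ hb₁ w hw, add_zero]
    exact hbw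
  have hua₁ : B u a₁ = 0 := by
    have e := hua
    rwa [← hae, map_add, hp.iso₀ u hu u hu, zero_add] at e
  have ha₁u : B a₁ u = 0 := h.eq_zero_symm hua₁
  have ha₁a₁ : B a₁ a₁ = 0 := hp.iso₁ a₁ ha₁ a₁ ha₁
  have ha₁a : B a₁ a = 0 := by rw [← hae, map_add, ha₁u, ha₁a₁, add_zero]
  have haa₁ : B a a₁ = 0 := h.eq_zero_symm ha₁a
  obtain ⟨x₀, hx₀⟩ := h.invol.exists_trace_eq (μ := (1 : F)) (map_one σ)
  set c := -(s * x₀) with hc
  set Y := sg h haa hbb hab (B b w)⁻¹ with hY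
  have hYu : (Y : V ≃ₗ[F] V) u = u := by
    rw [hY, sg_apply, hau, hbu, mul_zero, mul_zero, zero_smul, zero_smul, add_zero, sub_zero]
  have hYw : (Y : V ≃ₗ[F] V) w = w + a := by
    rw [hY, sg_apply, haw, inv_mul_cancel₀ hbw', one_smul, mul_zero, zero_smul, sub_zero]
  have hm₁ := hK _ (sg_det h _ _ _ c) (sg_pres h hp hu ha₁ hua₁ c)
  have hX : ∀ c, sg h huu hww huw c ∈ K := fun c => hK _ (sg_det h _ _ _ c) (sg_pres h hp hu hw huw c)
  have hR := K.mul_mem (K.mul_mem (hX c) (K.mul_mem (K.mul_mem (hmem (B b w)⁻¹) (hX (-c))) (K.inv_mem (hmem (B b w)⁻¹))))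
    hm₁
  convert hR using 1
  rw [conj_sg]
  have hs' : s * (x₀ + σ x₀) = s := by rw [hx₀, mul_one]
  ext y
  simp only [Subgroup.coe_mul, LinearEquiv.mul_apply, sg_apply, IsHerm.tr_apply, ← hY, hYu, hYw, map_add, map_sub,
    map_smul, map_neg, LinearMap.add_apply, smul_eq_mul, huu, hww, huw, hwu, hua, hau, hua₁, ha₁u, ha₁a, haa₁, haw, hwa,
    haa, hp.iso₁ a₁ ha₁ w hw, hp.iso₁ w hw a₁ ha₁, ha₁a₁]
  simp only [← hae, map_add, LinearMap.add_apply, hc, map_neg, map_mul, eq_neg_of_add_eq_zero_right hs,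
    eq_sub_of_add_eq' hx₀]
  match_scalars <;> ring

/-- Swapping the vectors of a Siegel element. -/
theorem sg_comm {a b : V} (haa : B a a = 0) (hbb : B b b = 0) (hab : B a b = 0) (d : F) :
    sg h hbb haa (h.eq_zero_symm hab) d = sg h haa hbb hab (-σ d) := by
  ext y
  simp only [sg_apply, map_neg, h.invol.invol]
  match_scalars <;> ring

/-- The images of orthogonal pairs have independent projections or one of them vanishes. -/
theorem no_dependent [Finite F] (hm : 3 ≤ m) (hp : IsPair B m L₀ L₁) {A : Submodule F V}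
    (hA : Module.finrank F A = m) (g : V ≃ₗ[F] V)
    (hdep : ∀ x ∈ L₀, ∀ y ∈ L₁, B x y = 0 → g x ∉ A → ∃ k : F, g y - k • g x ∈ A) :
    ∀ x ∈ L₀, ∀ y ∈ L₁, B x y = 0 → g x ∈ A ∨ g y ∈ A := by
  intro x hx y hy hxy
  by_contra! hc
  let Φ : V →ₗ[F] V ⧸ A := A.mkQ ∘ₗ (g : V →ₗ[F] V)
  have hΦ : ∀ v, Φ v = 0 ↔ g v ∈ A := fun v => Submodule.Quotient.mk_eq_zero A
  have hd : ∀ x ∈ L₀, ∀ y ∈ L₁, B x y = 0 → Φ x ≠ 0 → ∃ k : F, Φ y = k • Φ x := fun x hx y hy hxy h0 => by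
    obtain ⟨k, hk⟩ := hdep x hx y hy hxy fun e => h0 ((hΦ x).2 e)
    refine ⟨k, sub_eq_zero.1 ?_⟩
    rw [← map_smul, ← map_sub, hΦ, map_sub, map_smul]
    exact hk
  have hx0 : Φ x ≠ 0 := fun e => hc.1 ((hΦ x).1 e)
  have hy0 : Φ y ≠ 0 := fun e => hc.2 ((hΦ y).1 e)
  have hQ : Module.finrank F (V ⧸ A) = m := by
    have h1 := Submodule.finrank_quotient_add_finrank A
    have h2 := Submodule.finrank_add_eq_of_isCompl hp.compl
    rw [hA] at h1
    rw [hp.rank₀, hp.rank₁] at h2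
    omega
  have split : ∀ (S : Submodule F V) (f : V →ₗ[F] F), ∃ v₀, ∀ T : Submodule F (V ⧸ A),
      (∀ v ∈ S, f v = 0 → Φ v ∈ T) → S.map Φ ≤ T ⊔ Submodule.span F {v₀} := fun S f => by
    by_cases hS : ∃ s ∈ S, f s ≠ 0
    · obtain ⟨s, hs, hs0⟩ := hS
      refine ⟨Φ s, fun T hT => ?_⟩
      rintro _ ⟨v, hv, rfl⟩
      have h1 := hT (v - (f v / f s) • s) (S.sub_mem hv (S.smul_mem _ hs))
        (by rw [map_sub, map_smul, smul_eq_mul, div_mul_cancel₀ _ hs0, sub_self])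
      rw [show Φ v = Φ (v - (f v / f s) • s) + (f v / f s) • Φ s by rw [map_sub, map_smul, sub_add_cancel]]
      exact Submodule.add_mem_sup h1 (Submodule.smul_mem _ _ (Submodule.mem_span_singleton_self _))
    · push Not at hS
      exact ⟨0, fun T hT => le_trans (by rintro _ ⟨v, hv, rfl⟩; exact hT v hv (hS v hv)) le_sup_left⟩
  have two : ∀ {T : Submodule F (V ⧸ A)} {p q : V ⧸ A}, T ≤ Submodule.span F {p} ⊔ Submodule.span F {q} → T ≠ ⊤ :=
    fun {T p q} hT e => by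
      have h1 := (Submodule.finrank_mono hT).trans (Submodule.finrank_add_le_finrank_add_finrank _ _)
      rw [e, finrank_top, hQ] at h1
      have h2 := finrank_span_le_card (R := F) ({p} : Set (V ⧸ A))
      have h3 := finrank_span_le_card (R := F) ({q} : Set (V ⧸ A))
      simp only [Set.toFinset_singleton, Finset.card_singleton] at h2 h3
      omega
  have hsup : L₀.map Φ ⊔ L₁.map Φ = ⊤ := by
    rw [← Submodule.map_sup, hp.compl.sup_eq_top, Submodule.map_top, LinearMap.range_eq_top]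
    exact A.mkQ_surjective.comp g.surjective
  obtain ⟨v₁, h₁⟩ := split L₁ (B x)
  obtain ⟨v₀, h₀⟩ := split L₀ (B y)
  have hS1 := h₁ (Submodule.span F {Φ x}) fun v hv hxv => by
    obtain ⟨k, hk⟩ := hd x hx v hv hxv hx0
    exact Submodule.mem_span_singleton.2 ⟨k, hk.symm⟩
  have hS0 := h₀ (Submodule.span F {Φ y}) fun v hv hyv => by
    by_cases hv0 : Φ v = 0
    · rw [hv0]; exact Submodule.zero_mem _
    obtain ⟨k, hk⟩ := hd v hv y hy (h.eq_zero_symm hyv) hv0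
    have hk0 : k ≠ 0 := fun e => hy0 (by rw [hk, e, zero_smul])
    exact Submodule.mem_span_singleton.2 ⟨k⁻¹, by rw [hk, inv_smul_smul₀ hk0]⟩
  obtain ⟨x', hx', hx'1⟩ := SetLike.not_le_iff_exists.1 fun hle : L₀.map Φ ≤ L₁.map Φ =>
    two hS1 (by rwa [sup_eq_right.2 hle] at hsup)
  obtain ⟨x', hx'0, rfl⟩ := hx'
  have hne' : Φ x' ≠ 0 := fun e => hx'1 (by rw [e]; exact Submodule.zero_mem _)
  obtain ⟨v₂, h₂⟩ := split L₁ (B x')
  have hS1' := h₂ ⊥ fun v hv hxv => by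
    obtain ⟨k, hk⟩ := hd x' hx'0 v hv hxv hne'
    by_cases hk0 : k = 0
    · rw [hk, hk0, zero_smul]; exact Submodule.zero_mem _
    · exact absurd ⟨k⁻¹ • v, L₁.smul_mem _ hv, by rw [map_smul, hk, inv_smul_smul₀ hk0]⟩ hx'1
  rw [bot_sup_eq] at hS1'
  obtain ⟨k, hk⟩ := Submodule.mem_span_singleton.1 (hS1' ⟨y, hy, rfl⟩)
  have hk0 : k ≠ 0 := fun e => hy0 (by rw [← hk, e, zero_smul])
  refine two (p := Φ y) (q := v₀) ?_ hsup
  refine sup_le hS0 (hS1'.trans (le_trans ?_ le_sup_left))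
  rw [Submodule.span_singleton_le_iff_mem]
  exact Submodule.mem_span_singleton.2 ⟨k⁻¹, by rw [← hk, inv_smul_smul₀ hk0]⟩

set_option maxHeartbeats 800000 in
/-- A transvection centred in `L₀` from a conjugate Siegel element both of whose vectors leave `L₁`. -/
theorem exists_tr [Finite F] (hm : 3 ≤ m) (hp : IsPair B m L₀ L₁)
    {K : Subgroup (HU B)} (hK : ∀ p ∈ HSU B, Pres L₀ L₁ p → p ∈ K) {a b : V} (haa : B a a = 0) (hbb : B b b = 0)
    (hab : B a b = 0) (hmem : ∀ d, sg h haa hbb hab d ∈ K) (ha : a ∉ L₁) (hind : ∀ k : F, b - k • a ∉ L₁) :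
    ∃ u ∈ L₀, u ≠ 0 ∧ HasTr h K u := by
  obtain ⟨a₀, ha₀, a₁, ha₁, hae⟩ := Submodule.mem_sup.1 (hp.compl.sup_eq_top.ge (Submodule.mem_top : a ∈ ⊤))
  obtain ⟨b₀, hb₀, b₁, hb₁, hbe⟩ := Submodule.mem_sup.1 (hp.compl.sup_eq_top.ge (Submodule.mem_top : b ∈ ⊤))
  have ha0 : a₀ ≠ 0 := fun e => ha (by rw [← hae, e, zero_add]; exact ha₁)
  have hb0 : b₀ ≠ 0 := fun e => hind 0 (by rw [zero_smul, sub_zero, ← hbe, e, zero_add]; exact hb₁)
  have hba : b₀ ∉ Submodule.span F {a₀} := fun hh => by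
    obtain ⟨k, hk⟩ := Submodule.mem_span_singleton.1 hh
    exact hind k (by rw [← hbe, ← hae, ← hk, smul_add, add_sub_add_left_eq_sub]; exact L₁.sub_mem hb₁ (L₁.smul_mem _ ha₁))
  let L : L₀ →ₗ[F] F × F := ((B a).domRestrict L₀).prod ((B b).domRestrict L₀)
  obtain ⟨u', hu', hune⟩ := (Submodule.ne_bot_iff _).1 (show LinearMap.ker L ≠ ⊥ from fun hb' => by
    have h1 := LinearMap.finrank_range_add_finrank_ker L
    have h3 := Submodule.finrank_le (LinearMap.range L)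
    rw [Module.finrank_prod, Module.finrank_self] at h3
    rw [hp.rank₀, hb', finrank_bot] at h1
    omega)
  have hu0 : (u' : V) ≠ 0 := fun e => hune (Subtype.ext e)
  have hau : B a (u' : V) = 0 := congrArg Prod.fst (LinearMap.mem_ker.1 hu')
  have hbu : B b (u' : V) = 0 := congrArg Prod.snd (LinearMap.mem_ker.1 hu')
  by_cases hua : (u' : V) ∈ Submodule.span F {a₀}
  · obtain ⟨k, hk⟩ := Submodule.mem_span_singleton.1 hua
    have hk0 : k ≠ 0 := fun e => hu0 (by rw [← hk, e, zero_smul])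
    rw [← hk, map_smul, smul_eq_zero] at hau hbu
    exact ⟨a₀, ha₀, ha0, exists_tr_deg h hp hK haa hbb hab hmem ha₀ ha₁ hb₀ hb₁ hae hbe (hau.resolve_left hk0)
      (hbu.resolve_left hk0) hba⟩
  by_cases hub : (u' : V) ∈ Submodule.span F {b₀}
  · obtain ⟨k, hk⟩ := Submodule.mem_span_singleton.1 hub
    have hk0 : k ≠ 0 := fun e => hu0 (by rw [← hk, e, zero_smul])
    rw [← hk, map_smul, smul_eq_zero] at hau hbu
    refine ⟨b₀, hb₀, hb0, exists_tr_deg h hp hK hbb haa (h.eq_zero_symm hab)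
      (fun d => by rw [sg_comm h haa hbb hab]; exact hmem _) hb₀ hb₁ ha₀ ha₁ hbe hae (hbu.resolve_left hk0)
      (hau.resolve_left hk0) fun hh => hba ?_⟩
    obtain ⟨c, hc⟩ := Submodule.mem_span_singleton.1 hh
    have hc0 : c ≠ 0 := fun e => ha0 (by rw [← hc, e, zero_smul])
    exact Submodule.mem_span_singleton.2 ⟨c⁻¹, by rw [← hc, inv_smul_smul₀ hc0]⟩
  set W := L₁ ⊓ LinearMap.ker (B (u' : V)) with hW
  have hsep : ∀ x ∈ L₀, (u' : V) ∉ Submodule.span F {x} → x ≠ 0 → ¬ W ≤ LinearMap.ker (B x) := by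
    intro x hx hux hx0 hle
    obtain ⟨w₀, hw₀, hw₀'⟩ : ∃ w ∈ L₁, B (u' : V) w ≠ 0 := by
      by_contra! hc
      exact hu0 (eq_zero_of_perp h hp u'.2 hc)
    set k := σ (B x w₀ / B (u' : V) w₀) with hk'
    have hxk : x - k • (u' : V) = 0 := eq_zero_of_perp h hp (L₀.sub_mem hx (L₀.smul_mem _ u'.2)) fun w hw => by
      have hm := hle (show w - (B (u' : V) w / B (u' : V) w₀) • w₀ ∈ W from
        ⟨L₁.sub_mem hw (L₁.smul_mem _ hw₀), by
          show B (u' : V) _ = 0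
          rw [map_sub, map_smul, smul_eq_mul, div_mul_cancel₀ _ hw₀', sub_self]⟩)
      rw [LinearMap.mem_ker, map_sub, map_smul, smul_eq_mul] at hm
      rw [sub_left, smul_left, hk', h.invol.invol]
      linear_combination hm
    rcases eq_or_ne k 0 with hk | hk
    · rw [hk, zero_smul, sub_zero] at hxk
      exact hx0 hxk
    · exact hux (Submodule.mem_span_singleton.2 ⟨k⁻¹, by rw [sub_eq_zero.1 hxk, inv_smul_smul₀ hk]⟩)
  obtain ⟨w, hw, hwa, hwb⟩ := exists_avoid (hsep a₀ ha₀ hua ha0) (hsep b₀ hb₀ hub hb0)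
  have hwu : B (u' : V) w = 0 := hw.2
  have hawne : B a w ≠ 0 := by
    rw [← hae, map_add, LinearMap.add_apply, hp.iso₁ a₁ ha₁ w hw.1, add_zero]
    exact hwa
  have hbwne : B b w ≠ 0 := by
    rw [← hbe, map_add, LinearMap.add_apply, hp.iso₁ b₁ hb₁ w hw.1, add_zero]
    exact hwb
  refine ⟨u', u'.2, hu0, fun huu' s hs => ?_⟩
  set u : V := (u' : V) with huV
  obtain ⟨x₀, hx₀⟩ := h.invol.exists_trace_eq (μ := (1 : F)) (map_one σ)
  -- a scalar with non-zero norm expression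
  obtain ⟨c', hc'⟩ : ∃ c' : F, (1 : F) + c' * σ c' + (1 + c') * σ (1 + c') ≠ 0 := by
    by_cases h2 : (2 : F) = 0
    · refine ⟨x₀, ?_⟩
      rw [map_add, map_one, show (1 : F) + x₀ * σ x₀ + (1 + x₀) * (1 + σ x₀) =
        2 * (1 + x₀ * σ x₀) + (x₀ + σ x₀) by ring, h2, zero_mul, zero_add, hx₀]
      exact one_ne_zero
    · refine ⟨0, ?_⟩
      rw [add_zero, zero_mul, add_zero, map_one, mul_one, one_add_one_eq_two]
      exact h2
  set N := (1 : F) + c' * σ c' + (1 + c') * σ (1 + c') with hN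
  have hNfix : σ N = N := by
    simp only [hN, map_add, map_mul, map_one, h.invol.invol]
    ring
  set κ := B b w * B w a with hκ
  have hκ0 : κ ≠ 0 := mul_ne_zero hbwne fun e => hawne (h.eq_zero_symm e)
  set d := s / N * x₀ / κ with hd
  set Y := sg h haa hbb hab d
  have hww : B w w = 0 := hp.iso₁ w hw.1 w hw.1
  have hX : ∀ c, sg h huu' hww hwu c ∈ K := fun c => hK _ (sg_det h _ _ _ c) (sg_pres h hp u'.2 hw.1 hwu c)
  have hR : ∀ c, sg h huu' hww hwu c * (Y * sg h huu' hww hwu (-c) * Y⁻¹) ∈ K := fun c =>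
    K.mul_mem (hX c) (K.mul_mem (K.mul_mem (hmem d) (hX _)) (K.inv_mem (hmem d)))
  have hmem' := K.mul_mem (K.mul_mem (hR 1) (hR c')) (hR (-(1 + c')))
  convert hmem' using 1
  rw [conj_sg, conj_sg, conj_sg]
  have hua' : B u a = 0 := h.eq_zero_symm hau
  have hub' : B u b = 0 := h.eq_zero_symm hbu
  have hYu : (Y : V ≃ₗ[F] V) u = u := by
    rw [sg_apply, hau, hbu, mul_zero, mul_zero, zero_smul, zero_smul, add_zero, sub_zero]
  set z := (d * B b w) • a - (σ d * B a w) • b with hz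
  have hYw : (Y : V ≃ₗ[F] V) w = w + z := by rw [sg_apply, hz]; abel
  have huz : B u z = 0 := by rw [hz, map_sub, map_smul, map_smul, hua', hub', smul_zero, smul_zero, sub_zero]
  have hzu : B z u = 0 := h.eq_zero_symm huz
  have hzz : B z z = 0 := by
    simp only [hz, sub_left, map_sub, LinearMap.sub_apply, smul_left, smul_right, haa, hbb, hab, h.eq_zero_symm hab]
    ring
  have hx₁ : σ x₀ = 1 - x₀ := by linear_combination hx₀
  have hβ : B w z = s / N := by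
    have e1 : d * κ = s / N * x₀ := div_mul_cancel₀ _ hκ0
    have e2 := congrArg σ e1
    clear_value d N
    rw [map_mul, map_mul σ (s / N), map_div₀, hNfix, hκ, map_mul, h.symm, h.symm, hx₁, eq_neg_of_add_eq_zero_right hs] at e2
    rw [hκ] at e1
    simp only [hz, map_sub, smul_right]
    linear_combination e1 - e2
  have hzw : B z w = -(s / N) := by
    rw [← h.symm, hβ, map_div₀, hNfix, eq_neg_of_add_eq_zero_right hs, neg_div]
  have huwz : B u (w + z) = 0 := by rw [map_add, hwu, huz, add_zero]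
  have hwu' : B w u = 0 := h.eq_zero_symm hwu
  have hNs : N * (s / N) = s := mul_div_cancel₀ _ hc'
  generalize hr : s / N = r at hβ hzw hNs
  ext y
  simp only [Subgroup.coe_mul, LinearEquiv.mul_apply, sg_apply, IsHerm.tr_apply, hYu, hYw, map_add, map_sub,
    map_smul, map_neg, map_one, map_mul, LinearMap.add_apply, smul_eq_mul, huu', hww, hwu, hwu', huz, hzu, hzz, hβ, hzw]
  rw [← hNs, hN]
  simp only [map_add, map_one]
  match_scalars <;> ring

theorem le_of_pair [Finite F] (hm : 3 ≤ m) (hp : IsPair B m L₀ L₁) {K : Subgroup (HU B)}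
    (hK : ∀ p ∈ HSU B, Pres L₀ L₁ p → p ∈ K) {g : HU B} (hgK : g ∈ K) (hg : ¬ Pres L₀ L₁ g) :
    HSU B ≤ K := by
  obtain ⟨sw, hswS, hsw₀, hsw₁⟩ := exists_swap h hp
  have hswK : sw ∈ K := hK sw hswS (Or.inr ⟨hsw₀, hsw₁⟩)
  obtain ⟨u, hu, hu0, hut⟩ : ∃ u ∈ L₀, u ≠ 0 ∧ HasTr h K u := by
    by_contra! hcon
    apply hg
    have hdep : ∀ x ∈ L₀, ∀ y ∈ L₁, B x y = 0 →
        ((g : V ≃ₗ[F] V) x ∉ L₁ → ∃ k : F, (g : V ≃ₗ[F] V) y - k • (g : V ≃ₗ[F] V) x ∈ L₁) ∧
        ((g : V ≃ₗ[F] V) x ∉ L₀ → ∃ k : F, (g : V ≃ₗ[F] V) y - k • (g : V ≃ₗ[F] V) x ∈ L₀) := by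
      intro x hx y hy hxy
      have haa := (HU.map_eq g x x).trans (hp.iso₀ x hx x hx)
      have hbb := (HU.map_eq g y y).trans (hp.iso₁ y hy y hy)
      have hab := (HU.map_eq g x y).trans hxy
      have hmem : ∀ d, sg h haa hbb hab d ∈ K := fun d => by
        rw [← conj_sg h (hp.iso₀ x hx x hx) (hp.iso₁ y hy y hy) hxy d g]
        exact K.mul_mem (K.mul_mem hgK (hK _ (sg_det h _ _ _ _) (sg_pres h hp hx hy hxy d))) (K.inv_mem hgK)
      constructor
      · intro hh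
        by_contra! hd
        obtain ⟨u, hu, hu0, hut⟩ := exists_tr h hm hp hK haa hbb hab hmem hh hd
        exact hcon u hu hu0 hut
      · intro hh
        by_contra! hd
        obtain ⟨u, hu, hu0, hut⟩ := exists_tr h hm hp.symm (fun p hpS hpP => hK p hpS hpP.swap) haa hbb hab hmem
          hh hd
        exact hcon _ (hsw₁ u hu) (by simpa using hu0) (hut.conj h hswK)
    have hno : ∀ x ∈ L₀, ∀ y ∈ L₁, B x y = 0 →
        ((g : V ≃ₗ[F] V) x ∈ L₁ ∨ (g : V ≃ₗ[F] V) y ∈ L₁) ∧ ((g : V ≃ₗ[F] V) x ∈ L₀ ∨ (g : V ≃ₗ[F] V) y ∈ L₀) :=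
      fun x hx y hy hxy => ⟨no_dependent h hm hp hp.rank₁ _ (fun x hx y hy e => (hdep x hx y hy e).1) x hx y hy hxy,
        no_dependent h hm hp hp.rank₀ _ (fun x hx y hy e => (hdep x hx y hy e).2) x hx y hy hxy⟩
    have horth : ∀ (A A' : Submodule F V), IsPair B m A A' → ∀ x ∈ A, ∃ y ∈ A', y ≠ 0 ∧ B x y = 0 := by
      intro A A' hp x hx
      let L : A' →ₗ[F] F := (B x).domRestrict A'
      have h1 := LinearMap.finrank_range_add_finrank_ker L
      have h3 := Submodule.finrank_le (LinearMap.range L)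
      rw [Module.finrank_self] at h3
      rw [hp.rank₁] at h1
      obtain ⟨y, hy, hy0⟩ := (Submodule.ne_bot_iff _).1 (show LinearMap.ker L ≠ ⊥ from fun hb => by
        rw [hb, finrank_bot] at h1; omega)
      exact ⟨y, y.2, fun e => hy0 (Subtype.ext e), hy⟩
    have hnb : ∀ z, z ∈ L₀ → z ∈ L₁ → z = 0 := fun z => Submodule.disjoint_def.1 hp.compl.disjoint z
    have hinj : ∀ z, (g : V ≃ₗ[F] V) z ∈ L₀ → (g : V ≃ₗ[F] V) z ∈ L₁ → z = 0 := fun z h0 h1 =>
      (g : V ≃ₗ[F] V).injective ((hnb _ h0 h1).trans (map_zero _).symm)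
    have hpure : ∀ z, (z ∈ L₀ ∨ z ∈ L₁) → (g : V ≃ₗ[F] V) z ∈ L₀ ∨ (g : V ≃ₗ[F] V) z ∈ L₁ := by
      rintro z (hz | hz)
      · obtain ⟨y, hy, hy0, hzy⟩ := horth L₀ L₁ hp z hz
        obtain ⟨h1, h2'⟩ := hno z hz y hy hzy
        rcases h1 with h1 | h1
        · exact Or.inr h1
        · rcases h2' with h2' | h2'
          · exact Or.inl h2'
          · exact absurd (hinj y h2' h1) hy0
      · obtain ⟨y, hy, hy0, hzy⟩ := horth L₁ L₀ hp.symm z hz
        obtain ⟨h1, h2'⟩ := hno y hy z hz (h.eq_zero_symm hzy)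
        rcases h1 with h1 | h1
        · rcases h2' with h2' | h2'
          · exact absurd (hinj y h2' h1) hy0
          · exact Or.inl h2'
        · exact Or.inr h1
    have himg : ∀ A : Submodule F V, (∀ z ∈ A, z ∈ L₀ ∨ z ∈ L₁) →
        (∀ z ∈ A, (g : V ≃ₗ[F] V) z ∈ L₀) ∨ ∀ z ∈ A, (g : V ≃ₗ[F] V) z ∈ L₁ := by
      intro A hA'
      by_contra! hh
      obtain ⟨⟨p, hp', hp''⟩, ⟨q, hq, hq'⟩⟩ := hh
      have hp1 := (hpure p (hA' p hp')).resolve_left hp''
      have hq0 := (hpure q (hA' q hq)).resolve_right hq'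
      rcases hpure (p + q) (hA' _ (A.add_mem hp' hq)) with e | e <;> rw [map_add] at e
      · exact hp'' (by simpa using L₀.sub_mem e hq0)
      · exact hq' (by simpa using L₁.sub_mem e hp1)
    have hexcl : ∀ A : Submodule F V, A ≠ ⊤ → (∀ z ∈ L₀, (g : V ≃ₗ[F] V) z ∈ A) →
        (∀ z ∈ L₁, (g : V ≃ₗ[F] V) z ∈ A) → False := by
      intro A hAt hA0 hA1
      refine hAt (eq_top_iff.2 fun v _ => ?_)
      obtain ⟨v', rfl⟩ := (g : V ≃ₗ[F] V).surjective v
      obtain ⟨p, hp', q, hq, rfl⟩ := Submodule.mem_sup.1 (hp.compl.sup_eq_top.ge (Submodule.mem_top : v' ∈ ⊤))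
      rw [map_add]
      exact A.add_mem (hA0 p hp') (hA1 q hq)
    have hne : ∀ A A' : Submodule F V, IsPair B m A A' → A ≠ ⊤ := fun A A' hp e => by
      have h5 := hp.compl.disjoint
      rw [e, top_disjoint] at h5
      have := hp.rank₁
      rw [h5, finrank_bot] at this
      omega
    rcases himg L₀ (fun z hz => Or.inl hz) with e | e <;> rcases himg L₁ (fun z hz => Or.inr hz) with e' | e'
    · exact absurd e' fun e' => hexcl L₀ (hne L₀ L₁ hp) e e'
    · exact Or.inl ⟨e, e'⟩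
    · exact Or.inr ⟨e, e'⟩
    · exact absurd e' fun e' => hexcl L₁ (hne L₁ L₀ hp.symm) e e'
  -- all of `L₀`
  have hL₀ : ∀ x ∈ L₀, HasTr h K x := by
    intro x hx
    by_cases hdep : u ∈ Submodule.span F {x}
    · obtain ⟨k, hk⟩ := Submodule.mem_span_singleton.1 hdep
      have hk0 : k ≠ 0 := fun e => hu0 (by rw [← hk, e, zero_smul])
      refine HasTr.of_smul h hk0 ?_
      rw [hk]
      exact hut
    by_cases hx0 : x = 0
    · subst hx0
      intro hvv c hc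
      convert K.one_mem using 1
      ext y
      simp [IsHerm.tr_apply]
    have hnot : (⟨u, hu⟩ : L₀) ∉ Submodule.span F {(⟨x, hx⟩ : L₀) - ⟨u, hu⟩} := by
      intro hh
      obtain ⟨k, hk⟩ := Submodule.mem_span_singleton.1 hh
      have hk' : k • (x - u) = u := congrArg Subtype.val hk
      rw [smul_sub, sub_eq_iff_eq_add] at hk'
      by_cases hk1 : 1 + k = 0
      · rw [show u + k • u = (1 + k) • u from by rw [add_smul, one_smul], hk1, zero_smul, smul_eq_zero] at hk'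
        rcases hk' with e | e
        · rw [e, add_zero] at hk1
          exact one_ne_zero hk1
        · exact hx0 e
      · refine hdep (Submodule.mem_span_singleton.2 ⟨(1 + k)⁻¹ * k, ?_⟩)
        rw [mul_smul, hk', show u + k • u = (1 + k) • u from by rw [add_smul, one_smul], inv_smul_smul₀ hk1]
    obtain ⟨ψ, hψ, hψ'⟩ := Submodule.exists_dual_map_eq_bot_of_notMem hnot inferInstance
    have hψ0 : ψ ((⟨x, hx⟩ : L₀) - ⟨u, hu⟩) = 0 :=
      (Submodule.mem_bot F).1 (hψ' ▸ ⟨_, Submodule.mem_span_singleton_self _, rfl⟩)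
    obtain ⟨w, hw⟩ := exists_dual h hp ((ψ ⟨u, hu⟩)⁻¹ • ψ)
    have hwd : B (w : V) (x - u) = 0 := by
      have := hw (⟨x, hx⟩ - ⟨u, hu⟩)
      rwa [LinearMap.smul_apply, hψ0, smul_zero] at this
    have hwu : B (w : V) u = 1 := by
      rw [hw ⟨u, hu⟩, LinearMap.smul_apply, smul_eq_mul, inv_mul_cancel₀ hψ]
    have hxu := L₀.sub_mem hx hu
    have := hut.conj h (hK _ (sg_det h _ _ _ _) (sg_pres h hp hxu w.2 (h.eq_zero_symm hwd) 1))
    rw [sg_apply, hwu, hp.iso₀ _ hxu u hu, mul_one, one_smul, mul_zero, zero_smul, sub_zero, add_sub_cancel] at this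
    exact this
  have hL₁ : ∀ x ∈ L₁, HasTr h K x := by
    intro x hx
    have := (hL₀ _ (hsw₁ x hx)).conj h (K.inv_mem hswK)
    simpa using this
  have hadd : ∀ v w, HasTr h K v → HasTr h K w → B w w = 0 → B v w ≠ 0 → B v w + σ (B v w) = 0 →
      HasTr h K (v + w) := by
    intro v w hv hw hww hne ht
    have hwv : B w v ≠ 0 := fun e => hne (h.eq_zero_symm e)
    have hc : (B w v)⁻¹ + σ (B w v)⁻¹ = 0 := by
      rw [map_inv₀, h.symm, show B w v = σ (B v w) from (h.symm v w).symm, eq_neg_of_add_eq_zero_right ht,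
        inv_neg, neg_add_cancel]
    have := hv.conj h (hw hww _ hc)
    rwa [IsHerm.tr_apply, inv_mul_cancel₀ hwv, one_smul] at this
  refine le_of_hasTr h ?_ fun v hvv c hc => ?_
  · have := Submodule.finrank_add_eq_of_isCompl hp.compl
    rw [hp.rank₀, hp.rank₁] at this
    omega
  obtain ⟨p, hp', q, hq, rfl⟩ := Submodule.mem_sup.1 (hp.compl.sup_eq_top.ge (Submodule.mem_top : v ∈ ⊤))
  have htr : B p q + σ (B p q) = 0 := by
    have e := hvv
    simp only [map_add, LinearMap.add_apply, hp.iso₀ p hp' p hp', hp.iso₁ q hq q hq, zero_add, add_zero] at e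
    rw [← h.symm p q, add_comm] at e
    exact e
  suffices hh : HasTr h K (p + q) from hh hvv c hc
  by_cases hpq : B p q = 0
  · by_cases hp0 : p = 0
    · rw [hp0, zero_add]; exact hL₁ q hq
    obtain ⟨y₀, hy₀, hy₀'⟩ : ∃ y ∈ L₁, B p y ≠ 0 := by
      by_contra! hc'
      exact hp0 (eq_zero_of_perp h hp hp' hc')
    obtain ⟨θ, hθ0, hθ⟩ := h.exists_skew
    set y := (θ / B p y₀) • y₀ with hy_def
    have hy : y ∈ L₁ := L₁.smul_mem _ hy₀
    have hpy : B p y = θ := by rw [hy_def, smul_right, div_mul_cancel₀ _ hy₀']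
    have hqy : q - y ∈ L₁ := L₁.sub_mem hq hy
    have h1 := hadd p y (hL₀ p hp') (hL₁ y hy) (hp.iso₁ y hy y hy) (by rw [hpy]; exact hθ0) (by rw [hpy]; exact hθ)
    have hval : B (p + y) (q - y) = -θ := by
      rw [map_add, LinearMap.add_apply, map_sub, map_sub, hpq, hp.iso₁ y hy q hq, hp.iso₁ y hy y hy, hpy,
        zero_sub, sub_zero, add_zero]
    have h2 := hadd (p + y) (q - y) h1 (hL₁ _ hqy) (hp.iso₁ _ hqy _ hqy) (by rw [hval]; exact neg_ne_zero.2 hθ0)
      (by rw [hval, map_neg, ← neg_add, hθ, neg_zero])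
    rwa [show p + y + (q - y) = p + q by abel] at h2
  · exact hadd p q (hL₀ p hp') (hL₁ q hq) (hp.iso₁ q hq q hq) hpq htr

theorem exists_not_pres [Finite F] (hm : 3 ≤ m) (hp : IsPair B m L₀ L₁) :
    ∃ g ∈ HSU B, ¬ Pres L₀ L₁ g := by
  obtain ⟨θ, hθ0, hθ⟩ := h.exists_skew
  obtain ⟨u, hu, hu0⟩ := (Submodule.ne_bot_iff _).1 (show L₀ ≠ ⊥ from fun hb => by
    have := hp.rank₀
    rw [hb, finrank_bot] at this
    omega)
  obtain ⟨y₀, hy₀, hy₀'⟩ : ∃ y ∈ L₁, B u y ≠ 0 := by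
    by_contra! hc'
    exact hu0 (eq_zero_of_perp h hp hu hc')
  set y := (θ / B u y₀) • y₀ with hy_def
  have hy : y ∈ L₁ := L₁.smul_mem _ hy₀
  have huy : B u y = θ := by rw [hy_def, smul_right, div_mul_cancel₀ _ hy₀']
  have hyu : B y u = σ θ := by rw [← h.symm, huy]
  have hvv : B (u + y) (u + y) = 0 := by
    simp only [map_add, LinearMap.add_apply, hp.iso₀ u hu u hu, hp.iso₁ y hy y hy, huy, hyu]
    linear_combination hθ
  obtain ⟨x, hx, hx0, hyx⟩ : ∃ x ∈ L₀, x ≠ 0 ∧ B y x = 0 := by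
    let L : L₀ →ₗ[F] F := (B y).domRestrict L₀
    have h1 := LinearMap.finrank_range_add_finrank_ker L
    have h3 := Submodule.finrank_le (LinearMap.range L)
    rw [Module.finrank_self] at h3
    rw [hp.rank₀] at h1
    obtain ⟨x, hx, hx0⟩ := (Submodule.ne_bot_iff _).1 (show LinearMap.ker L ≠ ⊥ from fun hb => by
      rw [hb, finrank_bot] at h1; omega)
    exact ⟨x, x.2, fun e => hx0 (Subtype.ext e), hx⟩
  refine ⟨h.tr hvv hθ, h.det_tr hvv hθ, fun hP => ?_⟩
  have hfx : (h.tr hvv hθ : V ≃ₗ[F] V) x = x := h.tr_fix hvv hθ (by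
    rw [map_add, LinearMap.add_apply, hp.iso₀ u hu x hx, hyx, add_zero])
  have himg : (h.tr hvv hθ : V ≃ₗ[F] V) u = u + (θ * σ θ) • (u + y) := by
    rw [IsHerm.tr_apply, map_add, LinearMap.add_apply, hp.iso₀ u hu u hu, hyu, zero_add]
  rcases hP with ⟨e, -⟩ | ⟨e, -⟩
  · have := e u hu
    rw [himg, L₀.add_mem_iff_right hu, L₀.smul_mem_iff (mul_ne_zero hθ0 fun e => hθ0 (IsInvol.apply_eq_zero_iff.1 e)),
      L₀.add_mem_iff_right hu] at this
    rw [hp.iso₀ u hu y this] at huy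
    exact hθ0 huy.symm
  · have := e x hx
    rw [hfx] at this
    exact hx0 (Submodule.disjoint_def.1 hp.compl.disjoint x hx this)

end CfsgLib.Geo.UnitPair

namespace CfsgLib.Geo.UnitPair

open Matrix CfsgLib.Classical CfsgLib.Classical.Herm

variable {F : Type*} [Field F] [Fintype F] {n q : ℕ}

/-- Matrix form of the maximality of the stabiliser of a totally isotropic pair in SU. -/
theorem isMaximalIn_pair (hF : Fintype.card F = q ^ 2) {k : ℕ} (hk : 3 ≤ k)
    {D : Fin 2 → Submodule F (Fin n → F)} (hD : Cfsg.Geo.IsMDecomposition k D)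
    (hts : ∀ i, Cfsg.Geo.IsTotallySingularFor (Cfsg.hermForm n F q) (D i)) :
    Cfsg.Geo.IsMaximalIn (Cfsg.GU n F q ⊓ Cfsg.Geo.specialLinear (Fin n) F)
      (Cfsg.Geo.decompositionStabilizer D ⊓ (Cfsg.GU n F q ⊓ Cfsg.Geo.specialLinear (Fin n) F)) := by
  have h := hermStd_isHerm (n := n) hF
  have hd := hD.finrank_eq
  have hp : IsPair (hermStd n hF) k (D 0) (D 1) := by
    refine ⟨⟨hD.indep.pairwiseDisjoint (show (0 : Fin 2) ≠ 1 by decide), codisjoint_iff.2 ?_⟩, hd 0, hd 1,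
      fun x hx y hy => hts 0 y hy x hx, fun x hx y hy => hts 1 y hy x hx⟩
    rw [eq_top_iff, ← hD.iSup_eq_top]
    refine iSup_le fun i => ?_
    fin_cases i
    · exact le_sup_left
    · exact le_sup_right
  let e := guEquiv n hF
  have hS : ∀ g : Cfsg.GU n F q, (g : GL (Fin n) F) ∈ Cfsg.Geo.specialLinear (Fin n) F ↔
      e g ∈ HSU (hermStd n hF) := by
    intro g
    rw [MonoidHom.mem_ker, Units.ext_iff]
    show Matrix.GeneralLinearGroup.det (g : GL (Fin n) F) = 1 ↔ _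
    rw [Units.ext_iff, guEquiv_det]
    rfl
  have hin : ∀ g : Cfsg.GU n F q, (g : GL (Fin n) F) ∈
      Cfsg.Geo.decompositionStabilizer D ↔ Pres (D 0) (D 1) (e g) := by
    intro g
    constructor
    · rintro ⟨τ, hτ⟩
      have hmaps : ∀ i, ∀ x ∈ D i, (e g : (Fin n → F) ≃ₗ[F] (Fin n → F)) x ∈ D (τ i) :=
        fun i x hx => by rw [guEquiv_apply, ← hτ i]; exact ⟨x, hx, Matrix.toLin'_apply _ _⟩
      have h01 : τ 0 ≠ τ 1 := fun h => by simpa using τ.injective h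
      obtain ⟨a, ha⟩ : ∃ a, τ 0 = a := ⟨_, rfl⟩
      obtain ⟨c, hc⟩ : ∃ c, τ 1 = c := ⟨_, rfl⟩
      fin_cases a <;> fin_cases c <;> simp only [Fin.zero_eta, Fin.mk_one] at ha hc
      · exact absurd (ha.trans hc.symm) h01
      · exact Or.inl ⟨fun x hx => ha ▸ hmaps 0 x hx, fun x hx => hc ▸ hmaps 1 x hx⟩
      · exact Or.inr ⟨fun x hx => ha ▸ hmaps 0 x hx, fun x hx => hc ▸ hmaps 1 x hx⟩
      · exact absurd (ha.trans hc.symm) h01
    · intro hP
      have hinj : Function.Injective (Matrix.toLin' ((g : GL (Fin n) F) : Matrix (Fin n) (Fin n) F)) := fun x y hxy =>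
        (e g : (Fin n → F) ≃ₗ[F] (Fin n → F)).injective (by
          rw [guEquiv_apply, guEquiv_apply]
          simpa only [Matrix.toLin'_apply] using hxy)
      have hmap : ∀ i j, (∀ x ∈ D i, (e g : (Fin n → F) ≃ₗ[F] (Fin n → F)) x ∈ D j) →
          (D i).map (Matrix.toLin' ((g : GL (Fin n) F) : Matrix (Fin n) (Fin n) F)) = D j := fun i j hij => by
        refine Submodule.eq_of_le_of_finrank_eq ?_ ?_
        · rintro _ ⟨x, hx, rfl⟩
          rw [Matrix.toLin'_apply, ← guEquiv_apply hF]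
          exact hij x hx
        · rw [hd, ← (Submodule.equivMapOfInjective _ hinj _).finrank_eq, hd]
      rcases hP with ⟨h0, h1⟩ | ⟨h0, h1⟩
      · exact ⟨1, fun i => hmap i _ (by fin_cases i <;> assumption)⟩
      · exact ⟨Equiv.swap 0 1, fun i => hmap i _ (by fin_cases i <;> simpa using (by assumption))⟩
  refine ⟨lt_of_le_of_ne inf_le_right fun heq => ?_, fun M hM hMS => ?_⟩
  · obtain ⟨t, htS, htP⟩ := exists_not_pres h hk hp
    obtain ⟨g, rfl⟩ := e.surjective t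
    exact htP ((hin g).1 (heq.ge ⟨g.2, (hS g).2 htS⟩).1)
  refine (eq_or_lt_of_le hM).imp Eq.symm fun hlt => le_antisymm hMS ?_
  obtain ⟨g, hgM, hgn⟩ := SetLike.exists_of_lt hlt
  have hfull := le_of_pair h hk hp (K := (M.subgroupOf (Cfsg.GU n F q)).map e.toMonoidHom)
    (fun p hpS hpp => ⟨e.symm p, hM ⟨(hin _).2 (by rw [MulEquiv.apply_symm_apply]; exact hpp), (e.symm p).2,
      (hS _).2 (by rw [MulEquiv.apply_symm_apply]; exact hpS)⟩, MulEquiv.apply_symm_apply e p⟩)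
    (g := e ⟨g, (hMS hgM).1⟩) ⟨⟨g, (hMS hgM).1⟩, hgM, rfl⟩
    (fun hpp => hgn ⟨(hin ⟨g, (hMS hgM).1⟩).2 hpp, hMS hgM⟩)
  intro x hx
  obtain ⟨y, hy, hye⟩ := hfull ((hS ⟨x, hx.1⟩).1 hx.2)
  have : y = ⟨x, hx.1⟩ := e.injective hye
  subst this
  exact hy

end CfsgLib.Geo.UnitPair
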