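/-
Singer subgroups: the multiplicative group of an extension field inside the group of linear automorphisms.
-/
import Mathlib

namespace CfsgLib.Geo

variable (F K : Type*) [Field F] [Field K] [Algebra F K]

/-- The multiplication maps by non-zero elements of K. -/
abbrev singerHom : Kˣ →* (Module.End F K)ˣ :=
  Units.map ((Algebra.lmul F K : K →ₐ[F] Module.End F K) : K →* Module.End F K)

variable {F K}

theorem singerHom_apply (a : Kˣ) (x : K) : ((singerHom F K a : (Module.End F K)ˣ) : Module.End F K) x = a * x := rfl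

theorem singerHom_injective : Function.Injective (singerHom F K) := by
  intro a b h
  apply Units.ext
  have := congrArg (fun f : (Module.End F K)ˣ => (f : Module.End F K) 1) h
  simpa [singerHom_apply] using this

/-- An endomorphism commuting with all multiplications is a multiplication. -/
theorem apply_eq_mul_of_commute (f : Module.End F K) (h : ∀ (a : Kˣ) (x : K), f (a * x) = a * f x) (x : K) :
    f x = f 1 * x := by
  rcases eq_or_ne x 0 with rfl | hx
  · simp
  · have := h (Units.mk0 x hx) 1
    simp only [Units.val_mk0, mul_one] at this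
    rw [this, mul_comm]

theorem centralizer_singer :
    Subgroup.centralizer ((singerHom F K).range : Set (Module.End F K)ˣ) = (singerHom F K).range := by
  refine le_antisymm (fun g hg => ?_) ?_
  · have hc : ∀ (a : Kˣ) (x : K), (g : Module.End F K) (a * x) = a * (g : Module.End F K) x := by
      intro a x
      have := Subgroup.mem_centralizer_iff.1 hg _ ⟨a, rfl⟩
      exact (congrArg (fun f : (Module.End F K)ˣ => (f : Module.End F K) x) this).symm
    have h1 := apply_eq_mul_of_commute _ hc
    have hne : (g : Module.End F K) 1 ≠ 0 := by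
      intro h0
      have h2 := h1 (((g⁻¹ : (Module.End F K)ˣ) : Module.End F K) 1)
      rw [h0, zero_mul, ← Module.End.mul_apply, ← Units.val_mul, mul_inv_cancel] at h2
      exact one_ne_zero h2
    exact ⟨Units.mk0 _ hne, Units.ext (LinearMap.ext fun x => (h1 x).symm)⟩
  · rintro _ ⟨a, rfl⟩
    refine Subgroup.mem_centralizer_iff.2 ?_
    rintro _ ⟨b, rfl⟩
    rw [← map_mul, mul_comm, map_mul]

/-- The unit given by an F-algebra automorphism of K. -/
def autUnit (φ : K ≃ₐ[F] K) : (Module.End F K)ˣ where
  val := φ.toLinearMap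
  inv := φ.symm.toLinearMap
  val_inv := LinearMap.ext fun x => φ.apply_symm_apply x
  inv_val := LinearMap.ext fun x => φ.symm_apply_apply x

theorem autUnit_conj (φ : K ≃ₐ[F] K) (a : Kˣ) :
    autUnit φ * singerHom F K a * (autUnit φ)⁻¹ = singerHom F K (Units.map (φ : K →* K) a) := by
  rw [mul_inv_eq_iff_eq_mul]
  refine Units.ext (LinearMap.ext fun x => ?_)
  show φ (a * x) = φ a * φ x
  exact map_mul φ _ _

theorem autUnit_mem_normalizer (φ : K ≃ₐ[F] K) :
    autUnit φ ∈ Subgroup.normalizer ((singerHom F K).range : Set (Module.End F K)ˣ) := by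
  rw [Subgroup.mem_normalizer_iff]
  intro h
  constructor
  · rintro ⟨a, rfl⟩
    exact ⟨_, (autUnit_conj φ a).symm⟩
  · rintro ⟨b, hb⟩
    refine ⟨Units.map (φ.symm : K →* K) b, ?_⟩
    have hb' : h = (autUnit φ)⁻¹ * singerHom F K b * autUnit φ := by rw [hb]; group
    rw [hb', ← autUnit_conj φ.symm b]
    rfl

theorem card_normalizer_singer [Finite F] [Fintype K] :
    Nat.card (Subgroup.normalizer ((singerHom F K).range : Set (Module.End F K)ˣ)) =
      Module.finrank F K * (Fintype.card K - 1) := by
  haveI := Fintype.ofFinite F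
  let N := Subgroup.normalizer ((singerHom F K).range : Set (Module.End F K)ˣ)
  let m : Kˣ × (K ≃ₐ[F] K) → N := fun x =>
    ⟨singerHom F K x.1 * autUnit x.2, N.mul_mem (Subgroup.le_normalizer ⟨x.1, rfl⟩) (autUnit_mem_normalizer x.2)⟩
  have hm : Function.Bijective m := by
    constructor
    · rintro ⟨a, φ⟩ ⟨b, ψ⟩ h
      have h' : ∀ x, (a : K) * φ x = b * ψ x := fun x =>
        congrArg (fun f : (Module.End F K)ˣ => (f : Module.End F K) x) (Subtype.ext_iff.1 h)
      have hab : a = b := Units.ext (by simpa using h' 1)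
      subst hab
      have : φ = ψ := AlgEquiv.ext fun x => mul_left_cancel₀ a.ne_zero (h' x)
      subst this
      rfl
    · rintro ⟨g, hg⟩
      have hconj : ∀ a : Kˣ, ∃ b : Kˣ, singerHom F K b * g = g * singerHom F K a := by
        intro a
        obtain ⟨b, hb⟩ := (Subgroup.mem_normalizer_iff.1 hg _).1 ⟨a, rfl⟩
        exact ⟨b, by rw [hb]; group⟩
      choose σ hσ using hconj
      have hg1 : (g : Module.End F K) 1 ≠ 0 := fun h => by
        have h2 := congrArg ((g⁻¹ : (Module.End F K)ˣ) : Module.End F K) h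
        rw [map_zero, ← Module.End.mul_apply, ← Units.val_mul, inv_mul_cancel] at h2
        exact one_ne_zero h2
      set c := (g : Module.End F K) 1 with hc
      let φl : K →ₗ[F] K := (Algebra.lmul F K c⁻¹).comp (g : Module.End F K)
      have hφl : ∀ x, φl x = c⁻¹ * (g : Module.End F K) x := fun x => rfl
      have key : ∀ (a : Kˣ) (x : K), (g : Module.End F K) (a * x) = (σ a : K) * (g : Module.End F K) x := fun a x =>
        (congrArg (fun f : (Module.End F K)ˣ => (f : Module.End F K) x) (hσ a)).symm
      have hσc : ∀ a : Kˣ, (σ a : K) = φl a := fun a => by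
        have := key a 1
        rw [mul_one] at this
        rw [hφl, this, ← hc]
        field_simp
      have hmul : ∀ x y, φl (x * y) = φl x * φl y := by
        intro x y
        rcases eq_or_ne x 0 with rfl | hx
        · simp
        · rw [← Units.val_mk0 hx, ← hσc, hφl, key, hφl]
          ring
      let φ : K →ₐ[F] K := AlgHom.ofLinearMap φl (by rw [hφl, ← hc, inv_mul_cancel₀ hg1]) hmul
      let φe : K ≃ₐ[F] K := AlgEquiv.ofBijective φ
        (Finite.injective_iff_bijective.1 (φ : K →+* K).injective)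
      refine ⟨(Units.mk0 c hg1, φe), Subtype.ext (Units.ext (LinearMap.ext fun x => ?_))⟩
      show c * φl x = (g : Module.End F K) x
      rw [hφl, ← mul_assoc, mul_inv_cancel₀ hg1, one_mul]
  rw [show Nat.card (Subgroup.normalizer ((singerHom F K).range : Set (Module.End F K)ˣ)) = Nat.card N from rfl,
    ← Nat.card_eq_of_bijective m hm, Nat.card_prod, IsGalois.card_aut_eq_finrank, Nat.card_units,
    Nat.card_eq_fintype_card, mul_comm]

theorem singer_inter_conj_card [Fintype F] [Fintype K] (g : (Module.End F K)ˣ)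
    (hg : (singerHom F K).range.map (MulAut.conj g).toMonoidHom ≠ (singerHom F K).range) :
    ∃ r : ℕ, 1 ≤ r ∧ r ∣ Module.finrank F K ∧ r < Module.finrank F K ∧
      Nat.card ↥((singerHom F K).range.map (MulAut.conj g).toMonoidHom ⊓ (singerHom F K).range) =
        Fintype.card F ^ r - 1 := by
  classical
  let A : Subalgebra F (Module.End F K) :=
    (Algebra.lmul F K).range.map
      ({ toFun := fun f => (g : Module.End F K) * f * ((g⁻¹ : (Module.End F K)ˣ) : Module.End F K)
         map_one' := by simp
         map_mul' := fun a b => by simp [mul_assoc]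
         map_zero' := by simp
         map_add' := fun a b => by rw [mul_add, add_mul]
         commutes' := fun c => by rw [← Algebra.commutes, mul_assoc, Units.mul_inv, mul_one] } :
        Module.End F K →ₐ[F] Module.End F K)
  let E : Subalgebra F K := A.comap (Algebra.lmul F K)
  let E' : IntermediateField F K :=
    E.toIntermediateField' (Subalgebra.isField_of_algebraic E)
  have hE : ∀ a : Kˣ, singerHom F K a ∈ (singerHom F K).range.map (MulAut.conj g).toMonoidHom ↔ (a : K) ∈ E' := by
    intro a
    constructor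
    · rintro ⟨_, ⟨b, rfl⟩, hb⟩
      exact ⟨Algebra.lmul F K b, ⟨b, rfl⟩, congrArg Units.val hb⟩
    · rintro ⟨_, ⟨b, rfl⟩, hb⟩
      have hb0 : b ≠ 0 := by
        rintro rfl
        have h2 : Algebra.lmul F K (a : K) = 0 := by refine hb.symm.trans ?_; simp
        exact a.ne_zero (by simpa using LinearMap.congr_fun h2 1)
      exact ⟨singerHom F K (Units.mk0 b hb0), ⟨_, rfl⟩, Units.ext hb⟩
  have hcard : Nat.card ↥((singerHom F K).range.map (MulAut.conj g).toMonoidHom ⊓ (singerHom F K).range) =
      Nat.card E'ˣ := by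
    refine (Nat.card_eq_of_bijective (fun u : E'ˣ => (⟨singerHom F K (Units.map (E'.val : E' →* K) u),
      (hE _).2 (u : E').2, ⟨_, rfl⟩⟩ : ↥((singerHom F K).range.map (MulAut.conj g).toMonoidHom ⊓
        (singerHom F K).range))) ⟨fun u v h => ?_, fun s => ?_⟩).symm
    · exact Units.ext (Subtype.ext (congrArg Units.val (singerHom_injective (Subtype.ext_iff.1 h))))
    · obtain ⟨hs1, a, ha⟩ := s.2
      have hmem : (a : K) ∈ E' := (hE a).1 (by rw [ha]; exact hs1)
      refine ⟨Units.mk0 ⟨a, hmem⟩ (fun h => a.ne_zero (congrArg Subtype.val h)), Subtype.ext ?_⟩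
      rw [← ha]
      exact congrArg (singerHom F K) (Units.ext rfl)
  refine ⟨Module.finrank F E', Module.finrank_pos, ?_, ?_, ?_⟩
  · exact Dvd.intro _ (Module.finrank_mul_finrank F E' K)
  · refine lt_of_le_of_ne (Submodule.finrank_le E'.toSubalgebra.toSubmodule) fun heq => hg ?_
    have htop : E'.toSubalgebra.toSubmodule = ⊤ := Submodule.eq_top_of_finrank_eq heq
    have hle : (singerHom F K).range ≤ (singerHom F K).range.map (MulAut.conj g).toMonoidHom := by
      rintro _ ⟨a, rfl⟩
      exact (hE a).2 (htop.ge Submodule.mem_top)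
    haveI : Finite (Module.End F K) := Finite.of_injective (fun f => (f : K → K)) DFunLike.coe_injective
    refine (SetLike.coe_injective (Set.eq_of_subset_of_ncard_le hle ?_ (Set.toFinite _))).symm
    rw [← Nat.card_coe_set_eq, ← Nat.card_coe_set_eq]
    exact le_of_eq (Nat.card_congr (Subgroup.equivMapOfInjective _ _ (MulAut.conj g).injective).toEquiv.symm)
  · rw [hcard, Nat.card_units, Module.natCard_eq_pow_finrank (K := F) (V := E'), Nat.card_eq_fintype_card]

/-- A commutative subalgebra of End V whose elements are fixed by the q^n-power map has a vector with trivial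
annihilator. -/
theorem exists_cyclic_vector {V : Type*} [AddCommGroup V] [Module F V] [Finite V]
    (A : Subalgebra F (Module.End F V)) (hcomm : ∀ a ∈ A, ∀ b ∈ A, a * b = b * a) (Q : ℕ) (hQ : 2 ≤ Q)
    (hpow : ∀ a ∈ A, a ^ Q = a) : ∃ v : V, ∀ a ∈ A, a v = 0 → a = 0 := by
  classical
  haveI : Finite (Module.End F V) := Finite.of_injective (fun f => (f : V → V)) DFunLike.coe_injective
  let ann : V → Set (Module.End F V) := fun v => {a | a ∈ A ∧ a v = 0}
  haveI : Nonempty V := ⟨0⟩
  obtain ⟨v, hv⟩ := Finite.exists_min (fun v => (ann v).ncard)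
  refine ⟨v, fun a ha hav => ?_⟩
  by_contra hne
  obtain ⟨k, rfl⟩ : ∃ k, Q = k + 2 := ⟨Q - 2, by omega⟩
  set e := a ^ (k + 1) with he
  have heA : e ∈ A := A.pow_mem ha _
  have hae : a * e = a := by rw [he, ← pow_succ', hpow a ha]
  have hee : e * e = e := by
    calc e * e = a ^ k * (a * e) := by rw [← mul_assoc, ← pow_succ]
      _ = e := by rw [hae, ← pow_succ]
  have hev : e v = 0 := by rw [he, pow_succ, Module.End.mul_apply, hav, map_zero]
  have he0 : e ≠ 0 := fun h => hne (by rw [← hae, h, mul_zero])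
  obtain ⟨w, hw⟩ : ∃ w, e w ≠ 0 := by
    by_contra! h
    exact he0 (LinearMap.ext h)
  have hsub : ann (v + e w) ⊆ ann v := by
    rintro b ⟨hbA, hb⟩
    refine ⟨hbA, ?_⟩
    rw [map_add] at hb
    have h1 := congrArg e hb
    rw [map_zero, map_add, ← Module.End.mul_apply, ← hcomm b hbA e heA, Module.End.mul_apply, hev, map_zero,
      zero_add, ← Module.End.mul_apply e b, ← hcomm b hbA e heA, Module.End.mul_apply, ← Module.End.mul_apply e e,
      hee] at h1
    rwa [h1, add_zero] at hb
  have heq := Set.eq_of_subset_of_ncard_le hsub (hv _) (Set.toFinite _)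
  have h2 : e ∈ ann (v + e w) := heq.ge ⟨heA, hev⟩
  apply hw
  have h3 := h2.2
  rwa [map_add, hev, zero_add, ← Module.End.mul_apply, hee] at h3

theorem exists_conj_singer_of_card [Fintype F] [Fintype K] (U : Subgroup (Module.End F K)ˣ) (hU : IsMulCommutative U)
    (hcard : Nat.card U = Fintype.card K - 1) :
    ∃ g : (Module.End F K)ˣ, U.map (MulAut.conj g).toMonoidHom = (singerHom F K).range := by
  classical
  haveI : Finite (Module.End F K) := Finite.of_injective (fun f => (f : K → K)) DFunLike.coe_injective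
  let S : Set (Module.End F K) := (fun u : (Module.End F K)ˣ => (u : Module.End F K)) '' (U : Set _)
  let A := Algebra.adjoin F S
  have hScomm : ∀ a ∈ S, ∀ b ∈ S, a * b = b * a := by
    rintro _ ⟨u, hu, rfl⟩ _ ⟨w, hw, rfl⟩
    exact congrArg (fun t : U => ((t : (Module.End F K)ˣ) : Module.End F K)) (hU.is_comm.comm ⟨u, hu⟩ ⟨w, hw⟩)
  letI : CommRing A := Algebra.adjoinCommRingOfComm F hScomm
  obtain ⟨p, hp⟩ := CharP.exists F
  haveI hpF : Fact p.Prime := ⟨CharP.char_is_prime F p⟩
  obtain ⟨f, -, hf⟩ := FiniteField.card F p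
  set Q := Fintype.card K with hQ
  have hQF : Q = Fintype.card F ^ Module.finrank F K := Module.card_eq_pow_finrank
  have hQ2 : 2 ≤ Q := Fintype.one_lt_card
  have hpow : ∀ a ∈ A, a ^ Q = a := by
    intro a ha
    have hcomm : ∀ x ∈ A, ∀ y ∈ A, x * y = y * x := fun x hx y hy =>
      congrArg Subtype.val (mul_comm (⟨x, hx⟩ : A) ⟨y, hy⟩)
    induction ha using Algebra.adjoin_induction with
    | mem x hx =>
      obtain ⟨u, hu, rfl⟩ := hx
      have h1 : (⟨u, hu⟩ : U) ^ (Q - 1) = 1 := hcard ▸ pow_card_eq_one'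
      have h2 : (u : Module.End F K) ^ (Q - 1) = 1 :=
        congrArg (fun t : U => ((t : (Module.End F K)ˣ) : Module.End F K)) h1
      show (u : Module.End F K) ^ Q = u
      rw [show Q = Q - 1 + 1 by omega, pow_succ, h2, one_mul]
    | algebraMap c => rw [← map_pow, hQF, FiniteField.pow_card_pow]
    | add x y hx hy ihx ihy =>
      haveI : CharP (Module.End F K) p :=
        charP_of_injective_algebraMap (algebraMap F (Module.End F K)).injective p
      rw [hQF, hf, ← pow_mul, add_pow_char_pow_of_commute _ _ (hcomm x hx y hy), pow_mul, ← hf, ← hQF, ihx, ihy]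
    | mul x y hx hy ihx ihy => rw [Commute.mul_pow (hcomm x hx y hy), ihx, ihy]
  have hcomm : ∀ x ∈ A, ∀ y ∈ A, x * y = y * x := fun x hx y hy =>
    congrArg Subtype.val (mul_comm (⟨x, hx⟩ : A) ⟨y, hy⟩)
  obtain ⟨v, hv⟩ := exists_cyclic_vector A hcomm Q hQ2 hpow
  let ev : A →ₗ[F] K :=
    { toFun := fun a => (a : Module.End F K) v
      map_add' := fun a b => rfl
      map_smul' := fun c a => rfl }
  have hev : Function.Injective ev := by
    rw [injective_iff_map_eq_zero]
    exact fun a ha => Subtype.ext (hv a a.2 ha)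
  have hAcard : Nat.card A ≤ Q := (Nat.card_le_card_of_injective ev hev).trans Nat.card_eq_fintype_card.le
  -- every non-zero element of A comes from U
  let j : U → {a : A // a ≠ 0} := fun u =>
    ⟨⟨((u : (Module.End F K)ˣ) : Module.End F K), Algebra.subset_adjoin ⟨u, u.2, rfl⟩⟩,
      fun h => (u : (Module.End F K)ˣ).ne_zero (congrArg Subtype.val h)⟩
  have hj : Function.Injective j := fun a b h =>
    Subtype.ext (Units.ext (congrArg Subtype.val (Subtype.ext_iff.1 h)))
  have hA0 : Nat.card {a : A // a ≠ 0} = Nat.card A - 1 := by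
    haveI := Fintype.ofFinite A
    rw [Nat.card_eq_fintype_card, Fintype.card_subtype_compl, Fintype.card_subtype_eq, Nat.card_eq_fintype_card]
  have hUA := Nat.card_le_card_of_injective j hj
  have hA1 : 1 ≤ Nat.card A := Nat.card_pos
  have hjb : Function.Bijective j :=
    hj.bijective_of_nat_card_le (by omega)
  have hfield : IsField A :=
    { exists_pair_ne := ⟨0, 1, fun h => zero_ne_one (α := Module.End F K) (congrArg Subtype.val h)⟩
      mul_comm := mul_comm
      mul_inv_cancel := fun {a} ha => by
        obtain ⟨u, hu⟩ := hjb.2 ⟨a, ha⟩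
        refine ⟨(j u⁻¹).1, Subtype.ext ?_⟩
        rw [show a = (j u).1 from (congrArg Subtype.val hu).symm]
        exact Units.mul_inv (u : (Module.End F K)ˣ) }
  letI : Field A := hfield.toField
  have hcardA : Nat.card A = Q := by omega
  have hevb : Function.Bijective ev := hev.bijective_of_nat_card_le (by
    rw [Nat.card_eq_fintype_card, hcardA])
  have hfin : Module.finrank F K = Module.finrank F A :=
    (LinearEquiv.ofBijective ev hevb).finrank_eq.symm
  obtain ⟨ψ⟩ := FiniteField.nonempty_algHom_of_finrank_dvd (K := K) (L := A) (dvd_of_eq hfin)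
  have hψ : Function.Bijective ψ := (ψ : K →+* A).injective.bijective_of_nat_card_le (by
    rw [Nat.card_eq_fintype_card (α := K), hcardA])
  let e : K ≃ₗ[F] K := LinearEquiv.ofBijective (ev.comp ψ.toLinearMap) (hevb.comp hψ)
  let g : (Module.End F K)ˣ := LinearMap.GeneralLinearGroup.ofLinearEquiv e
  have hg : ∀ a x : K, (g : Module.End F K) (a * x) = (ψ a : Module.End F K) ((g : Module.End F K) x) := fun a x => by
    show ev (ψ (a * x)) = (ψ a : Module.End F K) (ev (ψ x))
    rw [map_mul]
    rfl
  refine ⟨g⁻¹, le_antisymm ?_ ?_⟩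
  · rintro _ ⟨u, hu, rfl⟩
    obtain ⟨a, ha⟩ := hψ.2 (j ⟨u, hu⟩).1
    have ha0 : a ≠ 0 := fun h => (j ⟨u, hu⟩).2 (by rw [← ha, h, map_zero])
    refine ⟨Units.mk0 a ha0, ?_⟩
    rw [MulEquiv.coe_toMonoidHom, MulAut.conj_apply, inv_inv, mul_assoc, eq_inv_mul_iff_mul_eq]
    refine Units.ext (LinearMap.ext fun x => ?_)
    show (g : Module.End F K) (a * x) = (u : Module.End F K) ((g : Module.End F K) x)
    rw [hg, ha]
  · rintro _ ⟨a, rfl⟩
    have hne : ψ (a : K) ≠ 0 := fun h => a.ne_zero (hψ.1 (h.trans (map_zero ψ).symm))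
    obtain ⟨u, hu⟩ := hjb.2 ⟨ψ a, hne⟩
    refine ⟨u, u.2, ?_⟩
    rw [MulEquiv.coe_toMonoidHom, MulAut.conj_apply, inv_inv, mul_assoc, inv_mul_eq_iff_eq_mul]
    refine Units.ext (LinearMap.ext fun x => ?_)
    show ((u : (Module.End F K)ˣ) : Module.End F K) ((g : Module.End F K) x) = (g : Module.End F K) (a * x)
    rw [hg, show (ψ (a : K) : Module.End F K) = ((u : (Module.End F K)ˣ) : Module.End F K) from
      (congrArg (fun t : {a : A // a ≠ 0} => (t.1 : Module.End F K)) hu).symm]

end CfsgLib.Geo
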