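import Mathlib
import Cfsg.Prelude.Def_GeometricClasses
import Cfsg.Agent.Lib.Geo.InvolutionClasses
import Cfsg.Agent.Lib.Geo.OrderThreeSinger

/-!
# Elements of prime order `n` of `SL(n)` and normalisers of Singer cycles
-/

set_option autoImplicit false

namespace CfsgLib.Geo.SingerPrime

open Module Matrix Polynomial

variable {F : Type*} [Field F] [Fintype F] {p : ℕ} [Fact p.Prime] [CharP F p] {n : ℕ} [Fact n.Prime] [NeZero n]

theorem mulVec_pow_card_modEq (A : Matrix (Fin n) (Fin n) F) (hA : A ^ n = 1) :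
    Fintype.card F ^ n ≡ Nat.card {v : Fin n → F // A *ᵥ v = v} [MOD n] := by
  classical
  let f : Function.End (Fin n → F) := fun v => A *ᵥ v
  have hpow : ∀ (k : ℕ) v, (f ^ k) v = (A ^ k) *ᵥ v := by
    intro k
    induction k with
    | zero => intro v; rw [pow_zero, pow_zero, Matrix.one_mulVec]; rfl
    | succ k ih =>
      intro v
      rw [pow_succ', pow_succ', ← Matrix.mulVec_mulVec, ← ih]
      rfl
  have hf : f ^ n ^ 1 = 1 := funext fun v => by rw [pow_one, hpow, hA, Matrix.one_mulVec]; rfl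
  have h := Equiv.Perm.card_fixedPoints_modEq hf
  rw [Fintype.card_fun, Fintype.card_fin] at h
  convert h using 2
  rw [Nat.card_eq_fintype_card]
  exact Fintype.card_congr (Equiv.refl _)

/-- An element of order `n` has a cyclic vector when `q` has order `n - 1` modulo `n`. -/
theorem exists_cyclic (hnp : n ≠ p) (hi : orderOf (Fintype.card F : ZMod n) = n - 1) (hn2 : 2 < n)
    (A : Matrix (Fin n) (Fin n) F) (hA : A ^ n = 1) (hA1 : A ≠ 1) :
    ∃ b : Basis (Fin n) F (Fin n → F), ∀ i : Fin n, A *ᵥ b i = b (i + 1) := by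
  classical
  have hnp' : p.Coprime n := (Nat.coprime_primes Fact.out Fact.out).2 (Ne.symm hnp)
  have hnF : (n : F) ≠ 0 := fun h => hnp ((Nat.prime_dvd_prime_iff_eq Fact.out Fact.out).1
    ((CharP.cast_eq_zero_iff F p n).1 h)).symm
  obtain ⟨f, -, hf⟩ := FiniteField.card F p
  set Φ := cyclotomic n F with hΦ
  have hdeg : Φ.natDegree = n - 1 := by rw [hΦ, natDegree_cyclotomic, Nat.totient_prime Fact.out]
  have hirr : Irreducible Φ := by
    refine irreducible_of_dvd_cyclotomic_of_natDegree hf hnp' dvd_rfl ?_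
    rw [← orderOf_units, ZMod.coe_unitOfCoprime, ← hf, hi, hdeg]
  have hprod : Φ * (X - 1) = X ^ n - 1 := cyclotomic_prime_mul_X_sub_one F n
  obtain ⟨v₁, hv₁⟩ : ∃ v, A *ᵥ v ≠ v := by
    by_contra hcon
    push Not at hcon
    exact hA1 (Matrix.toLin'.injective (LinearMap.ext fun v => by
      rw [Matrix.toLin'_apply, hcon, Matrix.toLin'_one, LinearMap.id_apply]))
  obtain ⟨v₀, hv₀, hv₀0⟩ : ∃ v, A *ᵥ v = v ∧ v ≠ 0 := by
    by_contra hcon
    push Not at hcon
    have h := mulVec_pow_card_modEq A hA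
    haveI : Subsingleton {v : Fin n → F // A *ᵥ v = v} :=
      ⟨fun a b => Subtype.ext ((hcon _ a.2).trans (hcon _ b.2).symm)⟩
    haveI : Nonempty {v : Fin n → F // A *ᵥ v = v} := ⟨⟨0, Matrix.mulVec_zero _⟩⟩
    rw [Nat.card_unique, ← ZMod.natCast_eq_natCast_iff, Nat.cast_pow, Nat.cast_one, ZMod.pow_card] at h
    rw [h, orderOf_one] at hi
    omega
  have hfix : aeval A Φ *ᵥ v₀ = (n : F) • v₀ := by
    rw [hΦ, cyclotomic_prime F n, map_sum, Matrix.sum_mulVec]
    have : ∀ i, aeval A ((X : F[X]) ^ i) *ᵥ v₀ = v₀ := fun i => by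
      induction i with
      | zero => simp
      | succ i ih => rw [pow_succ, map_mul, ← Matrix.mulVec_mulVec, aeval_X, hv₀, ih]
    rw [Finset.sum_congr rfl fun i _ => this i, Finset.sum_const, Finset.card_range, Nat.cast_smul_eq_nsmul]
  obtain ⟨v, hv1, hvΦ⟩ : ∃ v, A *ᵥ v ≠ v ∧ aeval A Φ *ᵥ v ≠ 0 := by
    by_cases h : aeval A Φ *ᵥ v₁ = 0
    · refine ⟨v₁ + v₀, fun e => hv₁ ?_, ?_⟩
      · rw [Matrix.mulVec_add, hv₀] at e
        exact add_right_cancel e
      · rw [Matrix.mulVec_add, h, zero_add, hfix]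
        exact smul_ne_zero hnF hv₀0
    · exact ⟨v₁, hv₁, h⟩
  have hli : LinearIndependent F fun i : Fin n => (A ^ (i : ℕ)) *ᵥ v := by
    rw [Fintype.linearIndependent_iff]
    intro c hc
    set g : F[X] := ∑ i : Fin n, C (c i) * X ^ (i : ℕ) with hg
    have hgv : aeval A g *ᵥ v = 0 := by
      rw [hg, map_sum, Matrix.sum_mulVec, ← hc]
      refine Finset.sum_congr rfl fun i _ => ?_
      rw [map_mul, map_pow, aeval_C, aeval_X, ← Algebra.smul_def, Matrix.smul_mulVec]
    have hgdeg : g.natDegree ≤ n - 1 := natDegree_sum_le_of_forall_le _ _ fun i _ =>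
      (natDegree_C_mul_X_pow_le _ _).trans (by omega)
    suffices hg0 : g = 0 by
      intro i
      have h := congrArg (fun P : F[X] => P.coeff (i : ℕ)) hg0
      simpa [hg, finsetSum_coeff, coeff_C_mul, coeff_X_pow, Fin.val_inj] using h
    by_contra hg0
    by_cases hdvd : Φ ∣ g
    · obtain ⟨u, hu'⟩ : Φ ∣ g := hdvd
      rw [hu'] at hgdeg hgv hg0
      have hu0 : u ≠ 0 := fun h => hg0 (by rw [h, mul_zero])
      have hu : u.natDegree = 0 := by
        rw [natDegree_mul hirr.ne_zero hu0, hdeg] at hgdeg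
        omega
      obtain ⟨a, rfl⟩ := natDegree_eq_zero.1 hu
      refine hvΦ ?_
      rw [mul_comm, map_mul, aeval_C, ← Algebra.smul_def, Matrix.smul_mulVec] at hgv
      exact (smul_eq_zero.1 hgv).resolve_left fun h => hu0 (by rw [h, map_zero])
    · obtain ⟨a, b, hab⟩ := (hirr.coprime_iff_not_dvd.2 hdvd)
      refine hv1 (sub_eq_zero.1 ?_)
      have h1 : (X - 1 : F[X]) = a * (X ^ n - 1) + (X - 1) * b * g := by
        rw [← hprod]
        linear_combination -(X - 1 : F[X]) * hab
      have h2 := congrArg (fun P : F[X] => aeval A P *ᵥ v) h1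
      simp only [map_sub, map_add, map_mul, aeval_X, map_one, map_pow, hA, sub_self, mul_zero, zero_add,
        Matrix.sub_mulVec, Matrix.one_mulVec] at h2
      rw [h2, ← Matrix.mulVec_mulVec, hgv, Matrix.mulVec_zero]
  refine ⟨basisOfLinearIndependentOfCardEqFinrank hli (by simp), fun i => ?_⟩
  simp only [coe_basisOfLinearIndependentOfCardEqFinrank]
  rw [Matrix.mulVec_mulVec, ← pow_succ']
  congr 1
  rw [Fin.val_add, Fin.val_one', Nat.add_mod_mod]
  conv_lhs => rw [← Nat.mod_add_div ((i : ℕ) + 1) n, pow_add, pow_mul, hA, one_pow, mul_one]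

theorem exists_conj (hnp : n ≠ p) (hi : orderOf (Fintype.card F : ZMod n) = n - 1) (hn2 : 2 < n)
    (A B : Matrix (Fin n) (Fin n) F) (hA : A ^ n = 1) (hA1 : A ≠ 1) (hB : B ^ n = 1) (hB1 : B ≠ 1) :
    ∃ P : GL (Fin n) F, (P : Matrix (Fin n) (Fin n) F) * B = A * (P : Matrix (Fin n) (Fin n) F) := by
  obtain ⟨a, ha⟩ := exists_cyclic hnp hi hn2 A hA hA1
  obtain ⟨b, hb⟩ := exists_cyclic hnp hi hn2 B hB hB1
  obtain ⟨P, hP⟩ := InvClass.exists_basis_change b a
  refine ⟨P, Matrix.toLin'.injective (b.ext fun i => ?_)⟩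
  rw [Matrix.toLin'_apply, Matrix.toLin'_apply, ← Matrix.mulVec_mulVec, ← Matrix.mulVec_mulVec, hb, hP, hP, ha]

theorem field_data (K : Subalgebra F (Matrix (Fin n) (Fin n) F)) (hK : Cfsg.Geo.IsFieldSubalgebra n K) :
    (∃ Y : GL (Fin n) F, Y ∈ Cfsg.Geo.subalgebraNormalizer K ∧ Y ^ n = 1 ∧ Y ≠ 1) ∧
    (∀ d : F, d ≠ 0 → ∃ h : GL (Fin n) F, h ∈ Cfsg.Geo.subalgebraNormalizer K ∧
      (h : Matrix (Fin n) (Fin n) F).det = d) ∧
    (∀ g : GL (Fin n) F, g ∈ Cfsg.Geo.subalgebraNormalizer K → g ^ n = 1 →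
      (∀ c : F, (g : Matrix (Fin n) (Fin n) F) ≠ c • 1) →
      ∀ (c : F) (w w' : Fin n → F), w ≠ 0 → (g : Matrix (Fin n) (Fin n) F) *ᵥ w = c • w →
        (g : Matrix (Fin n) (Fin n) F) *ᵥ w' = c • w' → ∃ d : F, w' = d • w) := by
  classical
  letI : CommRing K := { (inferInstance : Ring K) with mul_comm := fun a b => Subtype.ext (hK.comm a a.2 b b.2) }
  haveI : Nontrivial K := inferInstance
  have hfield : IsField K := by
    refine ⟨exists_pair_ne K, mul_comm, fun {a} ha => ?_⟩
    obtain ⟨y, hy, hxy⟩ := hK.inv a a.2 (fun h => ha (Subtype.ext h))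
    exact ⟨⟨y, hy⟩, Subtype.ext hxy⟩
  letI : Field K := hfield.toField
  haveI : Fintype K := Fintype.ofFinite K
  have hfr : finrank F K = n := hK.finrank_eq
  have hprime : n.Prime := Fact.out
  set q := Fintype.card F with hq
  have hcardK : Fintype.card K = q ^ n := by rw [Module.card_eq_pow_finrank (K := F) (V := K), hfr]
  let i0 : Fin n := 0
  let e1 : K →ₗ[F] (Fin n → F) :=
    { toFun := fun k => (k : Matrix (Fin n) (Fin n) F) *ᵥ Pi.single i0 1
      map_add' := fun a b => Matrix.add_mulVec (a : Matrix (Fin n) (Fin n) F) (b : Matrix (Fin n) (Fin n) F) _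
      map_smul' := fun c a => Matrix.smul_mulVec c (a : Matrix (Fin n) (Fin n) F) _ }
  have he1 : Function.Injective e1 := by
    rw [injective_iff_map_eq_zero]
    intro k hk
    by_contra h
    have h2 := congrArg (((k⁻¹ : K) : Matrix (Fin n) (Fin n) F) *ᵥ ·)
      (show (k : Matrix (Fin n) (Fin n) F) *ᵥ Pi.single i0 1 = 0 from hk)
    simp only [Matrix.mulVec_mulVec, Matrix.mulVec_zero] at h2
    rw [show ((k⁻¹ : K) : Matrix (Fin n) (Fin n) F) * (k : Matrix (Fin n) (Fin n) F) = 1 from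
      congrArg Subtype.val (inv_mul_cancel₀ h), Matrix.one_mulVec] at h2
    simp at h2
  let e : K ≃ₗ[F] (Fin n → F) := LinearEquiv.ofBijective e1
    ⟨he1, (LinearMap.injective_iff_surjective_of_finrank_eq_finrank (by rw [hfr, finrank_pi, Fintype.card_fin])).1 he1⟩
  have hmul : ∀ a b : K, e (a * b) = (a : Matrix (Fin n) (Fin n) F) *ᵥ e b := fun a b => by
    show ((a : Matrix (Fin n) (Fin n) F) * (b : Matrix (Fin n) (Fin n) F)) *ᵥ Pi.single i0 1 = _
    rw [← Matrix.mulVec_mulVec]
    rfl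
  have hext : ∀ M M' : Matrix (Fin n) (Fin n) F, (∀ k, M *ᵥ e k = M' *ᵥ e k) → M = M' := fun M M' h =>
    Matrix.toLin'.injective (LinearMap.ext fun v => by
      obtain ⟨k, rfl⟩ := e.surjective v
      simpa [Matrix.toLin'_apply] using h k)
  have hcard : ∀ u : K, u ^ q ^ n = u := fun u => by rw [← hcardK, FiniteField.pow_card]
  refine ⟨?_, ?_, ?_⟩
  · let σ : K →ₐ[F] K := FiniteField.frobeniusAlgHom F K
    let Ym : Matrix (Fin n) (Fin n) F := LinearMap.toMatrix' (e.toLinearMap ∘ₗ σ.toLinearMap ∘ₗ e.symm.toLinearMap)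
    have hY : ∀ k, Ym *ᵥ e k = e (k ^ q) := fun k => by
      rw [← Matrix.toLin'_apply, Matrix.toLin'_toMatrix']
      simp [σ, hq]
    have hYk : ∀ (j : ℕ) (k : K), (Ym ^ j) *ᵥ e k = e (k ^ q ^ j) := by
      intro j
      induction j with
      | zero => intro k; simp
      | succ j ih =>
        intro k
        rw [pow_succ, ← Matrix.mulVec_mulVec, hY, ih, ← pow_mul, pow_succ']
    have hYn : Ym ^ n = 1 := hext _ _ fun k => by rw [hYk, hcard, Matrix.one_mulVec]
    let Y : GL (Fin n) F := Units.ofPowEqOne Ym n hYn hprime.ne_zero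
    have hYv : (Y : Matrix (Fin n) (Fin n) F) = Ym := rfl
    have hYn' : Y ^ n = 1 := Units.ext (by rw [Units.val_pow_eq_pow_val, hYv, hYn, Units.val_one])
    have hrel : ∀ (j : ℕ) (k : K), Ym ^ j * (k : Matrix (Fin n) (Fin n) F) =
        ((k ^ q ^ j : K) : Matrix (Fin n) (Fin n) F) * Ym ^ j := fun j k =>
      hext _ _ fun l => by
        rw [← Matrix.mulVec_mulVec, ← Matrix.mulVec_mulVec, ← hmul, hYk, hYk, ← hmul, mul_pow]
    refine ⟨Y, fun k => ⟨fun hk => ?_, fun h => ?_⟩, hYn', fun hY1 => ?_⟩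
    · have h := hrel 1 ⟨k, hk⟩
      rw [pow_one, ← hYv] at h
      rw [h, mul_assoc, ← Units.val_mul, mul_inv_cancel, Units.val_one, mul_one]
      exact Subtype.coe_prop _
    · set j := n - 1 with hj
      have hYj : Y ^ j = Y⁻¹ := by
        rw [eq_inv_iff_mul_eq_one, ← pow_succ, show j + 1 = n by have := hprime.pos; omega, hYn']
      have h2 := hrel j ⟨_, h⟩
      rw [← hYv, ← Units.val_pow_eq_pow_val, hYj] at h2
      have h3 : k = ((⟨_, h⟩ : K) ^ q ^ j : K) := by
        have := congrArg (· * (Y : Matrix (Fin n) (Fin n) F)) h2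
        simp only [mul_assoc, Units.inv_mul, Units.inv_mul_cancel_left, mul_one] at this
        simpa only [mul_assoc] using this
      rw [h3]
      exact Subtype.coe_prop _
    · have hall : ∀ u : K, ∃ c : F, algebraMap F K c = u := fun u => ThreeSinger.pow_eq_self_mem_range (by
        have h := hY u
        rw [← hYv, hY1, Units.val_one, Matrix.one_mulVec] at h
        exact (e.injective h).symm)
      have hle : Fintype.card K ≤ q := Fintype.card_le_of_surjective (algebraMap F K) hall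
      rw [hcardK] at hle
      have : q < q ^ n := by
        calc q = q ^ 1 := (pow_one q).symm
          _ < q ^ n := Nat.pow_lt_pow_right Fintype.one_lt_card hprime.one_lt
      omega
  · intro d hd
    obtain ⟨k, hk⟩ := FiniteField.norm_surjective F K d
    have hdet : (k : Matrix (Fin n) (Fin n) F).det = d := by
      rw [← LinearMap.det_toLin', ← hk, Algebra.norm_apply,
        show Matrix.toLin' (k : Matrix (Fin n) (Fin n) F) = e.toLinearMap ∘ₗ Algebra.lmul F K k ∘ₗ e.symm.toLinearMap from ?_,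
        LinearMap.det_conj]
      refine LinearMap.ext fun v => ?_
      obtain ⟨l, rfl⟩ := e.surjective v
      simp [hmul]
    let g : GL (Fin n) F := Matrix.GeneralLinearGroup.mkOfDetNeZero (k : Matrix (Fin n) (Fin n) F) (hdet ▸ hd)
    have hcom : ∀ l ∈ K, (g : Matrix (Fin n) (Fin n) F) * l * ((g⁻¹ : GL (Fin n) F) : Matrix (Fin n) (Fin n) F) = l :=
      fun l hl => by
        rw [show (g : Matrix (Fin n) (Fin n) F) * l = l * (g : Matrix (Fin n) (Fin n) F) from hK.comm _ k.2 _ hl,
          mul_assoc, ← Units.val_mul, mul_inv_cancel, Units.val_one, mul_one]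
    refine ⟨g, fun l => ⟨fun hl => by rw [hcom l hl]; exact hl, fun h => ?_⟩, hdet⟩
    set gi := ((g⁻¹ : GL (Fin n) F) : Matrix (Fin n) (Fin n) F) with hgi
    have e2 := hK.comm _ k.2 _ h
    rw [show (k : Matrix (Fin n) (Fin n) F) = (g : Matrix (Fin n) (Fin n) F) from rfl] at e2
    have e3 := congrArg (gi * ·) e2
    simp only [hgi, mul_assoc, ← Units.val_mul, inv_mul_cancel, Units.val_one, mul_one] at e3
    simp only [← mul_assoc, ← Units.val_mul, inv_mul_cancel, Units.val_one, one_mul] at e3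
    have e4 : l = (g : Matrix (Fin n) (Fin n) F) * l * gi := by
      rw [hgi, mul_assoc]
      simpa [mul_assoc] using e3.symm
    rw [e4]
    exact h
  · intro g hg hgn hns c w w' hw hgw hgw'
    set gm := (g : Matrix (Fin n) (Fin n) F) with hgm
    let S : Subalgebra F K := (Subalgebra.centralizer F {gm}).comap K.val
    have hSmem : ∀ k : K, k ∈ S ↔ gm * (k : Matrix (Fin n) (Fin n) F) = (k : Matrix (Fin n) (Fin n) F) * gm :=
      fun k => by simp [S, Subalgebra.mem_centralizer_iff]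
    rcases (Subalgebra.isSimpleOrder_of_finrank_prime F K (hfr.symm ▸ hprime)).eq_bot_or_eq_top S with hS | hS
    · obtain ⟨a, rfl⟩ := e.surjective w
      obtain ⟨b, rfl⟩ := e.surjective w'
      have ha : a ≠ 0 := fun h => hw (by rw [h, map_zero])
      set k : K := b / a with hk
      have hba : e b = (k : Matrix (Fin n) (Fin n) F) *ᵥ e a := by rw [← hmul, hk, div_mul_cancel₀ _ ha]
      set s : K := ⟨_, (hg k).1 k.2⟩ with hs
      have hgk : gm * (k : Matrix (Fin n) (Fin n) F) = (s : Matrix (Fin n) (Fin n) F) * gm := by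
        rw [hs, hgm]
        simp only [mul_assoc, ← Units.val_mul, inv_mul_cancel, Units.val_one, mul_one]
      have h1 : gm *ᵥ e b = c • ((s : Matrix (Fin n) (Fin n) F) *ᵥ e a) := by
        rw [hba, Matrix.mulVec_mulVec, hgk, ← Matrix.mulVec_mulVec, hgw, Matrix.mulVec_smul]
      have hc : c ≠ 0 := by
        rintro rfl
        rw [zero_smul] at hgw
        have := congrArg (((g⁻¹ : GL (Fin n) F) : Matrix (Fin n) (Fin n) F) *ᵥ ·) hgw
        simp only [Matrix.mulVec_mulVec, hgm, ← Units.val_mul, inv_mul_cancel, Units.val_one, Matrix.one_mulVec,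
          Matrix.mulVec_zero] at this
        exact hw this
      rw [hgw', ← hmul] at h1
      have h2 : b = s * a := e.injective (smul_right_injective _ hc h1)
      have hks : k = s := by rw [hk, h2, mul_div_assoc, div_self ha, mul_one]
      have hmem : k ∈ S := (hSmem k).2 (by rw [hgk, ← hks])
      rw [hS, Algebra.mem_bot] at hmem
      obtain ⟨d, hd⟩ := hmem
      refine ⟨d, ?_⟩
      rw [hba, ← hd]
      simp [Algebra.algebraMap_eq_smul_one, Matrix.smul_mulVec]
    · exfalso
      set k₀ := e.symm (gm *ᵥ e 1) with hk₀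
      have hgk0 : gm = (k₀ : Matrix (Fin n) (Fin n) F) := hext _ _ fun b => by
        have hb := (hSmem b).1 (hS ▸ Algebra.mem_top)
        rw [← hmul, mul_comm k₀ b, hmul, hk₀, e.apply_symm_apply, Matrix.mulVec_mulVec, ← hb, ← Matrix.mulVec_mulVec,
          ← hmul, mul_one]
      have hk0n : k₀ ^ n = 1 := Subtype.ext (by
        rw [SubmonoidClass.coe_pow, ← hgk0, hgm, ← Units.val_pow_eq_pow_val, hgn]
        rfl)
      have hmod : q ^ n ≡ q [MOD n] := by rw [← ZMod.natCast_eq_natCast_iff, Nat.cast_pow, ZMod.pow_card]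
      obtain ⟨d, hd⟩ := ThreeSinger.pow_eq_self_mem_range (F := F) (u := k₀)
        ((pow_eq_pow_of_modEq hmod hk0n).symm.trans (hcard k₀))
      refine hns d ?_
      rw [hgk0, ← hd]
      simp [Algebra.algebraMap_eq_smul_one]

theorem exists_bad (hnp : n ≠ p) (hn3 : 3 < n) (hi : orderOf (Fintype.card F : ZMod n) ≠ n - 1) :
    ∃ x : Matrix.SpecialLinearGroup (Fin n) F, x ^ n = 1 ∧
      (∀ z : F, (x : Matrix (Fin n) (Fin n) F) ≠ z • 1) ∧
      ∃ i j : Fin n, i ≠ j ∧ (x : Matrix (Fin n) (Fin n) F) *ᵥ Pi.single i 1 = Pi.single i 1 ∧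
        (x : Matrix (Fin n) (Fin n) F) *ᵥ Pi.single j 1 = Pi.single j 1 := by
  classical
  obtain ⟨f, -, hf⟩ := FiniteField.card F p
  set q := Fintype.card F with hq
  have hq0 : (q : ZMod n) ≠ 0 := fun h0 => by
    have hdvd : n ∣ q := (ZMod.natCast_eq_zero_iff _ _).1 h0
    rw [hf] at hdvd
    exact hnp ((Nat.prime_dvd_prime_iff_eq Fact.out Fact.out).1 ((Fact.out : n.Prime).dvd_of_dvd_pow hdvd))
  by_cases hq1 : n ∣ q - 1
  · obtain ⟨ζ, hζ⟩ := exists_prime_orderOf_dvd_card' (G := Fˣ) n (by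
      rw [Nat.card_units, Nat.card_eq_fintype_card]; exact hq1)
    have hζn : (ζ : F) ^ n = 1 := by rw [← Units.val_pow_eq_pow_val, ← hζ, pow_orderOf_eq_one, Units.val_one]
    let a : Fin n := ⟨0, by omega⟩
    let b : Fin n := ⟨1, by omega⟩
    let i : Fin n := ⟨2, by omega⟩
    let j : Fin n := ⟨3, hn3⟩
    have hab : a ≠ b := by simp [a, b, Fin.ext_iff]
    let d : Fin n → F := fun l => if l = a then (ζ : F) else if l = b then (ζ : F)⁻¹ else 1
    have hdet : (Matrix.diagonal d).det = 1 := by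
      rw [Matrix.det_diagonal, Finset.prod_eq_mul a b hab (fun l _ hl => by simp [d, hl.1, hl.2])
        (fun h => absurd (Finset.mem_univ _) h) (fun h => absurd (Finset.mem_univ _) h)]
      simp [d, hab.symm]
    refine ⟨⟨Matrix.diagonal d, hdet⟩, Subtype.ext ?_, fun z hz => ?_, i, j, by simp [i, j, Fin.ext_iff], ?_, ?_⟩
    · show (Matrix.diagonal d) ^ n = 1
      rw [Matrix.diagonal_pow, ← Matrix.diagonal_one]
      congr 1
      funext l
      simp only [Pi.pow_apply, d]
      split_ifs <;> simp [hζn, inv_pow]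
    · have h1 := congrFun (congrFun hz a) a
      have h2 := congrFun (congrFun hz i) i
      simp [d] at h1 h2
      rw [if_neg (by simp [i, a, Fin.ext_iff]), if_neg (by simp [i, b, Fin.ext_iff])] at h2
      rw [← h2, Units.val_eq_one] at h1
      rw [h1, orderOf_one] at hζ
      omega
    · show Matrix.diagonal d *ᵥ _ = _
      funext l
      rw [Matrix.mulVec_diagonal]
      rcases eq_or_ne l i with rfl | h
      · simp only [d]
        rw [if_neg (Fin.ne_of_val_ne (by simp [i, a])), if_neg (Fin.ne_of_val_ne (by simp [i, b])), one_mul]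
      · rw [Pi.single_eq_of_ne h, mul_zero]
    · show Matrix.diagonal d *ᵥ _ = _
      funext l
      rw [Matrix.mulVec_diagonal]
      rcases eq_or_ne l j with rfl | h
      · simp only [d]
        rw [if_neg (Fin.ne_of_val_ne (by simp [j, a])), if_neg (Fin.ne_of_val_ne (by simp [j, b])), one_mul]
      · rw [Pi.single_eq_of_ne h, mul_zero]
  · set i₀ := orderOf (q : ZMod n) with hi₀
    have hdvd : i₀ ∣ n - 1 := ZMod.orderOf_dvd_card_sub_one hq0
    have hi0 : 0 < i₀ := by
      rcases Nat.eq_zero_or_pos i₀ with h | h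
      · rw [h, zero_dvd_iff] at hdvd; omega
      · exact h
    have hile : i₀ ≤ n - 2 := by
      have := Nat.le_of_dvd (by omega) hdvd
      omega
    obtain ⟨m, hm⟩ : ∃ m, n = m + 2 := ⟨n - 2, by omega⟩
    have hcard : n ∣ Nat.card (GL (Fin m) F) := by
      rw [Matrix.card_GL_field]
      refine dvd_trans ?_ (Finset.dvd_prod_of_mem _ (Finset.mem_univ (⟨m - i₀, by omega⟩ : Fin m)))
      rw [← ZMod.natCast_eq_zero_iff, Nat.cast_sub (Nat.pow_le_pow_right Fintype.card_pos (Nat.sub_le _ _)),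
        Nat.cast_pow, Nat.cast_pow]
      show (q : ZMod n) ^ m - (q : ZMod n) ^ (m - i₀) = 0
      conv_lhs => rw [show m = (m - i₀) + i₀ by omega, pow_add, hi₀, pow_orderOf_eq_one, mul_one]
      simp [hi₀]
    obtain ⟨A, hA⟩ := exists_prime_orderOf_dvd_card' n hcard
    have hAn : ((A : Matrix (Fin m) (Fin m) F)) ^ n = 1 := by
      rw [← Units.val_pow_eq_pow_val, ← hA, pow_orderOf_eq_one, Units.val_one]
    let e : Fin m ⊕ Fin 2 ≃ Fin n := finSumFinEquiv.trans (finCongr hm.symm)
    let M : Matrix (Fin n) (Fin n) F := Matrix.reindexAlgEquiv F F e (Matrix.fromBlocks (A : Matrix (Fin m) (Fin m) F) 0 0 1)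
    have hpow : ∀ k : ℕ, Matrix.fromBlocks (A : Matrix (Fin m) (Fin m) F) 0 0 (1 : Matrix (Fin 2) (Fin 2) F) ^ k =
        Matrix.fromBlocks ((A : Matrix (Fin m) (Fin m) F) ^ k) 0 0 1 := fun k => by
      induction k with
      | zero => simp [Matrix.fromBlocks_one]
      | succ k ih => rw [pow_succ, ih, Matrix.fromBlocks_multiply]; simp [pow_succ]
    have hMn : M ^ n = 1 := by rw [← map_pow, hpow, hAn, Matrix.fromBlocks_one, map_one]
    have hdet : M.det = 1 := by
      have h1 : M.det ^ n = 1 := by rw [← Matrix.det_pow, hMn, Matrix.det_one]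
      by_contra hne
      have hu : IsUnit M.det := IsUnit.of_pow_eq_one h1 (by omega)
      have hord : orderOf hu.unit = n := orderOf_eq_prime (Units.ext (by simpa using h1)) fun h => hne (by
        rw [← hu.unit_spec, h, Units.val_one])
      have h3 := orderOf_dvd_natCard hu.unit
      rw [hord, Nat.card_units, Nat.card_eq_fintype_card] at h3
      exact hq1 h3
    have hMapply : ∀ s t : Fin m ⊕ Fin 2, M (e s) (e t) =
        Matrix.fromBlocks (A : Matrix (Fin m) (Fin m) F) 0 0 1 s t := fun s t => by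
      simp [M, Matrix.reindexAlgEquiv_apply, Matrix.reindex_apply]
    have hfix : ∀ u : Fin 2, M *ᵥ Pi.single (e (Sum.inr u)) 1 = Pi.single (e (Sum.inr u)) 1 := fun u => by
      funext l
      obtain ⟨s, rfl⟩ := e.surjective l
      rw [Matrix.mulVec_single_one, Matrix.col_apply, hMapply]
      rcases s with s | s <;> simp [Pi.single_apply, Matrix.one_apply, e.injective.eq_iff]
    refine ⟨⟨M, hdet⟩, Subtype.ext hMn, fun z hz => ?_, e (Sum.inr 0), e (Sum.inr 1),
      fun h => by simpa using e.injective h, hfix 0, hfix 1⟩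
    change M = z • 1 at hz
    have hz1 : z = 1 := by
      have h := congrFun (congrFun hz (e (Sum.inr 0))) (e (Sum.inr 0))
      rw [hMapply] at h
      simpa using h.symm
    rw [hz1, one_smul] at hz
    have hA1 : A = 1 := Units.ext (Matrix.ext fun s t => by
      have h := congrFun (congrFun hz (e (Sum.inl s))) (e (Sum.inl t))
      rw [hMapply] at h
      simpa [Matrix.one_apply, e.injective.eq_iff] using h)
    rw [hA1, orderOf_one] at hA
    omega

/-- Elements of order `n` and the normaliser of a Singer cycle. -/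
theorem main (hnp : n ≠ p) (hn3 : 3 < n) (K : Subalgebra F (Matrix (Fin n) (Fin n) F))
    (hK : Cfsg.Geo.IsFieldSubalgebra n K) :
    (∀ x : Matrix.SpecialLinearGroup (Fin n) F,
      (∃ z : F, ((x ^ n : Matrix.SpecialLinearGroup (Fin n) F) : Matrix (Fin n) (Fin n) F) = z • (1 : Matrix (Fin n) (Fin n) F)) →
      (∀ z : F, (x : Matrix (Fin n) (Fin n) F) ≠ z • (1 : Matrix (Fin n) (Fin n) F)) →
      ∃ P : Matrix.SpecialLinearGroup (Fin n) F, P⁻¹ * x * P ∈ (Cfsg.Geo.subalgebraNormalizer K).comap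
        (Matrix.SpecialLinearGroup.toGL : Matrix.SpecialLinearGroup (Fin n) F →* GL (Fin n) F)) ↔
    orderOf (Fintype.card F : ZMod n) = n - 1 := by
  classical
  obtain ⟨⟨Y, hY, hYn, hY1⟩, hdetsurj, heig⟩ := field_data K hK
  constructor
  · intro hall
    by_contra hi
    obtain ⟨x, hx, hns, i, j, hij, hfi, hfj⟩ := exists_bad hnp hn3 hi
    obtain ⟨P, hP⟩ := hall x ⟨1, by rw [hx, one_smul]; rfl⟩ hns
    rw [Subgroup.mem_comap] at hP
    set g := Matrix.SpecialLinearGroup.toGL (P⁻¹ * x * P) with hg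
    have hconj : (P⁻¹ * x * P) ^ n = 1 := by
      have h := conj_pow (i := n) (a := P⁻¹) (b := x)
      rw [inv_inv, hx, mul_one, inv_mul_cancel] at h
      exact h
    have hgn : g ^ n = 1 := by rw [hg, ← map_pow, hconj, map_one]
    set Pi' : Matrix (Fin n) (Fin n) F := ((P⁻¹ : Matrix.SpecialLinearGroup (Fin n) F) : Matrix (Fin n) (Fin n) F)
      with hPi
    have h1 : (P : Matrix (Fin n) (Fin n) F) * Pi' = 1 := by
      rw [hPi, ← Matrix.SpecialLinearGroup.coe_mul, mul_inv_cancel]; rfl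
    have hgm : (g : Matrix (Fin n) (Fin n) F) = Pi' * (x : Matrix (Fin n) (Fin n) F) * (P : Matrix (Fin n) (Fin n) F) := by
      rw [hg, hPi]; rfl
    have hgns : ∀ c : F, (g : Matrix (Fin n) (Fin n) F) ≠ c • 1 := fun c hc => hns c (by
      rw [hgm] at hc
      have h2 := congrArg (fun M => (P : Matrix (Fin n) (Fin n) F) * M * Pi') hc
      simp only [mul_assoc, mul_smul_comm, smul_mul_assoc, one_mul, h1, mul_one] at h2
      rw [← mul_assoc, h1, one_mul] at h2
      exact h2)
    have hfix : ∀ v, (x : Matrix (Fin n) (Fin n) F) *ᵥ v = v → (g : Matrix (Fin n) (Fin n) F) *ᵥ (Pi' *ᵥ v) =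
        (1 : F) • (Pi' *ᵥ v) := fun v hv => by
      rw [hgm, Matrix.mulVec_mulVec, mul_assoc, h1, mul_one, ← Matrix.mulVec_mulVec, hv, one_smul]
    obtain ⟨d, hd⟩ := heig g hP hgn hgns 1 (Pi' *ᵥ Pi.single i 1) (Pi' *ᵥ Pi.single j 1) (fun h => by
        have h2 := congrArg ((P : Matrix (Fin n) (Fin n) F) *ᵥ ·) h
        simp only [Matrix.mulVec_mulVec, h1, Matrix.one_mulVec, Matrix.mulVec_zero] at h2
        simp at h2) (hfix _ hfi) (hfix _ hfj)
    have h2 := congrArg ((P : Matrix (Fin n) (Fin n) F) *ᵥ ·) hd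
    simp only [Matrix.mulVec_smul, Matrix.mulVec_mulVec, h1, Matrix.one_mulVec] at h2
    have h3 := congrFun h2 j
    simp [hij.symm] at h3
  · intro hi x ⟨z, hz⟩ hns
    have hz1 : z = 1 := by
      have h := congrArg Matrix.det hz
      rw [Matrix.SpecialLinearGroup.det_coe, Matrix.det_smul, Fintype.card_fin, Matrix.det_one, mul_one] at h
      by_contra hne
      have hu : IsUnit z := IsUnit.of_pow_eq_one h.symm (by omega)
      have hord : orderOf hu.unit = n := orderOf_eq_prime (Units.ext (by simpa using h.symm)) fun h => hne (by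
        rw [← hu.unit_spec, h, Units.val_one])
      have h3 := orderOf_dvd_natCard hu.unit
      rw [hord, Nat.card_units, Nat.card_eq_fintype_card, ← ZMod.natCast_eq_zero_iff,
        Nat.cast_sub Fintype.card_pos, Nat.cast_one, sub_eq_zero] at h3
      rw [h3, orderOf_one] at hi
      omega
    rw [hz1, one_smul, Matrix.SpecialLinearGroup.coe_pow] at hz
    obtain ⟨P, hP⟩ := exists_conj hnp hi (by omega) (x : Matrix (Fin n) (Fin n) F) (Y : Matrix (Fin n) (Fin n) F) hz
      (fun h => hns 1 (by rw [h, one_smul])) (by rw [← Units.val_pow_eq_pow_val, hYn, Units.val_one])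
      (fun h => hY1 (Units.ext h))
    have hdP : (P : Matrix (Fin n) (Fin n) F).det ≠ 0 := (P.isUnit.map Matrix.detMonoidHom).ne_zero
    obtain ⟨h, hh, hhd⟩ := hdetsurj _ (inv_ne_zero hdP)
    let P' : Matrix.SpecialLinearGroup (Fin n) F :=
      ⟨((P * h : GL (Fin n) F) : Matrix (Fin n) (Fin n) F), by rw [Units.val_mul, Matrix.det_mul, hhd, mul_inv_cancel₀ hdP]⟩
    refine ⟨P', ?_⟩
    rw [Subgroup.mem_comap, InvClass.toGL_conj]
    have hP' : Matrix.SpecialLinearGroup.toGL P' = P * h := Units.ext rfl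
    have hPY : P⁻¹ * Matrix.SpecialLinearGroup.toGL x * P = Y := by
      rw [mul_assoc, inv_mul_eq_iff_eq_mul]
      exact Units.ext hP.symm
    rw [hP', _root_.mul_inv_rev,
      show h⁻¹ * P⁻¹ * Matrix.SpecialLinearGroup.toGL x * (P * h) = h⁻¹ * (P⁻¹ * Matrix.SpecialLinearGroup.toGL x * P) * h by group,
      hPY]
    exact mul_mem (mul_mem (inv_mem hh) hY) hh

end CfsgLib.Geo.SingerPrime
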