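/-
Subgroups of index 6 of the symmetric group of degree 6: two classes of six subgroups.
-/
import Cfsg.Agent.Lib.Geo.PermIndex

namespace CfsgLib.Geo.SixExotic

open MulAction Equiv Pointwise

variable {Ω : Type*} [Fintype Ω] [DecidableEq Ω]

/-- A subgroup of index 6 is the preimage of a point stabilizer under an automorphism. -/
theorem exists_aut (h6 : Fintype.card Ω = 6) (H : Subgroup (Perm Ω)) (hH : H.index = 6) :
    ∃ (ψ : Perm Ω ≃* Perm Ω) (ω : Ω), ∀ g, g ∈ H ↔ ψ g ω = ω := by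
  classical
  haveI : Nontrivial Ω := Fintype.one_lt_card_iff_nontrivial.1 (by omega)
  have hcore : H.normalCore = ⊥ := by
    by_contra hne
    have hle := Equiv.Perm.alternatingGroup_le_of_normal (N := H.normalCore)
      (by rw [Nat.card_eq_fintype_card]; omega) ((Subgroup.nontrivial_iff_ne_bot _).2 hne)
    have h2 := Subgroup.index_dvd_of_le (hle.trans H.normalCore_le)
    rw [alternatingGroup.index_eq_two, hH] at h2
    omega
  let e : Perm Ω ⧸ H ≃ Ω := (Finite.equivFinOfCardEq (hH.trans h6.symm)).trans (Fintype.equivFin Ω).symm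
  let ψ₀ : Perm Ω →* Perm Ω := e.permCongrHom.toMonoidHom.comp (MulAction.toPermHom (Perm Ω) (Perm Ω ⧸ H))
  have hψ₀ : Function.Injective ψ₀ := by
    refine e.permCongrHom.injective.comp ?_
    rw [← MonoidHom.ker_eq_bot_iff, ← Subgroup.normalCore_eq_ker, hcore]
  refine ⟨MulEquiv.ofBijective ψ₀ (Finite.injective_iff_bijective.1 hψ₀), e ((1 : Perm Ω) : Perm Ω ⧸ H), fun g => ?_⟩
  have : ψ₀ g (e ((1 : Perm Ω) : Perm Ω ⧸ H)) = e (g • ((1 : Perm Ω) : Perm Ω ⧸ H)) := by
    show e (MulAction.toPermHom (Perm Ω) (Perm Ω ⧸ H) g (e.symm (e _))) = _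
    rw [Equiv.symm_apply_apply]
    rfl
  show g ∈ H ↔ ψ₀ g _ = _
  rw [this, e.injective.eq_iff]
  show g ∈ H ↔ ((g * 1 : Perm Ω) : Perm Ω ⧸ H) = ((1 : Perm Ω) : Perm Ω ⧸ H)
  rw [QuotientGroup.eq, mul_one, mul_one, inv_mem_iff]

/-- The products of three disjoint transpositions. -/
def IsTriple (σ : Perm Ω) : Prop := σ.cycleType = Multiset.replicate 3 2

theorem swap_or_triple (h6 : Fintype.card Ω = 6) (ψ : Perm Ω ≃* Perm Ω) (σ : Perm Ω) (hσ : σ.IsSwap) :
    (ψ σ).IsSwap ∨ IsTriple (ψ σ) := by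
  have ho : orderOf (ψ σ) = 2 := by
    rw [show ψ σ = ψ.toMonoidHom σ from rfl, orderOf_injective ψ.toMonoidHom ψ.injective σ]; exact hσ.orderOf
  obtain ⟨k, hk⟩ := Perm.cycleType_prime_order (σ := ψ σ) (by rw [ho]; exact Nat.prime_two)
  rw [ho] at hk
  have hsum : 2 * (k + 1) ≤ 6 := by
    have := (ψ σ).sum_cycleType
    rw [hk, Multiset.sum_replicate, smul_eq_mul] at this
    have := (ψ σ).support.card_le_univ
    omega
  have hcases : k = 0 ∨ k = 1 ∨ k = 2 := by omega
  rcases hcases with rfl | rfl | rfl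
  · exact Or.inl (Perm.isSwap_iff_cycleType.2 (by rw [hk]; rfl))
  · exfalso
    have h1 := card_centralizer_map ψ σ
    rw [Perm.nat_card_centralizer, Perm.nat_card_centralizer, hk, Perm.isSwap_iff_cycleType.1 hσ, h6] at h1
    simp [Nat.factorial] at h1
  · exact Or.inr hk

theorem swaps_or_triples (h6 : Fintype.card Ω = 6) (ψ : Perm Ω ≃* Perm Ω) :
    (∀ σ, σ.IsSwap → (ψ σ).IsSwap) ∨ (∀ σ, σ.IsSwap → IsTriple (ψ σ)) := by
  haveI : Nontrivial Ω := Fintype.one_lt_card_iff_nontrivial.1 (by omega)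
  obtain ⟨a, b, hab⟩ := exists_pair_ne Ω
  have hct : ∀ σ, σ.IsSwap → (ψ σ).cycleType = (ψ (swap a b)).cycleType := fun σ hσ => by
    rw [← Perm.isConj_iff_cycleType_eq]
    have hc : IsConj σ (swap a b) := Perm.isConj_iff_cycleType_eq.2
      ((Perm.isSwap_iff_cycleType.1 hσ).trans (Perm.isSwap_iff_cycleType.1 ⟨a, b, hab, rfl⟩).symm)
    exact ψ.toMonoidHom.map_isConj hc
  rcases swap_or_triple h6 ψ (swap a b) ⟨a, b, hab, rfl⟩ with h | h
  · exact Or.inl fun σ hσ => Perm.isSwap_iff_cycleType.2 ((hct σ hσ).trans (Perm.isSwap_iff_cycleType.1 h))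
  · exact Or.inr fun σ hσ => (hct σ hσ).trans h

theorem card_swaps_eq_triples (h6 : Fintype.card Ω = 6) :
    Nat.card {σ : Perm Ω // σ.IsSwap} = Nat.card {σ : Perm Ω // IsTriple σ} := by
  have h1 := Perm.card_of_cycleType Ω ({2} : Multiset ℕ)
  have h2 := Perm.card_of_cycleType Ω (Multiset.replicate 3 2)
  simp [h6, Nat.factorial] at h1 h2
  rw [Nat.subtype_card (Finset.univ.filter fun σ : Perm Ω => σ.cycleType = {2}) (fun σ => by simp [Perm.isSwap_iff_cycleType]),
    Nat.subtype_card (Finset.univ.filter fun σ : Perm Ω => σ.cycleType = 2 ::ₘ 2 ::ₘ {2}) (fun σ => by simp [IsTriple])]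
  exact h1.trans h2.symm

theorem map_swaps_back (ψ : Perm Ω ≃* Perm Ω) (h : ∀ σ, σ.IsSwap → (ψ σ).IsSwap) (σ : Perm Ω)
    (hσ : (ψ σ).IsSwap) : σ.IsSwap := by
  let f : {σ : Perm Ω // σ.IsSwap} → {σ : Perm Ω // σ.IsSwap} := fun x => ⟨ψ x.1, h x.1 x.2⟩
  have hf : Function.Injective f := fun x y hxy => Subtype.ext (ψ.injective (congrArg Subtype.val hxy))
  obtain ⟨x, hx⟩ := (Finite.injective_iff_surjective.1 hf) ⟨ψ σ, hσ⟩
  exact ψ.injective (congrArg Subtype.val hx) ▸ x.2

theorem stab_eq_closure (ω : Ω) :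
    stabilizer (Perm Ω) ω = Subgroup.closure {τ : Perm Ω | τ.IsSwap ∧ τ ω = ω} := by
  refine le_antisymm (fun g hg => ?_) ((Subgroup.closure_le _).2 fun τ hτ => hτ.2)
  rw [mem_closure_isSwap fun _ hτ => hτ.1]
  refine ⟨Set.toFinite _, fun x => ?_⟩
  by_cases hx : g x = x
  · rw [hx]
    exact mem_orbit_self x
  · refine ⟨⟨swap x (g x), Subgroup.subset_closure ⟨⟨x, _, Ne.symm hx, rfl⟩, ?_⟩⟩, swap_apply_left _ _⟩
    have hgω : g ω = ω := hg
    refine swap_apply_of_ne_of_ne (fun h => hx ?_) fun h => hx ?_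
    · rw [← h]; exact hgω
    · have h' : g ω = g x := hgω.trans h
      rw [← g.injective h']
      exact hgω

/-- An automorphism preserving transpositions pulls point stabilizers back to point stabilizers. -/
theorem comap_stabilizer (h6 : Fintype.card Ω = 6) (ψ : Perm Ω ≃* Perm Ω) (h : ∀ σ, σ.IsSwap → (ψ σ).IsSwap) (ω : Ω) :
    ∃ x : Ω, (stabilizer (Perm Ω) ω).comap ψ.toMonoidHom = stabilizer (Perm Ω) x := by
  set H := (stabilizer (Perm Ω) ω).comap ψ.toMonoidHom with hH
  have hidx : H.index = Fintype.card Ω := by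
    rw [hH, Subgroup.index_comap_of_surjective _ ψ.surjective, index_stabilizer_of_transitive, Nat.card_eq_fintype_card]
  have hgen : H = Subgroup.closure {σ | σ.IsSwap ∧ σ ∈ H} := by
    refine le_antisymm (fun g hg => ?_) ((Subgroup.closure_le _).2 fun σ hσ => hσ.2)
    have h1 : ψ g ∈ Subgroup.closure {τ : Perm Ω | τ.IsSwap ∧ τ ω = ω} := stab_eq_closure ω ▸ hg
    have h2 : Subgroup.closure {τ : Perm Ω | τ.IsSwap ∧ τ ω = ω} ≤
        (Subgroup.closure {σ | σ.IsSwap ∧ σ ∈ H}).map ψ.toMonoidHom := by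
      refine (Subgroup.closure_le _).2 fun τ hτ => ⟨ψ.symm τ, Subgroup.subset_closure ⟨?_, ?_⟩, by simp⟩
      · exact map_swaps_back ψ h _ (by rw [MulEquiv.apply_symm_apply]; exact hτ.1)
      · show ψ (ψ.symm τ) ∈ stabilizer (Perm Ω) ω
        rw [MulEquiv.apply_symm_apply]; exact hτ.2
    obtain ⟨y, hy, hy'⟩ := h2 h1
    exact ψ.injective hy' ▸ hy
  obtain ⟨x, hx⟩ := le_stabilizer_of_swaps (by omega) H hidx hgen
  refine ⟨x, Subgroup.eq_of_le_of_card_ge hx (Nat.le_of_mul_le_mul_right ?_ (show 0 < Fintype.card Ω by omega))⟩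
  have h' := (stabilizer (Perm Ω) x).card_mul_index
  rw [index_stabilizer_of_transitive, Nat.card_eq_fintype_card (α := Ω)] at h'
  rw [h', ← hidx, H.card_mul_index]

theorem stab_injective (h6 : Fintype.card Ω = 6) : Function.Injective (fun x : Ω => stabilizer (Perm Ω) x) := by
  intro x y h
  by_contra hne
  obtain ⟨z, hz⟩ : ∃ z, z ∉ ({x, y} : Finset Ω) := by
    by_contra! hall
    have := Finset.card_le_card (show (Finset.univ : Finset Ω) ⊆ {x, y} from fun z _ => hall z)
    have h2 := Finset.card_le_two (a := x) (b := y)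
    rw [Finset.card_univ, h6] at this
    omega
  simp only [Finset.mem_insert, Finset.mem_singleton, not_or] at hz
  have h1 : swap y z ∈ stabilizer (Perm Ω) x :=
    swap_apply_of_ne_of_ne hne (Ne.symm hz.1)
  have h2 : swap y z ∈ stabilizer (Perm Ω) y := (show stabilizer (Perm Ω) x = stabilizer (Perm Ω) y from h) ▸ h1
  have h3 : swap y z y = y := h2
  rw [swap_apply_left] at h3
  exact hz.2 h3

theorem exists_transitive_index_six (h6 : Fintype.card Ω = 6) :
    ∃ H : Subgroup (Perm Ω), H.index = 6 ∧ ∀ x : Ω, H ≠ stabilizer (Perm Ω) x := by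
  classical
  haveI : Fact (Nat.Prime 5) := ⟨by norm_num⟩
  let G := Perm (Fin 5)
  have hG : Nat.card G = 120 := by rw [Nat.card_perm, Nat.card_fin]; rfl
  obtain ⟨P⟩ : Nonempty (Sylow 5 G) := inferInstance
  have hP : Nat.card (P : Subgroup G) = 5 := by
    rw [P.card_eq_multiplicity, hG]
    have : Nat.factorization 120 5 = 1 := by
      rw [show (120 : ℕ) = 5 * 24 from rfl, Nat.factorization_mul (by norm_num) (by norm_num),
        Finsupp.add_apply, Nat.Prime.factorization_self (by norm_num),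
        Nat.factorization_eq_zero_of_not_dvd (by norm_num : ¬ 5 ∣ 24)]
    rw [this, pow_one]
  have hmod := card_sylow_modEq_one 5 G
  have hdvd : Nat.card (Sylow 5 G) ∣ 24 := by
    have h1 := P.card_dvd_index
    have h2 := (P : Subgroup G).card_mul_index
    rw [hP, hG] at h2
    rwa [show (P : Subgroup G).index = 24 by omega] at h1
  have hnot : ∀ x : G, x ∉ alternatingGroup (Fin 5) → True := fun _ _ => trivial
  have hnormal_big : ∀ N : Subgroup G, N.Normal → N ≠ ⊥ → 60 ≤ Nat.card N := by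
    intro N hN hne
    have hle := Equiv.Perm.alternatingGroup_le_of_normal (N := N) (by rw [Nat.card_fin])
      ((Subgroup.nontrivial_iff_ne_bot _).2 hne)
    refine le_trans ?_ (Subgroup.card_le_of_le hle)
    rw [nat_card_alternatingGroup, Nat.card_fin]
    decide
  have hn1 : Nat.card (Sylow 5 G) ≠ 1 := by
    intro h1
    haveI := (Nat.card_eq_one_iff_unique.1 h1).1
    have := hnormal_big P P.normal_of_subsingleton (fun hb => by rw [hb, Subgroup.card_bot] at hP; omega)
    omega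
  have hn : Nat.card (Sylow 5 G) = 6 := by
    have h1 := Nat.le_of_dvd (by norm_num) hdvd
    have h2 : Nat.card (Sylow 5 G) % 5 = 1 := hmod
    generalize Nat.card (Sylow 5 G) = s at h1 h2 hdvd hn1
    interval_cases s <;> first | rfl | omega | (norm_num at hdvd)
  let e : Sylow 5 G ≃ Ω := (Finite.equivFinOfCardEq hn).trans ((finCongr h6.symm).trans (Fintype.equivFin Ω).symm)
  let φ : G →* Perm Ω := e.permCongrHom.toMonoidHom.comp (MulAction.toPermHom G (Sylow 5 G))
  have hφ : Function.Injective φ := by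
    refine e.permCongrHom.injective.comp ?_
    rw [← MonoidHom.ker_eq_bot_iff]
    by_contra hne
    have hbig := hnormal_big _ inferInstance hne
    have hle : (MulAction.toPermHom G (Sylow 5 G)).ker ≤ stabilizer G P := fun g hg =>
      Equiv.congr_fun (MonoidHom.mem_ker.1 hg) P
    have h1 := Subgroup.card_le_of_le hle
    have h2 := (stabilizer G P).card_mul_index
    rw [index_stabilizer_of_transitive, hn, hG] at h2
    omega
  refine ⟨φ.range, ?_, fun x hx => ?_⟩
  · have h1 := φ.range.card_mul_index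
    rw [← Nat.card_congr (MonoidHom.ofInjective hφ).toEquiv, hG, Nat.card_perm, Nat.card_eq_fintype_card, h6] at h1
    simp [Nat.factorial] at h1
    omega
  · haveI : Nontrivial Ω := Fintype.one_lt_card_iff_nontrivial.1 (by omega)
    obtain ⟨y, hy⟩ := exists_ne x
    obtain ⟨g, hg⟩ := exists_smul_eq G (e.symm x) (e.symm y)
    have h1 : φ g ∈ stabilizer (Perm Ω) x := hx ▸ ⟨g, rfl⟩
    have h2 : φ g x = e (g • e.symm x) := rfl
    rw [mem_stabilizer_iff, Perm.smul_def, h2, hg, Equiv.apply_symm_apply] at h1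
    exact hy h1

theorem classification (h6 : Fintype.card Ω = 6) :
    ∃ ψ : Perm Ω ≃* Perm Ω,
      (∀ H : Subgroup (Perm Ω), H.index = 6 →
        ∃ x : Ω, H = stabilizer (Perm Ω) x ∨ H = (stabilizer (Perm Ω) x).comap ψ.toMonoidHom) ∧
      ∀ x y : Ω, stabilizer (Perm Ω) x ≠ (stabilizer (Perm Ω) y).comap ψ.toMonoidHom := by
  classical
  have hback : ∀ (χ : Perm Ω ≃* Perm Ω), (∀ σ, σ.IsSwap → IsTriple (χ σ)) →
      ∀ σ, IsTriple σ → (χ σ).IsSwap := by
    intro χ hχ σ hσ
    -- all transpositions are used up as preimages, so a triple maps to something conjugate to a transposition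
    have hnot : ∀ σ', IsTriple σ' → ¬ IsTriple (χ σ') := by
      intro σ' hσ' h
      let f : {σ : Perm Ω // σ.IsSwap} → {σ : Perm Ω // IsTriple σ} := fun x => ⟨χ x.1, hχ x.1 x.2⟩
      have hf : Function.Injective f := fun x y hxy => Subtype.ext (χ.injective (congrArg Subtype.val hxy))
      obtain ⟨x, hx⟩ := (Nat.bijective_iff_injective_and_card f).2 ⟨hf, card_swaps_eq_triples h6⟩ |>.2 ⟨χ σ', h⟩
      have := χ.injective (congrArg Subtype.val hx)
      have h2 := Perm.isSwap_iff_cycleType.1 x.2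
      rw [this, hσ'] at h2
      exact absurd (congrArg Multiset.card h2) (by simp)
    -- count: the inverse sends transpositions to transpositions or to triples
    rcases swaps_or_triples h6 χ.symm with h | h
    · exfalso
      haveI : Nontrivial Ω := Fintype.one_lt_card_iff_nontrivial.1 (by omega)
      obtain ⟨a, b, hab⟩ := exists_pair_ne Ω
      have h1 := hχ _ (h _ ⟨a, b, hab, rfl⟩)
      rw [MulEquiv.apply_symm_apply, IsTriple, Perm.isSwap_iff_cycleType.1 ⟨a, b, hab, rfl⟩] at h1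
      simp at h1
    · let f : {σ : Perm Ω // σ.IsSwap} → {σ : Perm Ω // IsTriple σ} := fun x => ⟨χ.symm x.1, h x.1 x.2⟩
      have hf : Function.Injective f := fun x y hxy => Subtype.ext (χ.symm.injective (congrArg Subtype.val hxy))
      obtain ⟨x, hx⟩ := (Nat.bijective_iff_injective_and_card f).2 ⟨hf, card_swaps_eq_triples h6⟩ |>.2 ⟨σ, hσ⟩
      have : χ.symm x.1 = σ := congrArg Subtype.val hx
      rw [← this, MulEquiv.apply_symm_apply]
      exact x.2
  obtain ⟨H₀, hH₀, hexotic⟩ := exists_transitive_index_six h6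
  obtain ⟨ψ, ω, hω⟩ := exists_aut h6 H₀ hH₀
  have hH₀eq : H₀ = (stabilizer (Perm Ω) ω).comap ψ.toMonoidHom := Subgroup.ext hω
  have hψ : ∀ σ, σ.IsSwap → IsTriple (ψ σ) := by
    refine (swaps_or_triples h6 ψ).resolve_left fun h => ?_
    obtain ⟨x, hx⟩ := comap_stabilizer h6 ψ h ω
    exact hexotic x (hH₀eq.trans hx)
  refine ⟨ψ, fun H hH => ?_, fun x y hxy => ?_⟩
  · obtain ⟨χ, a, ha⟩ := exists_aut h6 H hH
    have hHeq : H = (stabilizer (Perm Ω) a).comap χ.toMonoidHom := Subgroup.ext ha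
    rcases swaps_or_triples h6 χ with h | h
    · obtain ⟨x, hx⟩ := comap_stabilizer h6 χ h a
      exact ⟨x, Or.inl (hHeq.trans hx)⟩
    · have hθ : ∀ σ, σ.IsSwap → ((ψ.symm.trans χ) σ).IsSwap := fun σ hσ => by
        rcases swaps_or_triples h6 ψ.symm with h' | h'
        · exfalso
          have h1 := hψ _ (h' σ hσ)
          rw [MulEquiv.apply_symm_apply, IsTriple, Perm.isSwap_iff_cycleType.1 hσ] at h1
          simp at h1
        · exact hback χ h _ (h' σ hσ)
      obtain ⟨x, hx⟩ := comap_stabilizer h6 (ψ.symm.trans χ) hθ a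
      refine ⟨x, Or.inr ?_⟩
      rw [hHeq, ← hx, Subgroup.comap_comap]
      congr 1
      ext g
      simp
  · -- the stabilizer of x contains a transposition
    haveI : Nontrivial Ω := Fintype.one_lt_card_iff_nontrivial.1 (by omega)
    obtain ⟨σ, hσ, hσx⟩ : ∃ σ : Perm Ω, σ.IsSwap ∧ σ x = x := by
      have hc : 2 ≤ ({x}ᶜ : Finset Ω).card := by rw [Finset.card_compl, Finset.card_singleton]; omega
      obtain ⟨a, ha, b, hb, hab⟩ := Finset.one_lt_card.1 (show 1 < ({x}ᶜ : Finset Ω).card by omega)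
      simp at ha hb
      exact ⟨swap a b, ⟨a, b, hab, rfl⟩, swap_apply_of_ne_of_ne (Ne.symm ha) (Ne.symm hb)⟩
    have h1 : σ ∈ (stabilizer (Perm Ω) y).comap ψ.toMonoidHom := hxy ▸ (show σ ∈ stabilizer (Perm Ω) x from hσx)
    have h2 : ψ σ y = y := h1
    have h3 : (ψ σ).support.card = 6 := by rw [← (ψ σ).sum_cycleType, hψ σ hσ]; rfl
    have h4 := Finset.eq_univ_of_card _ (h3.trans h6.symm)
    exact Perm.mem_support.1 (h4 ▸ Finset.mem_univ y) h2

theorem index_comap_stab (h6 : Fintype.card Ω = 6) (ψ : Perm Ω ≃* Perm Ω) (x : Ω) :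
    ((stabilizer (Perm Ω) x).comap ψ.toMonoidHom).index = 6 := by
  rw [Subgroup.index_comap_of_surjective _ ψ.surjective, index_stabilizer_of_transitive, Nat.card_eq_fintype_card, h6]

theorem index_stab (h6 : Fintype.card Ω = 6) (x : Ω) : (stabilizer (Perm Ω) x).index = 6 := by
  rw [index_stabilizer_of_transitive, Nat.card_eq_fintype_card, h6]

theorem map_conj_stab (g : Perm Ω) (x : Ω) :
    (stabilizer (Perm Ω) x).map (MulAut.conj g).toMonoidHom = stabilizer (Perm Ω) (g x) := by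
  ext s
  rw [Subgroup.mem_map_equiv, MulAut.conj_symm_apply, mem_stabilizer_iff, mem_stabilizer_iff, Perm.smul_def,
    Perm.smul_def, Perm.mul_apply, Perm.mul_apply, Perm.inv_eq_iff_eq]

theorem map_conj_comap (ψ : Perm Ω ≃* Perm Ω) (g : Perm Ω) (x : Ω) :
    ((stabilizer (Perm Ω) x).comap ψ.toMonoidHom).map (MulAut.conj g).toMonoidHom =
      (stabilizer (Perm Ω) (ψ g x)).comap ψ.toMonoidHom := by
  ext s
  rw [Subgroup.mem_map_equiv, MulAut.conj_symm_apply, Subgroup.mem_comap, Subgroup.mem_comap, ← map_conj_stab,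
    Subgroup.mem_map_equiv, MulAut.conj_symm_apply]
  simp

theorem two_classes (h6 : Fintype.card Ω = 6) :
    ∃ H₁ H₂ : Subgroup (Equiv.Perm Ω), H₁.index = 6 ∧ H₂.index = 6 ∧
      (¬ ∃ g : Equiv.Perm Ω, Subgroup.map (MulAut.conj g).toMonoidHom H₁ = H₂) ∧
      ∀ H : Subgroup (Equiv.Perm Ω), H.index = 6 →
        ∃ g : Equiv.Perm Ω, Subgroup.map (MulAut.conj g).toMonoidHom H₁ = H ∨
          Subgroup.map (MulAut.conj g).toMonoidHom H₂ = H := by
  obtain ⟨ψ, hall, hne⟩ := classification h6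
  obtain ⟨a⟩ : Nonempty Ω := Fintype.card_pos_iff.1 (by omega)
  refine ⟨stabilizer (Perm Ω) a, (stabilizer (Perm Ω) a).comap ψ.toMonoidHom, index_stab h6 a,
    index_comap_stab h6 ψ a, ?_, fun H hH => ?_⟩
  · rintro ⟨g, hg⟩
    rw [map_conj_stab] at hg
    exact hne _ _ hg
  · obtain ⟨x, hx | hx⟩ := hall H hH
    · exact ⟨swap a x, Or.inl (by rw [map_conj_stab, swap_apply_left, hx])⟩
    · exact ⟨ψ.symm (swap a x), Or.inr (by rw [map_conj_comap, MulEquiv.apply_symm_apply, swap_apply_left, hx])⟩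

theorem count_twelve : Nat.card {H : Subgroup (Perm (Fin 6)) // H.index = 6} = 12 ∧
    (∀ H : Subgroup (Perm (Fin 6)), H.index = 6 → Nonempty (H ≃* Perm (Fin 5))) ∧
    ∃ H : Subgroup (Perm (Fin 6)), H.index = 6 ∧ ∀ a : Fin 6, H ≠ stabilizer (Perm (Fin 6)) a := by
  classical
  have h6 : Fintype.card (Fin 6) = 6 := Fintype.card_fin 6
  obtain ⟨ψ, hall, hne⟩ := classification h6
  refine ⟨?_, fun H hH => ?_, ⟨_, index_comap_stab h6 ψ 0, fun a h => hne a 0 h.symm⟩⟩
  · let f : Fin 6 ⊕ Fin 6 → {H : Subgroup (Perm (Fin 6)) // H.index = 6} :=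
      Sum.elim (fun x => ⟨stabilizer (Perm (Fin 6)) x, index_stab h6 x⟩)
        (fun x => ⟨(stabilizer (Perm (Fin 6)) x).comap ψ.toMonoidHom, index_comap_stab h6 ψ x⟩)
    have hinj : Function.Injective f := by
      rintro (x | x) (y | y) h <;> replace h := congrArg Subtype.val h <;> simp only [f, Sum.elim_inl, Sum.elim_inr] at h
      · rw [stab_injective h6 h]
      · exact absurd h (hne x y)
      · exact absurd h.symm (hne y x)
      · rw [stab_injective h6 (Subgroup.comap_injective ψ.surjective h)]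
    have hsurj : Function.Surjective f := by
      rintro ⟨H, hH⟩
      obtain ⟨x, hx | hx⟩ := hall H hH
      · exact ⟨Sum.inl x, Subtype.ext hx.symm⟩
      · exact ⟨Sum.inr x, Subtype.ext hx.symm⟩
    rw [← Nat.card_eq_of_bijective f ⟨hinj, hsurj⟩]
    simp
  · obtain ⟨χ, a, ha⟩ := exists_aut h6 H hH
    have hmap : H.map χ.toMonoidHom = stabilizer (Perm (Fin 6)) a := by
      ext s
      rw [Subgroup.mem_map_equiv, ha, MulEquiv.apply_symm_apply]
      rfl
    let φ : Perm {x : Fin 6 // x ≠ a} →* stabilizer (Perm (Fin 6)) a :=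
      (Equiv.Perm.ofSubtype).codRestrict _ fun g => Equiv.Perm.ofSubtype_apply_of_not_mem g (fun h => h rfl)
    have hφ : Function.Bijective φ := by
      refine ⟨fun u v h => Equiv.Perm.ofSubtype_injective (Subtype.ext_iff.1 h), fun g => ?_⟩
      have hga : g.1 a = a := g.2
      have h1 : ∀ x, g.1 x ≠ a ↔ x ≠ a := fun x => by
        constructor
        · rintro h rfl
          exact h hga
        · intro h h'
          exact h (g.1.injective (h'.trans hga.symm))
      exact ⟨g.1.subtypePerm h1, Subtype.ext (Equiv.Perm.ofSubtype_subtypePerm h1 fun x hx hxa => hx (hxa ▸ hga))⟩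
    have e5 : {x : Fin 6 // x ≠ a} ≃ Fin 5 := Fintype.equivFinOfCardEq (by
      rw [Fintype.card_subtype_compl, Fintype.card_subtype_eq, Fintype.card_fin])
    exact ⟨((χ.subgroupMap H).trans (MulEquiv.subgroupCongr hmap)).trans
      ((MulEquiv.ofBijective φ hφ).symm.trans e5.permCongrHom)⟩

end CfsgLib.Geo.SixExotic
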