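/-
Fixed spaces in primitive soluble linear groups: with a maximal abelian normal subgroup `A` (whose non-trivial
elements fix no non-zero vector) and a maximal normal `R ≥ A` of class two over `A`, commutators reduce every
element to `A` in at most two steps.
-/
import Mathlib

set_option autoImplicit false

namespace CfsgLib.Geo.SolvPrim

section Idem

/-- Some positive power of an element of a finite monoid is idempotent. -/
theorem exists_pow_idem {M : Type*} [Monoid M] [Finite M] (x : M) :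
    ∃ m, 0 < m ∧ x ^ m * x ^ m = x ^ m := by
  obtain ⟨a, b, hab, heq⟩ : ∃ a b : ℕ, a < b ∧ x ^ a = x ^ b := by
    obtain ⟨a, b, hne, heq⟩ := Finite.exists_ne_map_eq_of_infinite (fun k : ℕ => x ^ k)
    rcases lt_or_gt_of_ne hne with h | h
    · exact ⟨a, b, h, heq⟩
    · exact ⟨b, a, h, heq.symm⟩
  have key : ∀ j, x ^ (a + j * (b - a)) = x ^ a := by
    intro j
    induction j with
    | zero => simp
    | succ j ih =>
      rw [show a + (j + 1) * (b - a) = (a + j * (b - a)) + (b - a) by ring, pow_add, ih, ← pow_add,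
        show a + (b - a) = b by omega, heq]
  have hd : 1 ≤ b - a := by omega
  have hm : a ≤ (a + 1) * (b - a) :=
    le_trans (Nat.le_succ a) (by nlinarith)
  refine ⟨(a + 1) * (b - a), by positivity, ?_⟩
  rw [← pow_add]
  generalize hmd : (a + 1) * (b - a) = m at hm
  rw [show m + m = (m - a) + (a + (a + 1) * (b - a)) by omega, pow_add, key, ← pow_add,
    show m - a + a = m by omega]

end Idem

variable {F : Type*} [Field F] {V : Type*} [AddCommGroup V] [Module F V] [Finite V]
  {G : Type*} [Group G] (ρ : G →* Module.End F V)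

/-- No family of at least two independent subspaces of equal dimension, spanning the space, is permuted. -/
def NoDecomposition : Prop :=
  ∀ (m t : ℕ) (D : Fin t → Submodule F V), 2 ≤ t → 0 < m → (∀ i, Module.finrank F (D i) = m) →
    iSupIndep D → iSup D = ⊤ → ¬ ∀ g, ∀ i, ∃ j, (D i).map (ρ g) = D j

/-- The only invariant subspaces are `⊥` and `⊤`. -/
def Irred : Prop := ∀ W : Submodule F V, (∀ g, ∀ v ∈ W, ρ g v ∈ W) → W = ⊥ ∨ W = ⊤

variable {ρ}

theorem inv_apply (g : G) (v : V) : ρ g⁻¹ (ρ g v) = v := by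
  rw [← Module.End.mul_apply, ← map_mul, inv_mul_cancel, map_one, Module.End.one_apply]

theorem apply_inv (g : G) (v : V) : ρ g (ρ g⁻¹ v) = v := by
  rw [← Module.End.mul_apply, ← map_mul, mul_inv_cancel, map_one, Module.End.one_apply]

theorem rho_injective (g : G) : Function.Injective (ρ g) :=
  fun v w h => by simpa [inv_apply] using congrArg (ρ g⁻¹) h

/-- Non-trivial elements of an abelian normal subgroup fix no non-zero vector. -/
theorem fix_eq_bot (hirr : Irred ρ) (hdec : NoDecomposition ρ) (hρ : Function.Injective ρ)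
    {A : Subgroup G} (hn : A.Normal) (hab : ∀ a ∈ A, ∀ b ∈ A, a * b = b * a) {a : G} (ha : a ∈ A)
    (ha1 : a ≠ 1) : Module.End.eigenspace (ρ a) 1 = ⊥ := by
  set E := Algebra.adjoin F (ρ '' (A : Set G)) with hE
  haveI : Module.Finite F V := Module.Finite.of_finite
  haveI : Finite (Module.End F V) := Finite.of_injective _ (DFunLike.coe_injective)
  have hcomm : ∀ x ∈ E, ∀ y ∈ E, x * y = y * x := by
    intro x hx y hy
    refine (Algebra.commute_of_mem_adjoin_of_forall_mem_commute hy ?_).eq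
    rintro _ ⟨b, hb, rfl⟩
    refine (Algebra.commute_of_mem_adjoin_of_forall_mem_commute hx ?_).symm
    rintro _ ⟨c, hc, rfl⟩
    show ρ b * ρ c = ρ c * ρ b
    rw [← map_mul, ← map_mul, hab b hb c hc]
  let cj : G → Module.End F V → Module.End F V := fun g x => ρ g * x * ρ g⁻¹
  have cj_mul : ∀ g x y, cj g (x * y) = cj g x * cj g y := by
    intro g x y
    refine LinearMap.ext fun v => ?_
    simp [cj, Module.End.mul_apply, inv_apply]
  have hcj : ∀ g, ∀ x ∈ E, cj g x ∈ E := by
    intro g x hx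
    induction hx using Algebra.adjoin_induction with
    | mem x hx =>
      obtain ⟨b, hb, rfl⟩ := hx
      exact Algebra.subset_adjoin ⟨g * b * g⁻¹, hn.conj_mem b hb g, by simp [cj, map_mul]⟩
    | algebraMap r =>
      have : cj g (algebraMap F _ r) = algebraMap F _ r := by
        refine LinearMap.ext fun v => ?_
        simp [cj, Module.End.mul_apply, Module.algebraMap_end_apply, apply_inv]
      rw [this]
      exact E.algebraMap_mem r
    | add x y _ _ hx hy =>
      have : cj g (x + y) = cj g x + cj g y := by simp [cj, mul_add, add_mul]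
      rw [this]
      exact E.add_mem hx hy
    | mul x y _ _ hx hy =>
      rw [cj_mul]
      exact E.mul_mem hx hy
  by_contra hne
  have hVne : (⊥ : Submodule F V) ≠ ⊤ := fun h => hne (le_bot_iff.1 (h ▸ le_top))
  -- nilpotent elements vanish
  have hnil : ∀ x ∈ E, ∀ k : ℕ, x ^ k = 0 → x = 0 := by
    intro x hx k hk
    set J : Set (Module.End F V) := {y | y ∈ E ∧ ∃ k : ℕ, y ^ k = 0}
    set W : Submodule F V := ⨅ y ∈ J, LinearMap.ker y with hW
    have hWinv : ∀ g, ∀ v ∈ W, ρ g v ∈ W := by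
      intro g v hv
      simp only [hW, Submodule.mem_iInf, LinearMap.mem_ker] at hv ⊢
      intro y hy
      have h1 : cj g⁻¹ y ∈ J := by
        obtain ⟨hyE, k, hk⟩ := hy
        refine ⟨hcj _ _ hyE, k, ?_⟩
        have hp : ∀ j : ℕ, cj g⁻¹ y ^ j = cj g⁻¹ (y ^ j) := by
          intro j
          induction j with
          | zero => simp [cj, ← map_mul]
          | succ j ih => rw [pow_succ, pow_succ, ih, cj_mul]
        rw [hp, hk]
        simp [cj]
      have h2 := hv _ h1
      simp only [cj, inv_inv, Module.End.mul_apply] at h2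
      exact rho_injective g⁻¹ (by rw [h2, map_zero])
    have hWne : W ≠ ⊥ := by
      set S := {U : Submodule F V | U ≠ ⊥ ∧ ∀ y ∈ E, ∀ u ∈ U, y u ∈ U}
      obtain ⟨U, ⟨hU0, hUE⟩, hUmin⟩ :=
        WellFounded.has_min (wellFounded_lt (α := Submodule F V)) S ⟨⊤, hVne.symm, fun _ _ _ _ => trivial⟩
      refine fun h => hU0 (le_bot_iff.1 (h ▸ ?_))
      simp only [hW, le_iInf_iff]
      rintro y ⟨hyE, k, hk⟩
      by_contra hnot
      have hlt : U ⊓ LinearMap.ker y < U := lt_of_le_of_ne inf_le_left fun e => hnot (e ▸ inf_le_right)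
      refine hUmin _ ⟨?_, fun z hz u hu => Submodule.mem_inf.2 ⟨hUE z hz u hu.1, ?_⟩⟩ hlt
      · obtain ⟨u, hu, hu0⟩ := Submodule.exists_mem_ne_zero_of_ne_bot hU0
        classical
        have hex : ∃ j, (y ^ j) u = 0 := ⟨k, by rw [hk]; rfl⟩
        have hj0 : Nat.find hex ≠ 0 := fun e => hu0 (by simpa [e] using Nat.find_spec hex)
        obtain ⟨j, hj⟩ := Nat.exists_eq_succ_of_ne_zero hj0
        have hmem : ∀ i : ℕ, (y ^ i) u ∈ U := by
          intro i
          induction i with
          | zero => simpa using hu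
          | succ i ih => rw [pow_succ', Module.End.mul_apply]; exact hUE y hyE _ ih
        rw [Submodule.ne_bot_iff]
        refine ⟨(y ^ j) u, ⟨hmem j, ?_⟩, Nat.find_min hex (by omega)⟩
        have h := Nat.find_spec hex
        rw [hj, pow_succ', Module.End.mul_apply] at h
        exact h
      · rw [LinearMap.mem_ker, ← Module.End.mul_apply, hcomm y hyE z hz, Module.End.mul_apply,
          LinearMap.mem_ker.1 hu.2, map_zero]
    refine LinearMap.ext fun v => ?_
    have hv : v ∈ W := ((hirr W hWinv).resolve_left hWne).symm ▸ Submodule.mem_top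
    simp only [hW, Submodule.mem_iInf, LinearMap.mem_ker] at hv
    simpa using hv x ⟨hx, k, hk⟩
  -- there is a non-trivial idempotent
  obtain ⟨e₁, he₁, he₁i, he₁0, he₁1⟩ : ∃ e ∈ E, e * e = e ∧ e ≠ 0 ∧ e ≠ 1 := by
    obtain ⟨m, hm, hidem⟩ := exists_pow_idem (ρ a - 1 : Module.End F V)
    have hx : ρ a - 1 ∈ E := E.sub_mem (Algebra.subset_adjoin ⟨a, ha, rfl⟩) E.one_mem
    refine ⟨(ρ a - 1) ^ m, E.pow_mem hx m, hidem, fun h0 => ?_, fun h1 => hne ?_⟩
    · exact ha1 (hρ (by rw [map_one]; exact sub_eq_zero.1 (hnil _ hx m h0)))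
    · refine (Submodule.eq_bot_iff _).2 fun v hv => ?_
      rw [Module.End.mem_eigenspace_iff, one_smul] at hv
      have h := congrArg (fun f : Module.End F V => f v) h1
      obtain ⟨m, rfl⟩ := Nat.exists_eq_succ_of_ne_zero hm.ne'
      simpa [pow_succ, Module.End.mul_apply, hv] using h.symm
  -- an atom
  set S := {e : Module.End F V | e ∈ E ∧ e * e = e ∧ e ≠ 0}
  obtain ⟨e₀, ⟨he₀, he₀i, he₀0⟩, hmin⟩ := Set.exists_min_image S
    (fun e => Module.finrank F (LinearMap.range e)) (Set.toFinite S) ⟨e₁, he₁, he₁i, he₁0⟩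
  have hatom : ∀ f ∈ E, f * f = f → f * e₀ = 0 ∨ f * e₀ = e₀ := by
    intro f hf hfi
    by_cases h0 : f * e₀ = 0
    · exact Or.inl h0
    refine Or.inr ?_
    have hc : f * e₀ = e₀ * f := hcomm f hf e₀ he₀
    have hi : (f * e₀) * (f * e₀) = f * e₀ := by
      calc (f * e₀) * (f * e₀) = f * (e₀ * f) * e₀ := by simp only [mul_assoc]
        _ = (f * f) * (e₀ * e₀) := by rw [← hc]; simp only [mul_assoc]
        _ = f * e₀ := by rw [hfi, he₀i]
    have hle : LinearMap.range (f * e₀) ≤ LinearMap.range e₀ := by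
      rw [hc]
      rintro _ ⟨v, rfl⟩
      exact ⟨f v, rfl⟩
    have heq := Submodule.eq_of_le_of_finrank_le hle (hmin _ ⟨E.mul_mem hf he₀, hi, h0⟩)
    refine LinearMap.ext fun v => ?_
    obtain ⟨w, hw⟩ : e₀ v ∈ LinearMap.range (f * e₀) := heq.ge ⟨v, rfl⟩
    calc (f * e₀) v = (f * e₀) (e₀ v) := by
          rw [← Module.End.mul_apply, mul_assoc, he₀i]
      _ = ((f * e₀) * (f * e₀)) w := by rw [← hw]; rfl
      _ = e₀ v := by rw [hi, hw]
  -- the orbit
  set O := Set.range fun g => cj g e₀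
  haveI : Finite O := inferInstance
  let t := Nat.card O
  let eqv : O ≃ Fin t := Finite.equivFin O
  let D : Fin t → Submodule F V := fun i => LinearMap.range (eqv.symm i : Module.End F V)
  have hrep : ∀ i, ∃ g, cj g e₀ = (eqv.symm i : Module.End F V) := fun i => (eqv.symm i).2
  have hmap : ∀ g x, (LinearMap.range x).map (ρ g) = LinearMap.range (cj g x) := by
    intro g x
    refine le_antisymm ?_ ?_
    · rintro _ ⟨_, ⟨v, rfl⟩, rfl⟩
      exact ⟨ρ g v, by simp [cj, Module.End.mul_apply, inv_apply]⟩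
    · rintro _ ⟨v, rfl⟩
      exact ⟨x (ρ g⁻¹ v), ⟨_, rfl⟩, rfl⟩
  have cj_cj : ∀ g h x, cj g (cj h x) = cj (g * h) x := by
    intro g h x
    simp [cj, map_mul, mul_assoc, mul_inv_rev]
  have cj_one : ∀ x, cj 1 x = x := fun x => by simp [cj]
  have hperm : ∀ g i, ∃ j, (D i).map (ρ g) = D j := by
    intro g i
    obtain ⟨h, hh⟩ := hrep i
    refine ⟨eqv ⟨cj (g * h) e₀, g * h, rfl⟩, ?_⟩
    simp only [D, Equiv.symm_apply_apply]
    rw [hmap, ← hh, cj_cj]
  have horth : ∀ i j, i ≠ j → (eqv.symm i : Module.End F V) * (eqv.symm j : Module.End F V) = 0 := by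
    intro i j hij
    obtain ⟨g, hg⟩ := hrep i
    obtain ⟨h, hh⟩ := hrep j
    have hmemg : cj g e₀ ∈ E := hcj _ _ he₀
    have hmemh : cj h e₀ ∈ E := hcj _ _ he₀
    have hidg : cj g e₀ * cj g e₀ = cj g e₀ := by rw [← cj_mul, he₀i]
    have hidh : cj h e₀ * cj h e₀ = cj h e₀ := by rw [← cj_mul, he₀i]
    have hat : ∀ g h, cj g e₀ * cj h e₀ = 0 ∨ cj g e₀ * cj h e₀ = cj h e₀ := by
      intro g h
      have hid : cj g e₀ * cj g e₀ = cj g e₀ := by rw [← cj_mul, he₀i]
      have hid' : cj (h⁻¹ * g) e₀ * cj (h⁻¹ * g) e₀ = cj (h⁻¹ * g) e₀ := by rw [← cj_mul, he₀i]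
      rcases hatom _ (hcj _ _ he₀) hid' with h1 | h1
      · left
        have := congrArg (cj h) h1
        rw [cj_mul, cj_cj, mul_inv_cancel_left] at this
        rw [this]
        simp [cj]
      · right
        have := congrArg (cj h) h1
        rwa [cj_mul, cj_cj, mul_inv_cancel_left] at this
    rw [← hg, ← hh]
    rcases hat g h with h1 | h1
    · exact h1
    rcases hat h g with h2 | h2
    · rw [hcomm _ hmemg _ hmemh]; exact h2
    refine absurd (eqv.symm.injective (Subtype.ext ?_)) hij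
    rw [← hg, ← hh, ← h2, hcomm _ hmemh _ hmemg, h1]
  have hidem : ∀ i, (eqv.symm i : Module.End F V) * (eqv.symm i : Module.End F V) = eqv.symm i := by
    intro i
    obtain ⟨g, hg⟩ := hrep i
    rw [← hg, ← cj_mul, he₀i]
  have hind : iSupIndep D := by
    intro i
    rw [Submodule.disjoint_def]
    rintro v ⟨w, rfl⟩ hv
    have hker : ⨆ j, ⨆ (_ : j ≠ i), D j ≤ LinearMap.ker (eqv.symm i : Module.End F V) := by
      refine iSup₂_le fun j hj => ?_
      rintro _ ⟨u, rfl⟩
      rw [LinearMap.mem_ker, ← Module.End.mul_apply, horth i j hj.symm]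
      rfl
    have h := LinearMap.mem_ker.1 (hker hv)
    rwa [← Module.End.mul_apply, hidem] at h
  let i₀ : Fin t := eqv ⟨e₀, 1, cj_one e₀⟩
  have hD0 : D i₀ ≠ ⊥ := by
    simp only [D, i₀, Equiv.symm_apply_apply, ne_eq, LinearMap.range_eq_bot]
    exact he₀0
  have htop : iSup D = ⊤ := by
    refine (hirr _ fun g v hv => ?_).resolve_left fun h => hD0 (le_bot_iff.1 (h ▸ le_iSup D i₀))
    have hle : (iSup D).map (ρ g) ≤ iSup D := by
      rw [Submodule.map_iSup]
      refine iSup_le fun i => ?_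
      obtain ⟨j, hj⟩ := hperm g i
      exact hj ▸ le_iSup D j
    exact hle (Submodule.mem_map_of_mem hv)
  have hfin : ∀ i, Module.finrank F (D i) = Module.finrank F (D i₀) := by
    intro i
    obtain ⟨g, hg⟩ := hrep i
    have : D i = (D i₀).map (ρ g) := by simp only [D, i₀, Equiv.symm_apply_apply, hmap, hg]
    rw [this]
    exact ((Submodule.equivMapOfInjective _ (rho_injective g) _).finrank_eq).symm
  refine hdec (Module.finrank F (D i₀)) t D ?_ ?_ hfin hind htop hperm
  · by_contra ht
    have : D i₀ = ⊤ := by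
      rw [eq_top_iff, ← htop]
      exact iSup_le fun i => by rw [Fin.ext (show (i : ℕ) = i₀ by omega)]
    have he1 : e₀ = 1 := by
      refine LinearMap.ext fun v => ?_
      obtain ⟨w, hw⟩ : v ∈ D i₀ := this ▸ Submodule.mem_top
      simp only [i₀, Equiv.symm_apply_apply] at hw
      rw [← hw, ← Module.End.mul_apply, he₀i, Module.End.one_apply]
    rcases hatom e₁ he₁ he₁i with h | h <;> rw [he1, mul_one] at h
    exacts [he₁0 h, he₁1 h]
  · exact Nat.pos_of_ne_zero fun h => hD0 (Submodule.finrank_eq_zero.1 h)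

/-- A soluble group has, above a maximal abelian normal subgroup `A`, a normal `R` of class two over `A`
whose centraliser is `A`. -/
theorem exists_class_two [Finite G] [Group.IsSolvable G] :
    ∃ A R : Subgroup G, A.Normal ∧ R.Normal ∧ A ≤ R ∧ (∀ a ∈ A, ∀ b ∈ A, a * b = b * a) ∧
      (∀ r ∈ R, ∀ a ∈ A, r * a = a * r) ∧ (∀ r ∈ R, ∀ s ∈ R, r * s * r⁻¹ * s⁻¹ ∈ A) ∧
      ∀ x, (∀ r ∈ R, x * r = r * x) → x ∈ A := by
  obtain ⟨A, ⟨hAn, hAc⟩, hAmax⟩ := Set.Finite.exists_maximal
    (s := {A : Subgroup G | A.Normal ∧ A ≤ Subgroup.centralizer A}) (Set.toFinite _)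
    ⟨⊥, inferInstance, bot_le⟩
  haveI := hAn
  obtain ⟨R, ⟨hRn, hAR, hRA, hRR⟩, hRmax⟩ := Set.Finite.exists_maximal
    (s := {R : Subgroup G | R.Normal ∧ A ≤ R ∧ R ≤ Subgroup.centralizer A ∧ ⁅R, R⁆ ≤ A}) (Set.toFinite _)
    ⟨A, hAn, le_rfl, hAc, Subgroup.commutator_le_left A A⟩
  haveI := hRn
  set D := Subgroup.centralizer (R : Set G) with hD
  have hDA : D ≤ Subgroup.centralizer A := Subgroup.centralizer_le hAR
  have hAD : A ≤ D := Subgroup.le_centralizer_iff.1 hRA
  have hZ : R ⊓ D ≤ A := by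
    refine hAmax ⟨inferInstance, ?_⟩ (le_inf hAR hAD)
    exact inf_le_right.trans (Subgroup.centralizer_le inf_le_left)
  have hDle : D ≤ A := by
    by_contra hnot
    obtain ⟨d, hd0, hds⟩ : ∃ d : ℕ → Subgroup G, d 0 = D ∧ ∀ i, d (i + 1) = ⁅d i, d i⁆ :=
      ⟨Nat.rec D (fun _ X => ⁅X, X⁆), rfl, fun _ => rfl⟩
    have hdn : ∀ i, (d i).Normal := by
      intro i
      induction i with
      | zero => rw [hd0]; exact inferInstanceAs D.Normal
      | succ i ih => rw [hds]; exact @Subgroup.commutator_normal _ _ (d i) (d i) ih ih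
    have hdD : ∀ i, d i ≤ D := by
      intro i
      induction i with
      | zero => exact hd0.le
      | succ i ih =>
        haveI := hdn i
        rw [hds]
        exact le_trans (Subgroup.commutator_le_left (d i) (d i)) ih
    have hdder : ∀ i, d i ≤ derivedSeries G i := by
      intro i
      induction i with
      | zero => exact le_top
      | succ i ih => rw [hds]; exact Subgroup.commutator_mono ih ih
    classical
    obtain ⟨N, hN⟩ := (Group.isSolvable_def G).1 inferInstance
    have hex : ∃ i, d i ≤ A := ⟨N, (hdder N).trans (hN ▸ bot_le)⟩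
    have hk0 : Nat.find hex ≠ 0 := fun e => hnot (by have := Nat.find_spec hex; rwa [e, hd0] at this)
    obtain ⟨k, hk⟩ := Nat.exists_eq_succ_of_ne_zero hk0
    have hkA : ¬ d k ≤ A := Nat.find_min hex (by omega)
    have hkc : ⁅d k, d k⁆ ≤ A := by have := Nat.find_spec hex; rwa [hk, Nat.succ_eq_add_one, hds] at this
    haveI := hdn k
    refine hkA ((le_inf ?_ (hdD k)).trans hZ)
    have hN' : (R ⊔ d k).Normal := Subgroup.sup_normal R (d k)
    refine le_sup_right.trans (hRmax (y := R ⊔ d k) ⟨hN', hAR.trans le_sup_left, sup_le hRA ((hdD k).trans hDA), ?_⟩ le_sup_left)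
    let π := QuotientGroup.mk' A
    have hker : ∀ X : Subgroup G, X ≤ A ↔ X.map π = ⊥ := fun X => by
      rw [Subgroup.map_eq_bot_iff, QuotientGroup.ker_mk']
    rw [hker, Subgroup.map_commutator, Subgroup.commutator_eq_bot_iff_le_centralizer, Subgroup.map_sup]
    have h1 : R.map π ≤ Subgroup.centralizer (R.map π : Subgroup _) := by
      rw [← Subgroup.commutator_eq_bot_iff_le_centralizer, ← Subgroup.map_commutator, ← hker]; exact hRR
    have h2 : (d k).map π ≤ Subgroup.centralizer ((d k).map π : Subgroup _) := by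
      rw [← Subgroup.commutator_eq_bot_iff_le_centralizer, ← Subgroup.map_commutator, ← hker]; exact hkc
    have h3 : (d k).map π ≤ Subgroup.centralizer (R.map π : Subgroup _) := by
      rw [← Subgroup.commutator_eq_bot_iff_le_centralizer, ← Subgroup.map_commutator,
        Subgroup.commutator_eq_bot_iff_le_centralizer.2 (hdD k), Subgroup.map_bot]
    refine sup_le (Subgroup.le_centralizer_iff.1 (sup_le h1 h3))
      (Subgroup.le_centralizer_iff.1 (sup_le (Subgroup.le_centralizer_iff.1 h3) h2))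
  refine ⟨A, R, hAn, hRn, hAR, fun a ha b hb => (Subgroup.mem_centralizer_iff.1 (hAc ha) b hb).symm,
    fun r hr a ha => (Subgroup.mem_centralizer_iff.1 (hRA hr) a ha).symm, fun r hr s hs => ?_,
    fun x hx => hDle (Subgroup.mem_centralizer_iff.2 fun r hr => (hx r hr).symm)⟩
  exact hRR (Subgroup.commutator_mem_commutator hr hs)

/-- Non-trivial elements of a primitive soluble linear group fix at most three quarters of the space. -/
theorem four_mul_finrank_fix_le [Finite G] [Group.IsSolvable G] (hirr : Irred ρ) (hdec : NoDecomposition ρ)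
    (hρ : Function.Injective ρ) {g : G} (hg : g ≠ 1) :
    4 * Module.finrank F (Module.End.eigenspace (ρ g) 1) ≤ 3 * Module.finrank F V := by
  haveI : Module.Finite F V := Module.Finite.of_finite
  obtain ⟨A, R, hAn, hRn, hAR, hAab, hRA, hRR, hcent⟩ := exists_class_two (G := G)
  have hfix : ∀ a ∈ A, a ≠ 1 → Module.End.eigenspace (ρ a) 1 = ⊥ :=
    fun a ha => fix_eq_bot hirr hdec hρ hAn hAab ha
  let f : G → ℕ := fun x => Module.finrank F (Module.End.eigenspace (ρ x) 1)
  have hstep : ∀ x y : G, 2 * f x ≤ Module.finrank F V + f (x * y * x⁻¹ * y⁻¹) := by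
    intro x y
    set U := Module.End.eigenspace (ρ x) 1
    show 2 * Module.finrank F U ≤ _
    have hU' : Module.finrank F (U.map (ρ y)) = Module.finrank F U :=
      ((Submodule.equivMapOfInjective _ (rho_injective y) _).finrank_eq).symm
    have hle : U ⊓ U.map (ρ y) ≤ Module.End.eigenspace (ρ (x * y * x⁻¹ * y⁻¹)) 1 := by
      rintro v ⟨hv, w, hw, rfl⟩
      rw [SetLike.mem_coe, Module.End.mem_eigenspace_iff, one_smul] at hv hw
      rw [Module.End.mem_eigenspace_iff, one_smul, map_mul, map_mul, map_mul]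
      simp only [Module.End.mul_apply]
      rw [inv_apply]
      conv_lhs => rw [← hw]
      rw [inv_apply]
      conv_rhs => rw [← hv]
    have h1 := Submodule.finrank_sup_add_finrank_inf_eq U (U.map (ρ y))
    have h2 := Submodule.finrank_le (U ⊔ U.map (ρ y))
    have h3 := Submodule.finrank_mono hle
    simp only [f]
    omega
  have hhalf : ∀ x, ∀ y, x * y * x⁻¹ * y⁻¹ ∈ A → x * y ≠ y * x → 2 * f x ≤ Module.finrank F V := by
    intro x y hA hne
    have h0 : f (x * y * x⁻¹ * y⁻¹) = 0 := by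
      simp only [f]
      rw [hfix _ hA (fun h => hne (by
        rw [mul_inv_eq_one, mul_inv_eq_iff_eq_mul] at h; exact h)), finrank_bot]
    have := hstep x y
    omega
  show 4 * f g ≤ _
  by_cases hgC : ∀ a ∈ A, g * a = a * g
  · by_cases hgA : g ∈ A
    · simp only [f]; rw [hfix g hgA hg, finrank_bot]; omega
    · obtain ⟨y, hy, hne⟩ : ∃ y ∈ R, g * y ≠ y * g := by
        by_contra! h
        exact hgA (hcent g h)
      by_cases hcA : g * y * g⁻¹ * y⁻¹ ∈ A
      · have := hhalf g y hcA hne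
        omega
      · have hcR : g * y * g⁻¹ * y⁻¹ ∈ R := R.mul_mem (hRn.conj_mem y hy g) (R.inv_mem hy)
        obtain ⟨z, hz, hne'⟩ : ∃ z ∈ R, (g * y * g⁻¹ * y⁻¹) * z ≠ z * (g * y * g⁻¹ * y⁻¹) := by
          by_contra! h
          exact hcA (hcent _ h)
        have h1 := hhalf _ z (hRR _ hcR z hz) hne'
        have h2 := hstep g y
        omega
  · push Not at hgC
    obtain ⟨a, ha, hne⟩ := hgC
    have := hhalf g a (A.mul_mem (hAn.conj_mem a ha g) (A.inv_mem ha)) hne
    omega

end CfsgLib.Geo.SolvPrim
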