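/-
Any two Sylow 2-subgroups of the symmetric group on 8 letters meet non-trivially (coset certificate).
-/
import Cfsg.Agent.Lib.Geo.SylowEightTable

namespace CfsgLib.Geo.SylowEight

open Equiv

/-- Read the image of x from an octal code. -/
def app (n x : ℕ) : ℕ := n / 8 ^ x % 8

/-- Forward preservation of the two levels of blocks. -/
def fwd (f : ℕ → ℕ) : Bool :=
  (List.range 8).all fun x => (f x / 2 == f (x ^^^ 1) / 2) && (f x / 4 == f (x ^^^ 2) / 4)

def isInv (a b : ℕ) : Bool :=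
  (List.range 8).all fun x => (app a (app b x) == x) && (app b (app a x) == x)

/-- The adjacent swap. -/
def sw (i x : ℕ) : ℕ := if x == i then i + 1 else if x == i + 1 then i else x

def checkEntry : ℕ × ℕ × ℕ × ℕ × List ℕ → Bool
  | (r, ri, g, gi, js) =>
    isInv r ri && isInv g gi && (List.range 8).any (fun x => !(app g x == x)) &&
      fwd (app g) && fwd (app gi) && fwd (fun x => app ri (app g (app r x))) &&
      fwd (fun x => app ri (app gi (app r x))) &&
      (List.range 7).all fun i =>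
        let j := js.getD i 0
        match table[j]? with
        | none => false
        | some (r', ri', _, _, _) =>
          fwd (fun x => app ri' (sw i (app r x))) && fwd (fun x => app ri (sw i (app r' x)))

theorem table_ok : table.all checkEntry = true := by decide +kernel

/-- Pairs preserved. -/
def Fwd (g : Perm (Fin 8)) : Prop :=
  ∀ x y : Fin 8, (x.val / 2 = y.val / 2 → (g x).val / 2 = (g y).val / 2) ∧
    (x.val / 4 = y.val / 4 → (g x).val / 4 = (g y).val / 4)

def P₀ : Subgroup (Perm (Fin 8)) where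
  carrier := {g | Fwd g ∧ Fwd g⁻¹}
  mul_mem' {g h} hg hh := by
    refine ⟨fun x y => ⟨fun e => (hg.1 _ _).1 ((hh.1 x y).1 e), fun e => (hg.1 _ _).2 ((hh.1 x y).2 e)⟩, ?_⟩
    rw [mul_inv_rev]
    exact fun x y => ⟨fun e => (hh.2 _ _).1 ((hg.2 x y).1 e), fun e => (hh.2 _ _).2 ((hg.2 x y).2 e)⟩
  one_mem' := ⟨fun _ _ => ⟨id, id⟩, by rw [inv_one]; exact fun _ _ => ⟨id, id⟩⟩
  inv_mem' {g} hg := ⟨hg.2, by rw [inv_inv]; exact hg.1⟩

theorem two_step {α β : Type*} (f : Fin 8 → α) (f' : Fin 8 → β)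
    (h2 : ∀ a b c, f a = f b → f b = f c → f' a ≠ f' b → f' b ≠ f' c → f' a = f' c)
    (h : Perm (Fin 8)) (h1 : ∀ x, f (h x) = f x) (hf' : ∀ x y, f' x = f' y ↔ f' (h x) = f' (h y)) (x : Fin 8) :
    f' (h (h x)) = f' x := by
  by_cases hx : f' (h x) = f' x
  · rw [((hf' _ _).1 hx), hx]
  · exact h2 _ (h x) _ (h1 _) (h1 x) (fun e => hx ((hf' _ _).2 e)) hx

theorem iff_of_mem {g : Perm (Fin 8)} (hg : g ∈ P₀) (x y : Fin 8) :
    ((x.val / 2 = y.val / 2) ↔ (g x).val / 2 = (g y).val / 2) ∧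
      ((x.val / 4 = y.val / 4) ↔ (g x).val / 4 = (g y).val / 4) :=
  ⟨⟨(hg.1 x y).1, fun e => by simpa using (hg.2 _ _).1 e⟩, ⟨(hg.1 x y).2, fun e => by simpa using (hg.2 _ _).2 e⟩⟩

theorem isPGroup_P₀ : IsPGroup 2 P₀ := by
  rintro ⟨g, hg⟩
  refine ⟨3, Subtype.ext (Equiv.ext fun x => ?_)⟩
  have h4 : ∀ x, ((g * g) x).val / 4 = x.val / 4 := two_step (fun _ => ()) (fun x : Fin 8 => x.val / 4)
    (by decide) g (fun _ => rfl) (fun x y => (iff_of_mem hg x y).2)
  have hg2 := P₀.mul_mem hg hg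
  have h2 : ∀ x, ((g * g * (g * g)) x).val / 2 = x.val / 2 := two_step (fun x : Fin 8 => x.val / 4)
    (fun x : Fin 8 => x.val / 2) (by decide) (g * g) h4 (fun x y => (iff_of_mem hg2 x y).1)
  have h1 := two_step (fun x : Fin 8 => x.val / 2) (fun x : Fin 8 => x) (by decide) (g * g * (g * g)) h2
    (fun x y => ((g * g * (g * g)).injective.eq_iff).symm) x
  show (g ^ 2 ^ 3) x = x
  rw [show g ^ 2 ^ 3 = g * g * (g * g) * (g * g * (g * g)) by simp only [← pow_two, ← pow_mul]; rfl]
  exact h1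

theorem fwd_spec {f : ℕ → ℕ} (g : Perm (Fin 8)) (hfg : ∀ x : Fin 8, (g x).val = f x.val) (h : fwd f = true) :
    Fwd g := by
  simp only [fwd, List.all_eq_true, List.mem_range, Bool.and_eq_true, beq_iff_eq] at h
  have hp : ∀ x y : Fin 8, x.val / 2 = y.val / 2 → (g x).val / 2 = (g y).val / 2 := by
    intro x y e
    have hy : y = x ∨ y.val = x.val ^^^ 1 := (by decide : ∀ x y : Fin 8, x.val / 2 = y.val / 2 → y = x ∨ y.val = x.val ^^^ 1) x y e
    rcases hy with rfl | hy
    · rfl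
    · rw [hfg, hfg, hy]
      exact (h x.val x.2).1
  intro x y
  refine ⟨hp x y, fun e => ?_⟩
  rcases (by decide : ∀ x y : Fin 8, x.val / 4 = y.val / 4 → x.val / 2 = y.val / 2 ∨ (x.val ^^^ 2) / 2 = y.val / 2)
    x y e with e' | e'
  · have := hp x y e'
    omega
  · have h' : (x.val ^^^ 2) < 8 := (by decide : ∀ x : Fin 8, x.val ^^^ 2 < 8) x
    have h1 := hp ⟨_, h'⟩ y e'
    have h2 := (h x.val x.2).2
    rw [hfg, hfg] at h1
    rw [hfg, hfg]
    change f (x.val ^^^ 2) / 2 = f y.val / 2 at h1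
    omega

theorem app_lt (n x : ℕ) : app n x < 8 := Nat.mod_lt _ (by norm_num)

def toPerm (a b : ℕ) (h : isInv a b = true) : Perm (Fin 8) where
  toFun x := ⟨app a x, app_lt _ _⟩
  invFun x := ⟨app b x, app_lt _ _⟩
  left_inv x := by
    simp only [isInv, List.all_eq_true, List.mem_range, Bool.and_eq_true, beq_iff_eq] at h
    exact Fin.ext (h x.val x.2).2
  right_inv x := by
    simp only [isInv, List.all_eq_true, List.mem_range, Bool.and_eq_true, beq_iff_eq] at h
    exact Fin.ext (h x.val x.2).1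

theorem sw_spec (i : Fin 7) : ∀ x : Fin 8, (swap i.castSucc i.succ x).val = sw i.val x.val := by
  revert i
  decide

theorem all_checked {e : ℕ × ℕ × ℕ × ℕ × List ℕ} (he : e ∈ table) : checkEntry e = true :=
  List.all_eq_true.1 table_ok e he

/-- x lies in a coset of the table. -/
def Covered (x : Perm (Fin 8)) : Prop :=
  ∃ e ∈ table, ∃ h : isInv e.1 e.2.1 = true, (toPerm e.1 e.2.1 h)⁻¹ * x ∈ P₀

theorem covered (x : Perm (Fin 8)) : Covered x := by
  have hx : x ∈ Submonoid.closure (Set.range fun i : Fin 7 => swap i.castSucc i.succ) :=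
    (Perm.mclosure_swap_castSucc_succ 7).symm ▸ Submonoid.mem_top x
  induction hx using Submonoid.closure_induction_left with
  | one =>
    have h0 : table[0]? = some (16434824, 16434824, table.head!.2.2) := by decide +kernel
    refine ⟨_, List.mem_of_getElem? h0, by decide +kernel, ?_⟩
    have : toPerm 16434824 16434824 (by decide +kernel) = 1 := by decide +kernel
    rw [this, inv_one, one_mul]
    exact P₀.one_mem
  | mul_left s hs y _ ih =>
    obtain ⟨i, rfl⟩ := hs
    obtain ⟨⟨r, ri, g, gi, js⟩, he, hr, hy⟩ := ih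
    have hc := all_checked he
    simp only [checkEntry, Bool.and_eq_true, List.all_eq_true, List.mem_range] at hc
    have hi := hc.2 i.val i.2
    simp only [List.getD_eq_getElem?_getD] at hi
    rcases hj : table[js[i.val]?.getD 0]? with _ | ⟨r', ri', g', gi', js'⟩
    · simp [hj] at hi
    · simp only [hj, Bool.and_eq_true] at hi
      have he' := List.mem_of_getElem? hj
      have hc' := all_checked he'
      simp only [checkEntry, Bool.and_eq_true] at hc'
      have hr' : isInv r' ri' = true := hc'.1.1.1.1.1.1.1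
      refine ⟨_, he', hr', ?_⟩
      have hmem : (toPerm r' ri' hr')⁻¹ * (swap i.castSucc i.succ * toPerm r ri hr) ∈ P₀ := by
        refine ⟨fwd_spec _ (fun x => ?_) hi.1, fwd_spec _ (fun x => ?_) hi.2⟩
        · show app ri' (swap i.castSucc i.succ _).val = _
          rw [sw_spec]
          rfl
        · rw [mul_inv_rev, mul_inv_rev, inv_inv, swap_inv]
          show app ri (swap i.castSucc i.succ _).val = _
          rw [sw_spec]
          rfl
      have := P₀.mul_mem hmem hy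
      convert this using 1
      group

theorem exists_common (x : Perm (Fin 8)) : ∃ g : Perm (Fin 8), g ≠ 1 ∧ g ∈ P₀ ∧ x⁻¹ * g * x ∈ P₀ := by
  obtain ⟨⟨r, ri, g, gi, js⟩, he, hr, hx⟩ := covered x
  have hc := all_checked he
  simp only [checkEntry, Bool.and_eq_true] at hc
  obtain ⟨⟨⟨⟨⟨⟨⟨-, hg⟩, hne⟩, f1⟩, f2⟩, f3⟩, f4⟩, -⟩ := hc
  have hk : (toPerm r ri hr)⁻¹ * toPerm g gi hg * toPerm r ri hr ∈ P₀ := by
    refine ⟨fwd_spec _ (fun x => rfl) f3, ?_⟩
    rw [mul_inv_rev, mul_inv_rev, inv_inv]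
    exact fwd_spec _ (fun x => rfl) f4
  refine ⟨toPerm g gi hg, fun h1 => ?_, ⟨fwd_spec _ (fun x => rfl) f1, fwd_spec _ (fun x => rfl) f2⟩, ?_⟩
  · simp only [List.any_eq_true, List.mem_range, Bool.not_eq_true', beq_eq_false_iff_ne] at hne
    obtain ⟨z, hz, hz'⟩ := hne
    exact hz' (congrArg Fin.val (Equiv.congr_fun h1 ⟨z, hz⟩))
  · have := P₀.mul_mem (P₀.mul_mem (P₀.inv_mem hx) hk) hx
    convert this using 1
    group

theorem sylow_inf_conj_ne_bot (H : Sylow 2 (Perm (Fin 8))) (x : Perm (Fin 8)) :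
    (H : Subgroup (Perm (Fin 8))) ⊓ (H : Subgroup (Perm (Fin 8))).map (MulAut.conj x).toMonoidHom ≠ ⊥ := by
  obtain ⟨Q, hQ⟩ := isPGroup_P₀.exists_le_sylow
  obtain ⟨a, ha⟩ := MulAction.exists_smul_eq (Perm (Fin 8)) Q H
  have hmem : ∀ p ∈ P₀, a * p * a⁻¹ ∈ (H : Subgroup (Perm (Fin 8))) := by
    intro p hp
    rw [← ha, Sylow.coe_subgroup_smul, Subgroup.mem_pointwise_smul_iff_inv_smul_mem, ← map_inv, MulAut.smul_def,
      MulAut.conj_apply]
    convert hQ hp using 1
    group
  obtain ⟨g, hg1, hg, hgx⟩ := exists_common (a⁻¹ * x * a)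
  intro hbot
  apply hg1
  have h : a * g * a⁻¹ ∈ (⊥ : Subgroup (Perm (Fin 8))) := by
    rw [← hbot]
    exact ⟨hmem g hg, _, hmem _ hgx, by rw [MulEquiv.coe_toMonoidHom, MulAut.conj_apply]; group⟩
  rw [Subgroup.mem_bot] at h
  exact (conj_eq_one_iff).1 h

end CfsgLib.Geo.SylowEight
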