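/-
Elements of prime order outside the conjugates of field-extension subgroups of symplectic groups.
-/
import Cfsg.Agent.Lib.Geo.PrimeSympElements
import Cfsg.Agent.Lib.Geo.FieldExtSympAlg
import Cfsg.Agent.Lib.Geo.FieldExtBasic
import Cfsg.Agent.Lib.Classical.Symplectic.Order
import Mathlib.FieldTheory.Galois.Basic

set_option autoImplicit false

namespace CfsgLib.Geo.SympFieldDer

open Module Matrix CfsgLib.Geo.PrimeAct CfsgLib.Geo.PrimeSp
open LinearMap (BilinForm)
open CfsgLib.Classical.Symp (sympBil sympBil_apply sympBil_isAlt sympBil_nondegenerate finrank_sympSpace)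

/-! ### Semilinear maps -/

section Semilinear

variable {F K V : Type*} [Field F] [Field K] [Algebra F K] [AddCommGroup V] [Module F V] [Module K V]
variable [IsScalarTower F K V]

/-- A nontrivial automorphism of an extension of prime degree fixes only the ground field. -/
theorem fixed_mem_range [FiniteDimensional F K] (hr : (finrank F K).Prime) (σ : K →ₐ[F] K) (hσ : ∃ c, σ c ≠ c)
    {c : K} (hc : σ c = c) : c ∈ Set.range (algebraMap F K) := by
  let E : Subalgebra F K := AlgHom.equalizer σ (AlgHom.id F K)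
  have hcE : c ∈ E := hc
  have hfield : IsField E := Subalgebra.isField_of_algebraic E
  letI : Field E := hfield.toField
  have hmul := finrank_mul_finrank F E K
  rcases hr.eq_one_or_self_of_dvd (finrank F E) ⟨_, hmul.symm⟩ with h | h
  · exact Algebra.mem_bot.1 (Subalgebra.eq_bot_of_finrank_one h ▸ hcE)
  · obtain ⟨w, hw⟩ := hσ
    have htop : Subalgebra.toSubmodule E = ⊤ := Submodule.eq_top_of_finrank_eq h
    exact absurd (htop.ge (Submodule.mem_top : w ∈ (⊤ : Submodule F K))) hw

/-- Fixed points of a semilinear map are few. -/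
theorem finrank_fix_le [FiniteDimensional F V] [FiniteDimensional K V] (T : V →ₗ[F] V) (σ : K → K)
    (hσ : ∀ (c : K) v, T (c • v) = σ c • T v) (hfix : ∀ c, σ c = c → c ∈ Set.range (algebraMap F K)) :
    finrank F (fixSp T) ≤ finrank K V := by
  have key : ∀ (n : ℕ) (v : Fin n → V), (∀ i, T (v i) = v i) → LinearIndependent F v → LinearIndependent K v := by
    intro n
    induction n with
    | zero => intro v _ _; exact linearIndependent_empty_type
    | succ n ih =>
      intro v hv hli
      have hli' : LinearIndependent F (Fin.tail v) := hli.comp Fin.succ (Fin.succ_injective n)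
      have hind := ih (Fin.tail v) (fun i => hv i.succ) hli'
      rw [← Fin.cons_self_tail v, linearIndependent_finCons]
      refine ⟨hind, fun hmem => ?_⟩
      obtain ⟨c, hc⟩ := (Submodule.mem_span_range_iff_exists_fun K).1 hmem
      have hfx : ∑ i, σ (c i) • Fin.tail v i = ∑ i, c i • Fin.tail v i := by
        conv_rhs => rw [hc, ← hv 0, ← hc, map_sum]
        exact Finset.sum_congr rfl fun i _ => by rw [hσ, show T (Fin.tail v i) = Fin.tail v i from hv i.succ]
      have hcc : ∀ i, σ (c i) = c i := fun i => by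
        have h := Fintype.linearIndependent_iff.1 hind (fun j => σ (c j) - c j)
          (by simp only [sub_smul, Finset.sum_sub_distrib, hfx, sub_self]) i
        exact sub_eq_zero.1 h
      choose a ha using fun i => hfix _ (hcc i)
      rw [← Fin.cons_self_tail v, linearIndependent_finCons] at hli
      refine hli.2 ((Submodule.mem_span_range_iff_exists_fun F).2 ⟨a, ?_⟩)
      rw [← hc]
      exact Finset.sum_congr rfl fun i _ => by rw [← ha i, algebraMap_smul]
  have hb := Module.finBasis F (fixSp T)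
  have h := key _ (fun i => (hb i : V)) (fun i => mem_fixSp.1 (hb i).2)
    (hb.linearIndependent.map' (fixSp T).subtype (Submodule.ker_subtype _))
  simpa using h.fintype_card_le_finrank

variable [Finite F] [FiniteDimensional F K] [FiniteDimensional F V] [FiniteDimensional K V]

/-- Rest spaces of linear isometries have even dimension over the large field. -/
theorem rest_dvd {B : BilinForm K V} (hA : B.IsAlt) (hn : ∀ u, (∀ v, B u v = 0) → u = 0) (T : V →ₗ[F] V) {r : ℕ}
    (hr : T ^ r = 1) (hrF : (r : F) ≠ 0) (hlin : ∀ (c : K) v, T (c • v) = c • T v)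
    (hT : ∀ u v, B (T u) (T v) = B u v) : 2 * finrank F K ∣ finrank F (restSp r T) := by
  let TK : V →ₗ[K] V := { toFun := T, map_add' := T.map_add, map_smul' := hlin }
  have hk : ∀ (j : ℕ) v, (TK ^ j) v = (T ^ j) v := fun j => by
    induction j with
    | zero => intro v; rfl
    | succ j ih => intro v; rw [pow_succ', pow_succ', Module.End.mul_apply, Module.End.mul_apply, ih]; rfl
  have hrK : TK ^ r = 1 := LinearMap.ext fun v => by rw [hk, hr]; rfl
  have hrK0 : (r : K) ≠ 0 := by
    rw [← map_natCast (algebraMap F K)]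
    exact (map_ne_zero _).2 hrF
  have hmem : ∀ v, v ∈ restSp r TK ↔ v ∈ restSp r T := fun v => by
    show orbitSum r TK v = 0 ↔ orbitSum r T v = 0
    simp [orbitSum, LinearMap.sum_apply, hk]
  obtain ⟨m, hm⟩ := even_finrank hA (restSp r TK) (rest_nondeg hrK hrK0 hT hn)
  have heq : finrank F (restSp r T) = finrank F (restSp r TK) := by
    have h : (restSp r TK).restrictScalars F = restSp r T := Submodule.ext fun v => hmem v
    rw [← h]
    exact (LinearEquiv.refl F (restSp r TK)).finrank_eq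
  rw [heq, ← finrank_mul_finrank F K (restSp r TK), hm]
  exact ⟨m, by ring⟩

end Semilinear

/-! ### The field subalgebra -/

section Matrices

variable {F : Type*} [Field F] [Fintype F] {d k : ℕ}

theorem prod_split (f : ℕ → ℕ) (m : ℕ) (hk : 0 < k) :
    ∏ l ∈ Finset.range (k * m), f (l + 1) =
      (∏ l ∈ Finset.range m, f (k * (l + 1))) *
        ∏ l ∈ (Finset.range (k * m)).filter (fun l => ¬ k ∣ l + 1), f (l + 1) := by
  rw [← Finset.prod_filter_mul_prod_filter_not (Finset.range (k * m)) (fun l => k ∣ l + 1)]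
  congr 1
  symm
  refine Finset.prod_nbij (fun l => k * (l + 1) - 1) (fun l hl => ?_) (fun l _ l' _ h => ?_) (fun j hj => ?_)
    (fun l hl => ?_)
  · have h1 : 0 < k * (l + 1) := Nat.mul_pos hk (Nat.succ_pos l)
    have h2 : k * (l + 1) ≤ k * m := Nat.mul_le_mul_left k (Finset.mem_range.1 hl)
    rw [Finset.mem_filter, Finset.mem_range]
    refine ⟨by omega, ?_⟩
    rw [Nat.sub_add_cancel h1]
    exact dvd_mul_right _ _
  · have h1 : 0 < k * (l + 1) := Nat.mul_pos hk (Nat.succ_pos l)
    have h1' : 0 < k * (l' + 1) := Nat.mul_pos hk (Nat.succ_pos l')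
    simp only at h
    have : k * (l + 1) = k * (l' + 1) := by omega
    have := Nat.eq_of_mul_eq_mul_left hk this
    omega
  · rw [Finset.coe_filter, Set.mem_setOf_eq, Finset.mem_range] at hj
    obtain ⟨hj, j', hj'⟩ := hj
    have hj0 : 0 < j' := Nat.pos_of_ne_zero fun h => by simp [h] at hj'
    have h2 : k * j' ≤ k * m := by omega
    have := Nat.le_of_mul_le_mul_left h2 hk
    refine ⟨j' - 1, Finset.mem_coe.2 (Finset.mem_range.2 (by omega)), ?_⟩
    show k * (j' - 1 + 1) - 1 = j
    rw [Nat.sub_add_cancel hj0]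
    omega
  · rw [Nat.sub_add_cancel (Nat.mul_pos hk (Nat.succ_pos l))]

/-- There are elements of order `r` with no conjugate normalising the field, outside one exceptional case. -/
theorem exists_derangement {p : ℕ} [Fact p.Prime] [CharP F p] (hd : 2 ≤ d) (hk : k.Prime)
    (K : Subalgebra F (Matrix (Fin d ⊕ Fin d) (Fin d ⊕ Fin d) F)) (hK : Cfsg.Geo.IsFieldSubalgebra k K)
    (hsa : Cfsg.Geo.IsSelfAdjointFor (Cfsg.sympForm d F) K)
    (halt : ∀ a ∈ K, ∀ v : Fin d ⊕ Fin d → F, Cfsg.sympForm d F (a *ᵥ v) v = 0)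
    {r : ℕ} [Fact r.Prime] (hΩ : r ∣ (Cfsg.Geo.subalgebraNormalizer K).relIndex (Cfsg.spGL d F))
    (hexc : r = p ∨ ¬ (r = 2 ∧ d = 2 ∧ k = 2)) :
    ∃ x ∈ Cfsg.spGL d F, x ^ r = 1 ∧ (∀ z : F, (x : Matrix (Fin d ⊕ Fin d) (Fin d ⊕ Fin d) F) ≠ z • 1) ∧
      ∀ g ∈ Cfsg.spGL d F, g⁻¹ * x * g ∉ Cfsg.Geo.subalgebraNormalizer K := by
  classical
  haveI : Nonempty (Fin d ⊕ Fin d) := ⟨Sum.inl ⟨0, by omega⟩⟩
  have hKf : IsField K := ⟨⟨0, 1, zero_ne_one⟩, fun a b => Subtype.ext (hK.comm a.1 a.2 b.1 b.2), fun {a} ha => by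
    obtain ⟨y, hy, e⟩ := hK.inv a.1 a.2 (fun h => ha (Subtype.ext h))
    exact ⟨⟨y, hy⟩, Subtype.ext e⟩⟩
  letI : Field K := @IsField.toField K (inferInstance : Ring K) hKf
  letI : Module K (Fin d ⊕ Fin d → F) :=
    { smul := fun a v => (a : Matrix (Fin d ⊕ Fin d) (Fin d ⊕ Fin d) F) *ᵥ v
      one_smul := fun v => Matrix.one_mulVec v
      mul_smul := fun a b v => (Matrix.mulVec_mulVec v (a : Matrix (Fin d ⊕ Fin d) (Fin d ⊕ Fin d) F) b).symm
      smul_zero := fun a => Matrix.mulVec_zero _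
      smul_add := fun a u v => Matrix.mulVec_add _ u v
      add_smul := fun a b v => Matrix.add_mulVec _ _ v
      zero_smul := fun v => Matrix.zero_mulVec v }
  haveI : IsScalarTower F K (Fin d ⊕ Fin d → F) :=
    ⟨fun c a v => Matrix.smul_mulVec c (a : Matrix (Fin d ⊕ Fin d) (Fin d ⊕ Fin d) F) v⟩
  haveI : FiniteDimensional F K := Module.finite_of_finrank_pos (by rw [hK.finrank_eq]; exact hk.pos)
  haveI : FiniteDimensional K (Fin d ⊕ Fin d → F) := Module.Finite.of_restrictScalars_finite F K _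
  haveI : Finite K := Finite.of_injective _ Subtype.val_injective
  set f := sympBil d F
  have hf : ∀ u v, f u v = Cfsg.sympForm d F u v := fun u v => sympBil_apply ..
  obtain ⟨μ, hμ⟩ := CfsgLib.Geo.FieldExt.exists_functional' (K := F) (V := K) (u := (1 : K)) one_ne_zero
  let Φ : (Fin d ⊕ Fin d → F) → (Fin d ⊕ Fin d → F) → (K →ₗ[F] F) := fun u v =>
    { toFun := fun a => f (a • u) v
      map_add' := fun a b => by rw [add_smul, map_add, LinearMap.add_apply]
      map_smul' := fun s a => by rw [smul_assoc, map_smul, LinearMap.smul_apply, RingHom.id_apply] }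
  choose b hb using fun u v => CfsgLib.Geo.FieldExtSymp.exists_eq_mul hμ (Φ u v)
  have hb' : ∀ u v (a : K), f (a • u) v = μ (b u v * a) := hb
  have huniq : ∀ {x y : K}, (∀ a, μ (x * a) = μ (y * a)) → x = y := fun h =>
    sub_eq_zero.1 (CfsgLib.Geo.FieldExtSymp.eq_zero_of_forall hμ fun a => by rw [sub_mul, map_sub, h, sub_self])
  have hsa' : ∀ (a : K) u v, f (a • u) v = f u (a • v) := fun a u v => by rw [hf, hf]; exact hsa a.1 a.2 u v
  have badd : ∀ u u' v, b (u + u') v = b u v + b u' v := fun u u' v => huniq fun a => by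
    rw [add_mul, map_add, ← hb', ← hb', ← hb', smul_add, map_add, LinearMap.add_apply]
  have bsmul : ∀ (c : K) u v, b (c • u) v = c * b u v := fun c u v => huniq fun a => by
    rw [← hb', show c * b u v * a = b u v * (a * c) by ring, ← hb', smul_smul]
  let B : BilinForm K (Fin d ⊕ Fin d → F) := LinearMap.mk₂ K b badd bsmul
    (fun u v v' => huniq fun a => by rw [add_mul, map_add, ← hb', ← hb', ← hb', map_add])
    (fun c u v => huniq fun a => by
      rw [smul_eq_mul, ← hb', show c * b u v * a = b u v * (c * a) by ring, ← hb', hsa', hsa' (c * a), smul_smul,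
        mul_comm c a])
  have hB : ∀ u v, μ (B u v) = f u v := fun u v => by
    show μ (b u v) = _
    rw [← one_smul K u, hb', one_smul, mul_one]
  have hA : B.IsAlt := fun v => CfsgLib.Geo.FieldExtSymp.eq_zero_of_forall hμ fun a => by
    show μ (b v v * a) = 0
    rw [← hb', hf]
    exact halt a.1 a.2 v
  have hn : ∀ u, (∀ v, B u v = 0) → u = 0 := fun u hu =>
    (sympBil_nondegenerate d F).1 u fun v => by rw [← hB, hu, map_zero]
  have hnd : B.Nondegenerate := ⟨hn, fun v hv =>
    (sympBil_nondegenerate d F).2 v fun u => by rw [← hB, hv, map_zero]⟩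
  -- the dimension over the large field
  obtain ⟨m, hm⟩ : ∃ m, finrank K (Fin d ⊕ Fin d → F) = 2 * m := by
    obtain ⟨m, hm⟩ := even_finrank hA ⊤ (fun u _ h => hn u fun v => h v Submodule.mem_top)
    rw [finrank_top] at hm
    exact ⟨m, by omega⟩
  have hdm : d = k * m := by
    have h := finrank_mul_finrank F K (Fin d ⊕ Fin d → F)
    rw [hK.finrank_eq, hm, finrank_pi, Fintype.card_sum, Fintype.card_fin] at h
    have : k * (2 * m) = 2 * (k * m) := by ring
    omega
  -- semilinearity of the normaliser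
  have hsemi : ∀ g ∈ Cfsg.Geo.subalgebraNormalizer K, ∃ σ : K →ₐ[F] K,
      ∀ (c : K) v, toEnd g (c • v) = σ c • toEnd g v := by
    intro g hg
    let G : Matrix (Fin d ⊕ Fin d) (Fin d ⊕ Fin d) F := g.val
    let G' : Matrix (Fin d ⊕ Fin d) (Fin d ⊕ Fin d) F := (g⁻¹).val
    have h1 : G * G' = 1 := g.mul_inv
    have h2 : G' * G = 1 := g.inv_mul
    let σ : K →ₐ[F] K :=
      { toFun := fun c => ⟨G * c.1 * G', (hg c.1).1 c.2⟩
        map_one' := Subtype.ext (by show G * 1 * G' = 1; rw [mul_one, h1])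
        map_mul' := fun a c => Subtype.ext (by
          show G * (a.1 * c.1) * G' = G * a.1 * G' * (G * c.1 * G')
          rw [show G * a.1 * G' * (G * c.1 * G') = G * a.1 * (G' * G) * c.1 * G' by simp only [mul_assoc], h2,
            mul_one, ← mul_assoc G])
        map_zero' := Subtype.ext (by show G * 0 * G' = 0; simp)
        map_add' := fun a c => Subtype.ext (by show G * (a.1 + c.1) * G' = _; rw [mul_add, add_mul]; rfl)
        commutes' := fun s => Subtype.ext (by
          show G * algebraMap F _ s * G' = algebraMap F _ s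
          rw [← Algebra.commutes, mul_assoc, h1, mul_one]) }
    refine ⟨σ, fun c v => ?_⟩
    show toEnd g (c.1 *ᵥ v) = (G * c.1 * G') *ᵥ toEnd g v
    simp only [toEnd_apply, Matrix.mulVec_mulVec]
    rw [mul_assoc _ G', show G' * (g : Matrix (Fin d ⊕ Fin d) (Fin d ⊕ Fin d) F) = 1 from h2, mul_one]
  have hfixed : ∀ σ : K →ₐ[F] K, (∃ c, σ c ≠ c) → ∀ c, σ c = c → c ∈ Set.range (algebraMap F K) :=
    fun σ hσ c hc => fixed_mem_range (by rw [hK.finrank_eq]; exact hk) σ hσ hc
  have hBeq : ∀ y ∈ Cfsg.spGL d F, (∀ (c : K) v, toEnd y (c • v) = c • toEnd y v) →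
      ∀ u v, B (toEnd y u) (toEnd y v) = B u v := fun y hy hlin u v => by
    show b _ _ = b u v
    refine huniq fun a => ?_
    rw [← hb', ← hb', ← hlin]
    exact mem_sp hy _ _
  by_cases hrp : r = p
  · -- transvections
    subst hrp
    obtain ⟨x, a, hx, ha, hxv, hxp⟩ := exists_transvection (F := F) (show 0 < d by omega)
    obtain ⟨v₀, hv₀⟩ : ∃ v, f v a = 1 := by
      obtain ⟨v, hv⟩ : ∃ v, f v a ≠ 0 := by
        by_contra! hc
        exact ha ((sympBil_nondegenerate d F).2 a hc)
      exact ⟨(f v a)⁻¹ • v, by rw [map_smul, LinearMap.smul_apply, smul_eq_mul, inv_mul_cancel₀ hv]⟩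
    refine ⟨x, hx, hxp r, fun z hz => ?_, fun g hg hy => ?_⟩
    · have h1 : ∀ v, toEnd x v = z • v := fun v => by
        rw [toEnd_apply, hz, Matrix.smul_mulVec, Matrix.one_mulVec]
      have hz1 : z • a = a := by rw [← h1, hxv, sympBil_isAlt d F a, zero_smul, add_zero]
      have hz : z = 1 := smul_left_injective F ha (hz1.trans (one_smul F a).symm)
      have h3 := hxv v₀
      rw [h1, hz, one_smul, show sympBil d F v₀ a = 1 from hv₀, one_smul, left_eq_add] at h3
      exact ha h3
    · set y := g⁻¹ * x * g with hy'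
      have hgg : ∀ v, toEnd g⁻¹ (toEnd g v) = v := fun v => by simp [Matrix.mulVec_mulVec]
      have hgg' : ∀ v, toEnd g (toEnd g⁻¹ v) = v := fun v => by simp [Matrix.mulVec_mulVec]
      set w := toEnd g⁻¹ a
      have hw : w ≠ 0 := fun h => ha (by rw [← hgg' a, show toEnd g⁻¹ a = 0 from h, map_zero])
      have hyv : ∀ v, toEnd y v = v + f (toEnd g v) a • w := fun v => by
        rw [hy', toEnd_conj, hxv, map_add, map_smul, hgg]
      obtain ⟨σ, hσ⟩ := hsemi y hy
      by_cases hσ1 : ∀ c, σ c = c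
      · have hK1 : ∀ c : K, ∃ s : F, algebraMap F K s = c := fun c => by
          refine ⟨f (toEnd g (c • toEnd g⁻¹ v₀)) a, ?_⟩
          have h3 := hσ c (toEnd g⁻¹ v₀)
          rw [hσ1, hyv, hyv, hgg', hv₀, one_smul, smul_add, add_right_inj, ← algebraMap_smul K] at h3
          exact smul_left_injective K hw h3
        have h1 : finrank F K ≤ 1 := by
          have h := LinearMap.finrank_range_le (Algebra.linearMap F K)
          rw [LinearMap.range_eq_top.2 (show Function.Surjective (Algebra.linearMap F K) from hK1), finrank_top,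
            finrank_self] at h
          exact h
        rw [hK.finrank_eq] at h1
        have := hk.two_le
        omega
      · rw [not_forall] at hσ1
        have h1 := finrank_fix_le (toEnd y) σ hσ (hfixed σ hσ1)
        have h2 : LinearMap.ker ((f.flip a) ∘ₗ toEnd g) ≤ fixSp (toEnd y) := fun v hv => mem_fixSp.2 (by
          rw [hyv, show f (toEnd g v) a = 0 from hv, zero_smul, add_zero])
        have h3 := Submodule.finrank_mono h2
        have h4 := LinearMap.finrank_range_add_finrank_ker ((f.flip a) ∘ₗ toEnd g)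
        have h5 := (Submodule.finrank_le (LinearMap.range ((f.flip a) ∘ₗ toEnd g))).trans_eq (finrank_self F)
        rw [finrank_pi, Fintype.card_sum, Fintype.card_fin] at h4
        rw [hm] at h1
        have h6 : 2 * m ≤ d := by rw [hdm]; exact Nat.mul_le_mul_right m hk.two_le
        omega
  -- semisimple elements
  have hrF : (r : F) ≠ 0 := fun h =>
    hrp ((Nat.prime_dvd_prime_iff_eq Fact.out Fact.out).1 ((CharP.cast_eq_zero_iff F p r).1 h)).symm
  have hrq : ¬ r ∣ Fintype.card F := fun h => by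
    obtain ⟨n, -, hn'⟩ := FiniteField.card F p
    rw [hn'] at h
    exact hrp ((Nat.prime_dvd_prime_iff_eq Fact.out Fact.out).1 ((Fact.out : r.Prime).dvd_of_dvd_pow h))
  -- a factor of the index
  obtain ⟨l, hl, hkl, hrl⟩ : ∃ l < d, ¬ k ∣ l + 1 ∧ r ∣ Fintype.card F ^ (2 * (l + 1)) - 1 := by
    let ψ : CfsgLib.Classical.Symp.Sp B →* GL (Fin d ⊕ Fin d) F :=
      { toFun := fun e => ofEquiv ((e : (Fin d ⊕ Fin d → F) ≃ₗ[K] (Fin d ⊕ Fin d → F)).restrictScalars F)
        map_one' := toEnd_injective (by rw [toEnd_ofEquiv, toEnd_one]; rfl)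
        map_mul' := fun e e' => toEnd_injective (by rw [toEnd_ofEquiv, toEnd_mul, toEnd_ofEquiv, toEnd_ofEquiv]; rfl) }
    have hψv : ∀ e v, toEnd (ψ e) v = (e : (Fin d ⊕ Fin d → F) ≃ₗ[K] (Fin d ⊕ Fin d → F)) v := fun e v => by
      show toEnd (ofEquiv _) v = _
      rw [toEnd_ofEquiv]
      rfl
    have hψ : Function.Injective ψ := fun e e' h =>
      Subtype.ext (LinearEquiv.ext fun v => by rw [← hψv, ← hψv, h])
    have hle : ψ.range ≤ Cfsg.Geo.subalgebraNormalizer K ⊓ Cfsg.spGL d F := by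
      rintro _ ⟨e, rfl⟩
      refine ⟨fun a => ?_, mem_sp_iff.2 fun u v => ?_⟩
      · have hcomm : ∀ a ∈ K, (ψ e).val * a = a * (ψ e).val := fun a ha => by
          refine Matrix.toLin'.injective (LinearMap.ext fun v => ?_)
          rw [Matrix.toLin'_mul, Matrix.toLin'_mul, LinearMap.comp_apply, LinearMap.comp_apply]
          show toEnd (ψ e) _ = Matrix.toLin' a (toEnd (ψ e) v)
          rw [Matrix.toLin'_apply, Matrix.toLin'_apply, hψv, hψv]
          exact (e : (Fin d ⊕ Fin d → F) ≃ₗ[K] (Fin d ⊕ Fin d → F)).map_smul ⟨a, ha⟩ v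
        refine ⟨fun ha => by rw [hcomm a ha, Units.mul_inv_cancel_right]; exact ha, fun ha => ?_⟩
        have h1 := hcomm _ ha
        rw [Units.inv_mul_cancel_right] at h1
        have h2 := (Units.mul_right_inj (ψ e)).1 h1
        rw [h2] at ha
        exact ha
      · rw [hψv, hψv, show sympBil d F = f from rfl, ← hB, ← hB]
        exact congrArg μ (e.2 u v)
    set H := (Cfsg.Geo.subalgebraNormalizer K).subgroupOf (Cfsg.spGL d F)
    obtain ⟨t, ht⟩ := Subgroup.card_dvd_of_le (H := ψ.range.subgroupOf (Cfsg.spGL d F)) (K := H)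
      fun g hg => (hle hg).1
    obtain ⟨s, hs⟩ := hΩ
    have hC : Nat.card (ψ.range.subgroupOf (Cfsg.spGL d F)) = Nat.card (CfsgLib.Classical.Symp.Sp B) := by
      rw [Nat.card_congr (Subgroup.subgroupOfEquivOfLe (hle.trans inf_le_right)).toEquiv,
        ← Nat.card_congr (MonoidHom.ofInjective hψ).toEquiv]
    have hcard : Nat.card (Cfsg.spGL d F) = Nat.card (CfsgLib.Classical.Symp.Sp B) * t * (r * s) := by
      rw [← Subgroup.card_mul_index H, ht, hC, ← hs]
      rfl
    have hKcard : Nat.card K = Fintype.card F ^ k := by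
      rw [Module.natCard_eq_pow_finrank (K := F), hK.finrank_eq, Nat.card_eq_fintype_card]
    rw [← Nat.card_congr (CfsgLib.Classical.Symp.symplecticEquivSpGL d F).toEquiv,
      CfsgLib.Classical.Symp.card_symplecticGroup, CfsgLib.Classical.Symp.card_Sp hA hnd m hm, hKcard] at hcard
    set q := Fintype.card F
    have hq : 1 < q := Fintype.one_lt_card
    have hsplit := prod_split (fun j => q ^ (2 * j) - 1) m hk.pos
    rw [← hdm] at hsplit
    rw [hsplit] at hcard
    have hprod : ∀ l ∈ Finset.range m, (q ^ k) ^ (2 * (l + 1)) - 1 = q ^ (2 * (k * (l + 1))) - 1 := fun l _ => by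
      rw [← pow_mul, mul_left_comm]
    rw [Finset.prod_congr rfl hprod] at hcard
    have hP : ∏ l ∈ Finset.range m, (q ^ (2 * (k * (l + 1))) - 1) ≠ 0 := Finset.prod_ne_zero_iff.2 fun l _ h => by
      have h1 : 2 ≤ q ^ (2 * (k * (l + 1))) :=
        le_trans hq (Nat.le_self_pow (Nat.mul_ne_zero two_ne_zero (Nat.mul_ne_zero hk.ne_zero (Nat.succ_ne_zero l))) q)
      omega
    have key : q ^ (d ^ 2) * ∏ l ∈ (Finset.range d).filter (fun l => ¬ k ∣ l + 1), (q ^ (2 * (l + 1)) - 1) =
        r * ((q ^ k) ^ (m ^ 2) * t * s) := mul_left_cancel₀ hP (by linear_combination hcard)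
    have hr' : r ∣ q ^ (d ^ 2) * ∏ l ∈ (Finset.range d).filter (fun l => ¬ k ∣ l + 1), (q ^ (2 * (l + 1)) - 1) :=
      ⟨_, key⟩
    rcases (Fact.out : r.Prime).dvd_mul.1 hr' with h | h
    · exact absurd ((Fact.out : r.Prime).dvd_of_dvd_pow h) hrq
    · obtain ⟨l, hl, h⟩ := ((Fact.out : r.Prime).prime.dvd_finset_prod_iff _).1 h
      rw [Finset.mem_filter, Finset.mem_range] at hl
      exact ⟨l, hl.1, hl.2, h⟩
  obtain ⟨hi0, -, hcdvd, hcle⟩ := order_bound (d := d) hrl hl
  obtain ⟨c, hc⟩ : ∃ c, Nat.lcm 2 (orderOf (Nat.card F : ZMod r)) = c := ⟨_, rfl⟩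
  obtain ⟨x, hx, hxr, -, hrest⟩ := exists_element (d := d) hrF hi0 hcle
  rw [hc] at hrest hcdvd hcle
  have hc0 : 0 < c := hc ▸ Nat.lcm_pos two_pos hi0
  have hc2 : r = 2 → c = 2 := by
    rintro rfl
    have h1 : ((Nat.card F : ℕ) : ZMod 2) = 1 := by
      have h0 : ((Nat.card F : ℕ) : ZMod 2) ≠ 0 := by
        rw [Ne, ZMod.natCast_eq_zero_iff, Nat.card_eq_fintype_card]
        exact hrq
      exact (by decide : ∀ z : Fin 2, z ≠ 0 → z = 1) _ h0
    rw [← hc, h1, orderOf_one]
    rfl
  refine ⟨x, hx, hxr, fun z => ne_scalar_of_rest hrF (show 0 < d by omega) hx hxr (by omega) ?_ z,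
    fun g hg hy => ?_⟩
  · by_cases h : r = 2
    · exact Or.inr (by rw [hrest, hc2 h]; omega)
    · exact Or.inl h
  set y := g⁻¹ * x * g with hy'
  have hysp : y ∈ Cfsg.spGL d F := mul_mem (mul_mem (inv_mem hg) hx) hg
  have hyr : y ^ r = 1 := by
    rw [show y = g⁻¹ * x * (g⁻¹)⁻¹ by rw [inv_inv], conj_pow, hxr, mul_one, mul_inv_cancel]
  have hyr' : toEnd y ^ r = 1 := by rw [← toEnd_pow, hyr, toEnd_one]
  have hsum := finrank_rest hyr hrF
  rw [Fintype.card_sum, Fintype.card_fin] at hsum
  have hrest' : finrank F (restSp r (toEnd y)) = c := by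
    have h1 := finrank_rest hxr hrF
    rw [Fintype.card_sum, Fintype.card_fin] at h1
    rw [hy', finrank_fixSp_conj, ← hy'] at hsum
    omega
  obtain ⟨σ, hσ⟩ := hsemi y hy
  by_cases hσ1 : ∀ a, σ a = a
  · have hlin : ∀ (a : K) v, toEnd y (a • v) = a • toEnd y v := fun a v => by rw [hσ, hσ1]
    have h1 := rest_dvd hA hn (toEnd y) hyr' hrF hlin (hBeq y hysp hlin)
    rw [hrest', hK.finrank_eq] at h1
    exact hkl (Nat.dvd_of_mul_dvd_mul_left two_pos (h1.trans hcdvd))
  rw [not_forall] at hσ1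
  have hσk : ∀ (j : ℕ) (a : K) v, (toEnd y ^ j) (a • v) = ((σ ^ j) a) • (toEnd y ^ j) v := fun j => by
    induction j with
    | zero => intro a v; rfl
    | succ j ih =>
      intro a v
      rw [pow_succ', Module.End.mul_apply, ih, hσ, pow_succ', Module.End.mul_apply]
      rfl
  have hσr : σ ^ r = 1 := by
    refine AlgHom.ext fun a => ?_
    have h1 := hσk r a
    obtain ⟨v, hv⟩ := exists_ne (0 : Fin d ⊕ Fin d → F)
    have h2 := h1 v
    rw [hyr', Module.End.one_apply, Module.End.one_apply] at h2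
    exact (smul_left_injective K hv h2).symm
  let τ : K ≃ₐ[F] K := AlgEquiv.ofBijective σ (Algebra.IsAlgebraic.algHom_bijective σ)
  have hτr : τ ^ r = 1 := by
    refine AlgEquiv.ext fun a => ?_
    have hj : ∀ (j : ℕ) a, (τ ^ j) a = (σ ^ j) a := fun j => by
      induction j with
      | zero => intro a; rfl
      | succ j ih => intro a; rw [pow_succ', pow_succ', AlgEquiv.mul_apply, ih]; rfl
    rw [hj, hσr]
    rfl
  have hτ1 : τ ≠ 1 := fun h => by
    obtain ⟨a, ha⟩ := hσ1
    exact ha (AlgEquiv.congr_fun h a)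
  have hrk : r = k := by
    have h1 : orderOf τ ∣ Nat.card (K ≃ₐ[F] K) := orderOf_dvd_natCard τ
    rw [IsGalois.card_aut_eq_finrank, hK.finrank_eq, orderOf_eq_prime hτr hτ1] at h1
    exact (Nat.prime_dvd_prime_iff_eq Fact.out hk).1 h1
  have hfixle := finrank_fix_le (toEnd y) σ hσ (hfixed σ hσ1)
  rw [hm] at hfixle
  by_cases hr2 : r = 2
  · have := hc2 hr2
    have hk2 : k = 2 := hrk ▸ hr2
    have hd2 : d ≠ 2 := fun h => (hexc.resolve_left hrp) ⟨hr2, h, hk2⟩
    rw [hk2] at hdm
    omega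
  · have hrodd : Odd r := (Fact.out : r.Prime).odd_of_ne_two hr2
    have hdvd : c ∣ r - 1 := by
      rw [← hc]
      refine Nat.lcm_dvd ?_ (orderOf_dvd_of_pow_eq_one (ZMod.pow_card_sub_one_eq_one ?_))
      · obtain ⟨j, rfl⟩ := hrodd
        exact ⟨j, by omega⟩
      · rw [Ne, ZMod.natCast_eq_zero_iff, Nat.card_eq_fintype_card]
        exact hrq
    have hr3 : 2 ≤ r := (Fact.out : r.Prime).two_le
    have h1 := Nat.le_of_dvd (by omega) hdvd
    have hm0 : 1 ≤ m := Nat.pos_of_ne_zero fun h => by rw [h, mul_zero] at hdm; omega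
    have h2 : 2 * m * (r - 1) + 2 * m = 2 * d := by
      rw [← Nat.mul_succ, Nat.succ_eq_add_one, Nat.sub_add_cancel (by omega : 1 ≤ r), hdm, hrk]
      ring
    have h3 : 2 * (r - 1) ≤ 2 * m * (r - 1) := Nat.mul_le_mul_right _ (by omega)
    omega

end Matrices

end CfsgLib.Geo.SympFieldDer
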