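/-
Skew maps with scalar square on symplectic spaces: plane decompositions, counting, centralisers.
-/
import Cfsg.Agent.Lib.Classical.Symplectic.Geometry
import Cfsg.Agent.Lib.Geo.InvolutionClasses

set_option autoImplicit false

namespace CfsgLib.Geo.SkewPlanes

open Module
open LinearMap (BilinForm)

variable {F : Type*} [Field F] {V : Type*} [AddCommGroup V] [Module F V]

/-- A map that is skew for the form and has scalar square. -/
structure Skew (B : BilinForm F V) (J : V →ₗ[F] V) (ν : F) : Prop where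
  adj : ∀ u v, B (J u) v = -B u (J v)
  sq : ∀ v, J (J v) = ν • v

/-- A system of planes adapted to a skew map. -/
def Sys (B : BilinForm F V) (J : V →ₗ[F] V) {m : ℕ} (a : Fin m → V) : Prop :=
  ∀ i j, B (a i) (a j) = 0 ∧ B (a i) (J (a j)) = if i = j then 1 else 0

variable {B : BilinForm F V} {J : V →ₗ[F] V} {ν : F}

theorem Sys.sympSys (hJ : Skew B J ν) {m : ℕ} {a : Fin m → V} (h : Sys B J a) :
    CfsgLib.Classical.Symp.IsSympSys B (Sum.elim a (J ∘ a)) :=
  ⟨fun i j => (h i j).2, fun i j => (h i j).1, fun i j => by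
    show B (J (a i)) (J (a j)) = 0
    rw [hJ.adj, hJ.sq, map_smul, (h i j).1, smul_zero, neg_zero]⟩

/-- The orthogonal of a plane inside a subspace. -/
def planePerp (B : BilinForm F V) (J : V →ₗ[F] V) (W : Submodule F V) (a : V) : Submodule F V :=
  W ⊓ (LinearMap.ker (B a) ⊓ LinearMap.ker (B (J a)))

theorem mem_planePerp {W : Submodule F V} {a v : V} :
    v ∈ planePerp B J W a ↔ v ∈ W ∧ B a v = 0 ∧ B (J a) v = 0 := Iff.rfl

theorem planePerp_invariant (hJ : Skew B J ν) {W : Submodule F V} (hW : ∀ v ∈ W, J v ∈ W) (a : V) :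
    ∀ v ∈ planePerp B J W a, J v ∈ planePerp B J W a := by
  rintro v ⟨hv, h1, h2⟩
  have h1' : B a v = 0 := h1
  have h2' : B (J a) v = 0 := h2
  refine mem_planePerp.2 ⟨hW v hv, ?_, ?_⟩
  · rw [hJ.adj, neg_eq_zero] at h2'
    exact h2'
  · rw [hJ.adj, hJ.sq, map_smul, h1', smul_zero, neg_zero]

theorem plane_split (hJ : Skew B J ν) (hA : B.IsAlt) {W : Submodule F V} (hW : ∀ v ∈ W, J v ∈ W) {a : V}
    (haW : a ∈ W) (ha : B a (J a) = 1) {w : V} (hw : w ∈ W) :
    w - (-B (J a) w) • a - B a w • J a ∈ planePerp B J W a := by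
  have h1 : B (J a) a = -1 := by rw [hJ.adj, ha]
  refine mem_planePerp.2 ⟨W.sub_mem (W.sub_mem hw (W.smul_mem _ haW)) (W.smul_mem _ (hW a haW)), ?_, ?_⟩
  · simp only [map_sub, map_smul, hA a, ha, smul_eq_mul]
    ring
  · simp only [map_sub, map_smul, h1, hA (J a), smul_eq_mul]
    ring

theorem planePerp_nondeg (hJ : Skew B J ν) (hA : B.IsAlt) {W : Submodule F V} (hW : ∀ v ∈ W, J v ∈ W)
    (hn : ∀ u ∈ W, (∀ v ∈ W, B u v = 0) → u = 0) {a : V} (haW : a ∈ W) (ha : B a (J a) = 1) :
    ∀ u ∈ planePerp B J W a, (∀ v ∈ planePerp B J W a, B u v = 0) → u = 0 := by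
  intro u hu h
  obtain ⟨huW, hu1, hu2⟩ := mem_planePerp.1 hu
  refine hn u huW fun w hw => ?_
  have h3 := h _ (plane_split hJ hA hW haW ha hw)
  have e1 : B u a = 0 := by rw [← LinearMap.IsAlt.neg hA a u, hu1, neg_zero]
  have e2 : B u (J a) = 0 := by rw [← LinearMap.IsAlt.neg hA (J a) u, hu2, neg_zero]
  simpa [map_sub, map_smul, e1, e2] using h3

theorem finrank_planePerp [FiniteDimensional F V] (hJ : Skew B J ν) (hA : B.IsAlt) {W : Submodule F V}
    (hW : ∀ v ∈ W, J v ∈ W) {a : V} (haW : a ∈ W) (ha : B a (J a) = 1) :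
    finrank F (planePerp B J W a) + 2 = finrank F W := by
  let φ : W →ₗ[F] F × F := ((B a).prod (B (J a))).domRestrict W
  have h1 : B (J a) a = -1 := by rw [hJ.adj, ha]
  have hφ : Function.Surjective φ := fun p => by
    refine ⟨(-p.2) • ⟨a, haW⟩ + p.1 • ⟨J a, hW a haW⟩, ?_⟩
    refine Prod.ext ?_ ?_ <;> simp [φ, hA a, hA (J a), ha, h1]
  have h := LinearMap.finrank_range_add_finrank_ker φ
  rw [LinearMap.range_eq_top.2 hφ, finrank_top, finrank_prod, finrank_self] at h
  have hker : LinearMap.ker φ = (planePerp B J W a).comap W.subtype := by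
    ext w
    simp [φ, mem_planePerp, Prod.ext_iff]
  rw [hker, LinearEquiv.finrank_eq (Submodule.comapSubtypeEquivOfLe (show planePerp B J W a ≤ W from inf_le_left))] at h
  omega

variable [Fintype F] [FiniteDimensional F V]

theorem exists_anchor (h2 : (2 : F) ≠ 0) (hν : ν ≠ 0) (hJ : Skew B J ν) (hA : B.IsAlt) {W : Submodule F V}
    (hW : ∀ v ∈ W, J v ∈ W) (hn : ∀ u ∈ W, (∀ v ∈ W, B u v = 0) → u = 0) (h0 : 0 < finrank F W) :
    ∃ a ∈ W, B a (J a) = 1 := by
  obtain ⟨a, haW, ha⟩ : ∃ a ∈ W, B a (J a) ≠ 0 := by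
    by_contra! hc
    have hsym : ∀ u v, B v (J u) = B u (J v) := fun u v => by
      rw [← LinearMap.IsAlt.neg hA (J u) v, hJ.adj, neg_neg]
    have hz : ∀ v ∈ W, J v = 0 := fun v hv => hn _ (hW v hv) fun u hu => by
      have h3 := hc (u + v) (W.add_mem hu hv)
      simp only [map_add, LinearMap.add_apply, hc u hu, hc v hv, hsym u v, zero_add, add_zero] at h3
      rw [← two_mul, mul_eq_zero] at h3
      rw [← LinearMap.IsAlt.neg hA, h3.resolve_left h2, neg_zero]
    obtain ⟨⟨v, hv⟩, hv0⟩ := Module.finrank_pos_iff_exists_ne_zero.1 h0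
    refine hv0 (Subtype.ext ?_)
    have := hJ.sq v
    rw [hz v hv, map_zero] at this
    exact (smul_eq_zero.1 this.symm).resolve_left hν
  obtain ⟨α, β, hαβ⟩ := CfsgLib.Geo.InvClass.exists_norm_eq ν (B a (J a))⁻¹ hν
  refine ⟨α • a + β • J a, W.add_mem (W.smul_mem _ haW) (W.smul_mem _ (hW a haW)), ?_⟩
  have h1 : B (J a) a = -B a (J a) := hJ.adj a a
  simp only [map_add, map_smul, hJ.sq, LinearMap.add_apply, LinearMap.smul_apply, hA a, hA (J a), h1, smul_eq_mul]
  linear_combination (B a (J a)) * hαβ + inv_mul_cancel₀ ha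

theorem exists_sys (h2 : (2 : F) ≠ 0) (hν : ν ≠ 0) (hJ : Skew B J ν) (hA : B.IsAlt) :
    ∀ (k : ℕ) (W : Submodule F V), finrank F W = k → (∀ v ∈ W, J v ∈ W) →
      (∀ u ∈ W, (∀ v ∈ W, B u v = 0) → u = 0) →
      ∃ (m : ℕ) (a : Fin m → V), (∀ i, a i ∈ W) ∧ Sys B J a ∧ k = 2 * m := by
  intro k
  induction k using Nat.strong_induction_on with
  | _ k ih =>
  intro W hk hW hn
  rcases Nat.eq_zero_or_pos k with h0 | h0
  · exact ⟨0, Fin.elim0, fun i => i.elim0, fun i => i.elim0, by omega⟩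
  obtain ⟨a₀, ha₀W, ha₀⟩ := exists_anchor h2 hν hJ hA hW hn (hk ▸ h0)
  have hr := finrank_planePerp hJ hA hW ha₀W ha₀
  obtain ⟨m, a, haW, ha, hm⟩ := ih (k - 2) (by omega) (planePerp B J W a₀) (by omega)
    (planePerp_invariant hJ hW a₀) (planePerp_nondeg hJ hA hW hn ha₀W ha₀)
  refine ⟨m + 1, Fin.cons a₀ a, fun i => ?_, fun i j => ?_, by omega⟩
  · induction i using Fin.cases with
    | zero => simpa using ha₀W
    | succ i => simpa using (haW i).1
  · induction i using Fin.cases with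
    | zero =>
      induction j using Fin.cases with
      | zero => simp [hA a₀, ha₀]
      | succ j =>
        obtain ⟨-, h1, h2'⟩ := mem_planePerp.1 (planePerp_invariant hJ hW a₀ _ (haW j))
        simp [(mem_planePerp.1 (haW j)).2.1, h1, (Fin.succ_ne_zero j).symm]
    | succ i =>
      obtain ⟨-, h1, h2'⟩ := mem_planePerp.1 (haW i)
      induction j using Fin.cases with
      | zero =>
        have e1 : B (a i) a₀ = 0 := by rw [← LinearMap.IsAlt.neg hA a₀ (a i), h1, neg_zero]
        have e2 : B (a i) (J a₀) = 0 := by rw [← LinearMap.IsAlt.neg hA (J a₀) (a i), h2', neg_zero]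
        simp [e1, e2, Fin.succ_ne_zero i]
      | succ j => simpa [Fin.succ_inj] using ha i j

theorem exists_sys_top (h2 : (2 : F) ≠ 0) (hν : ν ≠ 0) (hJ : Skew B J ν) (hA : B.IsAlt)
    (hn : ∀ u, (∀ v, B u v = 0) → u = 0) {d : ℕ} (hd : finrank F V = 2 * d) :
    ∃ a : Fin d → V, Sys B J a := by
  obtain ⟨m, a, -, ha, hm⟩ := exists_sys h2 hν hJ hA _ ⊤ rfl (fun _ _ => Submodule.mem_top)
    fun u _ h => hn u fun v => h v Submodule.mem_top
  rw [finrank_top, hd] at hm
  obtain rfl : m = d := by omega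
  exact ⟨a, ha⟩

omit [Fintype F] in
/-- Two symplectic systems of full size differ by an isometry. -/
theorem exists_isometry_of_sys (hA : B.IsAlt) {d : ℕ} (hd : finrank F V = 2 * d) {v w : Fin d ⊕ Fin d → V}
    (hv : CfsgLib.Classical.Symp.IsSympSys B v) (hw : CfsgLib.Classical.Symp.IsSympSys B w) :
    ∃ g : V ≃ₗ[F] V, (∀ k, g (v k) = w k) ∧ ∀ x y, B (g x) (g y) = B x y := by
  rcases Nat.eq_zero_or_pos d with h0 | h0
  · subst h0
    have : Subsingleton V := Module.finrank_zero_iff.1 (by simpa using hd)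
    exact ⟨LinearEquiv.refl F V, fun k => k.elim (fun i => i.elim0) (fun i => i.elim0), fun _ _ => rfl⟩
  have : Nonempty (Fin d ⊕ Fin d) := ⟨Sum.inl ⟨0, h0⟩⟩
  have hc : Fintype.card (Fin d ⊕ Fin d) = finrank F V := by rw [hd]; simp [two_mul]
  let bv := basisOfLinearIndependentOfCardEqFinrank (hv.linearIndependent hA) hc
  let bw := basisOfLinearIndependentOfCardEqFinrank (hw.linearIndependent hA) hc
  have hbv : ∀ k, bv k = v k := fun k => by simp [bv]
  have hbw : ∀ k, bw k = w k := fun k => by simp [bw]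
  let g := bv.equiv bw (Equiv.refl _)
  have hg : ∀ k, g (v k) = w k := fun k => by rw [← hbv, ← hbw]; simp [g]
  refine ⟨g, hg, fun x y => ?_⟩
  have key : B.compl₁₂ g.toLinearMap g.toLinearMap = B := LinearMap.ext_basis bv bv fun k l => by
    simp only [LinearMap.compl₁₂_apply, LinearEquiv.coe_coe, hbv, hg]
    have hsw : ∀ {u : Fin d ⊕ Fin d → V}, CfsgLib.Classical.Symp.IsSympSys B u →
        ∀ i j, B (u (.inr i)) (u (.inl j)) = -(if j = i then 1 else 0) := fun hu i j => by
      rw [← LinearMap.IsAlt.neg hA, hu.1]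
    rcases k with i | i <;> rcases l with j | j
    · rw [hw.2.1, hv.2.1]
    · rw [hw.1, hv.1]
    · rw [hsw hw, hsw hv]
    · rw [hw.2.2, hv.2.2]
  exact LinearMap.congr_fun (LinearMap.congr_fun key x) y

omit [Fintype F] in
/-- An isometry carrying one adapted system to another intertwines the skew maps. -/
theorem exists_intertwine (hA : B.IsAlt) {J' : V →ₗ[F] V} (hJ : Skew B J ν) (hJ' : Skew B J' ν) {d : ℕ}
    (hd : finrank F V = 2 * d) {a a' : Fin d → V} (ha : Sys B J a) (ha' : Sys B J' a') :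
    ∃ g : V ≃ₗ[F] V, (∀ i, g (a i) = a' i) ∧ (∀ x y, B (g x) (g y) = B x y) ∧ ∀ x, g (J x) = J' (g x) := by
  obtain ⟨g, hg, hB⟩ := exists_isometry_of_sys hA hd (ha.sympSys hJ) (ha'.sympSys hJ')
  refine ⟨g, fun i => hg (.inl i), hB, fun x => ?_⟩
  rcases Nat.eq_zero_or_pos d with h0 | h0
  · subst h0
    have : Subsingleton V := Module.finrank_zero_iff.1 (by simpa using hd)
    exact Subsingleton.elim _ _
  have : Nonempty (Fin d ⊕ Fin d) := ⟨Sum.inl ⟨0, h0⟩⟩
  let b := basisOfLinearIndependentOfCardEqFinrank ((ha.sympSys hJ).linearIndependent hA)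
    (by rw [hd]; simp [two_mul])
  have key : g.toLinearMap ∘ₗ J = J' ∘ₗ g.toLinearMap := b.ext fun k => by
    have hbk : b k = Sum.elim a (J ∘ a) k := by simp [b]
    simp only [LinearMap.comp_apply, LinearEquiv.coe_coe, hbk]
    rcases k with i | i
    · rw [hg (.inl i)]
      exact hg (.inr i)
    · show g (J (J (a i))) = J' (g (J (a i)))
      rw [hJ.sq, map_smul, show g (J (a i)) = J' (a' i) from hg (.inr i), hJ'.sq,
        show g (a i) = a' i from hg (.inl i)]
  exact LinearMap.congr_fun key x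

/-! ### Counting -/

/-- The number of tuples with a given value of the norm sum. -/
noncomputable def normNum (ν : F) (m : ℕ) (c : F) : ℕ :=
  Nat.card {p : Fin m → F × F // ∑ i, ((p i).1 * (p i).1 - ν * ((p i).2 * (p i).2)) = c}

omit [FiniteDimensional F V] in
theorem card_norm (hν : ¬ IsSquare ν) [DecidableEq F] (c : F) :
    Nat.card {p : F × F // p.1 * p.1 - ν * (p.2 * p.2) = c} =
      if c = 0 then 1 else Fintype.card F + 1 := by
  classical
  have hzero : ∀ p : F × F, p.1 * p.1 - ν * (p.2 * p.2) = 0 → p = 0 := fun p hp => by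
    by_cases hp2 : p.2 = 0
    · rw [hp2, mul_zero, mul_zero, sub_zero] at hp
      exact Prod.ext (mul_self_eq_zero.1 hp) hp2
    · refine absurd ⟨p.1 / p.2, ?_⟩ hν
      rw [div_mul_div_comm, eq_div_iff (mul_ne_zero hp2 hp2)]
      linear_combination -hp
  have h0 : Nat.card {p : F × F // p.1 * p.1 - ν * (p.2 * p.2) = 0} = 1 :=
    Nat.card_eq_one_iff_unique.2 ⟨⟨fun p p' => Subtype.ext ((hzero p.1 p.2).trans (hzero p'.1 p'.2).symm)⟩,
      ⟨⟨0, by simp⟩⟩⟩
  rcases eq_or_ne c 0 with rfl | hc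
  · rw [if_pos rfl, h0]
  rw [if_neg hc]
  have hν0 : ν ≠ 0 := fun h => hν (h ▸ IsSquare.zero)
  set n : F → ℕ := fun c => Nat.card {p : F × F // p.1 * p.1 - ν * (p.2 * p.2) = c} with hn
  have hscale : ∀ e : F, e ≠ 0 → n e ≤ n 1 := fun e he => by
    obtain ⟨α, β, hαβ⟩ := CfsgLib.Geo.InvClass.exists_norm_eq ν e⁻¹ hν0
    refine Nat.card_le_card_of_injective (fun p => ⟨(α * p.1.1 + ν * (β * p.1.2), α * p.1.2 + β * p.1.1), ?_⟩) ?_
    · have := p.2
      linear_combination (α * α - ν * (β * β)) * this + e * hαβ + inv_mul_cancel₀ he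
    · intro p p' h
      obtain ⟨h1, h2⟩ := Prod.ext_iff.1 (congrArg Subtype.val h)
      simp only at h1 h2
      refine Subtype.ext (Prod.ext (mul_left_cancel₀ (inv_ne_zero he) ?_) (mul_left_cancel₀ (inv_ne_zero he) ?_))
      · rw [← hαβ]; linear_combination α * h1 - ν * β * h2
      · rw [← hαβ]; linear_combination α * h2 - β * h1
  have hscale' : ∀ e : F, e ≠ 0 → n 1 ≤ n e := fun e he => by
    obtain ⟨α, β, hαβ⟩ := CfsgLib.Geo.InvClass.exists_norm_eq ν e hν0
    refine Nat.card_le_card_of_injective (fun p => ⟨(α * p.1.1 + ν * (β * p.1.2), α * p.1.2 + β * p.1.1), ?_⟩) ?_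
    · have := p.2
      linear_combination (α * α - ν * (β * β)) * this + hαβ
    · intro p p' h
      obtain ⟨h1, h2⟩ := Prod.ext_iff.1 (congrArg Subtype.val h)
      simp only at h1 h2
      refine Subtype.ext (Prod.ext (mul_left_cancel₀ he ?_) (mul_left_cancel₀ he ?_))
      · rw [← hαβ]; linear_combination α * h1 - ν * β * h2
      · rw [← hαβ]; linear_combination α * h2 - β * h1
  have hsum : ∑ e : F, n e = Fintype.card F ^ 2 := by
    simp only [hn]
    rw [← Nat.card_sigma, Nat.card_congr (Equiv.sigmaFiberEquiv (fun p : F × F => p.1 * p.1 - ν * (p.2 * p.2))),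
      Nat.card_prod, Nat.card_eq_fintype_card, pow_two]
  rw [← Finset.add_sum_erase _ _ (Finset.mem_univ (0 : F)),
    Finset.sum_congr rfl (fun e he => le_antisymm (hscale e (Finset.ne_of_mem_erase he)) (hscale' e (Finset.ne_of_mem_erase he))),
    Finset.sum_const, Finset.card_erase_of_mem (Finset.mem_univ _), Finset.card_univ, smul_eq_mul] at hsum
  have hn0 : n 0 = 1 := h0
  rw [hn0] at hsum
  show n c = _
  rw [le_antisymm (hscale c hc) (hscale' c hc)]
  have hq : 1 < Fintype.card F := Fintype.one_lt_card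
  obtain ⟨t, ht⟩ : ∃ t, Fintype.card F = t + 1 := ⟨Fintype.card F - 1, by omega⟩
  rw [ht] at hsum hq ⊢
  rw [Nat.add_sub_cancel] at hsum
  have : t * n 1 = t * (t + 1 + 1) := by
    have e : (t + 1) ^ 2 = 1 + t * (t + 1 + 1) := by ring
    omega
  exact Nat.eq_of_mul_eq_mul_left (by omega) this

omit [FiniteDimensional F V] in
theorem normNum_formula (hν : ¬ IsSquare ν) [DecidableEq F] (m : ℕ) (c : F) :
    (Fintype.card F : ℤ) * normNum ν m c = (Fintype.card F : ℤ) ^ (2 * m) +
      (-(Fintype.card F : ℤ)) ^ m * ((if c = 0 then (Fintype.card F : ℤ) else 0) - 1) := by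
  induction m generalizing c with
  | zero =>
    rcases eq_or_ne c 0 with rfl | hc
    · have : normNum ν 0 (0 : F) = 1 := Nat.card_eq_one_iff_unique.2 ⟨inferInstance, ⟨⟨0, by simp⟩⟩⟩
      simp [this]
    · have : normNum ν 0 c = 0 := by
        refine Nat.card_eq_zero.2 (Or.inl ⟨fun p => hc ?_⟩)
        simpa using p.2.symm
      simp [this, hc]
  | succ m ih =>
    set q : ℤ := (Fintype.card F : ℤ)
    let nm : F × F → F := fun x => x.1 * x.1 - ν * (x.2 * x.2)
    have hrec : normNum ν (m + 1) c = ∑ x : F × F, normNum ν m (c - nm x) := by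
      simp only [normNum]
      rw [← Nat.card_sigma]
      refine Nat.card_congr
        { toFun := fun p => ⟨p.1 0, ⟨Fin.tail p.1, ?_⟩⟩
          invFun := fun s => ⟨Fin.cons s.1 s.2.1, ?_⟩
          left_inv := fun p => Subtype.ext (Fin.cons_self_tail p.1)
          right_inv := fun s => by rfl }
      · rw [eq_sub_iff_add_eq]
        conv_rhs => rw [← p.2, Fin.sum_univ_succ]
        rw [add_comm]
        rfl
      · rw [Fin.sum_univ_succ]
        simp only [Fin.cons_zero, Fin.cons_succ, s.2.2]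
        exact add_sub_cancel _ _
    have hcount : ∑ x : F × F, (if c - nm x = 0 then q else 0) = if c = 0 then q else q * (q + 1) := by
      rw [Finset.sum_ite, Finset.sum_const_zero, add_zero, Finset.sum_const, nsmul_eq_mul]
      have hcc : (Finset.univ.filter fun x => c - nm x = 0).card = Nat.card {x : F × F // nm x = c} := by
        rw [Nat.card_eq_fintype_card, Fintype.card_subtype]
        exact congrArg Finset.card (Finset.filter_congr fun x _ => by rw [sub_eq_zero, eq_comm])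
      rw [hcc, card_norm hν]
      split_ifs <;> simp [q, mul_comm]
    rw [hrec, Nat.cast_sum, Finset.mul_sum, Finset.sum_congr rfl fun x _ => ih _, Finset.sum_add_distrib,
      ← Finset.mul_sum, Finset.sum_sub_distrib, hcount, Finset.sum_const, Finset.sum_const, Finset.card_univ,
      Fintype.card_prod, nsmul_eq_mul, nsmul_eq_mul, Nat.cast_mul, pow_succ (-q)]
    change q * q * q ^ (2 * m) + (-q) ^ m * ((if c = 0 then q else q * (q + 1)) - q * q * 1) = _
    rw [show 2 * (m + 1) = 2 * m + 2 by ring, pow_add]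
    split_ifs <;> ring

theorem normNum_one (hν : ¬ IsSquare ν) (m : ℕ) :
    (Fintype.card F : ℤ) * normNum ν m 1 = (Fintype.card F : ℤ) ^ (2 * m) - (-(Fintype.card F : ℤ)) ^ m := by
  classical
  rw [normNum_formula hν, if_neg one_ne_zero]
  ring

theorem card_anchors (h2 : (2 : F) ≠ 0) (hν : ν ≠ 0) (hJ : Skew B J ν) (hA : B.IsAlt) {W : Submodule F V}
    (hW : ∀ v ∈ W, J v ∈ W) (hn : ∀ u ∈ W, (∀ v ∈ W, B u v = 0) → u = 0) {m : ℕ} (hm : finrank F W = 2 * m)
    (c : F) : Nat.card {v : W // B v (J v) = c} = normNum ν m c := by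
  obtain ⟨m', a, haW, ha, hm'⟩ := exists_sys h2 hν hJ hA _ W rfl hW hn
  obtain rfl : m' = m := by omega
  let φ : (Fin m' → F × F) → W := fun p => ⟨∑ i, ((p i).1 • a i + (p i).2 • J (a i)),
    W.sum_mem fun i _ => W.add_mem (W.smul_mem _ (haW i)) (W.smul_mem _ (hW _ (haW i)))⟩
  obtain ⟨h1, h2', h3⟩ := ha.sympSys hJ
  have h4 : ∀ i j, B (J (a i)) (a j) = -(if j = i then 1 else 0) := fun i j => by
    rw [← LinearMap.IsAlt.neg hA, (ha j i).2]
  have h5 : ∀ i j, B (a i) (J (a j)) = if i = j then 1 else 0 := fun i j => (ha i j).2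
  have h6 : ∀ i j, B (a i) (a j) = 0 := fun i j => (ha i j).1
  have h7 : ∀ i j, B (J (a i)) (J (a j)) = 0 := h3
  have hc1 : ∀ p j, B (a j) (φ p : V) = (p j).2 := fun p j => by simp [φ, h5, h6]
  have hc2 : ∀ p j, B (J (a j)) (φ p : V) = -(p j).1 := fun p j => by simp [φ, h4, h7]
  have hinj : Function.Injective φ := fun p p' h => funext fun j => by
    refine Prod.ext (neg_injective ?_) ?_
    · rw [← hc2, ← hc2, h]
    · rw [← hc1, ← hc1, h]
  haveI : Finite V := Module.finite_of_finite F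
  have hbij : Function.Bijective φ := (Nat.bijective_iff_injective_and_card φ).2 ⟨hinj, by
    rw [Module.natCard_eq_pow_finrank (K := F) (V := W), hm, Nat.card_fun, Nat.card_prod, Nat.card_fin,
      pow_mul, pow_two]⟩
  have hQ : ∀ p, B (φ p : V) (J (φ p : V)) = ∑ i, ((p i).1 * (p i).1 - ν * ((p i).2 * (p i).2)) := fun p => by
    have e : J (φ p : V) = ∑ i, ((p i).1 • J (a i) + ((p i).2 * ν) • a i) := by
      simp [φ, map_sum, hJ.sq, smul_smul]
    rw [e, map_sum]
    refine Finset.sum_congr rfl fun i _ => ?_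
    rw [map_add, map_smul, map_smul, ← LinearMap.IsAlt.neg hA (J (a i)), ← LinearMap.IsAlt.neg hA (a i) (φ p : V),
      hc1, hc2, smul_eq_mul, smul_eq_mul]
    ring
  exact Nat.card_congr ((Equiv.ofBijective φ hbij).subtypeEquiv fun p => by
    show _ ↔ B (φ p : V) (J (φ p : V)) = c
    rw [hQ]).symm

/-- The number of adapted systems. -/
theorem card_systems (h2 : (2 : F) ≠ 0) (hν : ν ≠ 0) (hJ : Skew B J ν) (hA : B.IsAlt) :
    ∀ (m : ℕ) (W : Submodule F V), finrank F W = 2 * m → (∀ v ∈ W, J v ∈ W) →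
      (∀ u ∈ W, (∀ v ∈ W, B u v = 0) → u = 0) →
      Nat.card {a : Fin m → V // (∀ i, a i ∈ W) ∧ Sys B J a} = ∏ l ∈ Finset.range m, normNum ν (l + 1) 1 := by
  intro m
  induction m with
  | zero =>
    intro W _ _ _
    rw [Finset.range_zero, Finset.prod_empty]
    exact Nat.card_eq_one_iff_unique.2 ⟨inferInstance, ⟨⟨Fin.elim0, fun i => i.elim0, fun i => i.elim0⟩⟩⟩
  | succ m ih =>
    intro W hm hW hn
    have : Finite V := Module.finite_of_finite F
    have := Fintype.ofFinite {v : W // B v (J v) = (1 : F)}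
    let T := {a : Fin (m + 1) → V // (∀ i, a i ∈ W) ∧ Sys B J a}
    let Tv := fun v : {v : W // B v (J v) = (1 : F)} =>
      {a : Fin m → V // (∀ i, a i ∈ planePerp B J W v.1) ∧ Sys B J a}
    have hcomp : ∀ (v : {v : W // B v (J v) = (1 : F)}) (a : Fin m → V),
        (∀ i, a i ∈ planePerp B J W v.1) → ∀ i, B (a i) v.1 = 0 ∧ B (a i) (J v.1) = 0 ∧ B (v.1 : V) (J (a i)) = 0 := by
      intro v a ha i
      obtain ⟨-, h1, h2'⟩ := mem_planePerp.1 (ha i)
      refine ⟨by rw [← LinearMap.IsAlt.neg hA, h1, neg_zero], by rw [← LinearMap.IsAlt.neg hA, h2', neg_zero], ?_⟩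
      exact (mem_planePerp.1 (planePerp_invariant hJ hW _ _ (ha i))).2.1
    let e : (Σ v, Tv v) → T := fun s => ⟨Fin.cons (s.1.1 : V) s.2.1, fun i => by
        induction i using Fin.cases with
        | zero => simp
        | succ i => simpa using (mem_planePerp.1 (s.2.2.1 i)).1,
      fun i j => by
        induction i using Fin.cases with
        | zero =>
          induction j using Fin.cases with
          | zero => simp [hA _, s.1.2]
          | succ j => simp [(mem_planePerp.1 (s.2.2.1 j)).2.1, (hcomp s.1 _ s.2.2.1 j).2.2, (Fin.succ_ne_zero j).symm]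
        | succ i =>
          induction j using Fin.cases with
          | zero => simp [(hcomp s.1 _ s.2.2.1 i).1, (hcomp s.1 _ s.2.2.1 i).2.1, Fin.succ_ne_zero i]
          | succ j => simpa [Fin.succ_inj] using s.2.2.2 i j⟩
    have he : Function.Bijective e := by
      constructor
      · rintro ⟨v, a, ha⟩ ⟨v', a', ha'⟩ h
        have h' : (Fin.cons (v.1 : V) a : Fin (m + 1) → V) = Fin.cons (v'.1 : V) a' := congrArg Subtype.val h
        obtain ⟨h1, h2'⟩ := Fin.cons_inj.1 h'
        obtain rfl : v = v' := Subtype.ext (Subtype.ext h1)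
        obtain rfl : a = a' := h2'
        rfl
      · rintro ⟨a, haW, ha⟩
        refine ⟨⟨⟨⟨a 0, haW 0⟩, by simpa using (ha 0 0).2⟩, ⟨Fin.tail a, fun i => ?_, fun i j => ?_⟩⟩,
          Subtype.ext (Fin.cons_self_tail a)⟩
        · refine mem_planePerp.2 ⟨haW _, (ha 0 i.succ).1, ?_⟩
          show B (J (a 0)) (a i.succ) = 0
          rw [hJ.adj, (ha 0 i.succ).2, if_neg (Fin.succ_ne_zero i).symm, neg_zero]
        · simpa [Fin.tail, Fin.succ_inj] using ha i.succ j.succ
    rw [← Nat.card_eq_of_bijective e he, Nat.card_sigma, Finset.prod_range_succ]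
    rw [Finset.sum_congr rfl fun v _ => ih (planePerp B J W v.1) (by
        have := finrank_planePerp hJ hA hW v.1.2 v.2; omega)
      (planePerp_invariant hJ hW _) (planePerp_nondeg hJ hA hW hn v.1.2 v.2)]
    rw [Finset.sum_const, Finset.card_univ, smul_eq_mul, ← Nat.card_eq_fintype_card,
      card_anchors h2 hν hJ hA hW hn hm, mul_comm]

end CfsgLib.Geo.SkewPlanes
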