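/-
Elements of prime order normalising a quadratic field of unitary type in a symplectic group.
-/
import Cfsg.Agent.Lib.Geo.SympSkewPlanes
import Cfsg.Agent.Lib.Geo.PrimeSympElements

set_option autoImplicit false

namespace CfsgLib.Geo.SympUnit

open Module Matrix CfsgLib.Geo.PrimeAct CfsgLib.Geo.PrimeSp
open CfsgLib.Geo.SkewPlanes (Skew Sys normNum)
open LinearMap (BilinForm)
open CfsgLib.Classical.Symp (sympBil sympBil_apply sympBil_isAlt sympBil_nondegenerate finrank_sympSpace)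

/-! ### Skew maps compatible with a map with scalar square -/

section Abstract

variable {F : Type*} [Field F] {V : Type*} [AddCommGroup V] [Module F V] [FiniteDimensional F V]
variable {B : BilinForm F V}

theorem exists_skew (hA : B.IsAlt) (hB : B.Nondegenerate) (ν : F) : ∃ J : V →ₗ[F] V, Skew B J ν := by
  obtain ⟨m, v, hv, hm⟩ := CfsgLib.Classical.Symp.exists_sympSys hA hB
  rcases Nat.eq_zero_or_pos m with h0 | h0
  · subst h0
    have : Subsingleton V := Module.finrank_zero_iff.1 (by simpa using hm)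
    exact ⟨0, fun u w => by rw [Subsingleton.elim u 0, Subsingleton.elim w 0]; simp,
      fun u => Subsingleton.elim _ _⟩
  have : Nonempty (Fin m ⊕ Fin m) := ⟨Sum.inl ⟨0, h0⟩⟩
  let b := basisOfLinearIndependentOfCardEqFinrank (hv.linearIndependent hA) (by rw [hm]; simp [two_mul])
  have hb : ∀ k, b k = v k := fun k => by simp [b]
  let J : V →ₗ[F] V := b.constr F (Sum.elim (fun i => v (.inr i)) (fun i => ν • v (.inl i)))
  have hJ1 : ∀ i, J (v (.inl i)) = v (.inr i) := fun i => by rw [← hb (.inl i)]; simp [J]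
  have hJ2 : ∀ i, J (v (.inr i)) = ν • v (.inl i) := fun i => by rw [← hb (.inr i)]; simp [J]
  have hsw : ∀ i j, B (v (.inr i)) (v (.inl j)) = -(if j = i then (1 : F) else 0) := fun i j => by
    rw [← LinearMap.IsAlt.neg hA, hv.1]
  refine ⟨J, fun u w => ?_, fun u => ?_⟩
  · have key : B.compl₁₂ J LinearMap.id = -(B.compl₁₂ LinearMap.id J) :=
      LinearMap.ext_basis b b fun k l => by
        simp only [LinearMap.compl₁₂_apply, LinearMap.neg_apply, LinearMap.id_apply, hb]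
        rcases k with i | i <;> rcases l with j | j <;>
          simp [hJ1, hJ2, hv.1, hv.2.1, hv.2.2, hsw, eq_comm (a := i) (b := j)]
    simpa using LinearMap.congr_fun (LinearMap.congr_fun key u) w
  · have key : J ∘ₗ J = ν • LinearMap.id := b.ext fun k => by
      rcases k with i | i <;> simp [hb, hJ1, hJ2]
    exact LinearMap.congr_fun key u

/-- A skew map anticommuting with a given one with square `-1`. -/
theorem exists_skew_anticommute [Fintype F] (h2 : (2 : F) ≠ 0) (hA : B.IsAlt) (hn : ∀ u, (∀ v, B u v = 0) → u = 0)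
    {d : ℕ} (hd : finrank F V = 2 * d) {X : V →ₗ[F] V} (hX : Skew B X (-1)) (ν : F) :
    ∃ J : V →ₗ[F] V, Skew B J ν ∧ ∀ v, X (J v) = -J (X v) := by
  obtain ⟨a, ha⟩ := CfsgLib.Geo.SkewPlanes.exists_sys_top h2 (neg_ne_zero.2 one_ne_zero) hX hA hn hd
  obtain ⟨α, β, hαβ⟩ := CfsgLib.Geo.InvClass.exists_norm_eq (-1 : F) ν (neg_ne_zero.2 one_ne_zero)
  rcases Nat.eq_zero_or_pos d with h0 | h0
  · subst h0
    have : Subsingleton V := Module.finrank_zero_iff.1 (by simpa using hd)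
    exact ⟨0, ⟨fun u w => by rw [Subsingleton.elim u 0, Subsingleton.elim w 0]; simp,
      fun u => Subsingleton.elim _ _⟩, fun u => Subsingleton.elim _ _⟩
  have : Nonempty (Fin d ⊕ Fin d) := ⟨Sum.inl ⟨0, h0⟩⟩
  have hv := ha.sympSys hX
  let b := basisOfLinearIndependentOfCardEqFinrank (hv.linearIndependent hA) (by rw [hd]; simp [two_mul])
  have hb : ∀ k, b k = Sum.elim a (X ∘ a) k := fun k => by simp [b]
  let E : V →ₗ[F] V := b.constr F (Sum.elim a (fun i => -X (a i)))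
  have hE1 : ∀ i, E (a i) = a i := fun i => by
    conv_lhs => rw [show a i = b (.inl i) by rw [hb]; rfl]
    simp [E]
  have hE2 : ∀ i, E (X (a i)) = -X (a i) := fun i => by
    conv_lhs => rw [show X (a i) = b (.inr i) by rw [hb]; rfl]
    simp [E]
  have hsw : ∀ i j, B (X (a i)) (a j) = -(if i = j then (1 : F) else 0) := fun i j => by
    rw [hX.adj, (ha i j).2]
  have hXX : ∀ i j, B (X (a i)) (X (a j)) = 0 := hv.2.2
  have hEskew : ∀ u w, B (E u) w = -B u (E w) := fun u w => by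
    have key : B.compl₁₂ E LinearMap.id = -(B.compl₁₂ LinearMap.id E) :=
      LinearMap.ext_basis b b fun k l => by
        simp only [LinearMap.compl₁₂_apply, LinearMap.neg_apply, LinearMap.id_apply, hb]
        rcases k with i | i <;> rcases l with j | j <;>
          simp [hE1, hE2, hsw, hXX, (ha i j).1, (ha i j).2]
    simpa using LinearMap.congr_fun (LinearMap.congr_fun key u) w
  have hEE : ∀ u, E (E u) = u := fun u => by
    have key : E ∘ₗ E = LinearMap.id := b.ext fun k => by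
      rcases k with i | i <;> simp [hb, hE1, hE2]
    exact LinearMap.congr_fun key u
  have hEX : ∀ u, E (X u) = -X (E u) := fun u => by
    have key : E ∘ₗ X = -(X ∘ₗ E) := b.ext fun k => by
      rcases k with i | i <;> simp [hb, hE1, hE2, hX.sq]
    simpa using LinearMap.congr_fun key u
  refine ⟨α • E + β • (X ∘ₗ E), ⟨fun u w => ?_, fun u => ?_⟩, fun u => ?_⟩
  · simp only [LinearMap.add_apply, LinearMap.smul_apply, LinearMap.comp_apply, map_add, map_smul, smul_eq_mul]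
    rw [hEskew, hX.adj, hEskew, hEX, map_neg]
    ring
  · simp only [LinearMap.add_apply, LinearMap.smul_apply, LinearMap.comp_apply, map_add, map_smul, hEE, hEX,
      map_neg, hX.sq]
    rw [← hαβ]
    module
  · simp only [LinearMap.add_apply, LinearMap.smul_apply, LinearMap.comp_apply, map_add, map_smul, hEX, map_neg]
    module

/-- A skew map commuting with a given isometric involution. -/
theorem exists_skew_commute (h2 : (2 : F) ≠ 0) (hA : B.IsAlt) (hn : ∀ u, (∀ v, B u v = 0) → u = 0)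
    {X : V →ₗ[F] V} (hX : ∀ u v, B (X u) (X v) = B u v) (hXX : ∀ v, X (X v) = v) (ν : F) :
    ∃ J : V →ₗ[F] V, Skew B J ν ∧ ∀ v, X (J v) = J (X v) := by
  let P : Submodule F V := LinearMap.ker (X - LinearMap.id)
  let M : Submodule F V := LinearMap.ker (X + LinearMap.id)
  have hP : ∀ {u}, u ∈ P ↔ X u = u := fun {u} => by simp [P, sub_eq_zero]
  have hM : ∀ {u}, u ∈ M ↔ X u = -u := fun {u} => by simp [M, add_eq_zero_iff_eq_neg]
  have horth : ∀ u ∈ P, ∀ w ∈ M, B u w = 0 ∧ B w u = 0 := fun u hu w hw => by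
    have h : B u w = 0 := by
      have h' := hX u w
      rw [hP.1 hu, hM.1 hw, map_neg] at h'
      have : (2 : F) * B u w = 0 := by linear_combination -h'
      exact (mul_eq_zero.1 this).resolve_left h2
    exact ⟨h, by rw [← LinearMap.IsAlt.neg hA, h, neg_zero]⟩
  let p : V →ₗ[F] P := LinearMap.codRestrict P ((2 : F)⁻¹ • (LinearMap.id + X)) fun v => hP.2 (by
    simp only [LinearMap.smul_apply, LinearMap.add_apply, LinearMap.id_apply, map_smul, map_add, hXX, add_comm])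
  let m : V →ₗ[F] M := LinearMap.codRestrict M ((2 : F)⁻¹ • (LinearMap.id - X)) fun v => hM.2 (by
    simp only [LinearMap.smul_apply, LinearMap.sub_apply, LinearMap.id_apply, map_smul, map_sub, hXX, ← smul_neg,
      neg_sub])
  have hpm : ∀ v, (p v : V) + (m v : V) = v := fun v => by
    simp [p, m, ← smul_add, ← two_smul F, smul_smul, h2]
  have hndP : ∀ u ∈ P, (∀ v ∈ P, B u v = 0) → u = 0 := fun u hu h => hn u fun v => by
    rw [← hpm v, map_add, h _ (p v).2, (horth u hu _ (m v).2).1, add_zero]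
  have hndM : ∀ u ∈ M, (∀ v ∈ M, B u v = 0) → u = 0 := fun u hu h => hn u fun v => by
    rw [← hpm v, map_add, h _ (m v).2, (horth _ (p v).2 u hu).2, zero_add]
  obtain ⟨Jp, hJp⟩ := exists_skew (CfsgLib.Classical.Symp.restrict_isAlt hA P)
    (CfsgLib.Classical.Symp.restrict_nondegenerate hA hndP) ν
  obtain ⟨Jm, hJm⟩ := exists_skew (CfsgLib.Classical.Symp.restrict_isAlt hA M)
    (CfsgLib.Classical.Symp.restrict_nondegenerate hA hndM) ν
  let J : V →ₗ[F] V := P.subtype ∘ₗ Jp ∘ₗ p + M.subtype ∘ₗ Jm ∘ₗ m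
  have hJ : ∀ v, J v = (Jp (p v) : V) + (Jm (m v) : V) := fun v => rfl
  have hsplit : ∀ (a : P) (b : M), p ((a : V) + b) = a ∧ m ((a : V) + b) = b := fun a b => by
    constructor
    · refine Subtype.ext ?_
      show (2 : F)⁻¹ • (((a : V) + b) + X ((a : V) + b)) = a
      rw [map_add, hP.1 a.2, hM.1 b.2]
      rw [show (a : V) + b + (a + -(b : V)) = (2 : F) • (a : V) by rw [two_smul]; abel, inv_smul_smul₀ h2]
    · refine Subtype.ext ?_
      show (2 : F)⁻¹ • (((a : V) + b) - X ((a : V) + b)) = b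
      rw [map_add, hP.1 a.2, hM.1 b.2]
      rw [show (a : V) + b - (a + -(b : V)) = (2 : F) • (b : V) by rw [two_smul]; abel, inv_smul_smul₀ h2]
  refine ⟨J, ⟨fun u w => ?_, fun u => ?_⟩, fun u => ?_⟩
  · have e1 : B (J u) w = B (Jp (p u) : V) (p w : V) + B (Jm (m u) : V) (m w : V) := by
      conv_lhs => rw [hJ, ← hpm w]
      simp only [map_add, LinearMap.add_apply, (horth _ (Jp (p u)).2 _ (m w).2).1,
        (horth _ (p w).2 _ (Jm (m u)).2).2, add_zero, zero_add]
    have e2 : B u (J w) = B (p u : V) (Jp (p w) : V) + B (m u : V) (Jm (m w) : V) := by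
      conv_lhs => rw [hJ, ← hpm u]
      simp only [map_add, LinearMap.add_apply, (horth _ (p u).2 _ (Jm (m w)).2).1,
        (horth _ (Jp (p w)).2 _ (m u).2).2, add_zero, zero_add]
    rw [e1, e2, neg_add]
    exact congrArg₂ (· + ·) (hJp.adj (p u) (p w)) (hJm.adj (m u) (m w))
  · rw [hJ (J u), hJ u, (hsplit _ _).1, (hsplit _ _).2, hJp.sq, hJm.sq]
    conv_rhs => rw [← hpm u, smul_add]
    rfl
  · have hXs : ∀ (a : P) (b : M), X ((a : V) + b) = (a : V) + -(b : V) := fun a b => by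
      rw [map_add, hP.1 a.2, hM.1 b.2]
    conv_rhs => rw [← hpm u, hXs, ← Submodule.coe_neg, hJ, (hsplit _ _).1, (hsplit _ _).2, map_neg,
      Submodule.coe_neg]
    rw [hJ, hXs]

end Abstract

/-! ### The quadratic field -/

section Field

variable {F : Type*} [Field F]

/-- The data of a quadratic field of matrices. -/
theorem exists_quad_gen {ι : Type} [Fintype ι] [DecidableEq ι] [Nonempty ι] (h2 : (2 : F) ≠ 0)
    {K : Subalgebra F (Matrix ι ι F)} (hK : Cfsg.Geo.IsFieldSubalgebra 2 K) :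
    ∃ J ∈ K, ∃ ν : F, ¬ IsSquare ν ∧ J * J = ν • 1 ∧ ∀ k ∈ K, ∃ a b : F, k = a • 1 + b • J := by
  classical
  obtain ⟨J, hJ, hJs⟩ : ∃ J ∈ K, ∀ a : F, J ≠ a • 1 := by
    by_contra h
    push Not at h
    have hle : Subalgebra.toSubmodule K ≤ F ∙ (1 : Matrix ι ι F) := fun k hk => by
      obtain ⟨a, ha⟩ := h k hk
      exact Submodule.mem_span_singleton.2 ⟨a, ha.symm⟩
    have h1 := (Submodule.finrank_mono hle).trans (finrank_span_le_card _)
    rw [Subalgebra.finrank_toSubmodule, hK.finrank_eq] at h1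
    simp at h1
  have hspan : ∀ k ∈ K, ∃ a b : F, k = a • 1 + b • J := by
    have hle : Submodule.span F {(1 : Matrix ι ι F), J} ≤ Subalgebra.toSubmodule K := by
      rw [Submodule.span_le, Set.insert_subset_iff, Set.singleton_subset_iff]
      exact ⟨K.one_mem, hJ⟩
    have hli : LinearIndependent F ![(1 : Matrix ι ι F), J] := by
      rw [LinearIndependent.pair_iff]
      intro s t hst
      rcases eq_or_ne t 0 with rfl | ht
      · rw [zero_smul, add_zero, smul_eq_zero] at hst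
        exact ⟨hst.resolve_right one_ne_zero, rfl⟩
      · refine absurd ?_ (hJs (-(t⁻¹ * s)))
        rw [← inv_smul_smul₀ ht J, eq_neg_of_add_eq_zero_right hst, smul_neg, smul_smul, neg_smul]
    have hr := finrank_span_eq_card hli
    rw [Matrix.range_cons_cons_empty, Fintype.card_fin] at hr
    have heq := Submodule.eq_of_le_of_finrank_eq hle (by rw [hr, Subalgebra.finrank_toSubmodule, hK.finrank_eq])
    intro k hk
    have hk' : k ∈ Submodule.span F {(1 : Matrix ι ι F), J} := heq ▸ hk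
    obtain ⟨a, b, h⟩ := Submodule.mem_span_pair.1 hk'
    exact ⟨a, b, h.symm⟩
  obtain ⟨β, α, h⟩ := hspan _ (K.mul_mem hJ hJ)
  set J₀ : Matrix ι ι F := (2 : F) • J - α • 1 with hJ₀
  have hsq : J₀ * J₀ = (4 * β + α * α) • 1 := by
    simp only [hJ₀, sub_mul, mul_sub, smul_mul_assoc, mul_smul_comm, one_mul, mul_one, h]
    module
  refine ⟨J₀, K.sub_mem (K.smul_mem hJ _) (K.smul_mem K.one_mem _), 4 * β + α * α, ?_, hsq, fun k hk => ?_⟩
  · rintro ⟨s, hs⟩
    have e : (J₀ - s • 1) * (J₀ + s • 1) = 0 := by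
      simp only [sub_mul, mul_add, smul_mul_assoc, one_mul, mul_smul_comm, mul_one, hsq, hs]
      module
    have hne : J₀ - s • 1 ≠ 0 := fun h0 => hJs ((2 : F)⁻¹ * (α + s)) (by
      rw [mul_smul, add_smul, eq_inv_smul_iff₀ h2, ← sub_eq_iff_eq_add']
      exact sub_eq_zero.1 h0)
    obtain ⟨y, -, (hy : (J₀ - s • 1) * y = 1)⟩ := hK.inv _ (K.sub_mem (K.sub_mem (K.smul_mem hJ _) (K.smul_mem K.one_mem _))
      (K.smul_mem K.one_mem s)) hne
    have e2 : J₀ + s • 1 = 0 := by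
      have h' := congrArg (y * ·) e
      simp only [← mul_assoc, mul_eq_one_comm.1 hy, one_mul, mul_zero] at h'
      exact h'
    refine hJs ((2 : F)⁻¹ * (α - s)) ?_
    rw [mul_smul, sub_smul, eq_inv_smul_iff₀ h2, eq_sub_iff_add_eq]
    rw [← sub_eq_zero, ← e2, hJ₀]
    abel
  · obtain ⟨a, b, rfl⟩ := hspan k hk
    refine ⟨a + b * (2 : F)⁻¹ * α, b * (2 : F)⁻¹, ?_⟩
    rw [hJ₀, smul_sub, smul_smul, smul_smul, inv_mul_cancel_right₀ h2]
    module

theorem eq_zero_of_square {ι : Type} [Fintype ι] [DecidableEq ι] [Nonempty ι] {J : Matrix ι ι F} {ν : F}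
    (hν : ¬ IsSquare ν) (hJ : J * J = ν • 1) {a b : F} (h : a • (1 : Matrix ι ι F) + b • J = 0) :
    a = 0 ∧ b = 0 := by
  rcases eq_or_ne b 0 with rfl | hb
  · rw [zero_smul, add_zero, smul_eq_zero] at h
    exact ⟨h.resolve_right one_ne_zero, rfl⟩
  · have e : b • J = (-a) • 1 := by rw [neg_smul]; exact eq_neg_of_add_eq_zero_right h
    have e' : J = (b⁻¹ * -a) • 1 := by rw [← smul_smul, ← e, inv_smul_smul₀ hb]
    refine absurd ⟨b⁻¹ * -a, ?_⟩ hν
    rw [e', smul_mul_assoc, one_mul, smul_smul] at hJ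
    exact (smul_left_injective F one_ne_zero hJ).symm

theorem sign_of_square {ι : Type} [Fintype ι] [DecidableEq ι] [Nonempty ι] {J : Matrix ι ι F} {ν : F}
    (hν : ¬ IsSquare ν) (h2 : (2 : F) ≠ 0) (hJ : J * J = ν • 1) {a b : F}
    (h : (a • (1 : Matrix ι ι F) + b • J) * (a • 1 + b • J) = ν • 1) : a = 0 ∧ (b = 1 ∨ b = -1) := by
  have h' : (a * a + b * b * ν - ν) • (1 : Matrix ι ι F) + (2 * a * b) • J = 0 := by
    rw [sub_smul, ← h]
    simp only [add_mul, mul_add, smul_mul_assoc, mul_smul_comm, one_mul, mul_one, hJ]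
    module
  obtain ⟨h1, h3⟩ := eq_zero_of_square hν hJ h'
  rcases mul_eq_zero.1 h3 with h4 | hb
  · obtain rfl := (mul_eq_zero.1 h4).resolve_left h2
    refine ⟨rfl, ?_⟩
    have hν0 : ν ≠ 0 := fun h0 => hν (h0 ▸ IsSquare.zero)
    have : b * b = 1 := mul_right_cancel₀ hν0 (by linear_combination h1)
    exact mul_self_eq_one_iff.1 this
  · subst hb
    exact absurd ⟨a, by linear_combination -h1⟩ hν

end Field

/-! ### The symplectic setting -/

section Symp

variable {F : Type*} [Field F] {d : ℕ}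
variable {K : Subalgebra F (Matrix (Fin d ⊕ Fin d) (Fin d ⊕ Fin d) F)}

/-- The generator is skew. -/
theorem exists_skew_gen (hd : 0 < d) (h2 : (2 : F) ≠ 0) (hK : Cfsg.Geo.IsFieldSubalgebra 2 K)
    (hKf : Cfsg.Geo.IsAdjointClosedFor (Cfsg.sympForm d F) K)
    (hKns : ¬ Cfsg.Geo.IsSelfAdjointFor (Cfsg.sympForm d F) K) :
    ∃ J ∈ K, ∃ ν : F, ¬ IsSquare ν ∧ J * J = ν • 1 ∧ Skew (sympBil d F) (Matrix.toLin' J) ν ∧
      ∀ k ∈ K, ∃ a b : F, k = a • 1 + b • J := by
  haveI : Nonempty (Fin d ⊕ Fin d) := ⟨Sum.inl ⟨0, hd⟩⟩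
  obtain ⟨J, hJ, ν, hν, hJJ, hspan⟩ := exists_quad_gen h2 hK
  obtain ⟨k', hk', hadj⟩ := hKf J hJ
  have hadj' : ∀ u v, sympBil d F (J *ᵥ u) v = sympBil d F u (k' *ᵥ v) := fun u v => by
    rw [sympBil_apply, sympBil_apply, hadj]
  have hk2 : k' * k' = ν • 1 := Matrix.toLin'.injective (LinearMap.ext fun v => by
    simp only [Matrix.toLin'_apply, Matrix.smul_mulVec, Matrix.one_mulVec, ← Matrix.mulVec_mulVec]
    refine sub_eq_zero.1 ((sympBil_nondegenerate d F).2 _ fun u => ?_)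
    rw [map_sub, ← hadj', ← hadj', Matrix.mulVec_mulVec, hJJ, Matrix.smul_mulVec, Matrix.one_mulVec, map_smul,
      map_smul, LinearMap.smul_apply, sub_self])
  obtain ⟨a, b, rfl⟩ := hspan k' hk'
  obtain ⟨rfl, hb⟩ := sign_of_square hν h2 hJJ hk2
  refine ⟨J, hJ, ν, hν, hJJ, ⟨fun u v => ?_, fun v => ?_⟩, hspan⟩
  · rcases hb with rfl | rfl
    · refine absurd (fun k hk x y => ?_) hKns
      obtain ⟨s, t, rfl⟩ := hspan k hk
      have h3 := hadj' x y
      rw [zero_smul, zero_add, one_smul] at h3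
      simp only [← sympBil_apply, Matrix.add_mulVec, Matrix.smul_mulVec, Matrix.one_mulVec, map_add, map_smul,
        LinearMap.add_apply, LinearMap.smul_apply, h3]
    · rw [Matrix.toLin'_apply, Matrix.toLin'_apply, hadj', zero_smul, zero_add, neg_smul, one_smul, Matrix.neg_mulVec,
        map_neg]
  · rw [Matrix.toLin'_apply, Matrix.toLin'_apply, Matrix.mulVec_mulVec, hJJ, Matrix.smul_mulVec, Matrix.one_mulVec]

variable {J : Matrix (Fin d ⊕ Fin d) (Fin d ⊕ Fin d) F} {ν : F}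

theorem mem_normaliser (hJ : J ∈ K) (hspan : ∀ k ∈ K, ∃ a b : F, k = a • 1 + b • J)
    {g : GL (Fin d ⊕ Fin d) F} {c : F} (hc : c ≠ 0)
    (hg : (g : Matrix (Fin d ⊕ Fin d) (Fin d ⊕ Fin d) F) * J = c • (J * g)) :
    g ∈ Cfsg.Geo.subalgebraNormalizer K := by
  set G : Matrix (Fin d ⊕ Fin d) (Fin d ⊕ Fin d) F := g.val
  set G' : Matrix (Fin d ⊕ Fin d) (Fin d ⊕ Fin d) F := (g⁻¹).val
  have h1 : G * G' = 1 := g.mul_inv
  have h2 : G' * G = 1 := g.inv_mul
  have hgJ : G * J * G' = c • J := by rw [hg, smul_mul_assoc, mul_assoc, h1, mul_one]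
  have hgJ' : G' * J * G = c⁻¹ • J := by
    rw [mul_assoc, show J * G = c⁻¹ • (G * J) by rw [hg, inv_smul_smul₀ hc], mul_smul_comm, ← mul_assoc, h2, one_mul]
  intro k
  constructor
  · intro hk
    obtain ⟨a, b, rfl⟩ := hspan k hk
    rw [mul_add, add_mul, mul_smul_comm, mul_one, smul_mul_assoc, h1, mul_smul_comm, smul_mul_assoc, hgJ]
    exact K.add_mem (K.smul_mem K.one_mem _) (K.smul_mem (K.smul_mem hJ _) _)
  · intro hk
    obtain ⟨a, b, he⟩ := hspan _ hk
    have : k = G' * (a • 1 + b • J) * G := by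
      rw [← he, ← mul_assoc, ← mul_assoc, h2, one_mul, mul_assoc, h2, mul_one]
    rw [this, mul_add, add_mul, mul_smul_comm, mul_one, smul_mul_assoc, h2, mul_smul_comm, smul_mul_assoc, hgJ']
    exact K.add_mem (K.smul_mem K.one_mem _) (K.smul_mem (K.smul_mem hJ _) _)

theorem normaliser_sign (hd : 0 < d) (h2 : (2 : F) ≠ 0) (hν : ¬ IsSquare ν) (hJ : J ∈ K) (hJJ : J * J = ν • 1)
    (hspan : ∀ k ∈ K, ∃ a b : F, k = a • 1 + b • J) {g : GL (Fin d ⊕ Fin d) F}
    (hg : g ∈ Cfsg.Geo.subalgebraNormalizer K) :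
    ∃ c : F, (c = 1 ∨ c = -1) ∧ ∀ v, toEnd g (J *ᵥ v) = c • (J *ᵥ toEnd g v) := by
  haveI : Nonempty (Fin d ⊕ Fin d) := ⟨Sum.inl ⟨0, hd⟩⟩
  set G : Matrix (Fin d ⊕ Fin d) (Fin d ⊕ Fin d) F := g.val with hG
  set G' : Matrix (Fin d ⊕ Fin d) (Fin d ⊕ Fin d) F := (g⁻¹).val
  have h1' : G' * G = 1 := g.inv_mul
  obtain ⟨a, b, he⟩ := hspan _ ((hg J).1 hJ)
  have hsq : (a • (1 : Matrix (Fin d ⊕ Fin d) (Fin d ⊕ Fin d) F) + b • J) * (a • 1 + b • J) = ν • 1 := by
    rw [← he, show G * J * G' * (G * J * G') = G * J * (G' * G) * (J * G') by simp only [mul_assoc], h1', mul_one,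
      show G * J * (J * G') = G * (J * J) * G' by simp only [mul_assoc], hJJ, mul_smul_comm, mul_one, smul_mul_assoc]
    exact congrArg (ν • ·) g.mul_inv
  obtain ⟨rfl, hb⟩ := sign_of_square hν h2 hJJ hsq
  refine ⟨b, hb, fun v => ?_⟩
  rw [zero_smul, zero_add] at he
  have : G * J = b • (J * G) := by rw [← smul_mul_assoc, ← he, mul_assoc, h1', mul_one]
  simp only [toEnd_apply, Matrix.mulVec_mulVec, ← hG, this, Matrix.smul_mulVec]

theorem odd_commute (hd : 0 < d) (h2 : (2 : F) ≠ 0) (hν : ¬ IsSquare ν) (hJ : J ∈ K) (hJJ : J * J = ν • 1)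
    (hspan : ∀ k ∈ K, ∃ a b : F, k = a • 1 + b • J) {g : GL (Fin d ⊕ Fin d) F}
    (hg : g ∈ Cfsg.Geo.subalgebraNormalizer K) {r : ℕ} (hr : Odd r) (hgr : g ^ r = 1) :
    ∀ v, toEnd g (J *ᵥ v) = J *ᵥ toEnd g v := by
  obtain ⟨c, hc, hcomm⟩ := normaliser_sign hd h2 hν hJ hJJ hspan hg
  rcases hc with rfl | rfl
  · simpa using hcomm
  exfalso
  have hk : ∀ (k : ℕ) v, (toEnd g ^ k) (J *ᵥ v) = (-1 : F) ^ k • (J *ᵥ (toEnd g ^ k) v) := fun k => by
    induction k with
    | zero => intro v; simp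
    | succ k ih =>
      intro v
      rw [pow_succ', Module.End.mul_apply, Module.End.mul_apply, ih, map_smul, hcomm, smul_smul, pow_succ]
  haveI : Nonempty (Fin d ⊕ Fin d) := ⟨Sum.inl ⟨0, hd⟩⟩
  have hJ0 : J = 0 := by
    refine Matrix.toLin'.injective (LinearMap.ext fun v => ?_)
    have h := hk r v
    rw [← toEnd_pow, hgr, toEnd_one, Module.End.one_apply, Module.End.one_apply, hr.neg_one_pow, neg_smul, one_smul,
      eq_neg_iff_add_eq_zero, ← two_smul F, smul_eq_zero] at h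
    simpa using h.resolve_left h2
  rw [hJ0, mul_zero, eq_comm, smul_eq_zero] at hJJ
  exact hν ((hJJ.resolve_right one_ne_zero).symm ▸ IsSquare.zero)

/-- The centraliser in the symplectic group. -/
def centSp (J : Matrix (Fin d ⊕ Fin d) (Fin d ⊕ Fin d) F) : Subgroup (GL (Fin d ⊕ Fin d) F) :=
  Cfsg.spGL d F ⊓
    { carrier := {g | (g : Matrix (Fin d ⊕ Fin d) (Fin d ⊕ Fin d) F) * J = J * g}
      mul_mem' := fun {a b} (ha : _ = _) (hb : _ = _) => by
        show _ = _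
        rw [Units.val_mul, mul_assoc, hb, ← mul_assoc, ha, mul_assoc]
      one_mem' := by simp
      inv_mem' := fun {a} (ha : _ = _) => by
        show _ = _
        calc (a⁻¹).val * J = (a⁻¹).val * (J * a.val) * (a⁻¹).val := by
              rw [mul_assoc, mul_assoc, a.mul_inv, mul_one]
          _ = J * (a⁻¹).val := by rw [← ha, ← mul_assoc, a.inv_mul, one_mul] }

theorem centSp_le (hJ : J ∈ K) (hspan : ∀ k ∈ K, ∃ a b : F, k = a • 1 + b • J) :
    centSp J ≤ Cfsg.Geo.subalgebraNormalizer K ⊓ Cfsg.spGL d F := fun g hg =>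
  ⟨mem_normaliser hJ hspan one_ne_zero (by rw [one_smul]; exact hg.2), hg.1⟩

variable [Fintype F]

theorem card_centSp (hd : 0 < d) (h2 : (2 : F) ≠ 0) (hν : ν ≠ 0)
    (hJs : Skew (sympBil d F) (Matrix.toLin' J) ν) :
    Nat.card (centSp J) = ∏ l ∈ Finset.range d, normNum ν (l + 1) 1 := by
  classical
  have hA := sympBil_isAlt d F
  rw [← CfsgLib.Geo.SkewPlanes.card_systems h2 hν hJs hA d ⊤ (by rw [finrank_top, finrank_sympSpace])
    (fun _ _ => Submodule.mem_top) fun u _ h => sp_nondeg u fun v => h v Submodule.mem_top]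
  obtain ⟨a, ha⟩ := CfsgLib.Geo.SkewPlanes.exists_sys_top h2 hν hJs hA sp_nondeg (finrank_sympSpace d F)
  have hg : ∀ g : centSp J, ∀ v, toEnd g.1 (Matrix.toLin' J v) = Matrix.toLin' J (toEnd g.1 v) := fun g v => by
    have h : (g.1 : Matrix (Fin d ⊕ Fin d) (Fin d ⊕ Fin d) F) * J = J * g.1 := g.2.2
    simp [Matrix.mulVec_mulVec, h]
  let φ : centSp J → {b : Fin d → (Fin d ⊕ Fin d → F) //
      (∀ i, b i ∈ (⊤ : Submodule F (Fin d ⊕ Fin d → F))) ∧ Sys (sympBil d F) (Matrix.toLin' J) b} :=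
    fun g => ⟨fun i => toEnd g.1 (a i), fun _ => Submodule.mem_top, fun i j => by
      rw [← hg g, mem_sp g.2.1, mem_sp g.2.1]; exact ha i j⟩
  refine Nat.card_eq_of_bijective φ ⟨fun g g' h => ?_, fun b => ?_⟩
  · have h' : ∀ i, toEnd g.1 (a i) = toEnd g'.1 (a i) := fun i => congrFun (congrArg Subtype.val h) i
    haveI : Nonempty (Fin d ⊕ Fin d) := ⟨Sum.inl ⟨0, hd⟩⟩
    let bs := basisOfLinearIndependentOfCardEqFinrank ((ha.sympSys hJs).linearIndependent hA)
      (by rw [finrank_sympSpace]; simp [two_mul])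
    refine Subtype.ext (toEnd_injective (bs.ext fun k => ?_))
    have hbs : bs k = Sum.elim a (Matrix.toLin' J ∘ a) k := by simp [bs]
    rw [hbs]
    rcases k with i | i
    · exact h' i
    · show toEnd g.1 (Matrix.toLin' J (a i)) = toEnd g'.1 (Matrix.toLin' J (a i))
      rw [hg, hg, h']
  · obtain ⟨e, he, heB, heJ⟩ := CfsgLib.Geo.SkewPlanes.exists_intertwine hA hJs hJs (finrank_sympSpace d F) ha b.2.2
    have hmem : ofEquiv e ∈ centSp J := by
      refine ⟨mem_sp_iff.2 fun u v => by rw [toEnd_ofEquiv]; exact heB u v, ?_⟩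
      show _ = _
      refine Matrix.toLin'.injective ?_
      rw [Matrix.toLin'_mul, Matrix.toLin'_mul]
      show toEnd (ofEquiv e) ∘ₗ _ = _ ∘ₗ toEnd (ofEquiv e)
      rw [toEnd_ofEquiv]
      exact LinearMap.ext heJ
    refine ⟨⟨ofEquiv e, hmem⟩, Subtype.ext (funext fun i => ?_)⟩
    show toEnd (ofEquiv e) (a i) = b.1 i
    rw [toEnd_ofEquiv]
    exact he i

theorem neg_pow_of_dvd_index (hd : 0 < d) (h2 : (2 : F) ≠ 0) (hν : ¬ IsSquare ν) (hJ : J ∈ K)
    (hJs : Skew (sympBil d F) (Matrix.toLin' J) ν) (hspan : ∀ k ∈ K, ∃ a b : F, k = a • 1 + b • J)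
    {r : ℕ} [Fact r.Prime] (hrq : ((Nat.card F : ℕ) : ZMod r) ≠ 0)
    (hΩ : r ∣ (Cfsg.Geo.subalgebraNormalizer K).relIndex (Cfsg.spGL d F)) :
    ∃ l < d, (-(Nat.card F : ZMod r)) ^ (l + 1) = -1 := by
  have hν0 : ν ≠ 0 := fun h => hν (h ▸ IsSquare.zero)
  set H := (Cfsg.Geo.subalgebraNormalizer K).subgroupOf (Cfsg.spGL d F)
  have hle : (centSp J).subgroupOf (Cfsg.spGL d F) ≤ H := fun g hg => (centSp_le hJ hspan hg).1
  have hC : Nat.card ((centSp J).subgroupOf (Cfsg.spGL d F)) = Nat.card (centSp J) :=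
    Nat.card_congr (Subgroup.subgroupOfEquivOfLe inf_le_left).toEquiv
  obtain ⟨t, ht⟩ := Subgroup.card_dvd_of_le hle
  obtain ⟨s, hs⟩ := hΩ
  have hcard : Nat.card (Cfsg.spGL d F) = Nat.card (centSp J) * t * (r * s) := by
    rw [← Subgroup.card_mul_index H, ht, hC, ← hs]; rfl
  rw [← Nat.card_congr (CfsgLib.Classical.Symp.symplecticEquivSpGL d F).toEquiv,
    CfsgLib.Classical.Symp.card_symplecticGroup, card_centSp hd h2 hν0 hJs] at hcard
  set q : ℕ := Fintype.card F with hq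
  have hq1 : 1 < q := Fintype.one_lt_card
  set A : ℕ → ℤ := fun l => (-(q : ℤ)) ^ (l + 1)
  have hN : ∀ l, (q : ℤ) * normNum ν (l + 1) 1 = A l * (A l - 1) := fun l => by
    rw [CfsgLib.Geo.SkewPlanes.normNum_one hν, ← hq, mul_sub, mul_one, ← pow_add, ← two_mul, pow_mul (-(q : ℤ)),
      neg_sq, ← pow_mul]
  have hS : ∀ l, ((q ^ (2 * (l + 1)) - 1 : ℕ) : ℤ) = (A l - 1) * (A l + 1) := fun l => by
    rw [Nat.cast_sub (Nat.one_le_pow _ _ (by omega)), Nat.cast_pow, Nat.cast_one,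
      show (A l - 1) * (A l + 1) = A l * A l - 1 by ring, ← pow_add, ← two_mul, pow_mul (-(q : ℤ)), neg_sq, ← pow_mul]
  have hne : ∏ l ∈ Finset.range d, (A l - 1) ≠ 0 := Finset.prod_ne_zero_iff.2 fun l _ h => by
    have := congrArg Int.natAbs (sub_eq_zero.1 h)
    rw [Int.natAbs_pow, Int.natAbs_neg, Int.natAbs_natCast, Int.natAbs_one, pow_eq_one_iff_left (Nat.succ_ne_zero l)] at this
    omega
  have key : (q : ℤ) ^ d * (q : ℤ) ^ (d ^ 2) * ∏ l ∈ Finset.range d, (A l + 1) =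
      (r : ℤ) * ((∏ l ∈ Finset.range d, A l) * t * s) := by
    refine mul_right_cancel₀ hne ?_
    have h := congrArg (fun n : ℕ => (q : ℤ) ^ d * (n : ℤ)) hcard
    simp only [Nat.cast_mul, Nat.cast_pow, Nat.cast_prod, hS, Finset.prod_mul_distrib] at h
    have hprod : (q : ℤ) ^ d * ∏ l ∈ Finset.range d, (normNum ν (l + 1) 1 : ℤ) =
        (∏ l ∈ Finset.range d, A l) * ∏ l ∈ Finset.range d, (A l - 1) := by
      rw [← Finset.card_range d, ← Finset.prod_const, Finset.card_range, ← Finset.prod_mul_distrib,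
        Finset.prod_congr rfl fun l _ => hN l, Finset.prod_mul_distrib]
    linear_combination h + ((r : ℤ) * t * s) * hprod
  have h := congrArg (fun n : ℤ => (n : ZMod r)) key
  simp only [Int.cast_mul, Int.cast_pow, Int.cast_natCast, ZMod.natCast_self, zero_mul, Int.cast_prod] at h
  rw [mul_eq_zero, mul_eq_zero, pow_eq_zero_iff hd.ne', pow_eq_zero_iff (pow_pos hd 2).ne', or_self,
    Finset.prod_eq_zero_iff] at h
  rw [Nat.card_eq_fintype_card] at hrq ⊢
  obtain ⟨l, hl, h⟩ := h.resolve_left hrq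
  refine ⟨l, Finset.mem_range.1 hl, ?_⟩
  simp only [A, Int.cast_add, Int.cast_pow, Int.cast_neg, Int.cast_natCast, Int.cast_one] at h
  exact eq_neg_of_add_eq_zero_left h

/-- Semisimple elements not normalising the field. -/
theorem exists_semisimple_derangement (hd : 0 < d) (h2 : (2 : F) ≠ 0) (hν : ¬ IsSquare ν) (hJ : J ∈ K)
    (hJJ : J * J = ν • 1) (hJs : Skew (sympBil d F) (Matrix.toLin' J) ν)
    (hspan : ∀ k ∈ K, ∃ a b : F, k = a • 1 + b • J)
    {r : ℕ} [Fact r.Prime] (hr : Odd r) (hrF : (r : F) ≠ 0) (hrq : ((Nat.card F : ℕ) : ZMod r) ≠ 0)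
    (hΩ : r ∣ (Cfsg.Geo.subalgebraNormalizer K).relIndex (Cfsg.spGL d F)) :
    ∃ x ∈ Cfsg.spGL d F, x ^ r = 1 ∧ (∀ z : F, (x : Matrix (Fin d ⊕ Fin d) (Fin d ⊕ Fin d) F) ≠ z • 1) ∧
      ∀ g ∈ Cfsg.spGL d F, g⁻¹ * x * g ∉ Cfsg.Geo.subalgebraNormalizer K := by
  classical
  have hν0 : ν ≠ 0 := fun h => hν (h ▸ IsSquare.zero)
  obtain ⟨l, hl, hneg⟩ := neg_pow_of_dvd_index hd h2 hν hJ hJs hspan hrq hΩ
  have hr2 : r ≠ 2 := fun h => by rw [h] at hr; exact Nat.not_odd_iff_even.2 even_two hr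
  have hsq : (Nat.card F : ZMod r) ^ (2 * (l + 1)) = 1 := by
    rw [pow_mul, ← neg_sq, ← pow_mul, mul_comm 2, pow_mul, hneg, neg_one_sq]
  set e := orderOf (-(Nat.card F : ZMod r)) with he
  have he2 : e ∣ 2 * (l + 1) := orderOf_dvd_of_pow_eq_one (by
    rw [pow_mul, neg_sq, ← pow_mul, hsq])
  have hne : ¬ e ∣ l + 1 := fun h => by
    have h1 := orderOf_dvd_iff_pow_eq_one.1 h
    rw [hneg] at h1
    have : ((2 : ℕ) : ZMod r) = 0 := by push_cast; linear_combination -h1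
    rw [ZMod.natCast_eq_zero_iff] at this
    exact hr2 ((Nat.prime_dvd_prime_iff_eq Fact.out Nat.prime_two).1 this)
  have heven : 2 ∣ e := by
    by_contra h
    exact hne (((Nat.prime_two.coprime_iff_not_dvd.2 h).symm).dvd_of_dvd_mul_left he2)
  obtain ⟨i, hi⟩ : ∃ i, orderOf (Nat.card F : ZMod r) = i := ⟨_, rfl⟩
  have hie : i ∣ e := hi ▸ orderOf_dvd_of_pow_eq_one (by
    obtain ⟨e', he'⟩ := heven
    rw [he', pow_mul, ← neg_sq, ← pow_mul, ← he', he, pow_orderOf_eq_one])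
  have hi0 : 0 < i := Nat.pos_of_dvd_of_pos hie (Nat.pos_of_dvd_of_pos he2 (by omega))
  have hce : Nat.lcm 2 i ∣ e := Nat.lcm_dvd heven hie
  have hc2 := Nat.le_of_dvd (by omega) (hce.trans he2)
  obtain ⟨x, hx, hxr, -, hrest⟩ := exists_element (d := d) hrF (hi.symm ▸ hi0) (by rw [hi]; omega)
  rw [hi] at hrest
  have hc0 : 0 < Nat.lcm 2 i := Nat.lcm_pos two_pos hi0
  refine ⟨x, hx, hxr, fun z => ne_scalar_of_rest hrF hd hx hxr (by omega) (Or.inl hr2) z, fun g hg hy => ?_⟩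
  set y := g⁻¹ * x * g with hy'
  have hysp : y ∈ Cfsg.spGL d F := mul_mem (mul_mem (inv_mem hg) hx) hg
  have hyr : y ^ r = 1 := by
    rw [show y = g⁻¹ * x * (g⁻¹)⁻¹ by rw [inv_inv], conj_pow, hxr, mul_one, mul_inv_cancel]
  have hrest' : finrank F (restSp r (toEnd y)) = Nat.lcm 2 i := by
    have h1 := finrank_rest hxr hrF
    have h3 := finrank_rest hyr hrF
    rw [hy', finrank_fixSp_conj, ← hy'] at h3
    omega
  have hcomm := odd_commute hd h2 hν hJ hJJ hspan hy hr hyr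
  have hyr' : toEnd y ^ r = 1 := by rw [← toEnd_pow, hyr, toEnd_one]
  set W := restSp r (toEnd y)
  have hWJ : ∀ v ∈ W, Matrix.toLin' J v ∈ W := rest_commute (fun v => by
    rw [Matrix.toLin'_apply, Matrix.toLin'_apply, hcomm])
  have hWn := rest_nondeg hyr' hrF (mem_sp hysp) (sp_nondeg (d := d))
  obtain ⟨w, -, -, -, hw⟩ := CfsgLib.Geo.SkewPlanes.exists_sys h2 hν0 hJs (sympBil_isAlt d F) _ W rfl hWJ hWn
  let S := {v : W // sympBil d F (v : Fin d ⊕ Fin d → F) (Matrix.toLin' J v) = (1 : F)}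
  have hyW : ∀ v ∈ W, toEnd y v ∈ W := rest_commute (fun v => rfl)
  let f : S → S := fun v => ⟨⟨toEnd y v.1, hyW _ v.1.2⟩, by
    show sympBil d F (toEnd y v.1) (Matrix.toLin' J (toEnd y v.1)) = 1
    rw [Matrix.toLin'_apply, ← hcomm, mem_sp hysp, ← Matrix.toLin'_apply]
    exact v.2⟩
  have hfinj : Function.Injective f := fun v v' h => by
    refine Subtype.ext (Subtype.ext ?_)
    have h' : toEnd y v.1 = toEnd y v'.1 := congrArg (fun s : S => (s.1 : Fin d ⊕ Fin d → F)) h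
    have := congrArg (toEnd y ^ (r - 1)) h'
    rwa [← Module.End.mul_apply, ← Module.End.mul_apply, ← pow_succ, Nat.sub_add_cancel (Fact.out : r.Prime).one_le,
      hyr', Module.End.one_apply, Module.End.one_apply] at this
  let σ : Equiv.Perm S := Equiv.ofBijective f (Finite.injective_iff_bijective.1 hfinj)
  have hσk : ∀ (k : ℕ) (v : S), (((σ ^ k) v).1 : Fin d ⊕ Fin d → F) = (toEnd y ^ k) v.1 := fun k => by
    induction k with
    | zero => intro v; rfl
    | succ k ih =>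
      intro v
      rw [pow_succ', pow_succ', Equiv.Perm.mul_apply, Module.End.mul_apply, ← ih]
      rfl
  have : Fintype S := Fintype.ofFinite S
  have hmod := Equiv.Perm.card_compl_support_modEq (p := r) (n := 1) (σ := σ) (by
    refine Equiv.ext fun v => Subtype.ext (Subtype.ext ?_)
    rw [pow_one, hσk, hyr']
    rfl)
  have hnofix : σ.supportᶜ = ∅ := Finset.eq_empty_iff_forall_notMem.2 fun v hv => by
    rw [Finset.mem_compl, Equiv.Perm.notMem_support] at hv
    have h1 : toEnd y v.1 = (v.1 : Fin d ⊕ Fin d → F) := congrArg (fun s : S => (s.1 : Fin d ⊕ Fin d → F)) hv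
    have h3 := (fix_rest_orth hrF (mem_sp hysp) h1 (hWJ _ v.1.2)).1
    rw [v.2] at h3
    exact one_ne_zero h3
  rw [hnofix, Finset.card_empty] at hmod
  have hN : r ∣ normNum ν w 1 := by
    rw [← CfsgLib.Geo.SkewPlanes.card_anchors h2 hν0 hJs (sympBil_isAlt d F) hWJ hWn hw 1,
      Nat.card_eq_fintype_card]
    exact Nat.modEq_zero_iff_dvd.1 hmod.symm
  have hone := congrArg (fun n : ℤ => (n : ZMod r)) (CfsgLib.Geo.SkewPlanes.normNum_one hν w)
  simp only [Int.cast_mul, Int.cast_natCast, (ZMod.natCast_eq_zero_iff _ _).2 hN, mul_zero, Int.cast_sub,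
    Int.cast_pow, Int.cast_neg, ← Nat.card_eq_fintype_card, ← hrest', hw] at hone
  have hw1 : (-(Nat.card F : ZMod r)) ^ w = 1 := by
    refine mul_left_cancel₀ (pow_ne_zero w (neg_ne_zero.2 hrq)) ?_
    rw [mul_one, ← pow_add, ← two_mul, pow_mul, neg_sq, ← pow_mul]
    linear_combination -hone
  have hew : e ∣ w := orderOf_dvd_of_pow_eq_one hw1
  have h4 := Nat.le_of_dvd (by omega) (hce.trans hew)
  omega

/-- Transvections do not normalise the field. -/
theorem exists_unipotent_derangement (hd : 0 < d) (h2 : (2 : F) ≠ 0) (hν : ¬ IsSquare ν) (hJ : J ∈ K)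
    (hJJ : J * J = ν • 1) (hspan : ∀ k ∈ K, ∃ a b : F, k = a • 1 + b • J)
    {p : ℕ} [CharP F p] (hp : Odd p) :
    ∃ x ∈ Cfsg.spGL d F, x ^ p = 1 ∧ (∀ z : F, (x : Matrix (Fin d ⊕ Fin d) (Fin d ⊕ Fin d) F) ≠ z • 1) ∧
      ∀ g ∈ Cfsg.spGL d F, g⁻¹ * x * g ∉ Cfsg.Geo.subalgebraNormalizer K := by
  obtain ⟨x, a, hx, ha, hxv, hxp⟩ := exists_transvection (F := F) hd
  obtain ⟨v₀, hv₀⟩ : ∃ v, sympBil d F v a = 1 := by
    obtain ⟨v, hv⟩ : ∃ v, sympBil d F v a ≠ 0 := by
      by_contra! hc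
      exact ha (sp_nondeg a fun v => by rw [← LinearMap.IsAlt.neg (sympBil_isAlt d F), hc, neg_zero])
    exact ⟨(sympBil d F v a)⁻¹ • v, by rw [map_smul, LinearMap.smul_apply, smul_eq_mul, inv_mul_cancel₀ hv]⟩
  refine ⟨x, hx, hxp p, fun z hz => ?_, fun g hg hy => ?_⟩
  · have h1 : ∀ v, toEnd x v = z • v := fun v => by
      rw [toEnd_apply, hz, Matrix.smul_mulVec, Matrix.one_mulVec]
    have hz1 : z • a = a := by
      rw [← h1, hxv, sympBil_isAlt d F a, zero_smul, add_zero]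
    have hz : z = 1 := smul_left_injective F ha (hz1.trans (one_smul F a).symm)
    have h3 := hxv v₀
    rw [h1, hz, one_smul, hv₀, one_smul, left_eq_add] at h3
    exact ha h3
  · set y := g⁻¹ * x * g with hy'
    have hyp : y ^ p = 1 := by
      rw [show y = g⁻¹ * x * (g⁻¹)⁻¹ by rw [inv_inv], conj_pow, hxp p, mul_one, mul_inv_cancel]
    have hgg : ∀ v, toEnd g⁻¹ (toEnd g v) = v := fun v => by simp [Matrix.mulVec_mulVec]
    set b := toEnd g⁻¹ a
    have hyv : ∀ v, toEnd y v = v + sympBil d F (toEnd g v) a • b := fun v => by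
      rw [hy', toEnd_conj, hxv, map_add, map_smul, hgg]
    have hcomm := odd_commute hd h2 hν hJ hJJ hspan hy hp hyp
    obtain ⟨v, rfl⟩ : ∃ v, toEnd g v = v₀ := ⟨toEnd g⁻¹ v₀, by simp [Matrix.mulVec_mulVec]⟩
    have h3 := hcomm v
    rw [hyv, hyv, hv₀, one_smul, Matrix.mulVec_add, add_right_inj] at h3
    set c := sympBil d F (toEnd g (J *ᵥ v)) a
    have h4 : (c * c) • b = ν • b := by
      rw [mul_smul, h3, ← Matrix.mulVec_smul, h3, Matrix.mulVec_mulVec, hJJ, Matrix.smul_mulVec, Matrix.one_mulVec]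
    have hb : b ≠ 0 := fun h => ha (by
      have := congrArg (toEnd g) h
      simpa [b, Matrix.mulVec_mulVec] using this)
    exact hν ⟨c, (smul_left_injective F hb h4).symm⟩

/-- All involutions normalise some conjugate of the field. -/
theorem involution_normalises (h2 : (2 : F) ≠ 0) (hν : ν ≠ 0) (hJ : J ∈ K)
    (hJs : Skew (sympBil d F) (Matrix.toLin' J) ν) (hspan : ∀ k ∈ K, ∃ a b : F, k = a • 1 + b • J)
    {x : GL (Fin d ⊕ Fin d) F} (hx : x ∈ Cfsg.spGL d F) {z : F}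
    (hz : ((x ^ 2 : GL (Fin d ⊕ Fin d) F) : Matrix (Fin d ⊕ Fin d) (Fin d ⊕ Fin d) F) = z • 1) :
    ∃ g ∈ Cfsg.spGL d F, g⁻¹ * x * g ∈ Cfsg.Geo.subalgebraNormalizer K := by
  classical
  rcases Nat.eq_zero_or_pos d with h0 | h0
  · subst h0
    refine ⟨1, one_mem _, mem_normaliser hJ hspan one_ne_zero ?_⟩
    exact Subsingleton.elim _ _
  have hA := sympBil_isAlt d F
  have hX2 : ∀ v, toEnd x (toEnd x v) = z • v := fun v => by
    rw [← Module.End.mul_apply, ← toEnd_mul, ← pow_two, toEnd_apply, hz, Matrix.smul_mulVec, Matrix.one_mulVec]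
  have hzz : z * z = 1 := by
    let e0 : Fin d ⊕ Fin d → F := Pi.single (Sum.inl ⟨0, h0⟩) 1
    obtain ⟨w, hw⟩ : ∃ w, sympBil d F e0 w ≠ 0 := by
      by_contra! hc
      simpa [e0] using congrFun (sp_nondeg _ hc) (Sum.inl ⟨0, h0⟩)
    have := mem_sp hx (toEnd x e0) (toEnd x w)
    rw [mem_sp hx e0 w, hX2, hX2, map_smul, map_smul, LinearMap.smul_apply, smul_eq_mul, smul_eq_mul,
      ← mul_assoc] at this
    exact (mul_eq_right₀ hw).1 this
  obtain ⟨J', c, hJ', hc, hXJ⟩ : ∃ (J' : (Fin d ⊕ Fin d → F) →ₗ[F] (Fin d ⊕ Fin d → F)) (c : F),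
      Skew (sympBil d F) J' ν ∧ c ≠ 0 ∧ ∀ v, toEnd x (J' v) = c • J' (toEnd x v) := by
    rcases mul_self_eq_one_iff.1 hzz with rfl | rfl
    · obtain ⟨J', hJ', h⟩ := exists_skew_commute h2 hA sp_nondeg (mem_sp hx)
        (fun v => by rw [hX2, one_smul]) ν
      exact ⟨J', 1, hJ', one_ne_zero, fun v => by rw [h, one_smul]⟩
    · obtain ⟨J', hJ', h⟩ := exists_skew_anticommute h2 hA sp_nondeg (finrank_sympSpace d F)
        (X := toEnd x) ⟨fun u v => by
          have h := mem_sp hx (toEnd x u) v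
          rw [hX2, neg_smul, one_smul, map_neg, LinearMap.neg_apply] at h
          rw [← h], hX2⟩ ν
      exact ⟨J', -1, hJ', neg_ne_zero.2 one_ne_zero, fun v => by rw [h, neg_smul, one_smul]⟩
  obtain ⟨a, ha⟩ := CfsgLib.Geo.SkewPlanes.exists_sys_top h2 hν hJs hA sp_nondeg (finrank_sympSpace d F)
  obtain ⟨a', ha'⟩ := CfsgLib.Geo.SkewPlanes.exists_sys_top h2 hν hJ' hA sp_nondeg (finrank_sympSpace d F)
  obtain ⟨e, -, heB, heJ⟩ := CfsgLib.Geo.SkewPlanes.exists_intertwine hA hJs hJ' (finrank_sympSpace d F) ha ha'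
  refine ⟨ofEquiv e, mem_sp_iff.2 fun u v => by rw [toEnd_ofEquiv]; exact heB u v,
    mem_normaliser hJ hspan hc ?_⟩
  refine Matrix.toLin'.injective (LinearMap.ext fun v => ?_)
  have he : ∀ v, toEnd (ofEquiv e) v = e v := fun v => by rw [toEnd_ofEquiv]; rfl
  have hei : ∀ v, toEnd (ofEquiv e)⁻¹ v = e.symm v := fun v => by
    apply e.injective
    rw [e.apply_symm_apply, ← he]
    simp [Matrix.mulVec_mulVec]
  rw [Matrix.toLin'_mul, map_smul, Matrix.toLin'_mul, LinearMap.comp_apply, LinearMap.smul_apply, LinearMap.comp_apply]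
  show toEnd _ _ = c • Matrix.toLin' J (toEnd _ v)
  rw [toEnd_conj, toEnd_conj, he, hei, he, hei]
  refine e.injective ?_
  rw [e.apply_symm_apply, heJ, map_smul, hXJ, heJ, e.apply_symm_apply]

end Symp

end CfsgLib.Geo.SympUnit
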