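/-
Involutions of four-dimensional symplectic groups and self-adjoint quadratic fields.
-/
import Cfsg.Agent.Lib.Geo.SympUnitaryTypeDerange

set_option autoImplicit false

namespace CfsgLib.Geo.SympFieldInv

open Module Matrix CfsgLib.Geo.PrimeSp
open CfsgLib.Geo.SkewPlanes (Skew)
open LinearMap (BilinForm)
open CfsgLib.Classical.Symp (IsSympSys sympBil sympBil_apply sympBil_isAlt sympBil_nondegenerate finrank_sympSpace)

section Abstract

variable {F : Type*} [Field F] {V : Type*} [AddCommGroup V] [Module F V] [FiniteDimensional F V]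
variable {B : BilinForm F V} {ν : F}

/-- A self-adjoint map with scalar square. -/
structure Sym (B : BilinForm F V) (J : V →ₗ[F] V) (ν : F) : Prop where
  adj : ∀ u v, B (J u) v = B u (J v)
  sq : ∀ v, J (J v) = ν • v

/-- The table of a self-adjoint map in an adapted basis. -/
def Table (J : V →ₗ[F] V) (ν : F) (v : Fin 2 ⊕ Fin 2 → V) : Prop :=
  J (v (.inl 0)) = v (.inl 1) ∧ J (v (.inl 1)) = ν • v (.inl 0) ∧
    J (v (.inr 1)) = v (.inr 0) ∧ J (v (.inr 0)) = ν • v (.inr 1)

theorem card_index (hd : finrank F V = 4) : Fintype.card (Fin 2 ⊕ Fin 2) = finrank F V := by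
  rw [hd]; rfl

theorem exists_nf (h2 : (2 : F) ≠ 0) (hν : ¬ IsSquare ν) (hA : B.IsAlt) (hB : B.Nondegenerate)
    (hd : finrank F V = 4) {J : V →ₗ[F] V} (hJ : Sym B J ν) : ∃ v, IsSympSys B v ∧ Table J ν v := by
  have hdiag : ∀ u, B u (J u) = 0 := fun u => by
    have h := hJ.adj u u
    rw [← LinearMap.IsAlt.neg hA u (J u)] at h
    have : (2 : F) * B u (J u) = 0 := by linear_combination -h
    exact (mul_eq_zero.1 this).resolve_left h2
  have : Nontrivial V := Module.nontrivial_of_finrank_pos (R := F) (by omega)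
  obtain ⟨e, he⟩ := exists_ne (0 : V)
  let φ : V →ₗ[F] F × F := (B e).prod (B (J e))
  have hφ : LinearMap.range φ = ⊤ := by
    by_contra hne
    obtain ⟨g, hg, hle⟩ := Submodule.exists_le_ker_of_lt_top _ (lt_top_iff_ne_top.2 hne)
    have h0 : ∀ v, g (1, 0) * B e v + g (0, 1) * B (J e) v = 0 := fun v => by
      have h := hle (LinearMap.mem_range_self φ v)
      rw [LinearMap.mem_ker, show φ v = (B e v) • ((1 : F), (0 : F)) + (B (J e) v) • ((0 : F), (1 : F)) by
        simp [φ], map_add, map_smul, map_smul, smul_eq_mul, smul_eq_mul] at h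
      linear_combination h
    have h1 : g (1, 0) • e + g (0, 1) • J e = 0 := hB.1 _ fun v => by
      simpa [smul_eq_mul] using h0 v
    rcases eq_or_ne (g (0, 1)) 0 with hb | hb
    · rw [hb, zero_smul, add_zero, smul_eq_zero] at h1
      refine hg (LinearMap.prod_ext_iff.2 ⟨LinearMap.ext fun x => ?_, LinearMap.ext fun x => ?_⟩)
      · have : ((x, 0) : F × F) = x • (1, 0) := by simp
        simp only [LinearMap.comp_apply, LinearMap.inl_apply, LinearMap.zero_apply]; rw [this, map_smul, h1.resolve_right he, smul_zero]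
      · have : ((0, x) : F × F) = x • (0, 1) := by simp
        simp only [LinearMap.comp_apply, LinearMap.inr_apply, LinearMap.zero_apply]; rw [this, map_smul, hb, smul_zero]
    · have h3 : J e = (-(g (0, 1))⁻¹ * g (1, 0)) • e := by
        rw [← inv_smul_smul₀ hb (J e), eq_neg_of_add_eq_zero_right h1, smul_neg, smul_smul, neg_mul, neg_smul]
      have h4 := hJ.sq e
      rw [h3, map_smul, h3, smul_smul] at h4
      exact hν ⟨_, (smul_left_injective F he h4).symm⟩
  obtain ⟨f, hf⟩ := LinearMap.range_eq_top.1 hφ (0, 1)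
  obtain ⟨hf1, hf2⟩ := Prod.ext_iff.1 hf
  simp only [φ, LinearMap.prod_apply, Function.prod_apply] at hf1 hf2
  have h3 : B e (J f) = 1 := by rw [← hJ.adj, hf2]
  refine ⟨Sum.elim ![e, J e] ![J f, f], ⟨fun i j => ?_, fun i j => ?_, fun i j => ?_⟩, ?_⟩
  · fin_cases i <;> fin_cases j <;> simp [h3, hf1, hf2, hJ.adj, hJ.sq]
  · fin_cases i <;> fin_cases j <;>
      simp [hA e, hA (J e), hdiag e, ← LinearMap.IsAlt.neg hA e (J e)]
  · fin_cases i <;> fin_cases j <;>
      simp [hA f, hA (J f), hdiag f, ← LinearMap.IsAlt.neg hA f (J f)]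
  · exact ⟨rfl, hJ.sq e, rfl, hJ.sq f⟩

theorem exists_intertwine (h2 : (2 : F) ≠ 0) (hν : ¬ IsSquare ν) (hA : B.IsAlt) (hB : B.Nondegenerate)
    (hd : finrank F V = 4) {J J' : V →ₗ[F] V} (hJ : Sym B J ν) (hJ' : Sym B J' ν) :
    ∃ g : V ≃ₗ[F] V, (∀ u v, B (g u) (g v) = B u v) ∧ ∀ u, g (J u) = J' (g u) := by
  obtain ⟨v, hv, t1, t2, t3, t4⟩ := exists_nf h2 hν hA hB hd hJ
  obtain ⟨w, hw, s1, s2, s3, s4⟩ := exists_nf h2 hν hA hB hd hJ'
  obtain ⟨g, hg, hgB⟩ := CfsgLib.Geo.SkewPlanes.exists_isometry_of_sys hA (d := 2) hd hv hw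
  refine ⟨g, hgB, fun u => ?_⟩
  let b := basisOfLinearIndependentOfCardEqFinrank (hv.linearIndependent hA) (card_index hd)
  have key : g.toLinearMap ∘ₗ J = J' ∘ₗ g.toLinearMap := b.ext fun k => by
    have hbk : b k = v k := by simp [b]
    simp only [LinearMap.comp_apply, LinearEquiv.coe_coe, hbk]
    rcases k with i | i <;> fin_cases i <;> simp [t1, t2, t3, t4, s1, s2, s3, s4, hg]
  exact LinearMap.congr_fun key u

theorem sym_of_commute [Fintype F] (h2 : (2 : F) ≠ 0) (hA : B.IsAlt) (hB : B.Nondegenerate) (hd : finrank F V = 4)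
    {X : V →ₗ[F] V} (hX : Skew B X (-1)) (ν : F) :
    ∃ J : V →ₗ[F] V, Sym B J ν ∧ ∀ v, X (J v) = J (X v) := by
  obtain ⟨a, ha⟩ := CfsgLib.Geo.SkewPlanes.exists_sys_top h2 (neg_ne_zero.2 one_ne_zero) hX hA hB.1 (d := 2) hd
  obtain ⟨α, β, hαβ⟩ := CfsgLib.Geo.InvClass.exists_norm_eq (-1 : F) ν (neg_ne_zero.2 one_ne_zero)
  have hv := ha.sympSys hX
  let b := basisOfLinearIndependentOfCardEqFinrank (hv.linearIndependent hA) (card_index hd)
  have hb : ∀ k, b k = Sum.elim a (X ∘ a) k := fun k => by simp [b]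
  let J : V →ₗ[F] V := b.constr F (Sum.elim ![α • a 1 + β • X (a 1), α • a 0 - β • X (a 0)]
    ![α • X (a 1) - β • a 1, α • X (a 0) + β • a 0])
  have hJk : ∀ k, J (Sum.elim a (X ∘ a) k) = Sum.elim ![α • a 1 + β • X (a 1), α • a 0 - β • X (a 0)]
      ![α • X (a 1) - β • a 1, α • X (a 0) + β • a 0] k := fun k => by
    rw [← hb]; exact b.constr_basis F _ k
  have j0 : J (a 0) = α • a 1 + β • X (a 1) := hJk (.inl 0)
  have j1 : J (a 1) = α • a 0 - β • X (a 0) := hJk (.inl 1)
  have k0 : J (X (a 0)) = α • X (a 1) - β • a 1 := hJk (.inr 0)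
  have k1 : J (X (a 1)) = α • X (a 0) + β • a 0 := hJk (.inr 1)
  have hsw : ∀ i j, B (X (a i)) (a j) = -(if i = j then (1 : F) else 0) := fun i j => by
    rw [hX.adj, (ha i j).2]
  have hXX : ∀ i j, B (X (a i)) (X (a j)) = 0 := hv.2.2
  refine ⟨J, ⟨fun u w => ?_, fun u => ?_⟩, fun u => ?_⟩
  · have key : B.compl₁₂ J LinearMap.id = B.compl₁₂ LinearMap.id J := LinearMap.ext_basis b b fun k l => by
      simp only [LinearMap.compl₁₂_apply, LinearMap.id_apply, hb]
      rcases k with i | i <;> rcases l with j | j <;> fin_cases i <;> fin_cases j <;>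
        simp [j0, j1, k0, k1, hsw, hXX, (ha _ _).1, (ha _ _).2]
    simpa using LinearMap.congr_fun (LinearMap.congr_fun key u) w
  · have key : J ∘ₗ J = ν • LinearMap.id := b.ext fun k => by
      simp only [LinearMap.comp_apply, LinearMap.smul_apply, LinearMap.id_apply, hb, ← hαβ]
      rcases k with i | i <;> fin_cases i <;> simp [j0, j1, k0, k1] <;> module
    exact LinearMap.congr_fun key u
  · have key : X ∘ₗ J = J ∘ₗ X := b.ext fun k => by
      simp only [LinearMap.comp_apply, hb]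
      rcases k with i | i <;> fin_cases i <;> simp [j0, j1, k0, k1, hX.sq] <;> module
    exact LinearMap.congr_fun key u

theorem sym_of_anticommute (h2 : (2 : F) ≠ 0) (hA : B.IsAlt) (hB : B.Nondegenerate) (hd : finrank F V = 4)
    {X : V →ₗ[F] V} (hX : ∀ u v, B (X u) (X v) = B u v) (hXX : ∀ v, X (X v) = v)
    (h1 : ∃ v, X v ≠ v) (h1' : ∃ v, X v ≠ -v) (ν : F) :
    ∃ J : V →ₗ[F] V, Sym B J ν ∧ ∀ v, X (J v) = -J (X v) := by
  have hpair : ∀ s : F, s * s = 1 → (∃ v, X v ≠ -(s • v)) →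
      ∃ a b, X a = s • a ∧ X b = s • b ∧ B a b = 1 := fun s hs ⟨v, hv⟩ => by
    have heig : ∀ w, X (w + s • X w) = s • (w + s • X w) := fun w => by
      rw [map_add, map_smul, hXX, smul_add, smul_smul, hs, one_smul, add_comm]
    set a := v + s • X v with ha
    have ha0 : a ≠ 0 := fun h => hv (by
      have h' : s • X v = -v := eq_neg_of_add_eq_zero_right h
      calc X v = (s * s) • X v := by rw [hs, one_smul]
        _ = -(s • v) := by rw [← smul_smul, h', smul_neg])
    obtain ⟨w, hw⟩ : ∃ w, B a w ≠ 0 := by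
      by_contra! hc
      exact ha0 (hB.1 a hc)
    have h3 : B a (w + s • X w) = 2 * B a w := by
      rw [map_add, map_smul, smul_eq_mul]
      have h4 := hX a w
      rw [heig v, map_smul, LinearMap.smul_apply, smul_eq_mul] at h4
      linear_combination h4
    exact ⟨a, (2 * B a w)⁻¹ • (w + s • X w), heig v, by rw [map_smul, heig, smul_comm],
      by rw [map_smul, h3, smul_eq_mul, inv_mul_cancel₀ (mul_ne_zero h2 hw)]⟩
  obtain ⟨a, b, ha, hb, hab⟩ := hpair 1 (one_mul 1) (by simpa using h1')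
  obtain ⟨c, e, hc, he, hce⟩ := hpair (-1) (by ring) (by simpa using h1)
  rw [one_smul] at ha hb
  rw [neg_smul, one_smul] at hc he
  have horth : ∀ u w, X u = u → X w = -w → B u w = 0 ∧ B w u = 0 := fun u w hu hw => by
    have h : B u w = 0 := by
      have h' := hX u w
      rw [hu, hw, map_neg] at h'
      have : (2 : F) * B u w = 0 := by linear_combination -h'
      exact (mul_eq_zero.1 this).resolve_left h2
    exact ⟨h, by rw [← LinearMap.IsAlt.neg hA, h, neg_zero]⟩
  have hac := horth a c ha hc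
  have hae := horth a e ha he
  have hbc := horth b c hb hc
  have hbe := horth b e hb he
  let v : Fin 2 ⊕ Fin 2 → V := Sum.elim ![a, c] ![b, e]
  have hv : IsSympSys B v := ⟨fun i j => by fin_cases i <;> fin_cases j <;> simp [v, hab, hce, hae.1, hbc.2],
    fun i j => by fin_cases i <;> fin_cases j <;> simp [v, hA a, hA c, hac.1, hac.2],
    fun i j => by fin_cases i <;> fin_cases j <;> simp [v, hA b, hA e, hbe.1, hbe.2]⟩
  let bs := basisOfLinearIndependentOfCardEqFinrank (hv.linearIndependent hA) (card_index hd)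
  have hbs : ∀ k, bs k = v k := fun k => by simp [bs]
  let J : V →ₗ[F] V := bs.constr F (Sum.elim ![c, ν • a] ![ν • e, b])
  have hJk : ∀ k, J (v k) = Sum.elim ![c, ν • a] ![ν • e, b] k := fun k => by
    rw [← hbs]; exact bs.constr_basis F _ k
  have j0 : J a = c := hJk (.inl 0)
  have j1 : J c = ν • a := hJk (.inl 1)
  have k0 : J b = ν • e := hJk (.inr 0)
  have k1 : J e = b := hJk (.inr 1)
  have hba : B b a = -1 := by rw [← LinearMap.IsAlt.neg hA, hab]
  have hec : B e c = -1 := by rw [← LinearMap.IsAlt.neg hA, hce]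
  refine ⟨J, ⟨fun u w => ?_, fun u => ?_⟩, fun u => ?_⟩
  · have key : B.compl₁₂ J LinearMap.id = B.compl₁₂ LinearMap.id J := LinearMap.ext_basis bs bs fun k l => by
      simp only [LinearMap.compl₁₂_apply, LinearMap.id_apply, hbs]
      rcases k with i | i <;> rcases l with j | j <;> fin_cases i <;> fin_cases j <;>
        simp [v, j0, j1, k0, k1, hab, hce, hba, hec, hA a, hA b, hA c, hA e, hac.1, hac.2, hae.1, hae.2,
          hbc.1, hbc.2, hbe.1, hbe.2]
    simpa using LinearMap.congr_fun (LinearMap.congr_fun key u) w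
  · have key : J ∘ₗ J = ν • LinearMap.id := bs.ext fun k => by
      rcases k with i | i <;> fin_cases i <;> simp [hbs, v, j0, j1, k0, k1]
    exact LinearMap.congr_fun key u
  · have key : X ∘ₗ J = -(J ∘ₗ X) := bs.ext fun k => by
      rcases k with i | i <;> fin_cases i <;> simp [hbs, v, j0, j1, k0, k1, ha, hb, hc, he]
    simpa using LinearMap.congr_fun key u

end Abstract

/-- Every involution normalises a conjugate of a self-adjoint quadratic field in dimension four. -/
theorem involution_normalises {F : Type*} [Field F] [Fintype F] {d : ℕ} (hd : d = 2) (h2 : (2 : F) ≠ 0)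
    (K : Subalgebra F (Matrix (Fin d ⊕ Fin d) (Fin d ⊕ Fin d) F)) (hK : Cfsg.Geo.IsFieldSubalgebra 2 K)
    (hsa : Cfsg.Geo.IsSelfAdjointFor (Cfsg.sympForm d F) K)
    {x : GL (Fin d ⊕ Fin d) F} (hx : x ∈ Cfsg.spGL d F) {z : F}
    (hz : ((x ^ 2 : GL (Fin d ⊕ Fin d) F) : Matrix (Fin d ⊕ Fin d) (Fin d ⊕ Fin d) F) = z • 1)
    (hns : ∀ z : F, (x : Matrix (Fin d ⊕ Fin d) (Fin d ⊕ Fin d) F) ≠ z • 1) :
    ∃ g ∈ Cfsg.spGL d F, g⁻¹ * x * g ∈ Cfsg.Geo.subalgebraNormalizer K := by
  classical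
  subst hd
  obtain ⟨J, hJ, ν, hν, hJJ, hspan⟩ := CfsgLib.Geo.SympUnit.exists_quad_gen h2 hK
  have hA := sympBil_isAlt 2 F
  have hB := sympBil_nondegenerate 2 F
  have hd4 : finrank F (Fin 2 ⊕ Fin 2 → F) = 4 := finrank_sympSpace 2 F
  have hJs : Sym (sympBil 2 F) (Matrix.toLin' J) ν := ⟨fun u v => by
      rw [Matrix.toLin'_apply, Matrix.toLin'_apply, sympBil_apply, sympBil_apply, hsa J hJ u v], fun v => by
      rw [Matrix.toLin'_apply, Matrix.toLin'_apply, Matrix.mulVec_mulVec, hJJ, Matrix.smul_mulVec, Matrix.one_mulVec]⟩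
  have hX2 : ∀ v, toEnd x (toEnd x v) = z • v := fun v => by
    rw [← Module.End.mul_apply, ← toEnd_mul, ← pow_two, toEnd_apply, hz, Matrix.smul_mulVec, Matrix.one_mulVec]
  have hzz : z * z = 1 := by
    let e0 : Fin 2 ⊕ Fin 2 → F := Pi.single (Sum.inl 0) 1
    obtain ⟨w, hw⟩ : ∃ w, sympBil 2 F e0 w ≠ 0 := by
      by_contra! hc
      simpa [e0] using congrFun (sp_nondeg _ hc) (Sum.inl 0)
    have := mem_sp hx (toEnd x e0) (toEnd x w)
    rw [mem_sp hx e0 w, hX2, hX2, map_smul, map_smul, LinearMap.smul_apply, smul_eq_mul, smul_eq_mul,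
      ← mul_assoc] at this
    exact (mul_eq_right₀ hw).1 this
  obtain ⟨J', c, hJ', hc, hXJ⟩ : ∃ (J' : (Fin 2 ⊕ Fin 2 → F) →ₗ[F] (Fin 2 ⊕ Fin 2 → F)) (c : F),
      Sym (sympBil 2 F) J' ν ∧ c ≠ 0 ∧ ∀ v, toEnd x (J' v) = c • J' (toEnd x v) := by
    rcases mul_self_eq_one_iff.1 hzz with rfl | rfl
    · obtain ⟨J', hJ', h⟩ := sym_of_anticommute h2 hA hB hd4 (mem_sp hx) (fun v => by rw [hX2, one_smul])
        (by
          by_contra! hc
          exact hns 1 (Matrix.toLin'.injective (LinearMap.ext fun v => by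
            rw [map_smul, Matrix.toLin'_one, LinearMap.smul_apply, LinearMap.id_apply, one_smul]; exact hc v)))
        (by
          by_contra! hc
          exact hns (-1) (Matrix.toLin'.injective (LinearMap.ext fun v => by
            rw [map_smul, Matrix.toLin'_one, LinearMap.smul_apply, LinearMap.id_apply, neg_smul, one_smul]
            exact hc v))) ν
      exact ⟨J', -1, hJ', neg_ne_zero.2 one_ne_zero, fun v => by rw [h, neg_smul, one_smul]⟩
    · obtain ⟨J', hJ', h⟩ := sym_of_commute h2 hA hB hd4 (X := toEnd x) ⟨fun u v => by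
          have h := mem_sp hx (toEnd x u) v
          rw [hX2, neg_smul, one_smul, map_neg, LinearMap.neg_apply] at h
          rw [← h], hX2⟩ ν
      exact ⟨J', 1, hJ', one_ne_zero, fun v => by rw [h, one_smul]⟩
  obtain ⟨e, heB, heJ⟩ := exists_intertwine h2 hν hA hB hd4 hJs hJ'
  refine ⟨ofEquiv e, mem_sp_iff.2 fun u v => by rw [toEnd_ofEquiv]; exact heB u v,
    CfsgLib.Geo.SympUnit.mem_normaliser hJ hspan hc ?_⟩
  refine Matrix.toLin'.injective (LinearMap.ext fun v => ?_)
  have he : ∀ v, toEnd (ofEquiv e) v = e v := fun v => by rw [toEnd_ofEquiv]; rfl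
  have hei : ∀ v, toEnd (ofEquiv e)⁻¹ v = e.symm v := fun v => by
    apply e.injective
    rw [e.apply_symm_apply, ← he]
    simp [Matrix.mulVec_mulVec]
  rw [Matrix.toLin'_mul, map_smul, Matrix.toLin'_mul, LinearMap.comp_apply, LinearMap.smul_apply, LinearMap.comp_apply]
  show toEnd _ _ = c • Matrix.toLin' J (toEnd _ v)
  rw [toEnd_conj, toEnd_conj, he, hei, he, hei]
  refine e.injective ?_
  rw [e.apply_symm_apply, heJ, map_smul, hXJ, heJ, e.apply_symm_apply]

end CfsgLib.Geo.SympFieldInv
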