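/-
Normalisers of quadratic overfields (unitary groups inside symplectic groups) are maximal in `Sp`, `q` odd.
-/
import Cfsg.Agent.Lib.Geo.OrthOverfieldFinal
import Cfsg.Agent.Lib.Geo.SympSubfieldMaximal

set_option autoImplicit false

namespace CfsgLib.Geo.SympOverfield

open LinearMap (BilinForm)
open CfsgLib.Classical CfsgLib.Classical.Symp CfsgLib.Geo.SympSubfield CfsgLib.Geo.OrthOverfield
open QuadraticMap (polar polarBilin)

variable {F : Type*} [Field F] {V : Type*} [AddCommGroup V] [Module F V] [FiniteDimensional F V]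
  {B : BilinForm F V}

/-- `J` generates a quadratic extension whose automorphism is induced by the adjoint map. -/
structure IsUnitaryJ (B : BilinForm F V) (J : V →ₗ[F] V) (e : F) : Prop where
  alt : B.IsAlt
  nondeg : B.Nondegenerate
  rank : 8 ≤ Module.finrank F V
  two : (2 : F) ≠ 0
  sq : ∀ v, J (J v) = e • v
  ns : ∀ a : F, a * a ≠ e
  adj : ∀ x y, B (J x) y = -B x (J y)

/-- The hermitian norm as a quadratic form over `F`. -/
def normForm (B : BilinForm F V) (J : V →ₗ[F] V) : QuadraticForm F V :=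
  LinearMap.BilinMap.toQuadraticMap (B.compl₂ J)

variable {J : V →ₗ[F] V} {e : F} (h : IsUnitaryJ B J e)
include h

omit h [FiniteDimensional F V] in
theorem normForm_apply (x : V) : normForm B J x = B x (J x) := rfl

theorem adj_comm (x y : V) : B x (J y) = B y (J x) := by
  have := h.adj y x
  rw [swap h.alt x (J y)] at this
  linear_combination -this

theorem polar_normForm (x y : V) : polar (normForm B J) x y = 2 * B x (J y) := by
  simp only [polar, normForm_apply, map_add, LinearMap.add_apply]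
  linear_combination adj_comm h y x

theorem map_map (x y : V) : B (J x) (J y) = -e * B x y := by
  rw [h.adj, h.sq, LinearMap.map_smul, smul_eq_mul, neg_mul]

theorem overfield : IsOverfield (normForm B J) J 0 (-e) where
  nondeg := CfsgLib.Classical.Quad.nondegenerate_of_left fun x hx => h.nondeg.1 x fun y => by
    have hy := hx (J y)
    rw [polar_normForm h, h.sq, LinearMap.map_smul, smul_eq_mul] at hy
    have he : e ≠ 0 := fun he => h.ns 0 (by rw [he, mul_zero])
    exact ((mul_eq_zero.1 ((mul_eq_zero.1 hy).resolve_left h.two)).resolve_left he)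
  rank := h.rank
  sq v := by rw [h.sq]; module
  irred a ha := h.ns a (by linear_combination ha)
  app v := by rw [normForm_apply, normForm_apply, map_map h]
  pol v := by rw [polar_normForm h, h.sq, LinearMap.map_smul, h.alt, smul_zero, mul_zero, zero_mul]

theorem mem_lperp_iff {u x : V} :
    x ∈ lperp (normForm B J) J u ↔ B u (J x) = 0 ∧ B u x = 0 := by
  rw [mem_lperp, polar_normForm h, polar_normForm h, map_map h]
  have he : e ≠ 0 := fun he => h.ns 0 (by rw [he, mul_zero])
  simp [h.two, he]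

theorem of_mem_lperp {u x : V} (hx : x ∈ lperp (normForm B J) J u) :
    B u (J x) = 0 ∧ B u x = 0 ∧ B x u = 0 ∧ B x (J u) = 0 := by
  obtain ⟨h1, h2⟩ := (mem_lperp_iff h).1 hx
  exact ⟨h1, h2, by rw [swap h.alt u x, h2, neg_zero], by rw [← adj_comm h, h1]⟩

omit h [FiniteDimensional F V] in
/-- The unitary transvection of an isotropic vector. -/
def uTr (hA : B.IsAlt) (J : V →ₗ[F] V) (e : F) (v : V) (c : F) : Sp B :=
  tr hA (J v) c * tr hA v (-(e * c))

theorem uTr_comm {v : V} (hv : B v (J v) = 0) (c : F) (x : V) :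
    (uTr h.alt J e v c : V ≃ₗ[F] V) (J x) = J ((uTr h.alt J e v c : V ≃ₗ[F] V) x) := by
  simp only [uTr, Subgroup.coe_mul, LinearEquiv.mul_apply, tr_apply, map_add, LinearMap.map_smul,
    LinearMap.add_apply, LinearMap.smul_apply, smul_eq_mul, h.adj x (J v), h.adj x v, h.sq, hv, mul_zero,
    neg_zero, add_zero]
  module

omit h [FiniteDimensional F V] in
/-- The unitary Siegel element. -/
def uSel (hA : B.IsAlt) (J : V →ₗ[F] V) (w z : V) : Sp B := sel hA (J w) z 1 * sel hA w (J z) (-1)

theorem uSel_apply {w z : V} (hw : B w (J w) = 0) (hz : B z (J z) = 0) (hwz : z ∈ lperp (normForm B J) J w)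
    (x : V) : (uSel h.alt J w z : V ≃ₗ[F] V) x =
      x + (B x (J w) • z + B x z • J w) - (B x w • J z + B x (J z) • w) := by
  obtain ⟨h1, h2, h3, h4⟩ := of_mem_lperp h hwz
  have h5 : B (J w) z = 0 := by rw [h.adj, h1, neg_zero]
  have h6 : B (J z) (J w) = 0 := by rw [map_map h, h3, mul_zero]
  have h7 : B (J z) z = 0 := by rw [h.adj, hz, neg_zero]
  simp only [uSel, Subgroup.coe_mul, LinearEquiv.mul_apply, sel_apply h.alt h5, sel_apply h.alt h1, map_add,
    LinearMap.map_smul, LinearMap.add_apply, LinearMap.smul_apply, smul_eq_mul, hw, h2, h6, h7]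
  module

theorem uSel_comm {w z : V} (hw : B w (J w) = 0) (hz : B z (J z) = 0) (hwz : z ∈ lperp (normForm B J) J w)
    (x : V) : (uSel h.alt J w z : V ≃ₗ[F] V) (J x) = J ((uSel h.alt J w z : V ≃ₗ[F] V) x) := by
  rw [uSel_apply h hw hz hwz, uSel_apply h hw hz hwz]
  simp only [map_sub, map_add, LinearMap.map_smul, h.sq, h.adj x (J w), h.adj x z, h.adj x w, h.adj x (J z),
    map_neg, smul_eq_mul]
  module

variable [Finite F]

theorem exists_scaled {W : Submodule F V} {k : ℕ} (hk : Module.finrank F W ≤ k)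
    (hk' : 2 * k + 3 ≤ Module.finrank F V) (hW : ∀ x ∈ W, J x ∈ W) {b : V} (hb : b ∉ W) (α β : F) :
    ∃ w ∈ OrthMax.perp (normForm B J) W, B w (J w) = 0 ∧ B b (J w) = α ∧ B b w = β := by
  obtain ⟨w₀, hw₀, hq, hne⟩ := exists_singular_sep (overfield h) hk hk' hb
  rw [polar_normForm h, adj_comm h] at hne
  set s := B b (J w₀)
  set r := B b w₀
  have hN : s * s - e * (r * r) ≠ 0 := by
    intro e0
    by_cases hr : r = 0
    · rw [hr, mul_zero, mul_zero, sub_zero, mul_self_eq_zero] at e0
      exact (mul_ne_zero_iff.1 hne).2 e0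
    · refine h.ns (s / r) ?_
      field_simp
      linear_combination e0
  have hJw : J w₀ ∈ OrthMax.perp (normForm B J) W := fun x hx => by
    show polar (normForm B J) x (J w₀) = 0
    have h1 : polar (normForm B J) (J x) w₀ = 0 := hw₀ _ (hW x hx)
    rw [polar_normForm h, h.adj] at h1
    rw [polar_normForm h]
    linear_combination -h1
  refine ⟨((s * α - e * r * β) / (s * s - e * (r * r))) • w₀ + ((s * β - r * α) / (s * s - e * (r * r))) • J w₀,
    Submodule.add_mem _ (Submodule.smul_mem _ _ hw₀) (Submodule.smul_mem _ _ hJw), ?_, ?_, ?_⟩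
  · rw [normForm_apply] at hq
    simp only [map_add, LinearMap.map_smul, LinearMap.add_apply, LinearMap.smul_apply, smul_eq_mul, h.sq, hq,
      h.alt w₀, h.adj w₀, h.alt (J w₀), mul_zero, add_zero, neg_zero]
  · simp only [map_add, LinearMap.map_smul, smul_eq_mul, h.sq]
    show _ * s + _ * (e * r) = α
    rw [div_mul_eq_mul_div, div_mul_eq_mul_div, ← add_div, div_eq_iff hN]
    ring
  · simp only [map_add, LinearMap.map_smul, smul_eq_mul]
    show _ * r + _ * s = β
    rw [div_mul_eq_mul_div, div_mul_eq_mul_div, ← add_div, div_eq_iff hN]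
    ring

theorem exists_isotropic {U : Submodule F V} (hU : 3 ≤ Module.finrank F U) :
    ∃ z ∈ U, z ≠ 0 ∧ B z (J z) = 0 := by
  by_cases hn : OrthMax.Nondeg (normForm B J) U
  · obtain ⟨z, hz, hz0, hq⟩ := hn.exists_singular hU
    exact ⟨z, hz, hz0, hq⟩
  simp only [OrthMax.Nondeg, not_forall] at hn
  obtain ⟨z, hz, hperp, hz0⟩ := hn
  have := hperp z hz
  rw [polar_normForm h] at this
  exact ⟨z, hz, hz0, (mul_eq_zero.1 this).resolve_left h.two⟩

variable {K : Subgroup (Sp B)}
  (hM : ∀ g : Sp B, (∀ x, (g : V ≃ₗ[F] V) (J x) = J ((g : V ≃ₗ[F] V) x)) → g ∈ K)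
include hM

omit [Finite F] in
/-- A movable pair of transvections splits off a transvection. -/
theorem tr_of_move {a b z w : V} {κ : F} (hww : B w (J w) = 0) (hzz : B z (J z) = 0)
    (hza : z ∈ lperp (normForm B J) J a) (hzb : z ∈ lperp (normForm B J) J b) (hzw : z ∈ lperp (normForm B J) J w)
    (hwa : w ∈ lperp (normForm B J) J a) (hbJw : B b (J w) = 1) (hbw : B b w = 0)
    (hK : ∀ c, tr h.alt b c * tr h.alt a (κ * c) ∈ K) (c : F) : tr h.alt z c ∈ K := by
  obtain ⟨a1, a2, -, -⟩ := of_mem_lperp h hza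
  obtain ⟨b1, b2, b3, -⟩ := of_mem_lperp h hzb
  obtain ⟨w1, w2, -, -⟩ := of_mem_lperp h hwa
  have move : ∀ s : F, ∀ c, tr h.alt (b + s • z) c * (tr h.alt b c)⁻¹ ∈ K := by
    intro s c
    have hsz : B (s • z) (J (s • z)) = 0 := by simp [hzz]
    have hszw := Submodule.smul_mem _ s hzw
    have hgK := hM _ (uSel_comm h hww hsz hszw)
    set g := uSel h.alt J w (s • z)
    have hga : (g : V ≃ₗ[F] V) a = a := by
      rw [uSel_apply h hww hsz hszw]
      simp [w1, w2, a1, a2]
    have hgb : (g : V ≃ₗ[F] V) b = b + s • z := by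
      rw [uSel_apply h hww hsz hszw]
      simp [hbJw, hbw, b1, b2]
    have h1 := K.mul_mem (K.mul_mem (K.mul_mem hgK (hK c)) (K.inv_mem hgK)) (K.inv_mem (hK c))
    rw [show g * (tr h.alt b c * tr h.alt a (κ * c)) * g⁻¹ * (tr h.alt b c * tr h.alt a (κ * c))⁻¹ =
      (g * tr h.alt b c * g⁻¹) * (g * tr h.alt a (κ * c) * g⁻¹) * (tr h.alt a (κ * c))⁻¹ *
        (tr h.alt b c)⁻¹ by group, conj_tr, conj_tr, hga, hgb, mul_inv_cancel_right] at h1
    exact h1
  have h1 := K.mul_mem (move 1 (c / 2)) (move (-1) (c / 2))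
  convert h1 using 1
  refine sp_ext fun x => ?_
  simp only [Subgroup.coe_mul, LinearEquiv.mul_apply, tr_inv, tr_apply, one_smul, neg_smul, map_add, map_neg,
    LinearMap.map_smul, LinearMap.add_apply, LinearMap.neg_apply, LinearMap.smul_apply, smul_eq_mul, h.alt z,
    h.alt b, b2, b3, mul_zero, add_zero, neg_zero]
  have h2 := h.two
  match_scalars <;> field_simp <;> ring

/-- Transvections spread along orthogonal isotropic vectors. -/
theorem tr_perp {z z' : V} (hz : B z (J z) = 0) (hz0 : z ≠ 0) (hz' : B z' (J z') = 0)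
    (hperp : z' ∈ lperp (normForm B J) J z) (hn : z' ∉ line J z) (hK : ∀ c, tr h.alt z c ∈ K) :
    ∀ c, tr h.alt z' c ∈ K := by
  have hO := overfield h
  have hr := h.rank
  have shift : ∀ {y y' : V}, B y (J y) = 0 → y ≠ 0 → B y' (J y') = 0 → y' ∈ lperp (normForm B J) J y →
      y' ∉ line J y → (∀ c, tr h.alt y c ∈ K) → ∀ c, tr h.alt (y + y') c ∈ K := by
    intro y y' hy hy0 hy' hperp hn hK c
    obtain ⟨w, hw, hww, hyJw, hyw⟩ := exists_scaled h (finrank_line_le hO y') (by omega)
      (fun x hx => map_mem_line hO hx) (fun hm => hn (mem_line_swap hO hm hy0)) 1 0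
    have hwy' : y' ∈ lperp (normForm B J) J w := lperp_swap hO hw
    obtain ⟨y1, y2, -, -⟩ := of_mem_lperp h hperp
    have hgy : (uSel h.alt J w y' : V ≃ₗ[F] V) y = y + y' := by
      rw [uSel_apply h hww hy' hwy']
      simp [hyJw, hyw, y1, y2]
    rw [← hgy, ← conj_tr]
    exact K.mul_mem (K.mul_mem (hM _ (uSel_comm h hww hy' hwy')) (hK c))
      (K.inv_mem (hM _ (uSel_comm h hww hy' hwy')))
  have h1 := shift hz hz0 hz' hperp hn hK
  obtain ⟨p1, p2, p3, p4⟩ := of_mem_lperp h hperp
  have hsum : B (z + z') (J (z + z')) = 0 := by simp [hz, hz', p1, p4]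
  intro c
  have h2 := shift hsum (fun e0 => hn (by
      rw [eq_neg_of_add_eq_zero_right e0]; exact neg_mem (self_mem_line z)))
    (y' := -z) (by simp [hz])
    ((lperp (normForm B J) J (z + z')).neg_mem (lperp_swap hO ((lperp (normForm B J) J z).add_mem
      ((mem_lperp_iff h).2 ⟨hz, h.alt z⟩) hperp)))
    (fun hm => hn (by
      have h3 := mem_line_swap hO hm (neg_ne_zero.2 hz0)
      have h4 : line J (-z) ≤ line J z := Submodule.span_le.2 (by
        rintro x (rfl | rfl)
        · exact neg_mem (self_mem_line z)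
        · rw [map_neg]; exact neg_mem (J_mem_line z))
      simpa using Submodule.sub_mem _ (h4 h3) (self_mem_line z)))
    h1 c
  rwa [show z + z' + -z = z' by abel] at h2

theorem eq_top (htr : ∀ a b : V, B b a = 0 → b ∉ line J a → (∀ c, tr h.alt b c * tr h.alt a (-(e * c)) ∈ K) →
      ∃ z, z ≠ 0 ∧ B z (J z) = 0 ∧ ∀ c, tr h.alt z c ∈ K) {g : Sp B} (hgK : g ∈ K)
    (hg : ¬ ∃ a b : F, ∀ x, (g : V ≃ₗ[F] V) (J x) = a • (g : V ≃ₗ[F] V) x + b • J ((g : V ≃ₗ[F] V) x)) :
    K = ⊤ := by
  have hO := overfield h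
  have hr := h.rank
  obtain ⟨v, hv, hvn⟩ : ∃ v, B v (J v) = 0 ∧ (g : V ≃ₗ[F] V) (J v) ∉ line J ((g : V ≃ₗ[F] V) v) := by
    by_contra! hc
    refine hg ?_
    set G := (g : V ≃ₗ[F] V)
    let J'' : V →ₗ[F] V := (G.symm : V →ₗ[F] V) ∘ₗ J ∘ₗ (G : V →ₗ[F] V)
    have hline : ∀ v, normForm B J v = 0 → J'' v ∈ line J v := by
      intro v hv
      rcases eq_or_ne v 0 with rfl | hv0
      · simp
      obtain ⟨a, b, hab⟩ := mem_line.1 (hc v hv)
      have hb : b ≠ 0 := by
        rintro rfl
        rw [zero_smul, add_zero] at hab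
        have : J v = a • v := G.injective (by rw [LinearEquiv.map_smul, hab])
        exact one_ne_zero (eq_zero_of_smul hO hv0 (a := -a) (b := 1) (by rw [this]; module)).2
      refine mem_line.2 ⟨-(a / b), b⁻¹, G.injective ?_⟩
      rw [show G (J'' v) = J (G v) by simp [J''], map_add, LinearEquiv.map_smul, LinearEquiv.map_smul, ← hab,
        smul_add, smul_smul, smul_smul, inv_mul_cancel₀ hb, one_smul, div_eq_inv_mul]
      module
    obtain ⟨a, b, hall⟩ : ∃ a b : F, ∀ y, J'' y = a • y + b • J y := by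
      have hco : ∀ x z, normForm B J x = 0 → normForm B J z = 0 → x ≠ 0 → polar (normForm B J) x z = 0 →
          z ∉ line J x → ∀ a b : F, J'' x = a • x + b • J x → J'' z = a • z + b • J z := by
        intro x z hx hz hx0 hxz hzn a b hab
        obtain ⟨a', b', ha'⟩ := mem_line.1 (hline z hz)
        obtain ⟨a'', b'', ha''⟩ := mem_line.1 (hline (x + z) (by
          rw [CfsgLib.Classical.Quad.apply_add, hx, hz, hxz]; ring))
        rw [map_add, map_add, hab, ← ha'] at ha''
        obtain ⟨e1, e2, e3, e4⟩ := coeff_eq hO hx0 hzn (a := a'' - a) (b := b'' - b) (a' := a'' - a')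
          (b' := b'' - b') (by linear_combination (norm := module) ha'')
        rw [← ha', show a' = a by linear_combination e1 - e3, show b' = b by linear_combination e2 - e4]
      obtain ⟨x, hx, hx0⟩ := exists_singular hO
      obtain ⟨a, b, hab⟩ := mem_line.1 (hline x hx)
      have hsing : ∀ y, normForm B J y = 0 → J'' y = a • y + b • J y := by
        intro y hy
        rcases eq_or_ne y 0 with rfl | hy0
        · simp
        by_cases hyx : y ∉ line J x ∧ y ∈ lperp (normForm B J) J x
        · exact hco x y hx hy hx0 (mem_lperp.1 hyx.2).1 hyx.1 a b hab.symm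
        obtain ⟨z, hzx, hzy', hqz, hzn⟩ := exists_common hO hx hy (by
          by_cases h1 : y ∈ line J x
          · exact Or.inl h1
          · exact Or.inr fun h2 => hyx ⟨h1, h2⟩)
        have hzy := (mem_lperp.1 hzy').1
        have hz0 : z ≠ 0 := fun e0 => hzn (by rw [e0]; exact Submodule.zero_mem _)
        have h1 := hco x z hx hqz hx0 (mem_lperp.1 hzx).1 (fun hm => hzn (Submodule.mem_sup_left hm)) a b hab.symm
        exact hco z y hqz hy hz0 (by rw [QuadraticMap.polar_comm]; exact hzy)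
          (fun hm => hzn (Submodule.mem_sup_right (mem_line_swap hO hm hy0))) a b h1
      have hle : (⊤ : Submodule F V) ≤ LinearMap.ker (J'' - (a • LinearMap.id + b • J)) := by
        refine le_of_singular_vectors hO (by rw [finrank_top]; omega) fun y _ hy => ?_
        simp [hsing y hy]
      refine ⟨a, b, fun y => ?_⟩
      simpa [sub_eq_zero] using hle (Submodule.mem_top (x := y))
    have hGJ : ∀ y, J (G y) = a • G y + b • G (J y) := fun y => by
      rw [← LinearEquiv.map_smul, ← LinearEquiv.map_smul, ← map_add, ← hall]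
      simp [J'']
    have hb : b ≠ 0 := by
      rintro rfl
      obtain ⟨x, -, hxn⟩ := exists_singular hO
      have hx0 : G x ≠ 0 := fun e0 => hxn (G.map_eq_zero_iff.1 e0)
      have := hGJ x
      rw [zero_smul, add_zero] at this
      exact one_ne_zero (eq_zero_of_smul hO hx0 (a := -a) (b := 1) (by rw [this]; module)).2
    refine ⟨-(a / b), b⁻¹, fun y => ?_⟩
    rw [hGJ, smul_add, smul_smul, smul_smul, inv_mul_cancel₀ hb, one_smul, div_eq_inv_mul]
    module
  have hK : ∀ c, tr h.alt ((g : V ≃ₗ[F] V) (J v)) c * tr h.alt ((g : V ≃ₗ[F] V) v) (-(e * c)) ∈ K := fun c => by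
    rw [← conj_tr, ← conj_tr, show g * tr h.alt (J v) c * g⁻¹ * (g * tr h.alt v (-(e * c)) * g⁻¹) =
      g * uTr h.alt J e v c * g⁻¹ by rw [uTr]; group]
    exact K.mul_mem (K.mul_mem hgK (hM _ (uTr_comm h hv c))) (K.inv_mem hgK)
  obtain ⟨z, hz0, hzz, hzK⟩ := htr _ _
    (show B ((g : V ≃ₗ[F] V) (J v)) ((g : V ≃ₗ[F] V) v) = 0 by
      rw [show B ((g : V ≃ₗ[F] V) (J v)) ((g : V ≃ₗ[F] V) v) = B (J v) v from g.2 _ _, h.adj, hv, neg_zero])
    hvn hK
  have hiso : ∀ y, B y (J y) = 0 → ∀ c, tr h.alt y c ∈ K := by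
    intro y hy c
    rcases eq_or_ne y 0 with rfl | hy0
    · convert K.one_mem
      exact sp_ext fun x => by simp [tr_apply]
    have hle : ∀ {a b : V}, b ∈ line J a → line J b ≤ line J a := fun {a b} hb =>
      Submodule.span_le.2 (by
        rintro x (rfl | rfl)
        · exact hb
        · exact map_mem_line hO hb)
    have hline_perp : ∀ {a b u : V}, b ∈ line J a → u ∈ lperp (normForm B J) J a →
        u ∈ lperp (normForm B J) J b := fun {a b u} hb hu w hw => hu w (hle hb hw)
    by_cases hyz : y ∈ lperp (normForm B J) J z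
    · by_cases hyl : y ∈ line J z
      · obtain ⟨u, huz, -, hu, hun⟩ := exists_common hO (u := z) (v := z) hzz hzz (Or.inl (self_mem_line z))
        have hu0 : u ≠ 0 := fun e0 => hun (by rw [e0]; exact Submodule.zero_mem _)
        exact tr_perp h hM hu hu0 hy (lperp_swap hO (hline_perp hyl huz))
          (fun hm => hun (Submodule.mem_sup_left (hle hyl (mem_line_swap hO hm hy0))))
          (tr_perp h hM hzz hz0 hu huz (fun hm => hun (Submodule.mem_sup_left hm)) hzK) c
      · exact tr_perp h hM hzz hz0 hy hyz hyl hzK c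
    · have h6 := le_finrank_perp hO (finrank_lines_le hO z y)
      obtain ⟨u, hu', hu0, hu⟩ := exists_isotropic h
        (U := OrthMax.perp (normForm B J) (line J z ⊔ line J y)) (by omega)
      have huz : u ∈ lperp (normForm B J) J z := fun w hw => hu' w (Submodule.mem_sup_left hw)
      have huy : u ∈ lperp (normForm B J) J y := fun w hw => hu' w (Submodule.mem_sup_right hw)
      exact tr_perp h hM hu hu0 hy (lperp_swap hO huy)
        (fun hm => hyz (lperp_swap hO (hline_perp hm (lperp_swap hO huz))))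
        (tr_perp h hM hzz hz0 hu huz (fun hm => hyz (hline_perp
          (mem_line_swap hO hm hu0) (lperp_swap hO huy))) hzK) c
  refine SympMax.eq_top_of_tr h.alt h.nondeg fun y c => ?_
  by_cases hy : B y (J y) = 0
  · exact hiso y hy c
  have hy0 : y ∉ (⊥ : Submodule F V) := fun e0 => hy (by simp [(Submodule.mem_bot F).1 e0])
  obtain ⟨p, -, hp, hyJp, hyp⟩ := exists_scaled h (W := ⊥) (k := 0) (by rw [finrank_bot]) (by omega)
    (fun x hx => by rw [(Submodule.mem_bot F).1 hx, map_zero]; exact Submodule.zero_mem _) hy0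
    (B y (J y) / 2) 1
  have hq : B (y - p) (J (y - p)) = 0 := by
    simp only [map_sub, LinearMap.sub_apply, hp, adj_comm h p y, hyJp]
    have := h.two
    field_simp
    ring
  have hpy : B p (y - p) = -1 := by rw [map_sub, h.alt p, sub_zero, swap h.alt y p, hyp]
  have hgp : (tr h.alt (y - p) (-1) : V ≃ₗ[F] V) p = y := by rw [tr_apply, hpy]; module
  rw [← hgp, ← conj_tr]
  exact K.mul_mem (K.mul_mem (hiso _ hq _) (hiso _ hp c)) (K.inv_mem (hiso _ hq _))

omit hM in
theorem exists_not_normalises : ∃ g : Sp B,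
    ¬ ∃ a b : F, ∀ x, (g : V ≃ₗ[F] V) (J x) = a • (g : V ≃ₗ[F] V) x + b • J ((g : V ≃ₗ[F] V) x) := by
  have hO := overfield h
  have hr := h.rank
  obtain ⟨y, -, hy0⟩ := exists_singular hO
  refine ⟨tr h.alt y 1, fun ⟨a, b, hab⟩ => ?_⟩
  have h2 := le_finrank_perp hO (finrank_line_le hO y)
  obtain ⟨x, hx, hx0⟩ := Submodule.exists_mem_ne_zero_of_ne_bot
    (show lperp (normForm B J) J y ≠ (⊥ : Submodule F V) from fun e0 => by
      rw [lperp] at e0
      rw [e0, finrank_bot] at h2
      omega)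
  have e1 := hab x
  rw [tr_fix h.alt 1 (of_mem_lperp h hx).2.2.1,
    tr_fix h.alt 1 (of_mem_lperp h (map_mem_lperp hO hx)).2.2.1] at e1
  obtain ⟨ha, hb⟩ := eq_zero_of_smul hO hx0 (a := a) (b := b - 1) (by linear_combination (norm := module) -e1)
  obtain ⟨u, hu⟩ : ∃ u, B u y ≠ 0 := by
    by_contra! hc
    exact hy0 (h.nondeg.2 y hc)
  have e2 := hab u
  rw [ha, sub_eq_zero.1 hb, tr_apply, tr_apply, map_add, LinearMap.map_smul] at e2
  exact hu (neg_eq_zero.1 (eq_zero_of_smul hO hy0 (a := B (J u) y) (b := -B u y)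
    (by linear_combination (norm := module) e2)).2)

end CfsgLib.Geo.SympOverfield
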