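import Cfsg.Agent.Lib.Geo.SympOverfield

/-!
# Quadratic overfields in symplectic spaces of dimension at least eight: splitting off a transvection
-/

set_option autoImplicit false

namespace CfsgLib.Geo.SympOverfield

open LinearMap (BilinForm)
open CfsgLib.Classical CfsgLib.Classical.Symp CfsgLib.Geo.SympSubfield CfsgLib.Geo.OrthOverfield
open QuadraticMap (polar polarBilin)

variable {F : Type*} [Field F] {V : Type*} [AddCommGroup V] [Module F V] [FiniteDimensional F V]
  {B : BilinForm F V} {J : V →ₗ[F] V} {e : F} (h : IsUnitaryJ B J e)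
include h

theorem apply_J_left (x y : V) : B (J x) y = -B x (J y) := h.adj x y

/-- A pseudo-reflection at an anisotropic vector. -/
theorem exists_refl {r : V} (hr : B r (J r) ≠ 0) {s t : F} (hst : s * s - e * (t * t) = 1) :
    ∃ g : Sp B, (∀ x, (g : V ≃ₗ[F] V) (J x) = J ((g : V ≃ₗ[F] V) x)) ∧ ∀ x, (g : V ≃ₗ[F] V) x =
      x + (B x (J r) / B r (J r)) • ((s - 1) • r + t • J r) +
        (-B x r / B r (J r)) • ((t * e) • r + (s - 1) • J r) := by
  set N := B r (J r) with hN
  let φ : V →ₗ[F] V := LinearMap.id + (N⁻¹ • B.flip (J r)).smulRight ((s - 1) • r + t • J r) +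
    (-(N⁻¹ • B.flip r)).smulRight ((t * e) • r + (s - 1) • J r)
  have hφ : ∀ x, φ x = x + (B x (J r) / N) • ((s - 1) • r + t • J r) +
      (-B x r / N) • ((t * e) • r + (s - 1) • J r) := fun x => by
    simp [φ, div_eq_inv_mul, smul_smul]
  have hJr : B (J r) r = -N := by rw [h.adj]
  have hpres : ∀ x y, B (φ x) (φ y) = B x y := fun x y => by
    simp only [hφ, map_add, map_smul, LinearMap.add_apply, LinearMap.smul_apply, smul_eq_mul, h.alt r,
      h.alt (J r), hJr, ← hN, swap h.alt r y, swap h.alt (J r) y, mul_zero, add_zero, zero_add]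
    field_simp
    linear_combination (B x (J r) * B r y - B x r * B (J r) y) * hst
  have hinj : Function.Injective φ := LinearMap.ker_eq_bot.1 (LinearMap.ker_eq_bot'.2 fun x hx =>
    h.nondeg.1 x fun y => by rw [← hpres, hx, map_zero, LinearMap.zero_apply])
  let g : V ≃ₗ[F] V := LinearEquiv.ofBijective φ ⟨hinj, LinearMap.surjective_of_injective hinj⟩
  refine ⟨⟨g, fun x y => hpres x y⟩, fun x => ?_, hφ⟩
  show φ (J x) = J (φ x)
  rw [hφ, hφ, h.adj x (J r), h.adj x r, h.sq, map_add, map_add]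
  simp only [LinearMap.map_smul, map_add, h.sq, smul_eq_mul]
  match_scalars <;> field_simp <;> ring

theorem refl_fix {r x : V} {s t : F} {g : Sp B}
    (hg : ∀ x, (g : V ≃ₗ[F] V) x = x + (B x (J r) / B r (J r)) • ((s - 1) • r + t • J r) +
      (-B x r / B r (J r)) • ((t * e) • r + (s - 1) • J r))
    (h1 : B x (J r) = 0) (h2 : B x r = 0) : (g : V ≃ₗ[F] V) x = x := by
  rw [hg, h1, h2]
  simp

/-- Exchanging two orthogonal vectors of equal norm. -/
theorem exists_swap {b c : V} {α : F} (hα : α ≠ 0) (hbb : B b (J b) = α) (hcc : B c (J c) = α)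
    (hbc : B b c = 0) (hbJc : B b (J c) = 0) :
    ∃ g : Sp B, (∀ x, (g : V ≃ₗ[F] V) (J x) = J ((g : V ≃ₗ[F] V) x)) ∧ (g : V ≃ₗ[F] V) b = c ∧
      ∀ x, B x b = 0 → B x c = 0 → B x (J b) = 0 → B x (J c) = 0 → (g : V ≃ₗ[F] V) x = x := by
  have hN : B (b - c) (J (b - c)) = 2 * α := by
    simp only [map_sub, LinearMap.sub_apply, hbb, hcc, hbJc, adj_comm h c b]
    ring
  obtain ⟨g, hgJ, hg⟩ := exists_refl h (r := b - c) (by rw [hN]; exact mul_ne_zero h.two hα) (s := -1) (t := 0)
    (by ring)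
  refine ⟨g, hgJ, ?_, fun x h1 h2 h3 h4 => refl_fix h hg (by simp [h3, h4]) (by simp [h1, h2])⟩
  rw [hg, hN, show B b (J (b - c)) = α by simp [hbb, hbJc], show B b (b - c) = 0 by simp [h.alt b, hbc]]
  have := h.two
  match_scalars <;> field_simp <;> ring

variable {K : Subgroup (Sp B)}
  (hM : ∀ g : Sp B, (∀ x, (g : V ≃ₗ[F] V) (J x) = J ((g : V ≃ₗ[F] V) x)) → g ∈ K)

/-- Pairs meeting in a hyperbolic plane generate a torus. -/
theorem tr_of_torus {a b b' : V} {κ : F} (hba : B b a = 0) (hb'a : B b' a = 0) (hμ : B b' b ≠ 0)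
    (hX : ∀ c, tr h.alt b c * tr h.alt a (κ * c) ∈ K) (hX' : ∀ c, tr h.alt b' c * tr h.alt a (κ * c) ∈ K)
    {l : F} (hl : l ≠ 0) (hl1 : l * l ≠ 1) (c : F) : tr h.alt b c ∈ K := by
  set μ := B b' b with hμ'
  have hbb' : B b b' = -μ := swap h.alt b' b
  have hab : B a b = 0 := by rw [swap h.alt b a, hba, neg_zero]
  have hab' : B a b' = 0 := by rw [swap h.alt b' a, hb'a, neg_zero]
  let W : F → Sp B := fun d => tr h.alt b d * tr h.alt a (κ * d) *
    (tr h.alt b' (1 / (d * μ * μ)) * tr h.alt a (κ * (1 / (d * μ * μ)))) * (tr h.alt b d * tr h.alt a (κ * d))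
  have hWK : ∀ d, W d ∈ K := fun d => K.mul_mem (K.mul_mem (hX d) (hX' _)) (hX d)
  have hWa : ∀ d, (W d : V ≃ₗ[F] V) a = a := fun d => by
    simp [W, Subgroup.coe_mul, LinearEquiv.mul_apply, tr_apply, h.alt a, hab, hab']
  have hWb : ∀ d, d ≠ 0 → (W d : V ≃ₗ[F] V) b = (-(1 / (d * μ))) • b' := fun d hd => by
    simp only [W, Subgroup.coe_mul, LinearEquiv.mul_apply, tr_apply, map_add, LinearEquiv.map_smul,
      LinearMap.map_smul, LinearMap.add_apply, LinearMap.smul_apply, smul_eq_mul, h.alt a, h.alt b, hab,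
      hab', hba, hb'a, hbb', ← hμ', mul_zero, zero_smul, add_zero, zero_add]
    match_scalars <;> field_simp <;> ring
  have hWb' : ∀ d, d ≠ 0 → (W d : V ≃ₗ[F] V) b' = (d * μ) • b := fun d hd => by
    simp only [W, Subgroup.coe_mul, LinearEquiv.mul_apply, tr_apply, map_add, LinearEquiv.map_smul,
      LinearMap.map_smul, LinearMap.add_apply, LinearMap.smul_apply, smul_eq_mul, h.alt a, h.alt b, h.alt b', hab,
      hab', hba, hb'a, hbb', ← hμ', mul_zero, zero_smul, add_zero, zero_add]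
    match_scalars <;> field_simp <;> ring
  set g := W l * W 1
  have hgb : (g : V ≃ₗ[F] V) b = (-l) • b := by
    rw [Subgroup.coe_mul, LinearEquiv.mul_apply, hWb 1 one_ne_zero, LinearEquiv.map_smul, hWb' l hl, smul_smul]
    congr 1; field_simp
  have hga : (g : V ≃ₗ[F] V) a = a := by rw [Subgroup.coe_mul, LinearEquiv.mul_apply, hWa, hWa]
  have key : ∀ d, tr h.alt b ((l * l - 1) * d) ∈ K := fun d => by
    have h1 := K.mul_mem (K.mul_mem (K.mul_mem (K.mul_mem (hWK l) (hWK 1)) (hX d))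
      (K.inv_mem (K.mul_mem (hWK l) (hWK 1)))) (K.inv_mem (hX d))
    rw [show g * (tr h.alt b d * tr h.alt a (κ * d)) * g⁻¹ * (tr h.alt b d * tr h.alt a (κ * d))⁻¹ =
      (g * tr h.alt b d * g⁻¹) * (g * tr h.alt a (κ * d) * g⁻¹) * (tr h.alt a (κ * d))⁻¹ * (tr h.alt b d)⁻¹ by group,
      conj_tr, conj_tr, hga, hgb, mul_inv_cancel_right] at h1
    convert h1 using 1
    refine sp_ext fun x => ?_
    simp only [Subgroup.coe_mul, LinearEquiv.mul_apply, tr_inv, tr_apply, map_add, LinearMap.map_smul,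
      LinearMap.add_apply, LinearMap.smul_apply, smul_eq_mul, h.alt b, mul_zero, add_zero]
    module
  have := key (c / (l * l - 1))
  rwa [mul_div_cancel₀ _ (sub_ne_zero.2 hl1)] at this

variable [Finite F]

include hM

/-- A transvection gives one at an isotropic vector. -/
theorem exists_iso_tr {a : V} (ha : a ≠ 0) (hK : ∀ c, tr h.alt a c ∈ K) :
    ∃ z, z ≠ 0 ∧ B z (J z) = 0 ∧ ∀ c, tr h.alt z c ∈ K := by
  by_cases haa : B a (J a) = 0
  · exact ⟨a, ha, haa, hK⟩
  have hO := overfield h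
  have hr := h.rank
  have h2 := le_finrank_perp hO (finrank_line_le hO a)
  obtain ⟨y, hy, hy0, hyy⟩ := exists_isotropic h (U := OrthMax.perp (normForm B J) (line J a)) (by omega)
  obtain ⟨w, hw, hww, haJw, haw⟩ := exists_scaled h (finrank_line_le hO y) (by omega)
    (fun x hx => map_mem_line hO hx) (b := a) (fun hm => haa (line_singular hO (show normForm B J y = 0 from hyy) hm))
    1 0
  refine ⟨y, hy0, hyy, tr_of_move h hM (a := 0) (κ := 0) hww hyy ?_ hy (lperp_swap hO hw) ?_ haJw haw fun c => ?_⟩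
  · exact (mem_lperp_iff h).2 ⟨by simp, by simp⟩
  · exact (mem_lperp_iff h).2 ⟨by simp, by simp⟩
  · convert hK c using 1
    exact sp_ext fun x => by simp [tr_apply]

/-- One isotropic combination in the pair. -/
theorem exists_tr_isotropic {a b : V} (ha : a ≠ 0) (haa : B a (J a) = 0) (hab : B b a = 0) (hb : b ∉ line J a)
    (hK : ∀ c, tr h.alt b c * tr h.alt a (-e * c) ∈ K) :
    ∃ z, z ≠ 0 ∧ B z (J z) = 0 ∧ ∀ c, tr h.alt z c ∈ K := by
  have hO := overfield h
  have hr := h.rank
  have ha' : a ∈ lperp (normForm B J) J a := (mem_lperp_iff h).2 ⟨haa, h.alt a⟩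
  by_cases hγ : B b (J a) = 0
  · obtain ⟨w, hw, hww, hbJw, hbw⟩ := exists_scaled h (finrank_line_le hO a) (by omega)
      (fun x hx => map_mem_line hO hx) hb 1 0
    exact ⟨a, ha, haa, tr_of_move h hM hww haa ha' ((mem_lperp_iff h).2 ⟨hγ, hab⟩) (lperp_swap hO hw) hw hbJw hbw hK⟩
  · have h6 := le_finrank_perp hO (finrank_lines_le hO a b)
    obtain ⟨z, hz, hz0, hzz⟩ := exists_isotropic h
      (U := OrthMax.perp (normForm B J) (line J a ⊔ line J b)) (by omega)
    have hza : z ∈ lperp (normForm B J) J a := fun x hx => hz x (Submodule.mem_sup_left hx)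
    have hzb : z ∈ lperp (normForm B J) J b := fun x hx => hz x (Submodule.mem_sup_right hx)
    obtain ⟨a1, a2, -, -⟩ := of_mem_lperp h hza
    refine ⟨z, hz0, hzz, tr_of_move h hM (w := (B b (J a))⁻¹ • a) (by simp [haa]) hzz hza hzb
      ((mem_lperp_iff h).2 ⟨by simp [a1], by simp [a2]⟩) (Submodule.smul_mem _ _ ha') ?_ (by simp [hab]) hK⟩
    simp [hγ]

omit hM in
/-- A vector orthogonal to an anisotropic pair with non-zero norm. -/
theorem exists_perp_aniso {a b : V} (hab : B b a = 0)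
    (hani : ∀ s t : F, B (s • a + t • b) (J (s • a + t • b)) = 0 → s = 0 ∧ t = 0) :
    ∃ c ∈ OrthMax.perp (normForm B J) (line J a ⊔ line J b), B c (J c) ≠ 0 := by
  have hO := overfield h
  have hr := h.rank
  set W := line J a ⊔ line J b
  by_contra! hc
  have hle : OrthMax.perp (normForm B J) W ≤ W := by
    conv_rhs => rw [← OrthMax.perp_perp hO.nondeg W]
    intro u hu v hv
    show polar (normForm B J) v u = 0
    have h1 := hc _ (add_mem hv hu)
    simp only [map_add, LinearMap.add_apply, hc v hv, hc u hu, adj_comm h u v] at h1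
    rw [polar_normForm h]
    linear_combination h1
  have h6 := le_finrank_perp hO (finrank_lines_le hO a b)
  obtain ⟨x, hx, hx0⟩ := Submodule.exists_mem_ne_zero_of_ne_bot
    (show OrthMax.perp (normForm B J) W ≠ (⊥ : Submodule F V) from fun e0 => by rw [e0, finrank_bot] at h6; omega)
  obtain ⟨la, hla, lb, hlb, he⟩ := Submodule.mem_sup.1 (hle hx)
  obtain ⟨p, p', rfl⟩ := mem_line.1 hla
  obtain ⟨q, q', rfl⟩ := mem_line.1 hlb
  obtain ⟨a1, a2, -, -⟩ := of_mem_lperp h (show x ∈ lperp (normForm B J) J a from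
    fun w hw => hx w (Submodule.mem_sup_left hw))
  obtain ⟨b1, b2, -, -⟩ := of_mem_lperp h (show x ∈ lperp (normForm B J) J b from
    fun w hw => hx w (Submodule.mem_sup_right hw))
  have hab' : B a b = 0 := by rw [swap h.alt b a, hab, neg_zero]
  subst he
  simp only [map_add, LinearMap.map_smul, smul_eq_mul, h.sq, h.alt a, h.alt b, hab, hab', mul_zero, add_zero,
    zero_add] at a1 a2 b1 b2
  obtain ⟨hp', hq'⟩ := hani p' q' (by
    simp only [map_add, LinearMap.map_smul, LinearMap.add_apply, LinearMap.smul_apply, smul_eq_mul]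
    linear_combination p' * a2 + q' * b2)
  obtain ⟨hp, hq⟩ := hani p q (by
    simp only [map_add, LinearMap.map_smul, LinearMap.add_apply, LinearMap.smul_apply, smul_eq_mul]
    linear_combination p * a1 + q * b1)
  exact hx0 (by simp [hp, hq, hp', hq'])

/-- A moved unitary transvection splits off a transvection. -/
theorem exists_tr_eight {a b : V} (hab : B b a = 0) (hb : b ∉ line J a)
    (hK : ∀ c, tr h.alt b c * tr h.alt a (-(e * c)) ∈ K) :
    ∃ z, z ≠ 0 ∧ B z (J z) = 0 ∧ ∀ c, tr h.alt z c ∈ K := by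
  have hO := overfield h
  have hr := h.rank
  replace hK : ∀ c, tr h.alt b c * tr h.alt a (-e * c) ∈ K := by simpa only [neg_mul] using hK
  have hab' : B a b = 0 := by rw [swap h.alt b a, hab, neg_zero]
  by_cases ha : a = 0
  · subst ha
    refine exists_iso_tr h hM (a := b) (fun e0 => hb (by rw [e0]; exact Submodule.zero_mem _)) fun c => ?_
    convert hK c using 1
    exact sp_ext fun x => by simp [tr_apply]
  by_cases hP : ∃ s t : F, (s ≠ 0 ∨ t ≠ 0) ∧ B (s • a + t • b) (J (s • a + t • b)) = 0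
  · obtain ⟨s, t, hst, hq⟩ := hP
    have hN : s * s - e * (t * t) ≠ 0 := by
      intro e0
      by_cases ht : t = 0
      · subst ht
        rw [mul_zero, mul_zero, sub_zero, mul_self_eq_zero] at e0
        exact hst.elim (fun hs => hs e0) fun ht => ht rfl
      · refine h.ns (s / t) ?_
        field_simp
        linear_combination e0
    refine exists_tr_isotropic h hM (a := s • a + t • b) (b := (e * t) • a + s • b) (fun e0 => ?_) hq
      (by simp [hab, hab', h.alt a, h.alt b]) (fun hm => ?_) fun c => ?_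
    · obtain ⟨hs, -, ht, -⟩ := coeff_eq hO ha hb (a := s) (b := 0) (a' := t) (b' := 0)
        (by linear_combination (norm := module) e0)
      exact hst.elim (· hs) (· ht)
    · obtain ⟨p, q, hpq⟩ := mem_line.1 hm
      rw [map_add, LinearMap.map_smul, LinearMap.map_smul] at hpq
      obtain ⟨e1, -, e3, -⟩ := coeff_eq hO ha hb (a := p * s - e * t) (b := q * s) (a' := p * t - s) (b' := q * t)
        (by linear_combination (norm := module) hpq)
      by_cases ht : t = 0
      · subst ht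
        exact hst.elim (fun hs => hs (by linear_combination -e3)) fun ht => ht rfl
      · exact h.ns p (mul_right_cancel₀ ht (show p * p * t = e * t by linear_combination p * e3 + e1))
    · convert hK ((s * s - e * (t * t)) * c) using 1
      refine sp_ext fun x => ?_
      simp only [Subgroup.coe_mul, LinearEquiv.mul_apply, tr_apply, map_add, LinearMap.map_smul, LinearMap.add_apply,
        LinearMap.smul_apply, smul_eq_mul, h.alt a, h.alt b, hab, hab', mul_zero, add_zero, zero_add]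
      match_scalars <;> ring
  have hani : ∀ s t : F, B (s • a + t • b) (J (s • a + t • b)) = 0 → s = 0 ∧ t = 0 := fun s t hq => by
    by_contra hne
    exact hP ⟨s, t, not_and_or.1 hne, hq⟩
  set α := B a (J a) with hα'
  have hα : α ≠ 0 := fun e0 => one_ne_zero (hani 1 0 (by simpa using e0)).1
  set g := B b (J a) / α with hg
  set b₀ := b - g • a with hb₀
  have hb₀a : B b₀ a = 0 := by simp [hb₀, hab, h.alt a]
  have hb₀Ja : B b₀ (J a) = 0 := by
    simp only [hb₀, map_sub, LinearMap.sub_apply, LinearMap.map_smul, LinearMap.smul_apply, smul_eq_mul, ← hα', hg,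
      div_mul_cancel₀ _ hα, sub_self]
  have haJb₀ : B a (J b₀) = 0 := by rw [adj_comm h]; exact hb₀Ja
  have hab₀ : B a b₀ = 0 := by rw [swap h.alt b₀ a, hb₀a, neg_zero]
  have hbeq : b = b₀ + g • a := by rw [hb₀, sub_add_cancel]
  have hβ : B b₀ (J b₀) ≠ 0 := fun e0 => one_ne_zero (hani (-g) 1 (by
    rwa [show -g • a + (1 : F) • b = b₀ by rw [hb₀]; module])).2
  by_cases hl : ∃ l : F, l ≠ 0 ∧ l * l ≠ 1
  · -- a torus splits off `b`
    obtain ⟨l, hl, hl1⟩ := hl
    have he1 : (1 : F) - e ≠ 0 := fun e0 => h.ns 1 (by linear_combination e0)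
    obtain ⟨σ, hσJ, hσ⟩ := exists_refl h hβ (s := (1 + e) / (1 - e)) (t := 2 / (1 - e)) (by field_simp; ring)
    have hσa : (σ : V ≃ₗ[F] V) a = a := refl_fix h hσ haJb₀ hab₀
    have hK' : ∀ c, tr h.alt ((σ : V ≃ₗ[F] V) b) c * tr h.alt a (-e * c) ∈ K := fun c => by
      have h1 := K.mul_mem (K.mul_mem (hM σ hσJ) (hK c)) (K.inv_mem (hM σ hσJ))
      rwa [show σ * (tr h.alt b c * tr h.alt a (-e * c)) * σ⁻¹ =
        (σ * tr h.alt b c * σ⁻¹) * (σ * tr h.alt a (-e * c) * σ⁻¹) by group, conj_tr, conj_tr, hσa] at h1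
    have h1 : B ((σ : V ≃ₗ[F] V) b) a = 0 := by
      rw [← hσa, show B ((σ : V ≃ₗ[F] V) b) ((σ : V ≃ₗ[F] V) a) = B b a from σ.2 b a, hab]
    have h2 : B ((σ : V ≃ₗ[F] V) b) b ≠ 0 := by
      have e1 : (σ : V ≃ₗ[F] V) b₀ = ((1 + e) / (1 - e)) • b₀ + (2 / (1 - e)) • J b₀ := by
        rw [hσ, h.alt b₀, div_self hβ]; module
      have e2 : (σ : V ≃ₗ[F] V) (b₀ + g • a) = ((1 + e) / (1 - e)) • b₀ + (2 / (1 - e)) • J b₀ + g • a := by
        rw [map_add, LinearEquiv.map_smul, hσa, e1]
      rw [hbeq, e2]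
      simp only [map_add, LinearMap.map_smul, LinearMap.add_apply, LinearMap.smul_apply, smul_eq_mul, h.alt a,
        h.alt b₀, hb₀a, hab₀, h.adj b₀, hb₀Ja, mul_zero, add_zero, neg_zero, zero_add]
      exact mul_ne_zero (div_ne_zero h.two he1) (neg_ne_zero.2 hβ)
    exact exists_iso_tr h hM (a := b) (fun e0 => hb (by rw [e0]; exact Submodule.zero_mem _))
      (tr_of_torus h hab h1 h2 hK hK' hl hl1)
  · -- three elements in the field
    push Not at hl
    have h3 : (3 : F) = 0 := by linear_combination hl 2 h.two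
    have he : e = -1 := by
      have he0 : e ≠ 0 := fun e0 => h.ns 0 (by rw [e0, mul_zero])
      rcases mul_self_eq_one_iff.1 (hl e he0) with e1 | e1
      · exact absurd (by rw [e1, one_mul]) (h.ns 1)
      · exact e1
    subst he
    have hsq : ∀ {x : F}, x ≠ 0 → x = α ∨ x = -α := fun {x} hx => by
      rcases mul_self_eq_one_iff.1 (hl x hx) with e1 | e1 <;> rcases mul_self_eq_one_iff.1 (hl α hα) with e2 | e2 <;>
        simp [e1, e2]
    have hbb : B b₀ (J b₀) = α := by
      refine (hsq hβ).resolve_right fun e0 => one_ne_zero (hani (1 - g) 1 ?_).2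
      rw [show (1 - g) • a + (1 : F) • b = a + b₀ by rw [hb₀]; module]
      simp only [map_add, LinearMap.add_apply, hb₀Ja, haJb₀, e0, ← hα']
      ring
    obtain ⟨c₀, hc₀, hc₀n⟩ := exists_perp_aniso h hab hani
    obtain ⟨c, hc, hcc⟩ : ∃ c ∈ OrthMax.perp (normForm B J) (line J a ⊔ line J b), B c (J c) = α := by
      rcases hsq hc₀n with e0 | e0
      · exact ⟨c₀, hc₀, e0⟩
      · have hJ : J c₀ ∈ OrthMax.perp (normForm B J) (line J a ⊔ line J b) := fun w hw => by
          obtain ⟨u, hu, v, hv, rfl⟩ := Submodule.mem_sup.1 hw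
          show polar (normForm B J) (u + v) (J c₀) = 0
          rw [CfsgLib.Classical.Quad.polar_add_left', show polar (normForm B J) u (J c₀) = 0 from
              map_mem_lperp hO (show c₀ ∈ lperp (normForm B J) J a from
                fun x hx => hc₀ x (Submodule.mem_sup_left hx)) u hu,
            show polar (normForm B J) v (J c₀) = 0 from
              map_mem_lperp hO (show c₀ ∈ lperp (normForm B J) J b from
                fun x hx => hc₀ x (Submodule.mem_sup_right hx)) v hv, add_zero]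
        refine ⟨c₀ + J c₀, add_mem hc₀ hJ, ?_⟩
        simp only [map_add, LinearMap.add_apply, h.sq, h.adj c₀, LinearMap.map_smul, smul_eq_mul, h.alt c₀,
          h.alt (J c₀), mul_zero, add_zero, neg_zero]
        linear_combination (1 - (-1 : F)) * e0 - α * h3
    obtain ⟨a1, a2, a3, a4⟩ := of_mem_lperp h (show c ∈ lperp (normForm B J) J a from
      fun x hx => hc x (Submodule.mem_sup_left hx))
    obtain ⟨b1, b2, b3, b4⟩ := of_mem_lperp h (show c ∈ lperp (normForm B J) J b from
      fun x hx => hc x (Submodule.mem_sup_right hx))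
    have c1 : B b₀ (J c) = 0 := by simp [hb₀, b1, a1]
    have c2 : B b₀ c = 0 := by simp [hb₀, b2, a2]
    have c3 : B c b₀ = 0 := by rw [swap h.alt b₀ c, c2, neg_zero]
    have c4 : B c (J b₀) = 0 := by rw [adj_comm h]; exact c1
    obtain ⟨τ₁, hτ₁, hτ₁b, hτ₁f⟩ := exists_swap h hα hbb hcc c2 c1
    obtain ⟨τ₂, hτ₂, hτ₂a, hτ₂f⟩ := exists_swap h hα hα'.symm hcc a2 a1
    obtain ⟨σ, hσJ, hσ⟩ := exists_refl h hβ (s := -1) (t := 0) (by ring)
    have hσa : (σ : V ≃ₗ[F] V) a = a := refl_fix h hσ haJb₀ hab₀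
    have hσb : (σ : V ≃ₗ[F] V) b₀ = -b₀ := by rw [hσ, h.alt b₀, div_self hβ]; module
    have hτ₁a : (τ₁ : V ≃ₗ[F] V) a = a := hτ₁f a hab₀ a2 haJb₀ a1
    have hτ₂b : (τ₂ : V ≃ₗ[F] V) b₀ = b₀ := hτ₂f b₀ hb₀a c2 hb₀Ja c1
    have conj : ∀ {τ : Sp B}, (∀ x, (τ : V ≃ₗ[F] V) (J x) = J ((τ : V ≃ₗ[F] V) x)) → ∀ {v u : V},
        (∀ d, tr h.alt v d * tr h.alt u d ∈ K) →
        ∀ d, tr h.alt ((τ : V ≃ₗ[F] V) v) d * tr h.alt ((τ : V ≃ₗ[F] V) u) d ∈ K := fun {τ} hτ {v u} hvu d => by
      have h1 := K.mul_mem (K.mul_mem (hM τ hτ) (hvu d)) (K.inv_mem (hM τ hτ))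
      rwa [show τ * (tr h.alt v d * tr h.alt u d) * τ⁻¹ = (τ * tr h.alt v d * τ⁻¹) * (τ * tr h.alt u d * τ⁻¹) by
        group, conj_tr, conj_tr] at h1
    have hX : ∀ d, tr h.alt (b₀ + g • a) d * tr h.alt a d ∈ K := fun d => by
      simpa [← hbeq] using hK d
    have hY : ∀ d, tr h.alt (-b₀ + g • a) d * tr h.alt a d ∈ K := fun d => by
      have := conj hσJ hX d
      rwa [map_add, LinearEquiv.map_smul, hσa, hσb] at this
    have hX₁ : ∀ d, tr h.alt (c + g • a) d * tr h.alt a d ∈ K := fun d => by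
      have := conj hτ₁ hX d
      rwa [map_add, LinearEquiv.map_smul, hτ₁a, hτ₁b] at this
    have hY₁ : ∀ d, tr h.alt (-c + g • a) d * tr h.alt a d ∈ K := fun d => by
      have := conj hτ₁ hY d
      rwa [map_add, LinearEquiv.map_smul, map_neg, hτ₁a, hτ₁b] at this
    have hX₂ : ∀ d, tr h.alt (b₀ + g • c) d * tr h.alt c d ∈ K := fun d => by
      have := conj hτ₂ hX d
      rwa [map_add, LinearEquiv.map_smul, hτ₂a, hτ₂b] at this
    have hY₂ : ∀ d, tr h.alt (-b₀ + g • c) d * tr h.alt c d ∈ K := fun d => by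
      have := conj hτ₂ hY d
      rwa [map_add, LinearEquiv.map_smul, map_neg, hτ₂a, hτ₂b] at this
    by_cases hg0 : g = 0
    · refine exists_iso_tr h hM (a := a) ha fun d => ?_
      have h1 := K.mul_mem (K.mul_mem (hX (d / 2)) (hX₁ (d / 2))) (K.inv_mem (hX₂ (d / 2)))
      convert h1 using 1
      refine sp_ext fun x => ?_
      simp only [hg0, zero_smul, add_zero, mul_inv_rev, Subgroup.coe_mul, LinearEquiv.mul_apply, tr_inv, tr_apply,
        map_add, LinearMap.map_smul, LinearMap.add_apply, LinearMap.smul_apply, smul_eq_mul, h.alt a, h.alt b₀,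
        h.alt c, hab₀, hb₀a, a2, a3, c2, c3, mul_zero]
      have := h.two
      match_scalars <;> field_simp <;> ring
    · have hg1 : g * g = 1 := hl g hg0
      refine ⟨a + b₀ + c, fun e0 => hα ?_, ?_, fun d => ?_⟩
      · have := congrArg (fun v => B a (J v)) e0
        simpa [← hα', haJb₀, a1] using this
      · simp only [map_add, LinearMap.add_apply, ← hα', hbb, hcc, haJb₀, hb₀Ja, a1, a4, c1, c4]
        linear_combination α * h3
      · have h1 := K.mul_mem (K.mul_mem (K.mul_mem (K.mul_mem (K.mul_mem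
          (hX ((1 + 2 * g) * d)) (hY ((1 - 2 * g) * d))) (hX₁ (2 * g * d))) (hY₁ (-(2 * g * d))))
          (hX₂ ((1 + 2 * g) * d))) (hY₂ ((1 - 2 * g) * d))
        convert h1 using 1
        refine sp_ext fun x => ?_
        simp only [Subgroup.coe_mul, LinearEquiv.mul_apply, tr_apply,
          map_add, map_neg, LinearMap.map_smul, LinearMap.add_apply, LinearMap.neg_apply, LinearMap.smul_apply,
          smul_eq_mul, h.alt a, h.alt b₀, h.alt c, hab₀, hb₀a, a2, a3, c2, c3, mul_zero, add_zero, zero_add, neg_zero]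
        match_scalars <;> grobner

end CfsgLib.Geo.SympOverfield
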