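/-
Normalisers of quadratic overfields in six-dimensional symplectic spaces (`GU₃` inside `Sp₆`), `q` odd.
-/
import Cfsg.Agent.Lib.Geo.SympSubfieldMaximal
import Cfsg.Agent.Lib.Known.QuadClassify

set_option autoImplicit false

namespace CfsgLib.Geo.SympOverfieldThree

open LinearMap (BilinForm)
open CfsgLib.Classical CfsgLib.Classical.Symp CfsgLib.Geo.SympSubfield

variable {F : Type*} [Field F] {V : Type*} [AddCommGroup V] [Module F V] [FiniteDimensional F V]
  {B : BilinForm F V}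

/-- `J` is a trace zero generator of a quadratic extension, skew for the form, in dimension six. -/
structure Setup (B : BilinForm F V) (J : V →ₗ[F] V) (e : F) : Prop where
  alt : B.IsAlt
  nondeg : B.Nondegenerate
  rank : Module.finrank F V = 6
  two : (2 : F) ≠ 0
  sq : ∀ v, J (J v) = e • v
  ns : ∀ a : F, a * a ≠ e
  adj : ∀ x y, B (J x) y = -B x (J y)

variable {J : V →ₗ[F] V} {e : F} (h : Setup B J e)
include h

theorem e_ne : e ≠ 0 := fun he => h.ns 0 (by rw [he, mul_zero])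

theorem adj_comm (x y : V) : B x (J y) = B y (J x) := by
  have := h.adj y x
  rw [swap h.alt x (J y)] at this
  linear_combination -this

theorem map_map (x y : V) : B (J x) (J y) = -e * B x y := by
  rw [h.adj, h.sq, LinearMap.map_smul, smul_eq_mul, neg_mul]

theorem norm_ne {s t : F} (hne : s ≠ 0 ∨ t ≠ 0) : s * s - e * (t * t) ≠ 0 := by
  intro e0
  by_cases ht : t = 0
  · rw [ht, mul_zero, mul_zero, sub_zero, mul_self_eq_zero] at e0
    exact hne.elim (fun hs => hs e0) (fun ht' => ht' ht)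
  · refine h.ns (s / t) ?_
    field_simp
    linear_combination e0

theorem coeff_zero {x : V} (hx : x ≠ 0) {a b : F} (hab : a • x + b • J x = 0) : a = 0 ∧ b = 0 := by
  have h1 := congrArg J hab
  rw [map_add, LinearMap.map_smul, LinearMap.map_smul, h.sq, map_zero] at h1
  have h2 : (a * a - e * (b * b)) • x = 0 := by
    linear_combination (norm := module) a • hab - b • h1
  by_contra hne
  exact norm_ne h (not_and_or.1 hne) ((smul_eq_zero.1 h2).resolve_right hx)

/-- An isotropic vector on the line of another one with prescribed products. -/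
theorem scaled {y w₀ : V} (hw₀ : B w₀ (J w₀) = 0) (hne : B y (J w₀) ≠ 0 ∨ B y w₀ ≠ 0) (α β : F) :
    ∃ c d : F, B (c • w₀ + d • J w₀) (J (c • w₀ + d • J w₀)) = 0 ∧
      B y (J (c • w₀ + d • J w₀)) = α ∧ B y (c • w₀ + d • J w₀) = β := by
  set s := B y (J w₀)
  set t := B y w₀
  have hN := norm_ne h hne
  refine ⟨(s * α - e * t * β) / (s * s - e * (t * t)), (s * β - t * α) / (s * s - e * (t * t)), ?_, ?_, ?_⟩
  · simp only [map_add, LinearMap.map_smul, LinearMap.add_apply, LinearMap.smul_apply, smul_eq_mul, h.sq, hw₀,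
      h.alt w₀, h.adj w₀, h.alt (J w₀), mul_zero, add_zero, neg_zero]
  · simp only [map_add, LinearMap.map_smul, smul_eq_mul, h.sq]
    show _ * s + _ * (e * t) = α
    rw [div_mul_eq_mul_div, div_mul_eq_mul_div, ← add_div, div_eq_iff hN]
    ring
  · simp only [map_add, LinearMap.map_smul, smul_eq_mul]
    show _ * t + _ * s = β
    rw [div_mul_eq_mul_div, div_mul_eq_mul_div, ← add_div, div_eq_iff hN]
    ring

/-! ### Frames -/

omit h [FiniteDimensional F V] in
/-- A hyperbolic pair over the overfield and a vector orthogonal to it. -/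
structure Frame (B : BilinForm F V) (J : V →ₗ[F] V) (v r a : V) : Prop where
  vv : B v (J v) = 0
  rr : B r (J r) = 0
  vr : B v r = 1
  vJr : B v (J r) = 0
  av : B a v = 0
  aJv : B a (J v) = 0
  ar : B a r = 0
  aJr : B a (J r) = 0
  aa : B a (J a) ≠ 0
  span : ∀ x, ∃ c₁ c₂ c₃ c₄ c₅ c₆ : F, x = c₁ • v + c₂ • J v + c₃ • r + c₄ • J r + c₅ • a + c₆ • J a

theorem exists_frame_pair {v r : V} (hv : B v (J v) = 0) (hrr : B r (J r) = 0) (hvr : B v r = 1)
    (hvJr : B v (J r) = 0) : ∃ a, Frame B J v r a := by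
  have he := e_ne h
  have hrv : B r v = -1 := by rw [swap h.alt v r, hvr]
  have hrJv : B r (J v) = 0 := by rw [← adj_comm h, hvJr]
  have hJvr : B (J v) r = 0 := by rw [h.adj, hvJr, neg_zero]
  have hJrv : B (J r) v = 0 := by rw [h.adj, hrJv, neg_zero]
  let Φ : V →ₗ[F] (Fin 4 → F) := LinearMap.pi ![B.flip v, B.flip (J v), B.flip r, B.flip (J r)]
  have hΦ : ∀ x, Φ x = ![B x v, B x (J v), B x r, B x (J r)] := fun x => by
    ext i
    fin_cases i <;> rfl
  have hsurj : LinearMap.range Φ = ⊤ := by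
    refine LinearMap.range_eq_top.2 fun t => ⟨(-t 0) • r + (t 1 / e) • J r + t 2 • v + (-t 3 / e) • J v, ?_⟩
    rw [hΦ]
    ext i
    fin_cases i <;> simp [hrv, hJrv, hrJv, hJvr, hvr, hvJr, hv, hrr, h.alt v, h.alt r, map_map h, h.adj v v,
      h.adj r r, he]
  have hker : Module.finrank F (LinearMap.ker Φ) = 2 := by
    have h1 := LinearMap.finrank_range_add_finrank_ker Φ
    rw [hsurj, finrank_top, Module.finrank_fintype_fun_eq_card, Fintype.card_fin, h.rank] at h1
    omega
  have hmem : ∀ x, x ∈ LinearMap.ker Φ ↔ B x v = 0 ∧ B x (J v) = 0 ∧ B x r = 0 ∧ B x (J r) = 0 := fun x => by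
    rw [LinearMap.mem_ker, hΦ, funext_iff]
    simp [Fin.forall_fin_succ]
  have hJker : ∀ x ∈ LinearMap.ker Φ, J x ∈ LinearMap.ker Φ := fun x hx => by
    obtain ⟨a1, a2, a3, a4⟩ := (hmem x).1 hx
    exact (hmem _).2 ⟨by rw [h.adj, a2, neg_zero], by rw [map_map h, a1, mul_zero], by rw [h.adj, a4, neg_zero],
      by rw [map_map h, a3, mul_zero]⟩
  obtain ⟨a, ha, ha0⟩ := Submodule.exists_mem_ne_zero_of_ne_bot
    (show LinearMap.ker Φ ≠ ⊥ from fun e0 => by rw [e0, finrank_bot] at hker; omega)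
  obtain ⟨hav, haJv, har, haJr⟩ := (hmem a).1 ha
  have hli : LinearIndependent F ![a, J a] := LinearIndependent.pair_iff.2 fun s t hst => coeff_zero h ha0 hst
  have hspanE : LinearMap.ker Φ = Submodule.span F (Set.range ![a, J a]) := by
    refine (Submodule.eq_of_le_of_finrank_le (Submodule.span_le.2 ?_) ?_).symm
    · rintro x ⟨i, rfl⟩
      fin_cases i
      · exact ha
      · exact hJker a ha
    · rw [finrank_span_eq_card hli, Fintype.card_fin, hker]
  have hdec : ∀ x, ∃ c₁ c₂ c₃ c₄ c₅ c₆ : F,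
      x = c₁ • v + c₂ • J v + c₃ • r + c₄ • J r + c₅ • a + c₆ • J a := by
    intro x
    have hp : x - (B x r • v + (-B x (J r) / e) • J v + (-B x v) • r + (B x (J v) / e) • J r) ∈ LinearMap.ker Φ :=
      (hmem _).2 ⟨by simp [hrv, hJrv, hv, h.alt v, h.adj v v],
        by simp [hrJv, hv, map_map h, hrv, he, h.alt v],
        by simp [hvr, hJvr, h.alt r, h.adj r r, hrr],
        by simp [hvJr, hrr, map_map h, hvr, he, h.alt r]⟩
    rw [hspanE, Submodule.mem_span_range_iff_exists_fun] at hp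
    obtain ⟨t, ht⟩ := hp
    rw [Fin.sum_univ_two] at ht
    refine ⟨B x r, -B x (J r) / e, -B x v, B x (J v) / e, t 0, t 1, ?_⟩
    simp at ht
    linear_combination (norm := module) -ht
  refine ⟨a, hv, hrr, hvr, hvJr, hav, haJv, har, haJr, fun haa => ha0 (h.nondeg.1 a fun x => ?_), hdec⟩
  obtain ⟨c₁, c₂, c₃, c₄, c₅, c₆, rfl⟩ := hdec x
  simp [hav, haJv, har, haJr, haa, h.alt a]


theorem exists_frame {v : V} (hv : B v (J v) = 0) (hv0 : v ≠ 0) : ∃ r a, Frame B J v r a := by
  obtain ⟨u, hu⟩ : ∃ u, B v u ≠ 0 := by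
    by_contra! hc
    exact hv0 (h.nondeg.1 v hc)
  have he := e_ne h
  have hf : B v (J (J u)) ≠ 0 := by rw [h.sq, LinearMap.map_smul, smul_eq_mul]; exact mul_ne_zero he hu
  have h2 := h.two
  obtain ⟨r₀, hr₀, hvr₀⟩ : ∃ r₀, B r₀ (J r₀) = 0 ∧ B v (J r₀) ≠ 0 := by
    refine ⟨J u + (-B (J u) (J (J u)) / (2 * B v (J (J u)))) • v, ?_, ?_⟩
    · simp only [map_add, LinearMap.map_smul, LinearMap.add_apply, LinearMap.smul_apply, smul_eq_mul, hv,
        adj_comm h (J u) v]
      field_simp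
      ring
    · simp only [map_add, LinearMap.map_smul, smul_eq_mul, hv, mul_zero, add_zero]
      exact hf
  obtain ⟨c, d, hrr, hvJr, hvr⟩ := scaled h hr₀ (Or.inl hvr₀) 0 1
  set r := c • r₀ + d • J r₀
  obtain ⟨a, ha⟩ := exists_frame_pair h hv hrr hvr hvJr
  exact ⟨_, a, ha⟩

/-- The frame with the third vector turned. -/
theorem Frame.turn {v r a : V} (hf : Frame B J v r a) : Frame B J v r (J a) := by
  refine ⟨hf.vv, hf.rr, hf.vr, hf.vJr, by rw [h.adj, hf.aJv, neg_zero], by rw [map_map h, hf.av, mul_zero],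
    by rw [h.adj, hf.aJr, neg_zero], by rw [map_map h, hf.ar, mul_zero], ?_, fun x => ?_⟩
  · rw [h.sq, LinearMap.map_smul, smul_eq_mul, h.adj]
    exact mul_ne_zero (e_ne h) (neg_ne_zero.2 hf.aa)
  · obtain ⟨c₁, c₂, c₃, c₄, c₅, c₆, rfl⟩ := hf.span x
    refine ⟨c₁, c₂, c₃, c₄, c₆, c₅ / e, ?_⟩
    rw [h.sq, smul_smul, div_mul_cancel₀ _ (e_ne h)]
    abel

/-- An isotropic vector orthogonal to an isotropic vector lies on its line. -/
theorem Frame.eq_of_perp {v r a : V} (hf : Frame B J v r a) {w : V} (hw : B w (J w) = 0) (h1 : B w v = 0)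
    (h2 : B w (J v) = 0) : ∃ c d : F, w = c • v + d • J v := by
  obtain ⟨c₁, c₂, c₃, c₄, c₅, c₆, rfl⟩ := hf.span w
  have e1 : B r v = -1 := by rw [swap h.alt v r, hf.vr]
  have e2 : B r (J v) = 0 := by rw [← adj_comm h, hf.vJr]
  have e3 : B (J v) v = 0 := by rw [h.adj, hf.vv, neg_zero]
  have e4 : B (J r) v = 0 := by rw [h.adj, e2, neg_zero]
  have e5 : B (J a) v = 0 := by rw [h.adj, hf.aJv, neg_zero]
  have e6 : B v a = 0 := by rw [swap h.alt a v, hf.av, neg_zero]
  have e7 : B v (J a) = 0 := by rw [adj_comm h, hf.aJv]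
  simp [e1, e3, e4, e5, hf.av, h.alt v] at h1
  simp [e2, hf.vv, map_map h, e1, hf.aJv, hf.av, h1, e_ne h, h.alt v] at h2
  subst h1 h2
  simp [h.sq, h.adj v, h.adj a, map_map h, hf.vv, hf.aa, hf.av, hf.aJv, h.alt v, h.alt a, e6, e7] at hw
  have hz : (c₅ * c₅ - e * (c₆ * c₆)) = 0 := by
    refine (mul_eq_zero.1 ?_).resolve_right hf.aa
    linear_combination hw
  have h56 : c₅ = 0 ∧ c₆ = 0 := by
    by_contra hne
    exact norm_ne h (not_and_or.1 hne) hz
  exact ⟨c₁, c₂, by simp [h56.1, h56.2]⟩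

/-- Frames are independent. -/
theorem Frame.indep {v r a : V} (hf : Frame B J v r a) {c₁ c₂ c₃ c₄ c₅ c₆ : F}
    (h0 : c₁ • v + c₂ • J v + c₃ • r + c₄ • J r + c₅ • a + c₆ • J a = 0) :
    c₁ = 0 ∧ c₂ = 0 ∧ c₃ = 0 ∧ c₄ = 0 ∧ c₅ = 0 ∧ c₆ = 0 := by
  have he := e_ne h
  have e1 : B r v = -1 := by rw [swap h.alt v r, hf.vr]
  have e2 : B r (J v) = 0 := by rw [← adj_comm h, hf.vJr]
  have q1 := congrArg (fun x => B x r) h0
  have q2 := congrArg (fun x => B x v) h0
  have q3 := congrArg (fun x => B x (J r)) h0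
  have q4 := congrArg (fun x => B x (J v)) h0
  have q5 := congrArg (fun x => B x a) h0
  have q6 := congrArg (fun x => B x (J a)) h0
  simp [h.adj v, h.adj r, h.adj a, hf.vr, hf.vJr, hf.ar, hf.aJr, hf.rr, h.alt r] at q1
  simp [h.adj v, h.adj r, h.adj a, e1, e2, hf.av, hf.aJv, hf.vv, h.alt v] at q2
  simp [map_map h, hf.vr, hf.vJr, hf.ar, hf.aJr, hf.rr, h.alt r, he] at q3
  simp [map_map h, e1, e2, hf.av, hf.aJv, hf.vv, h.alt v, he] at q4
  subst q1 q2 q3 q4
  simp [h.adj a, h.alt a, hf.aa] at q5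
  simp [map_map h, h.alt a, hf.aa] at q6
  exact ⟨rfl, rfl, rfl, rfl, q6, q5⟩

/-- Linear maps agreeing on a frame are equal. -/
theorem Frame.ext {v r a : V} (hf : Frame B J v r a) {f g : V →ₗ[F] V} (h1 : f v = g v)
    (h2 : f (J v) = g (J v)) (h3 : f r = g r) (h4 : f (J r) = g (J r)) (h5 : f a = g a)
    (h6 : f (J a) = g (J a)) (x : V) : f x = g x := by
  obtain ⟨c₁, c₂, c₃, c₄, c₅, c₆, rfl⟩ := hf.span x
  simp [h1, h2, h3, h4, h5, h6]

/-! ### Unitary elements fixing an isotropic vector -/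

omit h [FiniteDimensional F V] in
/-- The unitary root element of an isotropic vector. -/
def uTr (hA : B.IsAlt) (J : V →ₗ[F] V) (e : F) (v : V) (c : F) : Sp B :=
  tr hA (J v) c * tr hA v (-(e * c))

theorem uTr_apply {v : V} (hv : B v (J v) = 0) (c : F) (x : V) :
    (uTr h.alt J e v c : V ≃ₗ[F] V) x = x + (c * B x (J v)) • J v - (e * c * B x v) • v := by
  simp only [uTr, Subgroup.coe_mul, LinearEquiv.mul_apply, tr_apply, map_add, LinearMap.map_smul,
    LinearMap.add_apply, LinearMap.smul_apply, smul_eq_mul, hv, mul_zero, add_zero]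
  module

theorem uTr_comm {v : V} (hv : B v (J v) = 0) (c : F) (x : V) :
    (uTr h.alt J e v c : V ≃ₗ[F] V) (J x) = J ((uTr h.alt J e v c : V ≃ₗ[F] V) x) := by
  simp only [uTr_apply h hv, map_add, map_sub, LinearMap.map_smul, h.sq, h.adj x (J v), h.adj x v,
    smul_eq_mul]
  module

omit h [FiniteDimensional F V] in
/-- The unipotent element moving the radical. -/
def uQ (hA : B.IsAlt) (J : V →ₗ[F] V) (v a : V) : Sp B :=
  sel hA (J v) v (-(B a (J a) / 2)) * (sel hA (J v) a 1 * sel hA v (J a) (-1))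

theorem uQ_apply {v a : V} (hv : B v (J v) = 0) (h1 : B a v = 0) (h2 : B a (J v) = 0) (x : V) :
    (uQ h.alt J v a : V ≃ₗ[F] V) x = x + (B x (J v) • a + B x a • J v) - (B x v • J a + B x (J a) • v) +
      (B a (J a) / 2) • (B x v • J v - B x (J v) • v) := by
  have e1 : B v a = 0 := by rw [swap h.alt a v, h1, neg_zero]
  have e2 : B v (J a) = 0 := by rw [adj_comm h, h2]
  have e3 : B (J v) v = 0 := by rw [h.adj, hv, neg_zero]
  have e4 : B (J v) a = 0 := by rw [h.adj, e2, neg_zero]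
  have e5 : B (J a) v = 0 := by rw [h.adj, h2, neg_zero]
  have e6 : B (J a) (J v) = 0 := by rw [map_map h, h1, mul_zero]
  have e7 : B (J a) a = -B a (J a) := h.adj a a
  have h2' := h.two
  simp only [uQ, Subgroup.coe_mul, LinearEquiv.mul_apply, sel_apply h.alt e3, sel_apply h.alt e4,
    sel_apply h.alt e2, map_add, LinearMap.map_smul, LinearMap.add_apply, LinearMap.smul_apply, smul_eq_mul,
    hv, h1, h2, e1, e3, e4, e5, e6, e7, h.alt v, h.alt (J v)]
  match_scalars <;> field_simp <;> ring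

theorem uQ_comm {v a : V} (hv : B v (J v) = 0) (h1 : B a v = 0) (h2 : B a (J v) = 0) (x : V) :
    (uQ h.alt J v a : V ≃ₗ[F] V) (J x) = J ((uQ h.alt J v a : V ≃ₗ[F] V) x) := by
  simp only [uQ_apply h hv h1 h2, map_add, map_sub, LinearMap.map_smul, h.sq, h.adj x (J v), h.adj x v,
    h.adj x a, h.adj x (J a), smul_eq_mul]
  module

theorem uQ_fix {v a : V} (hv : B v (J v) = 0) (h1 : B a v = 0) (h2 : B a (J v) = 0) :
    (uQ h.alt J v a : V ≃ₗ[F] V) v = v := by
  rw [uQ_apply h hv h1 h2, swap h.alt a v, h1, adj_comm h v a, h2, hv, h.alt v]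
  module

theorem uQ_partner {v r a : V} (hf : Frame B J v r a) :
    (uQ h.alt J v a : V ≃ₗ[F] V) r = r + J a - (B a (J a) / 2) • J v := by
  rw [uQ_apply h hf.vv hf.av hf.aJv, ← adj_comm h v r, hf.vJr, swap h.alt v r, hf.vr, swap h.alt a r, hf.ar,
    ← adj_comm h a r, hf.aJr]
  module

/-! ### Generation -/

variable {K : Subgroup (Sp B)}
  (hM : ∀ g : Sp B, (∀ x, (g : V ≃ₗ[F] V) (J x) = J ((g : V ≃ₗ[F] V) x)) → g ∈ K)
include hM

omit hM in
theorem sel_smul_right (x b : V) (hxb : B x b = 0) (k σ : F) :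
    sel h.alt x (k • b) σ = sel h.alt x b (k * σ) := by
  refine sp_ext fun w => ?_
  rw [sel_apply h.alt (by simp [hxb]), sel_apply h.alt hxb]
  simp only [LinearMap.map_smul, smul_eq_mul]
  module

omit h hM [FiniteDimensional F V] in
/-- Transvection groups in `K`. -/
def TV (hA : B.IsAlt) (K : Subgroup (Sp B)) (z : V) : Prop := ∀ c, tr hA z c ∈ K

omit hM in
theorem TV.hop {z t : V} (hz : TV h.alt K z) (ht : TV h.alt K t) (hne : B z t ≠ 0) (k : F) :
    TV h.alt K (z + k • t) := fun c => by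
  have h1 := SympMax.tr_mem_of_conj h.alt (ht (k / B z t)) hz c
  rwa [tr_apply, div_mul_cancel₀ _ hne] at h1

omit hM in
theorem TV.smul {z : V} (hz : TV h.alt K z) (k : F) : TV h.alt K (k • z) := fun c => by
  rw [tr_smul_vec]
  exact hz _

theorem TV.mapJ {z : V} (hzz : B z (J z) = 0) (hz : TV h.alt K z) :
    TV h.alt K (J z) := fun c => by
  have h1 := K.mul_mem (hM _ (uTr_comm h hzz c)) (hz (e * c))
  rwa [uTr, mul_assoc, tr_mul, neg_add_cancel, tr_zero, mul_one] at h1

/-- From a unitary root element and a conjugate outside the centraliser to a transvection. -/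
theorem exists_tr {v y : V} (hv : B v (J v) = 0) (hv0 : v ≠ 0) (hyv : B y v = 0) (hη : B y (J v) ≠ 0)
    (hK : ∀ c, tr h.alt y c * tr h.alt v (-(e * c)) ∈ K) : TV h.alt K (J v) := by
  classical
  set p := J v with hp
  set ε := -e
  let S : V → Prop := fun s => B s v = 0 ∧ ∀ c, tr h.alt s c * tr h.alt v (ε * c) ∈ K
  have hSy : S y := ⟨hyv, fun c => by simpa [ε, neg_mul] using hK c⟩
  have hpv : B p v = 0 := by rw [hp, h.adj, hv, neg_zero]
  have hSp : S p := ⟨hpv, fun c => by simpa [ε, uTr, hp, neg_mul] using hM _ (uTr_comm h hv c)⟩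
  have move : ∀ {s} (g : Sp B), g ∈ K → (g : V ≃ₗ[F] V) v = v → S s → S ((g : V ≃ₗ[F] V) s) := by
    intro s g hg hgv hs
    refine ⟨(congrArg (B ((g : V ≃ₗ[F] V) s)) hgv).symm.trans ((g.2 s v).trans hs.1), fun c => ?_⟩
    have h1 := K.mul_mem (K.mul_mem hg (hs.2 c)) (K.inv_mem hg)
    rwa [show g * (tr h.alt s c * tr h.alt v (ε * c)) * g⁻¹ = (g * tr h.alt s c * g⁻¹) *
      (g * tr h.alt v (ε * c) * g⁻¹) by group, conj_tr, conj_tr, hgv] at h1
  have hop : ∀ {s t}, S s → S t → B s t ≠ 0 → ∀ k : F, S (s + k • t) := by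
    intro s t hs ht hne k
    have hvt : B v t = 0 := by rw [swap h.alt t v, ht.1, neg_zero]
    have h1 := move _ (ht.2 (k / B s t)) (by simp [tr_apply, h.alt v, hvt]) hs
    simpa [tr_apply, hs.1, div_mul_cancel₀ _ hne] using h1
  obtain ⟨r, a₀, hf⟩ := exists_frame h hv hv0
  set η := B y p with hη'
  set a := a₀ + (-B y (J a₀) / η) • v + (-B y a₀ / η) • p with ha
  have hvJv : B v p = 0 := hv
  have hav : B a v = 0 := by simp [ha, hf.av, h.alt v, hpv]
  have hap : B a p = 0 := by simp [ha, show B a₀ p = 0 from hf.aJv, hvJv, h.alt p]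
  have hya : B y a = 0 := by
    simp [ha, hyv, ← hη', div_mul_cancel₀ _ hη]
  have hJp : J p = e • v := h.sq v
  have hyJa : B y (J a) = 0 := by
    simp only [ha, map_add, LinearMap.map_smul, ← hp, hJp, smul_eq_mul, hyv, ← hη']
    field_simp
    ring
  have hn : B a (J a) ≠ 0 := by
    have e1 : B v (J a₀) = 0 := by rw [adj_comm h, hf.aJv]
    have e2 : B p (J a₀) = 0 := by rw [hp, map_map h, swap h.alt a₀ v, hf.av, neg_zero, mul_zero]
    simpa [ha, ← hp, hJp, hf.av, hf.aJv, e1, e2, hvJv, hpv, h.alt v, h.alt p, show B a₀ p = 0 from hf.aJv]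
      using hf.aa
  set n := B a (J a) with hn'
  -- translate `y`
  have hJa1 : B (J a) v = 0 := by rw [h.adj, ← hp, hap, neg_zero]
  have hJa2 : B (J a) p = 0 := by rw [hp, map_map h, hav, mul_zero]
  have trans_y : ∀ b, B b v = 0 → B b p = 0 → B y b = 0 → B y (J b) = 0 →
      S (y + η • b - (B b (J b) / 2 * η) • v) := by
    intro b b1 b2 b3 b4
    have h1 := move (uQ h.alt J v b) (hM _ (uQ_comm h hv b1 b2)) (uQ_fix h hv b1 b2) hSy
    rw [uQ_apply h hv b1 b2, b3, b4, hyv, ← hp, ← hη'] at h1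
    convert h1 using 1
    module
  have diff : ∀ b, B b v = 0 → B b p = 0 → B y b = 0 → B y (J b) = 0 → ∀ j : F, j ≠ 0 →
      S (η • b - (B b (J b) / 2 * η) • v - j • p) := by
    intro b b1 b2 b3 b4 j hj
    have ht := hop hSy hSp hη j
    have hs := trans_y b b1 b2 b3 b4
    have hne : B (y + η • b - (B b (J b) / 2 * η) • v) (y + j • p) ≠ 0 := by
      simp [h.alt y, hyv, ← hη', b2, b3, swap h.alt y b, swap h.alt y v, hvJv, hη, hj]
    convert hop hs ht hne (-1) using 1
    module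
  set δ := η • a - (n / 2 * η) • v with hδ
  set δ' := η • J a - (B (J a) (J (J a)) / 2 * η) • v with hδ'
  have hJa3 : B y (J (J a)) = 0 := by rw [h.sq, LinearMap.map_smul, hya, smul_zero]
  have hS1 : ∀ j : F, j ≠ 0 → S (δ - j • p) := diff a hav hap hya hyJa
  have hS2 : ∀ j : F, j ≠ 0 → S (δ' - j • p) := diff (J a) hJa1 hJa2 hyJa hJa3
  have hδp : B δ p = 0 := by simp [hδ, hap, hvJv]
  have hδ'p : B δ' p = 0 := by simp [hδ', hJa2, hvJv]
  have hδδ : B δ δ' = η * η * n := by
    simp [hδ, hδ', hav, swap h.alt (J a) v, hJa1, h.alt v, ← hn', mul_assoc]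
  -- the difference elements
  have X : ∀ {d : V}, B d p = 0 → S (d - (1 : F) • p) → S (d - (-1 : F) • p) → ∀ c : F,
      tr h.alt p (4 * c) * sel h.alt (d - (1 : F) • p) p (2 * c) ∈ K := by
    intro d hd h1 h2 c
    have h3 := K.mul_mem (h2.2 c) (K.inv_mem (h1.2 c))
    have hA1 : B (d - (1 : F) • p) p = 0 := by simp [hd, h.alt p]
    rw [_root_.mul_inv_rev, ← mul_assoc, mul_inv_cancel_right,
      show d - (-1 : F) • p = (d - (1 : F) • p) + (2 : F) • p by module, tr_add_smul h.alt hA1] at h3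
    convert h3 using 1
    have hpd : B p (d - (1 : F) • p) = 0 := by rw [swap h.alt _ p, hA1, neg_zero]
    refine sp_ext fun x => ?_
    simp only [Subgroup.coe_mul, LinearEquiv.mul_apply, tr_inv, tr_apply, sel_apply h.alt hA1, map_add,
      LinearMap.map_smul, LinearMap.add_apply, LinearMap.smul_apply, smul_eq_mul, h.alt p,
      h.alt (d - (1 : F) • p), hA1, hpd, mul_zero, add_zero]
    module
  set A := δ - (1 : F) • p with hAdef
  set A' := δ' - (1 : F) • p with hA'def
  have hκ : B A A' = η * η * n := by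
    simp [hAdef, hA'def, hδδ, hδp, swap h.alt δ' p, hδ'p, h.alt p]
  have hκ0 : η * η * n ≠ 0 := mul_ne_zero (mul_ne_zero hη hη) hn
  set b := (η * η * n)⁻¹ • A' with hb
  have hpA : B p A = 0 := by simp [hAdef, swap h.alt δ p, hδp, h.alt p]
  have hpA' : B p A' = 0 := by simp [hA'def, swap h.alt δ' p, hδ'p, h.alt p]
  have hpb : B p b = 0 := by simp [hb, hpA']
  have hAb : B A b = 1 := by rw [hb, LinearMap.map_smul, smul_eq_mul, hκ, inv_mul_cancel₀ hκ0]
  intro c
  have h2' := h.two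
  set c₁ := c / (-(2 * (2 * ((η * η * n) * 2)))) with hc₁
  have hA'b : A' = (η * η * n) • b := by rw [hb, smul_smul, mul_inv_cancel₀ hκ0, one_smul]
  have hX1 := X hδp (hS1 1 one_ne_zero) (hS1 (-1) (neg_ne_zero.2 one_ne_zero)) c₁
  have hX2 := X hδ'p (hS2 1 one_ne_zero) (hS2 (-1) (neg_ne_zero.2 one_ne_zero)) 1
  rw [← hA'def, sel_symm h.alt (show B A' p = 0 by rw [swap h.alt p A', hpA', neg_zero]), hA'b,
    sel_smul_right h p b hpb] at hX2
  rw [← hAdef, sel_symm h.alt (show B A p = 0 by rw [swap h.alt p A, hpA, neg_zero])] at hX1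
  have hcomm : ∀ (z : V) (t s : F), B p z = 0 →
      tr h.alt p t * sel h.alt p z s = sel h.alt p z s * tr h.alt p t := fun z t s hz => by
    refine sp_ext fun x => ?_
    simp only [Subgroup.coe_mul, LinearEquiv.mul_apply, tr_apply, sel_apply h.alt hz, map_add,
      LinearMap.map_smul, LinearMap.add_apply, LinearMap.smul_apply, smul_eq_mul, h.alt p, hz,
      swap h.alt p z, neg_zero, mul_zero, add_zero]
    module
  have h5 := K.mul_mem (K.inv_mem hX2) (K.mul_mem (K.mul_mem hX1 hX2) (K.inv_mem hX1))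
  have e0 := sel_comm_formula h.alt (2 * c₁) (η * η * n * (2 * 1)) hpA (h.alt p) hpb
    (by rw [swap h.alt p A, hpA, neg_zero]) hpb hAb
  have e2 : sel h.alt p p (-(2 * c₁ * (η * η * n * (2 * 1)))) = tr h.alt p c := by
    refine sp_ext fun x => ?_
    rw [sel_apply h.alt (h.alt p), tr_apply, hc₁]
    match_scalars <;> field_simp <;> ring
  rw [← e2]
  convert h5 using 1
  have hpAx : B p A = 0 := hpA
  have c1 : Commute (tr h.alt p (4 * c₁)) (sel h.alt p A (2 * c₁)) := hcomm A _ _ hpA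
  have c2 : Commute (tr h.alt p (4 * 1)) (sel h.alt p A (2 * c₁)) := hcomm A _ _ hpA
  have c3 : Commute (tr h.alt p (4 * c₁)) (sel h.alt p b (η * η * n * (2 * 1))) := hcomm b _ _ hpb
  have c4 : Commute (tr h.alt p (4 * c₁)) (tr h.alt p (4 * 1)) := by
    show _ * _ = _ * _
    rw [tr_mul, tr_mul, add_comm]
  have c5 : Commute (tr h.alt p (4 * c₁)) (sel h.alt p p (-(2 * c₁ * (η * η * n * (2 * 1))))) :=
    hcomm p _ _ (h.alt p)
  generalize tr h.alt p (4 * c₁) = P₁ at c1 c3 c4 c5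
  generalize tr h.alt p (4 * 1) = P₂ at c2 c4
  generalize sel h.alt p A (2 * c₁) = X₁ at c1 c2 e0
  generalize sel h.alt p b (η * η * n * (2 * 1)) = S₂ at c3 e0
  generalize sel h.alt p p (-(2 * c₁ * (η * η * n * (2 * 1)))) = Z at c5 e0
  have e4 : P₁ * X₁ * (P₂ * S₂) * (P₁ * X₁)⁻¹ = P₂ * S₂ * Z := by
    calc P₁ * X₁ * (P₂ * S₂) * (P₁ * X₁)⁻¹
        = P₁ * (X₁ * P₂) * S₂ * X₁⁻¹ * P₁⁻¹ := by group
      _ = P₁ * (P₂ * X₁) * S₂ * X₁⁻¹ * P₁⁻¹ := by rw [c2.eq]
      _ = P₁ * P₂ * (X₁ * S₂ * X₁⁻¹) * P₁⁻¹ := by group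
      _ = P₁ * (P₂ * S₂ * Z) * P₁⁻¹ := by rw [e0]; group
      _ = P₂ * S₂ * Z := by
          rw [((c4.mul_right c3).mul_right c5).eq, mul_inv_cancel_right]
  rw [e4, inv_mul_cancel_left]

/-- All transvections. -/
theorem eq_top_of_tv {v : V} (hv : B v (J v) = 0) (hv0 : v ≠ 0) (hT : TV h.alt K (J v)) : K = ⊤ := by
  have hTv : TV h.alt K v := by
    have h1 := (hT.mapJ h hM (by rw [map_map h, hv, mul_zero])).smul h e⁻¹
    rwa [h.sq, smul_smul, inv_mul_cancel₀ (e_ne h), one_smul] at h1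
  -- a whole isotropic line from one vector
  have line_mem : ∀ {v : V}, B v (J v) = 0 → v ≠ 0 → TV h.alt K v → ∀ k l : F, TV h.alt K (k • v + l • J v) := by
    intro v hv hv0 hTv k l
    have hTp := hTv.mapJ h hM hv
    rcases eq_or_ne k 0 with rfl | hk
    · rw [zero_smul, zero_add]; exact hTp.smul h l
    rcases eq_or_ne l 0 with rfl | hl
    · rw [zero_smul, add_zero]; exact hTv.smul h k
    obtain ⟨r, a, hf⟩ := exists_frame h hv hv0
    have hrv : B r v = -1 := by rw [swap h.alt v r, hf.vr]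
    have hrJv : B r (J v) = 0 := by rw [← adj_comm h, hf.vJr]
    have hJvr : B (J v) r = 0 := by rw [h.adj, hf.vJr, neg_zero]
    have hJrv : B (J r) v = 0 := by rw [h.adj, hrJv, neg_zero]
    have hTr : TV h.alt K r := by
      -- the unitary root element of the partner moves `v` inside the plane
      have h1 : TV h.alt K (v + (-e) • r) := fun c => by
        have h2 := SympMax.tr_mem_of_conj h.alt (hM _ (uTr_comm h hf.rr 1)) hTv c
        rw [uTr_apply h hf.rr, hf.vJr, hf.vr] at h2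
        convert h2 using 2
        module
      have h3 := (h1.hop h hTv (by simp [hrv, e_ne h, h.alt v]) (-1)).smul h (-e)⁻¹
      convert h3 using 1
      match_scalars <;> field_simp [e_ne h] <;> ring
    have hTJr := hTr.mapJ h hM hf.rr
    set n := B a (J a) with hn
    have hq : ∀ s : F, (s = 1 ∨ s = -1) → TV h.alt K (r + s • J a - (n / 2) • J v) := by
      intro s hs c
      have hfs : Frame B J v r a := hf
      have b1 : B (s • a) v = 0 := by simp [hf.av]
      have b2 : B (s • a) (J v) = 0 := by simp [hf.aJv]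
      have h2 := SympMax.tr_mem_of_conj h.alt (hM _ (uQ_comm h hv b1 b2)) hTr c
      have e1 : B r a = 0 := by rw [swap h.alt a r, hf.ar, neg_zero]
      have e2 : B r (J a) = 0 := by rw [adj_comm h, hf.aJr]
      rw [uQ_apply h hv b1 b2] at h2
      simp only [LinearMap.map_smul, LinearMap.smul_apply, smul_eq_mul, e1, e2, hrv, hrJv, ← hn, mul_zero] at h2
      convert h2 using 2
      rcases hs with rfl | rfl <;> module
    have hq1 := hq 1 (Or.inl rfl)
    have hq2 := hq (-1) (Or.inr rfl)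
    rw [one_smul] at hq1
    rw [neg_one_smul, ← sub_eq_add_neg] at hq2
    have e3 : B (J r) (J a) = 0 := by rw [map_map h, swap h.alt a r, hf.ar, neg_zero, mul_zero]
    have e4 : B (J r) (J v) = e := by rw [map_map h, hrv]; ring
    have e5 : B (J r) r = 0 := by rw [h.adj, hf.rr, neg_zero]
    have c0 : B (J r) (r + J a - (n / 2) • J v) = -(n / 2 * e) := by simp [e3, e4, e5]
    have c0' : B (J r) (r - J a - (n / 2) • J v) = -(n / 2 * e) := by simp [e3, e4, e5]
    have hne0 : n / 2 * e ≠ 0 := mul_ne_zero (div_ne_zero hf.aa h.two) (e_ne h)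
    obtain ⟨k₀, hk₀, hkne⟩ : ∃ k₀ : F, k₀ ≠ 0 ∧
        B (J r + k₀ • (r + J a - (n / 2) • J v)) (r - J a - (n / 2) • J v) ≠ 0 := by
      by_contra! hc
      have h1 := hc 1 one_ne_zero
      have h2 := hc (-1) (neg_ne_zero.2 one_ne_zero)
      rw [map_add, LinearMap.add_apply, LinearMap.map_smul, LinearMap.smul_apply, c0', smul_eq_mul] at h1 h2
      have : (2 : F) * (n / 2 * e) = 0 := by linear_combination -h1 - h2
      exact mul_ne_zero h.two hne0 this
    have ht0 := hTJr.hop h hq1 (by rw [c0]; exact neg_ne_zero.2 hne0) k₀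
    have ht : TV h.alt K ((2 * k₀) • r + (J r - (k₀ * n) • J v)) := by
      have h1 := ht0.hop h hq2 hkne k₀
      convert h1 using 1
      have h2 := h.two
      match_scalars <;> field_simp <;> ring
    have hx1 : TV h.alt K (k • v + (-(2 * k₀)) • r) := by
      refine TV.hop h (hTv.smul h k) hTr ?_ _
      simp [hf.vr, hk]
    have h2k : 2 * k₀ ≠ 0 := mul_ne_zero h.two hk₀
    have ht' : TV h.alt K (k • v + (J r - (k₀ * n) • J v)) := by
      have h1 := ht.hop h hx1 (by
        simp [hrv, hJrv, hJvr, e5, h.alt r, h.adj v v, hv, hk, h2k]) 1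
      convert h1 using 1
      module
    have hx2 : TV h.alt K ((-1 : F) • J r + (l + k₀ * n) • J v) := by
      refine TV.hop h (hTJr.smul h _) hTp ?_ _
      simp [e4, e_ne h]
    have h1 := ht'.hop h hx2 (by
      simp [hv, hf.vJr, hJrv, e4, map_map h, hf.vr, h.alt (J r), h.alt (J v), h.alt r, h.alt v]
      intro h0
      exact mul_ne_zero hl (e_ne h) (by linear_combination h0)
      ) 1
    convert h1 using 1
    module
  -- every isotropic vector
  have hiso : ∀ w, B w (J w) = 0 → TV h.alt K w := by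
    intro w hw
    obtain ⟨r, a, hf⟩ := exists_frame h hv hv0
    by_cases hperp : B w v = 0 ∧ B w (J v) = 0
    · obtain ⟨c, d, rfl⟩ := hf.eq_of_perp h hw hperp.1 hperp.2
      exact line_mem hv hv0 hTv c d
    have hvw : B v (J w) = B w (J v) := adj_comm h v w
    set s := B v (J w)
    set t := B v w with ht
    have hst : s ≠ 0 ∨ t ≠ 0 := by
      rw [hvw, ht, swap h.alt w v, neg_ne_zero]
      exact (not_and_or.1 hperp).symm
    set w₁ := s • J w - (e * t) • w with hw₁
    have hN := norm_ne h hst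
    have hβ : B v w₁ = s * s - e * (t * t) := by
      simp only [hw₁, map_sub, LinearMap.map_smul, smul_eq_mul]
      show s * s - e * t * t = _
      ring
    have h1 : TV h.alt K (v + w₁) := fun c => by
      have h2 := SympMax.tr_mem_of_conj h.alt (hM _ (uTr_comm h hw 1)) hTv c
      rw [uTr_apply h hw] at h2
      convert h2 using 2
      rw [hw₁]
      module
    have h3 : TV h.alt K w₁ := by
      have h4 := h1.hop h hTv (by
        rw [map_add, LinearMap.add_apply, h.alt v, zero_add, swap h.alt v w₁, hβ]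
        exact neg_ne_zero.2 hN) (-1)
      convert h4 using 1
      module
    have hw₁i : B w₁ (J w₁) = 0 := by
      simp [hw₁, h.sq, hw, h.alt w, h.alt (J w), h.adj w w]
    have hw₁0 : w₁ ≠ 0 := fun e0 => hN (by rw [← hβ, e0, map_zero])
    have h5 := line_mem hw₁i hw₁0 h3 (t / (s * s - e * (t * t))) (s / (e * (s * s - e * (t * t))))
    convert h5 using 1
    rw [hw₁, map_sub, LinearMap.map_smul, LinearMap.map_smul, h.sq]
    have he := e_ne h
    have hN' : s ^ 2 - t ^ 2 * e ≠ 0 := fun e0 => hN (by linear_combination e0)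
    have hN'' : -(t ^ 2 * e) + s ^ 2 ≠ 0 := fun e0 => hN (by linear_combination e0)
    match_scalars <;> field_simp <;> ring
  refine SympMax.eq_top_of_tr h.alt h.nondeg fun y c => ?_
  by_cases hy : B y (J y) = 0
  · exact hiso y hy c
  obtain ⟨r, a, hf⟩ := exists_frame h hv hv0
  obtain ⟨w₀, hw₀, hne⟩ : ∃ w₀, B w₀ (J w₀) = 0 ∧ (B y (J w₀) ≠ 0 ∨ B y w₀ ≠ 0) := by
    by_contra! hc
    have e1 : B r a = 0 := by rw [swap h.alt a r, hf.ar, neg_zero]
    have hvals : ∀ w, B w (J w) = 0 → B y (J w) = 0 ∧ B y w = 0 := hc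
    obtain ⟨p1, p2⟩ := hvals v hv
    obtain ⟨p3, p4⟩ := hvals r hf.rr
    have hq : B ((uQ h.alt J v a : V ≃ₗ[F] V) r) (J ((uQ h.alt J v a : V ≃ₗ[F] V) r)) = 0 := by
      rw [← uQ_comm h hv hf.av hf.aJv]
      exact ((uQ h.alt J v a).2 r (J r)).trans hf.rr
    obtain ⟨p5, p6⟩ := hvals _ hq
    rw [uQ_partner h hf] at p5 p6
    simp [h.sq, p2, p3, e_ne h] at p5
    simp [p1, p4] at p6
    refine hy ?_
    have hy0 : y = 0 := h.nondeg.1 y fun x => by
      obtain ⟨c₁, c₂, c₃, c₄, c₅, c₆, rfl⟩ := hf.span x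
      simp [p1, p2, p3, p4, p5, p6]
    simp [hy0]
  obtain ⟨c', d', hpi, hyJp, hyp⟩ := scaled h hw₀ hne (B y (J y) / 2) 1
  set p := c' • w₀ + d' • J w₀
  have hq : B (y - p) (J (y - p)) = 0 := by
    simp only [map_sub, LinearMap.sub_apply, hpi, adj_comm h p y, hyJp]
    have := h.two
    field_simp
    ring
  have hpy : B p (y - p) = -1 := by rw [map_sub, h.alt p, sub_zero, swap h.alt y p, hyp]
  have hgp : (tr h.alt (y - p) (-1) : V ≃ₗ[F] V) p = y := by rw [tr_apply, hpy]; module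
  rw [← hgp, ← conj_tr]
  exact K.mul_mem (K.mul_mem (hiso _ hq _) (hiso _ hpi c)) (K.inv_mem (hiso _ hq _))

theorem eq_top [Finite F] {g : Sp B} (hgK : g ∈ K)
    (hg : ¬ ∃ a b : F, ∀ x, (g : V ≃ₗ[F] V) (J x) = a • (g : V ≃ₗ[F] V) x + b • J ((g : V ≃ₗ[F] V) x)) :
    K = ⊤ := by
  classical
  have he := e_ne h
  have h2 := h.two
  obtain ⟨v, hv, hv0, hvn⟩ : ∃ v, B v (J v) = 0 ∧ v ≠ 0 ∧
      ∀ a b : F, (g : V ≃ₗ[F] V) (J v) ≠ a • (g : V ≃ₗ[F] V) v + b • J ((g : V ≃ₗ[F] V) v) := by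
    by_contra! hc
    refine hg ?_
    set G := (g : V ≃ₗ[F] V)
    obtain ⟨v₀, hv₀, hv₀0⟩ : ∃ v₀, B v₀ (J v₀) = 0 ∧ v₀ ≠ 0 := by
      let Q : QuadraticForm F V := LinearMap.BilinMap.toQuadraticMap (B.compl₂ J)
      obtain ⟨z, hz0, hz⟩ := CfsgLib.Known.QuadClassify.exists_singular Q (by rw [h.rank]; omega)
      exact ⟨z, hz, hz0⟩
    let J' : V →ₗ[F] V := (G.symm : V →ₗ[F] V) ∘ₗ J ∘ₗ (G : V →ₗ[F] V)
    have hline : ∀ x, B x (J x) = 0 → ∃ a b : F, J' x = a • x + b • J x := by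
      intro x hx
      rcases eq_or_ne x 0 with rfl | hx0
      · exact ⟨0, 0, by simp⟩
      obtain ⟨a, b, hab⟩ := hc x hx hx0
      have hb : b ≠ 0 := by
        rintro rfl
        rw [zero_smul, add_zero] at hab
        have : J x = a • x := G.injective (by rw [LinearEquiv.map_smul, hab])
        exact one_ne_zero (coeff_zero h hx0 (a := -a) (b := 1) (by rw [this]; module)).2
      refine ⟨-(a / b), b⁻¹, G.injective ?_⟩
      rw [show G (J' x) = J (G x) by simp [J'], map_add, LinearEquiv.map_smul, LinearEquiv.map_smul, hab,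
        smul_add, smul_smul, smul_smul, inv_mul_cancel₀ hb, one_smul, div_eq_inv_mul]
      module
    obtain ⟨r, a₀, hf⟩ := exists_frame h hv₀ hv₀0
    have hJiso : ∀ x, B x (J x) = 0 → B (J x) (J (J x)) = 0 := fun x hx => by
      rw [map_map h, hx, mul_zero]
    obtain ⟨a, b, hab⟩ := hline v₀ hv₀
    obtain ⟨a', b', hab'⟩ := hline r hf.rr
    obtain ⟨a₂, b₂, hab₂⟩ := hline (J v₀) (hJiso _ hv₀)
    obtain ⟨a₃, b₃, hab₃⟩ := hline (J r) (hJiso _ hf.rr)
    have hsum : B (v₀ + r) (J (v₀ + r)) = 0 := by simp [hf.vv, hf.rr, hf.vJr, adj_comm h r v₀]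
    obtain ⟨ea, eb⟩ : a' = a ∧ b' = b := by
      obtain ⟨a'', b'', h''⟩ := hline (v₀ + r) hsum
      rw [map_add, map_add, hab, hab'] at h''
      obtain ⟨q1, q2, q3, q4, -, -⟩ := hf.indep h (c₁ := a - a'') (c₂ := b - b'') (c₃ := a' - a'') (c₄ := b' - b'')
        (c₅ := 0) (c₆ := 0) (by linear_combination (norm := module) h'')
      exact ⟨by linear_combination q3 - q1, by linear_combination q4 - q2⟩
    subst a' b'
    rw [h.sq] at hab₂ hab₃
    obtain ⟨ea₃, eb₃⟩ : a₃ = a₂ ∧ b₃ = b₂ := by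
      obtain ⟨a'', b'', h''⟩ := hline (J (v₀ + r)) (hJiso _ hsum)
      rw [map_add, map_add, hab₂, hab₃, map_add, h.sq, h.sq] at h''
      obtain ⟨q1, q2, q3, q4, -, -⟩ := hf.indep h (c₁ := (b₂ - b'') * e) (c₂ := a₂ - a'')
        (c₃ := (b₃ - b'') * e) (c₄ := a₃ - a'') (c₅ := 0) (c₆ := 0)
        (by linear_combination (norm := module) h'')
      exact ⟨by linear_combination q4 - q2,
        sub_eq_zero.1 ((mul_eq_zero.1 (by linear_combination q3 - q1 : (b₃ - b₂) * e = 0)).resolve_right he)⟩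
    subst a₃ b₃
    have key : ∀ a₁ : V, Frame B J v₀ r a₁ →
        a₂ = a ∧ b₂ = b ∧ J' (J a₁) = a • J a₁ + b • J (J a₁) := by
      intro a₁ hf₁
      have n1 : B (-a₁) v₀ = 0 := by simp [hf₁.av]
      have n2 : B (-a₁) (J v₀) = 0 := by simp [hf₁.aJv]
      have hi : ∀ t, B t v₀ = 0 → B t (J v₀) = 0 →
          B ((uQ h.alt J v₀ t : V ≃ₗ[F] V) r) (J ((uQ h.alt J v₀ t : V ≃ₗ[F] V) r)) = 0 := fun t b1 b2 => by
        rw [← uQ_comm h hv₀ b1 b2]
        exact ((uQ h.alt J v₀ t).2 r (J r)).trans hf.rr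
      have e1 : B r a₁ = 0 := by rw [swap h.alt a₁ r, hf₁.ar, neg_zero]
      have e2 : B r (J a₁) = 0 := by rw [adj_comm h, hf₁.aJr]
      have e3 : B r v₀ = -1 := by rw [swap h.alt v₀ r, hf.vr]
      have e4 : B r (J v₀) = 0 := by rw [← adj_comm h, hf.vJr]
      obtain ⟨α, β, hαβ⟩ := hline _ (hi a₁ hf₁.av hf₁.aJv)
      obtain ⟨α', β', hαβ'⟩ := hline _ (hi (-a₁) n1 n2)
      set n := B a₁ (J a₁) with hn
      have u1 : (uQ h.alt J v₀ a₁ : V ≃ₗ[F] V) r = r + J a₁ - (n / 2) • J v₀ := uQ_partner h hf₁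
      have u2 : (uQ h.alt J v₀ (-a₁) : V ≃ₗ[F] V) r = r - J a₁ - (n / 2) • J v₀ := by
        rw [uQ_apply h hv₀ n1 n2]
        simp only [map_neg, LinearMap.neg_apply, e1, e2, e3, e4, neg_neg, ← hn, neg_zero]
        module
      rw [u1, map_sub, map_add, LinearMap.map_smul, hab', hab₂] at hαβ
      rw [u2, map_sub, map_sub, LinearMap.map_smul, hab', hab₂] at hαβ'
      simp only [map_sub, map_add, LinearMap.map_smul, h.sq] at hαβ hαβ'
      obtain ⟨q1, q2, q3, q4, q5, q6⟩ := hf₁.indep h (c₁ := n / 2 * ((β + β') * e - 2 * (b₂ * e)))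
          (c₂ := n / 2 * (α + α' - 2 * a₂)) (c₃ := 2 * a - (α + α'))
          (c₄ := 2 * b - (β + β')) (c₅ := -((β - β') * e)) (c₆ := -(α - α'))
          (by linear_combination (norm := module) hαβ + hαβ')
      have hn0 : n / 2 ≠ 0 := div_ne_zero hf₁.aa h2
      have r1 : α + α' = 2 * a := by linear_combination -q3
      have r2 : β + β' = 2 * b := by linear_combination -q4
      have r3 : α = a ∧ α' = a := by
        constructor <;> refine mul_left_cancel₀ h2 ?_
        · linear_combination r1 - q6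
        · linear_combination r1 + q6
      have r4 : β = b ∧ β' = b := by
        have h5 : β - β' = 0 := (mul_eq_zero.1 (neg_eq_zero.1 q5)).resolve_right he
        constructor <;> refine mul_left_cancel₀ h2 ?_
        · linear_combination r2 + h5
        · linear_combination r2 - h5
      have r5 : a₂ = a := mul_left_cancel₀ h2 (by
        linear_combination r1 - (mul_eq_zero.1 q2).resolve_left hn0)
      have r6 : b₂ = b := mul_left_cancel₀ h2 (mul_right_cancel₀ he (by
        linear_combination e * r2 - (mul_eq_zero.1 q1).resolve_left hn0))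
      obtain ⟨r31, r32⟩ := r3
      obtain ⟨r41, r42⟩ := r4
      subst α α' β β' a₂ b₂
      refine ⟨rfl, rfl, ?_⟩
      rw [h.sq]
      linear_combination (norm := module) hαβ
    obtain ⟨ea₂, eb₂, k1⟩ := key a₀ hf
    obtain ⟨-, -, k2⟩ := key (J a₀) (hf.turn h)
    subst a₂ b₂
    have k3 : J' a₀ = a • a₀ + b • J a₀ := by
      simp only [h.sq, map_smul] at k2
      have := congrArg (fun x => e⁻¹ • x) k2
      simp only [smul_smul, smul_add, inv_mul_cancel₀ he, one_smul] at this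
      rw [this]
      match_scalars <;> field_simp
    have hall : ∀ y, J' y = a • y + b • J y := fun y => by
      have h1 := hf.ext h (f := J') (g := a • LinearMap.id + b • J) (by simpa using hab)
        (by simpa [h.sq] using hab₂) (by simpa using hab') (by simpa [h.sq] using hab₃) (by simpa using k3)
        (by simpa using k1) y
      simpa using h1
    have hGJ : ∀ y, J (G y) = a • G y + b • G (J y) := fun y => by
      rw [← LinearEquiv.map_smul, ← LinearEquiv.map_smul, ← map_add, ← hall]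
      simp [J']
    have hb : b ≠ 0 := by
      rintro rfl
      have hx0 : G v₀ ≠ 0 := fun e0 => hv₀0 (G.map_eq_zero_iff.1 e0)
      have := hGJ v₀
      rw [zero_smul, add_zero] at this
      exact one_ne_zero (coeff_zero h hx0 (a := -a) (b := 1) (by rw [this]; module)).2
    refine ⟨-(a / b), b⁻¹, fun y => ?_⟩
    rw [hGJ, smul_add, smul_smul, smul_smul, inv_mul_cancel₀ hb, one_smul, div_eq_inv_mul]
    module
  set a' := (g : V ≃ₗ[F] V) v with ha'
  set b' := (g : V ≃ₗ[F] V) (J v) with hb'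
  have hK : ∀ c, tr h.alt b' c * tr h.alt a' (-(e * c)) ∈ K := fun c => by
    rw [ha', hb', ← conj_tr, ← conj_tr, show g * tr h.alt (J v) c * g⁻¹ * (g * tr h.alt v (-(e * c)) * g⁻¹) =
      g * uTr h.alt J e v c * g⁻¹ by rw [uTr]; group]
    exact K.mul_mem (K.mul_mem hgK (hM _ (uTr_comm h hv c))) (K.inv_mem hgK)
  have hba : B b' a' = 0 := by
    rw [show B b' a' = B (J v) v from g.2 _ _, h.adj, hv, neg_zero]
  have ha0 : a' ≠ 0 := fun e0 => hv0 ((g : V ≃ₗ[F] V).map_eq_zero_iff.1 e0)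
  let ΦU : V →ₗ[F] (Fin 2 → F) := LinearMap.pi ![B a', B b']
  have hU : ∀ x, x ∈ LinearMap.ker ΦU ↔ B a' x = 0 ∧ B b' x = 0 := fun x => by
    rw [LinearMap.mem_ker, funext_iff]
    simp [ΦU, Fin.forall_fin_succ]
  have hU4 : 4 ≤ Module.finrank F (LinearMap.ker ΦU) := by
    have h1 := LinearMap.finrank_range_add_finrank_ker ΦU
    have h3 := Submodule.finrank_le (LinearMap.range ΦU)
    rw [h.rank] at h1
    rw [Module.finrank_fintype_fun_eq_card, Fintype.card_fin] at h3
    omega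
  let Q : QuadraticForm F V := LinearMap.BilinMap.toQuadraticMap (B.compl₂ J)
  obtain ⟨⟨z, hzU⟩, hz0', hzQ⟩ :=
    CfsgLib.Known.QuadClassify.exists_singular (Q.comp (LinearMap.ker ΦU).subtype) (by omega)
  have hz : B z (J z) = 0 := hzQ
  have hz0 : z ≠ 0 := fun e0 => hz0' (Subtype.ext e0)
  obtain ⟨hza, hzb⟩ := (hU z).1 hzU
  obtain ⟨s, hs, hsa, hsb, hsne⟩ : ∃ s, B s (J s) = 0 ∧ B a' s = 0 ∧ B b' s = 0 ∧
      (B a' (J s) ≠ 0 ∨ B b' (J s) ≠ 0) := by
    by_contra! hc
    obtain ⟨hza', hzb'⟩ := hc z hz hza hzb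
    have hxU : ∀ z', B z' (J z') = 0 → z' ≠ 0 → B a' z' = 0 → B b' z' = 0 → B a' (J z') = 0 → B b' (J z') = 0 →
        ∀ x, B a' x = 0 → B b' x = 0 → B z' (J x) = 0 := by
      intro z' hz' hz'0 za zb za' zb' x xa xb
      by_contra hzx
      set k := -B x (J x) / (2 * B z' (J x)) with hk
      have hs : B (x + k • z') (J (x + k • z')) = 0 := by
        simp [hz', adj_comm h x z', hk]
        field_simp
        ring
      obtain ⟨sa, sb⟩ := hc _ hs (by simp [xa, za]) (by simp [xb, zb])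
      have xa' : B a' (J x) = 0 := by simpa [za'] using sa
      have xb' : B b' (J x) = 0 := by simpa [zb'] using sb
      have hne : B z' (J (x + k • z')) ≠ 0 := by simpa [hz'] using hzx
      have sa0 : B a' (x + k • z') = 0 := by simp [xa, za]
      have sb0 : B b' (x + k • z') = 0 := by simp [xb, zb]
      set w := x + k • z' with hw
      obtain ⟨c, d, hrr, hzJr, hzr⟩ := scaled h hs (Or.inl hne) 0 1
      set r := c • w + d • J w with hr
      obtain ⟨a, hf⟩ := exists_frame_pair h hz' hrr hzr hzJr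
      have perp : ∀ t, B t z' = 0 → B t (J z') = 0 → B t w = 0 → B t (J w) = 0 →
          ∃ s₁ s₂ : F, t = s₁ • a + s₂ • J a := by
        intro t t1 t2 t3 t4
        have t5 : B t r = 0 := by simp [hr, t3, t4]
        have t6 : B t (J r) = 0 := by simp [hr, h.sq, t3, t4]
        obtain ⟨c₁, c₂, c₃, c₄, c₅, c₆, hte⟩ := hf.span t
        have e1 : B r z' = -1 := by rw [swap h.alt z' r, hzr]
        have e2 : B r (J z') = 0 := by rw [← adj_comm h, hzJr]
        rw [hte] at t1 t2 t5 t6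
        simp [h.adj z', h.adj r, h.adj a, hzr, hzJr, hf.ar, hf.aJr, hrr, h.alt r] at t5
        simp [h.adj z', h.adj r, h.adj a, e1, e2, hf.av, hf.aJv, hz', h.alt z'] at t1
        simp [map_map h, hzr, hzJr, hf.ar, hf.aJr, hrr, h.alt r, he] at t6
        simp [map_map h, e1, e2, hf.av, hf.aJv, hz', h.alt z', he] at t2
        subst t1 t2 t5 t6
        exact ⟨c₅, c₆, by simp [hte]⟩
      obtain ⟨p₅, p₆, hp⟩ := perp a' za za' sa0 sa
      obtain ⟨q₅, q₆, hq⟩ := perp b' zb zb' sb0 sb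
      have hp56 : p₅ ≠ 0 ∨ p₆ ≠ 0 := by
        by_contra! h56
        exact ha0 (by simp [hp, h56.1, h56.2])
      have hNp := norm_ne h hp56
      set N := p₅ * p₅ - e * (p₆ * p₆) with hNdef
      refine hvn ((p₅ * q₅ - e * (p₆ * q₆)) / N) ((p₅ * q₆ - p₆ * q₅) / N) ?_
      show b' = _ • a' + _ • J a'
      rw [hp, hq]
      simp only [map_add, LinearMap.map_smul, h.sq]
      match_scalars <;> field_simp <;> rw [hNdef] <;> ring
    have memP : ∀ y, (∀ x, B a' x = 0 → B b' x = 0 → B y x = 0) → y ∈ Submodule.span F {a', b'} := by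
      intro y hy
      have hle : LinearMap.ker ΦU ≤ LinearMap.ker (B y) := fun x hx =>
        LinearMap.mem_ker.2 (hy x ((hU x).1 hx).1 ((hU x).1 hx).2)
      obtain ⟨ψ, hψ⟩ : ∃ ψ : (Fin 2 → F) →ₗ[F] F, B y = ψ.comp ΦU := by
        let ψ₀ : LinearMap.range ΦU →ₗ[F] F :=
          ((LinearMap.ker ΦU).liftQ (B y) hle).comp ΦU.quotKerEquivRange.symm.toLinearMap
        obtain ⟨ψ, hψ⟩ := LinearMap.exists_extend ψ₀
        refine ⟨ψ, LinearMap.ext fun x => ?_⟩
        have h1 := LinearMap.congr_fun hψ ⟨ΦU x, LinearMap.mem_range_self ΦU x⟩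
        rw [LinearMap.comp_apply, Submodule.subtype_apply] at h1
        rw [LinearMap.comp_apply, h1]
        simp [ψ₀]
      rw [Submodule.mem_span_pair]
      refine ⟨ψ (Pi.single 0 1), ψ (Pi.single 1 1), (sub_eq_zero.1 (h.nondeg.1 _ fun x => ?_)).symm⟩
      have h1 := LinearMap.congr_fun hψ x
      rw [LinearMap.comp_apply, show ΦU x = B a' x • Pi.single 0 1 + B b' x • Pi.single 1 1 from by
        ext i; fin_cases i <;> simp [ΦU], map_add, map_smul, map_smul] at h1
      simp only [map_sub, map_add, LinearMap.map_smul, LinearMap.sub_apply, LinearMap.add_apply,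
        LinearMap.smul_apply, h1, smul_eq_mul]
      ring
    have m1 : J z ∈ Submodule.span F {a', b'} := memP _ fun x xa xb => by
      rw [h.adj, hxU z hz hz0 hza hzb hza' hzb' x xa xb, neg_zero]
    have hJz0 : J z ≠ 0 := fun e0 => hz0 (by
      have := congrArg J e0
      rw [h.sq, map_zero, smul_eq_zero] at this
      exact this.resolve_left he)
    have m2 : z ∈ Submodule.span F {a', b'} := memP _ fun x xa xb => by
      have h1 := hxU (J z) (by rw [map_map h, hz, mul_zero]) hJz0 hza' hzb' (by simp [h.sq, hza])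
        (by simp [h.sq, hzb]) x xa xb
      rw [map_map h] at h1
      exact (mul_eq_zero.1 h1).resolve_left (neg_ne_zero.2 he)
    obtain ⟨s₁, s₂, hs12⟩ := Submodule.mem_span_pair.1 m2
    obtain ⟨t₁, t₂, ht12⟩ := Submodule.mem_span_pair.1 m1
    by_cases hs2 : s₂ = 0
    · subst hs2
      rw [zero_smul, add_zero] at hs12
      have hs1 : s₁ ≠ 0 := fun e0 => hz0 (by rw [← hs12, e0, zero_smul])
      rw [← hs12, LinearMap.map_smul] at ht12
      have ht2 : t₂ ≠ 0 := by
        rintro rfl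
        rw [zero_smul, add_zero] at ht12
        exact hs1 (coeff_zero h ha0 (a := -t₁) (b := s₁) (by rw [← ht12]; module)).2
      refine hvn (-t₁ / t₂) (s₁ / t₂) ?_
      show b' = _
      refine smul_right_injective V ht2 ?_
      show t₂ • b' = t₂ • (_ + _)
      rw [smul_add, smul_smul, smul_smul, mul_div_cancel₀ _ ht2, mul_div_cancel₀ _ ht2]
      linear_combination (norm := module) ht12
    · have hz2 : b' = s₂⁻¹ • (z - s₁ • a') := by
        rw [← hs12, add_sub_cancel_left, inv_smul_smul₀ hs2]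
      rw [hz2] at ht12
      by_cases ht : t₁ - t₂ * (s₂⁻¹ * s₁) = 0
      · exact one_ne_zero (coeff_zero h hz0 (a := -(t₂ * s₂⁻¹)) (b := 1) (by
          linear_combination (norm := module) -ht12 + congrArg (fun x : F => x • a') ht)).2
      · set τ := t₁ - t₂ * (s₂⁻¹ * s₁) with hτ
        have haz : a' = τ⁻¹ • (J z - (t₂ * s₂⁻¹) • z) := by
          rw [eq_inv_smul_iff₀ ht, hτ]
          linear_combination (norm := module) ht12
        obtain ⟨c, d, hcd⟩ : ∃ c d : F, z = c • a' + d • J a' := by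
          set μ := t₂ * s₂⁻¹
          have hN2 : μ * μ - e ≠ 0 := by
            simpa using norm_ne h (s := μ) (t := 1) (Or.inr one_ne_zero)
          refine ⟨-(μ * τ) / (μ * μ - e), -τ / (μ * μ - e), ?_⟩
          rw [haz]
          simp only [map_sub, LinearMap.map_smul, h.sq]
          have hN3 : μ ^ 2 - e ≠ 0 := fun e0 => hN2 (by linear_combination e0)
          match_scalars <;> field_simp <;> ring
        refine hvn (s₂⁻¹ * (c - s₁)) (s₂⁻¹ * d) ?_
        show b' = _
        rw [hz2, hcd]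
        module
  have hs0 : s ≠ 0 := fun e0 => by
    rw [e0, map_zero, map_zero, map_zero] at hsne
    exact hsne.elim (fun x => x rfl) (fun x => x rfl)
  have sel_y : ∃ y, B y s = 0 ∧ B y (J s) ≠ 0 ∧ ∀ c, tr h.alt y c * tr h.alt s (-(e * c)) ∈ K := by
    -- conjugate the root element of `s`
    set R := tr h.alt b' 1 * tr h.alt a' (-(e * 1)) with hR
    refine ⟨(R : V ≃ₗ[F] V) (J s), ?_, ?_, fun c => ?_⟩
    · have : B (J s) s = 0 := by rw [h.adj, hs, neg_zero]
      simp [hR, tr_apply, this, hsa, hsb, h.adj, hs]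
    · have hab2 : B a' b' = 0 := by rw [swap h.alt b' a', hba, neg_zero]
      set α := B a' (J s)
      set β := B b' (J s)
      have hN := norm_ne h (s := β) (t := α) hsne.symm
      have e1 : B (J s) a' = -α := swap h.alt a' (J s)
      have e2 : B (J s) b' = -β := swap h.alt b' (J s)
      have hval : B ((R : V ≃ₗ[F] V) (J s)) (J s) = -(β * β - e * (α * α)) := by
        simp [hR, tr_apply, h.alt (J s), e1, e2, hab2, hba]
        ring
      rw [hval]
      exact neg_ne_zero.2 hN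
    · have hRs : (R : V ≃ₗ[F] V) s = s := by
        simp [hR, tr_apply, swap h.alt a' s, swap h.alt b' s, hsa, hsb]
      have hu := K.mul_mem (K.mul_mem (hK 1) (hM _ (uTr_comm h hs c))) (K.inv_mem (hK 1))
      rw [show R * uTr h.alt J e s c * R⁻¹ = (R * tr h.alt (J s) c * R⁻¹) * (R * tr h.alt s (-(e * c)) * R⁻¹) by
        rw [uTr]; group, conj_tr, conj_tr, hRs] at hu
      exact hu
  obtain ⟨y, hy1, hy2, hy3⟩ := sel_y
  exact eq_top_of_tv h hM hs hs0 (exists_tr h hM hs hs0 hy1 hy2 hy3)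

omit hM in
theorem exists_not_normalises [Finite F] : ∃ g : Sp B,
    ¬ ∃ a b : F, ∀ x, (g : V ≃ₗ[F] V) (J x) = a • (g : V ≃ₗ[F] V) x + b • J ((g : V ≃ₗ[F] V) x) := by
  obtain ⟨v, hv0, hv⟩ := CfsgLib.Known.QuadClassify.exists_singular
    (LinearMap.BilinMap.toQuadraticMap (B.compl₂ J) : QuadraticForm F V) (by rw [h.rank]; omega)
  obtain ⟨r, a, hf⟩ := exists_frame h (show B v (J v) = 0 from hv) hv0
  refine ⟨tr h.alt v 1, fun ⟨c, d, hcd⟩ => ?_⟩
  have e1 := hcd a
  rw [tr_fix h.alt 1 hf.av, tr_fix h.alt 1 (by rw [h.adj, hf.aJv, neg_zero])] at e1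
  have ha0 : a ≠ 0 := fun e0 => hf.aa (by simp [e0])
  obtain ⟨hc, hd⟩ := coeff_zero h ha0 (a := c) (b := d - 1) (by linear_combination (norm := module) -e1)
  have e2 := hcd r
  have hrv : B r v = -1 := by rw [swap h.alt v r, hf.vr]
  have hJrv : B (J r) v = 0 := by rw [h.adj, ← adj_comm h, hf.vJr, neg_zero]
  rw [hc, sub_eq_zero.1 hd, tr_apply, tr_apply, hJrv, hrv, map_add, LinearMap.map_smul] at e2
  have hJv : (1 : F) * -1 = 0 ∨ J v = 0 := by
    refine smul_eq_zero.1 ?_
    linear_combination (norm := module) -e2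
  rcases hJv with h1 | h1
  · simp at h1
  · have h3 := congrArg J h1
    rw [h.sq, map_zero, smul_eq_zero] at h3
    exact hv0 (h3.resolve_left (e_ne h))

end CfsgLib.Geo.SympOverfieldThree
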