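/-
Matrix form of the maximality of normalisers of quadratic overfields in `Sp`, `q` odd.
-/
import Cfsg.Agent.Lib.Geo.SympOverfield
import Cfsg.Agent.Lib.Geo.SympOverfieldEight
import Cfsg.Agent.Lib.Geo.SympOverfieldThree
import Cfsg.Agent.Lib.Classical.Quad.NegOne

set_option autoImplicit false

namespace CfsgLib.Geo.SympOverfield

open Matrix
open CfsgLib.Classical CfsgLib.Classical.Symp

variable {F : Type*} [Field F] [Fintype F]

theorem isMaximalIn_sp' {m : ℕ} (hm : m = 3 ∨ 4 ≤ m) (h2 : (2 : F) ≠ 0)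
    (A : Subalgebra F (Matrix (Fin m ⊕ Fin m) (Fin m ⊕ Fin m) F)) (hA : Cfsg.Geo.IsFieldSubalgebra 2 A)
    (hac : Cfsg.Geo.IsAdjointClosedFor (Cfsg.sympForm m F) A)
    (hnsa : ¬ Cfsg.Geo.IsSelfAdjointFor (Cfsg.sympForm m F) A) :
    Cfsg.Geo.IsMaximalIn (Cfsg.spGL m F) (Cfsg.Geo.subalgebraNormalizer A ⊓ Cfsg.spGL m F) := by
  classical
  haveI : Nonempty (Fin m ⊕ Fin m) := ⟨Sum.inl ⟨0, by omega⟩⟩
  obtain ⟨k₀, t, d, hk₀, hkk₀, hirr, hspan₀, hk₀n⟩ := OrthOverfield.exists_gen hA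
  -- a generator of trace zero
  set k := k₀ - (t / 2) • (1 : Matrix (Fin m ⊕ Fin m) (Fin m ⊕ Fin m) F) with hkdef
  set e := t * t / 4 - d with he
  have h4 : (4 : F) ≠ 0 := by
    rw [show (4 : F) = 2 * 2 by norm_num]; exact mul_ne_zero h2 h2
  have hk : k ∈ A := A.sub_mem hk₀ (A.smul_mem A.one_mem _)
  have hkk : k * k = e • 1 := by
    simp only [hkdef, sub_mul, mul_sub, smul_mul_assoc, mul_smul_comm, one_mul, mul_one, hkk₀, smul_sub, smul_smul, he]
    match_scalars <;> field_simp <;> ring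
  have hns : ∀ a : F, a * a ≠ e := fun a ha => hirr (a + t / 2) (by
    rw [he] at ha
    field_simp at ha ⊢
    linear_combination ha)
  have hspan : ∀ x ∈ A, ∃ a b : F, a • (1 : Matrix (Fin m ⊕ Fin m) (Fin m ⊕ Fin m) F) + b • k = x := fun x hx => by
    obtain ⟨a, b, rfl⟩ := hspan₀ x hx
    exact ⟨a + b * (t / 2), b, by rw [hkdef]; module⟩
  have hkn : ∀ a : F, k ≠ a • 1 := fun a ha => hk₀n (a + t / 2) (by
    rw [hkdef, sub_eq_iff_eq_add] at ha
    rw [ha]
    module)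
  set B := sympBil m F
  have hBv : ∀ u v, B u v = Cfsg.sympForm m F u v := fun u v => sympBil_apply ..
  let J : (Fin m ⊕ Fin m → F) →ₗ[F] (Fin m ⊕ Fin m → F) := Matrix.toLin' k
  have hJ : ∀ v, J v = k *ᵥ v := fun v => Matrix.toLin'_apply _ _
  have hJJ : ∀ v, J (J v) = e • v := fun v => by
    rw [hJ, hJ, Matrix.mulVec_mulVec, hkk, Matrix.smul_mulVec, Matrix.one_mulVec]
  have hadj : ∀ x y, B (J x) y = -B x (J y) := by
    obtain ⟨k', hk', hadj'⟩ := hac k hk
    obtain ⟨a, b, rfl⟩ := hspan k' hk'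
    have hadj : ∀ x y, B (J x) y = a * B x y + b * B x (J y) := fun x y => by
      have h1 : (a • (1 : Matrix (Fin m ⊕ Fin m) (Fin m ⊕ Fin m) F) + b • k) *ᵥ y = a • y + b • J y := by
        rw [hJ, Matrix.add_mulVec, Matrix.smul_mulVec, Matrix.smul_mulVec, Matrix.one_mulVec]
      rw [hBv, hJ, hadj', h1, ← hBv, map_add, LinearMap.map_smul, LinearMap.map_smul, smul_eq_mul, smul_eq_mul]
    have key : ∀ x y, (a * a + b * b * e - e) * B x y + (2 * a * b) * B x (J y) = 0 := fun x y => by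
      have h1 := hadj (J x) y
      rw [hJJ, LinearMap.map_smul, LinearMap.smul_apply, smul_eq_mul, hadj x y, hadj x (J y), hJJ,
        LinearMap.map_smul, smul_eq_mul] at h1
      linear_combination -h1
    obtain ⟨x, y, hxy⟩ : ∃ x y, B x y ≠ 0 := by
      by_contra! hc
      have := (sympBil_nondegenerate m F).1 (fun _ => 1) (hc _)
      exact one_ne_zero (congrFun this (Classical.arbitrary _))
    have hab : a * b = 0 := by
      by_contra hab
      have hJy : ∀ v, J v = (-(a * a + b * b * e - e) / (2 * a * b)) • v := fun v => by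
        have hne : 2 * a * b ≠ 0 := by rw [mul_assoc]; exact mul_ne_zero h2 hab
        refine sub_eq_zero.1 ((sympBil_nondegenerate m F).2 _ fun u => ?_)
        have := key u v
        rw [map_sub, LinearMap.map_smul, smul_eq_mul, sub_eq_zero, div_mul_eq_mul_div, eq_div_iff hne]
        linear_combination this
      refine hkn (-(a * a + b * b * e - e) / (2 * a * b)) (Matrix.toLin'.injective (LinearMap.ext fun v => ?_))
      rw [map_smul, Matrix.toLin'_one]
      exact hJy v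
    have hsum : a * a + b * b * e - e = 0 := by
      have := key x y
      rw [mul_assoc 2 a b, hab, mul_zero, zero_mul, add_zero] at this
      exact (mul_eq_zero.1 this).resolve_right hxy
    have ha : a = 0 := (mul_eq_zero.1 hab).resolve_right fun hb => hns a (by
      rw [hb] at hsum; linear_combination hsum)
    subst ha
    have hb : b = 1 ∨ b = -1 := by
      have he0 : e ≠ 0 := fun h0 => hns 0 (by rw [h0, mul_zero])
      have : (b - 1) * (b + 1) * e = 0 := by linear_combination hsum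
      rcases mul_eq_zero.1 ((mul_eq_zero.1 this).resolve_right he0) with h1 | h1
      · exact Or.inl (sub_eq_zero.1 h1)
      · exact Or.inr (eq_neg_of_add_eq_zero_left h1)
    rcases hb with rfl | rfl
    · refine absurd (fun x hx u w => ?_) hnsa
      obtain ⟨p, q, rfl⟩ := hspan x hx
      rw [← hBv, ← hBv, Matrix.add_mulVec, Matrix.add_mulVec, Matrix.smul_mulVec, Matrix.smul_mulVec,
        Matrix.smul_mulVec, Matrix.smul_mulVec, Matrix.one_mulVec, Matrix.one_mulVec, ← hJ, ← hJ]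
      simp [hadj]
    · intro x y
      rw [hadj]
      ring
  have hcore : (∃ g : Sp B, ¬ ∃ a b : F, ∀ x, (g : (Fin m ⊕ Fin m → F) ≃ₗ[F] _) (J x) =
        a • (g : (Fin m ⊕ Fin m → F) ≃ₗ[F] _) x + b • J ((g : (Fin m ⊕ Fin m → F) ≃ₗ[F] _) x)) ∧
      ∀ (K : Subgroup (Sp B)), (∀ g : Sp B, (∀ x, (g : (Fin m ⊕ Fin m → F) ≃ₗ[F] _) (J x) =
          J ((g : (Fin m ⊕ Fin m → F) ≃ₗ[F] _) x)) → g ∈ K) → ∀ g ∈ K,
        (¬ ∃ a b : F, ∀ x, (g : (Fin m ⊕ Fin m → F) ≃ₗ[F] _) (J x) =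
          a • (g : (Fin m ⊕ Fin m → F) ≃ₗ[F] _) x + b • J ((g : (Fin m ⊕ Fin m → F) ≃ₗ[F] _) x)) → K = ⊤ := by
    rcases hm with rfl | hm
    · have h : SympOverfieldThree.Setup B J e :=
        ⟨sympBil_isAlt _ F, sympBil_nondegenerate _ F,
          by rw [Module.finrank_pi, Fintype.card_sum, Fintype.card_fin], h2, hJJ, hns, hadj⟩
      exact ⟨SympOverfieldThree.exists_not_normalises h,
        fun K hK g hg hn => SympOverfieldThree.eq_top h hK hg hn⟩
    · have h : IsUnitaryJ B J e :=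
        ⟨sympBil_isAlt m F, sympBil_nondegenerate m F,
          by rw [Module.finrank_pi, Fintype.card_sum, Fintype.card_fin]; omega, h2, hJJ, hns, hadj⟩
      exact ⟨exists_not_normalises h, fun K hK g hg hn =>
        eq_top h hK (fun a b hab hb hab' => exists_tr_eight h hK hab hb hab') hg hn⟩
  let ψ : Cfsg.spGL m F ≃* Sp B :=
    (preservingEquivIso (Cfsg.sympForm m F)).trans (MulEquiv.subgroupCongr (iso_sympForm_eq m F))
  have hN : ∀ g : Cfsg.spGL m F,
      (g : Matrix.GeneralLinearGroup (Fin m ⊕ Fin m) F) ∈ Cfsg.Geo.subalgebraNormalizer A ↔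
        ∃ a b : F, ∀ x, (ψ g : (Fin m ⊕ Fin m → F) ≃ₗ[F] _) (J x) =
          a • (ψ g : (Fin m ⊕ Fin m → F) ≃ₗ[F] _) x + b • J ((ψ g : (Fin m ⊕ Fin m → F) ≃ₗ[F] _) x) := by
    intro g
    set G : Matrix (Fin m ⊕ Fin m) (Fin m ⊕ Fin m) F :=
      ((g : Matrix.GeneralLinearGroup (Fin m ⊕ Fin m) F) : Matrix (Fin m ⊕ Fin m) (Fin m ⊕ Fin m) F)
    set G' : Matrix (Fin m ⊕ Fin m) (Fin m ⊕ Fin m) F :=
      (((g : Matrix.GeneralLinearGroup (Fin m ⊕ Fin m) F)⁻¹ : Matrix.GeneralLinearGroup (Fin m ⊕ Fin m) F) : Matrix (Fin m ⊕ Fin m) (Fin m ⊕ Fin m) F)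
    have hGG' : G' * G = 1 := Units.inv_mul _
    have happ' : ∀ x, (ψ g : (Fin m ⊕ Fin m → F) ≃ₗ[F] _) x = G *ᵥ x := fun x => rfl
    constructor
    · intro hg
      obtain ⟨a, b, hab⟩ := hspan _ ((hg k).1 hk)
      refine ⟨a, b, fun x => ?_⟩
      rw [happ', happ', hJ, hJ, Matrix.mulVec_mulVec, Matrix.mulVec_mulVec, ← Matrix.smul_mulVec, ← Matrix.smul_mulVec,
        ← Matrix.add_mulVec]
      congr 1
      have h2 : (a • (1 : Matrix (Fin m ⊕ Fin m) (Fin m ⊕ Fin m) F) + b • k) * G = G * k * G' * G := by rw [hab]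
      rw [mul_assoc (G * k), hGG', mul_one, add_mul, smul_mul_assoc, smul_mul_assoc, one_mul] at h2
      rw [h2]
    · rintro ⟨a, b, hab⟩
      have hGk : G * k = a • G + b • (k * G) := Matrix.toLin'.injective (LinearMap.ext fun x => by
        simp only [Matrix.toLin'_apply, Matrix.add_mulVec, Matrix.smul_mulVec, ← Matrix.mulVec_mulVec, ← happ', ← hJ]
        exact hab x)
      have hG1 : G * G' = 1 := mul_eq_one_comm.1 hGG'
      have hconj : ∀ x ∈ A, G * x * G' ∈ A := fun x hx => by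
        obtain ⟨p, q, rfl⟩ := hspan x hx
        rw [mul_add, mul_smul_comm, mul_smul_comm, mul_one, hGk, add_mul, smul_mul_assoc, hG1, smul_mul_assoc,
          add_mul, smul_mul_assoc, smul_mul_assoc, mul_assoc k, hG1, mul_one]
        exact A.add_mem (A.smul_mem A.one_mem _)
          (A.smul_mem (A.add_mem (A.smul_mem A.one_mem _) (A.smul_mem hk _)) _)
      have hcancel : ∀ x, G' * (G * x * G') * G = x := fun x => by
        rw [mul_assoc G', mul_assoc (G * x), hGG', mul_one, ← mul_assoc, hGG', one_mul]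
      have hinj : Function.Injective (fun x : A => (⟨G * x * G', hconj x x.2⟩ : A)) := fun x y hxy => by
        have h1 : G * (x : Matrix (Fin m ⊕ Fin m) (Fin m ⊕ Fin m) F) * G' = G * y * G' := congrArg Subtype.val hxy
        exact Subtype.ext (by rw [← hcancel x, h1, hcancel])
      intro x
      refine ⟨hconj x, fun hx => ?_⟩
      obtain ⟨y, hy⟩ := (Finite.injective_iff_surjective.1 hinj) ⟨_, hx⟩
      have h1 : G * (y : Matrix (Fin m ⊕ Fin m) (Fin m ⊕ Fin m) F) * G' = G * x * G' := congrArg Subtype.val hy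
      rw [← hcancel x, ← h1, hcancel]
      exact y.2
  refine ⟨lt_of_le_of_ne inf_le_right fun heq => ?_, fun M hM hMS => ?_⟩
  · obtain ⟨g, hg⟩ := hcore.1
    obtain ⟨g, rfl⟩ := ψ.surjective g
    exact hg ((hN g).1 (heq.ge g.2).1)
  refine (eq_or_lt_of_le hM).imp Eq.symm fun hlt => le_antisymm hMS ?_
  obtain ⟨g, hgM, hgn⟩ := SetLike.exists_of_lt hlt
  set K := (M.subgroupOf (Cfsg.spGL m F)).map ψ.toMonoidHom
  have hmK : ∀ g : Cfsg.spGL m F, ψ g ∈ K ↔ (g : Matrix.GeneralLinearGroup (Fin m ⊕ Fin m) F) ∈ M :=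
    fun g => by rw [Subgroup.mem_map_equiv, MulEquiv.symm_apply_apply, Subgroup.mem_subgroupOf]
  have htop : K = ⊤ := hcore.2 K (fun x hx => by
      obtain ⟨g', rfl⟩ := ψ.surjective x
      exact (hmK g').2 (hM ⟨(hN g').2 ⟨0, 1, fun y => by rw [hx, zero_smul, one_smul, zero_add]⟩, g'.2⟩))
    (ψ ⟨g, hMS hgM⟩) ((hmK _).2 hgM) fun hn => hgn ⟨(hN ⟨g, hMS hgM⟩).2 hn, hMS hgM⟩
  intro x hx
  exact (hmK ⟨x, hx⟩).1 (htop ▸ Subgroup.mem_top _)

theorem isMaximalIn_sp {m : ℕ} (hm : 5 ≤ m) (h2 : (2 : F) ≠ 0)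
    (A : Subalgebra F (Matrix (Fin m ⊕ Fin m) (Fin m ⊕ Fin m) F)) (hA : Cfsg.Geo.IsFieldSubalgebra 2 A)
    (hac : Cfsg.Geo.IsAdjointClosedFor (Cfsg.sympForm m F) A)
    (hnsa : ¬ Cfsg.Geo.IsSelfAdjointFor (Cfsg.sympForm m F) A) :
    Cfsg.Geo.IsMaximalIn (Cfsg.spGL m F) (Cfsg.Geo.subalgebraNormalizer A ⊓ Cfsg.spGL m F) :=
  isMaximalIn_sp' (Or.inr (by omega)) h2 A hA hac hnsa

end CfsgLib.Geo.SympOverfield
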