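/-
Elements of odd prime order of the symplectic group fixing no pair of complementary Lagrangian subspaces.
-/
import Mathlib
import Cfsg.Prelude.Def_ClassicalGeometry
import Cfsg.Agent.Lib.Classical.Symplectic.Matrix
import Cfsg.Agent.Lib.Geo.PrimeOrderConstruct

namespace CfsgLib.Geo.PairDerange

open Module Matrix CfsgLib.Geo.PrimeAct

variable {F : Type*} [Field F] {d : ℕ}

local notation "V[" d "]" => (Fin d ⊕ Fin d → F)

/-- The form as a bilinear map. -/
noncomputable def bil (d : ℕ) (F : Type*) [Field F] :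
    (Fin d ⊕ Fin d → F) →ₗ[F] (Fin d ⊕ Fin d → F) →ₗ[F] F :=
  Matrix.toLinearMap₂' F (Matrix.J (Fin d) F)

theorem bil_apply (u v : Fin d ⊕ Fin d → F) : bil d F u v = Cfsg.sympForm d F u v := by
  simp [bil, Cfsg.sympForm, Matrix.toLinearMap₂'_apply']

theorem bil_alt : (bil d F).IsAlt := fun u => by
  rw [bil_apply, Cfsg.sympForm, dotProduct, Fintype.sum_sum_type]
  simp [Matrix.mulVec, dotProduct, Matrix.J, Matrix.one_apply, mul_comm]

theorem bil_nondeg {u : Fin d ⊕ Fin d → F} (h : ∀ v, bil d F u v = 0) : u = 0 := by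
  funext i
  have := h (Matrix.J (Fin d) F *ᵥ Pi.single i 1)
  rw [bil_apply, Cfsg.sympForm, Matrix.mulVec_mulVec, Matrix.J_squared, Matrix.neg_mulVec, Matrix.one_mulVec] at this
  simpa using this

theorem bil_single (a b : Fin d ⊕ Fin d) :
    bil d F (Pi.single a 1) (Pi.single b 1) = Matrix.J (Fin d) F a b := by
  rw [bil_apply, Cfsg.sympForm, Matrix.mulVec_single_one, single_dotProduct, one_mul, Matrix.col_apply]

/-- Membership through the form. -/
theorem mem_iff_bil (A : Matrix (Fin d ⊕ Fin d) (Fin d ⊕ Fin d) F) :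
    A ∈ Matrix.symplecticGroup (Fin d) F ↔
      ∀ a b, bil d F (A *ᵥ Pi.single a 1) (A *ᵥ Pi.single b 1) = Matrix.J (Fin d) F a b := by
  rw [SymplecticGroup.mem_iff', ← Matrix.ext_iff]
  refine forall_congr' fun a => forall_congr' fun b => ?_
  rw [bil_apply, Cfsg.sympForm, Matrix.mulVec_mulVec, Matrix.mulVec_single_one, Matrix.mulVec_single_one,
    Matrix.mul_assoc]
  rfl

theorem bil_mulVec {A : Matrix (Fin d ⊕ Fin d) (Fin d ⊕ Fin d) F} (hA : A ∈ Matrix.symplecticGroup (Fin d) F)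
    (u v : Fin d ⊕ Fin d → F) : bil d F (A *ᵥ u) (A *ᵥ v) = bil d F u v := by
  have key : (bil d F).compl₁₂ (Matrix.toLin' A) (Matrix.toLin' A) = bil d F :=
    LinearMap.ext_basis (Pi.basisFun F _) (Pi.basisFun F _) fun a b => by
      simp only [LinearMap.compl₁₂_apply, Pi.basisFun_apply, Matrix.toLin'_apply]
      rw [(mem_iff_bil A).1 hA, bil_single]
  exact LinearMap.congr_fun (LinearMap.congr_fun key u) v

/-! ### The number of pairs -/

/-- Ordered pairs of complementary totally isotropic subspaces. -/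
abbrev Pairs (d : ℕ) (F : Type*) [Field F] :=
  {P : Submodule F (Fin d ⊕ Fin d → F) × Submodule F (Fin d ⊕ Fin d → F) // IsCompl P.1 P.2 ∧
    (∀ u ∈ P.1, ∀ v ∈ P.1, Cfsg.sympForm d F u v = 0) ∧ (∀ u ∈ P.2, ∀ v ∈ P.2, Cfsg.sympForm d F u v = 0)}

theorem exists_sp_of_pair (P : Pairs d F) : ∃ g : Matrix.symplecticGroup (Fin d) F,
    (∀ i, (g : Matrix (Fin d ⊕ Fin d) (Fin d ⊕ Fin d) F) *ᵥ Pi.single (Sum.inl i) 1 ∈ P.1.1) ∧
      ∀ i, (g : Matrix (Fin d ⊕ Fin d) (Fin d ⊕ Fin d) F) *ᵥ Pi.single (Sum.inr i) 1 ∈ P.1.2 := by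
  classical
  obtain ⟨⟨U, W⟩, hc, hU, hW⟩ := P
  have hsplit : ∀ v, ∃ a ∈ U, ∃ b ∈ W, a + b = v := fun v =>
    Submodule.mem_sup.1 (hc.sup_eq_top.ge (Submodule.mem_top : v ∈ ⊤))
  let P1 : W →ₗ[F] Module.Dual F U :=
    { toFun := fun w => ((bil d F).flip (w : _)).domRestrict U
      map_add' := fun a b => by ext x; simp
      map_smul' := fun c a => by ext x; simp }
  let P2 : U →ₗ[F] Module.Dual F W :=
    { toFun := fun w => ((bil d F) (w : _)).domRestrict W
      map_add' := fun a b => by ext x; simp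
      map_smul' := fun c a => by ext x; simp }
  have h1 : Function.Injective P1 := by
    rw [injective_iff_map_eq_zero]
    intro w hw
    refine Subtype.ext (bil_nondeg fun v => ?_)
    obtain ⟨a, ha, b, hb, rfl⟩ := hsplit v
    have h := LinearMap.congr_fun hw ⟨a, ha⟩
    rw [map_add, bil_apply _ b, hW _ w.2 b hb, add_zero, ← bil_alt.neg,
      show bil d F a (w : _) = 0 from h, neg_zero]
  have h2 : Function.Injective P2 := by
    rw [injective_iff_map_eq_zero]
    intro w hw
    refine Subtype.ext (bil_nondeg fun v => ?_)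
    obtain ⟨a, ha, b, hb, rfl⟩ := hsplit v
    have h := LinearMap.congr_fun hw ⟨b, hb⟩
    rw [map_add, bil_apply _ a, hU _ w.2 a ha, zero_add]
    exact h
  have e1 := LinearMap.finrank_le_finrank_of_injective h1
  have e2 := LinearMap.finrank_le_finrank_of_injective h2
  rw [Subspace.dual_finrank_eq] at e1 e2
  have hsum := Submodule.finrank_add_eq_of_isCompl hc
  simp only [finrank_pi, Fintype.card_sum, Fintype.card_fin] at hsum
  have hd : finrank F U = d := by omega
  have hs : Function.Surjective P1 := (LinearMap.injective_iff_surjective_of_finrank_eq_finrank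
    (by rw [Subspace.dual_finrank_eq]; omega)).1 h1
  let e := Module.finBasisOfFinrankEq F U hd
  choose w hw using fun j => hs (-(e.coord j))
  have huw : ∀ i j, bil d F (e i : _) (w j : _) = -(if i = j then 1 else 0) := fun i j => by
    have := LinearMap.congr_fun (hw j) (e i)
    rw [LinearMap.neg_apply, Basis.coord_apply, Basis.repr_self, Finsupp.single_apply] at this
    exact this
  let A : Matrix (Fin d ⊕ Fin d) (Fin d ⊕ Fin d) F :=
    Matrix.of fun a b => Sum.elim (fun i => (e i : Fin d ⊕ Fin d → F)) (fun i => (w i : Fin d ⊕ Fin d → F)) b a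
  have hcol : ∀ b, A *ᵥ Pi.single b 1 =
      Sum.elim (fun i => (e i : Fin d ⊕ Fin d → F)) (fun i => (w i : Fin d ⊕ Fin d → F)) b := fun b => by
    rw [Matrix.mulVec_single_one]; rfl
  have hA : A ∈ Matrix.symplecticGroup (Fin d) F := (mem_iff_bil A).2 fun a b => by
    rw [hcol, hcol]
    rcases a with a | a <;> rcases b with b | b <;> simp only [Sum.elim_inl, Sum.elim_inr]
    · rw [bil_apply, hU _ (e a).2 _ (e b).2]; simp [Matrix.J]
    · rw [huw]; simp [Matrix.J, Matrix.one_apply]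
    · rw [← bil_alt.neg, huw]; simp [Matrix.J, Matrix.one_apply, eq_comm]
    · rw [bil_apply, hW _ (w a).2 _ (w b).2]; simp [Matrix.J]
  exact ⟨⟨A, hA⟩, fun i => by show A *ᵥ _ ∈ _; rw [hcol]; exact (e i).2,
    fun i => by show A *ᵥ _ ∈ _; rw [hcol]; exact (w i).2⟩

theorem card_GL_eq [Fintype F] (d : ℕ) : Nat.card (GL (Fin d) F) =
    (∏ i ∈ Finset.range d, Fintype.card F ^ i) * ∏ i ∈ Finset.range d, (Fintype.card F ^ (i + 1) - 1) := by
  rw [Matrix.card_GL_field, Finset.prod_fin_eq_prod_range,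
    ← Finset.prod_range_reflect (fun i => Fintype.card F ^ (i + 1) - 1), ← Finset.prod_mul_distrib]
  refine Finset.prod_congr rfl fun i hi => ?_
  rw [Finset.mem_range] at hi
  rw [dif_pos hi, Nat.mul_sub_one, ← pow_add, show i + (d - 1 - i + 1) = d by omega]

/-- The number of pairs times the order of GL divides the order of Sp. -/
theorem pairs_mul_dvd [Fintype F] : Nat.card (Pairs d F) * Nat.card (GL (Fin d) F) ∣
    Nat.card (Matrix.symplecticGroup (Fin d) F) := by
  classical
  let E : Submodule F (Fin d ⊕ Fin d → F) :=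
    Submodule.span F (Set.range fun i : Fin d => Pi.single (Sum.inl i) 1)
  let E' : Submodule F (Fin d ⊕ Fin d → F) :=
    Submodule.span F (Set.range fun i : Fin d => Pi.single (Sum.inr i) 1)
  let φ : Matrix.symplecticGroup (Fin d) F → (Fin d ⊕ Fin d → F) →ₗ[F] (Fin d ⊕ Fin d → F) :=
    fun g => Matrix.toLin' (g : Matrix (Fin d ⊕ Fin d) (Fin d ⊕ Fin d) F)
  have hinj : ∀ g, Function.Injective (φ g) := fun g u v h => by
    have := congrArg (((g⁻¹ : Matrix.symplecticGroup (Fin d) F) : Matrix (Fin d ⊕ Fin d) (Fin d ⊕ Fin d) F) *ᵥ ·) h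
    simp only [φ, Matrix.toLin'_apply, Matrix.mulVec_mulVec] at this
    rwa [← Submonoid.coe_mul, inv_mul_cancel, Submonoid.coe_one, Matrix.one_mulVec, Matrix.one_mulVec] at this
  have hiso : ∀ (f : Fin d → Fin d ⊕ Fin d), (∀ i j, Matrix.J (Fin d) F (f i) (f j) = 0) →
      ∀ g : Matrix.symplecticGroup (Fin d) F, ∀ u ∈ (Submodule.span F (Set.range fun i => Pi.single (f i) (1 : F))).map (φ g),
        ∀ v ∈ (Submodule.span F (Set.range fun i => Pi.single (f i) (1 : F))).map (φ g), Cfsg.sympForm d F u v = 0 := by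
    rintro f hf g _ ⟨u, hu, rfl⟩ _ ⟨v, hv, rfl⟩
    rw [← bil_apply, Matrix.toLin'_apply, Matrix.toLin'_apply, bil_mulVec g.2]
    have : ∀ x ∈ Submodule.span F (Set.range fun i => Pi.single (f i) (1 : F)),
        ∀ y ∈ Submodule.span F (Set.range fun i => Pi.single (f i) (1 : F)), bil d F x y = 0 := by
      intro x hx y hy
      induction hx using Submodule.span_induction with
      | mem x hx =>
        obtain ⟨i, rfl⟩ := hx
        induction hy using Submodule.span_induction with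
        | mem y hy =>
          obtain ⟨j, rfl⟩ := hy
          rw [bil_single, hf]
        | zero => simp
        | add a b _ _ ha hb => simp [ha, hb]
        | smul c a _ ha => simp [ha]
      | zero => simp
      | add a b _ _ ha hb => simp [ha, hb]
      | smul c a _ ha => simp [ha]
    exact this u hu v hv
  have hEE : IsCompl E E' := by
    constructor
    · rw [Submodule.disjoint_def]
      intro x hx hx'
      have h1 : E ≤ ⨅ i, LinearMap.ker (LinearMap.proj (Sum.inr i) : (Fin d ⊕ Fin d → F) →ₗ[F] F) :=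
        Submodule.span_le.2 (by rintro _ ⟨j, rfl⟩; simp [Submodule.mem_iInf])
      have h2 : E' ≤ ⨅ i, LinearMap.ker (LinearMap.proj (Sum.inl i) : (Fin d ⊕ Fin d → F) →ₗ[F] F) :=
        Submodule.span_le.2 (by rintro _ ⟨j, rfl⟩; simp [Submodule.mem_iInf])
      funext i
      rcases i with i | i
      · exact (Submodule.mem_iInf _).1 (h2 hx') i
      · exact (Submodule.mem_iInf _).1 (h1 hx) i
    · rw [codisjoint_iff, eq_top_iff, ← (Pi.basisFun F (Fin d ⊕ Fin d)).span_eq, Submodule.span_le]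
      rintro _ ⟨i | i, rfl⟩
      · exact Submodule.mem_sup_left (Submodule.subset_span ⟨i, by simp [Pi.basisFun_apply]⟩)
      · exact Submodule.mem_sup_right (Submodule.subset_span ⟨i, by simp [Pi.basisFun_apply]⟩)
  have hsurjφ : ∀ g, Function.Surjective (φ g) := fun g => LinearMap.injective_iff_surjective.1 (hinj g)
  let pt : Matrix.symplecticGroup (Fin d) F → Pairs d F := fun g =>
    ⟨(E.map (φ g), E'.map (φ g)),
      (Submodule.orderIsoMapComap (LinearEquiv.ofBijective (φ g) ⟨hinj g, hsurjφ g⟩)).isCompl_iff.1 hEE,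
      hiso Sum.inl (fun i j => by simp [Matrix.J]) g, hiso Sum.inr (fun i j => by simp [Matrix.J]) g⟩
  have hφmul : ∀ g h, φ (g * h) = φ g ∘ₗ φ h := fun g h => by
    simp [φ, Matrix.toLin'_mul]
  have hmap : ∀ (g h : Matrix.symplecticGroup (Fin d) F) (S : Submodule F (Fin d ⊕ Fin d → F)),
      S.map (φ (g * h)) = (S.map (φ h)).map (φ g) := fun g h S => by rw [hφmul, Submodule.map_comp]
  have hone : ∀ S : Submodule F (Fin d ⊕ Fin d → F), S.map (φ 1) = S := fun S => by
    simp [φ]
  let K : Subgroup (Matrix.symplecticGroup (Fin d) F) :=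
    { carrier := {g | E.map (φ g) = E ∧ E'.map (φ g) = E'}
      mul_mem' := fun {a b} ha hb => ⟨by rw [hmap, hb.1, ha.1], by rw [hmap, hb.2, ha.2]⟩
      one_mem' := ⟨hone E, hone E'⟩
      inv_mem' := fun {a} ha => ⟨by conv_lhs => rw [← ha.1, ← hmap, inv_mul_cancel, hone],
        by conv_lhs => rw [← ha.2, ← hmap, inv_mul_cancel, hone]⟩ }
  have hmemK : ∀ g, g ∈ K ↔ E.map (φ g) = E ∧ E'.map (φ g) = E' := fun g => Iff.rfl
  have hrel : ∀ g h, pt g = pt h ↔ g⁻¹ * h ∈ K := by
    intro g h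
    rw [Subtype.ext_iff, Prod.ext_iff, hmemK, hmap, hmap]
    constructor
    · rintro ⟨e1, e2⟩
      constructor
      · rw [show E.map (φ h) = E.map (φ g) from e1.symm, ← hmap, inv_mul_cancel, hone]
      · rw [show E'.map (φ h) = E'.map (φ g) from e2.symm, ← hmap, inv_mul_cancel, hone]
    · rintro ⟨e1, e2⟩
      refine ⟨?_, ?_⟩
      · have := congrArg (Submodule.map (φ g)) e1
        rw [← hmap, mul_inv_cancel, hone] at this
        exact this.symm
      · have := congrArg (Submodule.map (φ g)) e2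
        rw [← hmap, mul_inv_cancel, hone] at this
        exact this.symm
  have hsurj : Function.Surjective pt := by
    intro P
    obtain ⟨g, h1, h2⟩ := exists_sp_of_pair P
    have l1 : E.map (φ g) ≤ P.1.1 := by
      rw [Submodule.map_span_le]; rintro _ ⟨i, rfl⟩; exact h1 i
    have l2 : E'.map (φ g) ≤ P.1.2 := by
      rw [Submodule.map_span_le]; rintro _ ⟨i, rfl⟩; exact h2 i
    have hc := (pt g).2.1
    have hP := P.2.1
    refine ⟨g, Subtype.ext (Prod.ext (le_antisymm l1 fun v hv => ?_) (le_antisymm l2 fun v hv => ?_))⟩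
    · obtain ⟨a, ha, b, hb, e⟩ := Submodule.mem_sup.1 (hc.sup_eq_top.ge (Submodule.mem_top : v ∈ ⊤))
      have hb0 : b = 0 := Submodule.disjoint_def.1 hP.disjoint b (by
        rw [show b = v - a by rw [← e]; abel]; exact P.1.1.sub_mem hv (l1 ha)) (l2 hb)
      rw [← e, hb0, add_zero]; exact ha
    · obtain ⟨a, ha, b, hb, e⟩ := Submodule.mem_sup.1 (hc.sup_eq_top.ge (Submodule.mem_top : v ∈ ⊤))
      have ha0 : a = 0 := Submodule.disjoint_def.1 hP.disjoint a (l1 ha) (by
        rw [show a = v - b by rw [← e]; abel]; exact P.1.2.sub_mem hv (l2 hb))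
      rw [← e, ha0, zero_add]; exact hb
  let qf : Matrix.symplecticGroup (Fin d) F ⧸ K → Pairs d F :=
    Quotient.lift pt fun g h hgh => (hrel g h).2 (QuotientGroup.leftRel_apply.1 hgh)
  have hqf : Function.Bijective qf :=
    ⟨fun a b => Quotient.inductionOn₂ a b fun g h e => Quotient.sound (QuotientGroup.leftRel_apply.2 ((hrel g h).1 e)),
      fun P => by obtain ⟨g, hg⟩ := hsurj P; exact ⟨Quotient.mk _ g, hg⟩⟩
  rw [Subgroup.card_eq_card_quotient_mul_card_subgroup K, Nat.card_congr (Equiv.ofBijective qf hqf)]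
  refine mul_dvd_mul_left _ ?_
  let M : GL (Fin d) F → Matrix (Fin d ⊕ Fin d) (Fin d ⊕ Fin d) F := fun A =>
    Matrix.fromBlocks (A : Matrix (Fin d) (Fin d) F) 0 0 ((A⁻¹ : GL (Fin d) F) : Matrix (Fin d) (Fin d) F)ᵀ
  have hM : ∀ A, M A ∈ Matrix.symplecticGroup (Fin d) F := fun A => by
    rw [SymplecticGroup.mem_iff]
    simp only [M, Matrix.J, Matrix.fromBlocks_transpose, Matrix.fromBlocks_multiply, Matrix.transpose_transpose,
      Matrix.transpose_zero, Matrix.mul_zero, Matrix.zero_mul, add_zero, zero_add, Matrix.mul_neg, Matrix.mul_one,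
      Matrix.neg_mul, ← Units.val_mul, ← Matrix.transpose_mul, mul_inv_cancel, inv_mul_cancel, Units.val_one,
      Matrix.transpose_one, neg_zero]
  have hMK : ∀ A, (⟨M A, hM A⟩ : Matrix.symplecticGroup (Fin d) F) ∈ K := fun A => by
    rw [hmemK]
    constructor <;> refine Submodule.eq_of_le_of_finrank_eq ?_
      (LinearEquiv.finrank_eq (Submodule.equivMapOfInjective _ (hinj _) _).symm) <;>
      rw [Submodule.map_span_le] <;> rintro _ ⟨i, rfl⟩ <;>
      show M A *ᵥ _ ∈ _
    · have : M A *ᵥ Pi.single (Sum.inl i) 1 = ∑ j, (A : Matrix (Fin d) (Fin d) F) j i • Pi.single (Sum.inl j) 1 := by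
        funext a
        rcases a with a | a <;> simp [M, Matrix.mulVec_single_one, Finset.sum_apply, Pi.single_apply]
      rw [this]
      exact Submodule.sum_mem _ fun j _ => Submodule.smul_mem _ _ (Submodule.subset_span ⟨j, rfl⟩)
    · have : M A *ᵥ Pi.single (Sum.inr i) 1 =
          ∑ j, ((A⁻¹ : GL (Fin d) F) : Matrix (Fin d) (Fin d) F) i j • Pi.single (Sum.inr j) 1 := by
        funext a
        rcases a with a | a <;> simp [M, Matrix.mulVec_single_one, Finset.sum_apply, Pi.single_apply]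
      rw [this]
      exact Submodule.sum_mem _ fun j _ => Submodule.smul_mem _ _ (Submodule.subset_span ⟨j, rfl⟩)
  let emb : GL (Fin d) F →* K :=
    { toFun := fun A => ⟨⟨M A, hM A⟩, hMK A⟩
      map_one' := by
        refine Subtype.ext (Subtype.ext ?_)
        show M 1 = 1
        simp [M, Matrix.fromBlocks_one]
      map_mul' := fun A B => by
        refine Subtype.ext (Subtype.ext ?_)
        show M (A * B) = M A * M B
        simp [M, Matrix.fromBlocks_multiply, Matrix.transpose_mul, Matrix.mul_inv_rev] }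
  refine Subgroup.card_dvd_of_injective emb fun A B h => Units.ext ?_
  have := congrArg (fun g : K => ((g : Matrix.symplecticGroup (Fin d) F) : Matrix (Fin d ⊕ Fin d) (Fin d ⊕ Fin d) F)) h
  exact (Matrix.fromBlocks_inj.1 this).1

theorem exists_dvd_pow_add_one [Fintype F] {r : ℕ} (hr : r.Prime) (hrq : ¬ r ∣ Fintype.card F)
    (h : r ∣ Nat.card (Pairs d F)) : ∃ j, 0 < j ∧ j ≤ d ∧ r ∣ Fintype.card F ^ j + 1 := by
  set q := Fintype.card F
  have h1 : r * Nat.card (GL (Fin d) F) ∣ Nat.card (Matrix.symplecticGroup (Fin d) F) :=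
    (mul_dvd_mul_right h _).trans pairs_mul_dvd
  have hA : Nat.card (Matrix.symplecticGroup (Fin d) F) =
      q ^ (d ^ 2) * ((∏ i ∈ Finset.range d, (q ^ (i + 1) + 1)) * ∏ i ∈ Finset.range d, (q ^ (i + 1) - 1)) := by
    rw [CfsgLib.Classical.Symp.card_symplecticGroup, ← Finset.prod_mul_distrib]
    congr 1
    refine Finset.prod_congr rfl fun i _ => ?_
    rw [← Nat.sq_sub_sq, one_pow, ← pow_mul, mul_comm (i + 1) 2]
  rw [hA, card_GL_eq, ← mul_assoc (q ^ d ^ 2), ← mul_assoc r] at h1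
  have hP : 0 < ∏ i ∈ Finset.range d, (q ^ (i + 1) - 1) := by
    refine Finset.prod_pos fun i _ => ?_
    have : 1 < q ^ (i + 1) := one_lt_pow₀ Fintype.one_lt_card (by omega)
    omega
  have h2 := Nat.dvd_of_mul_dvd_mul_right hP h1
  rcases hr.dvd_mul.1 (dvd_of_mul_right_dvd h2) with h3 | h3
  · exact absurd (hr.dvd_of_dvd_pow h3) hrq
  · obtain ⟨i, hi, hri⟩ := (Prime.dvd_finsetProd_iff hr.prime _).1 h3
    exact ⟨i + 1, by omega, by rw [Finset.mem_range] at hi; omega, hri⟩

/-! ### The element -/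

theorem exists_derangement [Fintype F] {r : ℕ} [Fact r.Prime] (hr2 : r ≠ 2) (hrF : (r : F) ≠ 0) {j : ℕ}
    (hj0 : 0 < j) (hjd : j ≤ d) (hj : r ∣ Fintype.card F ^ j + 1) :
    ∃ x : Matrix.symplecticGroup (Fin d) F, x ^ r = 1 ∧
      (∀ z : F, (x : Matrix (Fin d ⊕ Fin d) (Fin d ⊕ Fin d) F) ≠ z • 1) ∧
      ¬ ∃ U W : Submodule F (Fin d ⊕ Fin d → F), IsCompl U W ∧ (∀ u ∈ U, ∀ v ∈ U, Cfsg.sympForm d F u v = 0) ∧
        (∀ u ∈ W, ∀ v ∈ W, Cfsg.sympForm d F u v = 0) ∧
        ((U.map (Matrix.toLin' (x : Matrix (Fin d ⊕ Fin d) (Fin d ⊕ Fin d) F)) = U ∧ W.map (Matrix.toLin' (x : Matrix (Fin d ⊕ Fin d) (Fin d ⊕ Fin d) F)) = W) ∨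
         (U.map (Matrix.toLin' (x : Matrix (Fin d ⊕ Fin d) (Fin d ⊕ Fin d) F)) = W ∧ W.map (Matrix.toLin' (x : Matrix (Fin d ⊕ Fin d) (Fin d ⊕ Fin d) F)) = U)) := by
  classical
  have hrp : r.Prime := Fact.out
  set q := Fintype.card F
  set j₀ := Nat.find (⟨j, hj0, hj⟩ : ∃ j, 0 < j ∧ r ∣ q ^ j + 1) with hj₀
  obtain ⟨hk0, hk⟩ := Nat.find_spec (⟨j, hj0, hj⟩ : ∃ j, 0 < j ∧ r ∣ q ^ j + 1)
  rw [← hj₀] at hk hk0
  have hkd : j₀ ≤ d := (Nat.find_min' _ ⟨hj0, hj⟩).trans hjd
  set i := orderOf (Nat.card F : ZMod r) with hi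
  have hqc : (Nat.card F : ZMod r) = (q : ZMod r) := by rw [Nat.card_eq_fintype_card]
  have hneg : (q : ZMod r) ^ j₀ = -1 := eq_neg_of_add_eq_zero_left (by
    have := (ZMod.natCast_eq_zero_iff _ r).2 hk
    push_cast at this
    exact this)
  have h2 : (2 : ZMod r) ≠ 0 := fun h => by
    have := (ZMod.natCast_eq_zero_iff 2 r).1 (by exact_mod_cast h)
    exact hr2 ((Nat.prime_dvd_prime_iff_eq hrp Nat.prime_two).1 this)
  have hne1 : ¬ i ∣ j₀ := fun h => by
    have := orderOf_dvd_iff_pow_eq_one.1 h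
    rw [hqc, hneg] at this
    exact h2 (by linear_combination (-1 : ZMod r) * this)
  have hi2 : i ∣ 2 * j₀ := orderOf_dvd_of_pow_eq_one (by rw [hqc, mul_comm, pow_mul, hneg]; ring)
  have hi0 : 0 < i := Nat.pos_of_dvd_of_pos hi2 (by omega)
  have hij : i = 2 * j₀ := by
    obtain ⟨c, hc⟩ := hi2
    rcases Nat.even_or_odd i with ⟨s, hs⟩ | ho
    · have hs1 : (q : ZMod r) ^ s = -1 := by
        have h1 : ((q : ZMod r) ^ s) * (q : ZMod r) ^ s = 1 := by
          rw [← pow_add, ← hs, ← hqc, hi, pow_orderOf_eq_one]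
        refine (mul_self_eq_one_iff.1 h1).resolve_left fun h => ?_
        have := Nat.le_of_dvd (by omega) (orderOf_dvd_of_pow_eq_one (hqc ▸ h : (Nat.card F : ZMod r) ^ s = 1))
        omega
      have hle : j₀ ≤ s := Nat.find_min' _ ⟨by omega, (ZMod.natCast_eq_zero_iff _ r).1 (by
        push_cast; rw [hs1]; ring)⟩
      have : i ≤ 2 * j₀ := Nat.le_of_dvd (by omega) ⟨c, hc⟩
      omega
    · exact absurd ((Nat.coprime_two_right.2 ho).dvd_of_dvd_mul_left ⟨c, hc⟩) hne1
  have hry : r ∣ Nat.card (Matrix.symplecticGroup (Fin j₀) F) := by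
    rw [CfsgLib.Classical.Symp.card_symplecticGroup]
    refine dvd_mul_of_dvd_right ?_ _
    refine (?_ : r ∣ q ^ (2 * (j₀ - 1 + 1)) - 1).trans
      (Finset.dvd_prod_of_mem _ (Finset.mem_range.2 (by omega : j₀ - 1 < j₀)))
    rw [Nat.sub_add_cancel (by omega : 1 ≤ j₀), mul_comm, pow_mul, ← one_pow 2, Nat.sq_sub_sq]
    exact dvd_mul_of_dvd_left hk _
  obtain ⟨y, hy⟩ := exists_prime_orderOf_dvd_card' r hry
  let ι : Fin j₀ ⊕ Fin j₀ → Fin d ⊕ Fin d := Sum.map (Fin.castLE hkd) (Fin.castLE hkd)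
  have hι : Function.Injective ι := Sum.map_injective.2 ⟨Fin.castLE_injective hkd, Fin.castLE_injective hkd⟩
  let π : (Fin d ⊕ Fin d → F) →ₗ[F] (Fin j₀ ⊕ Fin j₀ → F) := LinearMap.funLeft F F ι
  let ex : (Fin j₀ ⊕ Fin j₀ → F) →ₗ[F] (Fin d ⊕ Fin d → F) := Fintype.linearCombination F fun a => Pi.single (ι a) 1
  have hex : ∀ a, ex (Pi.single a 1) = Pi.single (ι a) 1 := fun a => by
    simp [ex, Fintype.linearCombination_apply, Pi.single_apply]
  have hπex : ∀ w, π (ex w) = w := fun w => by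
    have : π ∘ₗ ex = LinearMap.id := (Pi.basisFun F _).ext fun a => by
      rw [LinearMap.comp_apply, Pi.basisFun_apply, hex]
      funext b
      simp [π, LinearMap.funLeft_apply, Pi.single_apply, hι.eq_iff]
    exact LinearMap.congr_fun this w
  have hform : ∀ w v, bil d F (ex w) v = bil j₀ F w (π v) := fun w v => by
    have : (bil d F) ∘ₗ ex = LinearMap.lcomp F F π ∘ₗ bil j₀ F := (Pi.basisFun F _).ext fun a =>
      (Pi.basisFun F _).ext fun b => by
        simp only [LinearMap.comp_apply, Pi.basisFun_apply, hex, LinearMap.lcomp_apply]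
        rw [bil_single]
        by_cases hb : ∃ c, ι c = b
        · obtain ⟨c, rfl⟩ := hb
          rw [show π (Pi.single (ι c) 1) = Pi.single c 1 by
            funext e; simp [π, LinearMap.funLeft_apply, Pi.single_apply, hι.eq_iff], bil_single]
          rcases a with a | a <;> rcases c with c | c <;>
            simp [ι, Matrix.J, Matrix.one_apply]
        · rw [show π (Pi.single b 1) = 0 by
            funext e; simp [π, LinearMap.funLeft_apply, Pi.single_apply]; exact fun he => hb ⟨e, he⟩]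
          rw [map_zero]
          rcases a with a | a <;> rcases b with b | b <;> simp [ι, Matrix.J, Matrix.one_apply]
          · intro he; exact hb ⟨Sum.inr a, by simp [ι, he]⟩
          · intro he; exact hb ⟨Sum.inl a, by simp [ι, he]⟩
    exact LinearMap.congr_fun (LinearMap.congr_fun this w) v
  set Y := Matrix.toLin' (y : Matrix (Fin j₀ ⊕ Fin j₀) (Fin j₀ ⊕ Fin j₀) F) with hY
  let T : (Fin d ⊕ Fin d → F) →ₗ[F] (Fin d ⊕ Fin d → F) := LinearMap.id + ex ∘ₗ (Y - LinearMap.id) ∘ₗ π
  have hT : ∀ v, T v = v + ex (Y (π v) - π v) := fun v => rfl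
  have hTf : ∀ u v, bil d F (T u) (T v) = bil d F u v := fun u v => by
    have hY' : bil j₀ F (Y (π u)) (Y (π v)) = bil j₀ F (π u) (π v) := bil_mulVec y.2 _ _
    have hsw : ∀ w, bil d F u (ex w) = bil j₀ F (π u) w := fun w => by
      rw [← bil_alt.neg, hform, bil_alt.neg]
    rw [hT, hT, map_add, map_add, LinearMap.add_apply, LinearMap.add_apply, hform, hform, hsw, hπex]
    simp only [map_sub, LinearMap.sub_apply]
    linear_combination hY'
  have hmem : LinearMap.toMatrix' T ∈ Matrix.symplecticGroup (Fin d) F := (mem_iff_bil _).2 fun a b => by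
    rw [← Matrix.toLin'_apply, ← Matrix.toLin'_apply, Matrix.toLin'_toMatrix', hTf, bil_single]
  have hTk : ∀ (k : ℕ) v, (T ^ k) v = v + ex ((Y ^ k) (π v) - π v) := fun k => by
    induction k with
    | zero => intro v; simp
    | succ k ih =>
      intro v
      rw [pow_succ', Module.End.mul_apply, ih, hT, pow_succ', Module.End.mul_apply, map_add π, hπex,
        add_sub_cancel, add_assoc, ← map_add]
      congr 2
      abel
  have hyr : y ^ r = 1 := by rw [← hy, pow_orderOf_eq_one]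
  have hYr : Y ^ r = 1 := by
    show (Matrix.toLinAlgEquiv' (y : Matrix (Fin j₀ ⊕ Fin j₀) (Fin j₀ ⊕ Fin j₀) F)) ^ r = 1
    rw [← map_pow, ← SubmonoidClass.coe_pow, hyr, Submonoid.coe_one, map_one]
  have hTr : T ^ r = 1 := LinearMap.ext fun v => by rw [hTk, hYr]; simp
  have hY1 : Y ≠ 1 := fun h => by
    have h1 : y = 1 := Subtype.ext (Matrix.toLinAlgEquiv'.injective (h.trans (map_one _).symm))
    rw [h1, orderOf_one] at hy
    exact hrp.ne_one hy.symm
  let x : Matrix.symplecticGroup (Fin d) F := ⟨LinearMap.toMatrix' T, hmem⟩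
  have hx : Matrix.toLin' (x : Matrix (Fin d ⊕ Fin d) (Fin d ⊕ Fin d) F) = T := Matrix.toLin'_toMatrix' T
  have hxr : x ^ r = 1 := Subtype.ext (by
    rw [SubmonoidClass.coe_pow, Submonoid.coe_one]
    apply Matrix.toLinAlgEquiv'.injective
    rw [map_pow, map_one]
    show (Matrix.toLin' (x : Matrix (Fin d ⊕ Fin d) (Fin d ⊕ Fin d) F)) ^ r = 1
    rw [hx, hTr])
  have hnd : ∀ S : Submodule F (Fin d ⊕ Fin d → F), (∀ v ∈ S, T v ∈ S) →
      (∀ u ∈ S, ∀ v ∈ S, bil d F u v = 0) → ∀ v ∈ S, T v = v := by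
    intro S hS hiso v hv
    set S1 := S.comap ex with hS1
    have hS1' : ∀ w ∈ S1, Y w ∈ S1 := fun w hw => by
      have := hS _ hw
      rw [hT, hπex, ← map_add, add_sub_cancel] at this
      exact this
    have hnot : S1 = ⊤ → False := fun htop => by
      obtain ⟨w, hw⟩ : ∃ w : Fin j₀ ⊕ Fin j₀ → F, w ≠ 0 := ⟨Pi.single (Sum.inl ⟨0, hk0⟩) 1, by simp⟩
      refine hw (bil_nondeg fun w' => ?_)
      have := hiso _ (show ex w ∈ S from (htop ▸ trivial : w ∈ S1)) _ (show ex w' ∈ S from (htop ▸ trivial : w' ∈ S1))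
      rwa [hform, hπex] at this
    have hdvd := orderOf_dvd_finrank_inf_rest hYr hrF S1 hS1'
    have hsplit := finrank_split hYr hrF S1 hS1'
    have htop := finrank_split hYr hrF ⊤ fun _ _ => Submodule.mem_top
    have hdvd' := orderOf_dvd_finrank_inf_rest hYr hrF ⊤ fun _ _ => Submodule.mem_top
    rw [top_inf_eq] at hdvd' htop
    rw [top_inf_eq, finrank_top, finrank_pi, Fintype.card_sum, Fintype.card_fin] at htop
    have hfix : finrank F (fixSp Y) < j₀ + j₀ := by
      have := Submodule.finrank_lt (s := fixSp Y) fun h => hY1 (LinearMap.ext fun w =>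
        mem_fixSp.1 (h ▸ Submodule.mem_top : w ∈ fixSp Y))
      rwa [finrank_pi, Fintype.card_sum, Fintype.card_fin] at this
    have hfix0 : finrank F (fixSp Y) = 0 := by
      have := Nat.le_of_dvd (by omega) hdvd'
      omega
    have hS10 : S1 = ⊥ := by
      rw [← Submodule.finrank_eq_zero (R := F)]
      have hlt := Submodule.finrank_lt (s := S1) hnot
      rw [finrank_pi, Fintype.card_sum, Fintype.card_fin] at hlt
      have h0 : finrank F ↥(S1 ⊓ fixSp Y) = 0 := Nat.eq_zero_of_le_zero (hfix0 ▸ Submodule.finrank_mono inf_le_right)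
      by_contra hne
      have := Nat.le_of_dvd (by omega) hdvd
      omega
    have hmem' : Y (π v) - π v ∈ S1 := by
      have := S.sub_mem (hS v hv) hv
      rwa [hT, add_sub_cancel_left] at this
    rw [hS10, Submodule.mem_bot] at hmem'
    rw [hT, hmem', map_zero, add_zero]
  refine ⟨x, hxr, fun c hc => ?_, ?_⟩
  · have hTc : ∀ v, T v = c • v := fun v => by
      rw [← hx, Matrix.toLin'_apply, hc, Matrix.smul_mulVec, Matrix.one_mulVec]
    have hYc : ∀ w, Y w = c • w := fun w => by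
      have := congrArg π (hTc (ex w))
      rwa [hT, hπex, ← map_add, add_sub_cancel, hπex, map_smul, hπex] at this
    by_cases hdj : c = 1
    · exact hY1 (LinearMap.ext fun w => by rw [hYc, hdj, one_smul]; rfl)
    · have hdvd' := orderOf_dvd_finrank_inf_rest hYr hrF (F ∙ (Pi.single (Sum.inl ⟨0, hk0⟩) (1 : F))) (fun w hw => by
        rw [hYc]; exact Submodule.smul_mem _ _ hw)
      have hsplit := finrank_split hYr hrF (F ∙ (Pi.single (Sum.inl ⟨0, hk0⟩) (1 : F))) (fun w hw => by
        rw [hYc]; exact Submodule.smul_mem _ _ hw)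
      have h1 : finrank F (F ∙ (Pi.single (Sum.inl ⟨0, hk0⟩) (1 : F) : Fin j₀ ⊕ Fin j₀ → F)) = 1 :=
        finrank_span_singleton (by simp)
      have hfix : (F ∙ (Pi.single (Sum.inl ⟨0, hk0⟩) (1 : F) : Fin j₀ ⊕ Fin j₀ → F)) ⊓ fixSp Y = ⊥ := by
        rw [Submodule.eq_bot_iff]
        intro w hw
        obtain ⟨-, hw2⟩ := Submodule.mem_inf.1 hw
        have := mem_fixSp.1 hw2
        rw [hYc] at this
        have h0 : (c - 1) • w = 0 := by rw [sub_smul, this, one_smul, sub_self]
        exact (smul_eq_zero.1 h0).resolve_left (sub_ne_zero.2 hdj)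
      rw [hfix, finrank_bot, zero_add, h1] at hsplit
      rw [hsplit, Nat.dvd_one, ← hi] at hdvd'
      omega
  · rintro ⟨U, W, hcomp, hU, hW, hcase⟩
    rw [hx] at hcase
    rcases hcase with ⟨h1, h2'⟩ | ⟨h1, h2'⟩
    · refine hY1 (LinearMap.ext fun w => ?_)
      have hfixU := hnd U (fun v hv => h1 ▸ Submodule.mem_map_of_mem hv) fun u hu v hv => (bil_apply u v).trans (hU u hu v hv)
      have hfixW := hnd W (fun v hv => h2' ▸ Submodule.mem_map_of_mem hv) fun u hu v hv => (bil_apply u v).trans (hW u hu v hv)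
      obtain ⟨a, ha, b, hb, e⟩ := Submodule.mem_sup.1 (hcomp.sup_eq_top.ge (Submodule.mem_top : ex w ∈ ⊤))
      have h3 : T (ex w) = ex w := by rw [← e, map_add, hfixU a ha, hfixW b hb]
      have := congrArg π h3
      rw [hT, hπex, ← map_add, add_sub_cancel, hπex] at this
      exact this
    · have hpow : ∀ k, U.map (T ^ (2 * k + 1)) = W := fun k => by
        induction k with
        | zero => simpa using h1
        | succ k ih =>
          rw [show 2 * (k + 1) + 1 = 1 + 1 + (2 * k + 1) by ring, pow_add, Module.End.mul_eq_comp, Submodule.map_comp, ih,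
            pow_add, pow_one, Module.End.mul_eq_comp, Submodule.map_comp, h2', h1]
      obtain ⟨k, hk⟩ := hrp.odd_of_ne_two hr2
      have := hpow k
      rw [← hk, hTr, Module.End.one_eq_id, Submodule.map_id] at this
      subst this
      have htop := hcomp.sup_eq_top
      have hbot := hcomp.inf_eq_bot
      rw [sup_idem] at htop
      rw [inf_idem, htop] at hbot
      have hmem0 : (Pi.single (Sum.inl ⟨0, by omega⟩) 1 : Fin d ⊕ Fin d → F) ∈ (⊤ : Submodule F _) := trivial
      rw [hbot, Submodule.mem_bot] at hmem0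
      simp at hmem0

end CfsgLib.Geo.PairDerange

namespace CfsgLib.Geo.PairDerange

theorem two_dvd_card_pairs {F : Type*} [Field F] [Fintype F] {d : ℕ} (hd : 0 < d) : 2 ∣ Nat.card (Pairs d F) := by
  classical
  haveI : Fact (Nat.Prime 2) := ⟨Nat.prime_two⟩
  haveI : Finite (Submodule F (Fin d ⊕ Fin d → F)) :=
    Finite.of_injective (fun W => (W : Set (Fin d ⊕ Fin d → F))) SetLike.coe_injective
  haveI := Fintype.ofFinite (Pairs d F)
  let σ : Equiv.Perm (Pairs d F) :=
    { toFun := fun P => ⟨(P.1.2, P.1.1), P.2.1.symm, P.2.2.2, P.2.2.1⟩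
      invFun := fun P => ⟨(P.1.2, P.1.1), P.2.1.symm, P.2.2.2, P.2.2.1⟩
      left_inv := fun P => rfl
      right_inv := fun P => rfl }
  have h2 : σ ^ 2 ^ 1 = 1 := by
    rw [pow_one, pow_two]
    exact Equiv.ext fun P => rfl
  have h := Equiv.Perm.card_compl_support_modEq h2
  have h0 : σ.supportᶜ = ∅ := by
    ext P
    simp only [Finset.mem_compl, Equiv.Perm.mem_support, Finset.notMem_empty, iff_false, not_not]
    intro hP
    have e : P.1.2 = P.1.1 := congrArg (fun Q : Pairs d F => Q.1.1) hP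
    have hc := P.2.1
    rw [e] at hc
    have h1 := hc.sup_eq_top
    have h3 := hc.inf_eq_bot
    rw [sup_idem] at h1
    rw [inf_idem, h1] at h3
    have hm : (Pi.single (Sum.inl ⟨0, hd⟩) 1 : Fin d ⊕ Fin d → F) ∈ (⊤ : Submodule F _) := trivial
    rw [h3, Submodule.mem_bot] at hm
    simp at hm
  rw [h0, Finset.card_empty, ← Nat.card_eq_fintype_card] at h
  exact Nat.modEq_zero_iff_dvd.1 h.symm

end CfsgLib.Geo.PairDerange
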