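/-
Stabilisers of pairs of complementary Lagrangian subspaces are maximal in Sp in odd characteristic.
-/
import Cfsg.Agent.Lib.Geo.SympMaximal
import Cfsg.Agent.Lib.Classical.Symplectic.Structure

set_option autoImplicit false

namespace CfsgLib.Geo.SympPair

open LinearMap (BilinForm)
open CfsgLib.Classical CfsgLib.Classical.Symp

variable {F : Type*} [Field F] {V : Type*} [AddCommGroup V] [Module F V] {B : BilinForm F V}

/-- The element preserves or interchanges the two subspaces. -/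
def Pres (L₀ L₁ : Submodule F V) (g : Sp B) : Prop :=
  ((∀ x ∈ L₀, (g : V ≃ₗ[F] V) x ∈ L₀) ∧ ∀ x ∈ L₁, (g : V ≃ₗ[F] V) x ∈ L₁) ∨
    ((∀ x ∈ L₀, (g : V ≃ₗ[F] V) x ∈ L₁) ∧ ∀ x ∈ L₁, (g : V ≃ₗ[F] V) x ∈ L₀)

/-- The hypotheses on the pair. -/
structure IsPair (B : BilinForm F V) (m : ℕ) (L₀ L₁ : Submodule F V) : Prop where
  compl : IsCompl L₀ L₁
  rank₀ : Module.finrank F L₀ = m
  rank₁ : Module.finrank F L₁ = m
  iso₀ : ∀ x ∈ L₀, ∀ y ∈ L₀, B x y = 0
  iso₁ : ∀ x ∈ L₁, ∀ y ∈ L₁, B x y = 0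

theorem IsPair.symm {m : ℕ} {L₀ L₁ : Submodule F V} (h : IsPair B m L₀ L₁) : IsPair B m L₁ L₀ :=
  ⟨h.compl.symm, h.rank₁, h.rank₀, h.iso₁, h.iso₀⟩

theorem exists_avoid {U A A' : Submodule F V} (hA : ¬ U ≤ A) (hA' : ¬ U ≤ A') : ∃ x ∈ U, x ∉ A ∧ x ∉ A' := by
  obtain ⟨p, hp, hpA⟩ := SetLike.not_le_iff_exists.1 hA
  obtain ⟨q, hq, hqA⟩ := SetLike.not_le_iff_exists.1 hA'
  by_cases h1 : p ∈ A'
  · by_cases h2 : q ∈ A
    · refine ⟨p + q, U.add_mem hp hq, fun h => hpA ?_, fun h => hqA ?_⟩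
      · simpa using A.sub_mem h h2
      · simpa using A'.sub_mem h h1
    · exact ⟨q, hq, h2, hqA⟩
  · exact ⟨p, hp, hpA, h1⟩

variable [FiniteDimensional F V] {m : ℕ} {L₀ L₁ : Submodule F V}

theorem eq_zero_of_perp (hB : B.Nondegenerate) (h : IsPair B m L₀ L₁) {x : V} (hx : x ∈ L₀)
    (hperp : ∀ w ∈ L₁, B x w = 0) : x = 0 := by
  refine hB.1 x fun y => ?_
  obtain ⟨a, ha, b, hb, rfl⟩ := Submodule.mem_sup.1 (h.compl.sup_eq_top.ge (Submodule.mem_top : y ∈ ⊤))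
  rw [map_add, h.iso₀ x hx a ha, hperp b hb, add_zero]

/-- The element extending a linear automorphism of the first subspace. -/
theorem exists_extend (hA : B.IsAlt) (hB : B.Nondegenerate) (h : IsPair B m L₀ L₁) :
    (∀ φ : L₀ ≃ₗ[F] L₀, ∃ g : Sp B, Pres L₀ L₁ g ∧ ∀ x : L₀, (g : V ≃ₗ[F] V) x = φ x) ∧
      ∃ g : Sp B, Pres L₀ L₁ g ∧ ∀ x ∈ L₀, (g : V ≃ₗ[F] V) x ∈ L₁ := by
  classical
  let P : L₁ →ₗ[F] Module.Dual F L₀ :=
    { toFun := fun w => (B.flip (w : V)).domRestrict L₀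
      map_add' := fun a b => by ext x; simp
      map_smul' := fun c a => by ext x; simp }
  have hPi : Function.Injective P := by
    rw [injective_iff_map_eq_zero]
    intro w hw
    refine Subtype.ext (eq_zero_of_perp hB h.symm w.2 fun x hx => ?_)
    have := LinearMap.congr_fun hw ⟨x, hx⟩
    rw [swap hA x (w : V), show B x (w : V) = 0 from this, neg_zero]
  have hPs : Function.Surjective P := by
    refine (LinearMap.injective_iff_surjective_of_finrank_eq_finrank ?_).1 hPi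
    rw [Subspace.dual_finrank_eq, h.rank₀, h.rank₁]
  have hfin : Module.finrank F V = 2 * m := by
    have := Submodule.finrank_add_eq_of_isCompl h.compl
    rw [h.rank₀, h.rank₁] at this
    omega
  have key : ∀ e : Module.Basis (Fin m) F L₀, ∃ f : Fin m → L₁,
      IsSympSys B (Sum.elim (fun i => (e i : V)) fun i => (f i : V)) := by
    intro e
    have hf : ∀ j, ∃ w : L₁, P w = e.coord j := fun j => hPs _
    choose f hf using hf
    refine ⟨f, fun i j => ?_, fun i j => h.iso₀ _ (e i).2 _ (e j).2, fun i j => h.iso₁ _ (f i).2 _ (f j).2⟩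
    have := LinearMap.congr_fun (hf j) (e i)
    rw [Module.Basis.coord_apply, Module.Basis.repr_self, Finsupp.single_apply] at this
    exact this
  have hequiv : ∀ v v' : Fin m ⊕ Fin m → V, IsSympSys B v → IsSympSys B v' →
      ∃ g : Sp B, ∀ k, (g : V ≃ₗ[F] V) (v k) = v' k := by
    intro v v' hv hv'
    let b := basisOfLinearIndependentOfCardEqFinrank' _ (hv.linearIndependent hA) (by simp [hfin]; ring)
    let c := basisOfLinearIndependentOfCardEqFinrank' _ (hv'.linearIndependent hA) (by simp [hfin]; ring)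
    obtain ⟨h1, h2, h3⟩ := hv
    obtain ⟨h1', h2', h3'⟩ := hv'
    refine ⟨⟨b.equiv c (Equiv.refl _), Quad.equiv_of_gram b c B B fun i j => ?_⟩, fun k => ?_⟩
    · rcases i with i | i <;> rcases j with j | j
      · simp [b, c, h2, h2']
      · simp [b, c, h1, h1']
      · simp [b, c, swap hA (v (.inl j)) (v (.inr i)), swap hA (v' (.inl j)) (v' (.inr i)), h1, h1']
      · simp [b, c, h3, h3']
    · have hbk : b k = v k := congrFun (coe_basisOfLinearIndependentOfCardEqFinrank' _ _ _) k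
      have hck : c k = v' k := congrFun (coe_basisOfLinearIndependentOfCardEqFinrank' _ _ _) k
      show (b.equiv c (Equiv.refl _)) (v k) = v' k
      rw [← hbk, Module.Basis.equiv_apply, Equiv.refl_apply, hck]
  let e := Module.finBasisOfFinrankEq F L₀ h.rank₀
  obtain ⟨f, hf⟩ := key e
  -- the spans of the two halves
  have hspan₁ : ∀ y ∈ L₁, y = ∑ i, B (e i : V) y • (f i : V) := by
    intro y hy
    refine sub_eq_zero.1 (eq_zero_of_perp hB h.symm (L₁.sub_mem hy (Submodule.sum_mem _ fun i _ =>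
      L₁.smul_mem _ (f i).2)) fun x hx => ?_)
    have h0 : (B.flip (y - ∑ i, B (e i : V) y • (f i : V))).domRestrict L₀ = 0 := by
      refine e.ext fun k => ?_
      show B (e k : V) (y - ∑ i, B (e i : V) y • (f i : V)) = 0
      rw [map_sub, map_sum, Finset.sum_eq_single k]
      · have := hf.1 k k
        simp only [Sum.elim_inl, Sum.elim_inr, if_pos rfl, if_true] at this
        rw [map_smul, this, smul_eq_mul, mul_one, sub_self]
      · intro i _ hi
        have := hf.1 k i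
        simp only [Sum.elim_inl, Sum.elim_inr, if_neg (Ne.symm hi)] at this
        rw [map_smul, this, smul_zero]
      · exact fun hh => absurd (Finset.mem_univ k) hh
    rw [swap hA x _, show B x (y - ∑ i, B (e i : V) y • (f i : V)) = 0 from LinearMap.congr_fun h0 ⟨x, hx⟩,
      neg_zero]
  have hspan₀ : ∀ x : L₀, (x : V) = ∑ i, e.repr x i • (e i : V) := fun x => by
    have := congrArg L₀.subtype (e.sum_repr x)
    rw [map_sum] at this
    exact this.symm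
  have hmaps : ∀ (g : Sp B) (A A' : Submodule F V), (∀ i, (g : V ≃ₗ[F] V) (e i : V) ∈ A) →
      (∀ i, (g : V ≃ₗ[F] V) (f i : V) ∈ A') →
      (∀ x ∈ L₀, (g : V ≃ₗ[F] V) x ∈ A) ∧ ∀ x ∈ L₁, (g : V ≃ₗ[F] V) x ∈ A' := by
    intro g A A' hgA hgA'
    refine ⟨fun x hx => ?_, fun x hx => ?_⟩
    · rw [show x = ((⟨x, hx⟩ : L₀) : V) from rfl, hspan₀, map_sum]
      exact Submodule.sum_mem _ fun i _ => by rw [map_smul]; exact A.smul_mem _ (hgA i)
    · rw [hspan₁ x hx, map_sum]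
      exact Submodule.sum_mem _ fun i _ => by rw [map_smul]; exact A'.smul_mem _ (hgA' i)
  refine ⟨fun φ => ?_, ?_⟩
  · obtain ⟨f', hf'⟩ := key (e.map φ)
    obtain ⟨g, hg⟩ := hequiv _ _ hf hf'
    have hge : ∀ i, (g : V ≃ₗ[F] V) (e i : V) = φ (e i) := fun i => by simpa using hg (.inl i)
    refine ⟨g, Or.inl (hmaps g L₀ L₁ (fun i => by rw [hge]; exact (φ _).2)
      fun i => by rw [show (g : V ≃ₗ[F] V) (f i : V) = f' i from hg (.inr i)]; exact (f' i).2), fun x => ?_⟩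
    have : (g : V ≃ₗ[F] V).toLinearMap ∘ₗ L₀.subtype = L₀.subtype ∘ₗ φ.toLinearMap := e.ext hge
    exact LinearMap.congr_fun this x
  · have hf' : IsSympSys B (Sum.elim (fun i => (f i : V)) fun i => -(e i : V)) := by
      refine ⟨fun i j => ?_, fun i j => h.iso₁ _ (f i).2 _ (f j).2, fun i j => ?_⟩
      · simp only [Sum.elim_inl, Sum.elim_inr, map_neg]
        rw [← swap hA]
        have := hf.1 j i
        simp only [Sum.elim_inl, Sum.elim_inr] at this
        rw [this]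
        simp [eq_comm]
      · simp only [Sum.elim_inr, map_neg, LinearMap.neg_apply, neg_neg]
        exact h.iso₀ _ (e i).2 _ (e j).2
    obtain ⟨g, hg⟩ := hequiv _ _ hf hf'
    have hm := hmaps g L₁ L₀ (fun i => by rw [show (g : V ≃ₗ[F] V) (e i : V) = f i from hg (.inl i)]; exact (f i).2)
      fun i => by rw [show (g : V ≃ₗ[F] V) (f i : V) = -(e i : V) from hg (.inr i)]; exact L₀.neg_mem (e i).2
    exact ⟨g, Or.inr hm, hm.1⟩

variable (hA : B.IsAlt)
include hA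

theorem mtr_pres (h : IsPair B m L₀ L₁) {u w : V} (hu : u ∈ L₀) (hw : w ∈ L₁) (huw : B u w = 0) (c : F) :
    Pres L₀ L₁ (mtr hA u w c) := by
  refine Or.inl ⟨fun x hx => ?_, fun x hx => ?_⟩
  · rw [mtr_apply hA huw, h.iso₀ x hx u hu, mul_zero, zero_smul, add_zero]
    exact L₀.add_mem hx (L₀.smul_mem _ hu)
  · rw [mtr_apply hA huw, h.iso₁ x hx w hw, mul_zero, zero_smul, add_zero]
    exact L₁.add_mem hx (L₁.smul_mem _ hw)

/-- A transvection centred in `L₀` from a conjugate Siegel element both of whose vectors leave `L₁`. -/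
theorem exists_tr (hB : B.Nondegenerate) (h2 : (2 : F) ≠ 0) (h : IsPair B m L₀ L₁)
    {K : Subgroup (Sp B)} (hK : ∀ p, Pres L₀ L₁ p → p ∈ K) {a₀ a₁ b₀ b₁ : V} (ha₀ : a₀ ∈ L₀) (ha₁ : a₁ ∈ L₁)
    (hb₀ : b₀ ∈ L₀) (hb₁ : b₁ ∈ L₁) (ha0 : a₀ ≠ 0) (hb0 : b₀ ≠ 0) (hab : B (a₀ + a₁) (b₀ + b₁) = 0)
    (hmem : ∀ d, mtr hA (a₀ + a₁) (b₀ + b₁) d ∈ K) {u' : L₀} (hBua : B (u' : V) (a₀ + a₁) = 0)
    (hBub : B (u' : V) (b₀ + b₁) = 0) (hua : (u' : V) ∉ Submodule.span F {a₀})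
    (hub : (u' : V) ∉ Submodule.span F {b₀}) :
    ∃ u ∈ L₀, u ≠ 0 ∧ ∀ s, tr hA u s ∈ K := by
  have hu0 : (u' : V) ≠ 0 := fun e => hua (e ▸ Submodule.zero_mem _ : (u' : V) ∈ _)
  set W := L₁ ⊓ LinearMap.ker (B (u' : V)) with hW
  have hsep : ∀ x ∈ L₀, (u' : V) ∉ Submodule.span F {x} → x ≠ 0 → ¬ W ≤ LinearMap.ker (B x) := by
    intro x hx hux hx0 hle
    obtain ⟨w₀, hw₀, hw₀'⟩ : ∃ w ∈ L₁, B (u' : V) w ≠ 0 := by
      by_contra! hc
      exact hu0 (eq_zero_of_perp hB h u'.2 hc)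
    set k := B x w₀ / B (u' : V) w₀
    have hxk : x - k • (u' : V) = 0 := eq_zero_of_perp hB h (L₀.sub_mem hx (L₀.smul_mem _ u'.2)) fun w hw => by
      have hm := hle (show w - (B (u' : V) w / B (u' : V) w₀) • w₀ ∈ W from
        ⟨L₁.sub_mem hw (L₁.smul_mem _ hw₀), by
          show B (u' : V) _ = 0
          rw [map_sub, map_smul, smul_eq_mul, div_mul_cancel₀ _ hw₀', sub_self]⟩)
      rw [LinearMap.mem_ker, map_sub, map_smul, smul_eq_mul] at hm
      rw [map_sub, LinearMap.sub_apply, map_smul, LinearMap.smul_apply, smul_eq_mul]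
      simp only [k]
      linear_combination hm
    rcases eq_or_ne k 0 with hk | hk
    · rw [hk, zero_smul, sub_zero] at hxk
      exact hx0 hxk
    · exact hux (Submodule.mem_span_singleton.2 ⟨k⁻¹, by rw [sub_eq_zero.1 hxk, inv_smul_smul₀ hk]⟩)
  obtain ⟨w, hw, hwa, hwb⟩ := exists_avoid (hsep a₀ ha₀ hua ha0) (hsep b₀ hb₀ hub hb0)
  have hwu : B (u' : V) w = 0 := hw.2
  have hwA : B w (a₀ + a₁) ≠ 0 := by
    rw [map_add, h.iso₁ w hw.1 a₁ ha₁, add_zero, swap hA a₀ w]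
    exact neg_ne_zero.2 hwa
  have hwB : B w (b₀ + b₁) ≠ 0 := by
    rw [map_add, h.iso₁ w hw.1 b₁ hb₁, add_zero, swap hA b₀ w]
    exact neg_ne_zero.2 hwb
  refine ⟨u', u'.2, hu0, fun s => ?_⟩
  set a := a₀ + a₁ with haa
  set b := b₀ + b₁ with hbb
  set u : V := (u' : V) with huu
  have hX : ∀ c, mtr hA u w c ∈ K := fun c => hK _ (mtr_pres hA h u'.2 hw.1 hwu c)
  set d := s / (4 * (B w a * B w b)) with hd
  set Y := mtr hA a b d
  have hR : ∀ c, mtr hA u w c * (Y * mtr hA u w (-c) * Y⁻¹) ∈ K := fun c =>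
    K.mul_mem (hX c) (K.mul_mem (K.mul_mem (hmem d) (hX _)) (K.inv_mem (hmem d)))
  have hmem' := K.mul_mem (hR 1) (hR (-1))
  convert hmem' using 1
  rw [neg_neg, conj_mtr, conj_mtr]
  have hYu : (Y : V ≃ₗ[F] V) u = u := by
    rw [mtr_apply hA hab, hBua, hBub, mul_zero, zero_smul, zero_smul, add_zero, add_zero]
  set z := (d * B w a) • b + (d * B w b) • a with hz
  have hYw : (Y : V ≃ₗ[F] V) w = w + z := by rw [mtr_apply hA hab, hz, add_assoc]
  have huz : B u z = 0 := by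
    rw [hz, map_add, map_smul, map_smul, hBua, hBub, smul_zero, smul_zero, add_zero]
  have hwz : B w z = 2 * d * (B w a * B w b) := by
    rw [hz, map_add, map_smul, map_smul, smul_eq_mul, smul_eq_mul]; ring
  have huwz : B u (w + z) = 0 := by rw [map_add, hwu, huz, add_zero]
  rw [hYu, hYw]
  ext x
  have hwu' : B w u = 0 := by rw [swap hA u w, hwu, neg_zero]
  have hzu : B z u = 0 := by rw [swap hA u z, huz, neg_zero]
  have hzw : B z w = -(2 * d * (B w a * B w b)) := by rw [swap hA w z, hwz]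
  have hs : s = 4 * d * (B w a * B w b) := by
    rw [hd]
    have h4 : (4 : F) ≠ 0 := by
      rw [show (4 : F) = 2 * 2 by norm_num]
      exact mul_ne_zero h2 h2
    field_simp
  simp only [Subgroup.coe_mul, LinearEquiv.mul_apply, mtr_apply hA hwu, mtr_apply hA huwz, tr_apply, map_add,
    LinearMap.map_smul, LinearMap.add_apply, LinearMap.smul_apply, smul_eq_mul, hA u, hA w, hA z, hwu, hwu',
    huz, hzu, hwz, hzw]
  rw [hs]
  match_scalars <;> ring

omit [FiniteDimensional F V] in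
theorem mtr_swap {u w : V} (huw : B u w = 0) (c : F) : mtr hA u w c = mtr hA w u c := by
  ext x
  rw [mtr_apply hA huw, mtr_apply hA (by rw [swap hA u w, huw, neg_zero])]
  abel

/-- A transvection from a half orthogonal to both vectors, the other half not a multiple of it. -/
theorem tr_of_half (hB : B.Nondegenerate) (h2 : (2 : F) ≠ 0) (h : IsPair B m L₀ L₁) {K : Subgroup (Sp B)}
    (hK : ∀ p, Pres L₀ L₁ p → p ∈ K) {a₀ a₁ b₀ b₁ : V} (ha₀ : a₀ ∈ L₀) (ha₁ : a₁ ∈ L₁) (hb₀ : b₀ ∈ L₀)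
    (hb₁ : b₁ ∈ L₁) (hab : B (a₀ + a₁) (b₀ + b₁) = 0) (hmem : ∀ d, mtr hA (a₀ + a₁) (b₀ + b₁) d ∈ K)
    (haa : B a₀ a₁ = 0) (hab₁ : B a₀ b₁ = 0) (hdep : b₀ ∉ Submodule.span F {a₀}) :
    ∀ s, tr hA a₀ s ∈ K := by
  intro s
  obtain ⟨w, hw, hwa, hwb⟩ : ∃ w ∈ L₁, B a₀ w = 0 ∧ B b₀ w ≠ 0 := by
    by_contra! hc
    rcases eq_or_ne a₀ 0 with rfl | ha0
    · refine hdep ?_
      rw [eq_zero_of_perp hB h hb₀ fun w hw => hc w hw (by simp)]
      exact zero_mem _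
    obtain ⟨w₀, hw₀, hw₀'⟩ : ∃ w ∈ L₁, B a₀ w ≠ 0 := by
      by_contra! hc'
      exact ha0 (eq_zero_of_perp hB h ha₀ hc')
    refine hdep (Submodule.mem_span_singleton.2 ⟨B b₀ w₀ / B a₀ w₀, (sub_eq_zero.1 (eq_zero_of_perp hB h
      (L₀.sub_mem hb₀ (L₀.smul_mem _ ha₀)) fun w hw => ?_)).symm⟩)
    have h1 := hc (w - (B a₀ w / B a₀ w₀) • w₀) (L₁.sub_mem hw (L₁.smul_mem _ hw₀))
      (by rw [map_sub, map_smul, smul_eq_mul, div_mul_cancel₀ _ hw₀', sub_self])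
    rw [map_sub, map_smul, smul_eq_mul] at h1
    rw [map_sub, LinearMap.sub_apply, map_smul, LinearMap.smul_apply, smul_eq_mul]
    linear_combination h1
  set a := a₀ + a₁ with haa'
  set b := b₀ + b₁ with hbb'
  have hwA : B w a = 0 := by rw [haa', map_add, h.iso₁ w hw a₁ ha₁, add_zero, swap hA a₀ w, hwa, neg_zero]
  have hwB : B w b ≠ 0 := by
    rw [hbb', map_add, h.iso₁ w hw b₁ hb₁, add_zero, swap hA b₀ w]
    exact neg_ne_zero.2 hwb
  have hua : B a₀ a = 0 := by rw [haa', map_add, h.iso₀ a₀ ha₀ a₀ ha₀, haa, add_zero]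
  have hub : B a₀ b = 0 := by rw [hbb', map_add, h.iso₀ a₀ ha₀ b₀ hb₀, hab₁, add_zero]
  set d := -s / (2 * B w b) with hd
  have hX : ∀ c, mtr hA a₀ w c ∈ K := fun c => hK _ (mtr_pres hA h ha₀ hw hwa c)
  have hP : mtr hA a₀ a₁ (d * B w b) ∈ K := hK _ (mtr_pres hA h ha₀ ha₁ haa _)
  set Y := mtr hA a b d
  have hYu : (Y : V ≃ₗ[F] V) a₀ = a₀ := by
    rw [mtr_apply hA hab, hua, hub, mul_zero, zero_smul, zero_smul, add_zero, add_zero]
  have hYw : (Y : V ≃ₗ[F] V) w = w + (d * B w b) • a := by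
    rw [mtr_apply hA hab, hwA, mul_zero, zero_smul, add_zero]
  have hmem' := K.mul_mem (K.mul_mem (hX 1) (K.mul_mem (K.mul_mem (hmem d) (hX (-1))) (K.inv_mem (hmem d)))) hP
  convert hmem' using 1
  rw [conj_mtr, hYu, hYw]
  have huwz : B a₀ (w + (d * B w b) • a) = 0 := by rw [map_add, map_smul, hwa, hua, smul_zero, add_zero]
  ext x
  have hwu' : B w a₀ = 0 := by rw [swap hA a₀ w, hwa, neg_zero]
  have hua' : B a₁ a₀ = 0 := by rw [swap hA a₀ a₁, haa, neg_zero]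
  have hw1 : B w a₁ = 0 := h.iso₁ w hw a₁ ha₁
  have h1w : B a₁ w = 0 := h.iso₁ a₁ ha₁ w hw
  have hs' : s = -(2 * (d * B w b)) := by
    rw [hd]
    field_simp
  rw [haa'] at huwz ⊢
  simp only [Subgroup.coe_mul, LinearEquiv.mul_apply, mtr_apply hA hwa, mtr_apply hA huwz, mtr_apply hA haa, tr_apply,
    map_add, LinearMap.map_smul, LinearMap.add_apply, LinearMap.smul_apply, smul_eq_mul, hA a₀, hA w, hA a₁,
    hwa, hwu', haa, hua', hw1, h1w]
  rw [hs']
  match_scalars <;> ring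

/-- A transvection centred in one of the two subspaces. -/
theorem exists_tr_any (hB : B.Nondegenerate) (h2 : (2 : F) ≠ 0) (hm : 3 ≤ m) (h : IsPair B m L₀ L₁)
    {K : Subgroup (Sp B)} (hK : ∀ p, Pres L₀ L₁ p → p ∈ K) {a b : V} (hab : B a b = 0)
    (hmem : ∀ d, mtr hA a b d ∈ K) (ha : a ∉ L₁) (hb : b ∉ L₁) :
    ∃ u, (u ∈ L₀ ∨ u ∈ L₁) ∧ u ≠ 0 ∧ ∀ s, tr hA u s ∈ K := by
  obtain ⟨a₀, ha₀, a₁, ha₁, rfl⟩ := Submodule.mem_sup.1 (h.compl.sup_eq_top.ge (Submodule.mem_top : a ∈ ⊤))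
  obtain ⟨b₀, hb₀, b₁, hb₁, rfl⟩ := Submodule.mem_sup.1 (h.compl.sup_eq_top.ge (Submodule.mem_top : b ∈ ⊤))
  have ha0 : a₀ ≠ 0 := fun e => ha (by rw [e, zero_add]; exact ha₁)
  have hb0 : b₀ ≠ 0 := fun e => hb (by rw [e, zero_add]; exact hb₁)
  let L : L₀ →ₗ[F] F × F := ((B.flip (a₀ + a₁)).domRestrict L₀).prod ((B.flip (b₀ + b₁)).domRestrict L₀)
  by_cases hgood : ∃ u : L₀, L u = 0 ∧ (u : V) ∉ Submodule.span F {a₀} ∧ (u : V) ∉ Submodule.span F {b₀}
  · obtain ⟨u', hu', hua, hub⟩ := hgood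
    obtain ⟨u, hu, hu0, hut⟩ := exists_tr hA hB h2 h hK ha₀ ha₁ hb₀ hb₁ ha0 hb0 hab hmem
      (congrArg Prod.fst hu') (congrArg Prod.snd hu') hua hub
    exact ⟨u, Or.inl hu, hu0, hut⟩
  -- one of the halves is orthogonal to both vectors
  suffices key : ∀ {a₀ a₁ b₀ b₁ : V}, a₀ ∈ L₀ → a₁ ∈ L₁ → b₀ ∈ L₀ → b₁ ∈ L₁ → a₀ ≠ 0 → b₀ ≠ 0 →
      B (a₀ + a₁) (b₀ + b₁) = 0 → (∀ d, mtr hA (a₀ + a₁) (b₀ + b₁) d ∈ K) → B a₀ a₁ = 0 → B a₀ b₁ = 0 →
      ∃ u, (u ∈ L₀ ∨ u ∈ L₁) ∧ u ≠ 0 ∧ ∀ s, tr hA u s ∈ K by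
    push Not at hgood
    obtain ⟨u, hu, hu0⟩ := (Submodule.ne_bot_iff (LinearMap.ker L)).1 fun e => by
      have h1 := LinearMap.finrank_range_add_finrank_ker L
      have h3 := Submodule.finrank_le (LinearMap.range L)
      rw [Module.finrank_prod, Module.finrank_self] at h3
      rw [e, finrank_bot, h.rank₀] at h1
      omega
    have hcase : (u : V) ∈ Submodule.span F {a₀} ∨ (u : V) ∈ Submodule.span F {b₀} := by
      by_contra! hc
      exact hc.2 (hgood u hu hc.1)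
    have hperp : ∀ x : V, (u : V) ∈ Submodule.span F {x} → B x (a₀ + a₁) = 0 ∧ B x (b₀ + b₁) = 0 := fun x hx => by
      obtain ⟨c, hc⟩ := Submodule.mem_span_singleton.1 hx
      have hc0 : c ≠ 0 := fun e => hu0 (Subtype.ext (by rw [← hc, e, zero_smul]; rfl))
      have h1 : B (u : V) (a₀ + a₁) = 0 := congrArg Prod.fst (LinearMap.mem_ker.1 hu)
      have h2' : B (u : V) (b₀ + b₁) = 0 := congrArg Prod.snd (LinearMap.mem_ker.1 hu)
      rw [← hc, map_smul, LinearMap.smul_apply, smul_eq_mul] at h1 h2'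
      exact ⟨(mul_eq_zero.1 h1).resolve_left hc0, (mul_eq_zero.1 h2').resolve_left hc0⟩
    rcases hcase with hc | hc
    · obtain ⟨h1, h2'⟩ := hperp a₀ hc
      refine key ha₀ ha₁ hb₀ hb₁ ha0 hb0 hab hmem ?_ ?_
      · rwa [map_add, h.iso₀ a₀ ha₀ a₀ ha₀, zero_add] at h1
      · rwa [map_add, h.iso₀ a₀ ha₀ b₀ hb₀, zero_add] at h2'
    · obtain ⟨h1, h2'⟩ := hperp b₀ hc
      refine key hb₀ hb₁ ha₀ ha₁ hb0 ha0 (by rw [swap hA _ (b₀ + b₁), hab, neg_zero])
        (fun d => by rw [← mtr_swap hA hab]; exact hmem d) ?_ ?_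
      · rwa [map_add, h.iso₀ b₀ hb₀ b₀ hb₀, zero_add] at h2'
      · rwa [map_add, h.iso₀ b₀ hb₀ a₀ ha₀, zero_add] at h1
  clear! a₀ a₁ b₀ b₁
  intro a₀ a₁ b₀ b₁ ha₀ ha₁ hb₀ hb₁ ha0 hb0 hab hmem haa hab₁
  have hK' : ∀ p, Pres L₁ L₀ p → p ∈ K := fun p hp => hK p (hp.elim (fun e => Or.inl ⟨e.2, e.1⟩)
    fun e => Or.inr ⟨e.2, e.1⟩)
  by_cases hdep : b₀ ∈ Submodule.span F {a₀}
  swap
  · exact ⟨a₀, Or.inl ha₀, ha0, tr_of_half hA hB h2 h hK ha₀ ha₁ hb₀ hb₁ hab hmem haa hab₁ hdep⟩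
  obtain ⟨k, rfl⟩ := Submodule.mem_span_singleton.1 hdep
  have hk : k ≠ 0 := fun e => hb0 (by rw [e, zero_smul])
  have haa' : B a₁ a₀ = 0 := by rw [swap hA a₀ a₁, haa, neg_zero]
  have hab₁' : B b₁ a₀ = 0 := by rw [swap hA a₀ b₁, hab₁, neg_zero]
  have h11 := h.iso₁ a₁ ha₁ b₁ hb₁
  have h11' := h.iso₁ b₁ hb₁ a₁ ha₁
  by_cases hl : b₁ ∈ Submodule.span F {a₁}
  swap
  · rcases eq_or_ne a₁ 0 with rfl | ha10
    · refine ⟨a₀, Or.inl ha₀, ha0, fun s => ?_⟩
      simp only [add_zero] at hab hmem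
      have hmem' := K.mul_mem (hmem (s / (2 * k))) (hK _ (mtr_pres hA h ha₀ hb₁ hab₁ (-(s / (2 * k)))))
      convert hmem' using 1
      ext x
      simp only [Subgroup.coe_mul, LinearEquiv.mul_apply, mtr_apply hA hab, mtr_apply hA hab₁, tr_apply, map_add,
        LinearMap.map_smul, LinearMap.add_apply, LinearMap.smul_apply, smul_eq_mul, hA a₀, hA b₁,
        hab₁, hab₁']
      match_scalars <;> field_simp <;> ring
    refine ⟨a₁, Or.inr ha₁, ha10, tr_of_half hA hB h2 h.symm hK' ha₁ ha₀ hb₁ hb₀ ?_ ?_ haa' ?_ hl⟩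
    · rwa [add_comm a₁, add_comm b₁]
    · intro d
      rw [add_comm a₁, add_comm b₁]
      exact hmem d
    · rw [map_smul, haa', smul_zero]
  obtain ⟨l, rfl⟩ := Submodule.mem_span_singleton.1 hl
  -- a pure element of both subspaces
  have hT : ∀ d, tr hA a₀ (2 * k * d) * tr hA a₁ (2 * l * d) ∈ K := fun d => by
    have hmem' := K.mul_mem (hmem d) (hK _ (mtr_pres hA h ha₀ ha₁ haa (-((k + l) * d))))
    convert hmem' using 1
    ext x
    simp only [Subgroup.coe_mul, LinearEquiv.mul_apply, mtr_apply hA hab, mtr_apply hA haa, tr_apply, map_add,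
      LinearMap.map_smul, LinearMap.add_apply, LinearMap.smul_apply, smul_eq_mul, hA a₀, hA a₁, haa, haa']
    match_scalars <;> ring
  by_cases hpure : l • a₁ = 0
  · refine ⟨a₀, Or.inl ha₀, ha0, fun s => ?_⟩
    have hmem' := hT (s / (2 * k))
    convert hmem' using 1
    ext x
    rcases smul_eq_zero.1 hpure with e | e <;>
      simp only [Subgroup.coe_mul, LinearEquiv.mul_apply, tr_apply, e, mul_zero, zero_mul, zero_smul, smul_zero,
        add_zero] <;> congr 2 <;> field_simp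
  obtain ⟨hl0, ha10⟩ := smul_ne_zero_iff.1 hpure
  -- a second vector of the perpendicular plane
  obtain ⟨e, he, hea, hen⟩ : ∃ e ∈ L₁, B a₀ e = 0 ∧ e ∉ Submodule.span F {a₁} := by
    let L' : L₁ →ₗ[F] F := (B a₀).domRestrict L₁
    by_contra! hc
    have hle : (LinearMap.ker L').map L₁.subtype ≤ Submodule.span F {a₁} := by
      rintro _ ⟨e, he, rfl⟩
      exact hc e e.2 he
    have h1 := LinearMap.finrank_range_add_finrank_ker L'
    have h3 := Submodule.finrank_le (LinearMap.range L')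
    rw [Module.finrank_self] at h3
    have h4 := Submodule.finrank_mono hle
    rw [Submodule.finrank_map_subtype_eq, finrank_span_singleton ha10] at h4
    rw [h.rank₁] at h1
    omega
  have hpair : ∀ e ∈ L₁, B a₀ e = 0 → e ∉ Submodule.span F {a₁} → ∀ d,
      tr hA a₁ (2 * l * d) * tr hA e (-(2 * l * d)) ∈ K := by
    intro e he hea hen d
    have hnot : (⟨a₁, ha₁⟩ : L₁) ∉ Submodule.span F {(⟨e, he⟩ : L₁) - ⟨a₁, ha₁⟩} := by
      intro hh
      obtain ⟨c, hc⟩ := Submodule.mem_span_singleton.1 hh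
      have hc' : c • (e - a₁) = a₁ := congrArg Subtype.val hc
      rcases eq_or_ne c 0 with rfl | hc0
      · rw [zero_smul] at hc'; exact ha10 hc'.symm
      refine hen (Submodule.mem_span_singleton.2 ⟨(1 + c) / c, ?_⟩)
      rw [show e = c⁻¹ • (c • (e - a₁)) + a₁ by rw [inv_smul_smul₀ hc0, sub_add_cancel], hc']
      match_scalars
      field_simp
      try ring
    obtain ⟨ψ, hψ, hψ'⟩ := Submodule.exists_dual_map_eq_bot_of_notMem hnot inferInstance
    have hψ0 : ψ ((⟨e, he⟩ : L₁) - ⟨a₁, ha₁⟩) = 0 :=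
      (Submodule.mem_bot F).1 (hψ' ▸ ⟨_, Submodule.mem_span_singleton_self _, rfl⟩)
    have hv : ((ψ ⟨a₁, ha₁⟩)⁻¹ • ψ) ((⟨e, he⟩ : L₁) - ⟨a₁, ha₁⟩) = 0 := by simp [LinearMap.smul_apply, hψ0]
    obtain ⟨p, hp, hp'⟩ := (exists_extend hA hB h.symm).1 (LinearEquiv.transvection hv)
    have hpa : (p : V ≃ₗ[F] V) a₁ = e := by
      rw [hp' ⟨a₁, ha₁⟩, LinearEquiv.transvection.apply]
      simp [LinearMap.smul_apply, inv_mul_cancel₀ hψ]
    have hp0 : (p : V ≃ₗ[F] V) a₀ = a₀ := by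
      have hp1 : ∀ x ∈ L₀, (p : V ≃ₗ[F] V) x ∈ L₀ := by
        rcases hp with ⟨-, e'⟩ | ⟨e', -⟩
        · exact e'
        · exfalso
          have h1 := e' a₁ ha₁
          rw [hpa] at h1
          exact hen (by rw [Submodule.disjoint_def.1 h.compl.disjoint e h1 he]; exact zero_mem _)
      refine sub_eq_zero.1 (eq_zero_of_perp hB h (L₀.sub_mem (hp1 _ ha₀) ha₀) fun w hw => ?_)
      obtain ⟨y, hy⟩ := (LinearEquiv.transvection hv).surjective ⟨w, hw⟩
      have hy' : (p : V ≃ₗ[F] V) (y : V) = w := by rw [hp' y, hy]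
      have hpy : B ((p : V ≃ₗ[F] V) a₀) ((p : V ≃ₗ[F] V) (y : V)) = B a₀ (y : V) := p.2 a₀ y
      rw [map_sub, LinearMap.sub_apply, ← hy', hpy, hp' y, LinearEquiv.transvection.apply]
      simp [hea, haa]
    have h1 := hT (-d)
    have h2' := K.mul_mem (K.mul_mem (hK' p hp) (hT d)) (K.inv_mem (hK' p hp))
    rw [show (p * (tr hA a₀ (2 * k * d) * tr hA a₁ (2 * l * d)) * p⁻¹ : Sp B) =
        p * tr hA a₀ (2 * k * d) * p⁻¹ * (p * tr hA a₁ (2 * l * d) * p⁻¹) by group, conj_tr, conj_tr, hp0, hpa] at h2'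
    have h3 := K.inv_mem (K.mul_mem h1 h2')
    convert h3 using 1
    rw [eq_inv_iff_mul_eq_one]
    ext x
    have hea' : B e a₀ = 0 := by rw [swap hA a₀ e, hea, neg_zero]
    simp only [Subgroup.coe_mul, LinearEquiv.mul_apply, tr_apply, map_add, LinearMap.map_smul, LinearMap.add_apply,
      LinearMap.smul_apply, smul_eq_mul, hA a₀, hA a₁, hA e, haa, haa', hea, hea', h.iso₁ a₁ ha₁ e he,
      h.iso₁ e he a₁ ha₁, Subgroup.coe_one, LinearEquiv.coe_one, id_eq]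
    match_scalars <;> ring
  have hadd : ∀ r : F, r ≠ 0 → a₁ + r • e ∉ Submodule.span F {a₁} := fun r hr hh => hen (by
    have h1 := Submodule.sub_mem _ hh (Submodule.mem_span_singleton_self a₁)
    rw [add_sub_cancel_left] at h1
    exact (Submodule.smul_mem_iff _ hr).1 h1)
  have hperp' : ∀ r : F, B a₀ (a₁ + r • e) = 0 := fun r => by simp [haa, hea]
  have he0 : e ≠ 0 := fun e0 => hen (by rw [e0]; exact zero_mem _)
  refine ⟨e, Or.inr he, he0, fun s => ?_⟩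
  have h1 := hpair _ (L₁.add_mem ha₁ (L₁.smul_mem 1 he)) (hperp' 1) (hadd 1 one_ne_zero) (-s / (4 * l))
  have h2' := hpair _ (L₁.add_mem ha₁ (L₁.smul_mem (-1) he)) (hperp' (-1)) (hadd (-1) (by simp)) (-s / (4 * l))
  convert K.mul_mem h1 h2' using 1
  ext x
  have h4 : (4 : F) ≠ 0 := by
    rw [show (4 : F) = 2 * 2 by norm_num]
    exact mul_ne_zero h2 h2
  simp only [Subgroup.coe_mul, LinearEquiv.mul_apply, tr_apply, map_add, LinearMap.map_smul, LinearMap.add_apply,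
    LinearMap.smul_apply, smul_eq_mul, hA a₁, hA e, h.iso₁ a₁ ha₁ e he, h.iso₁ e he a₁ ha₁]
  match_scalars <;> field_simp <;> ring

/-- The stabiliser of a pair of complementary Lagrangian subspaces generates with anything else. -/
theorem eq_top_of_pair (hB : B.Nondegenerate) (h2 : (2 : F) ≠ 0) (hm : 3 ≤ m) (h : IsPair B m L₀ L₁)
    {K : Subgroup (Sp B)} (hK : ∀ p, Pres L₀ L₁ p → p ∈ K) {g : Sp B} (hgK : g ∈ K)
    (hg : ¬ Pres L₀ L₁ g) : K = ⊤ := by
  obtain ⟨⟨hext, sw, hsw, hsw'⟩, -⟩ := (⟨exists_extend hA hB h, trivial⟩ : _ ∧ True)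
  -- a first transvection
  obtain ⟨u, hu, hu0, hut⟩ : ∃ u ∈ L₀, u ≠ 0 ∧ ∀ s, tr hA u s ∈ K := by
    by_contra! hcon
    apply hg
    have hno : ∀ x ∈ L₀, ∀ y ∈ L₁, B x y = 0 →
        ((g : V ≃ₗ[F] V) x ∈ L₁ ∨ (g : V ≃ₗ[F] V) y ∈ L₁) ∧ ((g : V ≃ₗ[F] V) x ∈ L₀ ∨ (g : V ≃ₗ[F] V) y ∈ L₀) := by
      intro x hx y hy hxy
      have hmem : ∀ d, mtr hA ((g : V ≃ₗ[F] V) x) ((g : V ≃ₗ[F] V) y) d ∈ K := fun d => by
        rw [← conj_mtr]
        exact K.mul_mem (K.mul_mem hgK (hK _ (mtr_pres hA h hx hy hxy d))) (K.inv_mem hgK)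
      have hab : B ((g : V ≃ₗ[F] V) x) ((g : V ≃ₗ[F] V) y) = 0 := (g.2 x y).trans hxy
      have hfin : ∀ u, (u ∈ L₀ ∨ u ∈ L₁) → u ≠ 0 → (∀ s, tr hA u s ∈ K) → False := by
        rintro u (hu | hu) hu0 hut
        · obtain ⟨s, hs⟩ := hcon u hu hu0
          exact hs (hut s)
        have hu' : ((sw : V ≃ₗ[F] V) u) ∈ L₀ := by
          rcases hsw with ⟨e, -⟩ | ⟨-, e⟩
          · by_contra
            obtain ⟨y₀, hy₀, hy₀0⟩ : ∃ y ∈ L₀, y ≠ (0 : V) := (Submodule.ne_bot_iff _).1 fun hb => by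
              have := h.rank₀
              rw [hb, finrank_bot] at this
              omega
            exact hy₀0 ((sw : V ≃ₗ[F] V).injective (by
              rw [map_zero]
              exact Submodule.disjoint_def.1 h.compl.disjoint _ (e y₀ hy₀) (hsw' y₀ hy₀)))
          · exact e u hu
        obtain ⟨s, hs⟩ := hcon _ hu' (by simpa using hu0)
        exact hs (SympMax.tr_mem_of_conj hA (hK sw hsw) hut s)
      constructor
      · by_contra! hh
        obtain ⟨u, hu, hu0, hut⟩ := exists_tr_any hA hB h2 hm h hK hab hmem hh.1 hh.2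
        exact hfin u hu hu0 hut
      · by_contra! hh
        obtain ⟨u, hu, hu0, hut⟩ := exists_tr_any hA hB h2 hm h.symm
          (fun p hp => hK p (hp.elim (fun e => Or.inl ⟨e.2, e.1⟩) fun e => Or.inr ⟨e.2, e.1⟩)) hab hmem hh.1 hh.2
        exact hfin u hu.symm hu0 hut
    have horth : ∀ (A A' : Submodule F V), IsPair B m A A' → ∀ x ∈ A, ∃ y ∈ A', y ≠ 0 ∧ B x y = 0 := by
      intro A A' hp x hx
      let L : A' →ₗ[F] F := (B x).domRestrict A'
      have h1 := LinearMap.finrank_range_add_finrank_ker L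
      have h3 := Submodule.finrank_le (LinearMap.range L)
      rw [Module.finrank_self] at h3
      rw [hp.rank₁] at h1
      obtain ⟨y, hy, hy0⟩ := (Submodule.ne_bot_iff _).1 (show LinearMap.ker L ≠ ⊥ from fun hb => by
        rw [hb, finrank_bot] at h1; omega)
      exact ⟨y, y.2, fun e => hy0 (Subtype.ext e), hy⟩
    have hnb : ∀ z, z ∈ L₀ → z ∈ L₁ → z = 0 := fun z => Submodule.disjoint_def.1 h.compl.disjoint z
    have hinj : ∀ z, (g : V ≃ₗ[F] V) z ∈ L₀ → (g : V ≃ₗ[F] V) z ∈ L₁ → z = 0 := fun z h0 h1 =>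
      (g : V ≃ₗ[F] V).injective ((hnb _ h0 h1).trans (map_zero _).symm)
    have hpure : ∀ z, (z ∈ L₀ ∨ z ∈ L₁) → (g : V ≃ₗ[F] V) z ∈ L₀ ∨ (g : V ≃ₗ[F] V) z ∈ L₁ := by
      rintro z (hz | hz)
      · obtain ⟨y, hy, hy0, hzy⟩ := horth L₀ L₁ h z hz
        obtain ⟨h1, h2'⟩ := hno z hz y hy hzy
        rcases h1 with h1 | h1
        · exact Or.inr h1
        · rcases h2' with h2' | h2'
          · exact Or.inl h2'
          · exact absurd (hinj y h2' h1) hy0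
      · obtain ⟨y, hy, hy0, hzy⟩ := horth L₁ L₀ h.symm z hz
        obtain ⟨h1, h2'⟩ := hno y hy z hz (by rw [swap hA z y, hzy, neg_zero])
        rcases h1 with h1 | h1
        · rcases h2' with h2' | h2'
          · exact absurd (hinj y h2' h1) hy0
          · exact Or.inl h2'
        · exact Or.inr h1
    have himg : ∀ A : Submodule F V, (∀ z ∈ A, z ∈ L₀ ∨ z ∈ L₁) →
        (∀ z ∈ A, (g : V ≃ₗ[F] V) z ∈ L₀) ∨ ∀ z ∈ A, (g : V ≃ₗ[F] V) z ∈ L₁ := by
      intro A hA'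
      by_contra! hh
      obtain ⟨⟨p, hp, hp'⟩, ⟨q, hq, hq'⟩⟩ := hh
      have hp1 := (hpure p (hA' p hp)).resolve_left hp'
      have hq0 := (hpure q (hA' q hq)).resolve_right hq'
      rcases hpure (p + q) (hA' _ (A.add_mem hp hq)) with e | e <;> rw [map_add] at e
      · exact hp' (by simpa using L₀.sub_mem e hq0)
      · exact hq' (by simpa using L₁.sub_mem e hp1)
    have hexcl : ∀ A : Submodule F V, A ≠ ⊤ → (∀ z ∈ L₀, (g : V ≃ₗ[F] V) z ∈ A) →
        (∀ z ∈ L₁, (g : V ≃ₗ[F] V) z ∈ A) → False := by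
      intro A hAt hA0 hA1
      refine hAt (eq_top_iff.2 fun v _ => ?_)
      obtain ⟨v', rfl⟩ := (g : V ≃ₗ[F] V).surjective v
      obtain ⟨p, hp, q, hq, rfl⟩ := Submodule.mem_sup.1 (h.compl.sup_eq_top.ge (Submodule.mem_top : v' ∈ ⊤))
      rw [map_add]
      exact A.add_mem (hA0 p hp) (hA1 q hq)
    have hne : ∀ A A' : Submodule F V, IsPair B m A A' → A ≠ ⊤ := fun A A' hp e => by
      have h5 := hp.compl.disjoint
      rw [e, top_disjoint] at h5
      have := hp.rank₁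
      rw [h5, finrank_bot] at this
      omega
    rcases himg L₀ (fun z hz => Or.inl hz) with e | e <;> rcases himg L₁ (fun z hz => Or.inr hz) with e' | e'
    · exact absurd e' fun e' => hexcl L₀ (hne L₀ L₁ h) e e'
    · exact Or.inl ⟨e, e'⟩
    · exact Or.inr ⟨e, e'⟩
    · exact absurd e' fun e' => hexcl L₁ (hne L₁ L₀ h.symm) e e'
  -- all of `L₀`
  have hL₀ : ∀ x ∈ L₀, ∀ s, tr hA x s ∈ K := by
    intro x hx s
    by_cases hdep : ∃ k : F, x = k • u
    · obtain ⟨k, rfl⟩ := hdep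
      rw [tr_smul_vec]
      exact hut _
    push Not at hdep
    have hnot : (⟨u, hu⟩ : L₀) ∉ Submodule.span F {(⟨x, hx⟩ : L₀) - ⟨u, hu⟩} := by
      intro hh
      obtain ⟨k, hk⟩ := Submodule.mem_span_singleton.1 hh
      have hk' : k • (x - u) = u := congrArg Subtype.val hk
      rcases eq_or_ne k 0 with rfl | hk0
      · rw [zero_smul] at hk'; exact hu0 hk'.symm
      · refine hdep ((1 + k) / k) ?_
        have : x = k⁻¹ • (k • (x - u)) + u := by rw [inv_smul_smul₀ hk0, sub_add_cancel]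
        rw [this, hk']
        match_scalars
        field_simp
        try ring
    obtain ⟨ψ, hψ, hψ'⟩ := Submodule.exists_dual_map_eq_bot_of_notMem hnot inferInstance
    have hψ0 : ψ ((⟨x, hx⟩ : L₀) - ⟨u, hu⟩) = 0 :=
      (Submodule.mem_bot F).1 (hψ' ▸ ⟨_, Submodule.mem_span_singleton_self _, rfl⟩)
    have hv : ((ψ ⟨u, hu⟩)⁻¹ • ψ) ((⟨x, hx⟩ : L₀) - ⟨u, hu⟩) = 0 := by simp [LinearMap.smul_apply, hψ0]
    obtain ⟨p, hp, hp'⟩ := hext (LinearEquiv.transvection hv)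
    have := SympMax.tr_mem_of_conj hA (hK p hp) hut s
    rw [show (p : V ≃ₗ[F] V) u = x by
      rw [hp' ⟨u, hu⟩, LinearEquiv.transvection.apply]
      simp [LinearMap.smul_apply, inv_mul_cancel₀ hψ]] at this
    exact this
  have hL₁ : ∀ x ∈ L₁, ∀ s, tr hA x s ∈ K := by
    intro x hx s
    rcases hsw with ⟨e, -⟩ | ⟨e, e'⟩
    · exfalso
      exact hu0 ((sw : V ≃ₗ[F] V).injective (by
        rw [map_zero]
        exact Submodule.disjoint_def.1 h.compl.disjoint _ (e u hu) (hsw' u hu)))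
    · obtain ⟨y, rfl⟩ := (sw : V ≃ₗ[F] V).surjective x
      refine SympMax.tr_mem_of_conj hA (hK sw (Or.inr ⟨e, e'⟩)) (hL₀ y ?_) s
      obtain ⟨p, hp, q, hq, rfl⟩ := Submodule.mem_sup.1 (h.compl.sup_eq_top.ge (Submodule.mem_top : y ∈ ⊤))
      rw [map_add] at hx
      have hq0 : q = 0 := (sw : V ≃ₗ[F] V).injective (by
        rw [map_zero]
        exact Submodule.disjoint_def.1 h.compl.disjoint _ (e' q hq) (by simpa using L₁.sub_mem hx (e p hp)))
      rw [hq0, add_zero]; exact hp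
  have hadd : ∀ v w, (∀ s, tr hA v s ∈ K) → (∀ s, tr hA w s ∈ K) → B v w ≠ 0 → ∀ s, tr hA (v + w) s ∈ K := by
    intro v w hv hw hne s
    have := SympMax.tr_mem_of_conj hA (hw (B v w)⁻¹) hv s
    rwa [tr_apply, inv_mul_cancel₀ hne, one_smul] at this
  refine SympMax.eq_top_of_tr hA hB fun v s => ?_
  obtain ⟨p, hp, q, hq, rfl⟩ := Submodule.mem_sup.1 (h.compl.sup_eq_top.ge (Submodule.mem_top : v ∈ ⊤))
  by_cases hpq : B p q = 0
  · by_cases hp0 : p = 0
    · rw [hp0, zero_add]; exact hL₁ q hq s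
    obtain ⟨y, hy, hy'⟩ : ∃ y ∈ L₁, B p y ≠ 0 := by
      by_contra! hc
      exact hp0 (eq_zero_of_perp hB h hp hc)
    have h1 : ∀ s, tr hA (p + y) s ∈ K := hadd p y (hL₀ p hp) (hL₁ y hy) hy'
    have h2' := hadd (p + y) (q - y) h1 (hL₁ _ (L₁.sub_mem hq hy)) (by
      rw [map_add, LinearMap.add_apply, map_sub, map_sub, hpq, h.iso₁ y hy q hq, hA y, zero_sub, sub_zero, add_zero]
      exact neg_ne_zero.2 hy') s
    rwa [show p + y + (q - y) = p + q by abel] at h2'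
  · exact hadd p q (hL₀ p hp) (hL₁ q hq) hpq s

end CfsgLib.Geo.SympPair

namespace CfsgLib.Geo.SympPair

open Matrix
open CfsgLib.Classical CfsgLib.Classical.Symp

variable {m : ℕ} {F : Type*} [Field F]

/-- Matrix form of the maximality of the stabiliser of a Lagrangian pair. -/
theorem isMaximalIn_pair [Finite F] (h2 : (2 : F) ≠ 0) (hm : 3 ≤ m)
    {D : Fin 2 → Submodule F (Fin m ⊕ Fin m → F)} (hD : Cfsg.Geo.IsMDecomposition m D)
    (hts : ∀ i, Cfsg.Geo.IsTotallySingularFor (Cfsg.sympForm m F) (D i)) :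
    Cfsg.Geo.IsMaximalIn (Cfsg.spGL m F) (Cfsg.Geo.decompositionStabilizer D ⊓ Cfsg.spGL m F) := by
  have hA := sympBil_isAlt m F
  have hB := sympBil_nondegenerate m F
  have hd := hD.finrank_eq
  have hp : IsPair (sympBil m F) m (D 0) (D 1) := by
    refine ⟨⟨hD.indep.pairwiseDisjoint (show (0 : Fin 2) ≠ 1 by decide), codisjoint_iff.2 ?_⟩, hd 0, hd 1,
      fun x hx y hy => by rw [sympBil_apply]; exact hts 0 x hx y hy,
      fun x hx y hy => by rw [sympBil_apply]; exact hts 1 x hx y hy⟩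
    rw [eq_top_iff, ← hD.iSup_eq_top]
    refine iSup_le fun i => ?_
    fin_cases i
    · exact le_sup_left
    · exact le_sup_right
  let e : Cfsg.spGL m F ≃* Sp (sympBil m F) :=
    (preservingEquivIso (Cfsg.sympForm m F)).trans (MulEquiv.subgroupCongr (iso_sympForm_eq m F))
  have hact : ∀ (g : Cfsg.spGL m F) x, ((g : Matrix.GeneralLinearGroup (Fin m ⊕ Fin m) F) :
      Matrix (Fin m ⊕ Fin m) (Fin m ⊕ Fin m) F) *ᵥ x = (e g : (Fin m ⊕ Fin m → F) ≃ₗ[F] (Fin m ⊕ Fin m → F)) x :=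
    fun g x => rfl
  have hin : ∀ g : Cfsg.spGL m F, (g : Matrix.GeneralLinearGroup (Fin m ⊕ Fin m) F) ∈
      Cfsg.Geo.decompositionStabilizer D ↔ Pres (D 0) (D 1) (e g) := by
    intro g
    constructor
    · rintro ⟨σ, hσ⟩
      have hmaps : ∀ i, ∀ x ∈ D i, (e g : (Fin m ⊕ Fin m → F) ≃ₗ[F] (Fin m ⊕ Fin m → F)) x ∈ D (σ i) :=
        fun i x hx => by rw [← hact, ← hσ i]; exact ⟨x, hx, Matrix.toLin'_apply _ _⟩
      have h01 : σ 0 ≠ σ 1 := fun h => by simpa using σ.injective h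
      obtain ⟨a, ha⟩ : ∃ a, σ 0 = a := ⟨_, rfl⟩
      obtain ⟨c, hc⟩ : ∃ c, σ 1 = c := ⟨_, rfl⟩
      fin_cases a <;> fin_cases c <;> simp only [Fin.zero_eta, Fin.mk_one] at ha hc
      · exact absurd (ha.trans hc.symm) h01
      · exact Or.inl ⟨fun x hx => ha ▸ hmaps 0 x hx, fun x hx => hc ▸ hmaps 1 x hx⟩
      · exact Or.inr ⟨fun x hx => ha ▸ hmaps 0 x hx, fun x hx => hc ▸ hmaps 1 x hx⟩
      · exact absurd (ha.trans hc.symm) h01
    · intro hP
      have hinj : Function.Injective (Matrix.toLin' ((g : Matrix.GeneralLinearGroup (Fin m ⊕ Fin m) F) :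
          Matrix (Fin m ⊕ Fin m) (Fin m ⊕ Fin m) F)) := fun x y hxy =>
        (e g : (Fin m ⊕ Fin m → F) ≃ₗ[F] (Fin m ⊕ Fin m → F)).injective (by
          simpa only [Matrix.toLin'_apply, hact] using hxy)
      have hmap : ∀ i j, (∀ x ∈ D i, (e g : (Fin m ⊕ Fin m → F) ≃ₗ[F] (Fin m ⊕ Fin m → F)) x ∈ D j) →
          (D i).map (Matrix.toLin' ((g : Matrix.GeneralLinearGroup (Fin m ⊕ Fin m) F) :
            Matrix (Fin m ⊕ Fin m) (Fin m ⊕ Fin m) F)) = D j := fun i j hij => by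
        refine Submodule.eq_of_le_of_finrank_eq ?_ ?_
        · rintro _ ⟨x, hx, rfl⟩
          rw [Matrix.toLin'_apply, hact]
          exact hij x hx
        · rw [hd, ← (Submodule.equivMapOfInjective _ hinj _).finrank_eq, hd]
      rcases hP with ⟨h0, h1⟩ | ⟨h0, h1⟩
      · exact ⟨1, fun i => hmap i _ (by fin_cases i <;> assumption)⟩
      · exact ⟨Equiv.swap 0 1, fun i => hmap i _ (by fin_cases i <;> simpa using (by assumption))⟩
  refine ⟨lt_of_le_of_ne inf_le_right fun heq => ?_, fun M hM hMS => ?_⟩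
  · obtain ⟨u, hu, hu0⟩ := (Submodule.ne_bot_iff _).1 (show D 0 ≠ ⊥ from fun hb => by
      have := hd 0
      rw [hb, finrank_bot] at this
      omega)
    obtain ⟨y, hy, hy'⟩ : ∃ y ∈ D 1, sympBil m F u y = 1 := by
      by_contra! hc
      refine hu0 (eq_zero_of_perp hB hp hu fun w hw => ?_)
      by_contra hne
      exact hc ((sympBil m F u w)⁻¹ • w) (Submodule.smul_mem _ _ hw) (by simp [hne])
    set t := e.symm (tr hA (u + y) 1) with ht
    have := (hin t).1 (heq.ge t.2).1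
    rw [ht, MulEquiv.apply_symm_apply] at this
    have himg : (tr hA (u + y) 1 : (Fin m ⊕ Fin m → F) ≃ₗ[F] (Fin m ⊕ Fin m → F)) u = (2 : F) • u + y := by
      rw [tr_apply, map_add, hA u, hy', zero_add, one_mul, one_smul, two_smul, add_assoc]
    rcases this with ⟨h0, -⟩ | ⟨h0, -⟩ <;> have := h0 u hu <;> rw [himg] at this
    · have hy0 : y ∈ D 0 := by simpa using (D 0).sub_mem this ((D 0).smul_mem (2 : F) hu)
      rw [Submodule.disjoint_def.1 hp.compl.disjoint y hy0 hy, map_zero] at hy'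
      exact zero_ne_one hy'
    · have hu1 : (2 : F) • u ∈ D 1 := by simpa using (D 1).sub_mem this hy
      have := Submodule.disjoint_def.1 hp.compl.disjoint _ ((D 0).smul_mem (2 : F) hu) hu1
      exact hu0 ((smul_eq_zero.1 this).resolve_left h2)
  refine (eq_or_lt_of_le hM).imp Eq.symm fun hlt => le_antisymm hMS ?_
  obtain ⟨g, hgM, hgn⟩ := SetLike.exists_of_lt hlt
  have htop := eq_top_of_pair hA hB h2 hm hp (K := (M.subgroupOf (Cfsg.spGL m F)).map e.toMonoidHom)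
    (fun p hpp => ⟨e.symm p, hM ⟨(hin _).2 (by rw [MulEquiv.apply_symm_apply]; exact hpp), (e.symm p).2⟩,
      MulEquiv.apply_symm_apply e p⟩)
    (g := e ⟨g, hMS hgM⟩) ⟨⟨g, hMS hgM⟩, hgM, rfl⟩ (fun hpp => hgn ⟨(hin ⟨g, hMS hgM⟩).2 hpp, hMS hgM⟩)
  intro x hx
  obtain ⟨y, hy, hye⟩ := (htop.ge (Subgroup.mem_top (e ⟨x, hx⟩)) :)
  have : y = ⟨x, hx⟩ := e.injective hye
  subst this
  exact hy

end CfsgLib.Geo.SympPair
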