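/-
Involutions of a symplectic space and tensor decompositions with a factor of dimension two.
-/
import Cfsg.Agent.Lib.Geo.SympTensorDerange
import Cfsg.Agent.Lib.Geo.SympSkewPlanes

set_option autoImplicit false

namespace CfsgLib.Geo.SympTensorInv

open Matrix Module CfsgLib.Geo.Asch CfsgLib.Geo.PrimeSp CfsgLib.Geo.SympTensor
open scoped Kronecker
open CfsgLib.Geo.SkewPlanes (Skew)
open LinearMap (BilinForm)
open CfsgLib.Classical.Symp (sympBil sympBil_apply sympBil_isAlt sympBil_nondegenerate finrank_sympSpace)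

variable {F : Type*} [Field F]

section Abstract

variable {V : Type*} [AddCommGroup V] [Module F V] [FiniteDimensional F V] {B : BilinForm F V}

theorem split_invol (h2 : (2 : F) ≠ 0) {X : V →ₗ[F] V} (hXX : ∀ v, X (X v) = v) :
    IsCompl (LinearMap.ker (X - LinearMap.id)) (LinearMap.ker (X + LinearMap.id)) := by
  constructor
  · rw [Submodule.disjoint_def]
    intro v h1 h3
    simp only [LinearMap.mem_ker, LinearMap.sub_apply, LinearMap.add_apply, LinearMap.id_apply] at h1 h3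
    rw [sub_eq_zero.1 h1, ← two_smul F v] at h3
    exact (smul_eq_zero.1 h3).resolve_left h2
  · rw [codisjoint_iff, eq_top_iff]
    intro v _
    refine Submodule.mem_sup.2 ⟨(2 : F)⁻¹ • (v + X v), ?_, (2 : F)⁻¹ • (v - X v), ?_, ?_⟩
    · simp only [LinearMap.mem_ker, LinearMap.sub_apply, LinearMap.id_apply, map_smul, map_add, hXX]
      module
    · simp only [LinearMap.mem_ker, LinearMap.add_apply, LinearMap.id_apply, map_smul, map_sub, hXX]
      module
    · rw [← smul_add, show v + X v + (v - X v) = (2 : F) • v by module, inv_smul_smul₀ h2]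

theorem eigen_orth (h2 : (2 : F) ≠ 0) (hA : B.IsAlt) {X : V →ₗ[F] V} (hX : ∀ u v, B (X u) (X v) = B u v)
    {u w : V} (hu : u ∈ LinearMap.ker (X - LinearMap.id)) (hw : w ∈ LinearMap.ker (X + LinearMap.id)) :
    B u w = 0 ∧ B w u = 0 := by
  simp only [LinearMap.mem_ker, LinearMap.sub_apply, LinearMap.add_apply, LinearMap.id_apply] at hu hw
  have h : B u w = 0 := by
    have h' := hX u w
    rw [sub_eq_zero.1 hu, eq_neg_of_add_eq_zero_left hw, map_neg] at h'
    have : (2 : F) * B u w = 0 := by linear_combination -h'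
    exact (mul_eq_zero.1 this).resolve_left h2
  exact ⟨h, by rw [← LinearMap.IsAlt.neg hA, h, neg_zero]⟩

theorem eigen_nondeg (h2 : (2 : F) ≠ 0) (hA : B.IsAlt) (hn : ∀ u, (∀ v, B u v = 0) → u = 0) {X : V →ₗ[F] V}
    (hX : ∀ u v, B (X u) (X v) = B u v) (hXX : ∀ v, X (X v) = v) :
    (∀ u ∈ LinearMap.ker (X - LinearMap.id), (∀ v ∈ LinearMap.ker (X - LinearMap.id), B u v = 0) → u = 0) ∧
      ∀ u ∈ LinearMap.ker (X + LinearMap.id), (∀ v ∈ LinearMap.ker (X + LinearMap.id), B u v = 0) → u = 0 := by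
  constructor <;> intro u hu h <;> refine hn u fun v => ?_ <;>
    obtain ⟨a, ha, b, hb, rfl⟩ := Submodule.mem_sup.1
      ((codisjoint_iff.1 (split_invol h2 hXX).codisjoint).ge (Submodule.mem_top : v ∈ ⊤)) <;>
    rw [map_add]
  · rw [h a ha, (eigen_orth h2 hA hX hu hb).1, add_zero]
  · rw [(eigen_orth h2 hA hX ha hu).2, h b hb, add_zero]

/-- Isometric involutions with eigenspaces of equal dimension are conjugate. -/
theorem exists_intertwine (h2 : (2 : F) ≠ 0) (hA : B.IsAlt) (hn : ∀ u, (∀ v, B u v = 0) → u = 0) {X Y : V →ₗ[F] V}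
    (hX : ∀ u v, B (X u) (X v) = B u v) (hXX : ∀ v, X (X v) = v) (hY : ∀ u v, B (Y u) (Y v) = B u v)
    (hYY : ∀ v, Y (Y v) = v)
    (h : finrank F (LinearMap.ker (Y + LinearMap.id)) = finrank F (LinearMap.ker (X + LinearMap.id))) :
    ∃ g : V ≃ₗ[F] V, (∀ u v, B (g u) (g v) = B u v) ∧ ∀ v, g (Y v) = X (g v) := by
  obtain ⟨hXp, hXm⟩ := eigen_nondeg h2 hA hn hX hXX
  obtain ⟨hYp, hYm⟩ := eigen_nondeg h2 hA hn hY hYY
  have hcX := split_invol h2 hXX
  have hcY := split_invol h2 hYY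
  have hp : finrank F (LinearMap.ker (Y - LinearMap.id)) = finrank F (LinearMap.ker (X - LinearMap.id)) := by
    have e1 := Submodule.finrank_add_eq_of_isCompl hcX
    have e2 := Submodule.finrank_add_eq_of_isCompl hcY
    omega
  obtain ⟨ep, hep⟩ := CfsgLib.Classical.Symp.exists_isometry (CfsgLib.Classical.Symp.restrict_isAlt hA _)
    (CfsgLib.Classical.Symp.restrict_nondegenerate hA hYp) (CfsgLib.Classical.Symp.restrict_isAlt hA _)
    (CfsgLib.Classical.Symp.restrict_nondegenerate hA hXp) hp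
  obtain ⟨em, hem⟩ := CfsgLib.Classical.Symp.exists_isometry (CfsgLib.Classical.Symp.restrict_isAlt hA _)
    (CfsgLib.Classical.Symp.restrict_nondegenerate hA hYm) (CfsgLib.Classical.Symp.restrict_isAlt hA _)
    (CfsgLib.Classical.Symp.restrict_nondegenerate hA hXm) h
  let eY := Submodule.prodEquivOfIsCompl _ _ hcY
  let eX := Submodule.prodEquivOfIsCompl _ _ hcX
  let g : V ≃ₗ[F] V := eY.symm.trans ((ep.prodCongr em).trans eX)
  have hg : ∀ (a : LinearMap.ker (Y - LinearMap.id)) (b : LinearMap.ker (Y + LinearMap.id)),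
      g ((a : V) + (b : V)) = (ep a : V) + (em b : V) := fun a b => by
    have : eY.symm ((a : V) + b) = (a, b) := eY.injective (by rw [eY.apply_symm_apply]; rfl)
    show eX ((ep.prodCongr em) (eY.symm _)) = _
    rw [this]
    rfl
  refine ⟨g, fun u v => ?_, fun v => ?_⟩
  · obtain ⟨⟨a, b⟩, rfl⟩ := eY.surjective u
    obtain ⟨⟨a', b'⟩, rfl⟩ := eY.surjective v
    show B (g ((a : V) + b)) (g ((a' : V) + b')) = B ((a : V) + b) ((a' : V) + b')
    rw [hg, hg]
    simp only [map_add, LinearMap.add_apply, (eigen_orth h2 hA hX (ep a).2 (em b').2).1,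
      (eigen_orth h2 hA hX (ep a').2 (em b).2).2, (eigen_orth h2 hA hY a.2 b'.2).1,
      (eigen_orth h2 hA hY a'.2 b.2).2]
    have e1 : B (ep a : V) (ep a' : V) = B (a : V) (a' : V) := hep a a'
    have e2 : B (em b : V) (em b' : V) = B (b : V) (b' : V) := hem b b'
    rw [e1, e2]
  · obtain ⟨⟨a, b⟩, rfl⟩ := eY.surjective v
    show g (Y ((a : V) + b)) = X (g ((a : V) + b))
    have ha : Y (a : V) = a := sub_eq_zero.1 (LinearMap.mem_ker.1 a.2)
    have hb : Y (b : V) = -(b : V) := eq_neg_of_add_eq_zero_left (LinearMap.mem_ker.1 b.2)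
    have ha' : X (ep a : V) = ep a := sub_eq_zero.1 (LinearMap.mem_ker.1 (ep a).2)
    have hb' : X (em b : V) = -(em b : V) := eq_neg_of_add_eq_zero_left (LinearMap.mem_ker.1 (em b).2)
    rw [map_add Y, ha, hb, ← Submodule.coe_neg, hg, hg, map_neg, Submodule.coe_neg, map_add, ha', hb']

end Abstract

/-- Isometric involutions of a non-degenerate symmetric form with any eigenspace dimension. -/
theorem exists_sym_invol {b : ℕ} (h2 : (2 : F) ≠ 0) {f : (Fin b → F) → (Fin b → F) → F}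
    (hf : Cfsg.Geo.IsSymmetricForm f) {j : ℕ} (hj : j ≤ b) :
    ∃ D : Matrix (Fin b) (Fin b) F, D * D = 1 ∧ Dᵀ * Cfsg.Geo.gramMatrix f * D = Cfsg.Geo.gramMatrix f ∧
      (D + 1).rank = b - j := by
  classical
  let β : BilinForm F (Fin b → F) := LinearMap.mk₂ F f hf.bilinear.add_left
    (fun c x v => hf.bilinear.smul_left c x v) (fun v x y => hf.bilinear.add_right v x y)
    (fun c v x => hf.bilinear.smul_right c v x)
  have hg : Matrix.toBilin' (Cfsg.Geo.gramMatrix f) = β := by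
    rw [show Cfsg.Geo.gramMatrix f = LinearMap.BilinForm.toMatrix' β from
      Matrix.ext fun i j => (LinearMap.BilinForm.toMatrix'_apply β i j).symm, Matrix.toBilin'_toMatrix']
  letI : Invertible (2 : F) := invertibleOfNonzero h2
  obtain ⟨v₀, hv₀⟩ := LinearMap.BilinForm.exists_orthogonal_basis (B := β) ⟨fun x y => hf.symm x y⟩
  let v := v₀.reindex (finCongr (Module.finrank_fin_fun F))
  have hv : ∀ k l, k ≠ l → β (v k) (v l) = 0 := fun k l h => by
    simp only [v, Basis.reindex_apply]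
    exact hv₀ (fun e => h ((finCongr (Module.finrank_fin_fun F)).symm.injective e))
  let s : Fin b → F := fun k => if (k : ℕ) < j then -1 else 1
  have hs : ∀ k, s k * s k = 1 := fun k => by simp only [s]; split_ifs <;> ring
  let Dl : (Fin b → F) →ₗ[F] (Fin b → F) := v.constr F fun k => s k • v k
  have hD : ∀ k, Dl (v k) = s k • v k := fun k => v.constr_basis F _ k
  refine ⟨LinearMap.toMatrix' Dl, ?_, ?_, ?_⟩
  · rw [← LinearMap.toMatrix'_comp, ← LinearMap.toMatrix'_id]
    congr 1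
    exact v.ext fun k => by simp [hD, smul_smul, hs]
  · refine Matrix.toBilin'.injective ?_
    rw [← Matrix.toBilin'_comp, hg, Matrix.toLin'_toMatrix']
    refine LinearMap.ext_basis v v fun k l => ?_
    rw [LinearMap.BilinForm.comp_apply, hD, hD, map_smul, map_smul, LinearMap.smul_apply, smul_eq_mul, smul_eq_mul]
    rcases eq_or_ne k l with rfl | h
    · rw [← mul_assoc, hs, one_mul]
    · rw [hv k l h, mul_zero, mul_zero]
  · have hm : LinearMap.toMatrix v v (Dl + LinearMap.id) = Matrix.diagonal fun k => s k + 1 := by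
      ext i k
      rw [LinearMap.toMatrix_apply, LinearMap.add_apply, LinearMap.id_apply, hD, map_add, map_smul, v.repr_self,
        Matrix.diagonal_apply]
      rcases eq_or_ne i k with rfl | h
      · simp
      · simp [h]
    have h1 := Matrix.rank_eq_finrank_range_toLin (LinearMap.toMatrix v v (Dl + LinearMap.id)) v v
    rw [Matrix.toLin_toMatrix, hm, Matrix.rank_diagonal] at h1
    have h3 : (LinearMap.toMatrix' Dl + 1).rank = finrank F (LinearMap.range (Dl + LinearMap.id)) := by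
      rw [Matrix.rank, show (LinearMap.toMatrix' Dl + 1).mulVecLin = Dl + LinearMap.id from LinearMap.ext fun w => by
        simp [Matrix.add_mulVec, LinearMap.toMatrix'_mulVec]]
    rw [h3, ← h1, Fintype.card_subtype, show (Finset.univ.filter fun k => s k + 1 ≠ 0) =
      Finset.univ.filter fun k : Fin b => ¬ (k : ℕ) < j from Finset.filter_congr fun k _ => by
        simp only [s]
        split_ifs with hk
        · simp [hk]
        · simp [hk, one_add_one_eq_two, h2]]
    have := Finset.card_filter_add_card_filter_not (s := (Finset.univ : Finset (Fin b))) (fun k => (k : ℕ) < j)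
    rw [Finset.card_univ, Fintype.card_fin, Fin.card_filter_val_lt] at this
    omega

variable [Fintype F] {d b : ℕ} (e : (Fin d ⊕ Fin d) ≃ Fin 2 × Fin b) (P : GL (Fin d ⊕ Fin d) F)
variable (f₁ : (Fin 2 → F) → (Fin 2 → F) → F) (f₂ : (Fin b → F) → (Fin b → F) → F)

theorem exists_model (hS : Cfsg.Geo.IsTensorFormStructure id (Cfsg.sympForm d F) f₁ f₂ e P)
    (A : GL (Fin 2) F) (B : GL (Fin b) F)
    (hA : (A : Matrix (Fin 2) (Fin 2) F)ᵀ * Cfsg.Geo.gramMatrix f₁ * (A : Matrix (Fin 2) (Fin 2) F) =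
      Cfsg.Geo.gramMatrix f₁)
    (hB : (B : Matrix (Fin b) (Fin b) F)ᵀ * Cfsg.Geo.gramMatrix f₂ * (B : Matrix (Fin b) (Fin b) F) =
      Cfsg.Geo.gramMatrix f₂) :
    ∃ y ∈ Cfsg.spGL d F, y ∈ Cfsg.Geo.tensorProductSubgroup 2 b e P ∧
      coord e P (y : Matrix (Fin d ⊕ Fin d) (Fin d ⊕ Fin d) F) =
        (A : Matrix (Fin 2) (Fin 2) F) ⊗ₖ (B : Matrix (Fin b) (Fin b) F) := by
  obtain ⟨T, hT⟩ := coord_surjective e P ((A : Matrix (Fin 2) (Fin 2) F) ⊗ₖ (B : Matrix (Fin b) (Fin b) F))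
  obtain ⟨T', hT'⟩ :=
    coord_surjective e P (((A⁻¹ : GL (Fin 2) F) : Matrix (Fin 2) (Fin 2) F) ⊗ₖ ((B⁻¹ : GL (Fin b) F) : Matrix (Fin b) (Fin b) F))
  let y : GL (Fin d ⊕ Fin d) F :=
    ⟨T, T', coord_injective e P (by rw [coord_mul, hT, hT', ← Matrix.mul_kronecker_mul, ← Units.val_mul,
        ← Units.val_mul, mul_inv_cancel, mul_inv_cancel, Units.val_one, Units.val_one, Matrix.one_kronecker_one,
        coord_one]),
      coord_injective e P (by rw [coord_mul, hT, hT', ← Matrix.mul_kronecker_mul, ← Units.val_mul,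
        ← Units.val_mul, inv_mul_cancel, inv_mul_cancel, Units.val_one, Units.val_one, Matrix.one_kronecker_one,
        coord_one])⟩
  refine ⟨y, (sp_iff e P f₁ f₂ hS y).2 ?_, (mem_tensorProductSubgroup_iff e P y).2 ⟨A, B, hT⟩, hT⟩
  show (coord e P T)ᵀ * _ * coord e P T = _
  rw [hT, kron_transpose_mul, hA, hB]

omit [Fintype F] in
theorem conj_mem {x y : GL (Fin d ⊕ Fin d) F} (hy : y ∈ Cfsg.Geo.tensorProductSubgroup 2 b e P)
    (g : (Fin d ⊕ Fin d → F) ≃ₗ[F] (Fin d ⊕ Fin d → F)) (hgB : ∀ u v, sympBil d F (g u) (g v) = sympBil d F u v)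
    (hg : ∀ v, g (toEnd y v) = toEnd x (g v)) :
    ∃ g ∈ Cfsg.spGL d F, g⁻¹ * x * g ∈ Cfsg.Geo.tensorProductSubgroup 2 b e P := by
  refine ⟨ofEquiv g, mem_sp_iff.2 fun u v => by rw [toEnd_ofEquiv]; exact hgB u v, ?_⟩
  convert hy
  refine toEnd_injective (LinearMap.ext fun v => ?_)
  rw [toEnd_conj, toEnd_ofEquiv, show (g : (Fin d ⊕ Fin d → F) →ₗ[F] (Fin d ⊕ Fin d → F)) v = g v from rfl, ← hg]
  have h := congrArg (fun T => T (toEnd y v)) (toEnd_mul (ofEquiv g)⁻¹ (ofEquiv g)).symm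
  simp only [Module.End.mul_apply, inv_mul_cancel, toEnd_one, Module.End.one_apply, toEnd_ofEquiv] at h
  exact h

/-- All involutions are conjugate into the stabiliser when the first factor is a plane. -/
theorem involution_conj (h2 : (2 : F) ≠ 0) (hd : 0 < d) (hdb : d = b) (hf₁ : Cfsg.Geo.IsSymplecticForm f₁)
    (hf₂ : Cfsg.Geo.IsSymmetricForm f₂) (hS : Cfsg.Geo.IsTensorFormStructure id (Cfsg.sympForm d F) f₁ f₂ e P)
    {x : GL (Fin d ⊕ Fin d) F} (hx : x ∈ Cfsg.spGL d F) {z : F}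
    (hz : ((x ^ 2 : GL (Fin d ⊕ Fin d) F) : Matrix (Fin d ⊕ Fin d) (Fin d ⊕ Fin d) F) = z • 1) :
    ∃ g ∈ Cfsg.spGL d F, g⁻¹ * x * g ∈ Cfsg.Geo.tensorProductSubgroup 2 b e P := by
  classical
  have hA' := sympBil_isAlt d F
  have hX2 : ∀ v, toEnd x (toEnd x v) = z • v := fun v => by
    rw [← Module.End.mul_apply, ← toEnd_mul, ← pow_two, toEnd_apply, hz, Matrix.smul_mulVec, Matrix.one_mulVec]
  have hzz : z * z = 1 := by
    let e0 : Fin d ⊕ Fin d → F := Pi.single (Sum.inl ⟨0, hd⟩) 1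
    obtain ⟨w, hw⟩ : ∃ w, sympBil d F e0 w ≠ 0 := by
      by_contra! hc
      simpa [e0] using congrFun (sp_nondeg _ hc) (Sum.inl ⟨0, hd⟩)
    have := mem_sp hx (toEnd x e0) (toEnd x w)
    rw [mem_sp hx e0 w, hX2, hX2, map_smul, map_smul, LinearMap.smul_apply, smul_eq_mul, smul_eq_mul,
      ← mul_assoc] at this
    exact (mul_eq_right₀ hw).1 this
  rcases mul_self_eq_one_iff.1 hzz with rfl | rfl
  · have hXX : ∀ v, toEnd x (toEnd x v) = v := fun v => by rw [hX2, one_smul]
    obtain ⟨j, hj⟩ := even_finrank hA' (LinearMap.ker (toEnd x + LinearMap.id))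
      (eigen_nondeg h2 hA' sp_nondeg (mem_sp hx) hXX).2
    have hle := Submodule.finrank_le (LinearMap.ker (toEnd x + LinearMap.id))
    rw [finrank_sympSpace, hj] at hle
    obtain ⟨D, hDD, hDG, hDr⟩ := exists_sym_invol h2 hf₂ (show j ≤ b by omega)
    let Bu : GL (Fin b) F := ⟨D, D, hDD, hDD⟩
    obtain ⟨y, hy, hyT, hyc⟩ := exists_model e P f₁ f₂ hS 1 Bu
      (by rw [Units.val_one, Matrix.transpose_one, one_mul, mul_one]) hDG
    have hyy : ∀ v, toEnd y (toEnd y v) = v := fun v => by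
      have h : y * y = 1 := Units.ext (coord_injective e P (by
        rw [Units.val_mul, coord_mul, hyc, ← Matrix.mul_kronecker_mul, Units.val_one, one_mul,
          show ((Bu : GL (Fin b) F) : Matrix (Fin b) (Fin b) F) * Bu = 1 from hDD, Matrix.one_kronecker_one, Units.val_one,
          coord_one]))
      rw [← Module.End.mul_apply, ← toEnd_mul, h, toEnd_one, Module.End.one_apply]
    have hrank : finrank F (LinearMap.ker (toEnd y + LinearMap.id)) = j + j := by
      have h1 := LinearMap.finrank_range_add_finrank_ker (toEnd y + LinearMap.id)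
      rw [finrank_sympSpace] at h1
      have h3 : finrank F (LinearMap.range (toEnd y + LinearMap.id)) = 2 * (b - j) := by
        rw [← hDr, ← TensorDerange.rank_one_kron, Matrix.kronecker_add, Matrix.one_kronecker_one]
        rw [show (1 : Matrix (Fin 2) (Fin 2) F) ⊗ₖ D + 1 = coord e P ((y : Matrix (Fin d ⊕ Fin d) (Fin d ⊕ Fin d) F) + 1)
          from ?_, TensorDerange.rank_coord, Matrix.rank,
          show ((y : Matrix (Fin d ⊕ Fin d) (Fin d ⊕ Fin d) F) + 1).mulVecLin = toEnd y + LinearMap.id from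
            LinearMap.ext fun v => by simp [Matrix.add_mulVec]]
        · rw [show (1 : Matrix (Fin 2) (Fin 2) F) ⊗ₖ D = coord e P (y : Matrix (Fin d ⊕ Fin d) (Fin d ⊕ Fin d) F) from
            by rw [hyc]; rfl, ← coord_one e P]
          ext i k
          simp [coord, Matrix.mul_add, Matrix.add_mul, Matrix.one_apply]
      omega
    obtain ⟨g, hgB, hg⟩ := exists_intertwine h2 hA' sp_nondeg (mem_sp hx) hXX (mem_sp hy) hyy (hrank.trans hj.symm)
    exact conj_mem e P hyT g hgB hg
  · let Am : Matrix (Fin 2) (Fin 2) F := !![0, -1; 1, 0]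
    have hAm : Am * Am = -1 := by ext i k; fin_cases i <;> fin_cases k <;> simp [Am]
    let Au : GL (Fin 2) F := ⟨Am, -Am, by rw [Matrix.mul_neg, hAm, neg_neg], by rw [Matrix.neg_mul, hAm, neg_neg]⟩
    have hskew : Cfsg.Geo.gramMatrix f₁ 1 0 = -Cfsg.Geo.gramMatrix f₁ 0 1 := hf₁.skew _ _
    have hd0 : ∀ i, Cfsg.Geo.gramMatrix f₁ i i = 0 := fun i => hf₁.alternating _
    obtain ⟨y, hy, hyT, hyc⟩ := exists_model e P f₁ f₂ hS Au 1 (by
        show Amᵀ * Cfsg.Geo.gramMatrix f₁ * Am = Cfsg.Geo.gramMatrix f₁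
        ext i k
        fin_cases i <;> fin_cases k <;>
          simp [Am, Matrix.mul_apply, Fin.sum_univ_two, hd0 0, hd0 1, hskew])
      (by rw [Units.val_one, Matrix.transpose_one, one_mul, mul_one])
    have hyy : ∀ v, toEnd y (toEnd y v) = (-1 : F) • v := fun v => by
      have h : (y : Matrix (Fin d ⊕ Fin d) (Fin d ⊕ Fin d) F) * y = (-1 : F) • 1 := coord_injective e P (by
        rw [coord_mul, hyc, ← Matrix.mul_kronecker_mul, show ((Au : GL (Fin 2) F) : Matrix (Fin 2) (Fin 2) F) * Au =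
          (-1 : F) • 1 by rw [neg_smul, one_smul]; exact hAm, Units.val_one, one_mul, Matrix.smul_kronecker,
          Matrix.one_kronecker_one, coord_smul, coord_one])
      rw [toEnd_apply, toEnd_apply, Matrix.mulVec_mulVec, h, Matrix.smul_mulVec, Matrix.one_mulVec]
    have hskewMap : ∀ {w : GL (Fin d ⊕ Fin d) F}, w ∈ Cfsg.spGL d F →
        (∀ v, toEnd w (toEnd w v) = (-1 : F) • v) → Skew (sympBil d F) (toEnd w) (-1) := fun {w} hw hww =>
      ⟨fun u v => by
        have h := mem_sp hw (toEnd w u) v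
        rw [hww, neg_smul, one_smul, map_neg, LinearMap.neg_apply] at h
        rw [← h], hww⟩
    obtain ⟨a, ha⟩ := CfsgLib.Geo.SkewPlanes.exists_sys_top h2 (neg_ne_zero.2 one_ne_zero) (hskewMap hy hyy) hA'
      sp_nondeg (finrank_sympSpace d F)
    obtain ⟨a', ha'⟩ := CfsgLib.Geo.SkewPlanes.exists_sys_top h2 (neg_ne_zero.2 one_ne_zero) (hskewMap hx hX2) hA'
      sp_nondeg (finrank_sympSpace d F)
    obtain ⟨g, -, hgB, hg⟩ := CfsgLib.Geo.SkewPlanes.exists_intertwine hA' (hskewMap hy hyy) (hskewMap hx hX2)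
      (finrank_sympSpace d F) ha ha'
    exact conj_mem e P hyT g hgB hg

end CfsgLib.Geo.SympTensorInv
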