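/-
Unipotent elements stabilising decompositions into subspaces of equal dimension.
-/
import Cfsg.Agent.Lib.Geo.ElusivePairs
import Cfsg.Prelude.Def_GeometricClasses

namespace CfsgLib.Geo.PrimeAct

open Module

variable {F : Type*} [Field F] [Fintype F] {p : ℕ} [Fact p.Prime] [CharP F p]

omit [Fintype F] in
theorem sub_one_pow_pred {A : Type*} [Ring A] [Algebra F A] (f : A) :
    (f - 1) ^ (p - 1) = ∑ l ∈ Finset.range p, f ^ l := by
  have h : ((Polynomial.X : Polynomial F) - 1) ^ (p - 1) = ∑ l ∈ Finset.range p, Polynomial.X ^ l := by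
    refine mul_right_cancel₀ (Polynomial.X_sub_C_ne_zero (1 : F)) ?_
    rw [map_one, geom_sum_mul, ← pow_succ, Nat.sub_add_cancel (Fact.out : p.Prime).one_le, sub_pow_char, one_pow]
  have h2 := congrArg (Polynomial.aeval f) h
  simpa [map_sum] using h2

theorem part_of_decomposition {n a t : ℕ} (μ : Multiset ℕ) (N : (Fin n → F) →ₗ[F] (Fin n → F)) (hN : N ^ p = 0)
    (hT : NilType.HasType N μ) (hle : ∀ b ∈ μ, b ≤ p) (hsum : μ.sum = n) (hcount : μ.count p < a)
    (D : Fin t → Submodule F (Fin n → F)) (hD : Cfsg.Geo.IsMDecomposition a D) (σ : Equiv.Perm (Fin t))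
    (hσ : ∀ j, (D j).map (1 + N) = D (σ j)) : ∃ ν : Multiset ℕ, ν ≤ μ ∧ ν.sum = a := by
  classical
  have hp : p.Prime := Fact.out
  haveI : Nonempty (Fin t) := ⟨⟨0, by have := hD.two_le; omega⟩⟩
  set f := 1 + N with hf
  have hne : ∀ j, D j ≠ ⊥ := fun j hb => by
    have h := hD.finrank_eq j
    rw [hb, finrank_bot] at h
    have := hD.pos
    omega
  have hinj : Function.Injective D := hD.indep.injective hne
  haveI : Nontrivial (Fin n → F) := by
    obtain ⟨v, -, hv⟩ := (Submodule.ne_bot_iff _).1 (hne ⟨0, by have := hD.two_le; omega⟩)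
    exact ⟨⟨v, 0, hv⟩⟩
  have hfp : f ^ p = 1 := add_one_pow_char N hN
  have hmap : ∀ (l : ℕ) j, (D j).map (f ^ l) = D ((σ ^ l) j) := fun l => by
    induction l with
    | zero => intro j; rw [pow_zero, pow_zero]; exact Submodule.map_id _
    | succ l ih =>
      intro j
      rw [pow_succ', Module.End.mul_eq_comp, Submodule.map_comp, ih, hσ, pow_succ' σ, Equiv.Perm.mul_apply]
  have hσp : σ ^ p = 1 := Equiv.ext fun j => hinj (by
    rw [← hmap, hfp]
    exact Submodule.map_id _)
  by_cases htriv : ∀ j, σ j = j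
  · let j₀ : Fin t := ⟨0, by have := hD.two_le; omega⟩
    have hUW : IsCompl (D j₀) (⨆ i, ⨆ (_ : i ≠ j₀), D i) := by
      refine ⟨hD.indep j₀, codisjoint_iff.2 (eq_top_iff.2 ?_)⟩
      rw [← hD.iSup_eq_top]
      refine iSup_le fun i => ?_
      rcases eq_or_ne i j₀ with rfl | hi
      · exact le_sup_left
      · exact le_trans (le_iSup₂ (f := fun i (_ : i ≠ j₀) => D i) i hi) le_sup_right
    have hinv : ∀ S : Submodule F (Fin n → F), S.map f = S → ∀ v ∈ S, N v ∈ S := fun S hS v hv => by
      have h := S.sub_mem (hS.le ⟨v, hv, rfl⟩) hv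
      rwa [hf, LinearMap.add_apply, Module.End.one_apply, add_sub_cancel_left] at h
    have hU := hinv (D j₀) (by rw [hσ, htriv])
    have hW := hinv (⨆ i, ⨆ (_ : i ≠ j₀), D i) (by
      simp only [Submodule.map_iSup]
      exact iSup_congr fun i => iSup_congr fun _ => by rw [hσ, htriv])
    have hres : ∀ {S : Submodule F (Fin n → F)} (hS : ∀ v ∈ S, N v ∈ S), (N.restrict hS) ^ p = 0 := fun hS =>
      LinearMap.ext fun w => Subtype.ext (by rw [restrict_pow_apply, hN]; rfl)
    obtain ⟨α, hα, -, hαs⟩ := NilType.exists_type _ (hres hU)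
    obtain ⟨β, hβ, -, -⟩ := NilType.exists_type _ (hres hW)
    exact ⟨α, (hT.unique (NilType.type_add hUW hU hW hα hβ)) ▸ Multiset.le_add_right α β,
      hαs.trans (hD.finrank_eq j₀)⟩
  · exfalso
    rw [not_forall] at htriv
    obtain ⟨j, hj⟩ := htriv
    have horb : ∀ l, 0 < l → l < p → (σ ^ l) j ≠ j := by
      intro l hl hlp he
      have hfix : ∀ k : ℕ, ((σ ^ l) ^ k) j = j := fun k => by
        induction k with
        | zero => rfl
        | succ k ih => rw [pow_succ, Equiv.Perm.mul_apply, he, ih]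
      obtain ⟨k, -, hk⟩ := Nat.exists_mul_mod_eq_one_of_coprime
        ((hp.coprime_iff_not_dvd.2 (Nat.not_dvd_of_pos_of_lt hl hlp)).symm) hp.one_lt
      refine hj ?_
      have h := hfix k
      rwa [← pow_mul, ← Nat.mod_add_div (l * k) p, hk, pow_add, pow_mul, hσp, one_pow, mul_one, pow_one] at h
    have hker : LinearMap.ker (N ^ (p - 1)) ⊓ D j = ⊥ := by
      rw [eq_bot_iff]
      rintro v ⟨hv, hvj⟩
      have hv' : (N ^ (p - 1)) v = 0 := hv
      rw [show N = f - 1 by rw [hf, add_sub_cancel_left], sub_one_pow_pred (F := F) (p := p), LinearMap.sum_apply,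
        ← Finset.add_sum_erase _ _ (Finset.mem_range.2 hp.pos), pow_zero, Module.End.one_apply,
        add_eq_zero_iff_eq_neg] at hv'
      have hmem : v ∈ ⨆ i, ⨆ (_ : i ≠ j), D i := by
        rw [hv']
        refine Submodule.neg_mem _ (Submodule.sum_mem _ fun l hl => ?_)
        obtain ⟨hl0, hlp⟩ := Finset.mem_erase.1 hl
        exact Submodule.mem_iSup_of_mem ((σ ^ l) j) (Submodule.mem_iSup_of_mem
          (horb l (Nat.pos_of_ne_zero hl0) (Finset.mem_range.1 hlp)) (hmap l j ▸ ⟨v, hvj, rfl⟩))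
      exact (Submodule.disjoint_def.1 (hD.indep j)) v hvj hmem
    have h1 := Submodule.finrank_sup_add_finrank_inf_eq (LinearMap.ker (N ^ (p - 1))) (D j)
    rw [hker, finrank_bot, hT.2, hD.finrank_eq] at h1
    have h2 : finrank F ↥(LinearMap.ker (N ^ (p - 1)) ⊔ D j) ≤ n := by
      have := Submodule.finrank_le (LinearMap.ker (N ^ (p - 1)) ⊔ D j)
      rwa [finrank_pi, Fintype.card_fin] at this
    have h3 := NilType.kerDim_succ μ (p - 1)
    have h4 := NilType.countP_succ μ (p - 1)
    rw [Nat.sub_add_cancel hp.one_le] at h3 h4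
    rw [NilType.kerDim_of_le hle, hsum] at h3
    have h5 : μ.countP (fun b => p < b) = 0 := Multiset.countP_eq_zero.2 fun b hb => not_lt.2 (hle b hb)
    omega

theorem partition_of_stabilized (n a t : ℕ) (hat : n = a * t) (ha : 1 ≤ a) (ht : 2 ≤ t)
    (h : ∀ x : Matrix.SpecialLinearGroup (Fin n) F,
      (∃ z : F, ((x ^ p : Matrix.SpecialLinearGroup (Fin n) F) : Matrix (Fin n) (Fin n) F) = z • (1 : Matrix (Fin n) (Fin n) F)) →
      (∀ z : F, (x : Matrix (Fin n) (Fin n) F) ≠ z • (1 : Matrix (Fin n) (Fin n) F)) →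
      ∃ D : Fin t → Submodule F (Fin n → F), Cfsg.Geo.IsMDecomposition a D ∧
        ∃ σ : Equiv.Perm (Fin t), ∀ j, (D j).map (Matrix.toLin' (x : Matrix (Fin n) (Fin n) F)) = D (σ j)) :
    ∀ μ : Multiset ℕ, (∀ b ∈ μ, 0 < b ∧ b ≤ p) → μ.sum = n → μ.count p < a → ∃ ν : Multiset ℕ, ν ≤ μ ∧ ν.sum = a := by
  classical
  intro μ hμ hs hcount
  have hp : p.Prime := Fact.out
  have han : a ≤ n := hat ▸ Nat.le_mul_of_pos_right a (by omega)
  by_cases hones : ∀ b ∈ μ, b = 1
  · have hμ1 : μ = Multiset.replicate (Multiset.card μ) 1 := Multiset.eq_replicate_card.2 hones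
    rw [hμ1, Multiset.sum_replicate, smul_eq_mul, mul_one] at hs
    exact ⟨Multiset.replicate a 1, by rw [hμ1]; exact Multiset.replicate_le_replicate 1 |>.2 (by omega), by simp⟩
  · obtain ⟨N, hN, hT⟩ := NilType.exists_map_of_type (F := F) μ (fun b hb => (hμ b hb).1) hs (fun b hb => (hμ b hb).2)
    haveI : Nonempty (Fin n) := ⟨⟨0, by omega⟩⟩
    let e : Matrix (Fin n) (Fin n) F ≃ₐ[F] ((Fin n → F) →ₗ[F] (Fin n → F)) := Matrix.toLinAlgEquiv'
    have hf : (1 + N) ^ p = 1 := add_one_pow_char N hN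
    have hdet : LinearMap.det (1 + N) = 1 := by
      have h := congrArg LinearMap.det hf
      rw [map_pow, map_one] at h
      have h' : (LinearMap.det (1 + N) - 1) ^ p = 0 := by rw [sub_pow_char, h, one_pow, sub_self]
      exact sub_eq_zero.1 (pow_eq_zero_iff hp.ne_zero |>.1 h')
    have hM : (e.symm (1 + N)).det = 1 := by
      have h := LinearMap.det_toLin' (e.symm (1 + N))
      rw [show Matrix.toLin' (e.symm (1 + N)) = 1 + N from e.apply_symm_apply _, hdet] at h
      exact h.symm
    obtain ⟨D, hD, σ, hσ⟩ := h ⟨e.symm (1 + N), hM⟩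
      ⟨1, by
        show (e.symm (1 + N)) ^ p = _
        rw [← map_pow, hf, map_one, one_smul]⟩
      (fun z hz => by
        have h' := congrArg e (show e.symm (1 + N) = z • (1 : Matrix (Fin n) (Fin n) F) from hz)
        rw [e.apply_symm_apply, map_smul, map_one] at h'
        have hN' : N = (z - 1) • (1 : (Fin n → F) →ₗ[F] (Fin n → F)) := by
          refine LinearMap.ext fun v => ?_
          have hv : v + N v = z • v := LinearMap.congr_fun h' v
          show N v = (z - 1) • v
          rw [_root_.sub_smul, _root_.one_smul, ← hv]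
          abel
        have hz1 : z = 1 := by
          rw [hN', smul_pow, one_pow] at hN
          exact sub_eq_zero.1 (pow_eq_zero_iff hp.ne_zero |>.1 ((smul_eq_zero.1 hN).resolve_right one_ne_zero))
        rw [hz1, sub_self, zero_smul] at hN'
        apply hones
        intro b hb
        have h1 := hT.2 1
        have h2 := hT.2 2
        rw [hN', zero_pow one_ne_zero, LinearMap.ker_zero] at h1
        rw [hN', zero_pow two_ne_zero, LinearMap.ker_zero, h1] at h2
        have h3 : μ.countP (fun b => 1 < b) = 0 := by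
          have h4 : NilType.kerDim μ 2 = NilType.kerDim μ 1 + μ.countP (fun b => 1 < b) := NilType.kerDim_succ μ 1
          omega
        have := Multiset.countP_eq_zero.1 h3 b hb
        have := (hμ b hb).1
        omega)
    rw [show Matrix.toLin' (e.symm (1 + N)) = 1 + N from e.apply_symm_apply _] at hσ
    exact part_of_decomposition μ N hN hT (fun b hb => (hμ b hb).2) hs hcount D hD σ hσ

end CfsgLib.Geo.PrimeAct
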