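/-
Elements of the special linear group preserving some conjugate of a given unitary form up to a scalar.
-/
import Cfsg.Agent.Lib.Geo.UnitFormDerange
import Cfsg.Agent.Lib.Geo.FormDerangePositive

set_option autoImplicit false

namespace CfsgLib.Geo.UnitFormDer

open Matrix Module CfsgLib.Geo.PrimeAct CfsgLib.Geo.PrimeSp CfsgLib.Geo.FormDer CfsgLib.Classical.Herm

variable {F : Type*} [Field F] {σ : F →+* F}

/-- A hermitian form with a monomial Gram matrix. -/
theorem exists_perm_form {V : Type*} [AddCommGroup V] [Module F V] {ι : Type*} [Fintype ι] [DecidableEq ι]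
    (hσ : IsInvol σ) (b : Basis ι F V) (π : Equiv.Perm ι) (hπ : ∀ i, π (π i) = i) {w : ι → F}
    (hw0 : ∀ i, w i ≠ 0) (hw : ∀ i, σ (w i) = w (π i)) :
    ∃ B' : V →ₛₗ[σ] V →ₗ[F] F, IsHerm B' ∧ ∀ i j, B' (b i) (b j) = if π i = j then w i else 0 := by
  let B' : V →ₛₗ[σ] V →ₗ[F] F :=
    LinearMap.mk₂'ₛₗ σ (RingHom.id F) (fun u v => ∑ i, w i * σ (b.repr u i) * b.repr v (π i))
      (fun x y v => by simp only [map_add, Finsupp.add_apply, mul_add, add_mul, Finset.sum_add_distrib])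
      (fun c x v => by
        simp only [map_smul, Finsupp.smul_apply, smul_eq_mul, map_mul, Finset.mul_sum]
        exact Finset.sum_congr rfl fun i _ => by ring)
      (fun u x y => by simp only [map_add, Finsupp.add_apply, mul_add, Finset.sum_add_distrib])
      (fun c u x => by
        simp only [map_smul, Finsupp.smul_apply, smul_eq_mul, Finset.mul_sum, RingHom.id_apply]
        exact Finset.sum_congr rfl fun i _ => by ring)
  have hB : ∀ u v, B' u v = ∑ i, w i * σ (b.repr u i) * b.repr v (π i) := fun _ _ => rfl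
  have hval : ∀ u j, B' u (b j) = w (π j) * σ (b.repr u (π j)) := fun u j => by
    rw [hB, Finset.sum_eq_single (π j) (fun i _ hi => by
      rw [b.repr_self, Finsupp.single_eq_of_ne (fun h => hi (by rw [← h, hπ])), mul_zero]) (by simp)]
    rw [hπ, b.repr_self, Finsupp.single_eq_same, mul_one]
  refine ⟨B', ⟨hσ, fun u v => ?_, fun u hu => ?_⟩, fun i j => ?_⟩
  · rw [hB, hB, map_sum, ← Equiv.sum_comp π]
    refine Finset.sum_congr rfl fun i _ => ?_
    rw [map_mul, map_mul, hσ.invol, hw, hπ]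
    ring
  · refine b.ext_elem fun i => ?_
    have h := (hval u (π i)).symm.trans (hu _)
    rw [hπ, mul_eq_zero, IsInvol.apply_eq_zero_iff] at h
    simpa using h.resolve_left (hw0 i)
  · rw [hval, b.repr_self]
    by_cases h : π i = j
    · subst h
      rw [hπ, Finsupp.single_eq_same, map_one, mul_one, if_pos rfl]
    · rw [if_neg h, Finsupp.single_eq_of_ne (fun h' => h (by rw [← h', hπ])), map_zero, mul_zero]

/-- Similitudes are detected on a basis. -/
theorem sim_of_basis {V : Type*} [AddCommGroup V] [Module F V] {ι : Type*} [Fintype ι] (b : Basis ι F V)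
    {B' : V →ₛₗ[σ] V →ₗ[F] F} (T : V →ₗ[F] V) {μ : F}
    (h : ∀ i j, B' (T (b i)) (T (b j)) = μ * B' (b i) (b j)) (u v : V) : B' (T u) (T v) = μ * B' u v := by
  rw [← b.sum_repr u, ← b.sum_repr v]
  simp only [map_sum, LinearMap.sum_apply, map_smul, LinearMap.map_smulₛₗ, LinearMap.smul_apply, smul_eq_mul,
    Finset.mul_sum]
  exact Finset.sum_congr rfl fun i _ => Finset.sum_congr rfl fun j _ => by rw [h]; ring

variable {n : ℕ} [Fintype F] {B : (Fin n → F) →ₛₗ[σ] (Fin n → F) →ₗ[F] F}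

/-- An element preserving some hermitian form up to a scalar is conjugate into the given similarity group. -/
theorem exists_conj (h : IsHerm B) {f : (Fin n → F) → (Fin n → F) → F} (hB : ∀ u v, B u v = f v u) {x : GL (Fin n) F}
    (hC : ∀ a : F, a ≠ 0 → ∃ C : (Fin n → F) →ₗ[F] (Fin n → F), LinearMap.det C = a ∧
      ∀ v, C (toEnd x v) = toEnd x (C v))
    {B' : (Fin n → F) →ₛₗ[σ] (Fin n → F) →ₗ[F] F} (h' : IsHerm B') {μ : F} (hμ : μ ≠ 0)
    (hsim : ∀ u v, B' (toEnd x u) (toEnd x v) = μ * B' u v) :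
    ∃ g ∈ Cfsg.Geo.specialLinear (Fin n) F, g⁻¹ * x * g ∈ Cfsg.Geo.similarityGroup f := by
  obtain ⟨e, he⟩ := IsHerm.exists_isometry_of_finrank_eq h' h rfl
  refine conj_into_SL _ hC (ofEquiv e.symm) (mem_of_sim hB hμ fun u v => ?_)
  rw [toEnd_conj_equiv, toEnd_conj_equiv, he, hsim, ← he, e.apply_symm_apply, e.apply_symm_apply]

/-- Elements whose square is a square scalar. -/
theorem involution_sim (h : IsHerm B) (hn : 0 < n) {f : (Fin n → F) → (Fin n → F) → F} (hB : ∀ u v, B u v = f v u)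
    {x : GL (Fin n) F} {z : F} (hz : ((x ^ 2 : GL (Fin n) F) : Matrix (Fin n) (Fin n) F) = z • 1)
    (hsq : IsSquare z) :
    ∃ g ∈ Cfsg.Geo.specialLinear (Fin n) F, g⁻¹ * x * g ∈ Cfsg.Geo.similarityGroup f := by
  classical
  haveI : Nonempty (Fin n) := ⟨⟨0, hn⟩⟩
  have hT : ∀ v, toEnd x (toEnd x v) = z • v := fun v => by
    rw [← Module.End.mul_apply, ← toEnd_mul, ← pow_two, toEnd_apply, hz, Matrix.smul_mulVec, Matrix.one_mulVec]
  have hz0 : z ≠ 0 := by
    rintro rfl
    refine det_ne_zero (x ^ 2) ?_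
    rw [hz, zero_smul, Matrix.det_zero]
  obtain ⟨s, hs⟩ := hsq
  have hs0 : s ≠ 0 := fun h0 => hz0 (by rw [hs, h0, mul_zero])
  set μ := σ s * s with hμdef
  have hμ0 : μ ≠ 0 := mul_ne_zero ((IsInvol.apply_eq_zero_iff).not.2 hs0) hs0
  have hμσ : σ μ = μ := by rw [hμdef, map_mul, h.invol.invol, mul_comm]
  have hN : σ z * z = μ * μ := by rw [hμdef, hs, map_mul]; ring
  obtain ⟨k, m, b, h0, h1, hm⟩ := CfsgLib.Geo.InvClass.exists_pair_basis_norm (toEnd x) z hz0 hT
  let w : (Fin k × Fin 2) ⊕ Fin m → F := Sum.elim (fun p => if p.2 = 0 then 1 else μ) (fun _ => 1)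
  obtain ⟨B', hB', hval⟩ := exists_perm_form h.invol b 1 (fun _ => rfl) (w := w)
    (fun p => by rcases p with ⟨i, s'⟩ | p <;> simp only [w, Sum.elim_inl, Sum.elim_inr]
                 · split_ifs <;> simp [hμ0]
                 · exact one_ne_zero)
    (fun p => by rcases p with ⟨i, s'⟩ | p <;> simp only [w, Sum.elim_inl, Sum.elim_inr, Equiv.Perm.one_apply]
                 · split_ifs <;> simp [hμσ]
                 · exact map_one σ)
  refine exists_conj h hB (fun a _ => CfsgLib.Geo.InvClass.exists_commute_det (toEnd x) z hz0 hT a) hB' hμ0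
    (sim_of_basis b _ ?_)
  rintro (⟨i, s₁⟩ | p) (⟨j, s₂⟩ | p')
  · by_cases hij : i = j
    · subst hij
      fin_cases s₁ <;> fin_cases s₂ <;>
        simp [h0, h1, smul_left, smul_right, hval, w]
      linear_combination hN
    · fin_cases s₁ <;> fin_cases s₂ <;> simp [h0, h1, smul_left, smul_right, hval, hij]
  · obtain ⟨c, -, hc⟩ := hm p'
    fin_cases s₁ <;> simp [h0, h1, hc, smul_left, smul_right, hval]
  · obtain ⟨c, -, hc⟩ := hm p
    fin_cases s₂ <;> simp [h0, h1, hc, smul_left, smul_right, hval]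
  · obtain ⟨c, hcz, hc⟩ := hm p
    obtain ⟨c', -, hc'⟩ := hm p'
    rw [hc, hc', smul_left, smul_right, hval]
    rcases eq_or_ne p p' with rfl | hne
    · have e : c' = c := smul_left_injective F (b.ne_zero (Sum.inr p)) (hc'.symm.trans hc)
      have hcs : σ c * c = μ := by
        rcases mul_self_eq_mul_self_iff.1 (hcz.trans hs) with rfl | rfl
        · rfl
        · rw [map_neg, neg_mul_neg]
      rw [e, ← mul_assoc, hcs]
    · rw [if_neg (by simpa using hne), mul_zero, mul_zero, mul_zero]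

omit [Fintype F] in
theorem det_pairs {k : ℕ} {V : Type*} [AddCommGroup V] [Module F V] (T : V →ₗ[F] V) {z : F}
    (b : Basis ((Fin k × Fin 2) ⊕ Fin 0) F V) (h0 : ∀ i, T (b (Sum.inl (i, 0))) = b (Sum.inl (i, 1)))
    (h1 : ∀ i, T (b (Sum.inl (i, 1))) = z • b (Sum.inl (i, 0))) : LinearMap.det T = (-z) ^ k := by
  classical
  let e : (Fin k × Fin 2) ⊕ Fin 0 ≃ Fin 2 × Fin k := (Equiv.sumEmpty _ _).trans (Equiv.prodComm _ _)
  rw [← LinearMap.det_toMatrix (b.reindex e), show LinearMap.toMatrix (b.reindex e) (b.reindex e) T =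
    Matrix.blockDiagonal (fun _ : Fin k => !![(0 : F), z; 1, 0]) from ?_, Matrix.det_blockDiagonal]
  · simp [Matrix.det_fin_two]
  ext ⟨s, i⟩ ⟨s', j⟩
  rw [LinearMap.toMatrix_apply, Basis.reindex_apply, Basis.repr_reindex_apply, Matrix.blockDiagonal_apply]
  simp only [e, Equiv.symm_trans_apply, Equiv.prodComm_symm, Equiv.prodComm_apply, Prod.swap_prod_mk,
    Equiv.sumEmpty_symm_apply]
  by_cases hij : i = j
  · subst hij
    fin_cases s <;> fin_cases s' <;> simp [h0, h1]
  · fin_cases s <;> fin_cases s' <;> simp [h0, h1, hij, Ne.symm hij]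

/-- When the square scalar has to be a square. -/
theorem isSquare_of_det (hn : 0 < n) {x : GL (Fin n) F} (hx : x ∈ Cfsg.Geo.specialLinear (Fin n) F) {z : F}
    (hz : ((x ^ 2 : GL (Fin n) F) : Matrix (Fin n) (Fin n) F) = z • 1) (hneg : IsSquare (-1 : F))
    (hv : padicValNat 2 n ≤ padicValNat 2 (Fintype.card F - 1)) : IsSquare z := by
  by_cases hR : ringChar F = 2
  · exact FiniteField.isSquare_of_char_two hR z
  haveI : Nonempty (Fin n) := ⟨⟨0, hn⟩⟩
  have hT : ∀ v, toEnd x (toEnd x v) = z • v := fun v => by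
    rw [← Module.End.mul_apply, ← toEnd_mul, ← pow_two, toEnd_apply, hz, Matrix.smul_mulVec, Matrix.one_mulVec]
  have hz0 : z ≠ 0 := by
    rintro rfl
    refine det_ne_zero (x ^ 2) ?_
    rw [hz, zero_smul, Matrix.det_zero]
  obtain ⟨k, m, b, h0, h1, hm⟩ := CfsgLib.Geo.InvClass.exists_pair_basis_norm (toEnd x) z hz0 hT
  rcases Nat.eq_zero_or_pos m with rfl | hm0
  swap
  · obtain ⟨c, hc, -⟩ := hm ⟨0, hm0⟩
    exact ⟨c, hc.symm⟩
  have hnk : n = k * 2 := by
    rw [← Module.finrank_fin_fun F (n := n), finrank_eq_card_basis b]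
    simp
  have hdet := det_pairs (toEnd x) b h0 h1
  rw [det_toEnd, mem_SL_iff.1 hx] at hdet
  set N := Fintype.card F - 1
  have hN : 0 < N := Nat.sub_pos_of_lt Fintype.one_lt_card
  have hN1 : (-z) ^ N = 1 := FiniteField.pow_card_sub_one_eq_one _ (neg_ne_zero.2 hz0)
  have hg : (-z) ^ Nat.gcd k N = 1 := pow_gcd_eq_one.2 ⟨hdet.symm, hN1⟩
  obtain ⟨t, ht⟩ := Nat.gcd_dvd_right k N
  have hk0 : k ≠ 0 := by omega
  have ht0 : t ≠ 0 := fun h => by rw [h, mul_zero] at ht; omega
  have heven : 2 ∣ t := by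
    by_contra hodd
    have hg0 : Nat.gcd k N ≠ 0 := (Nat.gcd_pos_of_pos_left N (Nat.pos_of_ne_zero hk0)).ne'
    have hle : padicValNat 2 (Nat.gcd k N) ≤ padicValNat 2 k :=
      (padicValNat_dvd_iff_le hk0).1 (pow_padicValNat_dvd.trans (Nat.gcd_dvd_left k N))
    rw [ht, padicValNat.mul hg0 ht0, padicValNat.eq_zero_of_not_dvd hodd, hnk,
      padicValNat.mul hk0 two_ne_zero, padicValNat_self] at hv
    omega
  obtain ⟨t', rfl⟩ := heven
  have hhalf : Fintype.card F / 2 = Nat.gcd k N * t' := by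
    have h := FiniteField.odd_card_of_char_ne_two (F := F) hR
    have e : Nat.gcd k N * (2 * t') = 2 * (Nat.gcd k N * t') := by ring
    omega
  have hsqneg : IsSquare (-z) := (FiniteField.isSquare_iff hR (neg_ne_zero.2 hz0)).2 (by
    rw [hhalf, pow_mul, hg, one_pow])
  simpa using hneg.mul hsqneg

/-- Elements of order three or five in dimension three or five. -/
theorem small_order_sim {r : ℕ} [Fact r.Prime] {B : (Fin r → F) →ₛₗ[σ] (Fin r → F) →ₗ[F] F} (h : IsHerm B)
    {f : (Fin r → F) → (Fin r → F) → F} (hB : ∀ u v, B u v = f v u) (hr : r = 3 ∨ r = 5) (hrF : (r : F) ≠ 0)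
    (hr0 : r ∣ Nat.card (fixedSub σ) - 1) (hr1' : ¬ r ^ 2 ∣ Fintype.card F - 1)
    {x : GL (Fin r) F} (hx : x ∈ Cfsg.Geo.specialLinear (Fin r) F) {z : F}
    (hz : ((x ^ r : GL (Fin r) F) : Matrix (Fin r) (Fin r) F) = z • 1) :
    ∃ g ∈ Cfsg.Geo.specialLinear (Fin r) F, g⁻¹ * x * g ∈ Cfsg.Geo.similarityGroup f := by
  classical
  have hr2 : r ≠ 2 := by omega
  have hr1 : r ∣ Fintype.card F - 1 := by
    rw [← Nat.card_eq_fintype_card, h.invol.card_sq, ← one_pow 2, Nat.sq_sub_sq]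
    exact hr0.trans (Dvd.intro_left _ rfl)
  obtain ⟨b, d, hbd, hd, hprod⟩ := exists_diagonal hr2 hrF hr1 hr1' hx hz
  obtain ⟨π, μ, hμ, hπ, hpair⟩ := exists_pairing hr hr1 hd hprod
  have hdσ : ∀ i, σ (d i) = d i := fun i => by
    obtain ⟨t, ht⟩ := hr0
    have h2 := IsInvol.card_ge_two (σ := σ)
    rw [h.invol.apply_eq_pow, show Nat.card (fixedSub σ) = r * t + 1 by omega, pow_succ, pow_mul, hd, one_pow,
      one_mul]
  obtain ⟨B', hB', hval⟩ := exists_perm_form h.invol b π hπ (w := fun _ => (1 : F)) (fun _ => one_ne_zero)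
    (fun _ => map_one σ)
  refine exists_conj h hB (fun a _ => diag_centraliser (Fact.out : r.Prime).pos b hbd a) hB' hμ
    (sim_of_basis b _ fun i j => ?_)
  rw [hbd, hbd, smul_left, smul_right, hval, hdσ]
  split_ifs with hij
  · rw [mul_one, mul_one, ← hij, hpair]
  · ring

end CfsgLib.Geo.UnitFormDer
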