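/-
Elements of prime order of unitary groups fixing no pair of complementary totally isotropic subspaces.
-/
import Cfsg.Agent.Lib.Geo.UnitPairMaximal
import Cfsg.Agent.Lib.Geo.UnitFormDerange
import Cfsg.Agent.Lib.Geo.OrthFormDerange

set_option autoImplicit false

namespace CfsgLib.Geo.UnitPairDer

open Matrix Module CfsgLib.Geo.PrimeAct CfsgLib.Geo.PrimeSp CfsgLib.Geo.FormDer CfsgLib.Classical.Herm
open CfsgLib.Geo.UnitPair (IsPair eq_zero_of_perp)

variable {F : Type*} [Field F] {n m : ℕ}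

section Abstract

variable {σ : F →+* F} {B : (Fin n → F) →ₛₗ[σ] (Fin n → F) →ₗ[F] F} {L₀ L₁ : Submodule F (Fin n → F)}

/-- Dual bases of a pair. -/
theorem exists_dual_basis [Finite F] (h : IsHerm B) (hp : IsPair B m L₀ L₁) :
    ∃ b : Basis (Fin m ⊕ Fin m) F (Fin n → F), (∀ i, b (Sum.inl i) ∈ L₀) ∧ (∀ i, b (Sum.inr i) ∈ L₁) ∧
      ∀ p p', B (b p) (b p') = if Equiv.sumComm (Fin m) (Fin m) p = p' then 1 else 0 := by
  classical
  let e := Module.finBasisOfFinrankEq F L₀ hp.rank₀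
  choose w hw using fun j => CfsgLib.Geo.UnitPair.exists_dual h hp (e.coord j)
  let v : Fin m ⊕ Fin m → (Fin n → F) := Sum.elim (fun i => (e i : Fin n → F)) fun j => (w j : Fin n → F)
  have hwe : ∀ i j, B (w j : Fin n → F) (e i : Fin n → F) = if i = j then 1 else 0 := fun i j => by
    rw [hw, Basis.coord_apply, e.repr_self, Finsupp.single_apply]
  have hgram : ∀ p p', B (v p) (v p') = if Equiv.sumComm (Fin m) (Fin m) p = p' then 1 else 0 := by
    rintro (i | i) (j | j)
    · simpa [v] using hp.iso₀ _ (e i).2 _ (e j).2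
    · simp only [v, Sum.elim_inl, Sum.elim_inr, Equiv.sumComm_apply, Sum.swap_inl, Sum.inr.injEq]
      rw [← h.symm, hwe]
      split_ifs <;> simp
    · simp only [v, Sum.elim_inl, Sum.elim_inr, Equiv.sumComm_apply, Sum.swap_inr, Sum.inl.injEq]
      rw [hwe]
      simp [eq_comm]
    · simpa [v] using hp.iso₁ _ (w i).2 _ (w j).2
  have hli : LinearIndependent F v := by
    rw [Fintype.linearIndependent_iff]
    intro c hc p
    have h2 := congrArg (B (v ((Equiv.sumComm (Fin m) (Fin m)).symm p))) hc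
    simp only [map_sum, map_smul, hgram, Equiv.apply_symm_apply, smul_eq_mul, mul_ite, mul_one, mul_zero,
      map_zero] at h2
    rwa [Finset.sum_ite_eq, if_pos (Finset.mem_univ _)] at h2
  have hdim : finrank F (Fin n → F) = m + m := by
    rw [← Submodule.finrank_add_eq_of_isCompl hp.compl, hp.rank₀, hp.rank₁]
  haveI : Nonempty (Fin m ⊕ Fin m) ∨ m = 0 := by
    rcases Nat.eq_zero_or_pos m with h | h
    · exact Or.inr h
    · exact Or.inl ⟨Sum.inl ⟨0, h⟩⟩
  rcases Nat.eq_zero_or_pos m with rfl | hm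
  · refine ⟨((Module.finBasisOfFinrankEq F (Fin n → F) hdim).reindex finSumFinEquiv.symm), fun i => i.elim0,
      fun i => i.elim0, fun p => ?_⟩
    rcases p with i | i <;> exact i.elim0
  haveI : Nonempty (Fin m ⊕ Fin m) := ⟨Sum.inl ⟨0, hm⟩⟩
  refine ⟨basisOfLinearIndependentOfCardEqFinrank hli (by simp [hdim]), ?_, ?_, ?_⟩ <;>
    simp only [coe_basisOfLinearIndependentOfCardEqFinrank]
  · exact fun i => (e i).2
  · exact fun i => (w i).2
  · exact hgram

/-- An element fixing both subspaces has no isolated anisotropic eigenline. -/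
theorem no_line (h : IsHerm B) (hp : IsPair B m L₀ L₁) {T : (Fin n → F) →ₗ[F] (Fin n → F)}
    (h0 : ∀ a ∈ L₀, T a ∈ L₀) (h1 : ∀ a ∈ L₁, T a ∈ L₁) {c : F} {v : Fin n → F} (hTv : T v = c • v)
    (hv : B v v ≠ 0) (huniq : ∀ a, T a = c • a → ∃ s : F, s • v = a) : False := by
  obtain ⟨a, ha, b, hb, hab⟩ := Submodule.mem_sup.1 (hp.compl.sup_eq_top.ge (Submodule.mem_top : v ∈ ⊤))
  have hz : T a - c • a = 0 := by
    refine Submodule.disjoint_def.1 hp.compl.disjoint _ (L₀.sub_mem (h0 a ha) (L₀.smul_mem _ ha)) ?_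
    rw [show T a - c • a = -(T b - c • b) by
      rw [← hab, map_add, smul_add] at hTv
      linear_combination (norm := abel) hTv]
    exact L₁.neg_mem (L₁.sub_mem (h1 b hb) (L₁.smul_mem _ hb))
  have hzb : T b = c • b := by
    rw [← hab, map_add, sub_eq_zero.1 hz, smul_add] at hTv
    exact add_left_cancel hTv
  obtain ⟨s, hs⟩ := huniq a (sub_eq_zero.1 hz)
  obtain ⟨t, ht⟩ := huniq b hzb
  have key : ∀ (s : F) (x : Fin n → F), s • v = x → B x x = 0 → x = 0 := fun s x hs hx => by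
    rw [← hs, IsHerm.smul_self] at hx
    rcases eq_or_ne s 0 with rfl | hs0
    · rw [← hs, zero_smul]
    · exact absurd hx (mul_ne_zero (mul_ne_zero hs0 (IsInvol.apply_eq_zero_iff.not.2 hs0)) hv)
  rw [key s a hs (hp.iso₀ a ha a ha), key t b ht (hp.iso₁ b hb b hb), add_zero] at hab
  exact hv (by rw [← hab, zero_left])

/-- An element interchanging the subspaces has no isolated eigenline for a square root of its square. -/
theorem no_swap (hp : IsPair B m L₀ L₁) (hm : 2 ≤ m) {T : (Fin n → F) →ₗ[F] (Fin n → F)}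
    (hsw : ∀ a ∈ L₀, T a ∈ L₁) {c : F} (hc : c ≠ 0) (hTT : ∀ v, T (T v) = (c * c) • v) {v : Fin n → F}
    (huniq : ∀ a, T a = c • a → ∃ s : F, s • v = a) : False := by
  let φ : L₀ →ₗ[F] (Fin n → F) := (T ∘ₗ L₀.subtype) + c • L₀.subtype
  have hinj : Function.Injective φ := by
    rw [injective_iff_map_eq_zero]
    intro a ha
    have hca : c • (a : Fin n → F) = 0 := Submodule.disjoint_def.1 hp.compl.disjoint _ (L₀.smul_mem _ a.2) (by
      rw [show c • (a : Fin n → F) = - T a from eq_neg_of_add_eq_zero_right ha]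
      exact L₁.neg_mem (hsw _ a.2))
    exact Subtype.ext ((smul_eq_zero.1 hca).resolve_left hc)
  have hle : LinearMap.range φ ≤ Submodule.span F {v} := by
    rintro _ ⟨a, rfl⟩
    obtain ⟨s, hs⟩ := huniq (φ a) (by
      show T (T a + c • (a : Fin n → F)) = c • (T a + c • (a : Fin n → F))
      rw [map_add, map_smul, hTT, smul_add, smul_smul, add_comm])
    exact Submodule.mem_span_singleton.2 ⟨s, hs⟩
  have h1 := Submodule.finrank_mono hle
  have h2 : finrank F (Submodule.span F {v}) ≤ 1 := by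
    rcases eq_or_ne v 0 with rfl | hv
    · rw [Submodule.span_zero_singleton, finrank_bot]; omega
    · rw [finrank_span_singleton hv]
  rw [LinearMap.finrank_range_of_inj hinj, hp.rank₀] at h1
  omega

/-- A transvection fixes or interchanges no pair. -/
theorem no_transvection (h : IsHerm B) (hp : IsPair B m L₀ L₁) (hm : 2 ≤ m) {T : (Fin n → F) →ₗ[F] (Fin n → F)}
    {u : Fin n → F} (hu : u ≠ 0) {t : F} (ht : t ≠ 0) (hT : ∀ v, T v = v + (t * B u v) • u)
    (hcase : ((∀ a ∈ L₀, T a ∈ L₀) ∧ ∀ a ∈ L₁, T a ∈ L₁) ∨ ∀ a ∈ L₀, T a ∈ L₁) : False := by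
  rcases hcase with ⟨h0, h1⟩ | hsw
  · have key : ∀ {M M' : Submodule F (Fin n → F)}, IsPair B m M M' → (∀ a ∈ M, T a ∈ M) → u ∈ M := by
      intro M M' hp' hM
      by_contra hum
      have hperp : ∀ a ∈ M, B u a = 0 := fun a ha => by
        by_contra hne
        refine hum ?_
        have h' := M.sub_mem (hM a ha) ha
        rw [hT, add_sub_cancel_left] at h'
        exact (Submodule.smul_mem_iff M (mul_ne_zero ht hne)).1 h'
      obtain ⟨a, ha, b, hb, hab⟩ := Submodule.mem_sup.1 (hp'.compl.sup_eq_top.ge (Submodule.mem_top : u ∈ ⊤))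
      have hb0 : b = 0 := eq_zero_of_perp h hp'.symm hb fun w hw => by
        have h' := hperp w hw
        rwa [← hab, add_left, hp'.iso₀ a ha w hw, zero_add] at h'
      rw [hb0, add_zero] at hab
      exact hum (hab ▸ ha)
    exact hu (Submodule.disjoint_def.1 hp.compl.disjoint u (key hp h0) (key hp.symm h1))
  · let φ : L₀ →ₗ[F] (Fin n → F) := (T ∘ₗ L₀.subtype) - L₀.subtype
    have hinj : Function.Injective φ := by
      rw [injective_iff_map_eq_zero]
      intro a ha
      exact Subtype.ext (Submodule.disjoint_def.1 hp.compl.disjoint _ a.2 (by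
        rw [← sub_eq_zero.1 (show T a - (a : Fin n → F) = 0 from ha)]; exact hsw _ a.2))
    have hle : LinearMap.range φ ≤ Submodule.span F {u} := by
      rintro _ ⟨a, rfl⟩
      exact Submodule.mem_span_singleton.2 ⟨t * B u a, by simp [φ, hT]⟩
    have h1 := Submodule.finrank_mono hle
    rw [LinearMap.finrank_range_of_inj hinj, hp.rank₀, finrank_span_singleton hu] at h1
    omega

/-- A free block of dimension at most the order cannot fix both subspaces. -/
theorem no_block [Finite F] {r : ℕ} [Fact r.Prime] (h : IsHerm B) (hp : IsPair B m L₀ L₁)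
    {T : (Fin n → F) →ₗ[F] (Fin n → F)} (hT : ∀ u v, B (T u) (T v) = B u v) (hTr : T ^ r = 1) (hrF : (r : F) ≠ 0)
    (h0 : ∀ a ∈ L₀, T a ∈ L₀) (h1 : ∀ a ∈ L₁, T a ∈ L₁) (hne : restSp r T ≠ ⊥)
    (hle : finrank F (restSp r T) ≤ orderOf (Nat.card F : ZMod r)) : False := by
  have hd0 := orderOf_dvd_finrank_inf_rest hTr hrF L₀ h0
  have hd1 := orderOf_dvd_finrank_inf_rest hTr hrF L₁ h1
  have hpow : ∀ (M : Submodule F (Fin n → F)), (∀ a ∈ M, T a ∈ M) → ∀ (k : ℕ), ∀ a ∈ M, (T ^ k) a ∈ M := by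
    intro M hM k
    induction k with
    | zero => intro a ha; exact ha
    | succ k ih => intro a ha; rw [pow_succ', Module.End.mul_apply]; exact hM _ (ih a ha)
  have hsum : ∀ (M : Submodule F (Fin n → F)), (∀ a ∈ M, T a ∈ M) → ∀ a ∈ M, orbitSum r T a ∈ M := fun M hM a ha => by
    rw [orbitSum, LinearMap.sum_apply]
    exact M.sum_mem fun k _ => hpow M hM k a ha
  have hsup : L₀ ⊓ restSp r T ⊔ L₁ ⊓ restSp r T = restSp r T := le_antisymm (sup_le inf_le_right inf_le_right)
    fun v hv => by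
      obtain ⟨a, ha, b, hb, hab⟩ := Submodule.mem_sup.1 (hp.compl.sup_eq_top.ge (Submodule.mem_top : v ∈ ⊤))
      have hv0 : orbitSum r T v = 0 := hv
      rw [← hab, map_add] at hv0
      have ha0 : orbitSum r T a = 0 := Submodule.disjoint_def.1 hp.compl.disjoint _ (hsum _ h0 a ha) (by
        rw [eq_neg_of_add_eq_zero_left hv0]; exact L₁.neg_mem (hsum _ h1 b hb))
      rw [ha0, zero_add] at hv0
      exact Submodule.mem_sup.2 ⟨a, ⟨ha, ha0⟩, b, ⟨hb, hv0⟩, hab⟩
  have hdim := Submodule.finrank_sup_add_finrank_inf_eq (L₀ ⊓ restSp r T) (L₁ ⊓ restSp r T)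
  rw [hsup] at hdim
  have hbot : (L₀ ⊓ restSp r T) ⊓ (L₁ ⊓ restSp r T) = ⊥ :=
    le_bot_iff.1 ((inf_le_inf inf_le_left inf_le_left).trans hp.compl.inf_eq_bot.le)
  rw [hbot, finrank_bot, add_zero] at hdim
  have hpos : 0 < finrank F (restSp r T) := Nat.pos_of_ne_zero fun h => hne (Submodule.finrank_eq_zero.1 h)
  have hle0 : restSp r T ≤ L₀ ∨ restSp r T ≤ L₁ := by
    rcases Nat.eq_zero_or_pos (finrank F ↥(L₀ ⊓ restSp r T)) with e | e
    · exact Or.inr (by rw [← hsup, Submodule.finrank_eq_zero.1 e, bot_sup_eq]; exact inf_le_left)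
    · refine Or.inl ?_
      have := Nat.le_of_dvd e hd0
      rw [← hsup, Submodule.finrank_eq_zero.1 (show finrank F ↥(L₁ ⊓ restSp r T) = 0 by omega), sup_bot_eq]
      exact inf_le_left
  obtain ⟨w, hw, hw0⟩ := Submodule.exists_mem_ne_zero_of_ne_bot hne
  refine hw0 (h.nondeg w fun v => ?_)
  obtain ⟨a, b, ha, hb, rfl⟩ := exists_split hTr hrF v
  rw [map_add, CfsgLib.Geo.UnitFormDer.fix_rest_orth hrF hT hw ha, zero_add]
  rcases hle0 with hle0 | hle0
  · exact hp.iso₀ w (hle0 hw) b (hle0 hb)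
  · exact hp.iso₁ w (hle0 hw) b (hle0 hb)

end Abstract

/-! ### The matrix group -/

variable [Fintype F] {q : ℕ}

/-- The two cases for a member of the stabiliser. -/
theorem stab_cases {D : Fin 2 → Submodule F (Fin n → F)} {y : GL (Fin n) F}
    (hy : y ∈ Cfsg.Geo.decompositionStabilizer D) :
    ((∀ a ∈ D 0, toEnd y a ∈ D 0) ∧ ∀ a ∈ D 1, toEnd y a ∈ D 1) ∨
      ((∀ a ∈ D 0, toEnd y a ∈ D 1) ∧ ∀ a ∈ D 1, toEnd y a ∈ D 0) := by
  obtain ⟨τ, hτ⟩ := hy
  have hmaps : ∀ i, ∀ a ∈ D i, toEnd y a ∈ D (τ i) := fun i a ha => hτ i ▸ Submodule.mem_map_of_mem ha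
  have key : ∀ τ : Equiv.Perm (Fin 2), (τ 0 = 0 ∧ τ 1 = 1) ∨ (τ 0 = 1 ∧ τ 1 = 0) := by decide
  rcases key τ with ⟨e0, e1⟩ | ⟨e0, e1⟩
  · exact Or.inl ⟨fun a ha => e0 ▸ hmaps 0 a ha, fun a ha => e1 ▸ hmaps 1 a ha⟩
  · exact Or.inr ⟨fun a ha => e0 ▸ hmaps 0 a ha, fun a ha => e1 ▸ hmaps 1 a ha⟩

/-- An element of odd order modulo scalars in the stabiliser fixes both members. -/
theorem stab_fix {D : Fin 2 → Submodule F (Fin n → F)} (hdisj : Disjoint (D 0) (D 1)) (hne : D 0 ≠ ⊥)
    {y : GL (Fin n) F} (hy : y ∈ Cfsg.Geo.decompositionStabilizer D) {r : ℕ} (hr : Odd r) {z : F} (hz : z ≠ 0)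
    (hyz : ∀ v, (toEnd y ^ r) v = z • v) :
    (∀ a ∈ D 0, toEnd y a ∈ D 0) ∧ ∀ a ∈ D 1, toEnd y a ∈ D 1 := by
  rcases stab_cases hy with h | ⟨h01, h10⟩
  · exact h
  obtain ⟨a, ha, ha0⟩ := Submodule.exists_mem_ne_zero_of_ne_bot hne
  have hk : ∀ k, ∀ a ∈ D 0, (toEnd y ^ (2 * k + 1)) a ∈ D 1 := fun k => by
    induction k with
    | zero => intro a ha; simpa using h01 a ha
    | succ k ih =>
      intro a ha
      rw [show 2 * (k + 1) + 1 = (2 * k + 1).succ.succ by omega, pow_succ', pow_succ', Module.End.mul_apply,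
        Module.End.mul_apply]
      exact h01 _ (h10 _ (ih a ha))
  obtain ⟨k, rfl⟩ := hr
  have h' := Submodule.disjoint_def.1 hdisj (z • a) ((D 0).smul_mem _ ha) (hyz a ▸ hk k a ha)
  exact absurd ((smul_eq_zero.1 h').resolve_left hz) ha0

variable (hF : Fintype.card F = q ^ 2)

theorem isPair_of_decomp {k : ℕ} {D : Fin 2 → Submodule F (Fin n → F)} (hD : Cfsg.Geo.IsMDecomposition k D)
    (hts : ∀ i, Cfsg.Geo.IsTotallySingularFor (Cfsg.hermForm n F q) (D i)) :
    IsPair (hermStd n hF) k (D 0) (D 1) := by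
  refine ⟨⟨hD.indep.pairwiseDisjoint (show (0 : Fin 2) ≠ 1 by decide), codisjoint_iff.2 ?_⟩, hD.finrank_eq 0,
    hD.finrank_eq 1, fun x hx y hy => hts 0 y hy x hx, fun x hx y hy => hts 1 y hy x hx⟩
  rw [eq_top_iff, ← hD.iSup_eq_top]
  refine iSup_le fun i => ?_
  fin_cases i
  · exact le_sup_left
  · exact le_sup_right

theorem mem_GU_iff {x : GL (Fin n) F} :
    x ∈ Cfsg.GU n F q ↔ ∀ u v, hermStd n hF (toEnd x u) (toEnd x v) = hermStd n hF u v :=
  ⟨fun hx u v => hx v u, fun hx u v => hx v u⟩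

theorem conj_GU {x g : GL (Fin n) F} (hx : x ∈ Cfsg.GU n F q)
    (hg : g ∈ Cfsg.GU n F q ⊓ Cfsg.Geo.specialLinear (Fin n) F) :
    ∀ u v, hermStd n hF (toEnd (g⁻¹ * x * g) u) (toEnd (g⁻¹ * x * g) v) = hermStd n hF u v :=
  (mem_GU_iff hF).1 (mul_mem (mul_mem (inv_mem hg.1) hx) hg.1)

omit [Fintype F] in
theorem gg (g : GL (Fin n) F) (v : Fin n → F) : toEnd g (toEnd g⁻¹ v) = v ∧ toEnd g⁻¹ (toEnd g v) = v := by
  simp [Matrix.mulVec_mulVec]

/-- Transvections are derangements. -/
theorem transvection_derangement {p : ℕ} [Fact p.Prime] [CharP F p] {L₀ L₁ : Submodule F (Fin n → F)}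
    (hp : IsPair (hermStd n hF) m L₀ L₁) (hm : 2 ≤ m) :
    ∃ x ∈ Cfsg.GU n F q ⊓ Cfsg.Geo.specialLinear (Fin n) F, x ^ p = 1 ∧
      (∀ z : F, (x : Matrix (Fin n) (Fin n) F) ≠ z • 1) ∧
      ∀ g ∈ Cfsg.GU n F q ⊓ Cfsg.Geo.specialLinear (Fin n) F,
        ((∀ a ∈ L₀, toEnd (g⁻¹ * x * g) a ∈ L₀) ∧ ∀ a ∈ L₁, toEnd (g⁻¹ * x * g) a ∈ L₁) ∨
          (∀ a ∈ L₀, toEnd (g⁻¹ * x * g) a ∈ L₁) → False := by
  classical
  have h := hermStd_isHerm (n := n) hF
  obtain ⟨u, hu, hu0⟩ := Submodule.exists_mem_ne_zero_of_ne_bot (show L₀ ≠ ⊥ by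
    intro e
    have := hp.rank₀
    rw [e, finrank_bot] at this
    omega)
  obtain ⟨t, ht0, ht⟩ := h.invol.exists_skew
  have huu : hermStd n hF u u = 0 := hp.iso₀ u hu u hu
  let T : (Fin n → F) →ₗ[F] (Fin n → F) := LinearMap.transvection (t • hermStd n hF u) u
  have hT : ∀ v, T v = v + (t * hermStd n hF u v) • u := fun v => by
    simp [T, LinearMap.transvection.apply]
  have hdet : LinearMap.det T = 1 := by
    rw [LinearMap.transvection.det, LinearMap.smul_apply, huu, smul_zero, add_zero]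
  let x : GL (Fin n) F := Matrix.GeneralLinearGroup.mkOfDetNeZero (LinearMap.toMatrix' T)
    (by rw [LinearMap.det_toMatrix', hdet]; exact one_ne_zero)
  have hxT : toEnd x = T := Matrix.toLin'_toMatrix' T
  have hxU : x ∈ Cfsg.GU n F q := (mem_GU_iff hF).2 fun a b => by
    rw [hxT, hT, hT]
    simp only [map_add, LinearMap.add_apply, smul_left, smul_right, map_mul, huu, ht, h.symm]
    ring
  have hk : ∀ (k : ℕ) v, (T ^ k) v = v + ((k : F) * (t * hermStd n hF u v)) • u := fun k => by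
    induction k with
    | zero => intro v; simp
    | succ k ih =>
      intro v
      rw [pow_succ', Module.End.mul_apply, ih, hT, map_add, smul_right, huu, mul_zero, add_zero, add_assoc, ← add_smul,
        Nat.cast_succ]
      congr 2
      ring
  refine ⟨x, ⟨hxU, mem_SL_iff.2 (by rw [← det_toEnd, hxT, hdet])⟩, ?_, fun z hz => ?_, fun g hg hc => ?_⟩
  · rw [← toEnd_eq_one_iff, toEnd_pow, hxT]
    exact LinearMap.ext fun v => by rw [hk]; simp
  · obtain ⟨v, hv⟩ := h.exists_apply_eq_one hu0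
    have hTz : ∀ w, T w = z • w := fun w => by
      rw [← hxT, toEnd_apply, hz, Matrix.smul_mulVec, Matrix.one_mulVec]
    have e1 := hTz u
    rw [hT, huu, mul_zero, zero_smul, add_zero] at e1
    have hz1 : z = 1 := smul_left_injective F hu0 (e1.symm.trans (one_smul F u).symm)
    have e2 := hTz v
    rw [hT, hv, mul_one, hz1, one_smul, add_eq_left, smul_eq_zero] at e2
    exact e2.elim ht0 hu0
  · refine no_transvection h hp hm (u := toEnd g⁻¹ u) (fun e => hu0 ?_) ht0 (fun v => ?_) hc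
    · rw [← (gg g u).1, show toEnd g⁻¹ u = 0 from e, map_zero]
    · rw [toEnd_conj, hxT, hT, map_add, map_smul, (gg g v).2]
      congr 3
      conv_lhs => rw [← (gg g u).1]
      exact (mem_GU_iff hF).1 hg.1 _ v

/-- Diagonal elements with an isolated entry. -/
theorem exists_diag_elem (d : Fin n → F) (hN : ∀ i, d i ^ (q + 1) = 1) (hd : ∏ i, d i = 1) (i₀ : Fin n)
    (huniq : ∀ i, d i = d i₀ → i = i₀) :
    ∃ x ∈ Cfsg.GU n F q ⊓ Cfsg.Geo.specialLinear (Fin n) F, (x : Matrix (Fin n) (Fin n) F) = Matrix.diagonal d ∧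
      ∀ g ∈ Cfsg.GU n F q ⊓ Cfsg.Geo.specialLinear (Fin n) F, ∃ v, hermStd n hF v v ≠ 0 ∧
        toEnd (g⁻¹ * x * g) v = d i₀ • v ∧ ∀ a, toEnd (g⁻¹ * x * g) a = d i₀ • a → ∃ s : F, s • v = a := by
  classical
  have hq : q ≠ 0 := by have := CfsgLib.Classical.two_le_of_card_sq hF; omega
  let x : GL (Fin n) F := Matrix.GeneralLinearGroup.mkOfDetNeZero (Matrix.diagonal d)
    (by rw [Matrix.det_diagonal, hd]; exact one_ne_zero)
  have hxd : (x : Matrix (Fin n) (Fin n) F) = Matrix.diagonal d := rfl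
  have hxv : ∀ v i, toEnd x v i = d i * v i := fun v i => by rw [toEnd_apply, hxd, Matrix.mulVec_diagonal]
  have hxU : x ∈ Cfsg.GU n F q := (mem_GU_iff hF).2 fun a b => by
    simp only [hermStd_apply, Cfsg.hermForm, hxv, mul_pow]
    exact Finset.sum_congr rfl fun i _ => by linear_combination (b i * a i ^ q) * ((pow_succ' (d i) q).symm.trans (hN i))
  refine ⟨x, ⟨hxU, mem_SL_iff.2 (by rw [hxd, Matrix.det_diagonal, hd])⟩, hxd, fun g hg => ?_⟩
  refine ⟨toEnd g⁻¹ (Pi.single i₀ 1), ?_, ?_, fun a ha => ⟨toEnd g a i₀, ?_⟩⟩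
  · rw [(mem_GU_iff hF).1 (inv_mem hg.1), hermStd_apply, Cfsg.hermForm, Finset.sum_eq_single i₀
      (fun i _ hi => by simp [hi]) (by simp)]
    simp
  · rw [toEnd_conj, (gg g _).1, ← map_smul]
    congr 1
    funext i
    rw [hxv, Pi.smul_apply, smul_eq_mul]
    rcases eq_or_ne i i₀ with rfl | hi
    · rfl
    · simp [hi]
  · have h' := congrArg (toEnd g) ha
    rw [toEnd_conj, (gg g _).1, map_smul] at h'
    rw [← map_smul]
    conv_rhs => rw [← (gg g a).2]
    congr 1
    funext i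
    rw [Pi.smul_apply, smul_eq_mul]
    rcases eq_or_ne i i₀ with rfl | hi
    · simp
    · have h2 := congrFun h' i
      rw [hxv, Pi.smul_apply, smul_eq_mul, ← sub_eq_zero, ← sub_mul, mul_eq_zero, sub_eq_zero] at h2
      simp [hi, h2.resolve_left fun e => hi (huniq i e)]

include hF in
/-- An element of order `r` supported on `b` coordinates. -/
theorem exists_block_elem {r : ℕ} [Fact r.Prime] (hrF : (r : F) ≠ 0) (hr1 : ¬ r ∣ Fintype.card F - 1) {b : ℕ}
    (hb : Odd b) (hbn : b ≤ n) (hrb : r ∣ q ^ b + 1) :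
    ∃ x ∈ Cfsg.GU n F q ⊓ Cfsg.Geo.specialLinear (Fin n) F, x ^ r = 1 ∧
      (∀ z : F, (x : Matrix (Fin n) (Fin n) F) ≠ z • 1) ∧
      ∀ g : GL (Fin n) F, restSp r (toEnd (g⁻¹ * x * g)) ≠ ⊥ ∧ finrank F (restSp r (toEnd (g⁻¹ * x * g))) ≤ b := by
  classical
  have hrp : r.Prime := Fact.out
  have hry : r ∣ Nat.card (Cfsg.GU b F q) := by
    rw [card_GU hF]
    refine dvd_mul_of_dvd_right ?_ _
    refine (?_ : r ∣ _).trans (Finset.dvd_prod_of_mem _ (Finset.mem_range.2 (by have := hb.pos; omega : b - 1 < b)))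
    rw [if_pos (by obtain ⟨k, rfl⟩ := hb; simp), Nat.sub_add_cancel hb.pos]
    exact hrb
  obtain ⟨y, hy⟩ := exists_prime_orderOf_dvd_card' r hry
  set Y : Matrix (Fin b) (Fin b) F := ((y : GL (Fin b) F) : Matrix (Fin b) (Fin b) F)
  have hYr : Y ^ r = 1 := by
    rw [← Units.val_pow_eq_pow_val, ← SubgroupClass.coe_pow, ← hy, pow_orderOf_eq_one]; rfl
  have hY1 : Y ≠ 1 := fun e => by
    have h1 : y = 1 := Subtype.ext (Units.ext e)
    rw [h1, orderOf_one] at hy
    exact hrp.ne_one hy.symm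
  let e : Fin b ⊕ Fin (n - b) ≃ Fin n := finSumFinEquiv.trans (finCongr (by omega))
  let X : Matrix (Fin n) (Fin n) F := Matrix.reindexAlgEquiv F F e (Matrix.fromBlocks Y 0 0 1)
  have hXr : X ^ r = 1 := by
    rw [← map_pow, Matrix.fromBlocks_diagonal_pow, hYr, one_pow, Matrix.fromBlocks_one, map_one]
  have hdetX : X.det = 1 := root_trivial hr1 (by rw [← Matrix.det_pow, hXr, Matrix.det_one])
  let x : GL (Fin n) F := Matrix.GeneralLinearGroup.mkOfDetNeZero X (by rw [hdetX]; exact one_ne_zero)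
  have hxX : (x : Matrix (Fin n) (Fin n) F) = X := rfl
  have hxv : ∀ v p, toEnd x v (e p) = ((Matrix.fromBlocks Y 0 0 1) *ᵥ (v ∘ e)) p := fun v p => by
    rw [toEnd_apply, hxX]
    simp only [X, Matrix.reindexAlgEquiv_apply, Matrix.reindex_apply, Matrix.submatrix_mulVec_equiv,
      Function.comp_apply, Equiv.symm_apply_apply, Equiv.symm_symm]
  have hxU : x ∈ Cfsg.GU n F q := by
    intro u v
    show Cfsg.hermForm n F q (toEnd x u) (toEnd x v) = Cfsg.hermForm n F q u v
    simp only [Cfsg.hermForm]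
    rw [← e.sum_comp, ← e.sum_comp (fun i => u i * v i ^ q), Fintype.sum_sum_type, Fintype.sum_sum_type]
    simp only [hxv, Matrix.fromBlocks_mulVec, Sum.elim_inl, Sum.elim_inr, Matrix.zero_mulVec, add_zero, zero_add,
      Matrix.one_mulVec]
    congr 1
    exact y.2 ((u ∘ e) ∘ Sum.inl) ((v ∘ e) ∘ Sum.inl)
  have hxr : x ^ r = 1 := Units.ext (by rw [Units.val_pow_eq_pow_val, hxX, hXr]; rfl)
  have hXne : ∀ z : F, X ≠ z • 1 := fun z hz => by
    have hzr : z = 1 := by
      refine root_trivial hr1 ?_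
      have hp' : X ^ r = (z • (1 : Matrix (Fin n) (Fin n) F)) ^ r := by rw [hz]
      rw [hXr, smul_pow, one_pow] at hp'
      have h' := congrFun (congrFun hp' (e (Sum.inl ⟨0, hb.pos⟩))) (e (Sum.inl ⟨0, hb.pos⟩))
      simp only [Matrix.one_apply_eq, Matrix.smul_apply, smul_eq_mul, mul_one] at h'
      exact h'.symm
    rw [hzr, one_smul, ← map_one (Matrix.reindexAlgEquiv F F e), ← Matrix.fromBlocks_one] at hz
    exact hY1 (Matrix.fromBlocks_inj.1 ((Matrix.reindexAlgEquiv F F e).injective hz)).1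
  refine ⟨x, ⟨hxU, mem_SL_iff.2 hdetX⟩, hxr, hXne, fun g => ?_⟩
  obtain ⟨hyr, hrest⟩ := CfsgLib.Geo.OrthFormDer.rest_conj (g := g) hxr hrF
  have hfix : n - b ≤ finrank F (fixSp (toEnd x)) := by
    let J : (Fin (n - b) → F) →ₗ[F] fixSp (toEnd x) :=
      LinearMap.codRestrict _ (LinearMap.funLeft F F e.symm ∘ₗ
        { toFun := fun w => Sum.elim (0 : Fin b → F) w
          map_add' := fun w w' => by funext p; cases p <;> simp
          map_smul' := fun c w => by funext p; cases p <;> simp }) fun w => by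
        refine mem_fixSp.2 (funext fun i => ?_)
        obtain ⟨p, rfl⟩ := e.surjective i
        show toEnd x (LinearMap.funLeft F F e.symm (Sum.elim (0 : Fin b → F) w)) (e p) =
          LinearMap.funLeft F F e.symm (Sum.elim (0 : Fin b → F) w) (e p)
        rw [hxv, show (LinearMap.funLeft F F e.symm (Sum.elim (0 : Fin b → F) w)) ∘ e = Sum.elim (0 : Fin b → F) w
          from funext fun p => by simp [LinearMap.funLeft_apply]]
        cases p <;> simp [Matrix.fromBlocks_mulVec, LinearMap.funLeft_apply]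
    have hJ : Function.Injective J := fun w w' hw => funext fun i => by
      have := congrFun (congrArg Subtype.val hw) (e (Sum.inr i))
      simpa [J, LinearMap.funLeft_apply] using this
    have := LinearMap.finrank_le_finrank_of_injective hJ
    rwa [finrank_pi, Fintype.card_fin] at this
  have hsum := finrank_rest hxr hrF
  rw [Fintype.card_fin] at hsum
  refine ⟨fun hbot => hXne 1 ?_, by omega⟩
  rw [hbot, finrank_bot] at hrest
  have htop : fixSp (toEnd x) = ⊤ := Submodule.eq_top_of_finrank_eq (by rw [finrank_pi, Fintype.card_fin]; omega)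
  rw [one_smul, ← hxX, ← Units.val_one]
  exact congrArg Units.val (toEnd_eq_one_iff.1 (LinearMap.ext fun v => mem_fixSp.1 (htop ▸ Submodule.mem_top)))

include hF in
/-- The orders of the general linear and the unitary group measure the index. -/
theorem card_GL_dvd_GU {k : ℕ} (hk : 0 < k) {D : Fin 2 → Submodule F (Fin n → F)}
    (hD : Cfsg.Geo.IsMDecomposition k D)
    (hts : ∀ i, Cfsg.Geo.IsTotallySingularFor (Cfsg.hermForm n F q) (D i)) {r : ℕ}
    (hΩ : r ∣ (Cfsg.Geo.decompositionStabilizer D).relIndex (Cfsg.GU n F q ⊓ Cfsg.Geo.specialLinear (Fin n) F)) :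
    r * Nat.card (GL (Fin k) F) ∣ Nat.card (Cfsg.GU n F q) := by
  classical
  have h := hermStd_isHerm (n := n) hF
  have hp := isPair_of_decomp hF hD hts
  have hn : 0 < n := by
    have h1 := Submodule.finrank_le (D 0)
    rw [hD.finrank_eq, Module.finrank_fin_fun] at h1
    omega
  haveI : Nontrivial (Fin n → F) := Module.nontrivial_of_finrank_pos (R := F) (by rw [Module.finrank_fin_fun]; omega)
  obtain ⟨b, hb0, hb1, hgram⟩ := exists_dual_basis h hp
  have hσ := powHom_isInvol hF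
  let Cb : GL (Fin k) F → Matrix (Fin k) (Fin k) F := fun A =>
    (((A⁻¹ : GL (Fin k) F) : Matrix (Fin k) (Fin k) F).map (powHom hF))ᵀ
  have hC1 : Cb 1 = 1 := by
    simp only [Cb, inv_one, Units.val_one, Matrix.map_one _ (map_zero _) (map_one _), Matrix.transpose_one]
  have hCmul : ∀ A A', Cb (A * A') = Cb A * Cb A' := fun A A' => by
    simp only [Cb, _root_.mul_inv_rev, Units.val_mul, Matrix.map_mul, Matrix.transpose_mul]
  let ψ₀ : GL (Fin k) F →* Matrix (Fin n) (Fin n) F :=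
    { toFun := fun A => LinearMap.toMatrixAlgEquiv' (Matrix.toLinAlgEquiv b
        (Matrix.fromBlocks (A : Matrix (Fin k) (Fin k) F) 0 0 (Cb A)))
      map_one' := by rw [hC1, Units.val_one, Matrix.fromBlocks_one, map_one, map_one]
      map_mul' := fun A A' => by
        rw [← map_mul, ← map_mul, Matrix.fromBlocks_multiply, hCmul, Units.val_mul]
        simp }
  let ψ := ψ₀.toHomUnits
  have hψ : ∀ A p, toEnd (ψ A) (b p) =
      ∑ p', Matrix.fromBlocks (A : Matrix (Fin k) (Fin k) F) 0 0 (Cb A) p' p • b p' := fun A p => by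
    rw [toEnd_apply]
    show (ψ₀ A) *ᵥ b p = _
    rw [show ψ₀ A = LinearMap.toMatrix' (Matrix.toLinAlgEquiv b
      (Matrix.fromBlocks (A : Matrix (Fin k) (Fin k) F) 0 0 (Cb A))) from rfl, LinearMap.toMatrix'_mulVec]
    exact Matrix.toLinAlgEquiv_self b _ _
  have hinj : Function.Injective ψ := fun A A' hAA => by
    have h1 : ψ₀ A = ψ₀ A' := congrArg Units.val hAA
    have h2 := (Matrix.toLinAlgEquiv b).injective (LinearMap.toMatrixAlgEquiv'.injective h1)
    exact Units.ext (Matrix.fromBlocks_inj.1 h2).1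
  have hcoord : ∀ a p, hermStd n hF (b p) a = b.repr a (Equiv.sumComm (Fin k) (Fin k) p) := fun a p => by
    conv_lhs => rw [← b.sum_repr a, map_sum]
    simp only [map_smul, hgram, smul_eq_mul, mul_ite, mul_one, mul_zero]
    rw [Finset.sum_ite_eq, if_pos (Finset.mem_univ _)]
  have hform : ∀ a a', hermStd n hF a a' =
      ∑ p, powHom hF (b.repr a p) * b.repr a' (Equiv.sumComm (Fin k) (Fin k) p) := fun a a' => by
    conv_lhs => rw [← b.sum_repr a, map_sum, LinearMap.sum_apply]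
    exact Finset.sum_congr rfl fun p _ => by rw [smul_left, hcoord]
  have hψU : ∀ A, ψ A ∈ Cfsg.GU n F q := fun A => by
    refine (mem_GU_iff hF).2 fun u v => ?_
    have hrepr : ∀ p p', b.repr (toEnd (ψ A) (b p)) p' =
        Matrix.fromBlocks (A : Matrix (Fin k) (Fin k) F) 0 0 (Cb A) p' p := fun p p' => by
      rw [hψ, b.repr_sum_self]
    have hb' : ∀ p p', hermStd n hF (toEnd (ψ A) (b p)) (toEnd (ψ A) (b p')) = hermStd n hF (b p) (b p') := by
      intro p p'
      rw [hform, hgram]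
      simp only [hrepr]
      have hinv : ∀ i j, ∑ l, ((A⁻¹ : GL (Fin k) F) : Matrix (Fin k) (Fin k) F) i l * (A : Matrix (Fin k) (Fin k) F) l j =
          if i = j then 1 else 0 := fun i j => by
        rw [← Matrix.mul_apply, ← Units.val_mul, inv_mul_cancel, Units.val_one, Matrix.one_apply]
      rcases p with i | i <;> rcases p' with j | j <;>
        simp only [Fintype.sum_sum_type, Cb, Equiv.sumComm_apply, Sum.swap_inl, Sum.swap_inr,
          Matrix.fromBlocks_apply₁₁, Matrix.fromBlocks_apply₁₂, Matrix.fromBlocks_apply₂₁,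
          Matrix.fromBlocks_apply₂₂, Matrix.zero_apply, map_zero, mul_zero, zero_mul, Finset.sum_const_zero,
          add_zero, zero_add, Matrix.transpose_apply, Matrix.map_apply, hσ.invol, Sum.inl.injEq, Sum.inr.injEq,
          reduceCtorEq, if_false]
      · calc ∑ l, powHom hF ((A : Matrix (Fin k) (Fin k) F) l i) *
              powHom hF (((A⁻¹ : GL (Fin k) F) : Matrix (Fin k) (Fin k) F) j l)
            = powHom hF (∑ l, ((A⁻¹ : GL (Fin k) F) : Matrix (Fin k) (Fin k) F) j l *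
                (A : Matrix (Fin k) (Fin k) F) l i) := by
              rw [map_sum]
              exact Finset.sum_congr rfl fun l _ => by rw [map_mul, mul_comm]
          _ = if i = j then 1 else 0 := by
              rw [hinv]
              split_ifs with h1 h2 h2
              · exact map_one _
              · exact absurd h1.symm h2
              · exact absurd h2.symm h1
              · exact map_zero _
      · exact hinv i j
    rw [← b.sum_repr u, ← b.sum_repr v]
    simp only [map_sum, LinearMap.sum_apply, map_smul, LinearMap.map_smulₛₗ, LinearMap.smul_apply, smul_eq_mul,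
      hb']
  have hψD : ∀ A, ψ A ∈ Cfsg.Geo.decompositionStabilizer D := fun A => by
    have hinjA : Function.Injective (toEnd (ψ A)) := fun a a' e => by
      have := congrArg (toEnd (ψ A)⁻¹) e
      rwa [(gg _ a).2, (gg _ a').2] at this
    refine ⟨1, fun i => Submodule.eq_of_le_of_finrank_eq ?_ ?_⟩
    · rintro _ ⟨a, ha, rfl⟩
      show toEnd (ψ A) a ∈ D i
      rw [← b.sum_repr a, map_sum]
      refine Submodule.sum_mem _ fun p _ => ?_
      rw [map_smul]
      fin_cases i
      · rcases p with j | j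
        · refine (D 0).smul_mem _ ?_
          rw [hψ]
          refine (D 0).sum_mem fun p' _ => ?_
          rcases p' with l | l
          · exact (D 0).smul_mem _ (hb0 l)
          · simp
        · have : b.repr a (Sum.inr j) = 0 := by
            have := hcoord a (Sum.inl j)
            rw [Equiv.sumComm_apply, Sum.swap_inl] at this
            rw [← this]
            exact hp.iso₀ _ (hb0 j) a ha
          rw [this, zero_smul]
          exact zero_mem _
      · rcases p with j | j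
        · have : b.repr a (Sum.inl j) = 0 := by
            have := hcoord a (Sum.inr j)
            rw [Equiv.sumComm_apply, Sum.swap_inr] at this
            rw [← this]
            exact hp.iso₁ _ (hb1 j) a ha
          rw [this, zero_smul]
          exact zero_mem _
        · refine (D 1).smul_mem _ ?_
          rw [hψ]
          refine (D 1).sum_mem fun p' _ => ?_
          rcases p' with l | l
          · simp
          · exact (D 1).smul_mem _ (hb1 l)
    · exact (Submodule.equivMapOfInjective _ hinjA _).finrank_eq.symm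
  set S := Cfsg.Geo.specialLinear (Fin n) F
  set U := Cfsg.GU n F q
  let dt : GL (Fin k) F →* Fˣ := Matrix.GeneralLinearGroup.det.comp ψ
  have hker : Nat.card dt.ker ∣ Nat.card (Cfsg.Geo.decompositionStabilizer D ⊓ (U ⊓ S) : Subgroup (GL (Fin n) F)) := by
    refine Subgroup.card_dvd_of_injective ((ψ.comp dt.ker.subtype).codRestrict _ fun a =>
      ⟨hψD _, hψU _, MonoidHom.mem_ker.1 a.2⟩) fun a a' e => ?_
    exact Subtype.ext (hinj (congrArg Subtype.val e))
  let dU : U →* Fˣ := Matrix.GeneralLinearGroup.det.comp U.subtype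
  have hrange : dt.range ≤ dU.range := by
    rintro _ ⟨A, rfl⟩
    exact ⟨⟨ψ A, hψU A⟩, rfl⟩
  obtain ⟨t, ht⟩ := hker
  obtain ⟨s, hs⟩ := hΩ
  obtain ⟨e, he⟩ := Subgroup.card_dvd_of_le hrange
  have hA : Nat.card (GL (Fin k) F) = Nat.card dt.ker * Nat.card dt.range := by
    rw [← Subgroup.card_mul_index dt.ker, Subgroup.index_ker]
  have hB : Nat.card U = Nat.card (U ⊓ S : Subgroup (GL (Fin n) F)) * Nat.card dU.range := by
    rw [← Subgroup.card_mul_index dU.ker, Subgroup.index_ker, show dU.ker = S.subgroupOf U from rfl,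
      ← Subgroup.inf_subgroupOf_left S U, Nat.card_congr (Subgroup.subgroupOfEquivOfLe inf_le_left).toEquiv]
  have h3 : Nat.card (U ⊓ S : Subgroup (GL (Fin n) F)) =
      Nat.card (Cfsg.Geo.decompositionStabilizer D ⊓ (U ⊓ S) : Subgroup (GL (Fin n) F)) * (r * s) := by
    rw [← hs, ← Subgroup.card_mul_index ((Cfsg.Geo.decompositionStabilizer D).subgroupOf (U ⊓ S))]
    congr 1
    rw [← Subgroup.inf_subgroupOf_right, Nat.card_congr (Subgroup.subgroupOfEquivOfLe inf_le_right).toEquiv]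
  exact ⟨t * s * e, by rw [hA, hB, h3, ht, he]; ring⟩

include hF in
theorem index_cases {r : ℕ} [Fact r.Prime] (hrq : ¬ r ∣ q) {k : ℕ} (hk : 0 < k) (hn : n = 2 * k)
    {D : Fin 2 → Submodule F (Fin n → F)} (hD : Cfsg.Geo.IsMDecomposition k D)
    (hts : ∀ i, Cfsg.Geo.IsTotallySingularFor (Cfsg.hermForm n F q) (D i))
    (hΩ : r ∣ (Cfsg.Geo.decompositionStabilizer D).relIndex (Cfsg.GU n F q ⊓ Cfsg.Geo.specialLinear (Fin n) F)) :
    ∃ j, Odd j ∧ j ≤ n ∧ r ∣ q ^ j + 1 := by
  classical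
  have hrp : r.Prime := Fact.out
  have hdiv := card_GL_dvd_GU hF hk hD hts hΩ
  rw [card_GU hF, CfsgLib.Geo.OrthFormDer.card_GL_split (q ^ 2) hF, hn,
    CfsgLib.Geo.OrthFormDer.prod_parity (fun i => if Even (i - 1) then q ^ i + 1 else q ^ i - 1) k |>.symm.trans
      (Finset.prod_congr rfl fun i _ => by rw [Nat.add_sub_cancel]) |>.symm] at hdiv
  rw [Finset.prod_congr rfl (fun l (_ : l ∈ Finset.range k) => if_pos (show Even (2 * l + 1 - 1) by simp)),
    Finset.prod_congr rfl (fun l (_ : l ∈ Finset.range k) => if_neg (show ¬ Even (2 * (l + 1) - 1) by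
      rw [Nat.not_even_iff_odd]; exact ⟨l, by omega⟩)),
    Finset.prod_congr rfl (fun l (_ : l ∈ Finset.range k) => show (q ^ 2) ^ (l + 1) - 1 = q ^ (2 * (l + 1)) - 1 by
      rw [← pow_mul])] at hdiv
  set P := ∏ l ∈ Finset.range k, (q ^ (2 * (l + 1)) - 1)
  have hq2 := CfsgLib.Classical.two_le_of_card_sq hF
  have hP : 0 < P := Finset.prod_pos fun l _ => Nat.sub_pos_of_lt (one_lt_pow₀ (by omega) (by omega))
  have hX : r ∣ q ^ (2 * k * (2 * k - 1) / 2) * ∏ l ∈ Finset.range k, (q ^ (2 * l + 1) + 1) := by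
    refine Nat.dvd_of_mul_dvd_mul_right hP ?_
    refine (Dvd.intro (∏ i : Fin k, (q ^ 2) ^ (i : ℕ)) (by ring)).trans (hdiv.trans (dvd_of_eq (by ring)))
  obtain ⟨l, hl, hlr⟩ := (hrp.prime.dvd_finset_prod_iff _).1
    ((hrp.dvd_mul.1 hX).resolve_left fun h => hrq (hrp.dvd_of_dvd_pow h))
  rw [Finset.mem_range] at hl
  exact ⟨2 * l + 1, ⟨l, rfl⟩, by omega, hlr⟩

end CfsgLib.Geo.UnitPairDer
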