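/-
Involutions of unitary groups fixing a pair of complementary totally isotropic subspaces.
-/
import Cfsg.Agent.Lib.Geo.UnitPairDerange
import Cfsg.Agent.Lib.Geo.UnitFormPositive

set_option autoImplicit false

namespace CfsgLib.Geo.UnitPairDer

open Matrix Module CfsgLib.Geo.PrimeAct CfsgLib.Geo.PrimeSp CfsgLib.Geo.FormDer CfsgLib.Classical.Herm
open CfsgLib.Geo.UnitPair (IsPair eq_zero_of_perp)

variable {F : Type*} [Field F] {n m : ℕ}

section Abstract

variable {σ : F →+* F} {B : (Fin n → F) →ₛₗ[σ] (Fin n → F) →ₗ[F] F}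

/-- A non-degenerate subspace of even dimension has a hyperbolic basis. -/
theorem exists_hyp [Finite F] (h : IsHerm B) {W : Submodule F (Fin n → F)}
    (hW : ∀ x ∈ W, (∀ y ∈ W, B x y = 0) → x = 0) {k : ℕ} (hk : finrank F W = k + k) :
    ∃ c : Basis (Fin k ⊕ Fin k) F W,
      ∀ p p', B (c p : Fin n → F) (c p' : Fin n → F) = if Equiv.sumComm (Fin k) (Fin k) p = p' then 1 else 0 := by
  classical
  obtain ⟨B', hB', hval⟩ := CfsgLib.Geo.UnitFormDer.exists_perm_form h.invol (Pi.basisFun F (Fin k ⊕ Fin k))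
    (Equiv.sumComm (Fin k) (Fin k)) (by rintro (i | i) <;> rfl) (w := fun _ => (1 : F)) (fun _ => one_ne_zero)
    (fun _ => map_one σ)
  obtain ⟨e, he⟩ := IsHerm.exists_isometry_of_finrank_eq hB' (h.restrict_herm hW) (by rw [hk, finrank_pi]; simp)
  refine ⟨(Pi.basisFun F (Fin k ⊕ Fin k)).map e, fun p p' => ?_⟩
  rw [Basis.map_apply, Basis.map_apply, ← IsHerm.restrict_apply (B := B), he, hval]

/-- Complementary totally isotropic subspaces have the same dimension. -/
theorem pair_dim_le [Finite F] (h : IsHerm B) {L₀ L₁ : Submodule F (Fin n → F)} (hc : IsCompl L₀ L₁)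
    (h1 : ∀ x ∈ L₁, ∀ y ∈ L₁, B x y = 0) :
    finrank F L₁ ≤ finrank F L₀ := by
  haveI : Finite L₁ := Module.finite_of_finite F
  haveI : Finite (Module.Dual F L₀) := Module.finite_of_finite F
  have hinj : Function.Injective fun w : L₁ => (B (w : Fin n → F)).domRestrict L₀ := fun a b hab => by
    refine Subtype.ext (sub_eq_zero.1 (h.nondeg _ fun y => ?_))
    obtain ⟨u, hu, v, hv, rfl⟩ := Submodule.mem_sup.1 (hc.sup_eq_top.ge (Submodule.mem_top : y ∈ ⊤))
    rw [map_add, h1 _ (L₁.sub_mem a.2 b.2) v hv, add_zero, sub_left, sub_eq_zero]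
    exact LinearMap.congr_fun hab ⟨u, hu⟩
  have hle := Nat.card_le_card_of_injective _ hinj
  rw [Module.natCard_eq_pow_finrank (K := F) (V := L₁), Module.natCard_eq_pow_finrank (K := F)
    (V := Module.Dual F L₀), Subspace.dual_finrank_eq] at hle
  exact (Nat.pow_le_pow_iff_right Finite.one_lt_card).1 hle

/-- An isometry with square `w * w` and `w ^ n ≠ -1` has a hyperbolic eigenbasis. -/
theorem exists_eigen_hyp [Finite F] (h : IsHerm B) (h2 : (2 : F) ≠ 0) (hn : n = m + m)
    {T : (Fin n → F) →ₗ[F] (Fin n → F)} (hT : ∀ u v, B (T u) (T v) = B u v) (hdet : LinearMap.det T = 1) {w : F}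
    (hw : w ≠ 0) (hwn : σ w * w = 1 → w ^ n ≠ -1) (hTT : ∀ v, T (T v) = (w * w) • v) :
    ∃ (c : Basis (Fin m ⊕ Fin m) F (Fin n → F)) (ev : Fin m ⊕ Fin m → F),
      (∀ p p', B (c p) (c p') = if Equiv.sumComm (Fin m) (Fin m) p = p' then 1 else 0) ∧
      ∀ p, T (c p) = ev p • c p := by
  classical
  haveI := Fintype.ofFinite F
  set Ep := LinearMap.ker (T - w • (1 : (Fin n → F) →ₗ[F] (Fin n → F))) with hEp
  set Em := LinearMap.ker (T + w • (1 : (Fin n → F) →ₗ[F] (Fin n → F))) with hEm
  have hp : ∀ v ∈ Ep, T v = w • v := fun v hv => by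
    rwa [LinearMap.mem_ker, LinearMap.sub_apply, LinearMap.smul_apply, Module.End.one_apply, sub_eq_zero] at hv
  have hm' : ∀ v ∈ Em, T v = (-w) • v := fun v hv => by
    rw [LinearMap.mem_ker, LinearMap.add_apply, LinearMap.smul_apply, Module.End.one_apply] at hv
    rw [neg_smul]
    exact eq_neg_of_add_eq_zero_left hv
  have h2w : (2 * w) ≠ 0 := mul_ne_zero h2 hw
  have hcompl : IsCompl Ep Em := by
    refine ⟨Submodule.disjoint_def.2 fun v hv hv' => ?_, codisjoint_iff.2 (Submodule.eq_top_iff'.2 fun v => ?_)⟩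
    · have e := (hp v hv).symm.trans (hm' v hv')
      have e' : (2 * w) • v = 0 := by rw [two_mul, add_smul]; nth_rewrite 1 [e]; rw [← add_smul, neg_add_cancel, zero_smul]
      exact (smul_eq_zero.1 e').resolve_left h2w
    · refine Submodule.mem_sup.2 ⟨(2 * w)⁻¹ • (w • v + T v), ?_, (2 * w)⁻¹ • (w • v - T v), ?_, ?_⟩
      · rw [LinearMap.mem_ker, LinearMap.sub_apply, LinearMap.smul_apply, Module.End.one_apply, map_smul, map_add,
          map_smul, hTT]
        module
      · rw [LinearMap.mem_ker, LinearMap.add_apply, LinearMap.smul_apply, Module.End.one_apply, map_smul, map_sub,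
          map_smul, hTT]
        module
      · rw [← smul_add, add_add_sub_cancel, ← add_smul, ← two_mul, smul_smul, inv_mul_cancel₀ h2w, one_smul]
  have hdim := Submodule.finrank_add_eq_of_isCompl hcompl
  rw [Module.finrank_fin_fun] at hdim
  by_cases hN : σ w * w = 1
  swap
  · have hts : ∀ (E : Submodule F (Fin n → F)) (s : F), σ s * s = σ w * w → (∀ v ∈ E, T v = s • v) →
        ∀ x ∈ E, ∀ y ∈ E, B x y = 0 := fun E s hs hE x hx y hy => by
      have e := hT x y
      rw [hE x hx, hE y hy, smul_left, smul_right, ← mul_assoc, hs] at e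
      have e' : (σ w * w - 1) * B x y = 0 := by rw [sub_mul, one_mul, e, sub_self]
      exact (mul_eq_zero.1 e').resolve_left (sub_ne_zero.2 hN)
    have i0 := hts Ep w rfl hp
    have i1 := hts Em (-w) (by rw [map_neg, neg_mul_neg]) hm'
    have e1 := pair_dim_le h hcompl i1
    have e2 := pair_dim_le h hcompl.symm i0
    obtain ⟨c, hc0, hc1, hgram⟩ := exists_dual_basis h (m := m) (⟨hcompl, by omega, by omega, i0, i1⟩ :
      IsPair B m Ep Em)
    refine ⟨c, Sum.elim (fun _ => w) (fun _ => -w), hgram, ?_⟩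
    rintro (i | i)
    · exact hp _ (hc0 i)
    · exact hm' _ (hc1 i)
  · have horth : ∀ x ∈ Ep, ∀ y ∈ Em, B x y = 0 := fun x hx y hy => by
      have e := hT x y
      rw [hp x hx, hm' y hy, smul_left, smul_right] at e
      have e' : (2 : F) * B x y = 0 := by linear_combination (-1) * e - B x y * hN
      exact (mul_eq_zero.1 e').resolve_left h2
    have hnd : ∀ (E E' : Submodule F (Fin n → F)), IsCompl E E' → (∀ x ∈ E, ∀ y ∈ E', B x y = 0) →
        ∀ x ∈ E, (∀ y ∈ E, B x y = 0) → x = 0 := fun E E' hc hor x hx hx0 => h.nondeg x fun y => by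
      obtain ⟨u, hu, v, hv, rfl⟩ := Submodule.mem_sup.1 (hc.sup_eq_top.ge (Submodule.mem_top : y ∈ ⊤))
      rw [map_add, hx0 u hu, hor x hx v hv, add_zero]
    let bp := Module.finBasis F Ep
    let bm := Module.finBasis F Em
    let b := (bp.prod bm).map (Submodule.prodEquivOfIsCompl Ep Em hcompl)
    have hb : ∀ p, b p = Sum.elim (fun i => (bp i : Fin n → F)) (fun i => (bm i : Fin n → F)) p := fun p => by
      rcases p with i | i <;> simp [b]
    have hdetT := CfsgLib.Geo.InvClass.det_of_diag b T (Sum.elim (fun _ => w) (fun _ => -w)) (fun p => by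
      rw [hb]
      rcases p with i | i
      · exact hp _ (bp i).2
      · exact hm' _ (bm i).2)
    rw [hdet, Fintype.prod_sum_type] at hdetT
    simp only [Sum.elim_inl, Sum.elim_inr, Finset.prod_const, Finset.card_univ, Fintype.card_fin] at hdetT
    have heven : Even (finrank F Em) := by
      by_contra hodd
      rw [(Nat.not_even_iff_odd.1 hodd).neg_pow, mul_neg, ← pow_add, hdim] at hdetT
      exact hwn hN (by rw [hdetT, neg_neg])
    obtain ⟨l, hl⟩ := heven
    obtain ⟨k, hk⟩ : Even (finrank F Ep) := ⟨m - l, by omega⟩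
    obtain ⟨cp, hcp⟩ := exists_hyp h (hnd Ep Em hcompl horth) hk
    obtain ⟨cm, hcm⟩ := exists_hyp h
      (hnd Em Ep hcompl.symm fun x hx y hy => h.eq_zero_symm (horth y hy x hx)) hl
    let c₀ := (cp.prod cm).map (Submodule.prodEquivOfIsCompl Ep Em hcompl)
    have hc₀ : ∀ p, c₀ p = Sum.elim (fun i => (cp i : Fin n → F)) (fun i => (cm i : Fin n → F)) p := fun p => by
      rcases p with i | i <;> simp [c₀]
    let e : (Fin k ⊕ Fin k) ⊕ (Fin l ⊕ Fin l) ≃ Fin m ⊕ Fin m := (Equiv.sumSumSumComm _ _ _ _).trans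
      (Equiv.sumCongr (finSumFinEquiv.trans (finCongr (by omega))) (finSumFinEquiv.trans (finCongr (by omega))))
    refine ⟨c₀.reindex e, fun p => Sum.elim (fun _ => w) (fun _ => -w) (e.symm p), fun p p' => ?_, fun p => ?_⟩
    · obtain ⟨p, rfl⟩ := e.surjective p
      obtain ⟨p', rfl⟩ := e.surjective p'
      have hswap : Equiv.sumComm (Fin m) (Fin m) (e p) = e (Sum.map Sum.swap Sum.swap p) := by
        rcases p with (i | i) | (i | i) <;> rfl
      rw [Basis.reindex_apply, Basis.reindex_apply, Equiv.symm_apply_apply, Equiv.symm_apply_apply, hc₀, hc₀, hswap]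
      simp only [e.injective.eq_iff]
      rcases p with i | i <;> rcases p' with j | j <;>
        simp only [Sum.elim_inl, Sum.elim_inr, Sum.map_inl, Sum.map_inr, Sum.inl.injEq, Sum.inr.injEq, reduceCtorEq,
          if_false]
      · exact hcp i j
      · exact horth _ (cp i).2 _ (cm j).2
      · exact h.eq_zero_symm (horth _ (cp j).2 _ (cm i).2)
      · exact hcm i j
    · obtain ⟨p, rfl⟩ := e.surjective p
      simp only [Basis.reindex_apply, Equiv.symm_apply_apply, hc₀]
      rcases p with i | i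
      · exact hp _ (cp i).2
      · exact hm' _ (cm i).2

end Abstract

variable [Fintype F] {q : ℕ} (hF : Fintype.card F = q ^ 2)

include hF in
/-- An element with a hyperbolic eigenbasis is conjugate into the stabiliser. -/
theorem exists_conj_pair {k : ℕ} (hk : 0 < k) {D : Fin 2 → Submodule F (Fin n → F)}
    (hD : Cfsg.Geo.IsMDecomposition k D)
    (hts : ∀ i, Cfsg.Geo.IsTotallySingularFor (Cfsg.hermForm n F q) (D i)) {x : GL (Fin n) F}
    (c : Basis (Fin k ⊕ Fin k) F (Fin n → F))
    (hgram : ∀ p p', hermStd n hF (c p) (c p') = if Equiv.sumComm (Fin k) (Fin k) p = p' then 1 else 0)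
    (ev : Fin k ⊕ Fin k → F) (hev : ∀ p, toEnd x (c p) = ev p • c p) :
    ∃ g ∈ Cfsg.GU n F q ⊓ Cfsg.Geo.specialLinear (Fin n) F,
      g⁻¹ * x * g ∈ Cfsg.Geo.decompositionStabilizer D := by
  classical
  have h := hermStd_isHerm (n := n) hF
  have hσ := powHom_isInvol hF
  have hp := isPair_of_decomp hF hD hts
  obtain ⟨b, hb0, hb1, hgb⟩ := exists_dual_basis h hp
  let e₀ := b.equiv c (Equiv.refl _)
  have he₀ : e₀ ∈ HU (hermStd n hF) := fun u v => by
    show hermStd n hF (e₀ u) (e₀ v) = hermStd n hF u v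
    have := CfsgLib.Geo.UnitFormDer.sim_of_basis (B' := hermStd n hF) b e₀.toLinearMap (μ := 1) (fun p p' => by
      simp [e₀, hgram, hgb]) u v
    simpa using this
  have hN := h.det_norm_one ⟨e₀, he₀⟩
  set D₀ : F := ((HU.det (hermStd n hF) ⟨e₀, he₀⟩ : Fˣ) : F) with hD₀
  have hD₀0 : D₀ ≠ 0 := Units.ne_zero _
  obtain ⟨a, ha0, ha⟩ : ∃ a : F, a ≠ 0 ∧ a * (powHom hF a)⁻¹ = D₀⁻¹ := by
    have hδ : powHom hF D₀⁻¹ = D₀ := by rw [map_inv₀]; exact inv_eq_of_mul_eq_one_left hN
    by_cases h1 : (1 : F) + D₀⁻¹ = 0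
    · obtain ⟨θ, hθ, hσθ⟩ := hσ.exists_skew
      exact ⟨θ, hθ, by rw [hσθ, inv_neg, mul_neg, mul_inv_cancel₀ hθ]; exact (eq_neg_of_add_eq_zero_right h1).symm⟩
    · refine ⟨1 + D₀⁻¹, h1, ?_⟩
      rw [map_add, map_one, hδ, mul_inv_eq_iff_eq_mul₀ (fun h' => h1 ?_)]
      · field_simp
        ring
      · have e1 : D₀ * (1 + D₀⁻¹) = 0 := by rw [mul_add, mul_one, mul_inv_cancel₀ hD₀0, add_comm]; exact h'
        exact (mul_eq_zero.1 e1).resolve_left hD₀0
  have hσa : powHom hF a ≠ 0 := (IsInvol.apply_eq_zero_iff).not.2 ha0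
  let i₀ : Fin k := ⟨0, hk⟩
  let s : Fin k ⊕ Fin k → F :=
    Sum.elim (Function.update 1 i₀ a) (Function.update 1 i₀ (powHom hF a)⁻¹)
  have hs : ∀ p, powHom hF (s p) * s (Equiv.sumComm (Fin k) (Fin k) p) = 1 := by
    rintro (i | i) <;> simp only [s, Equiv.sumComm_apply, Sum.swap_inl, Sum.swap_inr, Sum.elim_inl, Sum.elim_inr] <;>
      rcases eq_or_ne i i₀ with rfl | hi
    · simp [hσa, ha0, mul_inv_cancel₀ hσa]
    · simp [Function.update_of_ne hi]
    · rw [Function.update_self, Function.update_self, map_inv₀, hσ.invol, inv_mul_cancel₀ ha0]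
    · simp [Function.update_of_ne hi]
  let G : (Fin n → F) →ₗ[F] (Fin n → F) := e₀.toLinearMap ∘ₗ b.constr F fun p => s p • b p
  have hG : ∀ p, G (b p) = s p • c p := fun p => by simp [G, e₀]
  have hdetG : LinearMap.det G = 1 := by
    rw [LinearMap.det_comp, CfsgLib.Geo.InvClass.det_of_diag b (b.constr F fun p => s p • b p) s
      (fun p => b.constr_basis F _ p), Fintype.prod_sum_type]
    simp only [s, Sum.elim_inl, Sum.elim_inr]
    rw [Finset.prod_update_of_mem (Finset.mem_univ _), Finset.prod_update_of_mem (Finset.mem_univ _)]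
    simp only [Pi.one_apply, Finset.prod_const_one, mul_one]
    rw [ha, ← LinearEquiv.coe_det]
    exact mul_inv_cancel₀ hD₀0
  let g : GL (Fin n) F := Matrix.GeneralLinearGroup.mkOfDetNeZero (LinearMap.toMatrix' G)
    (by rw [LinearMap.det_toMatrix', hdetG]; exact one_ne_zero)
  have hgG : toEnd g = G := Matrix.toLin'_toMatrix' G
  have hgU : g ∈ Cfsg.GU n F q := (mem_GU_iff hF).2 fun u v => by
    rw [hgG]
    have := CfsgLib.Geo.UnitFormDer.sim_of_basis (B' := hermStd n hF) b G (μ := 1) (fun p p' => by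
      rw [hG, hG, smul_left, smul_right, hgram, hgb]
      split_ifs with hpp
      · subst hpp; rw [mul_one, one_mul, hs]
      · ring) u v
    rwa [one_mul] at this
  have hyb : ∀ p, toEnd (g⁻¹ * x * g) (b p) = ev p • b p := fun p => by
    have hginj : ∀ a a', toEnd g a = toEnd g a' → a = a' := fun a a' e => by
      have := congrArg (toEnd g⁻¹) e
      rwa [(gg g a).2, (gg g a').2] at this
    refine hginj _ _ ?_
    rw [toEnd_conj, (gg g _).1, map_smul, hgG, hG, map_smul, hev, smul_comm]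
  have hcoord : ∀ a p, hermStd n hF (b p) a = b.repr a (Equiv.sumComm (Fin k) (Fin k) p) := fun a p => by
    conv_lhs => rw [← b.sum_repr a, map_sum]
    simp only [map_smul, hgb, smul_eq_mul, mul_ite, mul_one, mul_zero]
    rw [Finset.sum_ite_eq, if_pos (Finset.mem_univ _)]
  refine ⟨g, ⟨hgU, mem_SL_iff.2 (by rw [← det_toEnd, hgG, hdetG])⟩, 1, fun i => Submodule.eq_of_le_of_finrank_eq ?_ ?_⟩
  · rintro _ ⟨a, ha', rfl⟩
    show toEnd (g⁻¹ * x * g) a ∈ D i
    rw [← b.sum_repr a, map_sum]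
    refine Submodule.sum_mem _ fun p _ => ?_
    rw [map_smul, hyb]
    fin_cases i
    · rcases p with j | j
      · exact (D 0).smul_mem _ ((D 0).smul_mem _ (hb0 j))
      · have := hcoord a (Sum.inl j)
        rw [Equiv.sumComm_apply, Sum.swap_inl] at this
        rw [← this, hp.iso₀ _ (hb0 j) a ha', zero_smul]
        exact zero_mem _
    · rcases p with j | j
      · have := hcoord a (Sum.inr j)
        rw [Equiv.sumComm_apply, Sum.swap_inr] at this
        rw [← this, hp.iso₁ _ (hb1 j) a ha', zero_smul]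
        exact zero_mem _
      · exact (D 1).smul_mem _ ((D 1).smul_mem _ (hb1 j))
  · exact (Submodule.equivMapOfInjective _ (Matrix.mulVec_injective_of_isUnit (g⁻¹ * x * g).isUnit) _).finrank_eq.symm

end CfsgLib.Geo.UnitPairDer
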