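/-
Non-maximality of tensor stabilisers GU₂(2) ⊗ GU_n(2).
-/
import Cfsg.Agent.Lib.Geo.HermFour
import Cfsg.Agent.Lib.Geo.TensorForm

namespace CfsgLib.Geo

open Matrix Module

theorem unitary_tensor_not_maximal {F : Type*} [Field F] [Fintype F] {n n₂ : ℕ} (hq : Fintype.card F = 4)
    (hn₂ : 2 ≤ n₂) (e : Fin n ≃ Fin 2 × Fin n₂) (P : Matrix.GeneralLinearGroup (Fin n) F)
    (f₁ : (Fin 2 → F) → (Fin 2 → F) → F) (f₂ : (Fin n₂ → F) → (Fin n₂ → F) → F)
    (hf₁ : Cfsg.Geo.IsUnitaryFormPow 2 f₁) (hf₂ : Cfsg.Geo.IsUnitaryFormPow 2 f₂)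
    (hT : Cfsg.Geo.IsTensorFormStructure (fun x : F => x ^ 2) (Cfsg.hermForm n F 2) f₁ f₂ e P) :
    ∃ K : Subgroup (Matrix.GeneralLinearGroup (Fin n) F),
      Cfsg.Geo.tensorProductSubgroup 2 n₂ e P ⊓ (Cfsg.GU n F 2 ⊓ Cfsg.Geo.specialLinear (Fin n) F) < K ∧
        K < (Cfsg.GU n F 2 ⊓ Cfsg.Geo.specialLinear (Fin n) F) := by
  classical
  have hB : IsHermFour (Cfsg.hermForm n F 2) := isHermFour_hermForm hq
  have h1 : IsHermFour f₁ := ⟨hf₁.add_left, hf₁.smul_left, hf₁.herm, hB.two⟩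
  have h2 : IsHermFour f₂ := ⟨hf₂.add_left, hf₂.smul_left, hf₂.herm, hB.two⟩
  set B := Cfsg.hermForm n F 2 with hBdef
  obtain ⟨c, hc0, hT'⟩ := hT
  let L := pureTensor e P
  have hL0 : ∀ v v' w w', B (L v w) (L v' w') = c * (f₁ v v' * f₂ w w') := fun v v' w w' => by
    show B (pureTensor e P v w) (pureTensor e P v' w') = _
    rw [pureTensor_apply, pureTensor_apply, hT' (fun p => v p.1 * w p.2) (fun p => v' p.1 * w' p.2),
      formOfGram_kronecker _ (fun a b => mul_pow a b 2),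
      formOfGram_gram _ f₁ h1.add_left h1.smul_left h1.add_right h1.smul_right,
      formOfGram_gram _ f₂ h2.add_left h2.smul_left h2.add_right h2.smul_right]
  obtain ⟨v, -, hv⟩ := h1.exists_frame_two hq ⊤ (by rw [finrank_top, Module.finrank_fin_fun])
    (fun x _ hx => let ⟨y, hy⟩ := (hf₁.nondegenerate x hx).2; ⟨y, Submodule.mem_top, hy⟩)
  have hv1 : ∀ j, f₁ (v j) (v j) = 1 := fun j => by rw [hv, if_pos rfl]
  -- vectors in the second factor
  obtain ⟨w₁, hw₁⟩ : ∃ w, f₂ w w = 1 := by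
    obtain ⟨y, hy⟩ := (hf₂.nondegenerate (Pi.single ⟨0, by omega⟩ 1) (by simp)).2
    obtain ⟨w, -, hw⟩ := h2.exists_norm_one hq ⊤ Submodule.mem_top Submodule.mem_top hy
    exact ⟨w, hw⟩
  obtain ⟨z, hz0, hzw⟩ : ∃ z, z ≠ 0 ∧ f₂ z w₁ = 0 := by
    obtain ⟨y, hy⟩ : ∃ y, y ∉ Submodule.span F {w₁} := by
      by_contra! hall
      have h1' := Submodule.finrank_mono (show (⊤ : Submodule F (Fin n₂ → F)) ≤ Submodule.span F {w₁} from
        fun x _ => hall x)
      have h2' := finrank_span_le_card (R := F) ({w₁} : Set (Fin n₂ → F))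
      rw [finrank_top, Module.finrank_fin_fun] at h1'
      simp at h2'
      omega
    refine ⟨y + f₂ y w₁ • w₁, fun h0 => hy ?_, ?_⟩
    · rw [show y = (-f₂ y w₁) • w₁ by rw [neg_smul]; exact eq_neg_of_add_eq_zero_left h0]
      exact Submodule.smul_mem _ _ (Submodule.mem_span_singleton_self _)
    · rw [h2.add_left, h2.smul_left, hw₁]
      linear_combination (f₂ y w₁) * h2.two
  have hwz : f₂ w₁ z = 0 := by rw [h2.herm, hzw]; ring
  obtain ⟨w, hw0, hww⟩ : ∃ w, w ≠ 0 ∧ f₂ w w = 0 := by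
    rcases h2.self_eq z with h | h
    · exact ⟨z, hz0, h⟩
    · refine ⟨w₁ + z, fun h0 => ?_, ?_⟩
      · have := congrArg (fun x => f₂ x w₁) h0
        simp only [h2.add_left, h2.zero_left, hw₁, hzw, add_zero] at this
        exact one_ne_zero this
      · rw [h2.add_left, h2.add_right, h2.add_right, hw₁, h, hzw, hwz]
        linear_combination h2.two
  have hc1 : c = 1 := by
    have h := hB.self_eq (L (v 0) w₁)
    rw [hL0, hv1, hw₁, mul_one, mul_one] at h
    exact h.resolve_left hc0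
  have hL : ∀ v v' w w', B (L v w) (L v' w') = f₁ v v' * f₂ w w' := fun v v' w w' => by rw [hL0, hc1, one_mul]
  let D : Fin 2 → Submodule F (Fin n → F) := fun j => LinearMap.range (L (v j))
  have hrepr : ∀ x : Fin 2 → F, x = f₁ x (v 0) • v 0 + f₁ x (v 1) • v 1 := by
    let bv : Basis (Fin 2) F (Fin 2 → F) := basisOfLinearIndependentOfCardEqFinrank
      (h1.linearIndependent_of_orthonormal v (by intro p q; rw [hv]; congr 1))
      (by rw [Fintype.card_fin, Module.finrank_fin_fun])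
    intro x
    conv_lhs => rw [← bv.sum_repr x, Fin.sum_univ_two]
    rw [h1.repr_eq bv (by intro p q; simp only [bv, coe_basisOfLinearIndependentOfCardEqFinrank]; rw [hv]; congr 1),
      h1.repr_eq bv (by intro p q; simp only [bv, coe_basisOfLinearIndependentOfCardEqFinrank]; rw [hv]; congr 1)]
    simp [bv]
  have hle : ∀ g ∈ Cfsg.Geo.tensorProductSubgroup 2 n₂ e P ⊓ (Cfsg.GU n F 2 ⊓ Cfsg.Geo.specialLinear (Fin n) F),
      g ∈ Cfsg.Geo.decompositionStabilizer D := by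
    rintro g ⟨hg, hgU, -⟩
    obtain ⟨a, b, hab⟩ := tensor_mem_spec e P hg
    set A := fun x => (a : Matrix (Fin 2) (Fin 2) F) *ᵥ x with hA
    have hiso : ∀ x y, B ((g : Matrix (Fin n) (Fin n) F) *ᵥ x) ((g : Matrix (Fin n) (Fin n) F) *ᵥ y) = B x y := hgU
    have hmul : ∀ x y : Fin 2 → F, f₁ (A x) (A y) * f₂ ((b : Matrix _ _ F) *ᵥ w₁) ((b : Matrix _ _ F) *ᵥ w₁) = f₁ x y := by
      intro x y
      rw [← hL, ← hab, ← hab, hiso, hL, hw₁, mul_one]
    have hbw : f₂ ((b : Matrix _ _ F) *ᵥ w₁) ((b : Matrix _ _ F) *ᵥ w₁) = 1 := by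
      refine (h2.self_eq _).resolve_left fun h0 => ?_
      have := hmul (v 0) (v 0)
      rw [h0, mul_zero, hv1] at this
      exact zero_ne_one this
    have hAiso : ∀ x y, f₁ (A x) (A y) = f₁ x y := fun x y => by
      have := hmul x y
      rwa [hbw, mul_one] at this
    have hline : ∀ j, ∃ k, ∃ μ : F, μ ≠ 0 ∧ A (v j) = μ • v k := by
      intro j
      have hn : f₁ (A (v j)) (A (v j)) = 1 := by rw [hAiso, hv1]
      rw [hrepr (A (v j))] at hn
      rcases h1.coeff_of_norm_one hq (hv1 0) (hv1 1) (by rw [hv, if_neg (by simp)]) (by rw [hv, if_neg (by simp)]) hn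
        with ⟨h0, hne⟩ | ⟨hne, h0⟩
      · exact ⟨1, _, hne, by conv_lhs => rw [hrepr (A (v j)), h0, zero_smul, zero_add]⟩
      · exact ⟨0, _, hne, by conv_lhs => rw [hrepr (A (v j)), h0, zero_smul, add_zero]⟩
    choose π μ hμ hπ using hline
    have hinj : Function.Injective π := by
      intro p q hpq
      by_contra hne
      have := hAiso (v p) (v q)
      rw [hπ, hπ, hpq, h1.smul_left, h1.smul_right, hv, hv, if_pos rfl, if_neg hne, mul_one] at this
      exact mul_ne_zero (hμ p) (pow_ne_zero 2 (hμ q)) this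
    refine ⟨Equiv.ofBijective π (Finite.injective_iff_bijective.1 hinj), fun j => ?_⟩
    show (LinearMap.range (L (v j))).map _ = LinearMap.range (L (v (π j)))
    have key : ∀ x, (g : Matrix (Fin n) (Fin n) F) *ᵥ L (v j) x = L (v (π j)) (μ j • ((b : Matrix _ _ F) *ᵥ x)) :=
      fun x => by
        rw [hab, show (a : Matrix (Fin 2) (Fin 2) F) *ᵥ v j = μ j • v (π j) from hπ j, pureTensor_smul]
    refine le_antisymm ?_ ?_
    · rintro _ ⟨_, ⟨x, rfl⟩, rfl⟩
      exact ⟨_, (key x).symm.trans (Matrix.toLin'_apply _ _).symm⟩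
    · rintro _ ⟨y, rfl⟩
      refine ⟨_, ⟨((b⁻¹ : Matrix.GeneralLinearGroup (Fin n₂) F) : Matrix _ _ F) *ᵥ ((μ j)⁻¹ • y), rfl⟩, ?_⟩
      rw [Matrix.toLin'_apply, key, Matrix.mulVec_mulVec, ← Units.val_mul, mul_inv_cancel, Units.val_one,
        Matrix.one_mulVec, smul_smul, mul_inv_cancel₀ (hμ j), one_smul]
  have h01 : f₁ (v 0) (v 1) = 0 := by rw [hv, if_neg (by simp)]
  have h10 : f₁ (v 1) (v 0) = 0 := by rw [hv, if_neg (by simp)]
  have hv0 : ∀ j, ∃ i, v j i ≠ 0 := fun j => by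
    by_contra! hall
    have := hv1 j
    rw [funext hall, show (fun _ : Fin 2 => (0 : F)) = 0 from rfl, h1.zero_left] at this
    exact zero_ne_one this
  refine ⟨Cfsg.Geo.decompositionStabilizer D ⊓ (Cfsg.GU n F 2 ⊓ Cfsg.Geo.specialLinear (Fin n) F),
    lt_of_le_of_ne (le_inf hle inf_le_right) fun heq => ?_, lt_of_le_of_ne inf_le_right fun heq => ?_⟩
  · set u := L (v 0) w with hu
    have huu : B u u = 0 := by rw [hu, hL, hww, mul_zero]
    have happ : ∀ x, (hermTransvection hq u huu : Matrix (Fin n) (Fin n) F) *ᵥ x = x + B x u • u := fun x =>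
      hermTransvection_mulVec hq u huu x
    have hk1 : ∀ x, (hermTransvection hq u huu : Matrix (Fin n) (Fin n) F) *ᵥ L (v 1) x = L (v 1) x := fun x => by
      rw [happ, hu, hL, h10, zero_mul, zero_smul, add_zero]
    have hk0 : ∀ x, (hermTransvection hq u huu : Matrix (Fin n) (Fin n) F) *ᵥ L (v 0) x = L (v 0) (x + f₂ x w • w) :=
      fun x => by
        rw [happ, hu, hL, hv1, one_mul, map_add, map_smul]
    have hsq : ∀ x, (hermTransvection hq u huu : Matrix (Fin n) (Fin n) F) *ᵥ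
        ((hermTransvection hq u huu : Matrix (Fin n) (Fin n) F) *ᵥ x) = x := fun x => by
      rw [happ, happ, hB.add_left, hB.smul_left, huu, mul_zero, add_zero, add_assoc, ← two_smul F (B x u • u), hB.two,
        zero_smul, add_zero]
    have hstab : hermTransvection hq u huu ∈ Cfsg.Geo.decompositionStabilizer D := by
      refine ⟨1, fun j => ?_⟩
      have hsub : ∀ x, ∃ y, (hermTransvection hq u huu : Matrix (Fin n) (Fin n) F) *ᵥ L (v j) x = L (v j) y := by
        fin_cases j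
        · exact fun x => ⟨_, hk0 x⟩
        · exact fun x => ⟨_, hk1 x⟩
      refine le_antisymm ?_ ?_
      · rintro _ ⟨_, ⟨x, rfl⟩, rfl⟩
        obtain ⟨y, hy⟩ := hsub x
        exact ⟨y, hy.symm.trans (Matrix.toLin'_apply _ _).symm⟩
      · rintro _ ⟨x, rfl⟩
        obtain ⟨y, hy⟩ := hsub x
        refine ⟨L (v j) y, ⟨y, rfl⟩, ?_⟩
        rw [Matrix.toLin'_apply, ← hy, hsq]
        simp
    obtain ⟨a, b, hab⟩ := tensor_mem_spec e P (heq.ge ⟨hstab, hermTransvection_mem hq u huu⟩).1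
    obtain ⟨y, hy⟩ := (hf₂.nondegenerate w hw0).1
    obtain ⟨i, hi⟩ := hv0 1
    obtain ⟨i', hi'⟩ := hv0 0
    have e1 : ∀ x k, v 1 i * x k = ((a : Matrix _ _ F) *ᵥ v 1) i * ((b : Matrix _ _ F) *ᵥ x) k := fun x k =>
      pureTensor_eq e P ((hk1 x).symm.trans (hab _ _)) i k
    have e0 : ∀ x k, v 0 i' * (x + f₂ x w • w) k = ((a : Matrix _ _ F) *ᵥ v 0) i' * ((b : Matrix _ _ F) *ᵥ x) k :=
      fun x k => pureTensor_eq e P ((hk0 x).symm.trans (hab _ _)) i' k
    obtain ⟨k₀, hk₀⟩ : ∃ k, w k ≠ 0 := Function.ne_iff.1 hw0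
    have ha1 : ((a : Matrix _ _ F) *ᵥ v 1) i ≠ 0 := fun h0 => by
      have := e1 w k₀
      rw [h0, zero_mul] at this
      exact mul_ne_zero hi hk₀ this
    set ρ := ((a : Matrix _ _ F) *ᵥ v 0) i' / ((a : Matrix _ _ F) *ᵥ v 1) i * v 1 i / v 0 i' with hρ
    have hprop : y + f₂ y w • w = ρ • y := funext fun k => by
      refine mul_left_cancel₀ hi' ?_
      rw [Pi.smul_apply, smul_eq_mul, e0, hρ]
      field_simp
      linear_combination (-((a : Matrix _ _ F) *ᵥ v 0) i') * e1 y k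
    have h3 := congrArg (fun x => f₂ x w) hprop
    simp only [h2.add_left, h2.smul_left, hww, mul_zero, add_zero] at h3
    have hρ1 : ρ = 1 := mul_right_cancel₀ hy (h3.symm.trans (one_mul _).symm)
    rw [hρ1, one_smul, add_eq_left, smul_eq_zero] at hprop
    exact hprop.elim hy hw0
  · set u := L (v 0) w₁ + L (v 1) w₁ with hu
    have huu : B u u = 0 := by
      rw [hu, hB.add_left, hB.add_right, hB.add_right, hL, hL, hL, hL, hv1, hv1, h01, h10, hw₁]
      linear_combination hB.two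
    obtain ⟨σ, hσ⟩ := (heq.ge (hermTransvection_mem hq u huu)).1
    set x := w₁ + z with hx
    have hxw : f₂ x w₁ = 1 := by rw [hx, h2.add_left, hw₁, hzw, add_zero]
    have hmem : L (v 0) x + u ∈ D (σ 0) := by
      rw [← hσ 0]
      refine ⟨L (v 0) x, ⟨x, rfl⟩, ?_⟩
      rw [Matrix.toLin'_apply, hermTransvection_mulVec, ← hBdef]
      congr 1
      rw [hu, hB.add_right, hL, hL, hv1, h01, hxw, one_mul, zero_mul, add_zero, one_smul]
    obtain ⟨y, hy⟩ := hmem
    obtain ⟨y', hy'⟩ := (hf₂.nondegenerate z hz0).2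
    have e1 := congrArg (fun t => B t (L (v 1) w₁)) hy
    have e2 := congrArg (fun t => B t (L (v 0) y')) hy
    simp only [hu, hx, hB.add_left, hL, hv, h2.add_left, hw₁] at e1 e2
    by_cases hσ0 : σ 0 = 0
    · simp [hσ0] at e1
    · have hσ1 : σ 0 = 1 := by omega
      simp [hσ1] at e2
      apply hy'
      linear_combination -e2 - (f₂ w₁ y') * hB.two

end CfsgLib.Geo
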